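import Mathlib
import Cfsg.Agent.H43.Cent
import Cfsg.Agent.H55.EjB
import Cfsg.Agent.H17.EvJ2

set_option autoImplicit false
set_option maxRecDepth 200000
set_option linter.style.longLine false

namespace Cfsg.Agent.H55.EjJ2

open Cfsg.Agent.H43 Cfsg.Agent.H17
open scoped commutatorElement

theorem q_hn : NOk 100 := by decide

theorem q_hk : 100 ≤ 2 ^ 7 := by decide

noncomputable def q_g1 : Net := (Net.cons (nat_lit 1) (nat_lit 0x1004014005001515510054) (Net.cons (nat_lit 2) (nat_lit 0x332110332300130323110120) (Net.cons (nat_lit 4) (nat_lit 0x10e0a0d040c02050e0d0103) (Net.cons (nat_lit 8) (nat_lit 0x18002a002300c3008f0002) (Net.cons (nat_lit 16) (nat_lit 0x46b50000836700000000) (Net.cons (nat_lit 32) (nat_lit 0x408d2c70) (Net.cons (nat_lit 64) (nat_lit 0x340cdae70) (Net.cons (nat_lit 32) (nat_lit 0x516aae70) (Net.cons (nat_lit 16) (nat_lit 0x7d4c000086cf0000e21d) (Net.cons (nat_lit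 8) (nat_lit 0xcf008a006f00fc007e00f4) (Net.cons (nat_lit 4) (nat_lit 0xe000d060808070b070e0e07) (Net.cons (nat_lit 2) (nat_lit 0x120332310302310333232330) (Net.cons (nat_lit 1) (nat_lit 0x4050511541150554040045501) Net.nil)))))))))))))

theorem q_g1_ok : Net.ok 100 q_g1 = true := by decide +kernel

noncomputable def q_g2 : Net := (Net.cons (nat_lit 1) (nat_lit 0x4445150501145000540001414) (Net.cons (nat_lit 2) (nat_lit 0x102112310000012010303310) (Net.cons (nat_lit 4) (nat_lit 0x90c0d06060600070b0000) (Net.cons (nat_lit 8) (nat_lit 0xd20009002a002900060006) (Net.cons (nat_lit 16) (nat_lit 0xacf00000b00800000000) (Net.cons (nat_lit 32) (nat_lit 0x4000000000b3d4ee0) (Net.cons (nat_lit 64) (nat_lit 0xf9b7f6ee0) (Net.cons (nat_lit 32) (nat_lit 0x100000000921f6af0) (Net.cons (nat_lit 16) (nat_lit 0x57c000009fbc000004d2) (Net.cons (nat_lit 8) (nat_lit 0x1f00b60049005400000060) (Net.cons (nat_lit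 4) (nat_lit 0x9080202040f0f0c070d0b04) (Net.cons (nat_lit 2) (nat_lit 0x1321101013012330213020033) (Net.cons (nat_lit 1) (nat_lit 0x5014444014014505015554141) Net.nil)))))))))))))

theorem q_g2_ok : Net.ok 100 q_g2 = true := by decide +kernel

noncomputable def q_g3 : Net := (Net.cons (nat_lit 1) (nat_lit 0x5050155051010144500100000) (Net.cons (nat_lit 2) (nat_lit 0x2112012001332201000010200) (Net.cons (nat_lit 4) (nat_lit 0x1080e0f0a0f000901020401) (Net.cons (nat_lit 8) (nat_lit 0x2f00c9005a005300020001) (Net.cons (nat_lit 16) (nat_lit 0x70c000010a500000004) (Net.cons (nat_lit 32) (nat_lit 0x2708f2f0) (Net.cons (nat_lit 64) (nat_lit 0x2f5cf2f0) (Net.cons (nat_lit 32) (nat_lit 0xf00000000b9fef3a9) (Net.cons (nat_lit 16) (nat_lit 0x2d55000036d100000450) (Net.cons (nat_lit 8) (nat_lit 0x2700e600f6005700040027) (Net.cons (nat_lit 4) (nat_lit 0x8080c0d0807000b09000603) (Net.cons (nat_lit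 2) (nat_lit 0x1103030301030301103010200) (Net.cons (nat_lit 1) (nat_lit 0x1410154451410144500100000) Net.nil)))))))))))))

theorem q_g3_ok : Net.ok 100 q_g3 = true := by decide +kernel

noncomputable def q_g4 : Net := (Net.cons (nat_lit 1) (nat_lit 0x4500115054000045105100000) (Net.cons (nat_lit 2) (nat_lit 0x1100022020332000210112100) (Net.cons (nat_lit 4) (nat_lit 0x708040e01080d0d09000a01) (Net.cons (nat_lit 8) (nat_lit 0x39001c008d009e00410000) (Net.cons (nat_lit 16) (nat_lit 0x623e0000921f00000000) (Net.cons (nat_lit 32) (nat_lit 0x81f1920) (Net.cons (nat_lit 64) (nat_lit 0x16a3f1971) (Net.cons (nat_lit 32) (nat_lit 0xe00000000988f1f3c) (Net.cons (nat_lit 16) (nat_lit 0xeeae00001a8f00000110) (Net.cons (nat_lit 8) (nat_lit 0xb9009c006d005e00c100a0) (Net.cons (nat_lit 4) (nat_lit 0x708060e01080d0d0f000a01) (Net.cons (nat_lit 2) (nat_lit 0x1100022020332000210112320) (Net.cons (nat_lit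 1) (nat_lit 0x4500115054100045105100004) Net.nil)))))))))))))

theorem q_g4_ok : Net.ok 100 q_g4 = true := by decide +kernel

noncomputable def U : List Net := [q_g1, q_g2, q_g3, EvJ2.p_g194, q_g4, EvJ2.p_g189, EvJ2.p_g18]

theorem U_ok : okE 100 U = true := (okE_cons.2 ⟨q_g1_ok, (okE_cons.2 ⟨q_g2_ok, (okE_cons.2 ⟨q_g3_ok, (okE_cons.2 ⟨EvJ2.p_g194_ok, (okE_cons.2 ⟨q_g4_ok, (okE_cons.2 ⟨EvJ2.p_g189_ok, (okE_cons.2 ⟨EvJ2.p_g18_ok, (okE_nil 100)⟩)⟩)⟩)⟩)⟩)⟩)⟩)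

noncomputable def q_g5 : Net := (Net.cons (nat_lit 1) (nat_lit 0x4400514454511540504405000) (Net.cons (nat_lit 2) (nat_lit 0x2120001200321312021321300) (Net.cons (nat_lit 4) (nat_lit 0x40500070705060d060d060a) (Net.cons (nat_lit 8) (nat_lit 0xc20021006d009c00c00005) (Net.cons (nat_lit 16) (nat_lit 0x11890000612c00000004) (Net.cons (nat_lit 32) (nat_lit 0x400e8500) (Net.cons (nat_lit 64) (nat_lit 0x7f70fc594) (Net.cons (nat_lit 32) (nat_lit 0x800000000efe6d080) (Net.cons (nat_lit 16) (nat_lit 0x22c00000f4da00005dd7) (Net.cons (nat_lit 8) (nat_lit 0x8a000b005300f300fc000e) (Net.cons (nat_lit 4) (nat_lit 0x8080c0f0808000e0f000d02) (Net.cons (nat_lit 2) (nat_lit 0x1113300021322230031031210) (Net.cons (nat_lit 1) (nat_lit 0x5040504155150541100515040) Net.nil)))))))))))))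

theorem q_g5_ok : Net.ok 100 q_g5 = true := by decide +kernel

noncomputable def q_V6 : List Net := [q_g5, EvJ2.p_g190]

theorem q_V6_ok : okE 100 q_V6 = true := (okE_cons.2 ⟨q_g5_ok, (okE_cons.2 ⟨EvJ2.p_g190_ok, (okE_nil 100)⟩)⟩)

noncomputable def q_g8 : Net := (Net.cons (nat_lit 1) (nat_lit 0x14454405115040000144100) (Net.cons (nat_lit 2) (nat_lit 0x3120332333210000130121000) (Net.cons (nat_lit 4) (nat_lit 0xd01010e000f060406050200) (Net.cons (nat_lit 8) (nat_lit 0x5900250093002d003a0000) (Net.cons (nat_lit 16) (nat_lit 0x7b4f000081400000000a) (Net.cons (nat_lit 32) (nat_lit 0x1e2d64a0) (Net.cons (nat_lit 64) (nat_lit 0x1bf3d64ea) (Net.cons (nat_lit 32) (nat_lit 0xf0000000093b564e8) (Net.cons (nat_lit 16) (nat_lit 0x5863000095d40000f046) (Net.cons (nat_lit 8) (nat_lit 0x1d00b600f8004000cb00e9) (Net.cons (nat_lit 4) (nat_lit 0x407050400080a02060d0a09) (Net.cons (nat_lit 2) (nat_lit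 0x3220332300221132301021231) (Net.cons (nat_lit 1) (nat_lit 0x1444045015154450110050040) Net.nil)))))))))))))

theorem q_g8_ok : Net.ok 100 q_g8 = true := by decide +kernel

noncomputable def q_g9 : Net := (Net.cons (nat_lit 1) (nat_lit 0x4501050544455050510515140) (Net.cons (nat_lit 2) (nat_lit 0x1000112101121221033131000) (Net.cons (nat_lit 4) (nat_lit 0xc07050e090d080806010900) (Net.cons (nat_lit 8) (nat_lit 0x9a007d000000c600120000) (Net.cons (nat_lit 16) (nat_lit 0xd5db0000e50b00000009) (Net.cons (nat_lit 32) (nat_lit 0x50000000041491e20) (Net.cons (nat_lit 64) (nat_lit 0xee55f1ea1) (Net.cons (nat_lit 32) (nat_lit 0x700000000a1571fa1) (Net.cons (nat_lit 16) (nat_lit 0x1f8b0000a0c3000082d1) (Net.cons (nat_lit 8) (nat_lit 0x5a007d009100cb00bd0021) (Net.cons (nat_lit 4) (nat_lit 0x90101060c080303050f000d) (Net.cons (nat_lit 2) (nat_lit 0x2203300001122312301311211) (Net.cons (nat_lit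 1) (nat_lit 0x405051545051451540001004) Net.nil)))))))))))))

theorem q_g9_ok : Net.ok 100 q_g9 = true := by decide +kernel

noncomputable def q_V10 : List Net := [q_g8, q_g9]

theorem q_V10_ok : okE 100 q_V10 = true := (okE_cons.2 ⟨q_g8_ok, (okE_cons.2 ⟨q_g9_ok, (okE_nil 100)⟩)⟩)

noncomputable def q_g12 : Net := (Net.cons (nat_lit 1) (nat_lit 0x4100010400000000504001100) (Net.cons (nat_lit 2) (nat_lit 0x3333300330030001100210) (Net.cons (nat_lit 4) (nat_lit 0xa00080409000e0f09020000) (Net.cons (nat_lit 8) (nat_lit 0x1e00ff0028000c000c0009) (Net.cons (nat_lit 16) (nat_lit 0x10040000200000000000) (Net.cons (nat_lit 32) (nat_lit 0x30000000061e8df00) (Net.cons (nat_lit 64) (nat_lit 0x361e8df00) (Net.cons (nat_lit 32) (nat_lit 0xc0000000000e0df00) (Net.cons (nat_lit 16) (nat_lit 0xf21900007b0c00008875) (Net.cons (nat_lit 8) (nat_lit 0x1f006200dc00a4009c00c9) (Net.cons (nat_lit 4) (nat_lit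 0x90d0e040c070e0809020208) (Net.cons (nat_lit 2) (nat_lit 0x1301120311111111030020220) (Net.cons (nat_lit 1) (nat_lit 0x5014405411441144410005144) Net.nil)))))))))))))

theorem q_g12_ok : Net.ok 100 q_g12 = true := by decide +kernel

noncomputable def q_V13 : List Net := [q_g12, EvJ2.p_g191]

theorem q_V13_ok : okE 100 q_V13 = true := (okE_cons.2 ⟨q_g12_ok, (okE_cons.2 ⟨EvJ2.p_g191_ok, (okE_nil 100)⟩)⟩)

noncomputable def q_V15 : List Net := [EvJ2.p_g191, EvJ2.p_g191]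

theorem q_V15_ok : okE 100 q_V15 = true := (okE_cons.2 ⟨EvJ2.p_g191_ok, (okE_cons.2 ⟨EvJ2.p_g191_ok, (okE_nil 100)⟩)⟩)

noncomputable def Ulb_E : List Net := [q_g1, q_g2, q_g3, EvJ2.p_g194, q_g4, EvJ2.p_g189, EvJ2.p_g18, q_g5, EvJ2.p_g190, q_g8, q_g9, q_g12, EvJ2.p_g191, EvJ2.p_g191, EvJ2.p_g191]

theorem Ulb_E_ok : okE 100 Ulb_E = true := (okE_cons.2 ⟨q_g1_ok, (okE_cons.2 ⟨q_g2_ok, (okE_cons.2 ⟨q_g3_ok, (okE_cons.2 ⟨EvJ2.p_g194_ok, (okE_cons.2 ⟨q_g4_ok, (okE_cons.2 ⟨EvJ2.p_g189_ok, (okE_cons.2 ⟨EvJ2.p_g18_ok, (okE_cons.2 ⟨q_g5_ok, (okE_cons.2 ⟨EvJ2.p_g190_ok, (okE_cons.2 ⟨q_g8_ok, (okE_cons.2 ⟨q_g9_ok, (okE_cons.2 ⟨q_g12_ok, (okE_cons.2 ⟨EvJ2.p_g191_ok, (okE_cons.2 ⟨EvJ2.p_g191_ok, (okE_cons.2 ⟨EvJ2.p_g191_ok, (okE_nil 100)⟩)⟩)⟩)⟩)⟩)⟩)⟩)⟩)⟩)⟩)⟩)⟩)⟩)⟩)⟩)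

noncomputable def CU : List Net := [EvJ2.p_g18]

theorem CU_ok : okE 100 CU = true := (okE_cons.2 ⟨EvJ2.p_g18_ok, (okE_nil 100)⟩)

noncomputable def q_V19 : List Net := [EvJ2.p_g1, EvJ2.p_g2, EvJ2.p_g5, EvJ2.p_g6, H47.J2P.h_g45, H47.J2P.h_a0, H47.J2P.h_a0, EvJ2.p_g11, H47.J2P.h_a0, H47.J2P.h_g53, H47.J2P.h_a0, H47.J2P.h_a0]

theorem q_V19_ok : okE 100 q_V19 = true := (okE_cons.2 ⟨EvJ2.p_g1_ok, (okE_cons.2 ⟨EvJ2.p_g2_ok, (okE_cons.2 ⟨EvJ2.p_g5_ok, (okE_cons.2 ⟨EvJ2.p_g6_ok, (okE_cons.2 ⟨H47.J2P.h_g45_ok, (okE_cons.2 ⟨H47.J2P.h_a0_ok, (okE_cons.2 ⟨H47.J2P.h_a0_ok, (okE_cons.2 ⟨EvJ2.p_g11_ok, (okE_cons.2 ⟨H47.J2P.h_a0_ok, (okE_cons.2 ⟨H47.J2P.h_g53_ok, (okE_cons.2 ⟨H47.J2P.h_a0_ok, (okE_cons.2 ⟨H47.J2P.h_a0_ok, (okE_nil 100)⟩)⟩)⟩)⟩)⟩)⟩)⟩)⟩)⟩)⟩)⟩)⟩)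

noncomputable def q_g20 : Net := (Net.cons (nat_lit 1) (nat_lit 0x4511044051540451000154010) (Net.cons (nat_lit 2) (nat_lit 0x310012200102323232103020) (Net.cons (nat_lit 4) (nat_lit 0x70d0c070a07070d020f0005) (Net.cons (nat_lit 8) (nat_lit 0x8c003800d4005600940000) (Net.cons (nat_lit 16) (nat_lit 0x351a00003c8000000004) (Net.cons (nat_lit 32) (nat_lit 0x62200910) (Net.cons (nat_lit 64) (nat_lit 0xb6f66fb10) (Net.cons (nat_lit 32) (nat_lit 0xd000000004a0037da) (Net.cons (nat_lit 16) (nat_lit 0xb425000076e70000d245) (Net.cons (nat_lit 8) (nat_lit 0xae00a000cf00ce00580000) (Net.cons (nat_lit 4) (nat_lit 0x307070002070f0a0a0a0701) (Net.cons (nat_lit 2) (nat_lit 0x2023212003002201223200330) (Net.cons (nat_lit 1) (nat_lit 0x4100445105551544154551150) Net.nil)))))))))))))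

theorem q_g20_ok : Net.ok 100 q_g20 = true := by decide +kernel

noncomputable def q_g21 : Net := (Net.cons (nat_lit 1) (nat_lit 0x1511440545040114550154414) (Net.cons (nat_lit 2) (nat_lit 0x2020213032200033222203000) (Net.cons (nat_lit 4) (nat_lit 0xd0d040d0d060b0b000c08) (Net.cons (nat_lit 8) (nat_lit 0x300de00e0008e005f0000) (Net.cons (nat_lit 16) (nat_lit 0x243000000d6700000001) (Net.cons (nat_lit 32) (nat_lit 0x1000000001cd03200) (Net.cons (nat_lit 64) (nat_lit 0x59ef43b10) (Net.cons (nat_lit 32) (nat_lit 0xa0000000084125d21) (Net.cons (nat_lit 16) (nat_lit 0x39d2000049e600007f41) (Net.cons (nat_lit 8) (nat_lit 0x2300cd0053001c00250096) (Net.cons (nat_lit 4) (nat_lit 0xa070c0f0f0f040f05080b0e) (Net.cons (nat_lit 2) (nat_lit 0x221131111200330310011210) (Net.cons (nat_lit 1) (nat_lit 0x405105500140454115141100) Net.nil)))))))))))))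

theorem q_g21_ok : Net.ok 100 q_g21 = true := by decide +kernel

noncomputable def q_g22 : Net := (Net.cons (nat_lit 1) (nat_lit 0x4411541011400555104004140) (Net.cons (nat_lit 2) (nat_lit 0x3002101231020113030000) (Net.cons (nat_lit 4) (nat_lit 0xe030002080f030a0a090102) (Net.cons (nat_lit 8) (nat_lit 0xc6003b0004002700800007) (Net.cons (nat_lit 16) (nat_lit 0x34c80000443900000006) (Net.cons (nat_lit 32) (nat_lit 0x5000000007ba80110) (Net.cons (nat_lit 64) (nat_lit 0x7bfa4df5) (Net.cons (nat_lit 32) (nat_lit 0xf000000003d6f4388) (Net.cons (nat_lit 16) (nat_lit 0xd709000043f90000a286) (Net.cons (nat_lit 8) (nat_lit 0x84006b0016007700c80045) (Net.cons (nat_lit 4) (nat_lit 0xc0300000a0b030e0f090102) (Net.cons (nat_lit 2) (nat_lit 0x3012100231220113030010) (Net.cons (nat_lit 1) (nat_lit 0x4411541011400555104004140) Net.nil)))))))))))))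

theorem q_g22_ok : Net.ok 100 q_g22 = true := by decide +kernel

noncomputable def q_g23 : Net := (Net.cons (nat_lit 1) (nat_lit 0x5154110555004541540005100) (Net.cons (nat_lit 2) (nat_lit 0x3110013221010013120022010) (Net.cons (nat_lit 4) (nat_lit 0x5040d0800060407040e0000) (Net.cons (nat_lit 8) (nat_lit 0xaa003e005100d4000e0000) (Net.cons (nat_lit 16) (nat_lit 0x270000020d900000009) (Net.cons (nat_lit 32) (nat_lit 900144) (Net.cons (nat_lit 64) (nat_lit 0x1fe4ffe35) (Net.cons (nat_lit 32) (nat_lit 0x800000000a1b9177e) (Net.cons (nat_lit 16) (nat_lit 0xeb740000c0dd0000e80d) (Net.cons (nat_lit 8) (nat_lit 0xaa007e005100d4004e0010) (Net.cons (nat_lit 4) (nat_lit 0x5040d0800060407040e0000) (Net.cons (nat_lit 2) (nat_lit 0x3110213221010033120022210) (Net.cons (nat_lit 1) (nat_lit 0x5154110555004541540005100) Net.nil)))))))))))))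

theorem q_g23_ok : Net.ok 100 q_g23 = true := by decide +kernel

noncomputable def q_V24 : List Net := [q_g20, q_g21, q_g22, H47.J2P.h_g17, q_g23, H47.J2P.h_g131]

theorem q_V24_ok : okE 100 q_V24 = true := (okE_cons.2 ⟨q_g20_ok, (okE_cons.2 ⟨q_g21_ok, (okE_cons.2 ⟨q_g22_ok, (okE_cons.2 ⟨H47.J2P.h_g17_ok, (okE_cons.2 ⟨q_g23_ok, (okE_cons.2 ⟨H47.J2P.h_g131_ok, (okE_nil 100)⟩)⟩)⟩)⟩)⟩)⟩)

noncomputable def q_V26 : List Net := [q_g21, q_g22, H47.J2P.h_g17, q_g23, H47.J2P.h_g131]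

theorem q_V26_ok : okE 100 q_V26 = true := (okE_cons.2 ⟨q_g21_ok, (okE_cons.2 ⟨q_g22_ok, (okE_cons.2 ⟨H47.J2P.h_g17_ok, (okE_cons.2 ⟨q_g23_ok, (okE_cons.2 ⟨H47.J2P.h_g131_ok, (okE_nil 100)⟩)⟩)⟩)⟩)⟩)

noncomputable def q_V27 : List Net := [q_g23, H47.J2P.h_g131]

theorem q_V27_ok : okE 100 q_V27 = true := (okE_cons.2 ⟨q_g23_ok, (okE_cons.2 ⟨H47.J2P.h_g131_ok, (okE_nil 100)⟩)⟩)

noncomputable def q_V28 : List Net := []

theorem q_V28_ok : okE 100 q_V28 = true := (okE_nil 100)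

noncomputable def CU_cnt_EG : List Net := [MpJ2.a, H47.J2P.h_g1, H47.J2P.h_a19, H47.J2P.h_a27, H47.J2P.h_g7, H47.J2P.h_a0, H47.J2P.h_g4, H47.J2P.h_a8, H47.J2P.h_g14, H47.J2P.h_g10, H47.J2P.h_g11, H47.J2P.h_g21, H47.J2P.h_g22, H47.J2P.h_g17, H47.J2P.h_g18, EvJ2.p_g1, EvJ2.p_g2, EvJ2.p_g5, EvJ2.p_g6, H47.J2P.h_g45, EvJ2.p_g11, H47.J2P.h_g53, q_g21, q_g22, q_g23, H47.J2P.h_g131, q_g20]

theorem CU_cnt_EG_ok : okE 100 CU_cnt_EG = true := (okE_cons.2 ⟨MpJ2.a_ok, (okE_cons.2 ⟨H47.J2P.h_g1_ok, (okE_cons.2 ⟨H47.J2P.h_a19_ok, (okE_cons.2 ⟨H47.J2P.h_a27_ok, (okE_cons.2 ⟨H47.J2P.h_g7_ok, (okE_cons.2 ⟨H47.J2P.h_a0_ok, (okE_cons.2 ⟨H47.J2P.h_g4_ok, (okE_cons.2 ⟨H47.J2P.h_a8_ok, (okE_cons.2 ⟨H47.J2P.h_g14_ok, (okE_cons.2 ⟨H47.J2P.h_g10_ok, (okE_cons.2 ⟨H47.J2P.h_g11_ok, (okE_cons.2 ⟨H47.J2P.h_g21_ok, (okE_cons.2 ⟨H47.J2P.h_g22_ok, (okE_cons.2 ⟨H47.J2P.h_g17_ok, (okE_cons.2 ⟨H47.J2P.h_g18_ok, (okE_cons.2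 ⟨EvJ2.p_g1_ok, (okE_cons.2 ⟨EvJ2.p_g2_ok, (okE_cons.2 ⟨EvJ2.p_g5_ok, (okE_cons.2 ⟨EvJ2.p_g6_ok, (okE_cons.2 ⟨H47.J2P.h_g45_ok, (okE_cons.2 ⟨EvJ2.p_g11_ok, (okE_cons.2 ⟨H47.J2P.h_g53_ok, (okE_cons.2 ⟨q_g21_ok, (okE_cons.2 ⟨q_g22_ok, (okE_cons.2 ⟨q_g23_ok, (okE_cons.2 ⟨H47.J2P.h_g131_ok, (okE_cons.2 ⟨q_g20_ok, (okE_nil 100)⟩)⟩)⟩)⟩)⟩)⟩)⟩)⟩)⟩)⟩)⟩)⟩)⟩)⟩)⟩)⟩)⟩)⟩)⟩)⟩)⟩)⟩)⟩)⟩)⟩)⟩)⟩)

noncomputable def EZ : List Net := [EvJ2.p_g18]

theorem EZ_ok : okE 100 EZ = true := (okE_cons.2 ⟨EvJ2.p_g18_ok, (okE_nil 100)⟩)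

noncomputable def q_g29 : Net := (Net.cons (nat_lit 1) (nat_lit 0x440555410401404501410404) (Net.cons (nat_lit 2) (nat_lit 0x3022322112211031022120300) (Net.cons (nat_lit 4) (nat_lit 0x10a0e080906090d02020803) (Net.cons (nat_lit 8) (nat_lit 0xf00d600460034001a0000) (Net.cons (nat_lit 16) (nat_lit 0x100f0000700e0000000b) (Net.cons (nat_lit 32) (nat_lit 0xc0000000001227580) (Net.cons (nat_lit 64) (nat_lit 0xe63ba75d3) (Net.cons (nat_lit 32) (nat_lit 0x100000000f6727985) (Net.cons (nat_lit 16) (nat_lit 0x55550000f713000009ee) (Net.cons (nat_lit 8) (nat_lit 0xcb007b0084001200010087) (Net.cons (nat_lit 4) (nat_lit 0x8030508030b030d0a0005) (Net.cons (nat_lit 2) (nat_lit 0x3233032033132233010330210) (Net.cons (nat_lit 1) (nat_lit 0x1150054411511504015150000) Net.nil)))))))))))))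

theorem q_g29_ok : Net.ok 100 q_g29 = true := by decide +kernel

noncomputable def q_g30 : Net := (Net.cons (nat_lit 1) (nat_lit 0x4111510401100405154445000) (Net.cons (nat_lit 2) (nat_lit 0x3300120202220221333030020) (Net.cons (nat_lit 4) (nat_lit 0xc040803070b08040a0100) (Net.cons (nat_lit 8) (nat_lit 0x7c00ad00a4008100610000) (Net.cons (nat_lit 16) (nat_lit 0x20c20000c04400000009) (Net.cons (nat_lit 32) (nat_lit 0xd0000000080645000) (Net.cons (nat_lit 64) (nat_lit 0x4e6ef5839) (Net.cons (nat_lit 32) (nat_lit 0x90000000012e54acc) (Net.cons (nat_lit 16) (nat_lit 0x5aeb000056670000c485) (Net.cons (nat_lit 8) (nat_lit 0x5400a700b6009000c30007) (Net.cons (nat_lit 4) (nat_lit 0x406050603090b0a060e000f) (Net.cons (nat_lit 2) (nat_lit 0x3123023202202023100011013) (Net.cons (nat_lit 1) (nat_lit 0x5510405505555415501055055) Net.nil)))))))))))))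

theorem q_g30_ok : Net.ok 100 q_g30 = true := by decide +kernel

noncomputable def q_g31 : Net := (Net.cons (nat_lit 1) (nat_lit 0x1100151500511440450145404) (Net.cons (nat_lit 2) (nat_lit 0x3320101110013133130100030) (Net.cons (nat_lit 4) (nat_lit 0x4000a0003060a00010c0701) (Net.cons (nat_lit 8) (nat_lit 0x5c0042000a0055004b000d) (Net.cons (nat_lit 16) (nat_lit 0x410b0000180c00000009) (Net.cons (nat_lit 32) (nat_lit 0xc2868000) (Net.cons (nat_lit 64) (nat_lit 0xdf2e68109) (Net.cons (nat_lit 32) (nat_lit 0xb00000000f8c68404) (Net.cons (nat_lit 16) (nat_lit 0xc10b0000ac6800005d2d) (Net.cons (nat_lit 8) (nat_lit 0x3f00a200220031005e008a) (Net.cons (nat_lit 4) (nat_lit 0xc080309030a0503050e0805) (Net.cons (nat_lit 2) (nat_lit 0x313113300033213011321130) (Net.cons (nat_lit 1) (nat_lit 0x1044555405410010500015440) Net.nil)))))))))))))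

theorem q_g31_ok : Net.ok 100 q_g31 = true := by decide +kernel

noncomputable def q_g32 : Net := (Net.cons (nat_lit 1) (nat_lit 0x1101510540444500041401144) (Net.cons (nat_lit 2) (nat_lit 0x3011020200001231021003000) (Net.cons (nat_lit 4) (nat_lit 0x4040b0104090e0b0d040b0e) (Net.cons (nat_lit 8) (nat_lit 0xc300100018000000120004) (Net.cons (nat_lit 16) (nat_lit 0xedc50000028600000008) (Net.cons (nat_lit 32) (nat_lit 0xa2100180) (Net.cons (nat_lit 64) (nat_lit 0xfa2106dd1) (Net.cons (nat_lit 32) (nat_lit 0x400000000a02c5931) (Net.cons (nat_lit 16) (nat_lit 0xedd500001add00000a38) (Net.cons (nat_lit 8) (nat_lit 0xf40066005a0022002c00c6) (Net.cons (nat_lit 4) (nat_lit 0xd010b07040f0c090b0e0f08) (Net.cons (nat_lit 2) (nat_lit 0x230133322003022100321302) (Net.cons (nat_lit 1) (nat_lit 0x1111554105051401551040550) Net.nil)))))))))))))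

theorem q_g32_ok : Net.ok 100 q_g32 = true := by decide +kernel

noncomputable def EX : List Net := [q_g30, q_g31, q_g32]

theorem EX_ok : okE 100 EX = true := (okE_cons.2 ⟨q_g30_ok, (okE_cons.2 ⟨q_g31_ok, (okE_cons.2 ⟨q_g32_ok, (okE_nil 100)⟩)⟩)⟩)

noncomputable def q_g33 : Net := (Net.cons (nat_lit 1) (nat_lit 0x440044550554140140545040) (Net.cons (nat_lit 2) (nat_lit 0x3202123210120332112100300) (Net.cons (nat_lit 4) (nat_lit 0xf030905020e030e04090801) (Net.cons (nat_lit 8) (nat_lit 0x61007300b1005900140000) (Net.cons (nat_lit 16) (nat_lit 0x46880000866000000002) (Net.cons (nat_lit 32) (nat_lit 0xa1002700) (Net.cons (nat_lit 64) (nat_lit 0x2e18d677a) (Net.cons (nat_lit 32) (nat_lit 0x500000000c1f8a113) (Net.cons (nat_lit 16) (nat_lit 0x37500003e750000255f) (Net.cons (nat_lit 8) (nat_lit 0x8600c000f6002800b20061) (Net.cons (nat_lit 4) (nat_lit 0x50a0f050200030c0d0b0e01) (Net.cons (nat_lit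 2) (nat_lit 0x3202100002013211211012100) (Net.cons (nat_lit 1) (nat_lit 0x501050500144004404151144) Net.nil)))))))))))))

theorem q_g33_ok : Net.ok 100 q_g33 = true := by decide +kernel

noncomputable def q_g34 : Net := (Net.cons (nat_lit 1) (nat_lit 0x5400105000111001051010004) (Net.cons (nat_lit 2) (nat_lit 0x3121100310030012302112010) (Net.cons (nat_lit 4) (nat_lit 0x4050c0f0e0508000f080908) (Net.cons (nat_lit 8) (nat_lit 0x700a9005e00f200230000) (Net.cons (nat_lit 16) (nat_lit 0xf4d00000b1d10000000e) (Net.cons (nat_lit 32) (nat_lit 0x87100800) (Net.cons (nat_lit 64) (nat_lit 0x1f7140eeb) (Net.cons (nat_lit 32) (nat_lit 0xe00000000c278bcb5) (Net.cons (nat_lit 16) (nat_lit 0xf2c000035f70000a69e) (Net.cons (nat_lit 8) (nat_lit 0xd3007400800076006900e5) (Net.cons (nat_lit 4) (nat_lit 0x3040f0d0605060d04060809) (Net.cons (nat_lit 2) (nat_lit 0x213103212221222021003231) (Net.cons (nat_lit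 1) (nat_lit 0x5044440411014445415544054) Net.nil)))))))))))))

theorem q_g34_ok : Net.ok 100 q_g34 = true := by decide +kernel

noncomputable def q_V35 : List Net := [q_g33, q_g34]

theorem q_V35_ok : okE 100 q_V35 = true := (okE_cons.2 ⟨q_g33_ok, (okE_cons.2 ⟨q_g34_ok, (okE_nil 100)⟩)⟩)

noncomputable def q_g37 : Net := (Net.cons (nat_lit 1) (nat_lit 0x4400044444450001101140) (Net.cons (nat_lit 2) (nat_lit 0x1013311000330030302120200) (Net.cons (nat_lit 4) (nat_lit 0xf05090b0d020c04050a0c04) (Net.cons (nat_lit 8) (nat_lit 0x5f002a0081002900450000) (Net.cons (nat_lit 16) (nat_lit 0x28260000a00f00000000) (Net.cons (nat_lit 32) (nat_lit 0x53a20940) (Net.cons (nat_lit 64) (nat_lit 0xcf3a70940) (Net.cons (nat_lit 32) (nat_lit 0xf00000000f3a70940) (Net.cons (nat_lit 16) (nat_lit 0x10ba00009423000009f8) (Net.cons (nat_lit 8) (nat_lit 0x47005100ce0043004f000c) (Net.cons (nat_lit 4) (nat_lit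 0x90b050b050b0c0d050a0e0c) (Net.cons (nat_lit 2) (nat_lit 0x3331120022112223302320200) (Net.cons (nat_lit 1) (nat_lit 0x4444440544444441441101140) Net.nil)))))))))))))

theorem q_g37_ok : Net.ok 100 q_g37 = true := by decide +kernel

noncomputable def q_V38 : List Net := [q_g9, q_g37]

theorem q_V38_ok : okE 100 q_V38 = true := (okE_cons.2 ⟨q_g9_ok, (okE_cons.2 ⟨q_g37_ok, (okE_nil 100)⟩)⟩)

noncomputable def q_V40 : List Net := [q_g37, q_g37]

theorem q_V40_ok : okE 100 q_V40 = true := (okE_cons.2 ⟨q_g37_ok, (okE_cons.2 ⟨q_g37_ok, (okE_nil 100)⟩)⟩)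

noncomputable def q_V42 : List Net := [EvJ2.p_g191, EvJ2.p_g191]

theorem q_V42_ok : okE 100 q_V42 = true := (okE_cons.2 ⟨EvJ2.p_g191_ok, (okE_cons.2 ⟨EvJ2.p_g191_ok, (okE_nil 100)⟩)⟩)

noncomputable def EXlb_E : List Net := [q_g30, q_g31, q_g32, q_g33, q_g34, q_g9, q_g37, q_g37, q_g37, EvJ2.p_g191, EvJ2.p_g191]

theorem EXlb_E_ok : okE 100 EXlb_E = true := (okE_cons.2 ⟨q_g30_ok, (okE_cons.2 ⟨q_g31_ok, (okE_cons.2 ⟨q_g32_ok, (okE_cons.2 ⟨q_g33_ok, (okE_cons.2 ⟨q_g34_ok, (okE_cons.2 ⟨q_g9_ok, (okE_cons.2 ⟨q_g37_ok, (okE_cons.2 ⟨q_g37_ok, (okE_cons.2 ⟨q_g37_ok, (okE_cons.2 ⟨EvJ2.p_g191_ok, (okE_cons.2 ⟨EvJ2.p_g191_ok, (okE_nil 100)⟩)⟩)⟩)⟩)⟩)⟩)⟩)⟩)⟩)⟩)⟩)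

noncomputable def q_g45 : Net := (Net.cons (nat_lit 1) (nat_lit 0x50440154051541145504100) (Net.cons (nat_lit 2) (nat_lit 0x2313201110113011122301020) (Net.cons (nat_lit 4) (nat_lit 0x80c020206040a000b040c00) (Net.cons (nat_lit 8) (nat_lit 0x2100f7003e004a00820004) (Net.cons (nat_lit 16) (nat_lit 0xb60300002e4700000005) (Net.cons (nat_lit 32) (nat_lit 0x4010c870) (Net.cons (nat_lit 64) (nat_lit 0xf48b5ff7c) (Net.cons (nat_lit 32) (nat_lit 0x700000000d9fe3740) (Net.cons (nat_lit 16) (nat_lit 0x540e0000ecf10000c610) (Net.cons (nat_lit 8) (nat_lit 0x61005c008500c000790087) (Net.cons (nat_lit 4) (nat_lit 0x9040c0b05040a0204030909) (Net.cons (nat_lit 2) (nat_lit 0x2332302323203313130010012) (Net.cons (nat_lit 1) (nat_lit 0x5115101104105140410415145) Net.nil)))))))))))))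

theorem q_g45_ok : Net.ok 100 q_g45 = true := by decide +kernel

noncomputable def q_g46 : Net := (Net.cons (nat_lit 1) (nat_lit 0x510454105040404405050440) (Net.cons (nat_lit 2) (nat_lit 0x3100001100130111030322120) (Net.cons (nat_lit 4) (nat_lit 0x6000707040c05000f020500) (Net.cons (nat_lit 8) (nat_lit 0x800fe001a000200040000) (Net.cons (nat_lit 16) (nat_lit 0xa9490000133c00000000) (Net.cons (nat_lit 32) (nat_lit 0x40000000009081280) (Net.cons (nat_lit 64) (nat_lit 0x4a94852b0) (Net.cons (nat_lit 32) (nat_lit 0xd00000000d2da12ad) (Net.cons (nat_lit 16) (nat_lit 0xa94900008ca10000a22c) (Net.cons (nat_lit 8) (nat_lit 0x8e00050003001200ce00fe) (Net.cons (nat_lit 4) (nat_lit 0x700050f0500040000080f08) (Net.cons (nat_lit 2) (nat_lit 0x3100022321033011301222003) (Net.cons (nat_lit 1) (nat_lit 0x511405551510041510554015) Net.nil)))))))))))))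

theorem q_g46_ok : Net.ok 100 q_g46 = true := by decide +kernel

noncomputable def UA : List Net := [q_g1, q_g2]

theorem UA_ok : okE 100 UA = true := (okE_cons.2 ⟨q_g1_ok, (okE_cons.2 ⟨q_g2_ok, (okE_nil 100)⟩)⟩)

noncomputable def UB : List Net := [q_g3, EvJ2.p_g194, q_g4, EvJ2.p_g189, EvJ2.p_g18]

theorem UB_ok : okE 100 UB = true := (okE_cons.2 ⟨q_g3_ok, (okE_cons.2 ⟨EvJ2.p_g194_ok, (okE_cons.2 ⟨q_g4_ok, (okE_cons.2 ⟨EvJ2.p_g189_ok, (okE_cons.2 ⟨EvJ2.p_g18_ok, (okE_nil 100)⟩)⟩)⟩)⟩)⟩)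

noncomputable def EF : List Net := [q_g3]

theorem EF_ok : okE 100 EF = true := (okE_cons.2 ⟨q_g3_ok, (okE_nil 100)⟩)

noncomputable def q_g48 : Net := (Net.cons (nat_lit 1) (nat_lit 0x4400044444400001555040) (Net.cons (nat_lit 2) (nat_lit 0x133002300000000002301220) (Net.cons (nat_lit 4) (nat_lit 0x50f090606090f09000c0001) (Net.cons (nat_lit 8) (nat_lit 0x61001f000f0000000e0000) (Net.cons (nat_lit 16) (nat_lit 0x90010000f00900000000) (Net.cons (nat_lit 32) (nat_lit 0x6906000) (Net.cons (nat_lit 64) (nat_lit 0x9f6906000) (Net.cons (nat_lit 32) (nat_lit 0xd00000000f6906000) (Net.cons (nat_lit 16) (nat_lit 0xf090000609f0000026d) (Net.cons (nat_lit 8) (nat_lit 0xf90007009f009000070080) (Net.cons (nat_lit 4) (nat_lit 0x90f070606090f06000d060a) (Net.cons (nat_lit 2) (nat_lit 0x3122302113112111213101003) (Net.cons (nat_lit 1) (nat_lit 0x4455140404451050001114444) Net.nil)))))))))))))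

theorem q_g48_ok : Net.ok 100 q_g48 = true := by decide +kernel

noncomputable def q_g49 : Net := (Net.cons (nat_lit 1) (nat_lit 0x1100511000040444000151000) (Net.cons (nat_lit 2) (nat_lit 0x3323130100000000003302010) (Net.cons (nat_lit 4) (nat_lit 0x300010c00030000000b0800) (Net.cons (nat_lit 8) (nat_lit 0x13001b000f00fc00f0000c) (Net.cons (nat_lit 16) (nat_lit 0x72c0000900c00000000) (Net.cons (nat_lit 32) (nat_lit 0xc000000000c3f0300) (Net.cons (nat_lit 64) (nat_lit 0xc0c3f0300) (Net.cons (nat_lit 32) (nat_lit 0x1000000006c3f900c) (Net.cons (nat_lit 16) (nat_lit 0x23f3000060000000f000) (Net.cons (nat_lit 8) (nat_lit 0x13002f000b00fc00f3000c) (Net.cons (nat_lit 4) (nat_lit 0x5000b0c0003000000030403) (Net.cons (nat_lit 2) (nat_lit 0x1312110321223231210321002) (Net.cons (nat_lit 1) (nat_lit 0x5540051505000544411400511) Net.nil)))))))))))))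

theorem q_g49_ok : Net.ok 100 q_g49 = true := by decide +kernel

noncomputable def Y : List Net := [q_g48, q_g49]

theorem Y_ok : okE 100 Y = true := (okE_cons.2 ⟨q_g48_ok, (okE_cons.2 ⟨q_g49_ok, (okE_nil 100)⟩)⟩)

noncomputable def q_g51 : Net := (Net.cons (nat_lit 1) (nat_lit 0x4141550115100500544001000) (Net.cons (nat_lit 2) (nat_lit 0x3202013320110010110123200) (Net.cons (nat_lit 4) (nat_lit 0x80a040d050908020c0e0700) (Net.cons (nat_lit 8) (nat_lit 0x9e001000ab004c00420009) (Net.cons (nat_lit 16) (nat_lit 0x359f000081410000000c) (Net.cons (nat_lit 32) (nat_lit 0x80000000000461400) (Net.cons (nat_lit 64) (nat_lit 0x3e1de360b) (Net.cons (nat_lit 32) (nat_lit 0xd000000001934ec16) (Net.cons (nat_lit 16) (nat_lit 0xbb6d00009d5a0000581c) (Net.cons (nat_lit 8) (nat_lit 0x4e00e200fb008c0092001f) (Net.cons (nat_lit 4) (nat_lit 0x808050f050909030f0e0700) (Net.cons (nat_lit 2) (nat_lit 0x3302102331110110010123200)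 (Net.cons (nat_lit 1) (nat_lit 0x541440115100401545005440) Net.nil)))))))))))))

theorem q_g51_ok : Net.ok 100 q_g51 = true := by decide +kernel

noncomputable def q_g52 : Net := (Net.cons (nat_lit 1) (nat_lit 0x5054114554545511541111144) (Net.cons (nat_lit 2) (nat_lit 0x2302313231321231012122220) (Net.cons (nat_lit 4) (nat_lit 0xe0901020b02020409040408) (Net.cons (nat_lit 8) (nat_lit 0x4000a20086001100020001) (Net.cons (nat_lit 16) (nat_lit 0x3a950000810200000004) (Net.cons (nat_lit 32) (nat_lit 0x20084830) (Net.cons (nat_lit 64) (nat_lit 0x2b49e5a7b) (Net.cons (nat_lit 32) (nat_lit 0xf000000005125821f) (Net.cons (nat_lit 16) (nat_lit 0xbed20000392e000020a8) (Net.cons (nat_lit 8) (nat_lit 0xd000ab00fe00b2001d002f) (Net.cons (nat_lit 4) (nat_lit 0x8080d0a0f030a050d070f0c) (Net.cons (nat_lit 2) (nat_lit 0x303230323233111013122132) (Net.cons (nat_lit 1) (nat_lit 0x4515140455540050544414550)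 Net.nil)))))))))))))

theorem q_g52_ok : Net.ok 100 q_g52 = true := by decide +kernel

noncomputable def q_V53 : List Net := [q_g51, q_g52]

theorem q_V53_ok : okE 100 q_V53 = true := (okE_cons.2 ⟨q_g51_ok, (okE_cons.2 ⟨q_g52_ok, (okE_nil 100)⟩)⟩)

noncomputable def q_V55 : List Net := [q_g52]

theorem q_V55_ok : okE 100 q_V55 = true := (okE_cons.2 ⟨q_g52_ok, (okE_nil 100)⟩)

noncomputable def q_V56 : List Net := []

theorem q_V56_ok : okE 100 q_V56 = true := (okE_nil 100)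

noncomputable def Y_cnt_EG : List Net := [q_g20, q_g21, q_g22, H47.J2P.h_g17, q_g23, H47.J2P.h_g131, EvJ2.p_g1, EvJ2.p_g2, EvJ2.p_g5, EvJ2.p_g6, H47.J2P.h_g45, H47.J2P.h_a0, EvJ2.p_g11, H47.J2P.h_g53, MpJ2.a, H47.J2P.h_g1, H47.J2P.h_a19, H47.J2P.h_a27, H47.J2P.h_g7, H47.J2P.h_g4, H47.J2P.h_a8, H47.J2P.h_g14, H47.J2P.h_g10, H47.J2P.h_g11, H47.J2P.h_g21, H47.J2P.h_g22, H47.J2P.h_g18, q_g52, q_g51]

theorem Y_cnt_EG_ok : okE 100 Y_cnt_EG = true := (okE_cons.2 ⟨q_g20_ok, (okE_cons.2 ⟨q_g21_ok, (okE_cons.2 ⟨q_g22_ok, (okE_cons.2 ⟨H47.J2P.h_g17_ok, (okE_cons.2 ⟨q_g23_ok, (okE_cons.2 ⟨H47.J2P.h_g131_ok, (okE_cons.2 ⟨EvJ2.p_g1_ok, (okE_cons.2 ⟨EvJ2.p_g2_ok, (okE_cons.2 ⟨EvJ2.p_g5_ok, (okE_cons.2 ⟨EvJ2.p_g6_ok, (okE_cons.2 ⟨H47.J2P.h_g45_ok, (okE_cons.2 ⟨H47.J2P.h_a0_ok, (okE_cons.2 ⟨EvJ2.p_g11_ok, (okE_cons.2 ⟨H47.J2P.h_g53_ok, (okE_cons.2 ⟨MpJ2.a_ok, (okE_cons.2 ⟨H47.J2P.h_g1_ok, (okE_cons.2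 ⟨H47.J2P.h_a19_ok, (okE_cons.2 ⟨H47.J2P.h_a27_ok, (okE_cons.2 ⟨H47.J2P.h_g7_ok, (okE_cons.2 ⟨H47.J2P.h_g4_ok, (okE_cons.2 ⟨H47.J2P.h_a8_ok, (okE_cons.2 ⟨H47.J2P.h_g14_ok, (okE_cons.2 ⟨H47.J2P.h_g10_ok, (okE_cons.2 ⟨H47.J2P.h_g11_ok, (okE_cons.2 ⟨H47.J2P.h_g21_ok, (okE_cons.2 ⟨H47.J2P.h_g22_ok, (okE_cons.2 ⟨H47.J2P.h_g18_ok, (okE_cons.2 ⟨q_g52_ok, (okE_cons.2 ⟨q_g51_ok, (okE_nil 100)⟩)⟩)⟩)⟩)⟩)⟩)⟩)⟩)⟩)⟩)⟩)⟩)⟩)⟩)⟩)⟩)⟩)⟩)⟩)⟩)⟩)⟩)⟩)⟩)⟩)⟩)⟩)⟩)⟩)

noncomputable def EV : List Net := [EvJ2.p_g52, EvJ2.p_g230]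

theorem EV_ok : okE 100 EV = true := (okE_cons.2 ⟨EvJ2.p_g52_ok, (okE_cons.2 ⟨EvJ2.p_g230_ok, (okE_nil 100)⟩)⟩)

noncomputable def EVlb_E : List Net := [EvJ2.p_g52, EvJ2.p_g230]

theorem EVlb_E_ok : okE 100 EVlb_E = true := (okE_cons.2 ⟨EvJ2.p_g52_ok, (okE_cons.2 ⟨EvJ2.p_g230_ok, (okE_nil 100)⟩)⟩)

noncomputable def q_g57 : Net := (Net.cons (nat_lit 1) (nat_lit 0x5410041441141414100405010) (Net.cons (nat_lit 2) (nat_lit 0x202212231230102211002000) (Net.cons (nat_lit 4) (nat_lit 0x7080b040d060700020f0303) (Net.cons (nat_lit 8) (nat_lit 0xb5008000ec00010041000c) (Net.cons (nat_lit 16) (nat_lit 0x1ee500000b000000000f) (Net.cons (nat_lit 32) (nat_lit 269568) (Net.cons (nat_lit 64) (nat_lit 0xfeb6e5dcf) (Net.cons (nat_lit 32) (nat_lit 0xb000000003c93a2f7) (Net.cons (nat_lit 16) (nat_lit 0x5c1a0000fca600007e97) (Net.cons (nat_lit 8) (nat_lit 0x97002b00fa000600520032) (Net.cons (nat_lit 4)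 (nat_lit 0xf0d0b0403000906050d000f) (Net.cons (nat_lit 2) (nat_lit 0x2120111032112103122302103) (Net.cons (nat_lit 1) (nat_lit 0x115401014515144444114550) Net.nil)))))))))))))

theorem q_g57_ok : Net.ok 100 q_g57 = true := by decide +kernel

theorem T_s0 : Stab 100 (grp 100 EvJ2.EG) [] EvJ2.lb_E 1209600 :=
  Stab.root' EvJ2.lb_E_ok EvJ2.eq_lb EvJ2.card_N

theorem U_poly : Ej.Poly 100 U :=
  Ej.poly_of q_hn q_hk U_ok (W := [(nat_lit 0, [nat_lit 37, nat_lit 30, nat_lit 4, nat_lit 48, nat_lit 40, nat_lit 32]), (nat_lit 0, [nat_lit 24, nat_lit 2, nat_lit 31, nat_lit 17, nat_lit 16]), (nat_lit 0, [nat_lit 9, nat_lit 10, nat_lit 12, nat_lit 8]), (nat_lit 0, [nat_lit 5, nat_lit 6, nat_lit 4]), (nat_lit 0, [nat_lit 3, nat_lit 2]), (nat_lit 0, [nat_lit 1]), (nat_lit 0, [])]) (by decide +kernel)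

theorem q_le7 : grp 100 q_V6 ≤ grp 100 U :=
  grp_le_of_memB q_hn q_hk U_ok q_V6_ok (ws := [nat_lit 0xd070b030d040e0704, nat_lit 0xd01070b08040402]) (by decide +kernel)

theorem q_le11 : grp 100 q_V10 ≤ grp 100 q_V6 :=
  grp_le_of_memB q_hn q_hk q_V6_ok q_V10_ok (ws := [nat_lit 0x2040104, nat_lit 0x30101010101]) (by decide +kernel)

theorem q_le14 : grp 100 q_V13 ≤ grp 100 q_V10 :=
  grp_le_of_memB q_hn q_hk q_V10_ok q_V13_ok (ws := [nat_lit 0x30301010104, nat_lit 0x1010404]) (by decide +kernel)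

theorem q_le16 : grp 100 q_V15 ≤ grp 100 q_V13 :=
  grp_le_of_memB q_hn q_hk q_V13_ok q_V15_ok (ws := [nat_lit 0x10103020301, nat_lit 0x3010104020402]) (by decide +kernel)

theorem Ulb_le : grp 100 Ulb_E ≤ grp 100 U :=
  (grp_cons_le ((le_refl (grp 100 U)) (toPerm_mem_grp (E := U) (by simp [U]))) (grp_cons_le ((le_refl (grp 100 U)) (toPerm_mem_grp (E := U) (by simp [U]))) (grp_cons_le ((le_refl (grp 100 U)) (toPerm_mem_grp (E := U) (by simp [U]))) (grp_cons_le ((le_refl (grp 100 U)) (toPerm_mem_grp (E := U) (by simp [U]))) (grp_cons_le ((le_refl (grp 100 U)) (toPerm_mem_grp (E := U) (by simp [U]))) (grp_cons_le ((le_refl (grp 100 U)) (toPerm_mem_grp (E := U) (by simp [U]))) (grp_cons_le ((le_refl (grp 100 U)) (toPerm_mem_grp (E := U) (by simp [U]))) (grp_cons_le ((q_le7.trans (le_refl (grp 100 U))) (toPerm_mem_grp (E := q_V6) (by simp [q_V6]))) (grp_cons_le ((q_le7.trans (le_refl (grp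 100 U))) (toPerm_mem_grp (E := q_V6) (by simp [q_V6]))) (grp_cons_le ((q_le11.trans (q_le7.trans (le_refl (grp 100 U)))) (toPerm_mem_grp (E := q_V10) (by simp [q_V10]))) (grp_cons_le ((q_le11.trans (q_le7.trans (le_refl (grp 100 U)))) (toPerm_mem_grp (E := q_V10) (by simp [q_V10]))) (grp_cons_le ((q_le14.trans (q_le11.trans (q_le7.trans (le_refl (grp 100 U))))) (toPerm_mem_grp (E := q_V13) (by simp [q_V13]))) (grp_cons_le ((q_le14.trans (q_le11.trans (q_le7.trans (le_refl (grp 100 U))))) (toPerm_mem_grp (E := q_V13) (by simp [q_V13]))) (grp_cons_le ((q_le16.trans (q_le14.trans (q_le11.trans (q_le7.trans (le_refl (grp 100 U)))))) (toPerm_mem_grp (E := q_V15) (by simp [q_V15]))) (grp_cons_le ((q_le16.trans (q_le14.trans (q_le11.trans (q_le7.trans (le_refl (grp 100 U)))))) (toPerm_mem_grp (E := q_V15) (by simp [q_V15]))) (grp_nil_le _))))))))))))))))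

noncomputable def Ulb_ch : Ch := (Ch.cons (nat_lit 1) [nat_lit 1, nat_lit 3, nat_lit 5, nat_lit 7, nat_lit 9, nat_lit 11, nat_lit 13] (Ch.cons (nat_lit 10) [nat_lit 15, nat_lit 17] (Ch.cons (nat_lit 0) [nat_lit 19, nat_lit 21] (Ch.cons (nat_lit 2) [nat_lit 23, nat_lit 25] (Ch.cons (nat_lit 3) [nat_lit 27, nat_lit 29] Ch.nil)))))

theorem Ulb_chk : Ch.chk 100 7 (lab 100 7) Ulb_E Ulb_ch 128 = true :=
  by decide +kernel

theorem Ulb_ge : 128 ≤ Nat.card (grp 100 U) :=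
  (Ch.le_card_grp q_hn Ulb_E_ok Ulb_chk).trans (Subgroup.card_le_of_le Ulb_le)

theorem U_ge : 2 ^ 7 ≤ Nat.card (grp 100 U) :=
  le_of_eq_of_le (by norm_num) Ulb_ge

theorem q_le17 : grp 100 U ≤ grp 100 H47.J2P.h_E0 :=
  grp_le_of_memB q_hn q_hk H47.J2P.h_E0_ok U_ok (ws := [nat_lit 0x190f070b13010701, nat_lit 0x1711070715010b02, nat_lit 0x19170d12010118, nat_lit 852749, nat_lit 0x171719120319, nat_lit 0x151a120d1a0313, nat_lit 0xc07030d]) (by decide +kernel)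

theorem U_G : grp 100 U ≤ (grp 100 H47.J2P.h_E0) :=
  (q_le17).trans (le_refl (grp 100 H47.J2P.h_E0))

theorem q_le18 : grp 100 CU ≤ grp 100 EvJ2.lb_E :=
  grp_le_of_memB q_hn q_hk EvJ2.lb_E_ok CU_ok (ws := [nat_lit 0x332d27292629050f]) (by decide +kernel)

theorem CU_le : grp 100 CU ≤ (grp 100 EvJ2.EG) :=
  (q_le18.trans T_s0.le)

theorem CU_sym : Sym 100 (grp 100 EvJ2.EG) U CU 0 :=
  Sym.of_lab q_hn q_hk U_ok CU_ok CU_le (kT := 0) (by decide +kernel)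

theorem T_s1 : Stab 100 (grp 100 EvJ2.EG) [nat_lit 0] q_V19 12096 :=
  Stab.step (k := 7) (L := (lab 100 7)) q_hn T_s0 q_V19_ok (grp_mono (List.subset_append_right [MpJ2.a, H47.J2P.h_g1, H47.J2P.h_a19, H47.J2P.h_a27, H47.J2P.h_g7, H47.J2P.h_a0, H47.J2P.h_g4, H47.J2P.h_a8, H47.J2P.h_g14, H47.J2P.h_g10, H47.J2P.h_g11, H47.J2P.h_g21, H47.J2P.h_g22, H47.J2P.h_g17, H47.J2P.h_g18] _)) (c := (Ch.cons (nat_lit 2) [nat_lit 1, nat_lit 3] (Ch.cons (nat_lit 3) [nat_lit 5, nat_lit 7] (Ch.cons (nat_lit 15) [nat_lit 9, nat_lit 11] (Ch.cons (nat_lit 1) [nat_lit 13, nat_lit 15] (Ch.cons (nat_lit 4) [nat_lit 17, nat_lit 19] (Ch.cons (nat_lit 8) [nat_lit 21, nat_lit 23] Ch.nil))))))) (by decide +kernel)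

theorem q_le25 : grp 100 q_V24 ≤ grp 100 q_V19 :=
  grp_le_of_memB q_hn q_hk q_V19_ok q_V24_ok (ws := [nat_lit 0x90b07011007, nat_lit 0x7020207, nat_lit 0xf090104, nat_lit 0x905070104, nat_lit 0x151308050204, nat_lit 0x150908050204]) (by decide +kernel)

theorem T_s2 : Stab 100 (grp 100 EvJ2.EG) [nat_lit 54, nat_lit 0] q_V24 192 :=
  Stab.step (k := 7) (L := (lab 100 7)) q_hn T_s1 q_V24_ok q_le25 (c := (Ch.cons (nat_lit 40) [nat_lit 1] (Ch.cons (nat_lit 55) [nat_lit 3, nat_lit 5, nat_lit 7] (Ch.cons (nat_lit 50) [nat_lit 9, nat_lit 11] Ch.nil)))) (by decide +kernel)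

theorem T_s3 : Stab 100 (grp 100 EvJ2.EG) [nat_lit 40, nat_lit 54, nat_lit 0] q_V26 32 :=
  Stab.step (k := 7) (L := (lab 100 7)) q_hn T_s2 q_V26_ok (grp_mono (List.subset_append_right [q_g20] _)) (c := (Ch.cons (nat_lit 55) [nat_lit 1, nat_lit 3, nat_lit 5] (Ch.cons (nat_lit 50) [nat_lit 7, nat_lit 9] Ch.nil))) (by decide +kernel)

theorem T_s4 : Stab 100 (grp 100 EvJ2.EG) [nat_lit 55, nat_lit 40, nat_lit 54, nat_lit 0] q_V27 4 :=
  Stab.step (k := 7) (L := (lab 100 7)) q_hn T_s3 q_V27_ok (grp_mono (List.subset_append_right [q_g21, q_g22, H47.J2P.h_g17] _)) (c := (Ch.cons (nat_lit 50) [nat_lit 1, nat_lit 3] Ch.nil)) (by decide +kernel)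

theorem T_s5 : Stab 100 (grp 100 EvJ2.EG) [nat_lit 50, nat_lit 55, nat_lit 40, nat_lit 54, nat_lit 0] q_V28 1 :=
  Stab.step (k := 7) (L := (lab 100 7)) q_hn T_s4 q_V28_ok (grp_mono (List.subset_append_right [q_g23, H47.J2P.h_g131] _)) (c := Ch.nil) (by decide +kernel)

theorem MpJ2.a_T : Net.toPerm 100 MpJ2.a ∈ (grp 100 EvJ2.EG) :=
  T_s0.le (toPerm_mem_grp (E := EvJ2.lb_E) (List.Mem.head _))

theorem H47.J2P.h_g1_T : Net.toPerm 100 H47.J2P.h_g1 ∈ (grp 100 EvJ2.EG) :=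
  T_s0.le (toPerm_mem_grp (E := EvJ2.lb_E) (List.Mem.tail _ (List.Mem.head _)))

theorem H47.J2P.h_a19_T : Net.toPerm 100 H47.J2P.h_a19 ∈ (grp 100 EvJ2.EG) :=
  T_s0.le (toPerm_mem_grp (E := EvJ2.lb_E) (List.Mem.tail _ (List.Mem.tail _ (List.Mem.head _))))

theorem H47.J2P.h_a27_T : Net.toPerm 100 H47.J2P.h_a27 ∈ (grp 100 EvJ2.EG) :=
  T_s0.le (toPerm_mem_grp (E := EvJ2.lb_E) (List.Mem.tail _ (List.Mem.tail _ (List.Mem.tail _ (List.Mem.head _)))))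

theorem H47.J2P.h_g7_T : Net.toPerm 100 H47.J2P.h_g7 ∈ (grp 100 EvJ2.EG) :=
  T_s0.le (toPerm_mem_grp (E := EvJ2.lb_E) (List.Mem.tail _ (List.Mem.tail _ (List.Mem.tail _ (List.Mem.tail _ (List.Mem.head _))))))

theorem H47.J2P.h_a0_T : Net.toPerm 100 H47.J2P.h_a0 ∈ (grp 100 EvJ2.EG) :=
  T_s0.le (toPerm_mem_grp (E := EvJ2.lb_E) (List.Mem.tail _ (List.Mem.tail _ (List.Mem.tail _ (List.Mem.tail _ (List.Mem.tail _ (List.Mem.head _)))))))

theorem H47.J2P.h_g4_T : Net.toPerm 100 H47.J2P.h_g4 ∈ (grp 100 EvJ2.EG) :=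
  T_s0.le (toPerm_mem_grp (E := EvJ2.lb_E) (List.Mem.tail _ (List.Mem.tail _ (List.Mem.tail _ (List.Mem.tail _ (List.Mem.tail _ (List.Mem.tail _ (List.Mem.head _))))))))

theorem H47.J2P.h_a8_T : Net.toPerm 100 H47.J2P.h_a8 ∈ (grp 100 EvJ2.EG) :=
  T_s0.le (toPerm_mem_grp (E := EvJ2.lb_E) (List.Mem.tail _ (List.Mem.tail _ (List.Mem.tail _ (List.Mem.tail _ (List.Mem.tail _ (List.Mem.tail _ (List.Mem.tail _ (List.Mem.head _)))))))))

theorem H47.J2P.h_g14_T : Net.toPerm 100 H47.J2P.h_g14 ∈ (grp 100 EvJ2.EG) :=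
  T_s0.le (toPerm_mem_grp (E := EvJ2.lb_E) (List.Mem.tail _ (List.Mem.tail _ (List.Mem.tail _ (List.Mem.tail _ (List.Mem.tail _ (List.Mem.tail _ (List.Mem.tail _ (List.Mem.tail _ (List.Mem.head _))))))))))

theorem H47.J2P.h_g10_T : Net.toPerm 100 H47.J2P.h_g10 ∈ (grp 100 EvJ2.EG) :=
  T_s0.le (toPerm_mem_grp (E := EvJ2.lb_E) (List.Mem.tail _ (List.Mem.tail _ (List.Mem.tail _ (List.Mem.tail _ (List.Mem.tail _ (List.Mem.tail _ (List.Mem.tail _ (List.Mem.tail _ (List.Mem.tail _ (List.Mem.head _)))))))))))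

theorem H47.J2P.h_g11_T : Net.toPerm 100 H47.J2P.h_g11 ∈ (grp 100 EvJ2.EG) :=
  T_s0.le (toPerm_mem_grp (E := EvJ2.lb_E) (List.Mem.tail _ (List.Mem.tail _ (List.Mem.tail _ (List.Mem.tail _ (List.Mem.tail _ (List.Mem.tail _ (List.Mem.tail _ (List.Mem.tail _ (List.Mem.tail _ (List.Mem.tail _ (List.Mem.head _))))))))))))

theorem H47.J2P.h_g21_T : Net.toPerm 100 H47.J2P.h_g21 ∈ (grp 100 EvJ2.EG) :=
  T_s0.le (toPerm_mem_grp (E := EvJ2.lb_E) (List.Mem.tail _ (List.Mem.tail _ (List.Mem.tail _ (List.Mem.tail _ (List.Mem.tail _ (List.Mem.tail _ (List.Mem.tail _ (List.Mem.tail _ (List.Mem.tail _ (List.Mem.tail _ (List.Mem.tail _ (List.Mem.head _)))))))))))))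

theorem H47.J2P.h_g22_T : Net.toPerm 100 H47.J2P.h_g22 ∈ (grp 100 EvJ2.EG) :=
  T_s0.le (toPerm_mem_grp (E := EvJ2.lb_E) (List.Mem.tail _ (List.Mem.tail _ (List.Mem.tail _ (List.Mem.tail _ (List.Mem.tail _ (List.Mem.tail _ (List.Mem.tail _ (List.Mem.tail _ (List.Mem.tail _ (List.Mem.tail _ (List.Mem.tail _ (List.Mem.tail _ (List.Mem.head _))))))))))))))

theorem H47.J2P.h_g17_T : Net.toPerm 100 H47.J2P.h_g17 ∈ (grp 100 EvJ2.EG) :=
  T_s0.le (toPerm_mem_grp (E := EvJ2.lb_E) (List.Mem.tail _ (List.Mem.tail _ (List.Mem.tail _ (List.Mem.tail _ (List.Mem.tail _ (List.Mem.tail _ (List.Mem.tail _ (List.Mem.tail _ (List.Mem.tail _ (List.Mem.tail _ (List.Mem.tail _ (List.Mem.tail _ (List.Mem.tail _ (List.Mem.head _)))))))))))))))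

theorem H47.J2P.h_g18_T : Net.toPerm 100 H47.J2P.h_g18 ∈ (grp 100 EvJ2.EG) :=
  T_s0.le (toPerm_mem_grp (E := EvJ2.lb_E) (List.Mem.tail _ (List.Mem.tail _ (List.Mem.tail _ (List.Mem.tail _ (List.Mem.tail _ (List.Mem.tail _ (List.Mem.tail _ (List.Mem.tail _ (List.Mem.tail _ (List.Mem.tail _ (List.Mem.tail _ (List.Mem.tail _ (List.Mem.tail _ (List.Mem.tail _ (List.Mem.head _))))))))))))))))

theorem EvJ2.p_g1_T : Net.toPerm 100 EvJ2.p_g1 ∈ (grp 100 EvJ2.EG) :=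
  T_s0.le (toPerm_mem_grp (E := EvJ2.lb_E) (List.Mem.tail _ (List.Mem.tail _ (List.Mem.tail _ (List.Mem.tail _ (List.Mem.tail _ (List.Mem.tail _ (List.Mem.tail _ (List.Mem.tail _ (List.Mem.tail _ (List.Mem.tail _ (List.Mem.tail _ (List.Mem.tail _ (List.Mem.tail _ (List.Mem.tail _ (List.Mem.tail _ (List.Mem.head _)))))))))))))))))

theorem EvJ2.p_g2_T : Net.toPerm 100 EvJ2.p_g2 ∈ (grp 100 EvJ2.EG) :=
  T_s0.le (toPerm_mem_grp (E := EvJ2.lb_E) (List.Mem.tail _ (List.Mem.tail _ (List.Mem.tail _ (List.Mem.tail _ (List.Mem.tail _ (List.Mem.tail _ (List.Mem.tail _ (List.Mem.tail _ (List.Mem.tail _ (List.Mem.tail _ (List.Mem.tail _ (List.Mem.tail _ (List.Mem.tail _ (List.Mem.tail _ (List.Mem.tail _ (List.Mem.tail _ (List.Mem.head _))))))))))))))))))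

theorem EvJ2.p_g5_T : Net.toPerm 100 EvJ2.p_g5 ∈ (grp 100 EvJ2.EG) :=
  T_s0.le (toPerm_mem_grp (E := EvJ2.lb_E) (List.Mem.tail _ (List.Mem.tail _ (List.Mem.tail _ (List.Mem.tail _ (List.Mem.tail _ (List.Mem.tail _ (List.Mem.tail _ (List.Mem.tail _ (List.Mem.tail _ (List.Mem.tail _ (List.Mem.tail _ (List.Mem.tail _ (List.Mem.tail _ (List.Mem.tail _ (List.Mem.tail _ (List.Mem.tail _ (List.Mem.tail _ (List.Mem.head _)))))))))))))))))))

theorem EvJ2.p_g6_T : Net.toPerm 100 EvJ2.p_g6 ∈ (grp 100 EvJ2.EG) :=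
  T_s0.le (toPerm_mem_grp (E := EvJ2.lb_E) (List.Mem.tail _ (List.Mem.tail _ (List.Mem.tail _ (List.Mem.tail _ (List.Mem.tail _ (List.Mem.tail _ (List.Mem.tail _ (List.Mem.tail _ (List.Mem.tail _ (List.Mem.tail _ (List.Mem.tail _ (List.Mem.tail _ (List.Mem.tail _ (List.Mem.tail _ (List.Mem.tail _ (List.Mem.tail _ (List.Mem.tail _ (List.Mem.tail _ (List.Mem.head _))))))))))))))))))))

theorem H47.J2P.h_g45_T : Net.toPerm 100 H47.J2P.h_g45 ∈ (grp 100 EvJ2.EG) :=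
  T_s0.le (toPerm_mem_grp (E := EvJ2.lb_E) (List.Mem.tail _ (List.Mem.tail _ (List.Mem.tail _ (List.Mem.tail _ (List.Mem.tail _ (List.Mem.tail _ (List.Mem.tail _ (List.Mem.tail _ (List.Mem.tail _ (List.Mem.tail _ (List.Mem.tail _ (List.Mem.tail _ (List.Mem.tail _ (List.Mem.tail _ (List.Mem.tail _ (List.Mem.tail _ (List.Mem.tail _ (List.Mem.tail _ (List.Mem.tail _ (List.Mem.head _)))))))))))))))))))))

theorem EvJ2.p_g11_T : Net.toPerm 100 EvJ2.p_g11 ∈ (grp 100 EvJ2.EG) :=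
  T_s0.le (toPerm_mem_grp (E := EvJ2.lb_E) (List.Mem.tail _ (List.Mem.tail _ (List.Mem.tail _ (List.Mem.tail _ (List.Mem.tail _ (List.Mem.tail _ (List.Mem.tail _ (List.Mem.tail _ (List.Mem.tail _ (List.Mem.tail _ (List.Mem.tail _ (List.Mem.tail _ (List.Mem.tail _ (List.Mem.tail _ (List.Mem.tail _ (List.Mem.tail _ (List.Mem.tail _ (List.Mem.tail _ (List.Mem.tail _ (List.Mem.tail _ (List.Mem.tail _ (List.Mem.tail _ (List.Mem.head _))))))))))))))))))))))))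

theorem H47.J2P.h_g53_T : Net.toPerm 100 H47.J2P.h_g53 ∈ (grp 100 EvJ2.EG) :=
  T_s0.le (toPerm_mem_grp (E := EvJ2.lb_E) (List.Mem.tail _ (List.Mem.tail _ (List.Mem.tail _ (List.Mem.tail _ (List.Mem.tail _ (List.Mem.tail _ (List.Mem.tail _ (List.Mem.tail _ (List.Mem.tail _ (List.Mem.tail _ (List.Mem.tail _ (List.Mem.tail _ (List.Mem.tail _ (List.Mem.tail _ (List.Mem.tail _ (List.Mem.tail _ (List.Mem.tail _ (List.Mem.tail _ (List.Mem.tail _ (List.Mem.tail _ (List.Mem.tail _ (List.Mem.tail _ (List.Mem.tail _ (List.Mem.tail _ (List.Mem.head _))))))))))))))))))))))))))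

theorem q_g21_T : Net.toPerm 100 q_g21 ∈ (grp 100 EvJ2.EG) :=
  T_s3.le (toPerm_mem_grp (E := q_V26) (List.Mem.head _))

theorem q_g22_T : Net.toPerm 100 q_g22 ∈ (grp 100 EvJ2.EG) :=
  T_s3.le (toPerm_mem_grp (E := q_V26) (List.Mem.tail _ (List.Mem.head _)))

theorem q_g23_T : Net.toPerm 100 q_g23 ∈ (grp 100 EvJ2.EG) :=
  T_s3.le (toPerm_mem_grp (E := q_V26) (List.Mem.tail _ (List.Mem.tail _ (List.Mem.tail _ (List.Mem.head _)))))

theorem H47.J2P.h_g131_T : Net.toPerm 100 H47.J2P.h_g131 ∈ (grp 100 EvJ2.EG) :=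
  T_s3.le (toPerm_mem_grp (E := q_V26) (List.Mem.tail _ (List.Mem.tail _ (List.Mem.tail _ (List.Mem.tail _ (List.Mem.head _))))))

theorem q_g20_T : Net.toPerm 100 q_g20 ∈ (grp 100 EvJ2.EG) :=
  T_s2.le (toPerm_mem_grp (E := q_V24) (List.Mem.head _))

noncomputable def T_s5_O : ℕ := (nat_lit 0x3333266666ccccd99999333321f07c1f03e0f83e0f83e0f83ee63398c67319ce63398c673184db24d926c93649b64db26d9200000000000000000000000010000000000040000000000000000000000000001000000000000000000000800000000000000000000000004000000000000)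

theorem T_s5_F : Frame 100 (grp 100 EvJ2.EG) 5 9 T_s5_O 1 1 :=
  IsBase.frame T_s5.isBase (by decide +kernel)

noncomputable def T_s4_O : ℕ := (nat_lit 0x400000000000000000000000008000000000000000000000000000400000000000000000000000000000080000000000000000000000000200000000000000000000000000000000000400000000000000000000000002000000000000000000000000082000008000000000000000000000001000040000000000000000000040002000000000000000000100000000040000000000010000000000000010000000000000000000002000001000000000000000000400000020000000000000000010000000400000000000000000800000002000000800000000000000000100000000001000000000000008000080000000000000000000048000000200100000800000000044004000000000040000000010000800000080002000000000000020000010800080000000000020200000000402000000000000000800040020080000000202000001000000000400000000000004000200000028000000040010000000010000400000010000020000000002010000002100000800000000000800000800000040000000100010000000000400000020040000800000000080000000000400204000000000020010000010000100000000000000000000000001000000000004000000000000000000000000000100000000000000000000080000000000000)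

theorem T_s4_F : Frame 100 (grp 100 EvJ2.EG) 4 39 T_s4_O 0 1 :=
  Stab.frame q_hn T_s4 (by decide +kernel)

noncomputable def T_s2_O : ℕ := (nat_lit 0x90000000000021010010000040004000008a0500000024428020a8108534030000056821d430801ac1042188c829080120200000000000000000000000010000000000040000000000000)

theorem T_s2_F : Frame 100 (grp 100 EvJ2.EG) 2 6 T_s2_O 0 1 :=
  Stab.frame q_hn T_s2 (by decide +kernel)

noncomputable def T_s1_O : ℕ := (nat_lit 0x420ac10853ca35000056a65fc0000000000000000000000001)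

theorem T_s1_F : Frame 100 (grp 100 EvJ2.EG) 1 2 T_s1_O 0 1 :=
  Stab.frame q_hn T_s1 (by decide +kernel)

noncomputable def CU_cnt_L : List ℕ := [1, 2, T_s1_O, 0, 0, 2, 6, T_s2_O, 0, 0, 4, 39, T_s4_O, 0, 0, 5, 9, T_s5_O, 1, 0]

theorem CU_cnt_P : Prob 100 7 (grp 100 EvJ2.EG) CU_cnt_EG U U CU CU_cnt_L 0 0 :=
  Sym.prob q_hn q_hk CU_sym CU_cnt_EG_ok (grp_cons_le MpJ2.a_T (grp_cons_le H47.J2P.h_g1_T (grp_cons_le H47.J2P.h_a19_T (grp_cons_le H47.J2P.h_a27_T (grp_cons_le H47.J2P.h_g7_T (grp_cons_le H47.J2P.h_a0_T (grp_cons_le H47.J2P.h_g4_T (grp_cons_le H47.J2P.h_a8_T (grp_cons_le H47.J2P.h_g14_T (grp_cons_le H47.J2P.h_g10_T (grp_cons_le H47.J2P.h_g11_T (grp_cons_le H47.J2P.h_g21_T (grp_cons_le H47.J2P.h_g22_T (grp_cons_le H47.J2P.h_g17_T (grp_cons_le H47.J2P.h_g18_T (grp_cons_le EvJ2.p_g1_T (grp_cons_le EvJ2.p_g2_T (grp_cons_le EvJ2.p_g5_T (grp_cons_le EvJ2.p_g6_T (grp_cons_le H47.J2P.h_g45_T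 (grp_cons_le EvJ2.p_g11_T (grp_cons_le H47.J2P.h_g53_T (grp_cons_le q_g21_T (grp_cons_le q_g22_T (grp_cons_le q_g23_T (grp_cons_le H47.J2P.h_g131_T (grp_cons_le q_g20_T (grp_nil_le _)))))))))))))))))))))))))))) (Frames.cons T_s1_F (Frames.cons T_s2_F (Frames.cons T_s4_F (Frames.cons T_s5_F Frames.nil)))) U_ok _

noncomputable def CU_cnt_t : BT := (BT.fix (nat_lit 5) (BT.fix (nat_lit 7) (BT.and (nat_lit 1) (nat_lit 0) (BT.fix (nat_lit 9) (BT.dif (nat_lit 1) (nat_lit 0) (BT.fix (nat_lit 11) (BT.dif (nat_lit 1) (nat_lit 0) (BT.br (nat_lit 0) (nat_lit 9) [] (BT.dead (nat_lit 7) (BT.and (nat_lit 6) (nat_lit 4) (BT.dif (nat_lit 0) (nat_lit 8) (BT.dif (nat_lit 0) (nat_lit 4) (BT.br (nat_lit 0) (nat_lit 13) [] (BT.dead (nat_lit 13) (BT.frm (nat_lit 0) (nat_lit 66591) (nat_lit 279) [nat_lit 4] (BT.pln (nat_lit 0) (nat_lit 1) (BT.dif (nat_lit 13) (nat_lit 0) (BT.dif (nat_lit 0) (nat_lit 13) (BT.dif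 (nat_lit 0) (nat_lit 12) (BT.img (nat_lit 3) (nat_lit 9) (BT.frm (nat_lit 1) (nat_lit 0x222001041f) (nat_lit 0x20290117) [nat_lit 0, nat_lit 10] (BT.pln (nat_lit 0) (nat_lit 5) (BT.and (nat_lit 19) (nat_lit 0) (BT.frm (nat_lit 2) (nat_lit 0x352f222001041f) (nat_lit 0x2d1b35353520290117) [nat_lit 9, nat_lit 0, nat_lit 3, nat_lit 13] (BT.pln (nat_lit 0) (nat_lit 6) (BT.dif (nat_lit 6) (nat_lit 0) (BT.br (nat_lit 0) (nat_lit 93) [nat_lit 1] (BT.dead (nat_lit 29) (BT.frm (nat_lit 3) (nat_lit 0x352f222001041f) (nat_lit 0x2d1b35353520290117) [nat_lit 0, nat_lit 13, nat_lit 4, nat_lit 7, nat_lit 17] (BT.pln (nat_lit 0) (nat_lit 5) (BT.and (nat_lit 0) (nat_lit 23) (BT.cnt (nat_lit 0))))) BT.nil)))))))))))))) (BT.dead (nat_lit 1) (BT.frm (nat_lit 0) (nat_lit 66591) (nat_lit 279) [nat_lit 4] (BT.pln (nat_lit 0) (nat_lit 1) (BT.dif (nat_lit 13) (nat_lit 0) (BT.dif (nat_lit 0) (nat_lit 13) (BT.dif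 (nat_lit 0) (nat_lit 12) (BT.img (nat_lit 3) (nat_lit 9) (BT.frm (nat_lit 1) (nat_lit 0x222001041f) (nat_lit 0x20290117) [nat_lit 0, nat_lit 10] (BT.pln (nat_lit 0) (nat_lit 5) (BT.and (nat_lit 19) (nat_lit 0) (BT.frm (nat_lit 2) (nat_lit 0x352f222001041f) (nat_lit 0x1b35353520290117) [nat_lit 9, nat_lit 0, nat_lit 3, nat_lit 13] (BT.pln (nat_lit 0) (nat_lit 6) (BT.dif (nat_lit 6) (nat_lit 0) (BT.br (nat_lit 0) (nat_lit 93) [nat_lit 1] (BT.dead (nat_lit 28) (BT.frm (nat_lit 3) (nat_lit 0x352f222001041f) (nat_lit 0x331b35353520290117) [nat_lit 0, nat_lit 13, nat_lit 4, nat_lit 7, nat_lit 17] (BT.pln (nat_lit 0) (nat_lit 5) (BT.and (nat_lit 0) (nat_lit 21) (BT.cnt (nat_lit 0))))) BT.nil)))))))))))))) BT.nil)))))) (BT.kid (nat_lit 9) (nat_lit 2) (BT.and (nat_lit 6) (nat_lit 4) (BT.dif (nat_lit 0) (nat_lit 8) (BT.dif (nat_lit 0) (nat_lit 4) (BT.br (nat_lit 0) (nat_lit 13) [] (BT.dead (nat_lit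 1) (BT.frm (nat_lit 0) (nat_lit 66591) (nat_lit 66591) [nat_lit 4] (BT.pln (nat_lit 0) (nat_lit 1) (BT.dif (nat_lit 13) (nat_lit 0) (BT.dif (nat_lit 0) (nat_lit 13) (BT.dif (nat_lit 0) (nat_lit 12) (BT.img (nat_lit 3) (nat_lit 9) (BT.frm (nat_lit 1) (nat_lit 0x222001041f) (nat_lit 0x222001041f) [nat_lit 0, nat_lit 10] (BT.pln (nat_lit 0) (nat_lit 5) (BT.and (nat_lit 19) (nat_lit 0) (BT.frm (nat_lit 2) (nat_lit 0x352f222001041f) (nat_lit 0x2d352f222001041f) [nat_lit 9, nat_lit 0, nat_lit 3, nat_lit 13] (BT.pln (nat_lit 0) (nat_lit 6) (BT.dif (nat_lit 6) (nat_lit 0) (BT.br (nat_lit 0) (nat_lit 93) [nat_lit 1] (BT.dead (nat_lit 82) (BT.frm (nat_lit 3) (nat_lit 0x352f222001041f) (nat_lit 0x332d352f222001041f) [nat_lit 0, nat_lit 13, nat_lit 4, nat_lit 7, nat_lit 17] (BT.pln (nat_lit 0) (nat_lit 5) (BT.and (nat_lit 0) (nat_lit 23) (BT.cnt (nat_lit 0))))) BT.nil)))))))))))))) (BT.kid (nat_lit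 13) (nat_lit 2) (BT.frm (nat_lit 0) (nat_lit 66591) (nat_lit 66591) [nat_lit 4] (BT.pln (nat_lit 0) (nat_lit 1) (BT.dif (nat_lit 13) (nat_lit 0) (BT.dif (nat_lit 0) (nat_lit 13) (BT.dif (nat_lit 0) (nat_lit 12) (BT.img (nat_lit 3) (nat_lit 9) (BT.frm (nat_lit 1) (nat_lit 0x222001041f) (nat_lit 0x222001041f) [nat_lit 0, nat_lit 10] (BT.pln (nat_lit 0) (nat_lit 5) (BT.and (nat_lit 19) (nat_lit 0) (BT.frm (nat_lit 2) (nat_lit 0x352f222001041f) (nat_lit 0x352f222001041f) [nat_lit 9, nat_lit 0, nat_lit 3, nat_lit 13] (BT.pln (nat_lit 0) (nat_lit 6) (BT.dif (nat_lit 6) (nat_lit 0) (BT.br (nat_lit 0) (nat_lit 93) [nat_lit 1] (BT.kid (nat_lit 93) (nat_lit 1) (BT.one (nat_lit 3) (nat_lit 0x352f222001041f) (nat_lit 0x352f222001041f) [nat_lit 0, nat_lit 13, nat_lit 4, nat_lit 7, nat_lit 17]) BT.nil)))))))))))))) BT.nil)))))) BT.nil))))))))))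

theorem CU_cnt : Cnt 100 (grp 100 EvJ2.EG) U U 0 0 0 0 2 :=
  BT.sound CU_cnt_P Known.nil (t := CU_cnt_t) (d := 0) (by decide +kernel)

theorem CU_ge : 2 ≤ Nat.card (grp 100 CU) :=
  Ch.le_card_grp (k := 7) (L := (lab 100 7)) q_hn CU_ok (c := (Ch.cons (nat_lit 93) [nat_lit 1] Ch.nil)) (by decide +kernel)

theorem CU_eq : (grp 100 EvJ2.EG) ⊓ Subgroup.centralizer (grp 100 U : Set (Equiv.Perm (Fin 100))) = grp 100 CU :=
  cent_grp_eq CU_sym CU_cnt CU_ge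

theorem CU_card : Nat.card (grp 100 CU) = 2 :=
  (CU_sym.mem_iff CU_cnt CU_ge).1

theorem CU_z : grp 100 CU ≤ grp 100 EZ :=
  grp_le_of_memB q_hn q_hk EZ_ok CU_ok (ws := [nat_lit 1]) (by decide +kernel)

theorem bx : Ej.Bx (grp 100 H47.J2P.h_E0) (grp 100 EvJ2.EG) (Net.toPerm 100 EvJ2.p_g18) (grp 100 U) :=
  ⟨by rw [EvJ2.card_N, H47.J2P.h_card0],
    Ej.syl_of_card U_G (a := 7) (m := 4725) (U_poly.card_eq rfl U_ge) (by rw [H47.J2P.h_card0]; norm_num) (by norm_num),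
    Ej.ord2 q_hn q_hk (by decide +kernel), (toPerm_mem_grp (E := U) (List.Mem.tail _ (List.Mem.tail _ (List.Mem.tail _ (List.Mem.tail _ (List.Mem.tail _ (List.Mem.tail _ (List.Mem.head _)))))))),
    fun _ hx => H62.TE.mem_c1.1 (EvG.le_cent q_hn q_hk (by decide +kernel) hx),
    fun _ hσ h => EvG.mem_single q_hn q_hk (by decide +kernel) (CU_z (CU_eq.le ⟨hσ, fun x hx => (h x hx).symm⟩)),
    ⟨_, (toPerm_mem_grp (E := U) (List.Mem.tail _ (List.Mem.head _))), _, (toPerm_mem_grp (E := U) (List.Mem.head _)), EvG.ncomm_net (k := 7) q_hn (by decide +kernel)⟩, EvJ2.rank3⟩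

theorem cls : ∀ x ∈ (grp 100 H47.J2P.h_E0), orderOf x = 2 → CjIn (grp 100 EvJ2.EG) (Net.toPerm 100 EvJ2.p_g18) x ∨ CjIn (grp 100 EvJ2.EG) (Net.toPerm 100 EvJ2.p_g52) x :=
  Ej.in_reps EvJ2.amb EvJ2.reps fun t ht => by
  rcases ht with rfl | rfl | rfl
  · exact .inl rfl
  · exact .inr (.inr EvJ2.u_G)
  · exact .inr (.inl rfl)

theorem crit : Ej.Crit (grp 100 H47.J2P.h_E0) (grp 100 EvJ2.EG) (Net.toPerm 100 EvJ2.p_g18) :=
  Ej.crit_of q_hn q_hk cls (by decide +kernel)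

theorem z_G : Net.toPerm 100 EvJ2.p_g18 ∈ (grp 100 H47.J2P.h_E0) :=
  (le_refl (grp 100 H47.J2P.h_E0)) (mem_grp_of_memB q_hn q_hk H47.J2P.h_E0_ok EvJ2.p_g18_ok (w := (nat_lit 0xc07030d)) (by decide +kernel))

theorem c_G : Net.toPerm 100 q_g29 ∈ (grp 100 H47.J2P.h_E0) :=
  (le_refl (grp 100 H47.J2P.h_E0)) (mem_grp_of_memB q_hn q_hk H47.J2P.h_E0_ok q_g29_ok (w := (nat_lit 0x1511080d020310)) (by decide +kernel))

theorem e_U : (Net.toPerm 100 EvJ2.p_g194) ∈ grp 100 U :=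
  Ej.pr_one (n := 100) EvJ2.p_g194 ▸ Ej.mem_of_inB q_hn q_hk U_ok (Ej.ok_one EvJ2.p_g194_ok) (m := 8) (by decide +kernel)

theorem k1 : ∀ y ∈ grp 100 U, y * (Net.toPerm 100 EvJ2.p_g194) = (Net.toPerm 100 EvJ2.p_g194) * y ∨ y * (Net.toPerm 100 EvJ2.p_g194) = (Net.toPerm 100 EvJ2.p_g194) * y * (Net.toPerm 100 EvJ2.p_g18) :=
  Ej.four_a q_hn q_hk U_ok EvJ2.p_g18_ok EvJ2.p_g194_ok bx.z2 (fun x hx => H62.TE.mem_c1.2 (bx.zc x hx)) (by decide +kernel)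

theorem k2 : ∀ x ∈ grp 100 U, x * x = 1 → (∀ y ∈ grp 100 U, y * x = x * y ∨ y * x = x * y * (Net.toPerm 100 EvJ2.p_g18)) → x = 1 ∨ x = (Net.toPerm 100 EvJ2.p_g18) ∨ x = (Net.toPerm 100 EvJ2.p_g194) ∨ x = (Net.toPerm 100 EvJ2.p_g18) * (Net.toPerm 100 EvJ2.p_g194) :=
  Ej.four_b q_hn q_hk U_ok U_poly EvJ2.p_g18_ok EvJ2.p_g194_ok (by decide +kernel)

theorem q_le36 : grp 100 q_V35 ≤ grp 100 EX :=
  grp_le_of_memB q_hn q_hk EX_ok q_V35_ok (ws := [nat_lit 0x101050502, nat_lit 0x406040602020406020603]) (by decide +kernel)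

theorem q_le39 : grp 100 q_V38 ≤ grp 100 q_V35 :=
  grp_le_of_memB q_hn q_hk q_V35_ok q_V38_ok (ws := [nat_lit 196868, nat_lit 0x40203020302]) (by decide +kernel)

theorem q_le41 : grp 100 q_V40 ≤ grp 100 q_V38 :=
  grp_le_of_memB q_hn q_hk q_V38_ok q_V40_ok (ws := [nat_lit 3, nat_lit 66306]) (by decide +kernel)

theorem q_le43 : grp 100 q_V42 ≤ grp 100 q_V40 :=
  grp_le_of_memB q_hn q_hk q_V40_ok q_V42_ok (ws := [nat_lit 0x3020303, nat_lit 0x30301040401]) (by decide +kernel)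

theorem EXlb_le : grp 100 EXlb_E ≤ grp 100 EX :=
  (grp_cons_le ((le_refl (grp 100 EX)) (toPerm_mem_grp (E := EX) (by simp [EX]))) (grp_cons_le ((le_refl (grp 100 EX)) (toPerm_mem_grp (E := EX) (by simp [EX]))) (grp_cons_le ((le_refl (grp 100 EX)) (toPerm_mem_grp (E := EX) (by simp [EX]))) (grp_cons_le ((q_le36.trans (le_refl (grp 100 EX))) (toPerm_mem_grp (E := q_V35) (by simp [q_V35]))) (grp_cons_le ((q_le36.trans (le_refl (grp 100 EX))) (toPerm_mem_grp (E := q_V35) (by simp [q_V35]))) (grp_cons_le ((q_le39.trans (q_le36.trans (le_refl (grp 100 EX)))) (toPerm_mem_grp (E := q_V38) (by simp [q_V38]))) (grp_cons_le ((q_le39.trans (q_le36.trans (le_refl (grp 100 EX)))) (toPerm_mem_grp (E := q_V38) (by simp [q_V38]))) (grp_cons_le ((q_le41.trans (q_le39.trans (q_le36.trans (le_refl (grp 100 EX))))) (toPerm_mem_grp (E := q_V40) (by simp [q_V40]))) (grp_cons_le ((q_le41.trans (q_le39.trans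 (q_le36.trans (le_refl (grp 100 EX))))) (toPerm_mem_grp (E := q_V40) (by simp [q_V40]))) (grp_cons_le ((q_le43.trans (q_le41.trans (q_le39.trans (q_le36.trans (le_refl (grp 100 EX)))))) (toPerm_mem_grp (E := q_V42) (by simp [q_V42]))) (grp_cons_le ((q_le43.trans (q_le41.trans (q_le39.trans (q_le36.trans (le_refl (grp 100 EX)))))) (toPerm_mem_grp (E := q_V42) (by simp [q_V42]))) (grp_nil_le _))))))))))))

noncomputable def EXlb_ch : Ch := (Ch.cons (nat_lit 1) [nat_lit 1, nat_lit 3, nat_lit 5] (Ch.cons (nat_lit 10) [nat_lit 7, nat_lit 9] (Ch.cons (nat_lit 0) [nat_lit 11, nat_lit 13] (Ch.cons (nat_lit 2) [nat_lit 15, nat_lit 17] (Ch.cons (nat_lit 3) [nat_lit 19, nat_lit 21] Ch.nil)))))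

theorem EXlb_chk : Ch.chk 100 7 (lab 100 7) EXlb_E EXlb_ch 1920 = true :=
  by decide +kernel

theorem EXlb_ge : 1920 ≤ Nat.card (grp 100 EX) :=
  (Ch.le_card_grp q_hn EXlb_E_ok EXlb_chk).trans (Subgroup.card_le_of_le EXlb_le)

theorem q_le44 : grp 100 EX ≤ grp 100 H47.J2P.h_E0 :=
  grp_le_of_memB q_hn q_hk H47.J2P.h_E0_ok EX_ok (ws := [nat_lit 0x161a0f110d1a0212, nat_lit 0x151a180709, nat_lit 0x18190f110813010c0f]) (by decide +kernel)

theorem KZ_G : grp 100 EX ≤ (grp 100 H47.J2P.h_E0) :=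
  (q_le44).trans (le_refl (grp 100 H47.J2P.h_E0))

theorem KZ_C : grp 100 EX ≤ (grp 100 H47.J2P.h_E0) ⊓ H62.TE.c1 (Net.toPerm 100 EvJ2.p_g18) :=
  le_inf KZ_G (EvG.le_cent q_hn q_hk (by decide +kernel))

theorem y_G : Net.toPerm 100 q_g45 ∈ (grp 100 H47.J2P.h_E0) :=
  (le_refl (grp 100 H47.J2P.h_E0)) (mem_grp_of_memB q_hn q_hk H47.J2P.h_E0_ok q_g45_ok (w := (nat_lit 0x1717100709020209)) (by decide +kernel))

theorem x_N : Net.toPerm 100 q_g46 ∈ (grp 100 EvJ2.EG) :=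
  T_s0.le (mem_grp_of_memB q_hn q_hk EvJ2.lb_E_ok q_g46_ok (w := (nat_lit 0x312d2723252021051f)) (by decide +kernel))

theorem x_G : (Net.toPerm 100 q_g46) ∉ (grp 100 H47.J2P.h_E0) :=
  Ej.nmem_of (EvG.mul_net q_hn q_hk (by decide +kernel)) y_G EvJ2.u_G

theorem CZ_dvd : Nat.card ↥((grp 100 H47.J2P.h_E0) ⊓ H62.TE.c1 (Net.toPerm 100 EvJ2.p_g18)) ∣ 1920 :=
  EvG.two_mul_dvd' EvJ2.amb x_N (EvG.comm_net q_hn q_hk (by decide +kernel)) (EvG.sq_net q_hn q_hk (by decide +kernel)) x_G EvJ2.nt_c1_card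

theorem CZ_le : (grp 100 H47.J2P.h_E0) ⊓ H62.TE.c1 (Net.toPerm 100 EvJ2.p_g18) ≤ grp 100 EX :=
  Ej.le_of_card KZ_C EXlb_ge CZ_dvd (by norm_num)

theorem xz : H62.EJ.Xp 3 ((grp 100 H47.J2P.h_E0) ⊓ H62.TE.c1 (Net.toPerm 100 EvJ2.p_g18)) = grp 100 EX :=
  Ej.xp_of_index KZ_C CZ_dvd (by norm_num) EXlb_ge (by norm_num) (Ej.cube q_hn q_hk (by decide +kernel))

theorem z_X : Net.toPerm 100 EvJ2.p_g18 ∈ grp 100 EX :=
  EXlb_le (mem_grp_of_memB q_hn q_hk EXlb_E_ok EvJ2.p_g18_ok (w := (nat_lit 0x130b0b)) (by decide +kernel))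

theorem q_le47 : grp 100 UB ≤ grp 100 EXlb_E :=
  grp_le_of_memB q_hn q_hk EXlb_E_ok UB_ok (ws := [nat_lit 0xf0b0b070a010901, nat_lit 2827, nat_lit 0xf0b0707, nat_lit 0xc070a010901, nat_lit 0x130b0b]) (by decide +kernel)

theorem B_X : grp 100 UB ≤ grp 100 EX :=
  (q_le47).trans EXlb_le

theorem B_n : grp 100 EX ≤ H62.TE.nz (grp 100 UB) :=
  Ej.le_nz_of_nzB q_hn q_hk UB_ok EX_ok (W := [[nat_lit 4, nat_lit 1, nat_lit 2, nat_lit 8, nat_lit 16], [nat_lit 4, nat_lit 2, nat_lit 31, nat_lit 8, nat_lit 16], [nat_lit 1, nat_lit 20, nat_lit 8, nat_lit 18, nat_lit 16]]) (by decide +kernel)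

theorem B_poly : Ej.Poly 100 UB :=
  Ej.Poly.tail (A := UA) U_poly

theorem B_ge : 2 ^ 5 ≤ Nat.card (grp 100 UB) :=
  Ej.Poly.card_tail (A := UA) (B := UB) U_poly U_ge

theorem B_U : grp 100 UB ≤ grp 100 U :=
  grp_mono (List.subset_append_right UA UB)

theorem o2z : pCoreTwoOf (H62.EJ.Xp 3 ((grp 100 H47.J2P.h_E0) ⊓ H62.TE.c1 (Net.toPerm 100 EvJ2.p_g18))) = grp 100 UB :=
  Ej.o2_eq q_hn q_hk (A := UA) (B := UB) UA_ok EF_ok EX_ok EvJ2.p_g18_ok EvJ2.p_g194_ok U_poly bx xz B_X B_n k1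
    (ws := [nat_lit 2]) (by decide +kernel) (by decide +kernel)

theorem dv : Ej.Dv (grp 100 H47.J2P.h_E0) (grp 100 EvJ2.EG) (Net.toPerm 100 EvJ2.p_g18) (grp 100 U) :=
  ⟨⟨_, CZ_le, crit.gen q_hn q_hk z_G KZ_G (m := 3) (by decide) (by decide +kernel)⟩,
    ⟨_, e_U, _, c_G, Ej.cube1 q_hn q_hk (by decide +kernel), Ej.conj_net q_hn q_hk (by decide +kernel), Ej.conj_net2 q_hn q_hk (by decide +kernel), k1, k2⟩,
    xz ▸ z_X, o2z ▸ Ej.cnt_ne q_hn q_hk UB_ok B_poly B_ge (B_U.trans U_G) EvJ2.p_g18_ok crit (by decide +kernel)⟩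

theorem q_le50 : grp 100 Y ≤ grp 100 EvJ2.lb_E :=
  grp_le_of_memB q_hn q_hk EvJ2.lb_E_ok Y_ok (ws := [nat_lit 0x2d27232622260115, nat_lit 0x3331261f1f230112]) (by decide +kernel)

theorem Y_le : grp 100 Y ≤ (grp 100 EvJ2.EG) :=
  (q_le50.trans T_s0.le)

theorem Y_sym : Sym 100 (grp 100 EvJ2.EG) EvJ2.L3 Y 0 :=
  Sym.of_lab q_hn q_hk EvJ2.L3_ok Y_ok Y_le (kT := 0) (by decide +kernel)

theorem q_le54 : grp 100 q_V53 ≤ grp 100 q_V24 :=
  grp_le_of_memB q_hn q_hk q_V24_ok q_V53_ok (ws := [nat_lit 769, nat_lit 459009]) (by decide +kernel)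

theorem T_s6 : Stab 100 (grp 100 EvJ2.EG) [nat_lit 70, nat_lit 54, nat_lit 0] q_V53 6 :=
  Stab.step (k := 7) (L := (lab 100 7)) q_hn T_s2 q_V53_ok q_le54 (c := (Ch.cons (nat_lit 18) [nat_lit 1] (Ch.cons (nat_lit 20) [nat_lit 3] Ch.nil))) (by decide +kernel)

theorem T_s7 : Stab 100 (grp 100 EvJ2.EG) [nat_lit 18, nat_lit 70, nat_lit 54, nat_lit 0] q_V55 3 :=
  Stab.step (k := 7) (L := (lab 100 7)) q_hn T_s6 q_V55_ok (grp_mono (List.subset_append_right [q_g51] _)) (c := (Ch.cons (nat_lit 20) [nat_lit 1] Ch.nil)) (by decide +kernel)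

theorem T_s8 : Stab 100 (grp 100 EvJ2.EG) [nat_lit 20, nat_lit 18, nat_lit 70, nat_lit 54, nat_lit 0] q_V56 1 :=
  Stab.step (k := 7) (L := (lab 100 7)) q_hn T_s7 q_V56_ok (grp_mono (List.subset_append_right [q_g52] _)) (c := Ch.nil) (by decide +kernel)

theorem q_g52_T : Net.toPerm 100 q_g52 ∈ (grp 100 EvJ2.EG) :=
  T_s7.le (toPerm_mem_grp (E := q_V55) (List.Mem.head _))

theorem q_g51_T : Net.toPerm 100 q_g51 ∈ (grp 100 EvJ2.EG) :=
  T_s6.le (toPerm_mem_grp (E := q_V53) (List.Mem.head _))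

noncomputable def T_s8_O : ℕ := (nat_lit 0x3333266666ccccd99999333321f07c1f03e0f83e0f83e0f83ee63398c67319ce63398c673184db24d926c93649b64db26d9200000000000000000000000010000000000040000000000000000000040000000000000000000000000000000000000400000000000000000000000100000)

theorem T_s8_F : Frame 100 (grp 100 EvJ2.EG) 5 9 T_s8_O 1 1 :=
  IsBase.frame T_s8.isBase (by decide +kernel)

noncomputable def T_s6_O : ℕ := (nat_lit 0x200000000000020000000100000000000000000000000800000080000000000040000000000000000400000000004004000800000000000080000000000020010000000000000000002100000100000000000800002000000000200000010000000000001000010000000000000000000004400100000410000000000000000000800000000000002010000000040000000000000030000000001004000000000000000000004020000100220000400400800000000400410200000010020000000000010011000000005080000800020008000000202000800000000000000080c8080001000108012010000000000000020002000000404000000000000d00000400000880400000020008000a000800000000000402004000000000000000000000000100000000000400000000000000000000400000000000000000)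

theorem T_s6_F : Frame 100 (grp 100 EvJ2.EG) 3 26 T_s6_O 0 1 :=
  Stab.frame q_hn T_s6 (by decide +kernel)

noncomputable def Y_cnt_L : List ℕ := [3, 26, T_s6_O, 0, 0, 5, 9, T_s8_O, 1, 0]

theorem Y_cnt_P : Prob 100 7 (grp 100 EvJ2.EG) Y_cnt_EG EvJ2.L3 EvJ2.L3 Y Y_cnt_L 0 0 :=
  Sym.prob q_hn q_hk Y_sym Y_cnt_EG_ok (grp_cons_le q_g20_T (grp_cons_le q_g21_T (grp_cons_le q_g22_T (grp_cons_le H47.J2P.h_g17_T (grp_cons_le q_g23_T (grp_cons_le H47.J2P.h_g131_T (grp_cons_le EvJ2.p_g1_T (grp_cons_le EvJ2.p_g2_T (grp_cons_le EvJ2.p_g5_T (grp_cons_le EvJ2.p_g6_T (grp_cons_le H47.J2P.h_g45_T (grp_cons_le H47.J2P.h_a0_T (grp_cons_le EvJ2.p_g11_T (grp_cons_le H47.J2P.h_g53_T (grp_cons_le MpJ2.a_T (grp_cons_le H47.J2P.h_g1_T (grp_cons_le H47.J2P.h_a19_T (grp_cons_le H47.J2P.h_a27_T (grp_cons_le H47.J2P.h_g7_T (grp_cons_le H47.J2P.h_g4_T (grp_cons_le H47.J2P.h_a8_T (grp_cons_le H47.J2P.h_g14_T (grp_cons_le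 H47.J2P.h_g10_T (grp_cons_le H47.J2P.h_g11_T (grp_cons_le H47.J2P.h_g21_T (grp_cons_le H47.J2P.h_g22_T (grp_cons_le H47.J2P.h_g18_T (grp_cons_le q_g52_T (grp_cons_le q_g51_T (grp_nil_le _)))))))))))))))))))))))))))))) (Frames.cons T_s6_F (Frames.cons T_s8_F Frames.nil)) EvJ2.L3_ok _

noncomputable def Y_cnt_t : BT := (BT.fix (nat_lit 1) (BT.br (nat_lit 0) (nat_lit 87) [nat_lit 1, nat_lit 3] (BT.kid (nat_lit 87) (nat_lit 3) (BT.img (nat_lit 3) (nat_lit 0) (BT.img (nat_lit 1) (nat_lit 0) (BT.frm (nat_lit 0) (nat_lit 0x411101d34) (nat_lit 0x411101d34) [nat_lit 0, nat_lit 1, nat_lit 2] (BT.pln (nat_lit 0) (nat_lit 17) (BT.br (nat_lit 0) (nat_lit 97) [nat_lit 3] (BT.kid (nat_lit 97) (nat_lit 1) (BT.img (nat_lit 3) (nat_lit 4) (BT.one (nat_lit 1) (nat_lit 0x411101d34) (nat_lit 0x411101d34) [nat_lit 1, nat_lit 0, nat_lit 4, nat_lit 5, nat_lit 6])) BT.nil)))))) BT.nil)))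

theorem Y_cnt : Cnt 100 (grp 100 EvJ2.EG) EvJ2.L3 EvJ2.L3 0 0 0 0 12 :=
  BT.sound Y_cnt_P Known.nil (t := Y_cnt_t) (d := 0) (by decide +kernel)

theorem Y_ge : 12 ≤ Nat.card (grp 100 Y) :=
  Ch.le_card_grp (k := 7) (L := (lab 100 7)) q_hn Y_ok (c := (Ch.cons (nat_lit 87) [nat_lit 1] (Ch.cons (nat_lit 97) [nat_lit 3] Ch.nil))) (by decide +kernel)

theorem Y_eq : (grp 100 EvJ2.EG) ⊓ Subgroup.centralizer (grp 100 EvJ2.L3 : Set (Equiv.Perm (Fin 100))) = grp 100 Y :=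
  cent_grp_eq Y_sym Y_cnt Y_ge

theorem Y_card : Nat.card (grp 100 Y) = 12 :=
  (Y_sym.mem_iff Y_cnt Y_ge).1

theorem EVlb_le : grp 100 EVlb_E ≤ grp 100 EV :=
  (grp_cons_le ((le_refl (grp 100 EV)) (toPerm_mem_grp (E := EV) (by simp [EV]))) (grp_cons_le ((le_refl (grp 100 EV)) (toPerm_mem_grp (E := EV) (by simp [EV]))) (grp_nil_le _)))

noncomputable def EVlb_ch : Ch := (Ch.cons (nat_lit 0) [nat_lit 1, nat_lit 3] Ch.nil)

theorem EVlb_chk : Ch.chk 100 7 (lab 100 7) EVlb_E EVlb_ch 4 = true :=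
  by decide +kernel

theorem EVlb_ge : 4 ≤ Nat.card (grp 100 EV) :=
  (Ch.le_card_grp q_hn EVlb_E_ok EVlb_chk).trans (Subgroup.card_le_of_le EVlb_le)

theorem V_Y : grp 100 EV ≤ grp 100 Y :=
  grp_le_of_memB q_hn q_hk Y_ok EV_ok (ws := [nat_lit 770, nat_lit 1025]) (by decide +kernel)

theorem V_n : grp 100 Y ≤ Subgroup.normalizer (grp 100 EV : Set (Equiv.Perm (Fin 100))) :=
  EvG.le_norm q_hn q_hk Y_ok EV_ok EV_ok le_rfl (W := [[nat_lit 3, nat_lit 259], [nat_lit 3, nat_lit 259]]) (by decide +kernel)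

theorem xs : H62.EJ.Xp 3 ((grp 100 H47.J2P.h_E0) ⊓ H62.TE.c1 (Net.toPerm 100 EvJ2.p_g52)) = grp 100 EvJ2.L3 :=
  Ej.xp_of_cmp EvJ2.amb EvJ2.cmp3 (by rw [EvJ2.L3o_card]; norm_num)

theorem ds : Ej.Ds (grp 100 H47.J2P.h_E0) (grp 100 EvJ2.EG) (Net.toPerm 100 EvJ2.p_g18) (Net.toPerm 100 EvJ2.p_g52) :=
  ⟨cls, Ej.ey_of xs Y_eq fun _ hy => Ej.sq_of_norm V_Y V_n (fun _ => EvG.sq_pair q_hn q_hk (by decide +kernel))
      (a := 2) (m := 3) EVlb_ge Y_card (by norm_num) hy,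
    xs ▸ crit.table q_hn q_hk EvJ2.L3_G EvJ2.lt3 (by decide +kernel),
    xs ▸ ⟨_, EvJ2.lt3_c1_mem, EvJ2.lt3_c1_ord, Ej.cjIn_of_cob EvJ2.j3_G (EvG.cob_net q_hn q_hk (by decide +kernel))⟩⟩

theorem pfu_s : Net.toPerm 100 q_g57 ∈ (grp 100 H47.J2P.h_E0) :=
  (le_refl (grp 100 H47.J2P.h_E0)) (mem_grp_of_memB q_hn q_hk H47.J2P.h_E0_ok q_g57_ok (w := (nat_lit 0x191712070c0301)) (by decide +kernel))

theorem pfu : Ej.Pf (grp 100 H47.J2P.h_E0) (grp 100 EvJ2.EG) (Net.toPerm 100 EvJ2.p_g18) (Net.toPerm 100 EvJ2.p_g36) :=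
  ⟨⟨_, le_inf EvJ2.cmp2.leG EvJ2.cmp2.leC, Ej.perf_of_cmp EvJ2.cmp2, _, EvJ2.lt2_c1_mem,
    crit.tc1 q_hn q_hk (EvJ2.L2_G EvJ2.lt2_c1_mem) (by decide +kernel), _, EvJ2.j2_G, EvG.cob_net q_hn q_hk (by decide +kernel)⟩,
    _, pfu_s, EvG.comm_net q_hn q_hk (by decide +kernel), crit.ntc q_hn q_hk pfu_s (by decide +kernel)⟩

theorem outr : ∀ σ ∈ (grp 100 EvJ2.EG), σ ∉ (grp 100 H47.J2P.h_E0) → orderOf σ = 2 → ∃ t, CjIn (grp 100 EvJ2.EG) t σ ∧ Ej.Pf (grp 100 H47.J2P.h_E0) (grp 100 EvJ2.EG) (Net.toPerm 100 EvJ2.p_g18) t :=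
  Ej.out_reps EvJ2.amb EvJ2.reps fun t ht => by
  rcases ht with rfl | rfl | rfl
  · exact .inl z_G
  · exact .inr pfu
  · exact .inl EvJ2.s_G

universe u

open Cfsg.Agent.H62.EJ

theorem kgJ2 : KGF.{u} (fun S _ => Spor.IsoJ2 S) := fun _ _ _ _ _ ⟨e⟩ =>
  bx.kgD1 (Ej.em_of EvJ2.amb (e.trans H47.eH0)) ds

theorem kvJ2 : KVF.{u} (fun S _ => Spor.IsoJ2 S) False := fun _ _ _ _ _ ⟨e⟩ =>
  have h := Ej.em_of EvJ2.amb (e.trans H47.eH0)
  ⟨bx.kv0D h dv ds, bx.kv2 h dv, bx.kc0 h outr⟩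

theorem kcJ2 : KCF.{u} (fun S _ => Spor.IsoJ2 S) := fun _ _ _ _ _ ⟨e⟩ _ _ _ _ hπ =>
  ⟨EvG.card_ker_eq (H80.hasSchurMultiplier_congr_left EvJ2.mult (e.trans H47.eH0).symm) hπ,
    bx.l4 (Ej.em_of EvJ2.amb (e.trans H47.eH0)) EvJ2.s_G cls hπ fun _ h => EvJ2.lift h EvJ2.s_G EvJ2.cmp3.sq
      (EvG.spin_net q_hn q_hk EvJ2.p_g52_ok (by decide +kernel))⟩

end Cfsg.Agent.H55.EjJ2
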