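import Mathlib
import Cfsg.Agent.H11.ElDefs
import Cfsg.Agent.H9.InvCount

/-!
# Project EL: the normal 2-complement of the centraliser of a point
-/

set_option autoImplicit false

namespace Cfsg.Agent.H55.ElN

open Subgroup Cfsg.Agent.H11.EL

universe u

theorem two_odd {K : Type*} [Group K] [Finite K] {t : K} (o : orderOf t = 2)
    (hc : ∀ c, Commute c t → c ∈ zpowers t) : ∃ m, Odd m ∧ Nat.card K = 2 * m := by
  have c2 : Nat.card (zpowers t) = 2 := by rw [Nat.card_zpowers, o]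
  obtain ⟨S, hS⟩ := (IsPGroup.of_card (p := 2) (n := 1) c2).exists_le_sylow
  have t1 : t ≠ 1 := by rintro rfl; simp at o
  haveI : Nontrivial S := ⟨⟨⟨t, hS (mem_zpowers t)⟩, 1, fun e => t1 (congrArg Subtype.val e)⟩⟩
  haveI := S.2.center_nontrivial
  obtain ⟨⟨z, hz⟩, z1⟩ := exists_ne (1 : center S)
  have zc : ∀ s ∈ (S : Subgroup K), Commute s z := fun s hs =>
    congrArg Subtype.val (mem_center_iff.1 hz ⟨s, hs⟩)
  have zt : zpowers (z : K) = zpowers t := by
    haveI : Fact (Nat.card (zpowers t)).Prime := ⟨c2 ▸ Nat.prime_two⟩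
    have := hc _ (zc t (hS (mem_zpowers t))).symm
    refine eq_of_le_of_card_ge (zpowers_le.2 this) ?_
    rw [c2]
    exact (one_lt_card_iff_ne_bot _).2
      (zpowers_ne_bot.2 fun e => z1 (Subtype.ext (Subtype.ext e)))
  have e : (S : Subgroup K) = zpowers t := le_antisymm (fun s hs => hc s (by
    obtain ⟨n, hn⟩ : t ∈ zpowers (z : K) := zt ▸ mem_zpowers t
    exact hn ▸ (zc s hs).zpow_right n)) hS
  refine ⟨(S : Subgroup K).index, Nat.odd_iff.2 (Nat.two_dvd_ne_zero.1 S.not_dvd_index), ?_⟩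
  rw [← (S : Subgroup K).card_mul_index, e, c2]

theorem n44 (b : Base.{u}) : N44Stmt.{u} := by
  intro G _ _ D A B t pr ⟨tK, t2, tc⟩
  have ne := pr.ne
  have cA := ne.card A pr.hA
  have lp := ne.lp A pr.hA B pr.hB pr.AB
  obtain ⟨f, s, l⟩ := b.lc1 _ _ lp
  have lt := b.lt _ _ f s lp (b.lc _ _ f s lp l)
  obtain ⟨m, mo, hm⟩ := two_odd (K := Ct (A ⊔ B)) (t := ⟨t, tK⟩) ((orderOf_coe _).symm.trans t2)
    fun c hc => by
      obtain ⟨n, hn⟩ := tc c c.2 (congrArg Subtype.val hc)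
      exact ⟨n, Subtype.ext hn⟩
  have vo : Odd (D.ncard - 1) := Nat.Even.sub_odd (by have := ne.v12; omega) ne.even odd_one
  have hC : Nat.card (Ct A) = 2 * ((D.ncard - 1) * m) := by
    rw [ne.cC A pr.hA B pr.hB pr.AB, hm]; ring
  obtain ⟨N, hN⟩ := H9.exists_index_two_of_card (vo.mul mo) hC
  have cN : Nat.card (N.map (Ct A).subtype) = (D.ncard - 1) * m := by
    have := N.card_mul_index
    rw [card_map_of_injective (Ct A).subtype_injective]
    rw [hN, hC] at this
    omega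
  have mem : ∀ c ∈ Ct A, Odd (orderOf c) → c ∈ N.map (Ct A).subtype := fun c hc ⟨k, hk⟩ => by
    refine ⟨⟨c, hc⟩, ?_, rfl⟩
    have h1 := N.pow_mem (N.sq_mem_of_index_two hN ⟨c, hc⟩) (k + 1)
    have h2 : (⟨c, hc⟩ : Ct A) ^ orderOf c = 1 := Subtype.ext (pow_orderOf_eq_one c)
    rwa [← pow_mul, show 2 * (k + 1) = orderOf c + 1 by omega, pow_succ, h2, one_mul] at h1
  have ct : N.map (Ct A).subtype ≤ Ct A := map_subtype_le _
  generalize N.map (Ct A).subtype = O at cN mem ct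
  have oo : Odd (Nat.card O) := cN ▸ vo.mul mo
  have od : ∀ x ∈ O, Odd (orderOf x) := fun x hx => oo.of_dvd_nat (orderOf_dvd_natCard _ hx)
  haveI : Fact (Nat.Prime 11) := ⟨by norm_num⟩
  haveI : IsCyclic A := isCyclic_of_prime_card cA
  have le : A ≤ O := fun a ha => mem a (fun a' ha' => by
    letI := IsCyclic.commGroup (α := A)
    exact congrArg Subtype.val (mul_comm (⟨a', ha'⟩ : A) ⟨a, ha⟩))
    ((show Odd 11 by decide).of_dvd_nat (cA ▸ orderOf_dvd_natCard _ ha))
  have nm : Nm A ≤ Nm O := fun g hg => mem_normalizer_fintype fun x hx => by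
    refine mem _ (fun a ha => ?_) ?_
    · have := ct hx _ ((mem_normalizer_iff''.1 hg a).1 ha)
      calc a * (g * x * g⁻¹) = g * (g⁻¹ * a * g * x) * g⁻¹ := by group
        _ = g * x * g⁻¹ * a := by rw [this]; group
    · rw [show g * x * g⁻¹ = MulAut.conj g x from rfl, MulEquiv.orderOf_eq]
      exact od x hx
  have tA : t ∈ Ct A := centralizer_le (SetLike.coe_subset_coe.2 le_sup_left) tK
  have tt : t * t = 1 := by rw [← sq, ← t2, pow_orderOf_eq_one]
  have ti : t⁻¹ = t := inv_eq_of_mul_eq_one_right tt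
  have fpf : ∀ x ∈ O, (t * x * t⁻¹)⁻¹ * x ∈ A → x ∈ A := fun x hx ha => by
    generalize ea : (t * x * t⁻¹)⁻¹ * x = a at ha
    have e1 : x = t * x * t⁻¹ * a := by rw [← ea]; group
    have e2 : a * t = t * a := tA a ha
    have e3 : a ^ 2 = 1 := by
      have : t * x * t⁻¹ = t * x * t⁻¹ * a ^ 2 := by
        calc t * x * t⁻¹ = t * (t * x * t⁻¹ * a) * t⁻¹ := by rw [← e1]
          _ = (t * t) * x * t⁻¹ * (a * t⁻¹) := by group
          _ = x * (t * t) * a := by rw [tt, ti, e2, one_mul, ← tt]; group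
          _ = t * x * t⁻¹ * a * a := by rw [tt, mul_one, ← e1]
          _ = _ := by rw [sq, mul_assoc]
      exact (left_eq_mul.1 this)
    have e4 : a = 1 := orderOf_eq_one_iff.1 (Nat.eq_one_of_dvd_coprimes
      (show Nat.Coprime 2 11 by norm_num) (orderOf_dvd_of_pow_eq_one e3)
      (cA ▸ orderOf_dvd_natCard _ ha))
    rw [e4, mul_one, eq_mul_inv_iff_mul_eq] at e1
    have xN := ne.ti A pr.hA B pr.hB pr.AB t tK (by rintro rfl; simp at t2) x
      (by rw [e1, mul_inv_cancel_right]; exact tK)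
    obtain ⟨k, hk, c, hc, rfl⟩ := lt.CM x (ct hx) xN
    have k1 : k ∈ zpowers t := tc k hk (mul_right_cancel (b := c) (by
      rw [mul_assoc k t, ← tA c hc, ← mul_assoc, e1, mul_assoc]))
    have k2 : k = 1 := orderOf_eq_one_iff.1 (Nat.eq_one_of_dvd_coprimes
      (Nat.coprime_two_left.2 (od k ((O.mul_mem_cancel_right (le hc)).1 hx)))
      (t2 ▸ orderOf_dvd_of_mem_zpowers k1) dvd_rfl)
    rwa [k2, one_mul]
  have tO : t ∈ Nm O := nm (centralizer_le_normalizer _ tA)
  haveI : (A.subgroupOf O).Normal := (normal_subgroupOf_iff_le_normalizer le).2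
    (ct.trans (centralizer_le_normalizer _))
  let ψ : O →* O := (O.normalizerMonoidHom ⟨t, tO⟩).toMonoidHom
  have ψe : ∀ x : O, (ψ x : G) = t * x * t⁻¹ := fun x => rfl
  let φ := QuotientGroup.map (A.subgroupOf O) (A.subgroupOf O) ψ fun x hx => by
    change (ψ x : G) ∈ A
    rw [ψe, ← tA x hx, mul_inv_cancel_right]
    exact hx
  have hφ : MonoidHom.FixedPointFree φ := fun q => QuotientGroup.induction_on q fun x hx =>
    (QuotientGroup.eq_one_iff _).2 (fpf x x.2 ((QuotientGroup.eq (s := A.subgroupOf O) (a := ψ x)).1 hx))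
  have h2 : Function.Involutive φ := fun q => QuotientGroup.induction_on q fun x =>
    congrArg QuotientGroup.mk (Subtype.ext (by
      rw [ψe, ψe, ti]
      calc t * (t * x * t) * t = t * t * x * (t * t) := by group
        _ = x := by rw [tt, one_mul, mul_one]))
  refine ⟨O, le, ct, nm, by rw [cN, hC], oo, mem, fun x hx => ?_, fun x hx y hy => ?_⟩
  · have := congrFun (hφ.coe_eq_inv_of_involutive h2) (QuotientGroup.mk ⟨x, hx⟩)
    exact (QuotientGroup.eq_one_iff (N := A.subgroupOf O) (ψ ⟨x, hx⟩ * (⟨x, hx⟩ : O))).1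
      (eq_inv_iff_mul_eq_one.1 this)
  · have := hφ.commute_all_of_involutive h2 (QuotientGroup.mk ⟨x, hx⟩) (QuotientGroup.mk ⟨y, hy⟩)
    exact (QuotientGroup.eq_one_iff (N := A.subgroupOf O)
      ((⟨x, hx⟩ : O) * (⟨y, hy⟩ : O) * (⟨x, hx⟩ : O)⁻¹ * (⟨y, hy⟩ : O)⁻¹)).1
      (commutatorElement_eq_one_iff_commute.2 this)

end Cfsg.Agent.H55.ElN
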