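import Cfsg.Agent.H35.RfQ
import Cfsg.Agent.S2649

/-! Project RF, piece QD1: a complement over the point stabilizer. -/

set_option autoImplicit false

namespace Cfsg.Agent.H55.RfQd1

open Cfsg Subgroup Cfsg.Agent.H42 Cfsg.Agent.H18.Rf Cfsg.Agent.H35.RF Cfsg.Agent.H48
open scoped symmDiff Pointwise

universe u

variable {G : Type u} [Group G] {V : Subgroup G} {ρ : NN V →* M24} {ψ : Finset GolayPt → G}

theorem pre_le (S : Subgroup M24) : pre V ρ S ≤ NN V := fun _ h => (mem_pre.1 h).1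

variable (ρ) in
/-- the projection to the point stabilizer -/
noncomputable def pr : pre V ρ G23 →* Spor.M23 where
  toFun e := ⟨(ρ (inclusion (pre_le G23) e)).1, (ρ (inclusion (pre_le G23) e)).2,
    (mem_pre.1 e.2).2⟩
  map_one' := Subtype.ext (by simp)
  map_mul' _ _ := Subtype.ext (by simp)

theorem pr_sur (st : St V ρ) : Function.Surjective (pr ρ) := fun x => by
  obtain ⟨n, hn⟩ := st.sur ⟨x.1, x.2.1⟩
  exact ⟨⟨n, coe_mem_pre.2 (by rw [hn]; exact x.2.2)⟩, 
    Subtype.ext (show (ρ n).1 = x.1 by rw [hn])⟩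

theorem pr_ker (st : St V ρ) (e : pre V ρ G23) : e ∈ (pr ρ).ker ↔ (e : G) ∈ V := by
  rw [← show _ ↔ (e : G) ∈ V from st.ker (inclusion (pre_le G23) e), MonoidHom.mem_ker,
    Subtype.ext_iff, Subtype.ext_iff]
  rfl

theorem ex_c (go : Gol V ρ ψ) (v : G) (hv : v ∈ V) : ∃ c, IsWord c ∧ none ∉ c ∧ ψ c = v := by
  obtain ⟨c, hc, rfl⟩ := go.sur v hv
  by_cases h : none ∈ c
  · refine ⟨c ∆ Finset.univ, hc.symmDiff isWord_univ, by simp [Finset.mem_symmDiff, h], ?_⟩
    rw [go.add _ _ hc isWord_univ, (go.ker _ isWord_univ).2 (Or.inr rfl), mul_one]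
  · exact ⟨c, hc, h, rfl⟩

theorem un_c (st : St V ρ) (go : Gol V ρ ψ) {c d : Finset GolayPt} (hc : IsWord c) (hd : IsWord d)
    (h1 : none ∉ c) (h2 : none ∉ d) (e : ψ c = ψ d) : c = d := by
  rcases (go.ker _ (hc.symmDiff hd)).1 (by rw [go.add _ _ hc hd, e, st.el _ (go.mem d hd)]) with
    h | h
  · exact symmDiff_eq_bot.1 h
  · have : none ∈ c ∆ d := h ▸ Finset.mem_univ _
    simp [Finset.mem_symmDiff, h1, h2] at this

theorem qd1 : Qd1Stmt.{u} := fun G _ _ V ρ ψ st go => by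
  choose f f1 f2 f3 using fun n : (pr ρ).ker => ex_c go n.1.1 ((pr_ker st n.1).1 n.2)
  have VP : V ≤ pre V ρ G23 := fun v hv => mem_pre.2 ⟨le_normalizer hv, by
    rw [(st.ker _).2 hv]; exact one_mem _⟩
  obtain ⟨H, h1, h2⟩ := S2649.result (pr ρ).ker
    (QuotientGroup.quotientKerEquivOfSurjective _ (pr_sur st))
    (AddMonoidHom.mk' (fun n => ind (f n.toMul)) fun n m => by
      rw [← ind_symmDiff]
      refine congrArg ind (un_c st go (f1 _) ((f1 _).symmDiff (f1 _)) (f2 _)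
        (by simp [Finset.mem_symmDiff, f2]) ?_)
      rw [go.add _ _ (f1 _) (f1 _), f3, f3, f3]
      rfl)
    (fun n m e => by
      have k : f n.toMul = f m.toMul := by
        rw [← support_ind (f n.toMul), ← support_ind (f m.toMul)]
        exact congrArg _ e
      exact Additive.toMul.injective (Subtype.ext (Subtype.ext (by rw [← f3, ← f3, k]))))
    (fun w => ⟨by
      rintro ⟨n, rfl⟩
      exact ⟨(isWord_iff _).1 (f1 _), if_neg (f2 _)⟩, fun ⟨hw, h0⟩ => by
      have k : IsWord (support₂ w) := (isWord_iff _).2 (by rwa [ind_support])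
      refine ⟨Additive.ofMul ⟨⟨ψ (support₂ w), VP (go.mem _ k)⟩, (pr_ker st _).2 (go.mem _ k)⟩, ?_⟩
      conv_rhs => rw [← ind_support w]
      exact congrArg ind (un_c st go (f1 _) k (f2 _) (by simp [support₂, h0]) (f3 _))⟩)
    (fun g n => by
      have k : f ⟨g * n * g⁻¹, (pr ρ).normal_ker.conj_mem n n.2 g⟩ = (pr ρ g).1 • f n := by
        refine un_c st go (f1 _) ((f1 _).smul (pr ρ g).2.1) (f2 _) (fun h => f2 n ?_) ?_
        · rwa [mem_smul_finset_iff, (Equiv.symm_apply_eq _).2 (pr ρ g).2.2.symm] at h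
        · rw [f3]
          refine Eq.trans ?_ (go.act (inclusion (pre_le G23) g) _ (f1 n))
          rw [f3]
          rfl
      funext p
      change ind (f _) p = ind (f n) ((pr ρ g).1.symm p)
      erw [k]
      simp only [ind, mem_smul_finset_iff])
  refine ⟨H.map (pre V ρ G23).subtype, eq_bot_iff.2 ?_, le_antisymm
    (sup_le (map_subtype_le _) VP) fun x hx => ?_⟩
  · rintro _ ⟨⟨x, hx, rfl⟩, hv⟩
    have : x ∈ H ⊓ (pr ρ).ker := ⟨hx, (pr_ker st x).2 hv⟩
    rw [h1] at this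
    rw [mem_bot.1 this]
    exact one_mem _
  · have : (⟨x, hx⟩ : pre V ρ G23) ∈ H ⊔ (pr ρ).ker := h2 ▸ mem_top _
    have k := mem_map_of_mem (pre V ρ G23).subtype this
    rw [Subgroup.map_sup] at k
    refine (sup_le_sup_left ?_ _ : _ ≤ H.map (pre V ρ G23).subtype ⊔ V) k
    rintro _ ⟨y, hy, rfl⟩
    exact (pr_ker st y).1 hy

end Cfsg.Agent.H55.RfQd1
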