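import Mathlib
import Cfsg.Agent.H43.Cent
import Cfsg.Agent.H43.Co3M
import Cfsg.Agent.H43.Sims

set_option autoImplicit false
set_option maxRecDepth 200000
set_option linter.style.longLine false

namespace Cfsg.Agent.H55.C3

open Cfsg.Agent.H43

theorem hn : NOk 276 := by decide

theorem hk : 276 ≤ 2 ^ 9 := by decide

noncomputable def n_b1 : Net := (Net.cons (nat_lit 1) (nat_lit 0x551111545441550044441540414144554100450504440150454051500440515004000) (Net.cons (nat_lit 2) (nat_lit 0x221013231302011313001223022130013311222332012211231313133033020323210) (Net.cons (nat_lit 4) (nat_lit 0x50b060f07060c06010d0a080d0d020804090c0d040600060a010d060d0806030500) (Net.cons (nat_lit 8) (nat_lit 0x14002600ea006c006d005800700025009c008c0023006600dd009c008600d20000) (Net.cons (nat_lit 16) (nat_lit 0xc00000ca900002fca0000ce4a0000cd480000deaa000046240000888400009980) (Net.cons (nat_lit 32) (nat_lit 0x380a3ab7000000006413d8c900000000ace19521000000000005b0b3) (Net.cons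 (nat_lit 64) (nat_lit 0xa0a6360328252ca200000000000000000000000000080923) (Net.cons (nat_lit 128) (nat_lit 0xb46130ab05996eef5987465cae715d8e) (Net.cons (nat_lit 256) (nat_lit 916927) (Net.cons (nat_lit 128) (nat_lit 499291) (Net.cons (nat_lit 64) (nat_lit 0xa0b088cb0d7be71500000000000000000cb8ce3354cc7e5b) (Net.cons (nat_lit 32) (nat_lit 0x5ec8e2fb000000006f31d8fc00000000aed07f2b00000000cd9487b4) (Net.cons (nat_lit 16) (nat_lit 0x80000c0d000006fa00000aef90000f3670000b737000067f300000c930000f9cd) (Net.cons (nat_lit 8) (nat_lit 0xb5002c005d0076000600580072002800d700a4001200e400d9005300ad00eb004f) (Net.cons (nat_lit 4) (nat_lit 0xc0b0905090e0b0c0d0f0d0e050b0e090d0f0d090e0f0e03020a0d040c0f0104030b) (Net.cons (nat_lit 2) (nat_lit 0x220011223333210110311313220133103323101310310221331323331021330201023) (Net.cons (nat_lit 1) (nat_lit 0x555011141041450040500545015050550500550544400145054551441441515544005) Net.nil)))))))))))))))))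

theorem n_b1_ok : Net.ok 276 n_b1 = true := by decide +kernel

noncomputable def n_b2 : Net := (Net.cons (nat_lit 1) (nat_lit 0x115415151451044141045440051450051055540445110110500015414454411450050) (Net.cons (nat_lit 2) (nat_lit 0x233333202200111232331013221303011211102200011320032033010012221201100) (Net.cons (nat_lit 4) (nat_lit 0xf0a0e09070806000f0d080d0b0f0c050f08030002040508080705030609080d090c) (Net.cons (nat_lit 8) (nat_lit 0x6a004e001000680055006600d10070002100bc005300ba006800af0032000b0000) (Net.cons (nat_lit 16) (nat_lit 0xdda70000d1c100002a010000e86e0000a205000040290000c9bd00005840) (Net.cons (nat_lit 32) (nat_lit 0x8e430be300000000492314620000000018df0a4b000000000003023a) (Net.cons (nat_lit 64) (nat_lit 0x840828702120301b00000000000000000000000000013c49) (Net.cons (nat_lit 128) (nat_lit 0x47f8e9616483fae189a2c21151a95b54) (Net.cons (nat_lit 256) (nat_lit 0xf7f7f) (Net.cons (nat_lit 128) (nat_lit 105950) (Net.cons (nat_lit 64) (nat_lit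 0x5adf2f5a90c9091000000000000000039afba6fe2f95cbd) (Net.cons (nat_lit 32) (nat_lit 0x3407e98f00000000c395343000000000585f1a8b00000000282be770) (Net.cons (nat_lit 16) (nat_lit 0x800009fc700005fab000060010000444c0000e80d0000384b0000719d0000b260) (Net.cons (nat_lit 8) (nat_lit 0xc40043007900600035004400f3003a004b009c007700f000900097003100c100aa) (Net.cons (nat_lit 4) (nat_lit 0xb0e060107080e000f0508070f0f0c01070a0b0003040500060f0507060b02050904) (Net.cons (nat_lit 2) (nat_lit 0x233331200200111232331013021003011211300202031320012233010010221201300) (Net.cons (nat_lit 1) (nat_lit 0x115414155451044145045440051150051055540445150110540015415454411450050) Net.nil)))))))))))))))))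

theorem n_b2_ok : Net.ok 276 n_b2 = true := by decide +kernel

noncomputable def n_b3 : Net := (Net.cons (nat_lit 1) (nat_lit 0x150001141440045001440511105501050005505401041050004400001011050014004) (Net.cons (nat_lit 2) (nat_lit 0x111120201012202220100112020202013133232232221010133100000001212200200) (Net.cons (nat_lit 4) (nat_lit 0x200060707030a0d0b0807040d0a0d0c03050d0701010f0e0d0a0408040304060400) (Net.cons (nat_lit 8) (nat_lit 0x9c0089003400a0000f00a200b1005f00750094000c0028009700c5005000090000) (Net.cons (nat_lit 16) (nat_lit 0x100005fa30000c1f60000d248000081df00000ca20000211b000016d000002000) (Net.cons (nat_lit 32) (nat_lit 0x1900063000000000ba339aab00000000249599c1000000000003100b) (Net.cons (nat_lit 64) (nat_lit 0x59031000bc9114e30000000000000000000000000005d080) (Net.cons (nat_lit 128) (nat_lit 0x960ff03728e45256ef28e5fdd553892c) (Net.cons (nat_lit 256) (nat_lit 0xff9af) (Net.cons (nat_lit 128) (nat_lit 397225) (Net.cons (nat_lit 64)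 (nat_lit 0xca9bb532ec91f2610000000000000000b2fca0503622dbe5) (Net.cons (nat_lit 32) (nat_lit 0xa8841bb2000000008a339ee90000000051919daf00000000b423104b) (Net.cons (nat_lit 16) (nat_lit 0x400005e63000082530000d7e80000c1fb00008c070000213f000013f100006426) (Net.cons (nat_lit 8) (nat_lit 0x1c008d00300024000f002200f5005f00f500140088002c009f00c10054000d0080) (Net.cons (nat_lit 4) (nat_lit 0xa00060707030a0d0b08070c0d0a0d0c03050d0701010f0e0d0a04080403040e0400) (Net.cons (nat_lit 2) (nat_lit 0x111120201012202222100112020202013133232232221010133100000001212200200) (Net.cons (nat_lit 1) (nat_lit 0x150001141440045001440511105501050005505401041050004400001011050014004) Net.nil)))))))))))))))))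

theorem n_b3_ok : Net.ok 276 n_b3 = true := by decide +kernel

noncomputable def n_s1 : Net := (Net.cons (nat_lit 1) (nat_lit 0x15515454514115555101154450511510441455051504450141445105504550144000) (Net.cons (nat_lit 2) (nat_lit 0x300231202011331203231101003300200231032030211132022323002333332102300) (Net.cons (nat_lit 4) (nat_lit 0x205080900030e0c020a04070708070a050b0708090b0f08020d0c040108000b0400) (Net.cons (nat_lit 8) (nat_lit 0x720099003000a4003d00a800a10061003100d200010060003a00bb008900d1000b) (Net.cons (nat_lit 16) (nat_lit 0x5000076bb0000d0ab000085d5000030060000dc880000285b00003f0300002e00) (Net.cons (nat_lit 32) (nat_lit 0xa14c46a100000000db0b4db80000000011fd091c0000000000054918) (Net.cons (nat_lit 64) (nat_lit 0x8200e082b026060800000000000000000000000000052010) (Net.cons (nat_lit 128) (nat_lit 0x6cb4c52cf14d3e1bf397278b0b652539) (Net.cons (nat_lit 256) (nat_lit 884601) (Net.cons (nat_lit 128) (nat_lit 468411) (Net.cons (nat_lit 64) (nat_lit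 0xaccf852394644c8000000000000000098a8bc303df08535) (Net.cons (nat_lit 32) (nat_lit 0x3965ce2000000000470e493d00000000abfa2dfd0000000018006db9) (Net.cons (nat_lit 16) (nat_lit 0x60000569a0000ff8e00000ddc0000baa7000054810000085a0000bf4200004e21) (Net.cons (nat_lit 8) (nat_lit 0xf6003d00180080001100a000a900f9009100fe002b0040007a009b008d00f5002b) (Net.cons (nat_lit 4) (nat_lit 0x2050a0904030e0c020a0407070a050a070b07080d0b0f08020f0c040108000b0400) (Net.cons (nat_lit 2) (nat_lit 0x300231202011331203231101003300200231032030211132022323002333332102300) (Net.cons (nat_lit 1) (nat_lit 0x15515454514115555101154450511510441455051504450141445105504550144000) Net.nil)))))))))))))))))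

theorem n_s1_ok : Net.ok 276 n_s1 = true := by decide +kernel

noncomputable def n_s2 : Net := (Net.cons (nat_lit 1) (nat_lit 0x410104514510510515544440044545000511050001054014405051111450551551000) (Net.cons (nat_lit 2) (nat_lit 0x121131330300110231020302012212133100210220101233013101133020300012130) (Net.cons (nat_lit 4) (nat_lit 0x40d0c0f09000c010e020b0f0f0b040102020102000e020608000301040207010002) (Net.cons (nat_lit 8) (nat_lit 0xb50011002000ad000100c5005f00ad006f00a30000006c00e60061002100810001) (Net.cons (nat_lit 16) (nat_lit 0x50000d91f00001e53000045700000d4220000436000003011000000030000a990) (Net.cons (nat_lit 32) (nat_lit 0x410dd3b800000000d086d56d0000000018f9ae680000000000048050) (Net.cons (nat_lit 64) (nat_lit 0x2414c245e021a20e00000000000000000000000000044c20) (Net.cons (nat_lit 128) (nat_lit 0x80744d3d1d8336a9bf03bad2e8759033) (Net.cons (nat_lit 256) (nat_lit 523767) (Net.cons (nat_lit 128) (nat_lit 708661) (Net.cons (nat_lit 64)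 (nat_lit 0x9f056c1581afc308000000000000000098034874f5c9d39d) (Net.cons (nat_lit 32) (nat_lit 0x87c4d10e0000000015601d6f00000000a2fe65ca0000000059404064) (Net.cons (nat_lit 16) (nat_lit 0xb0000a7b10000e9640000677300007462000036340000ad250000c31300003c7f) (Net.cons (nat_lit 8) (nat_lit 0xb5004100e100bd000800450016006100a7007e00d800f0002a0019002c005500c1) (Net.cons (nat_lit 4) (nat_lit 0xc0d0803050400000f0e060f040b06050e080808080a0f0a0403030608010b0d020a) (Net.cons (nat_lit 2) (nat_lit 0x20032310311200221111212102312121000203230011333113001231020100112130) (Net.cons (nat_lit 1) (nat_lit 0x410104514510510415544440044545410511011001054014005051111050451551400) Net.nil)))))))))))))))))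

theorem n_s2_ok : Net.ok 276 n_s2 = true := by decide +kernel

noncomputable def n_s4 : Net := (Net.cons (nat_lit 1) (nat_lit 0x450511544514110154544040141150411550401540114401511500101415141511500) (Net.cons (nat_lit 2) (nat_lit 0x330003013311222121221031023203012312011130232210312133211330001212020) (Net.cons (nat_lit 4) (nat_lit 0x8010d0903090402070d0d01070b050406010b040c08010800020b030e0f05060900) (Net.cons (nat_lit 8) (nat_lit 0xc2002900c600620091009d004100ca00df0076004c001000de001c001500ec0008) (Net.cons (nat_lit 16) (nat_lit 0x4000085d700001b0d00005623000050640000c239000022250000a248000000e0) (Net.cons (nat_lit 32) (nat_lit 0x2480da17000000008a5c292200000000025074570000000000004ce1) (Net.cons (nat_lit 64) (nat_lit 0x12041930c003368500000000000000000000000000080401) (Net.cons (nat_lit 128) (nat_lit 0xf056c82c4d8939ceebf013da98adeaac) (Net.cons (nat_lit 256) (nat_lit 913133) (Net.cons (nat_lit 128) (nat_lit 765629) (Net.cons (nat_lit 64)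 (nat_lit 0x225e09ff0307278000000000000000003d53295ab3df50a6) (Net.cons (nat_lit 32) (nat_lit 0xf962466500000000521e3d6400000000073f6745000000009c07c877) (Net.cons (nat_lit 16) (nat_lit 0x2c370000d62f000077f500003ff700007ebf00006fe00000a7c800004c24) (Net.cons (nat_lit 8) (nat_lit 0xc600fd008200e200c3001d004300da008e00620008008400ca0019009900e8001d) (Net.cons (nat_lit 4) (nat_lit 0x8010809070d0106030d0d05070f010403050f040909050900060b020f0b01070b00) (Net.cons (nat_lit 2) (nat_lit 0x330103003211232121231031023302003213001120232310212322211321111212020) (Net.cons (nat_lit 1) (nat_lit 0x451511544514110154544040141150411550401540114401511500101415141511500) Net.nil)))))))))))))))))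

theorem n_s4_ok : Net.ok 276 n_s4 = true := by decide +kernel

noncomputable def n_t : Net := (Net.cons (nat_lit 1) (nat_lit 0x4111411410400444111541110555500500440404414045111454414001440000000) (Net.cons (nat_lit 2) (nat_lit 0x321320212201213231031022302203101200232203123200333120130310000010020) (Net.cons (nat_lit 4) (nat_lit 0xd060f0a09020e01060d040d050a03080d02060e000a0a08050c0006040101080400) (Net.cons (nat_lit 8) (nat_lit 0xb200f2001a00c80079007000af00100040008600a4002000000042000000240002) (Net.cons (nat_lit 16) (nat_lit 0x7000098db0000c9500000151400002a430000f44a0000f40700005a4800000410) (Net.cons (nat_lit 32) (nat_lit 0xe11afdd500000000c8004fa10000000000ca3d5500000000000406a2) (Net.cons (nat_lit 64) (nat_lit 0x48d19103003526ca00000000000000000000000000008501) (Net.cons (nat_lit 128) (nat_lit 0x73eab1edd0964f71191f4aee10e120b3) (Net.cons (nat_lit 256) (nat_lit 894899) (Net.cons (nat_lit 128) (nat_lit 75967) (Net.cons (nat_lit 64) (nat_lit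 0x8a8b941f6d3dfcca0000000000000000841a141c0c01ad81) (Net.cons (nat_lit 32) (nat_lit 0xf21abf850000000098015fa30000000017c22f1f00000000560506b3) (Net.cons (nat_lit 16) (nat_lit 0x70000dafa00008ac00000770c00002bc30000b6b20000d72f00005a4900008491) (Net.cons (nat_lit 8) (nat_lit 0xb200a6005a00880059002000af0050004800d600e4004000600072002000240042) (Net.cons (nat_lit 4) (nat_lit 0xd060e0a09020e01060d040d050a03080c02070e000a0b08050d00060400010b0400) (Net.cons (nat_lit 2) (nat_lit 0x321322212211213231131022302203101200232203123200333120130310000010220) (Net.cons (nat_lit 1) (nat_lit 0x4111411410400444111541110555500500440404414045111454414001440000000) Net.nil)))))))))))))))))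

theorem n_t_ok : Net.ok 276 n_t = true := by decide +kernel

noncomputable def n_u : Net := (Net.cons (nat_lit 1) (nat_lit 0x50151055005040040400545054551411010114101100015055054015414041110000) (Net.cons (nat_lit 2) (nat_lit 0x333023230203123313021112222231202222133323203310032032233200220122100) (Net.cons (nat_lit 4) (nat_lit 0xf050a07010206020f080607050f00070c0a0e070b0b090a080401040b0208040a) (Net.cons (nat_lit 8) (nat_lit 0xb000d8006700cf007e000e002700f4004d0090005400ee003000c9002200600000) (Net.cons (nat_lit 16) (nat_lit 0xb000044000000d57000007a6a0000e6b80000807000008450000041c80000c000) (Net.cons (nat_lit 32) (nat_lit 0x3049326000000001b2240410000000015010aec0000000000028840) (Net.cons (nat_lit 64) (nat_lit 0x242c2084026a405a00000000000000000000000000000af0) (Net.cons (nat_lit 128) (nat_lit 0xf2124ad85f467a5a0e3ebc64dd204b1b) (Net.cons (nat_lit 256) (nat_lit 773115) (Net.cons (nat_lit 128) (nat_lit 552723) (Net.cons (nat_lit 64) (nat_lit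 0x807e67859c1ec03e0000000000000000a1d520489c9c2af4) (Net.cons (nat_lit 32) (nat_lit 0x8165916a000000009be80001000000009705cfed00000000a02ecb81) (Net.cons (nat_lit 16) (nat_lit 0x30000428c0000d5fe00007c6e0000f6be0000a8740000847a000065c40000c20e) (Net.cons (nat_lit 8) (nat_lit 0xb400b8006700cf007e000e000500b4006d0092005600ee007200c9002200420002) (Net.cons (nat_lit 4) (nat_lit 0xf050807030606020d080607050f02030c080e070b0f090a0a04010409020a060a) (Net.cons (nat_lit 2) (nat_lit 0x333023230203123313021112222231202222133323203310032032233200220122100) (Net.cons (nat_lit 1) (nat_lit 0x50151055005040040400545054551411010114101100015055054015414041110000) Net.nil)))))))))))))))))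

theorem n_u_ok : Net.ok 276 n_u = true := by decide +kernel

noncomputable def n_w : Net := (Net.cons (nat_lit 1) (nat_lit 0x504440004054544141141545501114404055100454405455400141041411400440000) (Net.cons (nat_lit 2) (nat_lit 0x100122023221201123030111013302012320312210312011320031011222203002000) (Net.cons (nat_lit 4) (nat_lit 0x40a0e0c0d0c010a080b0f0205050c0b09030406050d0805090a0a04090506040401) (Net.cons (nat_lit 8) (nat_lit 0x4c0011004800b4006e009700d600410030008800080040000a008f00c600800000) (Net.cons (nat_lit 16) (nat_lit 0x30000c82c000094a00000840e0000a4c90000476c0000a1030000145000001010) (Net.cons (nat_lit 32) (nat_lit 0xa7434590000000001fe94c6700000000271151780000000000081818) (Net.cons (nat_lit 64) (nat_lit 0x82800600480450800000000000000000000000000000041) (Net.cons (nat_lit 128) (nat_lit 0xfcf84acc53fa460391140e292740c48e) (Net.cons (nat_lit 256) (nat_lit 974047) (Net.cons (nat_lit 128) (nat_lit 116622) (Net.cons (nat_lit 64) (nat_lit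 0x883b8653a3c04f490000000000000000b60317320f40264d) (Net.cons (nat_lit 32) (nat_lit 0x9b477791000000000ff95b66000000003315d7780000000060a87af9) (Net.cons (nat_lit 16) (nat_lit 0x30000ca2c0000d0a00000800e0000a4c90000436f0000c103000070d20000d690) (Net.cons (nat_lit 8) (nat_lit 0x4d0021004800b4006e00a700f60051005400880018005000aa00cf00f600800060) (Net.cons (nat_lit 4) (nat_lit 0x60a0e0e0d0c010a0a0b0f0205050c0f0d070406050d08070b0a0a04090506040401) (Net.cons (nat_lit 2) (nat_lit 0x100122023221201123130111013302012320312210312011320031011222203002000) (Net.cons (nat_lit 1) (nat_lit 0x504440004054544141141545501114404055100454405455400141041411400440000) Net.nil)))))))))))))))))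

theorem n_w_ok : Net.ok 276 n_w = true := by decide +kernel

noncomputable def n_x : Net := (Net.cons (nat_lit 1) (nat_lit 0x511411145150105005100515444101445451001455510450004140041014140000000) (Net.cons (nat_lit 2) (nat_lit 0x221121331320302300333132201003032333202100203013000300023120020130200) (Net.cons (nat_lit 4) (nat_lit 0x6040e000a03010d0d000508060f050e0b000903080b0a0a00080e0b0d0101000200) (Net.cons (nat_lit 8) (nat_lit 0xeb008400de007000b20072005a00da00a100b0003800040044004200a100640001) (Net.cons (nat_lit 16) (nat_lit 0xd000018280000506a0000c60f000054ab000034500000042a00008d0400002500) (Net.cons (nat_lit 32) (nat_lit 0xd53228010000000011530581000000005e0002c200000000000500a9) (Net.cons (nat_lit 64) (nat_lit 0xa8003041c310161e000000000000000000000000000e0082) (Net.cons (nat_lit 128) (nat_lit 0xf4a6594a4b833efa4af62b39b0b3155c) (Net.cons (nat_lit 256) (nat_lit 996863) (Net.cons (nat_lit 128) (nat_lit 138589) (Net.cons (nat_lit 64) (nat_lit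 0xe90871e093dd1e3e00000000000000005020079054ce4b93) (Net.cons (nat_lit 32) (nat_lit 0xe73e2a21000000001d7b07b5000000002a0040f200000000152d86fc) (Net.cons (nat_lit 16) (nat_lit 0xc00001c290000d04b0000862e000094ba000070710000c42b0000891500006120) (Net.cons (nat_lit 8) (nat_lit 0xeb008400de007400b20052005a00da009100b4001800240044004200a100640001) (Net.cons (nat_lit 4) (nat_lit 0x60c0b000e06050d0d000508060f050a0b000d07080f0a0a00080e0b0d0101000600) (Net.cons (nat_lit 2) (nat_lit 0x221121330321202200333133201003033233202100203113000310023120020130300) (Net.cons (nat_lit 1) (nat_lit 0x511411145150105005100515444101445415001455510450004140045014540000000) Net.nil)))))))))))))))))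

theorem n_x_ok : Net.ok 276 n_x = true := by decide +kernel

noncomputable def n_v : Net := (Net.cons (nat_lit 1) (nat_lit 0x100101400154540101410510504414455554054140014105000515555115005114000) (Net.cons (nat_lit 2) (nat_lit 0x132331103232131111222112000130333120320013310321031112210320122010110) (Net.cons (nat_lit 4) (nat_lit 0x30006080909050903090c070108020b0f0705000d070b00000b0c0a080902060000) (Net.cons (nat_lit 8) (nat_lit 0x90004c00ce007d000f00e8005a00f200dc007d0004008100df0021008200440004) (Net.cons (nat_lit 16) (nat_lit 0x50000fa8d0000506a00001610000019be0000d8cf000080740000438800003850) (Net.cons (nat_lit 32) (nat_lit 0x88eba8b200000000c11141a10000000031528e0400000000000cc021) (Net.cons (nat_lit 64) (nat_lit 0x204000021c3942950000000000000000000000000004c6b9) (Net.cons (nat_lit 128) (nat_lit 0x1842033a6e568b4f259310a4d2e00598) (Net.cons (nat_lit 256) (nat_lit 851965) (Net.cons (nat_lit 128) (nat_lit 741642) (Net.cons (nat_lit 64) (nat_lit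 0x781532b88ce212af0000000000000000ce8e14f9ab241e21) (Net.cons (nat_lit 32) (nat_lit 0x33989b1d000000006c925460000000000d23ab0400000000b85709a1) (Net.cons (nat_lit 16) (nat_lit 0xd0000c89f000006920000975a000092b60000ec5500003a6600004f000000b6f0) (Net.cons (nat_lit 8) (nat_lit 0x8007400f600a700f7007a00ab0060002900c50094005900ed0079001300540076) (Net.cons (nat_lit 4) (nat_lit 0xf080e0401010d010b01000f09080e0b030b0d08050b03080807020200010a0e0808) (Net.cons (nat_lit 2) (nat_lit 0x122331103232131111222112011130333121320013310331131112210320122010110) (Net.cons (nat_lit 1) (nat_lit 0x100101400154540101410510504414455554054140014105000515555115005114000) Net.nil)))))))))))))))))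

theorem n_v_ok : Net.ok 276 n_v = true := by decide +kernel

noncomputable def n_a : Net := (Net.cons (nat_lit 1) (nat_lit 0x405550014544550105554514044405441541444551040145545544550155445141450) (Net.cons (nat_lit 2) (nat_lit 0x313200013020013321003002210110302002321033110133322132120111130230200) (Net.cons (nat_lit 4) (nat_lit 0xd0c03020c020d0801020f09010f000908040003000c010008080604070c09050502) (Net.cons (nat_lit 8) (nat_lit 0x8f007500b50087006200440014003d008a00c000da000f008300190063006d0008) (Net.cons (nat_lit 16) (nat_lit 0x800003eeb000005920000f00e0000ee1c00001568000084b900000784000021d0) (Net.cons (nat_lit 32) (nat_lit 0x1b88c1b900000000e69e73a3000000008393088c0000000000010808) (Net.cons (nat_lit 64) (nat_lit 0x302f6748a57552e00000000000000000000000000030810) (Net.cons (nat_lit 128) (nat_lit 0x4337ca9b28f2152080dd34e7f7a10516) (Net.cons (nat_lit 256) (nat_lit 212446) (Net.cons (nat_lit 128) (nat_lit 802828) (Net.cons (nat_lit 64) (nat_lit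 0x98c3146e0e1d0c6400000000000000001d0faf95b0c1c911) (Net.cons (nat_lit 32) (nat_lit 0x4a0cc70e000000001bee08ff00000000e215597d0000000080aebe7a) (Net.cons (nat_lit 16) (nat_lit 0x10000cc490000d3b50000cd150000eb3400009c7e0000e221000087a800003cad) (Net.cons (nat_lit 8) (nat_lit 0xcd009d002f00e9006a006d003f000f005000be00b1007f008800ea00f800e9005b) (Net.cons (nat_lit 4) (nat_lit 0xc0c0b030e01050a070702090a080f0807070701030e06020709020a0c0003000309) (Net.cons (nat_lit 2) (nat_lit 0x321213322323220323233033123201111113023101331033222220320122332210221) (Net.cons (nat_lit 1) (nat_lit 0x400441400051400005044104411514554044450550001551410115541155415541140) Net.nil)))))))))))))))))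

theorem n_a_ok : Net.ok 276 n_a = true := by decide +kernel

noncomputable def n_b : Net := (Net.cons (nat_lit 1) (nat_lit 0x151411140405014445401050114150100501044440410144051511514115114545104) (Net.cons (nat_lit 2) (nat_lit 0x33021311220310321112112322021131222232021113310012032022211320101100) (Net.cons (nat_lit 4) (nat_lit 0x303070a0009030701080e0505070809090601030d070e0f090f000b0309030e0a04) (Net.cons (nat_lit 8) (nat_lit 0xf100ae00e200720020001e001c005400e100ac00d8000800ea0044009f00030003) (Net.cons (nat_lit 16) (nat_lit 0x5000021c900001650000088030000465500004a3a00003945000054220000de90) (Net.cons (nat_lit 32) (nat_lit 0x248c3302000000000607c94d000000000c3c77020000000000030b00) (Net.cons (nat_lit 64) (nat_lit 0xb0c9a520f348173600000000000000000000000000047390) (Net.cons (nat_lit 128) (nat_lit 0xa1d00c444262e9abae2e56cbfd4007f) (Net.cons (nat_lit 256) (nat_lit 524287) (Net.cons (nat_lit 128) (nat_lit 971026) (Net.cons (nat_lit 64) (nat_lit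 0x2671a2558e09df4a0000000000000000b08193025dff56ad) (Net.cons (nat_lit 32) (nat_lit 0xe15d21500000000005e75f6500000000911b57600000000078e5f4c0) (Net.cons (nat_lit 16) (nat_lit 0xa0000a927000077050000b0a4000021240000f5bd0000819600008689000079ac) (Net.cons (nat_lit 8) (nat_lit 0x3100c2007f0007008c00da00400052009900c80033008b001f0012003c001300aa) (Net.cons (nat_lit 4) (nat_lit 0xe0d0e010d0b0d0d08080f070c0805080e0b0701030a070c050e070509010b0d0b0e) (Net.cons (nat_lit 2) (nat_lit 0x133222131230103101120102330020022131132100030212102011221210121330200) (Net.cons (nat_lit 1) (nat_lit 0x445011154544555414555555001441041405100404450410045051400001515155451) Net.nil)))))))))))))))))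

theorem n_b_ok : Net.ok 276 n_b = true := by decide +kernel

noncomputable def n_k1 : Net := (Net.cons (nat_lit 1) (nat_lit 0x400450101104451401514050454500511554511110405015400540454504510151444) (Net.cons (nat_lit 2) (nat_lit 0x301200130020320200002330200210023130110123000020022113132000020122230) (Net.cons (nat_lit 4) (nat_lit 0x90f0e00070c0e0b0b000f020a06010703050f0802090d0c000f030f050002000f09) (Net.cons (nat_lit 8) (nat_lit 0xf900e300580085001e0006007400b6007500fc00b8004500580010007300280002) (Net.cons (nat_lit 16) (nat_lit 0x60000b41300005e0c0000bc1b000092090000e27e0000a8460000590400007800) (Net.cons (nat_lit 32) (nat_lit 0x9014e02800000000437c39e50000000016cd062600000000000d8b40) (Net.cons (nat_lit 64) (nat_lit 0x96dc28a2e0014b48000000000000000000000000000843c8) (Net.cons (nat_lit 128) (nat_lit 0x9a3663a3f0d7e7b96cc98d4013ac70c5) (Net.cons (nat_lit 256) (nat_lit 916431) (Net.cons (nat_lit 128) (nat_lit 318630) (Net.cons (nat_lit 64) (nat_lit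 0xfbf2fd306544114100000000000000008e94584203d82e5f) (Net.cons (nat_lit 32) (nat_lit 0x6c5caac80000000007be9135000000001511572800000000269ab660) (Net.cons (nat_lit 16) (nat_lit 0x700006d8300000b0e0000c47a000068eb00008f7700005ef20000c92900005ee6) (Net.cons (nat_lit 8) (nat_lit 0xe100ae00a8004300ef005400da00d800bf00d000db0072008900ba007f002f00e5) (Net.cons (nat_lit 4) (nat_lit 0x202070e0608010004060e0b020c090b0b0b0c07040100030404010c00010f0b06) (Net.cons (nat_lit 2) (nat_lit 0x211303322030320022323212331122121132100230003212331100323201031123330) (Net.cons (nat_lit 1) (nat_lit 0x100405551014414001004101514155410555511511504001505411040015110545550) Net.nil)))))))))))))))))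

theorem n_k1_ok : Net.ok 276 n_k1 = true := by decide +kernel

noncomputable def n_k2 : Net := (Net.cons (nat_lit 1) (nat_lit 0x414145155450000415414504504405144011111105550511404555514051010501544) (Net.cons (nat_lit 2) (nat_lit 0x122112223211122312231013230223210010213030023320300112010223210302120) (Net.cons (nat_lit 4) (nat_lit 0x8020604040401010d010c05090e04080d0d010801020b0804050106020007080801) (Net.cons (nat_lit 8) (nat_lit 0xc4000400550063004d002f00fa00c500d800260001004700ad00820020000a000a) (Net.cons (nat_lit 16) (nat_lit 0x1000018d60000d01a00007e0c000030f8000041440000e4620000926800000820) (Net.cons (nat_lit 32) (nat_lit 0x66f915d1000000002108a2440000000004848e36000000000000e2b1) (Net.cons (nat_lit 64) (nat_lit 0x430b0c860010451500000000000000000000000000094206) (Net.cons (nat_lit 128) (nat_lit 0x14177da5ebf0c7384b4cb35379a1248b) (Net.cons (nat_lit 256) (nat_lit 782015) (Net.cons (nat_lit 128) (nat_lit 405541) (Net.cons (nat_lit 64)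 (nat_lit 0x2dc5811350e384730000000000000000145c302600b2f97a) (Net.cons (nat_lit 32) (nat_lit 0xd893554000000000a884a4d600000000ec0bb3bc0000000025575e66) (Net.cons (nat_lit 16) (nat_lit 0x200003da60000370900007f9a00005fe80000b28d00002e080000b9e000004cd8) (Net.cons (nat_lit 8) (nat_lit 0x200c10096003b00ae003c00f6000900a400ed00d4004c003f0073007600c90000) (Net.cons (nat_lit 4) (nat_lit 0x40b040f03010d0805060c060800020c0b0705010b02090400060b0e070702070d05) (Net.cons (nat_lit 2) (nat_lit 0x300221331303003112210130121111300230013010002323310310200330133233131) (Net.cons (nat_lit 1) (nat_lit 0x454505515044105555514501001414505441014100050445400551010440010445454) Net.nil)))))))))))))))))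

theorem n_k2_ok : Net.ok 276 n_k2 = true := by decide +kernel

noncomputable def n_k3 : Net := (Net.cons (nat_lit 1) (nat_lit 0x510110145441415111515115454155545041445451444041015041500041440511104) (Net.cons (nat_lit 2) (nat_lit 0x311130223001121333033132230032022021221312020133100321223100101003000) (Net.cons (nat_lit 4) (nat_lit 0x50f06030b0b03030c0400050d0308090405050006030d0303090b0a06090506090d) (Net.cons (nat_lit 8) (nat_lit 0x22005c00b7000200fe0099009400c000420044005300b800a40059003d005b0000) (Net.cons (nat_lit 16) (nat_lit 0xe00006a3d0000cc0800001dc40000e33d0000b3c00000a94800003c10000012c0) (Net.cons (nat_lit 32) (nat_lit 0xb80b58cf000000001abbe9c7000000009604b3c70000000000008a0e) (Net.cons (nat_lit 64) (nat_lit 0xc842b544d10c048e0000000000000000000000000000b01c) (Net.cons (nat_lit 128) (nat_lit 0xb50b97472123ae905a506209fce5009a) (Net.cons (nat_lit 256) (nat_lit 900062) (Net.cons (nat_lit 128) (nat_lit 661622) (Net.cons (nat_lit 64)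 (nat_lit 0xeef8823373cd4c3b0000000000000000876ab13fec1fe63c) (Net.cons (nat_lit 32) (nat_lit 0x2a94bf8d000000007a7bbcc100000000ad8c7f7f00000000ab3160b2) (Net.cons (nat_lit 16) (nat_lit 0x6000064be0000c5b9000025910000f26c0000e5440000e8f6000082390000e264) (Net.cons (nat_lit 8) (nat_lit 0xc300b0007500e100c200ed00460051000300d2005700c500e3001c00b000400018) (Net.cons (nat_lit 4) (nat_lit 0xc010506060305010606000e0f0f010c060d0f020205090a09030f090201060b0f05) (Net.cons (nat_lit 2) (nat_lit 0x130002233332322121031322332130122121201222200211112213313200010212020) (Net.cons (nat_lit 1) (nat_lit 0x10015151541501454101014154455540405145454441505014511155040010545104) Net.nil)))))))))))))))))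

theorem n_k3_ok : Net.ok 276 n_k3 = true := by decide +kernel

noncomputable def n_k4 : Net := (Net.cons (nat_lit 1) (nat_lit 0x554400004450114014145114054415040111050001411414005400445405541405504) (Net.cons (nat_lit 2) (nat_lit 0x1123120132100222320332012110300233102220111110223301331122000011000) (Net.cons (nat_lit 4) (nat_lit 0x20d0b040900030c0105000d040f06060900070a0b0a0c060901000f060d0c0f020d) (Net.cons (nat_lit 8) (nat_lit 0xd60092009d00bc00740017000a0073000100a200ed00c5003600b4004c000d0003) (Net.cons (nat_lit 16) (nat_lit 0xb0000ada40000b790000036610000c27f00000fb000009dc00000520400000200) (Net.cons (nat_lit 32) (nat_lit 0x893fe863000000002273b2e50000000015820210000000000003004a) (Net.cons (nat_lit 64) (nat_lit 0xd2140c820238012600000000000000000000000000038210) (Net.cons (nat_lit 128) (nat_lit 0x28fa54862564ab66fb26c9080adc2ca8) (Net.cons (nat_lit 256) (nat_lit 0xfaefa) (Net.cons (nat_lit 128) (nat_lit 0xf7089) (Net.cons (nat_lit 64)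 (nat_lit 0xf0d1709a13f44e610000000000000000311642410cdc402e) (Net.cons (nat_lit 32) (nat_lit 0xd9d611b5000000002d31b25e00000000724462430000000015a289d3) (Net.cons (nat_lit 16) (nat_lit 0x7a820000741600005c0f00008e6f00006c8600008a560000fb880000a57c) (Net.cons (nat_lit 8) (nat_lit 0xd4009d00af009300850055006d00c2004c003200f70040000800a700d5003400bf) (Net.cons (nat_lit 4) (nat_lit 0x907070804020d070200000c0e0b050700010604010a0a07090a080f090504060b0f) (Net.cons (nat_lit 2) (nat_lit 0x33002313211001312200313132222111232102001200301223102200333223220110) (Net.cons (nat_lit 1) (nat_lit 0x110001155500051551144150545011400045010100111500045401405415140411140) Net.nil)))))))))))))))))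

theorem n_k4_ok : Net.ok 276 n_k4 = true := by decide +kernel

noncomputable def n_k5 : Net := (Net.cons (nat_lit 1) (nat_lit 0x554410014151455441455514004015444010515405151110044410404510401404400) (Net.cons (nat_lit 2) (nat_lit 0x331221231133300003302011122123123310130022321302112230022220311201000) (Net.cons (nat_lit 4) (nat_lit 0xa0407060f0105000004030a05010b0a0f0e050501050f0f0007070d03070c080205) (Net.cons (nat_lit 8) (nat_lit 0x480069004c001b00bc0012001900b8002f000000c3006f0058001f004c006c0003) (Net.cons (nat_lit 16) (nat_lit 0x19f00000e70000004e850000fc60000040760000064400007c1300000280) (Net.cons (nat_lit 32) (nat_lit 0xa87938220000000024821e3a00000000dc809a610000000000044004) (Net.cons (nat_lit 64) (nat_lit 0x8aa0903146e4dc0100000000000000000000000000090212) (Net.cons (nat_lit 128) (nat_lit 0x68d779482c4cc467f229c477cba6431f) (Net.cons (nat_lit 256) (nat_lit 0xfd39f) (Net.cons (nat_lit 128) (nat_lit 874734) (Net.cons (nat_lit 64) (nat_lit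 0x148bd1f0c82006110000000000000000e8f162df15dfe0cf) (Net.cons (nat_lit 32) (nat_lit 0x8d54a64a00000000346d4e3200000000968de81d0000000058c6ac8e) (Net.cons (nat_lit 16) (nat_lit 0x8000017f3000001cc0000329400000122000023f400003aa80000b42100001ab8) (Net.cons (nat_lit 8) (nat_lit 0x48006d00ec00e100ed0009004b00780022007000d600350046002b00bc00dc00ad) (Net.cons (nat_lit 4) (nat_lit 0xa0409010a01030e00000e0e0c0600080003000a020a090b0003030b010707050d0e) (Net.cons (nat_lit 2) (nat_lit 0x111232112320111223212210333323030031323333313032112332221212032210111) (Net.cons (nat_lit 1) (nat_lit 0x514455041545455444505554514554055100514441111445404115045500544015140) Net.nil)))))))))))))))))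

theorem n_k5_ok : Net.ok 276 n_k5 = true := by decide +kernel

noncomputable def n_k6 : Net := (Net.cons (nat_lit 1) (nat_lit 0x141011500514144151545504004415000540400055151110150104144115501040100) (Net.cons (nat_lit 2) (nat_lit 0x303213022003223123032323021012310202311322020113120321133032112133300) (Net.cons (nat_lit 4) (nat_lit 0xb0e070a000c08020d07080a040803030b0b00090209060006040904010a0f0b0804) (Net.cons (nat_lit 8) (nat_lit 0x91008200d700cd00e300de001f004400890001008400c4000e00c0005100600002) (Net.cons (nat_lit 16) (nat_lit 0xe0000e4f80000c418000006720000a94a000028de0000184c0000004b00009000) (Net.cons (nat_lit 32) (nat_lit 0x3205518000000003ca402c100000000170483820000000000089001) (Net.cons (nat_lit 64) (nat_lit 0x4c3c25845c4db22e00000000000000000000000000050091) (Net.cons (nat_lit 128) (nat_lit 0x9329513cacbe224cdc95a4c3d3cc5842) (Net.cons (nat_lit 256) (nat_lit 915671) (Net.cons (nat_lit 128) (nat_lit 509984) (Net.cons (nat_lit 64) (nat_lit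 0xbcbf753f070eeb43000000000000000037f6dfa2133e34a0) (Net.cons (nat_lit 32) (nat_lit 0xed75941300000000a33ec8b100000000beada3ff00000000323ea8eb) (Net.cons (nat_lit 16) (nat_lit 0xc0000e8ac00001fb00000c55000004d1a00000e8c0000bf4b0000532a000039fa) (Net.cons (nat_lit 8) (nat_lit 0x9100d400cb006200a20094001000ac0013003700bf009300fb0048001200b30025) (Net.cons (nat_lit 4) (nat_lit 0xb0e0e04090c090e020b01010c0c0206020b000e0f0d0d0e02050d03030b0e010a09) (Net.cons (nat_lit 2) (nat_lit 0x303123202030232301032220330201101122010133001120132331230233110303001) (Net.cons (nat_lit 1) (nat_lit 0x145141154014015550044451411401400405540551451410515054500114505544154) Net.nil)))))))))))))))))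

theorem n_k6_ok : Net.ok 276 n_k6 = true := by decide +kernel

noncomputable def n_k7 : Net := (Net.cons (nat_lit 1) (nat_lit 0x110004540045545415115054104054001451515544004501545444101541445045000) (Net.cons (nat_lit 2) (nat_lit 0x323121011223232201102133030213201301123310111020222120230323012102000) (Net.cons (nat_lit 4) (nat_lit 0x4030b000e070a060d09070c0d060c0a080c070b0d0f060e030501040c0e020e0200) (Net.cons (nat_lit 8) (nat_lit 0x66002600b90008002400e00094005200e3006e0011005b00f40064003b00620004) (Net.cons (nat_lit 16) (nat_lit 0xa0000b22c0000c971000013f30000b5d60000b4640000f88c0000228300002080) (Net.cons (nat_lit 32) (nat_lit 0x2311935a000000006a0c1c4500000000e01283e80000000000084003) (Net.cons (nat_lit 64) (nat_lit 0x8482024712de7a20000000000000000000000000004a321) (Net.cons (nat_lit 128) (nat_lit 0x9eb901e504cbdd2892c46c5a73bdc2a2) (Net.cons (nat_lit 256) (nat_lit 0xfe3a3) (Net.cons (nat_lit 128) (nat_lit 176313) (Net.cons (nat_lit 64)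 (nat_lit 0xb258aaa1b82fec3f00000000000000001d59c3d1e791c203) (Net.cons (nat_lit 32) (nat_lit 0x46536da8000000001bb21e0b00000000038eeb72000000000f298c7c) (Net.cons (nat_lit 16) (nat_lit 0xf0000c4bc0000a63f0000ea0b000088940000ae7f00005b690000e8f700001faa) (Net.cons (nat_lit 8) (nat_lit 0xc7006b002c00c800ae0083007600c6003e0064000b0003008300d2003e0043007c) (Net.cons (nat_lit 4) (nat_lit 0x6010e0b0f0d0d0604060c040d080b020a0e050209020704000e00010c0200020605) (Net.cons (nat_lit 2) (nat_lit 0x203202222211210022322322113232230023023332311110133011313123030020233) (Net.cons (nat_lit 1) (nat_lit 0x554504145144151505150440440040445115055001054440101045001541000101511) Net.nil)))))))))))))))))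

theorem n_k7_ok : Net.ok 276 n_k7 = true := by decide +kernel

noncomputable def n_p1 : Net := (Net.cons (nat_lit 1) (nat_lit 0x41511411411415400511005111501441011051404444540150010110110001000100) (Net.cons (nat_lit 2) (nat_lit 0x220001111102330211321020100111213301133323320133312030030021210001000) (Net.cons (nat_lit 4) (nat_lit 0x8050e0f080206040503010f0904020a0d010b050702060c06050d0a0a0808040001) (Net.cons (nat_lit 8) (nat_lit 0xf400e700ab00e400240090001100ae0043002c0092008800e00044008000180000) (Net.cons (nat_lit 16) (nat_lit 0x500008f090000c32e000070060000e0000000e3290000781800005acd00002000) (Net.cons (nat_lit 32) (nat_lit 0x28a8678a00000000cc2c33e000000000bd4242020000000000031060) (Net.cons (nat_lit 64) (nat_lit 0xd5965200100f800100000000000000000000000000022010) (Net.cons (nat_lit 128) (nat_lit 0xb4e862518ecf37d34b16b0769c4624a4) (Net.cons (nat_lit 256) (nat_lit 996597) (Net.cons (nat_lit 128) (nat_lit 454308) (Net.cons (nat_lit 64) (nat_lit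 0x8d1eb59030ef120b0000000000000000694a4bbb42326238) (Net.cons (nat_lit 32) (nat_lit 0x7a6895dc00000000ed84f3e200000000dd8ae3400000000064e3f054) (Net.cons (nat_lit 16) (nat_lit 0x50000dc090000b9260000c027000080220000c32d0000093800001bef00009624) (Net.cons (nat_lit 8) (nat_lit 0xd600c400a900ee002d00b4007100c60061004d0093008a00ea006300c8001f0024) (Net.cons (nat_lit 4) (nat_lit 0x8050e0f08020e050503010f09040a0a0d010b050702060c06050d0a0a0808040001) (Net.cons (nat_lit 2) (nat_lit 0x220001111132330211321020100111213301133323320133332030030021210001000) (Net.cons (nat_lit 1) (nat_lit 0x41511411411415400511005111501441011051404444540150010110110001000100) Net.nil)))))))))))))))))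

theorem n_p1_ok : Net.ok 276 n_p1 = true := by decide +kernel

noncomputable def n_p2 : Net := (Net.cons (nat_lit 1) (nat_lit 0x504410511414005515045111144515514011555141515140441540454114151504444) (Net.cons (nat_lit 2) (nat_lit 0x122211212131133020332221231203033023020322112120223310120000013120300) (Net.cons (nat_lit 4) (nat_lit 0xb070b0609080f03070a080f0605010b000e080604090b0f090e04020a050202000a) (Net.cons (nat_lit 8) (nat_lit 0x24009c003700140069005b00090073005d00030024007300d30030002900040000) (Net.cons (nat_lit 16) (nat_lit 0x20000f8250000509d00004e40000034280000c16a000003060000387100000fd0) (Net.cons (nat_lit 32) (nat_lit 0xe18948c600000000311e1846000000004824701e0000000000018052) (Net.cons (nat_lit 64) (nat_lit 0x449d0253074ca582000000000000000000000000000449a8) (Net.cons (nat_lit 128) (nat_lit 0x76df2395d89b988a13425ce68f443061) (Net.cons (nat_lit 256) (nat_lit 917503) (Net.cons (nat_lit 128) (nat_lit 91917) (Net.cons (nat_lit 64) (nat_lit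 0x1e13ba5feb3b4d300000000000000000415172398ceddd8d) (Net.cons (nat_lit 32) (nat_lit 0x1ec4e86e00000000ece13be1000000000b08fd6a000000008e60cc3e) (Net.cons (nat_lit 16) (nat_lit 0x8ed0000083040000b14b0000de30000009080000a3d0000032c600004bd1) (Net.cons (nat_lit 8) (nat_lit 0x2500c500ed005900a000c600ee00af00ed00d4007a007e0041009000f500980028) (Net.cons (nat_lit 4) (nat_lit 0xc0d010e00090f040d06040900010a03090209090f0904040a060c0a070c090e0a0a) (Net.cons (nat_lit 2) (nat_lit 0x223010303023231121120102221210222222023233231333021211230030012122) (Net.cons (nat_lit 1) (nat_lit 0x155515401444500101140110410144041500455444145500404540555404414540105) Net.nil)))))))))))))))))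

theorem n_p2_ok : Net.ok 276 n_p2 = true := by decide +kernel

noncomputable def n_y : Net := (Net.cons (nat_lit 1) (nat_lit 0x15115111045410504005150145555155040451444551550000051110111445150550) (Net.cons (nat_lit 2) (nat_lit 0x30210033013301132203232101100323232121021020012122121131131201012310) (Net.cons (nat_lit 4) (nat_lit 0xc07050c010b0101050f0c0e07010d05050801030b0400000d0c04010a01010d0100) (Net.cons (nat_lit 8) (nat_lit 0xad00d6001c00ad00350061005b00ef00bb0058001c00de00dc00320051004b0001) (Net.cons (nat_lit 16) (nat_lit 0x1000001d70000148a00008ad100008d5a00004ca800008c860000210800000190) (Net.cons (nat_lit 32) (nat_lit 0x7dd7c07800000000b0b88c7e000000008715970d00000000000d0d9a) (Net.cons (nat_lit 64) (nat_lit 0x3353d720398b502600000000000000000000000000080418) (Net.cons (nat_lit 128) (nat_lit 0xbde82963c2f5710e4e9bdec7ff1fc606) (Net.cons (nat_lit 256) (nat_lit 0xfdfbe) (Net.cons (nat_lit 128) (nat_lit 213434) (Net.cons (nat_lit 64) (nat_lit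 0x6e036568e9343e7100000000000000002b7cc93b8e3e7e73) (Net.cons (nat_lit 32) (nat_lit 0x75f682d900000000f2ae8ad6000000000659ae2f000000007433a941) (Net.cons (nat_lit 16) (nat_lit 0x200008c6f000048c8000012550000a7e30000dae600002c7b00008fe90000bde3) (Net.cons (nat_lit 8) (nat_lit 0x1c00910026003d00560023000b003b007b00e8000200f700fa00bd00f1005d0009) (Net.cons (nat_lit 4) (nat_lit 0x90e0403050c0a040d0b0906000f000f0a00060801060a000405020103010b0d0f0d) (Net.cons (nat_lit 2) (nat_lit 0x202212210003133033020023131121131022000011103122313303300312221213333) (Net.cons (nat_lit 1) (nat_lit 0x405111141455515540000455511454001114415041454454015044440454551050045) Net.nil)))))))))))))))))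

theorem n_y_ok : Net.ok 276 n_y = true := by decide +kernel

noncomputable def n_yy : Net := (Net.cons (nat_lit 1) (nat_lit 0x411151441455441415404155414540515541145000051145455115044044541104400) (Net.cons (nat_lit 2) (nat_lit 0x21301330130223222313300302230300030221301021311221331100303112133020) (Net.cons (nat_lit 4) (nat_lit 0x60e0b0d040b0304040806010e0f050f0f0b0a03040f04080a0b090a0b0b04010000) (Net.cons (nat_lit 8) (nat_lit 0x5100e500b500b000a7007d007f0083004800950048009000d30040003700100004) (Net.cons (nat_lit 16) (nat_lit 0x80000a8bf00002c820000f9b70000fa7800003a160000c69e0000553900002c00) (Net.cons (nat_lit 32) (nat_lit 0x181c81850000000049804eb1000000004482690000000000000992c0) (Net.cons (nat_lit 64) (nat_lit 0x6830d42220d34a8700000000000000000000000000020102) (Net.cons (nat_lit 128) (nat_lit 0x4ed05a34892bb306a5e7a553b2d55287) (Net.cons (nat_lit 256) (nat_lit 0xfffcf) (Net.cons (nat_lit 128) (nat_lit 36422) (Net.cons (nat_lit 64) (nat_lit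 0xd3a715f4c85ae0c200000000000000004552b5ce0996d7af) (Net.cons (nat_lit 32) (nat_lit 0x144e395e0000000043c4aa9a00000000dc002ae700000000f392742c) (Net.cons (nat_lit 16) (nat_lit 0x200004e0700004441000045f40000b96500006a540000e12d0000e40600002a47) (Net.cons (nat_lit 8) (nat_lit 0xdc000f00ac00530007005f00920057002c00ec0003005d002f0064008200870001) (Net.cons (nat_lit 4) (nat_lit 0x40e0e0c080709040a090a050d0d0500020e0208080b070e03040d050a0f09050d00) (Net.cons (nat_lit 2) (nat_lit 0x220210003220203033033010202132301030012330131003212132203213212200221) (Net.cons (nat_lit 1) (nat_lit 0x455051145011404150040000450154145541151011440104400150411440055104401) Net.nil)))))))))))))))))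

theorem n_yy_ok : Net.ok 276 n_yy = true := by decide +kernel

noncomputable def n_c1 : Net := (Net.cons (nat_lit 1) (nat_lit 0x4004514001504401401510500110014000155140540441510105015005510404040) (Net.cons (nat_lit 2) (nat_lit 0x10313032010022110122200031200132101301212103321031133203030122031110) (Net.cons (nat_lit 4) (nat_lit 0xf00060c050300020d030a0f05050a0903030c0006020e050e04030508080c010e00) (Net.cons (nat_lit 8) (nat_lit 0x6200f800de00fc0054006900ca00a600650008002b00c600260097001a009b0002) (Net.cons (nat_lit 16) (nat_lit 0xe000002ae000079890000139100001b680000729a0000ea320000883200008000) (Net.cons (nat_lit 32) (nat_lit 0x99b1843800000000f79a9e4100000000586a6c1e000000000000a884) (Net.cons (nat_lit 64) (nat_lit 0xa0a140fe49008cac0000000000000000000000000001f192) (Net.cons (nat_lit 128) (nat_lit 0x64a42d745e1d661b8b15518b852a8528) (Net.cons (nat_lit 256) (nat_lit 0xfffff) (Net.cons (nat_lit 128) (nat_lit 809692) (Net.cons (nat_lit 64) (nat_lit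 0xdb9e30e70ed225aa00000000000000004c7da7cb1b2bfc55) (Net.cons (nat_lit 32) (nat_lit 0x7c39e91e00000000e43250bd0000000075cb032500000000b56539a1) (Net.cons (nat_lit 16) (nat_lit 0xe0e0000094eb0000c3d500003ace0000dc510000c5a800009bc50000a08b) (Net.cons (nat_lit 8) (nat_lit 0x8a00bc00a9006d00a600de00230029009400ce00000058003b0012009700b1004c) (Net.cons (nat_lit 4) (nat_lit 0x60c0a0908080e0104070b080a030f05030d070e0b020e040b0d050b0e00000b020c) (Net.cons (nat_lit 2) (nat_lit 0x331010121201222133013102212302310311212121133333201200310323313001213) (Net.cons (nat_lit 1) (nat_lit 0x150044515551154054455105441554041110454040404514051045440155514551155) Net.nil)))))))))))))))))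

theorem n_c1_ok : Net.ok 276 n_c1 = true := by decide +kernel

noncomputable def n_c2 : Net := (Net.cons (nat_lit 1) (nat_lit 0x150455145545501411144544054504404155054504401005405000501451055154444) (Net.cons (nat_lit 2) (nat_lit 0x102230020012022330130001113133112111301320101110211231101000202000) (Net.cons (nat_lit 4) (nat_lit 0x1090a0400010204080b0a0a0e01050b0c0b0000070905010a08040906030e0d020a) (Net.cons (nat_lit 8) (nat_lit 0xa3004e004c00c200fa004600980073000e002f001e003c0014008b000700230004) (Net.cons (nat_lit 16) (nat_lit 0x8000058ce000073210000f22f000087c40000d77000008f680000c6000000a210) (Net.cons (nat_lit 32) (nat_lit 0x3d56341a0000000083e9820700000000bd20442600000000000ddd00) (Net.cons (nat_lit 64) (nat_lit 0x602019442c1800000000000000000000000000047068) (Net.cons (nat_lit 128) (nat_lit 0x2d5c35353de82813b245d84624ac0603) (Net.cons (nat_lit 256) (nat_lit 0xfff7f) (Net.cons (nat_lit 128) (nat_lit 197000) (Net.cons (nat_lit 64) (nat_lit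 0xe330b93e191319a0000000000000000446d475eeb6cfc89) (Net.cons (nat_lit 32) (nat_lit 0xf1b53edd0000000012f7c601000000001798ba4e00000000946a6698) (Net.cons (nat_lit 16) (nat_lit 0xa00006dc90000876e0000740800003adc0000df7d0000b334000071870000c6ba) (Net.cons (nat_lit 8) (nat_lit 0xde001900fd00de006c008f005900fa008300c6006e005600e300e7000600c600e3) (Net.cons (nat_lit 4) (nat_lit 0x606070d0509000c0a0c06090e0e0e040300000e040a0b08080f0e0e00070a030f0a) (Net.cons (nat_lit 2) (nat_lit 0x100002020221310133131112301230333113000030300220230321033113001222021) (Net.cons (nat_lit 1) (nat_lit 0x500050100100155414540101001540411555540010550505540515110154054400104) Net.nil)))))))))))))))))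

theorem n_c2_ok : Net.ok 276 n_c2 = true := by decide +kernel

noncomputable def n_q1 : Net := (Net.cons (nat_lit 1) (nat_lit 0x450541555454514415554541140044400455404105404115551111555410015404100) (Net.cons (nat_lit 2) (nat_lit 0x102002132032033030231102231303202323313333202022313002023200230331100) (Net.cons (nat_lit 4) (nat_lit 0xf02080f0707080900020c090c0607020909080e0608040a0b010508020a05000800) (Net.cons (nat_lit 8) (nat_lit 0x8500e3000e000c00fd008e009e00ac002000a800ca00c2004600ea001700050000) (Net.cons (nat_lit 16) (nat_lit 0xc000097c400003bd600007fd10000baa1000028d8000020050000013200008410) (Net.cons (nat_lit 32) (nat_lit 0x58e3911500000000080d0aa10000000044488685000000000000e4c1) (Net.cons (nat_lit 64) (nat_lit 0x3d084e429201348400000000000000000000000000042e56) (Net.cons (nat_lit 128) (nat_lit 0x338a7e9bc240b4358e8100f5583900f1) (Net.cons (nat_lit 256) (nat_lit 0xfeef7) (Net.cons (nat_lit 128) (nat_lit 852115) (Net.cons (nat_lit 64)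 (nat_lit 0x4b6c3a87b6c17f8400000000000000008175c3f187bb7dae) (Net.cons (nat_lit 32) (nat_lit 0xcbe7b33300000000cf088ed600000000cf7c86f7000000008027ccf5) (Net.cons (nat_lit 16) (nat_lit 0xe0000ff8000006f9a00000fd10000fec400005a89000023160000542f0000e632) (Net.cons (nat_lit 8) (nat_lit 0xd600f3005a003d00bd00aa00dd00dd002800f900cb00c1000300d9004100360072) (Net.cons (nat_lit 4) (nat_lit 0xa010e0d03040a0d02060c0e0c0005070b090b0e060b040f0e06060e010b07040b02) (Net.cons (nat_lit 2) (nat_lit 0x112002132032033030231102231303202322213333302122313002033201230331100) (Net.cons (nat_lit 1) (nat_lit 0x450541555454514415554541140044400455404105404115551111555410015404100) Net.nil)))))))))))))))))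

theorem n_q1_ok : Net.ok 276 n_q1 = true := by decide +kernel

noncomputable def n_q2 : Net := (Net.cons (nat_lit 1) (nat_lit 0x554454004051404000114150415515045501041051511414055144151005550444444) (Net.cons (nat_lit 2) (nat_lit 0x130312313210130122232321110322011030322213003010113120023302133001000) (Net.cons (nat_lit 4) (nat_lit 0x4050e0a0d04020c0f0b0906060f050904050b08070a0804020a04000e030a0a0100) (Net.cons (nat_lit 8) (nat_lit 0x7a0006004400150040009a00f70076003900c700b100080028001400c100010005) (Net.cons (nat_lit 16) (nat_lit 0x5000066b80000df9e000094c50000f9380000648b0000c8a3000080f200000430) (Net.cons (nat_lit 32) (nat_lit 0x2604949c0000000042ea23b50000000001f8f4e10000000000030794) (Net.cons (nat_lit 64) (nat_lit 0x1d001ca01e6083bc0000000000000000000000000005e44c) (Net.cons (nat_lit 128) (nat_lit 0x7ca1f3931e9eaa346179ac20e0fb8164) (Net.cons (nat_lit 256) (nat_lit 0xff7fd) (Net.cons (nat_lit 128) (nat_lit 955565) (Net.cons (nat_lit 64)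 (nat_lit 0x5d5bbbe441a859dc00000000000000004b8c945c226720c1) (Net.cons (nat_lit 32) (nat_lit 0x72a368be00000000da9a312200000000bd76c238000000007b48d935) (Net.cons (nat_lit 16) (nat_lit 0x400006c490000868d0000880800006bbb0000cea300004d480000599600009f99) (Net.cons (nat_lit 8) (nat_lit 0xa008a0006006b003b0036007400b300a400cf004e00a100c100bf00a000fd005d) (Net.cons (nat_lit 4) (nat_lit 0x2030e08050b07080f03030e0a020d08000c050f040201060e0201070d0b0b0f0305) (Net.cons (nat_lit 2) (nat_lit 0x202000031330212023230102330022322113323331102120010233123201011011320) (Net.cons (nat_lit 1) (nat_lit 0x505454004514114004154101445115555415444000550550405104000041451115410) Net.nil)))))))))))))))))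

theorem n_q2_ok : Net.ok 276 n_q2 = true := by decide +kernel

noncomputable def n_q3 : Net := (Net.cons (nat_lit 1) (nat_lit 0x144111151115550414554045410541545410051541151400405150411414501140444) (Net.cons (nat_lit 2) (nat_lit 0x10203311303032321031232121203201210120031031013032030031011313111100) (Net.cons (nat_lit 4) (nat_lit 0xc090307070a0b0d070c010f040402010c03070c08050b050e0c0709090c080a0000) (Net.cons (nat_lit 8) (nat_lit 0xe400bc0065001400db006200160009001c003c0012000100ad0068005600300001) (Net.cons (nat_lit 16) (nat_lit 0xe0000583c000023f0000028310000d8840000226b00000eb400004f5a00007090) (Net.cons (nat_lit 32) (nat_lit 0xae91261d00000000047f2b4c00000000478a19500000000000080a48) (Net.cons (nat_lit 64) (nat_lit 0x902c68807050a241000000000000000000000000000e1309) (Net.cons (nat_lit 128) (nat_lit 0x2555e3587a810e28fabb0dd68653a297) (Net.cons (nat_lit 256) (nat_lit 0xffbdf) (Net.cons (nat_lit 128) (nat_lit 568180) (Net.cons (nat_lit 64)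 (nat_lit 0xffa700db1ebcfd30000000000000000f2ae0c95cb2399fe) (Net.cons (nat_lit 32) (nat_lit 0x5c260ed000000000c688f4e00000000c34804eb0000000036538f25) (Net.cons (nat_lit 16) (nat_lit 0x1000004df0000223a0000d5a40000d34c00001e5d0000773b0000b7fa000052ad) (Net.cons (nat_lit 8) (nat_lit 0xbf00e70028003f00bb00fc000b0021002b005300bd00fc002b00e3009c008d0066) (Net.cons (nat_lit 4) (nat_lit 0xe010a0e0004030d080a09010a0f0b0a060707070308090e05020e090103000c030a) (Net.cons (nat_lit 2) (nat_lit 0x301121021213301002113220102121022123131310222122300232102210331131310) (Net.cons (nat_lit 1) (nat_lit 0x504415140514054151141100540555111444144445140051005101550404500154045) Net.nil)))))))))))))))))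

theorem n_q3_ok : Net.ok 276 n_q3 = true := by decide +kernel

noncomputable def n_r1 : Net := (Net.cons (nat_lit 1) (nat_lit 0x540105050141550044540145540014415501011051450145110541441505400000004) (Net.cons (nat_lit 2) (nat_lit 0x231233322032012311230101333033003213310301112203230203333200131233100) (Net.cons (nat_lit 4) (nat_lit 0xe0a010808030c080c0d0b0b080a0b0a0c070109030d0208020b0203010206040108) (Net.cons (nat_lit 8) (nat_lit 0xee0012009a00f4007900f900e5007b0034002a00e200940053000f003100b0000c) (Net.cons (nat_lit 16) (nat_lit 0x200004234000088510000aa0000002255000048250000407d0000c44000005400) (Net.cons (nat_lit 32) (nat_lit 0x3614b46a000000004813c2d50000000093ea46e1000000000003a1d3) (Net.cons (nat_lit 64) (nat_lit 0xa040008010c8ee2500000000000000000000000000001032) (Net.cons (nat_lit 128) (nat_lit 0xc1bdfc31c7c0af28697320b7b1096801) (Net.cons (nat_lit 256) (nat_lit 786427) (Net.cons (nat_lit 128) (nat_lit 600133) (Net.cons (nat_lit 64)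 (nat_lit 0x53336204948bfe7600000000000000005b70a7cd04b71031) (Net.cons (nat_lit 32) (nat_lit 0x3a12302600000000e8174bb3000000007bad4e6a000000006c8bbd7f) (Net.cons (nat_lit 16) (nat_lit 0x5000006b300000c900000bad70000a29a000008e200000ab60000c6030000d407) (Net.cons (nat_lit 8) (nat_lit 0xae00b2005600a0003b00ad00fd00ff00f4006a00a200d40013000f003100b00088) (Net.cons (nat_lit 4) (nat_lit 0x60e0504050b080a000d0f07080c0f06040701010b010a040e07060f050a0a060d0c) (Net.cons (nat_lit 2) (nat_lit 0x231233322032012311230101333033003213310301112203230203333200131233100) (Net.cons (nat_lit 1) (nat_lit 0x540105050141550044540145540014415501015051450145110541441505400000004) Net.nil)))))))))))))))))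

theorem n_r1_ok : Net.ok 276 n_r1 = true := by decide +kernel

noncomputable def n_r2 : Net := (Net.cons (nat_lit 1) (nat_lit 0x145554410005105105510015151015541141500105511010101050400145540040114) (Net.cons (nat_lit 2) (nat_lit 0x132330013012032312330231102022303210103113002032030013303232213210030) (Net.cons (nat_lit 4) (nat_lit 0x2090a0609040f0d04080f000a02010a01020f06040c01010f0a000c0f0f000d0000) (Net.cons (nat_lit 8) (nat_lit 0xa6002800c400a90052005400c10086003b0080005a000a001e008a00e9000f0004) (Net.cons (nat_lit 16) (nat_lit 0x300004d8600003ac80000180200004dd600008c080000c4cb00000d61000004b0) (Net.cons (nat_lit 32) (nat_lit 0x7b1cb9b20000000063e0e0a7000000001cb2800a00000000000802a0) (Net.cons (nat_lit 64) (nat_lit 0x8012200002ae03da000000000000000000000000000712cc) (Net.cons (nat_lit 128) (nat_lit 0x66d995a87ec58fb7ad0aac80d47617d1) (Net.cons (nat_lit 256) (nat_lit 989181) (Net.cons (nat_lit 128) (nat_lit 872332) (Net.cons (nat_lit 64)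 (nat_lit 0xa51bbe3d489f73050000000000000000c3901ce33934bdd5) (Net.cons (nat_lit 32) (nat_lit 0xbf34c03700000000e94bbc6e00000000087c9df00000000016e63b39) (Net.cons (nat_lit 16) (nat_lit 0x70000e1f4000077d00000982700004c210000e8b30000611d000021cd0000256f) (Net.cons (nat_lit 8) (nat_lit 0xe500cb000d003300cd007800e200e9006200d600fe00fc003700b1000b0056002f) (Net.cons (nat_lit 4) (nat_lit 0x408070601080d04080509000b0008020d0503010704010f01050208030f06040904) (Net.cons (nat_lit 2) (nat_lit 0x103330110202223100332213130101232313012132212023312033013011331020021) (Net.cons (nat_lit 1) (nat_lit 0x155554010054011140450454515451504510054441550410550504114110400155505) Net.nil)))))))))))))))))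

theorem n_r2_ok : Net.ok 276 n_r2 = true := by decide +kernel

noncomputable def n_r3 : Net := (Net.cons (nat_lit 1) (nat_lit 0x511000004555145445055410401544150004555145000010054410440051400511410) (Net.cons (nat_lit 2) (nat_lit 0x333030331023001221211312101132220111121030231022111001323131310030120) (Net.cons (nat_lit 4) (nat_lit 0x10a060f0d0f060d00060208020d01060f040a030e0c0105080300050b000b0d0f00) (Net.cons (nat_lit 8) (nat_lit 0x2400a800e300f100560081001c00e2004a00420008001f005a00b300f100c20006) (Net.cons (nat_lit 16) (nat_lit 0x40000f387000091d7000052120000a2e9000049df000060760000878000001010) (Net.cons (nat_lit 32) (nat_lit 0x27e4c0840000000000038b0700000000e8bb181a000000000001190e) (Net.cons (nat_lit 64) (nat_lit 0xb4671234034890aa00000000000000000000000000032e14) (Net.cons (nat_lit 128) (nat_lit 0xcf211ebf16794314725e21880d2042e9) (Net.cons (nat_lit 256) (nat_lit 524287) (Net.cons (nat_lit 128) (nat_lit 193195) (Net.cons (nat_lit 64)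 (nat_lit 0xa7139e0bcae8e78a000000000000000085c14c84332f6891) (Net.cons (nat_lit 32) (nat_lit 0xf292ee100000000065db257d00000000f5edf1b900000000a8c47be0) (Net.cons (nat_lit 16) (nat_lit 0x100000b8300000eb30000573700000b330000fedf0000b1140000ad4c000024c6) (Net.cons (nat_lit 8) (nat_lit 0x660013004b00b40082000f00dd0069006900ed0055002300d30029005e00180067) (Net.cons (nat_lit 4) (nat_lit 0x4040b05050c080904050b0a000b0004080d080c020a050004080e00000205060009) (Net.cons (nat_lit 2) (nat_lit 0x302020111000211223332303232311101122302121131032112312231321330031330) (Net.cons (nat_lit 1) (nat_lit 0x114050100145511455104010441110441105014504440541055501400140444405555) Net.nil)))))))))))))))))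

theorem n_r3_ok : Net.ok 276 n_r3 = true := by decide +kernel

noncomputable def X : List Net := [Net.nil, n_b1, n_b2, n_b3, n_s1, n_s2, n_s4, n_t, n_u, n_w, n_x, n_v, n_a, n_b, n_k1, n_k2, n_k3, n_k4, n_k5, n_k6, n_k7, n_p1, n_p2, n_y, n_yy, n_c1, n_c2, n_q1, n_q2, n_q3, n_r1, n_r2, n_r3]

theorem X_ok : okE 276 X = true := okE_cons.2 ⟨rfl, (okE_cons.2 ⟨n_b1_ok, (okE_cons.2 ⟨n_b2_ok, (okE_cons.2 ⟨n_b3_ok, (okE_cons.2 ⟨n_s1_ok, (okE_cons.2 ⟨n_s2_ok, (okE_cons.2 ⟨n_s4_ok, (okE_cons.2 ⟨n_t_ok, (okE_cons.2 ⟨n_u_ok, (okE_cons.2 ⟨n_w_ok, (okE_cons.2 ⟨n_x_ok, (okE_cons.2 ⟨n_v_ok, (okE_cons.2 ⟨n_a_ok, (okE_cons.2 ⟨n_b_ok, (okE_cons.2 ⟨n_k1_ok, (okE_cons.2 ⟨n_k2_ok, (okE_cons.2 ⟨n_k3_ok, (okE_cons.2 ⟨n_k4_ok, (okE_cons.2 ⟨n_k5_ok, (okE_cons.2 ⟨n_k6_ok, (okE_cons.2 ⟨n_k7_ok, (okE_cons.2 ⟨n_p1_ok, (okE_cons.2 ⟨n_p2_ok, (okE_cons.2 ⟨n_y_ok, (okE_cons.2 ⟨n_yy_ok, (okE_cons.2 ⟨n_c1_ok, (okE_cons.2 ⟨n_c2_ok, (okE_cons.2 ⟨n_q1_ok, (okE_cons.2 ⟨n_q2_ok, (okE_cons.2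 ⟨n_q3_ok, (okE_cons.2 ⟨n_r1_ok, (okE_cons.2 ⟨n_r2_ok, (okE_cons.2 ⟨n_r3_ok, (okE_nil 276)⟩)⟩)⟩)⟩)⟩)⟩)⟩)⟩)⟩)⟩)⟩)⟩)⟩)⟩)⟩)⟩)⟩)⟩)⟩)⟩)⟩)⟩)⟩)⟩)⟩)⟩)⟩)⟩)⟩)⟩)⟩)⟩)⟩

noncomputable def EL : List Net := [n_b1, n_b2, n_b3, n_s1, n_s2, n_s4]

theorem EL_ok : okE 276 EL = true := (okE_cons.2 ⟨n_b1_ok, (okE_cons.2 ⟨n_b2_ok, (okE_cons.2 ⟨n_b3_ok, (okE_cons.2 ⟨n_s1_ok, (okE_cons.2 ⟨n_s2_ok, (okE_cons.2 ⟨n_s4_ok, (okE_nil 276)⟩)⟩)⟩)⟩)⟩)⟩)

noncomputable def g2 : Net := (Net.cons (nat_lit 1) (nat_lit 0x511401541450450004440551050510010444145140440544041114554451504051150) (Net.cons (nat_lit 2) (nat_lit 0x21210121011330300032320000323221122130120102313023300131110023100000) (Net.cons (nat_lit 4) (nat_lit 0xd0f0c0c0a0f0304080e020e00000a0d04040c01050909080c030a0c0100030e0605) (Net.cons (nat_lit 8) (nat_lit 0x8d00fc000a001700b20065009d004a008c003a00a0009700e1000a001c000a0001) (Net.cons (nat_lit 16) (nat_lit 0x30000390e0000c8380000664900007030000069cd0000f2810000113800004000)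 (Net.cons (nat_lit 32) (nat_lit 0x67e559930000000045026f8100000000141870ba0000000000000280) (Net.cons (nat_lit 64) (nat_lit 0x6239e353302093b7000000000000000000000000000006b4) (Net.cons (nat_lit 128) (nat_lit 0xc346ec198efd250631ff07eebbd8bd27) (Net.cons (nat_lit 256) (nat_lit 0xfffff) (Net.cons (nat_lit 128) (nat_lit 677782) (Net.cons (nat_lit 64) (nat_lit 0x1d75ba1e888f95240000000000000000465bbeea3915a71a) (Net.cons (nat_lit 32) (nat_lit 0x5de68cc00000000a15dd84400000000723723bb000000008a436f45) (Net.cons (nat_lit 16) (nat_lit 0xf00003df000005be0000067260000aeb800001ceb0000dc190000e3610000106b) (Net.cons (nat_lit 8) (nat_lit 0xb40005005200f300df007700b4006f00fa0079006f0031008a00aa004100310080) (Net.cons (nat_lit 4) (nat_lit 0x80b08070a070501080402020307050a070a08050c020b0f020e0207090f05030601) (Net.cons (nat_lit 2) (nat_lit 0x110313230333101111201331231333220030311211130202320330022211321300230) (Net.cons (nat_lit 1) (nat_lit 0x544141404440100505404414401145451500455114045554444055101051105540040)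 Net.nil)))))))))))))))))

theorem g2_ok : Net.ok 276 g2 = true := by decide +kernel

noncomputable def g3 : Net := (Net.cons (nat_lit 1) (nat_lit 0x10111111411400404554455515054510411555144154514550050450055154444404) (Net.cons (nat_lit 2) (nat_lit 0x310232013131121110333130211203321000130013331001110132331002202030320) (Net.cons (nat_lit 4) (nat_lit 0xb02000c0a09040a00030d0f01020103030e0f05020607050d0a0f0c0604030d0900) (Net.cons (nat_lit 8) (nat_lit 0xe900bd00d600ed008000f700e7009e00b8001600a1008d004600c800f2009b0008) (Net.cons (nat_lit 16) (nat_lit 0x70000f70d000055c200002e610000077e000064a9000010020000a25100008fd0) (Net.cons (nat_lit 32) (nat_lit 0x2c04c83e000000009ded14100000000058ded120000000000008cb6a) (Net.cons (nat_lit 64) (nat_lit 0xe1d002401ce21ba200000000000000000000000000091000) (Net.cons (nat_lit 128) (nat_lit 0xa83ec4397be9015c4fc87a6d2714352f) (Net.cons (nat_lit 256) (nat_lit 0xfffff) (Net.cons (nat_lit 128) (nat_lit 134093) (Net.cons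 (nat_lit 64) (nat_lit 0xcf36391692a7252f00000000000000006ce66cf21a9a83aa) (Net.cons (nat_lit 32) (nat_lit 0x1516048b00000000455af5690000000020809fca00000000bc10b46a) (Net.cons (nat_lit 16) (nat_lit 0x90000ac1d00005d86000068d700002b7d000084ab0000c2c00000ef7700003c34) (Net.cons (nat_lit 8) (nat_lit 0xaa00cc002b0019001400ce0035004e00d5005200c400ce0055006000e1001900a0) (Net.cons (nat_lit 4) (nat_lit 0x905060f030f08020a060706090c040f05010d050a06020a0f050c0d0f0e0b050100) (Net.cons (nat_lit 2) (nat_lit 0x112000122100010112113103300013201033322022210021132111111032132223332) (Net.cons (nat_lit 1) (nat_lit 0x410050040450044154554101111441110041514045100510015040001415140100504) Net.nil)))))))))))))))))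

theorem g3_ok : Net.ok 276 g3 = true := by decide +kernel

noncomputable def V4 : List Net := [g2, g3]

theorem V4_ok : okE 276 V4 = true := (okE_cons.2 ⟨g2_ok, (okE_cons.2 ⟨g3_ok, (okE_nil 276)⟩)⟩)

noncomputable def g6 : Net := (Net.cons (nat_lit 1) (nat_lit 0x411041100100454150550050510151454054040540455455154115414514014100110) (Net.cons (nat_lit 2) (nat_lit 0x122110333130131012221200211111313131030012112000211310200233100232120) (Net.cons (nat_lit 4) (nat_lit 0x6010105040108040e0e0606050709000e0e08010d080d0805040f0501050e040908) (Net.cons (nat_lit 8) (nat_lit 0x98001000c3007d003500e1004f00c1005c007d00c600a1004a001e008600220000) (Net.cons (nat_lit 16) (nat_lit 0xc000070010000e69d0000657f00006e990000921b0000a2bc000070c100003e10) (Net.cons (nat_lit 32) (nat_lit 0x43888e010000000014e8636100000000481a971600000000000400f0) (Net.cons (nat_lit 64) (nat_lit 0x32006048460081000000000000000000000000000004b48d) (Net.cons (nat_lit 128) (nat_lit 0x952dd5b75654171a62033b5898df0643)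 (Net.cons (nat_lit 256) (nat_lit 0xffeff) (Net.cons (nat_lit 128) (nat_lit 0xff6ae) (Net.cons (nat_lit 64) (nat_lit 0xbef3f748391fdc3b00000000000000009d472066d394246d) (Net.cons (nat_lit 32) (nat_lit 0xd26fe93300000000ae06fbd000000000e9a958dd00000000f6fbd37c) (Net.cons (nat_lit 16) (nat_lit 0x90000deca00008fc80000ed2a000096870000e53b00001faf0000f5a50000aac8) (Net.cons (nat_lit 8) (nat_lit 0x2700a600bb0045000f0032000500e600d40024006d00a40019005700a800040014) (Net.cons (nat_lit 4) (nat_lit 0xe0f07050600050b030c0a0100010e06050b0f0e080b0503090b0c0f0905070e0808) (Net.cons (nat_lit 2) (nat_lit 0x311021233311223101310113101300123132211122220222311320230032213102320) (Net.cons (nat_lit 1) (nat_lit 0x110014010140555500555455450400104450555141114045401440451150454500010) Net.nil)))))))))))))))))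

theorem g6_ok : Net.ok 276 g6 = true := by decide +kernel

noncomputable def g7 : Net := (Net.cons (nat_lit 1) (nat_lit 0x45555045055410044051545500005005515415511555415404555414511055455500) (Net.cons (nat_lit 2) (nat_lit 0x211320323232203102011111200200333232102203310002313122222000201112300) (Net.cons (nat_lit 4) (nat_lit 0x50f010609050a0800030902090805090901090d080b0504010b02070808000c0306) (Net.cons (nat_lit 8) (nat_lit 0xb800b400cf004c008c004c000e0019004c0071008d000000440034008000030003) (Net.cons (nat_lit 16) (nat_lit 0xe00006e1d000041e400001d330000cc200000c047000089240000850700005640) (Net.cons (nat_lit 32) (nat_lit 0xe84430a200000000412005b100000000c92370340000000000094ca4) (Net.cons (nat_lit 64) (nat_lit 0xfc3b0a0117480bcc000000000000000000000000000c01d6) (Net.cons (nat_lit 128) (nat_lit 0x4d9809a6da3f26c7b1a7b2c96de112dc) (Net.cons (nat_lit 256) (nat_lit 0xffffe) (Net.cons (nat_lit 128) (nat_lit 40397) (Net.cons (nat_lit 64) (nat_lit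 0xc3d2461f0a2dbe3d0000000000000000782ce3c373939bfc) (Net.cons (nat_lit 32) (nat_lit 0x38e63176000000009c661adc00000000c58a10d1000000009ea5d831) (Net.cons (nat_lit 16) (nat_lit 0x50000c15b000010670000e6490000d8d00000658b00000b840000376b00000a90) (Net.cons (nat_lit 8) (nat_lit 0x9005200b500280094008600fe0072006a00a1009800d3008900c2005200c30059) (Net.cons (nat_lit 4) (nat_lit 0x2050307000405030b01030a00000c03080c000a060b0b0b090e04090a0708070b02) (Net.cons (nat_lit 2) (nat_lit 0x233211002012100112233330203213233222221320312310321132130231120312000) (Net.cons (nat_lit 1) (nat_lit 0x504041004450045101155440044054505141540514101015141014515504455101510) Net.nil)))))))))))))))))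

theorem g7_ok : Net.ok 276 g7 = true := by decide +kernel

noncomputable def V8 : List Net := [g6, g7]

theorem V8_ok : okE 276 V8 = true := (okE_cons.2 ⟨g6_ok, (okE_cons.2 ⟨g7_ok, (okE_nil 276)⟩)⟩)

noncomputable def g10 : Net := (Net.cons (nat_lit 1) (nat_lit 0x55110145151151411514045055051004411445444414015500150044014550150500) (Net.cons (nat_lit 2) (nat_lit 0x310302012322102203212232312002220331011112221100110211121112122130100) (Net.cons (nat_lit 4) (nat_lit 0xc0d0a01010201070d0c050c030d02000b000f000a03040f020d070600000205030e) (Net.cons (nat_lit 8) (nat_lit 0xa300b400a8007d008f00e600da007300f2008500f0002700ca00f300cc00660006) (Net.cons (nat_lit 16) (nat_lit 0xc000057a300002bca0000230a0000718d0000c07000000bd900000aba0000d0d0) (Net.cons (nat_lit 32) (nat_lit 0x1fe9eab10000000020107f11000000008ae226040000000000082230) (Net.cons (nat_lit 64) (nat_lit 0x95381008b092433900000000000000000000000000082065) (Net.cons (nat_lit 128) (nat_lit 0x4727f1afc275be40b21fc99239a96529)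 (Net.cons (nat_lit 256) (nat_lit 653311) (Net.cons (nat_lit 128) (nat_lit 174544) (Net.cons (nat_lit 64) (nat_lit 0x5d47054507ecb91b0000000000000000dff089172105765f) (Net.cons (nat_lit 32) (nat_lit 0xd226f0f500000000b2156b7000000000e751274f000000008337c322) (Net.cons (nat_lit 16) (nat_lit 0x700002ac00000e453000036c60000395b0000253e00005d0c0000a93500003556) (Net.cons (nat_lit 8) (nat_lit 0x8a002a0012000f004300a100d300fe00fb002e00dc00830097008f005f00800088) (Net.cons (nat_lit 4) (nat_lit 0xb030e09070b050807040d0f0408080c02060c070f06090e0e0b08090207070e0d0e) (Net.cons (nat_lit 2) (nat_lit 0x121133201100102101031213013301032003020031121132300002313301130223010) (Net.cons (nat_lit 1) (nat_lit 0x514515511005050115041444140415541040051110155144405441454055511054540) Net.nil)))))))))))))))))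

theorem g10_ok : Net.ok 276 g10 = true := by decide +kernel

noncomputable def g11 : Net := (Net.cons (nat_lit 1) (nat_lit 0x440054544404110140044445045101500500515115441400105001154554004001000) (Net.cons (nat_lit 2) (nat_lit 0x300232322111000033332320212022331232303131121322233302230213202032020) (Net.cons (nat_lit 4) (nat_lit 0xb030a0e0a06010f0607020e0d0500060d0d0604080503020a070f0b020d0e040101) (Net.cons (nat_lit 8) (nat_lit 0x20008200da0016000e00bb002d00ca005b00ba002b007b00f0000b002100180000) (Net.cons (nat_lit 16) (nat_lit 0x10000ba9000004846000041090000315700005ba60000c9900000085c00004500) (Net.cons (nat_lit 32) (nat_lit 0x74041fe400000000b4c53f7a000000000109fc22000000000000de03) (Net.cons (nat_lit 64) (nat_lit 0x498c21b0708003b100000000000000000000000000009d21) (Net.cons (nat_lit 128) (nat_lit 0xacbf6e12c6ff1b40570345e13804cdd8) (Net.cons (nat_lit 256) (nat_lit 843771) (Net.cons (nat_lit 128) (nat_lit 686587) (Net.cons (nat_lit 64) (nat_lit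 0x3e097584f4463eb00000000000000000d73b80c542bc8f63) (Net.cons (nat_lit 32) (nat_lit 0x3666037000000000df8d4f6000000000f2cd10c10000000024da6d0b) (Net.cons (nat_lit 16) (nat_lit 0xe00007bd9000073c1000055e90000bcb800004e63000039390000424b00003900) (Net.cons (nat_lit 8) (nat_lit 0xe600ce00ee0024003900a2009100ee00d300f8007800e90082002800ca00000028) (Net.cons (nat_lit 4) (nat_lit 0xe0f0507080c0b06070c06060d0a03050e000e0f000f0e0b0b0702010d010e090f01) (Net.cons (nat_lit 2) (nat_lit 0x33333221330321013203010131103110020202311100331330112001123002232330) (Net.cons (nat_lit 1) (nat_lit 0x514445544454550544010111055505145051505100444001501000555010440011500) Net.nil)))))))))))))))))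

theorem g11_ok : Net.ok 276 g11 = true := by decide +kernel

noncomputable def V12 : List Net := [g10, g11]

theorem V12_ok : okE 276 V12 = true := (okE_cons.2 ⟨g10_ok, (okE_cons.2 ⟨g11_ok, (okE_nil 276)⟩)⟩)

noncomputable def g14 : Net := (Net.cons (nat_lit 1) (nat_lit 0x404011544515041014001045150141011114114100140114554454105500154010000) (Net.cons (nat_lit 2) (nat_lit 0x322302003302001110230132023020333213323013031001120033303111130220200) (Net.cons (nat_lit 4) (nat_lit 0x70b0206010e060107090204080d0900010d0b060d020a030f070f010a09020c0601) (Net.cons (nat_lit 8) (nat_lit 0x1b00830006006b004d00f500cf000200fd005c0032002100fe008d0071004c0004) (Net.cons (nat_lit 16) (nat_lit 0x100001b6700001d1200003a200000ad8600001294000078c20000347e000008c0) (Net.cons (nat_lit 32) (nat_lit 0xfaef4838000000003cdc7862000000004848c0d400000000000ec508) (Net.cons (nat_lit 64) (nat_lit 0x21cc869d0909a0cb000000000000000000000000000ca407) (Net.cons (nat_lit 128) (nat_lit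 0x4c1af6d51f088c2571f6784a34e94cf9) (Net.cons (nat_lit 256) (nat_lit 0xfedff) (Net.cons (nat_lit 128) (nat_lit 550143) (Net.cons (nat_lit 64) (nat_lit 0x2347c703cf2f174500000000000000004a10304970ea1487) (Net.cons (nat_lit 32) (nat_lit 0xa4f4d0ae00000000abc7391f000000002b7a369a0000000073199485) (Net.cons (nat_lit 16) (nat_lit 0x30e10000ac5c0000abd80000308f0000a0620000a0c40000e1b700006a08) (Net.cons (nat_lit 8) (nat_lit 0x3e00ce00e500ce0007006a003900da00fb00b1008c00e3009d00ab00bf005400c4) (Net.cons (nat_lit 4) (nat_lit 0x90d030e0806030d000809040a0c07030408010302030c06030d0008050c0b090309) (Net.cons (nat_lit 2) (nat_lit 0x3230311300003310022130203003311332223001103212022231203013313103200) (Net.cons (nat_lit 1) (nat_lit 0x14011550544045001504115440415151444040044144001514414005011511154040) Net.nil)))))))))))))))))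

theorem g14_ok : Net.ok 276 g14 = true := by decide +kernel

noncomputable def g15 : Net := (Net.cons (nat_lit 1) (nat_lit 0x511401004500514410504401050544051501511054040515554005000514004100410) (Net.cons (nat_lit 2) (nat_lit 0x302220301202213213220213300121120121112231301122310023031001122101220) (Net.cons (nat_lit 4) (nat_lit 0x404040e040e04010503070409060b00090c0d060a0e050a0003040b00080b0c0c00) (Net.cons (nat_lit 8) (nat_lit 0x1a000a004d00bc00310060002c00ef009400c4001a00be0050000d002900000004) (Net.cons (nat_lit 16) (nat_lit 0xf00003ab4000002f8000008b60000d8f900003099000040140000f4670000bc50) (Net.cons (nat_lit 32) (nat_lit 0xa4a003cd000000008e6eb54f00000000902c6d61000000000000d002) (Net.cons (nat_lit 64) (nat_lit 0x9100918c8f0ea40900000000000000000000000000003c20) (Net.cons (nat_lit 128) (nat_lit 0x587f990a4b37bdb9058260d2bcc276f) (Net.cons (nat_lit 256) (nat_lit 917375) (Net.cons (nat_lit 128) (nat_lit 326483) (Net.cons (nat_lit 64) (nat_lit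 0x9c86b32b086778b500000000000000002c8caa387163e4c6) (Net.cons (nat_lit 32) (nat_lit 0x3da4af32000000004d00bea200000000f26157ff00000000906a4f96) (Net.cons (nat_lit 16) (nat_lit 0x10000e43b0000bd290000902f00008f5a0000d6bf00007a84000046ae0000ee70) (Net.cons (nat_lit 8) (nat_lit 0xf700df007700cc003d002700970068008f00c3005b0099000d0056006e00b3002c) (Net.cons (nat_lit 4) (nat_lit 0xd000b0b0d0e080d090f0206070f03090307050002000f0b0b0207030409000a00) (Net.cons (nat_lit 2) (nat_lit 0x103131211301110200130232003200132013303310213122003100121102003302020) (Net.cons (nat_lit 1) (nat_lit 0x410545504151401451504451015044054114410105014510045541404011140050) Net.nil)))))))))))))))))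

theorem g15_ok : Net.ok 276 g15 = true := by decide +kernel

noncomputable def V16 : List Net := [g14, g15]

theorem V16_ok : okE 276 V16 = true := (okE_cons.2 ⟨g14_ok, (okE_cons.2 ⟨g15_ok, (okE_nil 276)⟩)⟩)

noncomputable def g18 : Net := (Net.cons (nat_lit 1) (nat_lit 0x151554151011004110455540144404145150540440505441505155150004145050050) (Net.cons (nat_lit 2) (nat_lit 0x312212002233312230121002011332032003222032132211033301223013000300020) (Net.cons (nat_lit 4) (nat_lit 0x50307040005020200080f0e02090b0202090b040809000201010500000403080804) (Net.cons (nat_lit 8) (nat_lit 0xdf00c5005200de0020003b00a100bc004600e2000600d200260007000800050006) (Net.cons (nat_lit 16) (nat_lit 0x9000083ad000031e8000092320000045e000046780000bdca0000299200004480) (Net.cons (nat_lit 32) (nat_lit 0x856aeea200000000d0ea00fd0000000001448024000000000006283a) (Net.cons (nat_lit 64) (nat_lit 0x6ac833c0b84d0147000000000000000000000000000250f4) (Net.cons (nat_lit 128) (nat_lit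 0xfca8934509727f2712406c8ab42407df) (Net.cons (nat_lit 256) (nat_lit 0xf7fff) (Net.cons (nat_lit 128) (nat_lit 770863) (Net.cons (nat_lit 64) (nat_lit 0x297131f76811464a000000000000000036f108264d45c042) (Net.cons (nat_lit 32) (nat_lit 0x80894ba1000000008904117700000000121a8ff3000000002f642410) (Net.cons (nat_lit 16) (nat_lit 0x60000e1b800006899000060e9000096950000e9f60000e18e000060300000e8aa) (Net.cons (nat_lit 8) (nat_lit 0x5600e8002400b2007000f5004500e700d20076007d00f9000a0074000800810026) (Net.cons (nat_lit 4) (nat_lit 0x10401010a0c0f03060e0005070605050f030f08040d0506020406040007070a0c0c) (Net.cons (nat_lit 2) (nat_lit 0x222223030032233323313032223300103211332220103232332310202012233101200) (Net.cons (nat_lit 1) (nat_lit 0x45144540505545100045041114100515140040441540041100545155005144140450) Net.nil)))))))))))))))))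

theorem g18_ok : Net.ok 276 g18 = true := by decide +kernel

noncomputable def g19 : Net := (Net.cons (nat_lit 1) (nat_lit 0x410441514500040004405155054551410541144514414050550045451510151540100) (Net.cons (nat_lit 2) (nat_lit 0x331300011301331001301330313213102003203000003213232210033002212222120) (Net.cons (nat_lit 4) (nat_lit 0x40304010d06050d090f070b070102010a0b070209050d0502010a0b0a0a0d010c00) (Net.cons (nat_lit 8) (nat_lit 0x33000800d8001d0034003f0048000a00280030008500c800aa00c3000300060002) (Net.cons (nat_lit 16) (nat_lit 0xc0000bf31000075270000b6a900005d7c000065000000e3040000080100000000) (Net.cons (nat_lit 32) (nat_lit 0x38c69502000000003c97ba4600000000a86d01140000000000044101) (Net.cons (nat_lit 64) (nat_lit 0xd922a0a024d8450000000000000000000000000005688a) (Net.cons (nat_lit 128) (nat_lit 0x8f8f3780b439307e2856546e0109bc16) (Net.cons (nat_lit 256) (nat_lit 0xffddf) (Net.cons (nat_lit 128) (nat_lit 0xf650f) (Net.cons (nat_lit 64) (nat_lit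 0x8cc05569ea652470000000000000000ec22b38024513d88) (Net.cons (nat_lit 32) (nat_lit 0x9a17c69300000000e1f6379f00000000091a9a6600000000d1866571) (Net.cons (nat_lit 16) (nat_lit 0xa000091d40000b1b60000cb5300009602000065e400006e8c0000913a00004050) (Net.cons (nat_lit 8) (nat_lit 0x8f007900fb002b002a008700c300c6007a00120041006400a2002d003200cf005a) (Net.cons (nat_lit 4) (nat_lit 0xc01030f0b0b010202040e0d0f0d0b040a0d05020f0105030107030a000009090c00) (Net.cons (nat_lit 2) (nat_lit 0x302032132302220231113101120002111313133213022330332021330021003233320) (Net.cons (nat_lit 1) (nat_lit 0x541450510500541411441511100404001550010104510515055451115505411551140) Net.nil)))))))))))))))))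

theorem g19_ok : Net.ok 276 g19 = true := by decide +kernel

noncomputable def g20 : Net := (Net.cons (nat_lit 1) (nat_lit 0x444011544041114550500111055500404115544541514155015010115555404501050) (Net.cons (nat_lit 2) (nat_lit 0x101302012330232020010130313022130322012231132111113113330300112100220) (Net.cons (nat_lit 4) (nat_lit 0x6070f0e0601010d090b090407060f070a0102000a06040806010b090b060e0c0108) (Net.cons (nat_lit 8) (nat_lit 0xc2009b00cb00b200f500010001005700b9004e002300a9003f008100c000120001) (Net.cons (nat_lit 16) (nat_lit 0x4000069c80000e78a0000b52f0000194d0000b10200006a4400006f1a00002640) (Net.cons (nat_lit 32) (nat_lit 0xfc43da450000000049282070000000000049d0b5000000000000e561) (Net.cons (nat_lit 64) (nat_lit 0x8c45004508203a80000000000000000000000000008de9c) (Net.cons (nat_lit 128) (nat_lit 0x460fc1937233c90238d1bcf50f8330ec) (Net.cons (nat_lit 256) (nat_lit 786429) (Net.cons (nat_lit 128) (nat_lit 549473) (Net.cons (nat_lit 64) (nat_lit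 0x7a974bfef3a04db700000000000000001e1aeec454530cfc) (Net.cons (nat_lit 32) (nat_lit 0xf204d9d300000000253cafce000000008271508000000000844af5a1) (Net.cons (nat_lit 16) (nat_lit 0xf0000bf2c000018680000f41500008afe0000b1560000ec660000287f000050c9) (Net.cons (nat_lit 8) (nat_lit 0x8800b8001000b300b2000e00c100cc0098005200d700a4002c005e0005000b00c9) (Net.cons (nat_lit 4) (nat_lit 0x50c0e0f0b0003020c05020009050e090908090902060d090d010d0f0703010e0200) (Net.cons (nat_lit 2) (nat_lit 0x112320123330010302321000333131231212103001232020130301101300113102220) (Net.cons (nat_lit 1) (nat_lit 0x414454011050054504111410150550444145444100414011115005450050441114150) Net.nil)))))))))))))))))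

theorem g20_ok : Net.ok 276 g20 = true := by decide +kernel

noncomputable def V21 : List Net := [g18, g19, g20]

theorem V21_ok : okE 276 V21 = true := (okE_cons.2 ⟨g18_ok, (okE_cons.2 ⟨g19_ok, (okE_cons.2 ⟨g20_ok, (okE_nil 276)⟩)⟩)⟩)

noncomputable def g23 : Net := (Net.cons (nat_lit 1) (nat_lit 0x454155441441441145441554010545105544041005401545015415004114100045540) (Net.cons (nat_lit 2) (nat_lit 0x31223230021230203132233211113113012301021333012300320011033332212100) (Net.cons (nat_lit 4) (nat_lit 0x6040b0900020802090409010408050e0b0c0d040c030d010208060e0d0100000405) (Net.cons (nat_lit 8) (nat_lit 0x3b0085004000a100cf004a002d00ac00a500af00870001001a00dc002f00b1000e) (Net.cons (nat_lit 16) (nat_lit 0x80000bc02000066020000337e0000d02c0000ab890000f2280000c15000002800) (Net.cons (nat_lit 32) (nat_lit 0x8d3a9b4a00000000989d66d500000000898c4e02000000000006021e) (Net.cons (nat_lit 64) (nat_lit 0x614402c0241f2960000000000000000000000000000b07a0) (Net.cons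 (nat_lit 128) (nat_lit 0xce622ae92152120d31ae2d078467e9e1) (Net.cons (nat_lit 256) (nat_lit 0xfffff) (Net.cons (nat_lit 128) (nat_lit 972372) (Net.cons (nat_lit 64) (nat_lit 0xd53e7bea2c9acb610000000000000000988ff92eb0413da0) (Net.cons (nat_lit 32) (nat_lit 0x919cd84300000000c9553894000000009da23a8100000000354a5a93) (Net.cons (nat_lit 16) (nat_lit 0x10000781a0000ab27000002550000f44200004e9600001e2d00003dcb00006d88) (Net.cons (nat_lit 8) (nat_lit 0x7900df0085002300f700b3007d00ec00af00640098001d001b006c007b0063008a) (Net.cons (nat_lit 4) (nat_lit 0xd0f090f070b09080a020f0b01040a0c0a0c0b0d0308020a06080506080f04040305) (Net.cons (nat_lit 2) (nat_lit 0x332213200011010213133313113203313011303300220032120313220330210232110) (Net.cons (nat_lit 1) (nat_lit 0x411104445011451551410144005005455411050450014441555001044140014005100) Net.nil)))))))))))))))))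

theorem g23_ok : Net.ok 276 g23 = true := by decide +kernel

noncomputable def g24 : Net := (Net.cons (nat_lit 1) (nat_lit 0x444545514050054055450101540455115104050151551154445444145100114140500) (Net.cons (nat_lit 2) (nat_lit 0x231323300320233031130223123022101111212233022103013031331320211000300) (Net.cons (nat_lit 4) (nat_lit 0xe0102080e01080b00020403090e06030a040c0e0f0c0d090203040f09030d0d0800) (Net.cons (nat_lit 8) (nat_lit 0xfa000300f9003f00d40068001400d6009d00f3001a00000000009600d100920000) (Net.cons (nat_lit 16) (nat_lit 0xc0000182e00000a6f0000038a0000628a00009fdd000067880000806d00000a10) (Net.cons (nat_lit 32) (nat_lit 0x3421f23800000000c8f97b3a0000000022bac0020000000000048b12) (Net.cons (nat_lit 64) (nat_lit 0x584c0401b219ec0200000000000000000000000000085684) (Net.cons (nat_lit 128) (nat_lit 0xc01e4439f6224b029fc019bc0c346ee9) (Net.cons (nat_lit 256) (nat_lit 851967) (Net.cons (nat_lit 128) (nat_lit 0xfeb29) (Net.cons (nat_lit 64) (nat_lit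 0x6438f5e1a51ee30200000000000000000c2c57d974b3d256) (Net.cons (nat_lit 32) (nat_lit 0x7a06f66600000000034ab4a3000000008be7d60200000000dee108d2) (Net.cons (nat_lit 16) (nat_lit 0xe0000a68b0000af9a0000151c0000321800003b690000af300000c8d4000020d0) (Net.cons (nat_lit 8) (nat_lit 0x24007d005f00b2008900e600a80081003f0088001e00ab00d8004f000900cb0000) (Net.cons (nat_lit 4) (nat_lit 0xe07030407030d0e0f09060908010b0c00050c0a0c0c0d07030b050e0b0b0a060900) (Net.cons (nat_lit 2) (nat_lit 0x31022022131033030111323200331123012112133021222211031331200320203310) (Net.cons (nat_lit 1) (nat_lit 0x414011540144010400400114540515445451014414454544504444154040005141140) Net.nil)))))))))))))))))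

theorem g24_ok : Net.ok 276 g24 = true := by decide +kernel

noncomputable def V25 : List Net := [g23, g24]

theorem V25_ok : okE 276 V25 = true := (okE_cons.2 ⟨g23_ok, (okE_cons.2 ⟨g24_ok, (okE_nil 276)⟩)⟩)

noncomputable def g27 : Net := (Net.cons (nat_lit 1) (nat_lit 0x1510054041015440014405441041514014150051550410441010151001515044440) (Net.cons (nat_lit 2) (nat_lit 0x332021122332000000331313120120203132011032003333310213010001122002000) (Net.cons (nat_lit 4) (nat_lit 0x507080708040c030b020909080507050506050d0e0903090b060706010c0f080b01) (Net.cons (nat_lit 8) (nat_lit 0x5b001e00f100a6002400c000bd0098004c00d00007000700700007008f004a0002) (Net.cons (nat_lit 16) (nat_lit 0x90f20000a1c000008698000082320000388e000080e10000d68300000c10) (Net.cons (nat_lit 32) (nat_lit 0xca1e984d00000000c6c42e4a0000000011a61820000000000002b612) (Net.cons (nat_lit 64) (nat_lit 0x44a7355018818861000000000000000000000000000120c0) (Net.cons (nat_lit 128) (nat_lit 0xbf4f470108d7c9765bb03871d107b70d)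 (Net.cons (nat_lit 256) (nat_lit 0xfbfdf) (Net.cons (nat_lit 128) (nat_lit 987166) (Net.cons (nat_lit 64) (nat_lit 0x1e6c933fc912a5800000000000000008666886cc0c15940) (Net.cons (nat_lit 32) (nat_lit 0xd9345cfc00000000a2f0c4ef00000000dcbb9c1a00000000f7649ec2) (Net.cons (nat_lit 16) (nat_lit 0x500004414000022ee00001c0b000064d0000086c8000009cc0000527e00003d52) (Net.cons (nat_lit 8) (nat_lit 0xfa001a0063002a0038004c002700bc00fa003600470095001500870090000e0003) (Net.cons (nat_lit 4) (nat_lit 0x30e030401060d0f0106060c0106080901000d030e0a0b05060a070b06020d030d01) (Net.cons (nat_lit 2) (nat_lit 0x311001332230033301011020122301113330220012020021011011022123122012010) (Net.cons (nat_lit 1) (nat_lit 0x514000400104041141414410045040415105505551155500401414110444414144000) Net.nil)))))))))))))))))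

theorem g27_ok : Net.ok 276 g27 = true := by decide +kernel

noncomputable def g28 : Net := (Net.cons (nat_lit 1) (nat_lit 0x515510401100511514441115010540101054554150110500001450151050001400400) (Net.cons (nat_lit 2) (nat_lit 0x202223201021031320321233233021133022212300321300010013113011120010000) (Net.cons (nat_lit 4) (nat_lit 0x40208030b0e010f0a0c060700090b0c0303060c00030d0300050d00060600000000) (Net.cons (nat_lit 8) (nat_lit 0xba003f004400a4000000fa00ff001b0053001b00b700290002000600800000) (Net.cons (nat_lit 16) (nat_lit 0x400009529000087cd0000640000000fc900009bc9000087c40000a69600000100) (Net.cons (nat_lit 32) (nat_lit 0x84a606d700000000e572a68100000000145b38910000000000062104) (Net.cons (nat_lit 64) (nat_lit 0x345009010804951a000000000000000000000000000c1b94) (Net.cons (nat_lit 128) (nat_lit 0xb3ce26c302fe8815049e2dca5e7d545f) (Net.cons (nat_lit 256) (nat_lit 0xf7fdf) (Net.cons (nat_lit 128) (nat_lit 869727) (Net.cons (nat_lit 64) (nat_lit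 0x38f72977cf04e3ba00000000000000004ca7a472220c5e94) (Net.cons (nat_lit 32) (nat_lit 0xb5e787d700000000a566fb9100000000005b28dd0000000085462744) (Net.cons (nat_lit 16) (nat_lit 0x400009128000083cd000030500000dbc900008ec8000093c40000a2d6000005d0) (Net.cons (nat_lit 8) (nat_lit 0xba007e004400b5000300aa00eb000b0056001a00b700290002004300d00000) (Net.cons (nat_lit 4) (nat_lit 0x10208030b0e010b0a0c060300090b0c0703020c00030d0600050d00020604000000) (Net.cons (nat_lit 2) (nat_lit 0x203223311021021321320233223021133022212300331300110033113001021010000) (Net.cons (nat_lit 1) (nat_lit 0x515510401100511514441115010540101054554150110500001450151050001400400) Net.nil)))))))))))))))))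

theorem g28_ok : Net.ok 276 g28 = true := by decide +kernel

noncomputable def g29 : Net := (Net.cons (nat_lit 1) (nat_lit 0x104151454541050140540405501404550400541445404011040005045041151040000) (Net.cons (nat_lit 2) (nat_lit 0x10100300132233023103221110303131012003123120010330222212200132001000) (Net.cons (nat_lit 4) (nat_lit 0xa000c020c0e03060c060a0a090b0b0d0d09070a0e0a050002020500040100010000) (Net.cons (nat_lit 8) (nat_lit 0x8500b6009b00f1007e009b0015002300220041003d008e00250010000500080000) (Net.cons (nat_lit 16) (nat_lit 0x80000f0750000111f000019900000db8500003a2c000012400000028200000000) (Net.cons (nat_lit 32) (nat_lit 0x4364985800000000c225ecf30000000000003821000000000003ab8f) (Net.cons (nat_lit 64) (nat_lit 0x2058150040000184000000000000000000000000000d8507) (Net.cons (nat_lit 128) (nat_lit 0x26d2335f15fbf6531b374203747f4c7) (Net.cons (nat_lit 256) (nat_lit 0xfffdf) (Net.cons (nat_lit 128) (nat_lit 523845) (Net.cons (nat_lit 64) (nat_lit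 0xefd8bb294fc40912000000000000000081313110034d9f05) (Net.cons (nat_lit 32) (nat_lit 0x4470c37d00000000d5f1eff7000000002ff12e00000000001302b88f) (Net.cons (nat_lit 16) (nat_lit 0xd0000747a000033ea0000191500005ea800005f3900001661000024330000cb00) (Net.cons (nat_lit 8) (nat_lit 0x870036009f00f300df009b0017002600a20041009d00ae0027001a0081000d0000) (Net.cons (nat_lit 4) (nat_lit 0x2000c020c0603060c0e0a0a090b030d0d09070a0e0a0500020a05040c0100010000) (Net.cons (nat_lit 2) (nat_lit 0x10100300132233023103221310303131012003123120010330222212200132001000) (Net.cons (nat_lit 1) (nat_lit 0x104151454441050140540405501404550400541445404011040001045441151040000) Net.nil)))))))))))))))))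

theorem g29_ok : Net.ok 276 g29 = true := by decide +kernel

noncomputable def V30 : List Net := [g27, g28, g29]

theorem V30_ok : okE 276 V30 = true := (okE_cons.2 ⟨g27_ok, (okE_cons.2 ⟨g28_ok, (okE_cons.2 ⟨g29_ok, (okE_nil 276)⟩)⟩)⟩)

noncomputable def g32 : Net := (Net.cons (nat_lit 1) (nat_lit 0x540511411101105150141450545000001141040500511110440044040145100114100) (Net.cons (nat_lit 2) (nat_lit 0x120220333230232312031312122002130322330020130012112221010022121330100) (Net.cons (nat_lit 4) (nat_lit 0x6060d0f0207090f050404060e0a05060505010c010b0809090409060f030605020c) (Net.cons (nat_lit 8) (nat_lit 0x4000ec00e50091008f005c00c900040074004d00d2003c00170091008100200000) (Net.cons (nat_lit 16) (nat_lit 0x8000085b400006b220000f785000017060000483000001d6d000000ab00004440) (Net.cons (nat_lit 32) (nat_lit 0xc4b01c5200000000289fa0f2000000002145da320000000000092d24) (Net.cons (nat_lit 64) (nat_lit 0x4000a0d3fb00406100000000000000000000000000029e95) (Net.cons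 (nat_lit 128) (nat_lit 0xd20a7fb0a557d262b890d54b5aa25165) (Net.cons (nat_lit 256) (nat_lit 0xffffd) (Net.cons (nat_lit 128) (nat_lit 440104) (Net.cons (nat_lit 64) (nat_lit 0x789003650b394080000000000000000070d8d98c6f378ff5) (Net.cons (nat_lit 32) (nat_lit 0x84f9a5d2000000008d4cb4b10000000004f6997800000000e8b89564) (Net.cons (nat_lit 16) (nat_lit 0x40000a29900001a31000000570000be230000f0970000194c000061210000b840) (Net.cons (nat_lit 8) (nat_lit 0x4d000200ef0062000b009a00e600340006007f00b100350056008a00d9006a000c) (Net.cons (nat_lit 4) (nat_lit 0xe030a05040905040c0f0f0204030c07050b02070b020d060d0a0000070d030a020c) (Net.cons (nat_lit 2) (nat_lit 0x113322323330222100030203100031301102201023110122200222000201222113000) (Net.cons (nat_lit 1) (nat_lit 0x54554554540111151140051500445051501154544145045501005055051551545400) Net.nil)))))))))))))))))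

theorem g32_ok : Net.ok 276 g32 = true := by decide +kernel

noncomputable def V33 : List Net := [g32, g32]

theorem V33_ok : okE 276 V33 = true := (okE_cons.2 ⟨g32_ok, (okE_cons.2 ⟨g32_ok, (okE_nil 276)⟩)⟩)

noncomputable def ELb_E : List Net := [n_b1, n_b2, n_b3, n_s1, n_s2, n_s4, g2, g3, g6, g7, g10, g11, g14, g15, g18, g19, g20, g23, g24, g27, g28, g29, g32, g32]

theorem ELb_E_ok : okE 276 ELb_E = true := (okE_cons.2 ⟨n_b1_ok, (okE_cons.2 ⟨n_b2_ok, (okE_cons.2 ⟨n_b3_ok, (okE_cons.2 ⟨n_s1_ok, (okE_cons.2 ⟨n_s2_ok, (okE_cons.2 ⟨n_s4_ok, (okE_cons.2 ⟨g2_ok, (okE_cons.2 ⟨g3_ok, (okE_cons.2 ⟨g6_ok, (okE_cons.2 ⟨g7_ok, (okE_cons.2 ⟨g10_ok, (okE_cons.2 ⟨g11_ok, (okE_cons.2 ⟨g14_ok, (okE_cons.2 ⟨g15_ok, (okE_cons.2 ⟨g18_ok, (okE_cons.2 ⟨g19_ok, (okE_cons.2 ⟨g20_ok, (okE_cons.2 ⟨g23_ok, (okE_cons.2 ⟨g24_ok, (okE_cons.2 ⟨g27_ok, (okE_cons.2 ⟨g28_ok, (okE_cons.2 ⟨g29_ok, (okE_cons.2 ⟨g32_ok, (okE_cons.2 ⟨g32_ok, (okE_nil 276)⟩)⟩)⟩)⟩)⟩)⟩)⟩)⟩)⟩)⟩)⟩)⟩)⟩)⟩)⟩)⟩)⟩)⟩)⟩)⟩)⟩)⟩)⟩)⟩)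

noncomputable def g35 : Net := (Net.cons (nat_lit 1) (nat_lit 0x105141141150404114011141410150415004445540115144500005111540554554514) (Net.cons (nat_lit 2) (nat_lit 0x300321011310022301220310230103010011201303000030200122030203332200) (Net.cons (nat_lit 4) (nat_lit 0x9050f0a000f040f0909090b0900070c0f030903070d0e0e050003080808070e0705) (Net.cons (nat_lit 8) (nat_lit 0x340048005f00c300a80097009f002700ea00b2005c000e00040000001300080005) (Net.cons (nat_lit 16) (nat_lit 0xa000094e2000083750000ecf20000a7300000c2a50000dfaa0000381b00002140) (Net.cons (nat_lit 32) (nat_lit 0x184a058400000000c5246701000000005a39dd18000000000000144a) (Net.cons (nat_lit 64) (nat_lit 0x8c0b2d29845480bd0000000000000000000000000002d68b) (Net.cons (nat_lit 128) (nat_lit 0x3acf86046cf8cfbc8510b9fdf2a42c17) (Net.cons (nat_lit 256) (nat_lit 524255) (Net.cons (nat_lit 128) (nat_lit 722436) (Net.cons (nat_lit 64) (nat_lit 0x32e9bbfe8cf161af00000000000000004fdd1f8334b6f982) (Net.cons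 (nat_lit 32) (nat_lit 0xcb3b81d40000000038e7133700000000399222b70000000053c77f0b) (Net.cons (nat_lit 16) (nat_lit 0x40000a0f800000b1f000032590000b7780000829f0000e04500009e8f00001fc8) (Net.cons (nat_lit 8) (nat_lit 0x6100ef004d00990070000d00a400fa0058001e003800860046003a006300e200e6) (Net.cons (nat_lit 4) (nat_lit 0x60d000902030c0b010d020b080500070806000608020a0f0d04040d0a0b030a0102) (Net.cons (nat_lit 2) (nat_lit 0x321000300331322003312320011011320112021103220101330303103002211111123) (Net.cons (nat_lit 1) (nat_lit 0x150405110514504151051411515540101101004401010400050105040115510045004) Net.nil)))))))))))))))))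

theorem g35_ok : Net.ok 276 g35 = true := by decide +kernel

noncomputable def g36 : Net := (Net.cons (nat_lit 1) (nat_lit 0x40444141451450505154004144500001045550544411414151444551511004004100) (Net.cons (nat_lit 2) (nat_lit 0x323030321230213130133133012000303311032023110312032301012031000031320) (Net.cons (nat_lit 4) (nat_lit 0xa0005070f02070e0b030308060d0a0b09070d02050d080008000903000a01060e0b) (Net.cons (nat_lit 8) (nat_lit 0xa5007100610064007200fe0016003f00d600be004b00ac004800f000ca005b0000) (Net.cons (nat_lit 16) (nat_lit 0x2000018050000d8030000e223000076350000b0780000f1f800006de000009240) (Net.cons (nat_lit 32) (nat_lit 0x211140e700000000000690330000000049d1c19d00000000000135c3) (Net.cons (nat_lit 64) (nat_lit 0x2d0a109c61e0f88c000000000000000000000000000081da) (Net.cons (nat_lit 128) (nat_lit 0x9f63abd7c099256422b8dc2abd684285) (Net.cons (nat_lit 256) (nat_lit 653279) (Net.cons (nat_lit 128) (nat_lit 515338) (Net.cons (nat_lit 64) (nat_lit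 0x1d3883449c613700000000000000000056d8b83eb2fdc76d) (Net.cons (nat_lit 32) (nat_lit 0x3c6171f1000000000639535f00000000e4f688ed00000000af61421e) (Net.cons (nat_lit 16) (nat_lit 0x30000c8ff000097410000a652000070d50000c7f60000cf320000ce5b00005346) (Net.cons (nat_lit 8) (nat_lit 0x21009900b9004400f800d3008900f10027003a0098004e00c900aa003e00f700eb) (Net.cons (nat_lit 4) (nat_lit 0xd0c060f050e0f030b050e090f0e0f070a050b090c020c030902030d040009000105) (Net.cons (nat_lit 2) (nat_lit 0x330003300212310312120100201320222233110213220101103122221132123312102) (Net.cons (nat_lit 1) (nat_lit 0x404554011054101041001041550055544100411445004044505451544151504411105) Net.nil)))))))))))))))))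

theorem g36_ok : Net.ok 276 g36 = true := by decide +kernel

noncomputable def g37 : Net := (Net.cons (nat_lit 1) (nat_lit 0x110004104445401101510451444454004040405401001145000544514541011111100) (Net.cons (nat_lit 2) (nat_lit 0x11111113210023330222023201313322123011303112310113100123222100132230) (Net.cons (nat_lit 4) (nat_lit 0x5020d0303010602000c0206020d0d0e0602010b09060005020d05030b0a0704010d) (Net.cons (nat_lit 8) (nat_lit 0x4a003f003b005100c1004d000c003400f000e9001800e000b8000d002400c10004) (Net.cons (nat_lit 16) (nat_lit 0x50000ae21000092950000b71f0000233200002c9b000022090000300600009330) (Net.cons (nat_lit 32) (nat_lit 0x1f001b1200000000567bc8a500000000c508ec560000000000000567) (Net.cons (nat_lit 64) (nat_lit 0x813402886842cf460000000000000000000000000005060a) (Net.cons (nat_lit 128) (nat_lit 0x627dc6b609c4a66f9381b978e5a4480f) (Net.cons (nat_lit 256) (nat_lit 917503) (Net.cons (nat_lit 128) (nat_lit 942351) (Net.cons (nat_lit 64) (nat_lit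 0x985b4a9e0fe3f40100000000000000008422311a10e26adf) (Net.cons (nat_lit 32) (nat_lit 0xedcf5dae00000000511f3f7b000000007ec2e8fc00000000295365f3) (Net.cons (nat_lit 16) (nat_lit 0x90000451e0000ae3d000032a80000885a000070b30000504b000067c30000da19) (Net.cons (nat_lit 8) (nat_lit 0xaf002b00210086001100df006b005d00b7009300f5002000c7004e00a10014003f) (Net.cons (nat_lit 4) (nat_lit 0xa0a000d0e0f0f0903020405020a050005030803040a030d03030a040e0e080f010c) (Net.cons (nat_lit 2) (nat_lit 0x11233111221212011310013130300330232323320111321131000011333210031010) (Net.cons (nat_lit 1) (nat_lit 0x154101145000405455515045114500510410541501051515400541100411015000000) Net.nil)))))))))))))))))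

theorem g37_ok : Net.ok 276 g37 = true := by decide +kernel

noncomputable def g38 : Net := (Net.cons (nat_lit 1) (nat_lit 0x15000111440154140145040141515050000551505514515554544110040400051000) (Net.cons (nat_lit 2) (nat_lit 0x203022032003322301201310012200212111122003203000330211320303123002030) (Net.cons (nat_lit 4) (nat_lit 0x60000050e0c0002040d0f0d0905040d09000100040d0c090c0d0d00000b0c0002) (Net.cons (nat_lit 8) (nat_lit 0xac00b800d700170081002300d8004700c000b300cc006600fc00c000b800100008) (Net.cons (nat_lit 16) (nat_lit 0xe0000e4b900004fa2000012570000a455000021500000660100002b460000b210) (Net.cons (nat_lit 32) (nat_lit 0x472b83e300000000c4a2884100000000604214940000000000007c93) (Net.cons (nat_lit 64) (nat_lit 0x7c5558057c1a647000000000000000000000000000022462) (Net.cons (nat_lit 128) (nat_lit 0xc56adb0cb00b828739b704c1cfb2423d) (Net.cons (nat_lit 256) (nat_lit 196607) (Net.cons (nat_lit 128) (nat_lit 507328) (Net.cons (nat_lit 64) (nat_lit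 0xd96222e56e0de9180000000000000000d24495c6a8b416f2) (Net.cons (nat_lit 32) (nat_lit 0x3f32324600000000aa88de8c000000009c34f4e700000000a5a6d7b4) (Net.cons (nat_lit 16) (nat_lit 0xe00001eb3000058b8000051b40000c9d7000088280000a178000011920000ab08) (Net.cons (nat_lit 8) (nat_lit 0x5500b7008100050064000a002f00fe001500d70045000900cf0075007b00ac002d) (Net.cons (nat_lit 4) (nat_lit 0x40305070a0a050c0b0005090f0206060c01040f040f0a030000080f090809080d0a) (Net.cons (nat_lit 2) (nat_lit 0x210030321320220112000020112021130232122203123031232020220213000010110) (Net.cons (nat_lit 1) (nat_lit 0x454410414440004045401401114451050451555044144004150104510440441500044) Net.nil)))))))))))))))))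

theorem g38_ok : Net.ok 276 g38 = true := by decide +kernel

noncomputable def g39 : Net := (Net.cons (nat_lit 1) (nat_lit 0x411511445001451515011005110444550001040405005540141155510001540000140) (Net.cons (nat_lit 2) (nat_lit 0x102013121002100100023022220233002322023332222221110233312010221000100) (Net.cons (nat_lit 4) (nat_lit 0x5080c010c0b0b010c0e0100040403090409040e08070401040c0505040001080201) (Net.cons (nat_lit 8) (nat_lit 0x5d004c009800e900530056003c004b000300a8002f00330033004b000d00000000) (Net.cons (nat_lit 16) (nat_lit 0x4000087fc0000412500004b1c0000d4a800001434000002630000273200000000) (Net.cons (nat_lit 32) (nat_lit 0x3cefe2b0000000002b0aa18000000000f4c94c940000000000021a03) (Net.cons (nat_lit 64) (nat_lit 0x14cb5210412fb089000000000000000000000000000b4a28) (Net.cons (nat_lit 128) (nat_lit 0xad524a64d10b3e0b50a9181282641d40) (Net.cons (nat_lit 256) (nat_lit 0xf5f6b) (Net.cons (nat_lit 128) (nat_lit 302528) (Net.cons (nat_lit 64) (nat_lit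 0x11eaf6d4e8ccf0bf0000000000000000122207c0becd4b3e) (Net.cons (nat_lit 32) (nat_lit 0x6dcce7bb000000001a75a1aa00000000e7a168980000000013733e47) (Net.cons (nat_lit 16) (nat_lit 0xe000087be0000476700006df60000d4a20000367c00000679000023740000024a) (Net.cons (nat_lit 8) (nat_lit 0x5d0068009800e900d30072001c00eb000300ac008f0073001700c7000900200004) (Net.cons (nat_lit 4) (nat_lit 0x5080c010e0b03010c0e0100040603090409040c08070401040c0d0d0c00010a0201) (Net.cons (nat_lit 2) (nat_lit 0x102013121002100100023022220233002322023332222221110233312010221000100) (Net.cons (nat_lit 1) (nat_lit 0x411511445001451515011005110444550001040405005540141155510001540000140) Net.nil)))))))))))))))))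

theorem g39_ok : Net.ok 276 g39 = true := by decide +kernel

noncomputable def g40 : Net := (Net.cons (nat_lit 1) (nat_lit 0x111400150455514144010050550050050440140001115554414040515511010004000) (Net.cons (nat_lit 2) (nat_lit 0x310203220022300211332132332101012111321030213220312121010220100020100) (Net.cons (nat_lit 4) (nat_lit 0x10b0009010b010d0a090c0606070306000d0e03090908090f0409080c0604000000) (Net.cons (nat_lit 8) (nat_lit 0x5f007700b20038002c005e002700860014008e008200440003000c00e500c00004) (Net.cons (nat_lit 16) (nat_lit 0x600008b210000605e000009100000509600002e63000088320000240000000220) (Net.cons (nat_lit 32) (nat_lit 0x8a3cb10000000014c68911000000004112a04600000000000204e8) (Net.cons (nat_lit 64) (nat_lit 0x41a16b838042409100000000000000000000000000023120) (Net.cons (nat_lit 128) (nat_lit 0xc42fb2168436553911ce4d8d0665cb86) (Net.cons (nat_lit 256) (nat_lit 524271) (Net.cons (nat_lit 128) (nat_lit 640910) (Net.cons (nat_lit 64) (nat_lit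 0xfff27b6bc82688000000000000000000e1744654903f72c) (Net.cons (nat_lit 32) (nat_lit 0x4ca33e000000000108ed58800000000415ae85f00000000a0c64968) (Net.cons (nat_lit 16) (nat_lit 0x60000cb290000e4d600004d190000549e00000a680000ccba00002089000002a8) (Net.cons (nat_lit 8) (nat_lit 0x53007300b20038002c00520027008600d4008e008200440003000800ef00c40004) (Net.cons (nat_lit 4) (nat_lit 0x30b0009030b010d0a090c0606070306000d0c030b090b090f0409080c0604000000) (Net.cons (nat_lit 2) (nat_lit 0x310203220022300211332132332101012111321030213220312121010220100020100) (Net.cons (nat_lit 1) (nat_lit 0x111400150455514144010050550050050440140001115554414041515511010004000) Net.nil)))))))))))))))))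

theorem g40_ok : Net.ok 276 g40 = true := by decide +kernel

noncomputable def g41 : Net := (Net.cons (nat_lit 1) (nat_lit 0x55115114004444001051111140511154104450114511451100150044050100114000) (Net.cons (nat_lit 2) (nat_lit 0x31022223111302013003313021110311100301012001120002002121031100100000) (Net.cons (nat_lit 4) (nat_lit 0xd0f030108010b0e010d090b030502020204000801080002020a0c0f03000b000c00) (Net.cons (nat_lit 8) (nat_lit 0xc2000500b9002a00dc00cd002600ce00580052009d009400ed0014008100660000) (Net.cons (nat_lit 16) (nat_lit 0x80000baca0000c2260000903500006945000020e2000062780000246000000a80) (Net.cons (nat_lit 32) (nat_lit 0x21c1343600000000a0226f61000000009cee91820000000000008000) (Net.cons (nat_lit 64) (nat_lit 0x50505a80015828650000000000000000000000000000931a) (Net.cons (nat_lit 128) (nat_lit 0xa1be1b108ae715edf4c240860bb85981) (Net.cons (nat_lit 256) (nat_lit 580539) (Net.cons (nat_lit 128) (nat_lit 884097) (Net.cons (nat_lit 64) (nat_lit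 0xd885fce5116aaa3700000000000000008080d5603474d21a) (Net.cons (nat_lit 32) (nat_lit 0x411737f400000000e11c6127000000008cb8c0860000000014049d40) (Net.cons (nat_lit 16) (nat_lit 0x80000eb180000c2f600008063000069170000307300003e38000070ea00005bc6) (Net.cons (nat_lit 8) (nat_lit 0xc6000d00f9000a009800d9003200ce005a005200db00d400fd0054008500320040) (Net.cons (nat_lit 4) (nat_lit 0xd0f03010f030d08050d090b0301060306060408070c0006060e0a0b03040b040804) (Net.cons (nat_lit 2) (nat_lit 0x31022223111302013003313023110313100301012021120002002121033100120000) (Net.cons (nat_lit 1) (nat_lit 0x55115114004444001051111140511154104450114511451100151044050100114000) Net.nil)))))))))))))))))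

theorem g41_ok : Net.ok 276 g41 = true := by decide +kernel

noncomputable def g42 : Net := (Net.cons (nat_lit 1) (nat_lit 0x40055001111411105110510410500540410101444010514455044415545005000400) (Net.cons (nat_lit 2) (nat_lit 0x31232331131221331221333212300113012213020310310330130020202031201000) (Net.cons (nat_lit 4) (nat_lit 0xd030f0b08050907090e0d0109050f07060a0e0c0006020206060c0a000a010e0800) (Net.cons (nat_lit 8) (nat_lit 0xf0004600ac0039006600ea006b0003000800320004009300c8000000c6000c0006) (Net.cons (nat_lit 16) (nat_lit 0x60000643c000071a4000089f400003daf0000266100000609000002b200005900) (Net.cons (nat_lit 32) (nat_lit 0xb08219d7000000008228142b000000004002fa28000000000004990a) (Net.cons (nat_lit 64) (nat_lit 0x21090512a2091cc00000000000000000000000000000240d) (Net.cons (nat_lit 128) (nat_lit 0xa0cb298f9033fe3a83860c79332c7440) (Net.cons (nat_lit 256) (nat_lit 982351) (Net.cons (nat_lit 128) (nat_lit 816352) (Net.cons (nat_lit 64) (nat_lit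 0x142b7530cfa91dc700000000000000000c02d2804c8824ad) (Net.cons (nat_lit 32) (nat_lit 0xb1a3197500000000a3799409000000006323daca000000000116b9ac) (Net.cons (nat_lit 16) (nat_lit 0x400006e3e000071a40000abdc00003daf0000267300000609000002b000005942) (Net.cons (nat_lit 8) (nat_lit 0xf00066008c0039004600ca004b0003002a0012002400b300e8004000c6002d0006) (Net.cons (nat_lit 4) (nat_lit 0xd030f0b0c0509050d0e0d0509050f07060a0e0c0006060206060c0a020a010e0a00) (Net.cons (nat_lit 2) (nat_lit 0x31232331131221331221333212300113012213020310310330130020202031201000) (Net.cons (nat_lit 1) (nat_lit 0x40055001111411105110510410500540410101444010514455044415545005000400) Net.nil)))))))))))))))))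

theorem g42_ok : Net.ok 276 g42 = true := by decide +kernel

noncomputable def h_K : List Net := [g35, g36, g37, g38, g39, g40, g41, g42]

theorem h_K_ok : okE 276 h_K = true := (okE_cons.2 ⟨g35_ok, (okE_cons.2 ⟨g36_ok, (okE_cons.2 ⟨g37_ok, (okE_cons.2 ⟨g38_ok, (okE_cons.2 ⟨g39_ok, (okE_cons.2 ⟨g40_ok, (okE_cons.2 ⟨g41_ok, (okE_cons.2 ⟨g42_ok, (okE_nil 276)⟩)⟩)⟩)⟩)⟩)⟩)⟩)⟩)

noncomputable def V44 : List Net := [Co3M.g3, Co3M.g4, Co3M.g7, Co3M.g8, Co3M.g11, Co3M.g12, Co3M.g15, Co3M.g16, Co3M.g17, Co3M.g20, Co3M.g21]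

theorem V44_ok : okE 276 V44 = true := (okE_cons.2 ⟨Co3M.g3_ok, (okE_cons.2 ⟨Co3M.g4_ok, (okE_cons.2 ⟨Co3M.g7_ok, (okE_cons.2 ⟨Co3M.g8_ok, (okE_cons.2 ⟨Co3M.g11_ok, (okE_cons.2 ⟨Co3M.g12_ok, (okE_cons.2 ⟨Co3M.g15_ok, (okE_cons.2 ⟨Co3M.g16_ok, (okE_cons.2 ⟨Co3M.g17_ok, (okE_cons.2 ⟨Co3M.g20_ok, (okE_cons.2 ⟨Co3M.g21_ok, (okE_nil 276)⟩)⟩)⟩)⟩)⟩)⟩)⟩)⟩)⟩)⟩)⟩)

noncomputable def V45 : List Net := [Co3M.g7, Co3M.g8, Co3M.g11, Co3M.g12, Co3M.g15, Co3M.g16, Co3M.g17, Co3M.g20, Co3M.g21]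

theorem V45_ok : okE 276 V45 = true := (okE_cons.2 ⟨Co3M.g7_ok, (okE_cons.2 ⟨Co3M.g8_ok, (okE_cons.2 ⟨Co3M.g11_ok, (okE_cons.2 ⟨Co3M.g12_ok, (okE_cons.2 ⟨Co3M.g15_ok, (okE_cons.2 ⟨Co3M.g16_ok, (okE_cons.2 ⟨Co3M.g17_ok, (okE_cons.2 ⟨Co3M.g20_ok, (okE_cons.2 ⟨Co3M.g21_ok, (okE_nil 276)⟩)⟩)⟩)⟩)⟩)⟩)⟩)⟩)⟩)

noncomputable def V46 : List Net := [Co3M.g11, Co3M.g12, Co3M.g15, Co3M.g16, Co3M.g17, Co3M.g20, Co3M.g21]

theorem V46_ok : okE 276 V46 = true := (okE_cons.2 ⟨Co3M.g11_ok, (okE_cons.2 ⟨Co3M.g12_ok, (okE_cons.2 ⟨Co3M.g15_ok, (okE_cons.2 ⟨Co3M.g16_ok, (okE_cons.2 ⟨Co3M.g17_ok, (okE_cons.2 ⟨Co3M.g20_ok, (okE_cons.2 ⟨Co3M.g21_ok, (okE_nil 276)⟩)⟩)⟩)⟩)⟩)⟩)⟩)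

noncomputable def V47 : List Net := [Co3M.g15, Co3M.g16, Co3M.g17, Co3M.g20, Co3M.g21]

theorem V47_ok : okE 276 V47 = true := (okE_cons.2 ⟨Co3M.g15_ok, (okE_cons.2 ⟨Co3M.g16_ok, (okE_cons.2 ⟨Co3M.g17_ok, (okE_cons.2 ⟨Co3M.g20_ok, (okE_cons.2 ⟨Co3M.g21_ok, (okE_nil 276)⟩)⟩)⟩)⟩)⟩)

noncomputable def g48 : Net := (Net.cons (nat_lit 1) (nat_lit 0x544510004455504111515101005400440454010110511454415011501510055101150) (Net.cons (nat_lit 2) (nat_lit 0x11122232332220003002322112121223113100202033202032111302321101110300) (Net.cons (nat_lit 4) (nat_lit 0x1010d0507080a00040a0502090408080f070d0d0d0f000e080e00060d060f00090e) (Net.cons (nat_lit 8) (nat_lit 0x8e006c00e40065007a002500ec0009002d007700c10082005700b70023001a000a) (Net.cons (nat_lit 16) (nat_lit 0x10000e9340000d142000057ae0000ebda00002249000011480000755100004f10) (Net.cons (nat_lit 32) (nat_lit 0xab88e26400000000a95af3e80000000024a075620000000000020422) (Net.cons (nat_lit 64) (nat_lit 0xb00a22b05d260f0c000000000000000000000000000c9e17)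 (Net.cons (nat_lit 128) (nat_lit 0xaa548be9b8b06a50556bf418c70e837c) (Net.cons (nat_lit 256) (nat_lit 974847) (Net.cons (nat_lit 128) (nat_lit 223089) (Net.cons (nat_lit 64) (nat_lit 0x80fd73ce6ea383110000000000000000dc64d1c5a3f016a1) (Net.cons (nat_lit 32) (nat_lit 0x9aa7466100000000898191fe0000000027e612670000000061b323ba) (Net.cons (nat_lit 16) (nat_lit 0x30000e84a00008d7200003fc00000a81900008da00000b87f0000dd1700003a0c) (Net.cons (nat_lit 8) (nat_lit 0x5500c700e400a100e60061003000f800be0044000200bc00d500e3001500c1008a) (Net.cons (nat_lit 4) (nat_lit 0x2050e030a0001000002040107090a0c0608010909000c0d010c050b040208090e) (Net.cons (nat_lit 2) (nat_lit 0x103101032220302102231010133023030010110213211232330310111212320322210) (Net.cons (nat_lit 1) (nat_lit 0x544550505015414005451155145101405151405040510445001504401004155404054) Net.nil)))))))))))))))))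

theorem g48_ok : Net.ok 276 g48 = true := by decide +kernel

noncomputable def g49 : Net := (Net.cons (nat_lit 1) (nat_lit 0x455000500455140045414005441150401401155505055400450415105000001005000) (Net.cons (nat_lit 2) (nat_lit 0x230013310233233130130110201120030013312121231201320121001012303000000) (Net.cons (nat_lit 4) (nat_lit 0x8050b08070b02030d0d04020e0d0f0500070408000d0400000003020006010b0108) (Net.cons (nat_lit 8) (nat_lit 0xbe000d0036006d0004006000d8000b006800030071009500840046000000300004) (Net.cons (nat_lit 16) (nat_lit 0x900001998000067670000457f000018270000a5c8000021920000990200002190) (Net.cons (nat_lit 32) (nat_lit 0x11a1310d0000000059c8584c00000000410034000000000000050a01) (Net.cons (nat_lit 64) (nat_lit 0x322480401209412a00000000000000000000000000084d50) (Net.cons (nat_lit 128) (nat_lit 0x83444545088c3c2279b0b6821ef0994c) (Net.cons (nat_lit 256) (nat_lit 0xfffdd) (Net.cons (nat_lit 128) (nat_lit 251908) (Net.cons (nat_lit 64) (nat_lit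 0x2206bc34b88303f30000000000000000160d0610cd895d40) (Net.cons (nat_lit 32) (nat_lit 0x15b36357000000007def791c000000006502f4900000000016252935) (Net.cons (nat_lit 16) (nat_lit 0x800000b940000556f0000667600002e670000b7ec0000319200008b4300003398) (Net.cons (nat_lit 8) (nat_lit 0xff000e0076006d0006002100fd00cf006f000b007500d400c40046000000160004) (Net.cons (nat_lit 4) (nat_lit 0xb070b08070b06030f0f04020e0f0f010407040c000d050000010302020701090108) (Net.cons (nat_lit 2) (nat_lit 0x30011310231233130110110201120030013312121231201320121001012303202000) (Net.cons (nat_lit 1) (nat_lit 0x455000500455150045414005441150011401155505055400454415145000001005000) Net.nil)))))))))))))))))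

theorem g49_ok : Net.ok 276 g49 = true := by decide +kernel

noncomputable def g50 : Net := (Net.cons (nat_lit 1) (nat_lit 0x544441414004014545014115010154005100554511010404000554041104441400000) (Net.cons (nat_lit 2) (nat_lit 0x131010231120031313001321030133021230022113302313001112103013021100000) (Net.cons (nat_lit 4) (nat_lit 0x10908070e02030605010902030d060e08070905010d0204000d0e0d020a01020000) (Net.cons (nat_lit 8) (nat_lit 0x9600eb00b0005a00430088004600180061004c0011006c0040004d001000d00001) (Net.cons (nat_lit 16) (nat_lit 0x10000c0870000a906000014910000d62000000aa9000059a8000005a800002a90) (Net.cons (nat_lit 32) (nat_lit 0x83433000000000d4e9e80000000000c0400410000000000038101) (Net.cons (nat_lit 64) (nat_lit 0x334448100a4cc40300000000000000000000000000048884) (Net.cons (nat_lit 128) (nat_lit 0x39e3331a09ac8c950ea65a0d93e88882) (Net.cons (nat_lit 256) (nat_lit 0xfbb9f) (Net.cons (nat_lit 128) (nat_lit 575650) (Net.cons (nat_lit 64) (nat_lit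 0x5639ede04e38c71e0000000000000000507004e054748884) (Net.cons (nat_lit 32) (nat_lit 0xa2d85d23000000001d3bcf9700000000dce0485500000000534ad901) (Net.cons (nat_lit 16) (nat_lit 0x40000f5c200008902000034d40000f32100002bac00007bad000005ad00002a95) (Net.cons (nat_lit 8) (nat_lit 0x9600ef00b7005a004700a100c6001c0065004f0011006c0040004d009500d10001) (Net.cons (nat_lit 4) (nat_lit 0x10808070e02030605030802030f060f080709050b0d0204000d0e0d020b01020100) (Net.cons (nat_lit 2) (nat_lit 0x131010231120031313001123230133023230022111102313001312303013021100020) (Net.cons (nat_lit 1) (nat_lit 0x544441414004014545014115010154005100554511010404000554041104441400000) Net.nil)))))))))))))))))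

theorem g50_ok : Net.ok 276 g50 = true := by decide +kernel

noncomputable def g51 : Net := (Net.cons (nat_lit 1) (nat_lit 0x150055010010550015141145400500540004144404415000001040450151040040000) (Net.cons (nat_lit 2) (nat_lit 0x300210110231212012302200122302211301002112011212032322322311210200000) (Net.cons (nat_lit 4) (nat_lit 0x4050c080e0d0b020f00080d090a05050d09040b030e090f09010201030a0d000001) (Net.cons (nat_lit 8) (nat_lit 0xa10057008500dd001900680000005400b400be0009000100e80017009400090005) (Net.cons (nat_lit 16) (nat_lit 0xcdc70000c1e700005c1e00000ca2000072c1000081ae0000942200000120) (Net.cons (nat_lit 32) (nat_lit 0x441631e5000000000fd892a000000000ce000a8800000000000700d0) (Net.cons (nat_lit 64) (nat_lit 0x319c0512a2230f000000000000000000000000000083e5) (Net.cons (nat_lit 128) (nat_lit 0x717545e08ba89b538146d8a71c075344) (Net.cons (nat_lit 256) (nat_lit 514037) (Net.cons (nat_lit 128) (nat_lit 0xf7748) (Net.cons (nat_lit 64) (nat_lit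 0xad0a48c933ab23870000000000000000d41c8587929b80e9) (Net.cons (nat_lit 32) (nat_lit 0x95b771c300000000c6ca9ba800000000da026e8800000000902700d0) (Net.cons (nat_lit 16) (nat_lit 0x4000009f6000089c30000561e00009db30000edf20000ccee0000f0a0000002a9) (Net.cons (nat_lit 8) (nat_lit 0xa50073008c00cc001900c50000004000ac00eb003c0001006e0017009100880000) (Net.cons (nat_lit 4) (nat_lit 0x4070d080e0c07020f010805090e0c050d09000f0a0e090f09050200030a05000009) (Net.cons (nat_lit 2) (nat_lit 0x200211110230213012303200122202201301002112111213032322322311210231100) (Net.cons (nat_lit 1) (nat_lit 0x150055010410550014145145510100440400040405415000045005550151040010000) Net.nil)))))))))))))))))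

theorem g51_ok : Net.ok 276 g51 = true := by decide +kernel

noncomputable def g52 : Net := (Net.cons (nat_lit 1) (nat_lit 0x450510010010440044514455445101515555054050000144501011145015140001000) (Net.cons (nat_lit 2) (nat_lit 0x230030201001101231133322322111210202031330000101100211202320033230000) (Net.cons (nat_lit 4) (nat_lit 0x1010c070502040b04080300020801050e0309060e090a040008010402050c000800) (Net.cons (nat_lit 8) (nat_lit 0xa500d600be00de007200f700b0006000e800980004000d0006004400a200200000) (Net.cons (nat_lit 16) (nat_lit 0xa00003a380000e23900004c820000b6bd000067ab00009c8400001c0400004080) (Net.cons (nat_lit 32) (nat_lit 0xda89674000000000003c248800000000a0c84a500000000000029385) (Net.cons (nat_lit 64) (nat_lit 0x4240514686e63300000000000000000000000000010839) (Net.cons (nat_lit 128) (nat_lit 0x59fc96972d0d39b75d3e54ce6b83d630) (Net.cons (nat_lit 256) (nat_lit 524221) (Net.cons (nat_lit 128) (nat_lit 251440) (Net.cons (nat_lit 64) (nat_lit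 0xba1b701176e2e637000000000000000010d93940b892de39) (Net.cons (nat_lit 32) (nat_lit 0xd74d77480000000009fae68c00000000ab484a740000000019a693a1) (Net.cons (nat_lit 16) (nat_lit 0xe00003a3c0000f27d00005cce0000b699000077ef0000ccc000000c60000050ac) (Net.cons (nat_lit 8) (nat_lit 0xa500d600be00de007200f700b2006200e800980004001d0006004400a200300000) (Net.cons (nat_lit 4) (nat_lit 0x1010c060502040b05080b00020901050e0b0b070e090b040008030402070c010800) (Net.cons (nat_lit 2) (nat_lit 0x230030201001101231133322322111210202031330000101100211202320033230000) (Net.cons (nat_lit 1) (nat_lit 0x450510010010440044514455445101515555054050000144501011145015140001000) Net.nil)))))))))))))))))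

theorem g52_ok : Net.ok 276 g52 = true := by decide +kernel

noncomputable def V53 : List Net := [g48, g49, g50, g51, g52]

theorem V53_ok : okE 276 V53 = true := (okE_cons.2 ⟨g48_ok, (okE_cons.2 ⟨g49_ok, (okE_cons.2 ⟨g50_ok, (okE_cons.2 ⟨g51_ok, (okE_cons.2 ⟨g52_ok, (okE_nil 276)⟩)⟩)⟩)⟩)⟩)

noncomputable def V55 : List Net := [g49, g50, g51, g52]

theorem V55_ok : okE 276 V55 = true := (okE_cons.2 ⟨g49_ok, (okE_cons.2 ⟨g50_ok, (okE_cons.2 ⟨g51_ok, (okE_cons.2 ⟨g52_ok, (okE_nil 276)⟩)⟩)⟩)⟩)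

noncomputable def V56 : List Net := [g51, g52]

theorem V56_ok : okE 276 V56 = true := (okE_cons.2 ⟨g51_ok, (okE_cons.2 ⟨g52_ok, (okE_nil 276)⟩)⟩)

noncomputable def V57 : List Net := []

theorem V57_ok : okE 276 V57 = true := (okE_nil 276)

noncomputable def h_cnt_EG : List Net := [Co3M.g3, Co3M.g4, Co3M.g7, Co3M.g8, Co3M.g11, Co3M.g12, Co3M.g15, Co3M.g16, Co3M.g17, Co3M.g20, Co3M.g21, Co3M.g1, Co3M.g2, g48, g49, g50, g51, g52]

theorem h_cnt_EG_ok : okE 276 h_cnt_EG = true := (okE_cons.2 ⟨Co3M.g3_ok, (okE_cons.2 ⟨Co3M.g4_ok, (okE_cons.2 ⟨Co3M.g7_ok, (okE_cons.2 ⟨Co3M.g8_ok, (okE_cons.2 ⟨Co3M.g11_ok, (okE_cons.2 ⟨Co3M.g12_ok, (okE_cons.2 ⟨Co3M.g15_ok, (okE_cons.2 ⟨Co3M.g16_ok, (okE_cons.2 ⟨Co3M.g17_ok, (okE_cons.2 ⟨Co3M.g20_ok, (okE_cons.2 ⟨Co3M.g21_ok, (okE_cons.2 ⟨Co3M.g1_ok, (okE_cons.2 ⟨Co3M.g2_ok, (okE_cons.2 ⟨g48_ok, (okE_cons.2 ⟨g49_ok, (okE_cons.2 ⟨g50_ok, (okE_cons.2 ⟨g51_ok, (okE_cons.2 ⟨g52_ok, (okE_nil 276)⟩)⟩)⟩)⟩)⟩)⟩)⟩)⟩)⟩)⟩)⟩)⟩)⟩)⟩)⟩)⟩)⟩)⟩)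

noncomputable def EH : List Net := [n_b1, n_b2, n_b3, n_s2, n_s4]

theorem EH_ok : okE 276 EH = true := (okE_cons.2 ⟨n_b1_ok, (okE_cons.2 ⟨n_b2_ok, (okE_cons.2 ⟨n_b3_ok, (okE_cons.2 ⟨n_s2_ok, (okE_cons.2 ⟨n_s4_ok, (okE_nil 276)⟩)⟩)⟩)⟩)⟩)

noncomputable def g58 : Net := (Net.cons (nat_lit 1) (nat_lit 0x411515010505041055145510154150401044411141514154110444054505040000400) (Net.cons (nat_lit 2) (nat_lit 0x330100212211013300200113031002031123132112212013321313100322231020210) (Net.cons (nat_lit 4) (nat_lit 0xa0c040d060903070c070d000204030506020e0d0e0d060c080e040005080c080209) (Net.cons (nat_lit 8) (nat_lit 0xe900de000b000f004600e30019003300e0006b004b0034004a003800460040000b) (Net.cons (nat_lit 16) (nat_lit 0xd0000fbb2000057e20000a096000035b50000482600000ee600009dc0000068c0) (Net.cons (nat_lit 32) (nat_lit 0x847bc95100000000099b4161000000005023d08c0000000000001de0) (Net.cons (nat_lit 64) (nat_lit 0xe101608124c8570900000000000000000000000000016199)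 (Net.cons (nat_lit 128) (nat_lit 0xfbdc8cd7526071241843e44af59e9349) (Net.cons (nat_lit 256) (nat_lit 0xffffb) (Net.cons (nat_lit 128) (nat_lit 468326) (Net.cons (nat_lit 64) (nat_lit 0x6e8ad7b915ddb32f00000000000000006cc6f3b1fe2073ea) (Net.cons (nat_lit 32) (nat_lit 0x29b2003600000000d21b349f0000000007c4cb3d000000008a94d961) (Net.cons (nat_lit 16) (nat_lit 0x700000504000029850000723000004d170000c7520000e4cf0000b50100008e7b) (Net.cons (nat_lit 8) (nat_lit 0x4800610094004f00a60056008a00e200eb002800db007b00ec0089001200920020) (Net.cons (nat_lit 4) (nat_lit 0xe040b0a0005060b0b060b08040b05090d0b08070d07080b0e0b0c0c020e05080c03) (Net.cons (nat_lit 2) (nat_lit 0x123321222313302330121302012230222233333213201301202112000112033233132) (Net.cons (nat_lit 1) (nat_lit 0x441400011400041141111001114415145010004055044144041154545451415010401) Net.nil)))))))))))))))))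

theorem g58_ok : Net.ok 276 g58 = true := by decide +kernel

noncomputable def g59 : Net := (Net.cons (nat_lit 1) (nat_lit 0x100055115051414501500054105555404104104005441001011004505514001455040) (Net.cons (nat_lit 2) (nat_lit 0x202133312122310122112001203220322113320102022120132012111133231212200) (Net.cons (nat_lit 4) (nat_lit 0x9020b0c02030d04060f0e0e050b0e04070403090006070906080d03080000050002) (Net.cons (nat_lit 8) (nat_lit 0xe100e6002600e6004a00fd002300d4006300b200f80083007c002200c5000b0001) (Net.cons (nat_lit 16) (nat_lit 0x80000a1910000c02a0000a62000009406000082a40000403b00005a0800002580) (Net.cons (nat_lit 32) (nat_lit 0x9e4ca1000000000060d5042d000000008044ba49000000000001c022) (Net.cons (nat_lit 64) (nat_lit 0x4e100861a866c04d0000000000000000000000000008a1c1) (Net.cons (nat_lit 128) (nat_lit 0x245ff6f57dfa8af85a8fcd86c70342cb) (Net.cons (nat_lit 256) (nat_lit 780267) (Net.cons (nat_lit 128) (nat_lit 480206) (Net.cons (nat_lit 64) (nat_lit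 0x6932de6dd564d54b00000000000000001231c68befcbf103) (Net.cons (nat_lit 32) (nat_lit 0x14793a0100000000705d347b000000009a51b00e00000000a895f22a) (Net.cons (nat_lit 16) (nat_lit 0xe000001d700004a8c0000ace20000d400000099e100004bbc00005a4e0000bc67) (Net.cons (nat_lit 8) (nat_lit 0xf000c5009600c0004b00ff00050045006200a600fa00a8006f00b000cf00190029) (Net.cons (nat_lit 4) (nat_lit 0x902000e080005050605060e0509050c0e04030a000f0f09060905000108010d0b02) (Net.cons (nat_lit 2) (nat_lit 0x202131312100310122132101203200122113300102002322132013333133231030002) (Net.cons (nat_lit 1) (nat_lit 0x100055115051454501500054105555404104104005441001011004505514001555041) Net.nil)))))))))))))))))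

theorem g59_ok : Net.ok 276 g59 = true := by decide +kernel

noncomputable def V60 : List Net := [g58, g59]

theorem V60_ok : okE 276 V60 = true := (okE_cons.2 ⟨g58_ok, (okE_cons.2 ⟨g59_ok, (okE_nil 276)⟩)⟩)

noncomputable def g62 : Net := (Net.cons (nat_lit 1) (nat_lit 0x501405055115414454544554015045440550111400441101544155041015150540440) (Net.cons (nat_lit 2) (nat_lit 0x11031221321213000021001130000321331333032302330120211233132222311120) (Net.cons (nat_lit 4) (nat_lit 0x105000706010801010e0804000a010c06060c0b0a0607000905000000070d0c080c) (Net.cons (nat_lit 8) (nat_lit 0x160021006800a700e7003b0008003800c50061003300a4000200f80073004a0001) (Net.cons (nat_lit 16) (nat_lit 0x50000a7b90000cff50000ae0b00007a8a00005ba10000c10a0000b14300002010) (Net.cons (nat_lit 32) (nat_lit 0x4cb66895000000000259e913000000001f040df400000000000a1e43) (Net.cons (nat_lit 64) (nat_lit 0x1a0808902022220400000000000000000000000000007cd0) (Net.cons (nat_lit 128) (nat_lit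 0xc00cbcd13f4f8ea11b3112404a6ba00e) (Net.cons (nat_lit 256) (nat_lit 786175) (Net.cons (nat_lit 128) (nat_lit 318733) (Net.cons (nat_lit 64) (nat_lit 0x25b19aa1ee0458a30000000000000000993c6ca31d48cd1e) (Net.cons (nat_lit 32) (nat_lit 0xf14dbefa00000000fe7d9626000000009096b14500000000b8eb2072) (Net.cons (nat_lit 16) (nat_lit 0x67ee000019f60000ee5300008dba00009df400000461000056850000a6fe) (Net.cons (nat_lit 8) (nat_lit 0x35005e00b1006400f400d500bb000c008500f300b700bc00b600c000a400f2000c) (Net.cons (nat_lit 4) (nat_lit 0x90b08040d0e0b0e000f0a070c0e0307090901000305020e0004010b0d030008020c) (Net.cons (nat_lit 2) (nat_lit 0x321233120121203101002113101212223011300022020130100312311222131223203) (Net.cons (nat_lit 1) (nat_lit 0x440501544155044510514140511010415051554155544544155405554011410054001) Net.nil)))))))))))))))))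

theorem g62_ok : Net.ok 276 g62 = true := by decide +kernel

noncomputable def g63 : Net := (Net.cons (nat_lit 1) (nat_lit 0x101401050011554101054001541014115140554510005451415040141514011104050) (Net.cons (nat_lit 2) (nat_lit 0x13312023332220313133312030303230220103133110023212131320221122110300) (Net.cons (nat_lit 4) (nat_lit 0x50801030702050d0207010102040c0f0e0004080703010e0a010b010c090605020a) (Net.cons (nat_lit 8) (nat_lit 0x6500e70072000b008500d90005000d00ff0050002800b8003700f00011000b0006) (Net.cons (nat_lit 16) (nat_lit 0xd000090d1000020270000a5080000907f0000b5c900008ae70000808400003200) (Net.cons (nat_lit 32) (nat_lit 0xd5170efb000000003de006da0000000088ad491900000000000d1228) (Net.cons (nat_lit 64) (nat_lit 0x83087d020102014d0000000000000000000000000000e08a) (Net.cons (nat_lit 128) (nat_lit 0xd2e822981cff53ac5d11df52a1e2a98e) (Net.cons (nat_lit 256) (nat_lit 0xffbbe) (Net.cons (nat_lit 128) (nat_lit 281837) (Net.cons (nat_lit 64) (nat_lit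 0x41b52634720e6b5800000000000000009c1cc3fac1f3492b) (Net.cons (nat_lit 32) (nat_lit 0x4ab176bf00000000d28fa6cd000000005ce2fbd100000000a0f5ade4) (Net.cons (nat_lit 16) (nat_lit 0x80000c9260000d8e500007bf8000024390000fb7100006d46000001280000364e) (Net.cons (nat_lit 8) (nat_lit 0x6f006900dd001b0022002c00ad00e000c2004400e1006b0048001800dc003d0026) (Net.cons (nat_lit 4) (nat_lit 0xf0202090502080b0d010a0d030d0b00080c0e0906090e02080d05010b0e09020007) (Net.cons (nat_lit 2) (nat_lit 0x13232120211122323203130221220100031010200320202033031232220102332201) (Net.cons (nat_lit 1) (nat_lit 0x451045501551150014451454514404101505115550044111450045441051401450554) Net.nil)))))))))))))))))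

theorem g63_ok : Net.ok 276 g63 = true := by decide +kernel

noncomputable def V64 : List Net := [g62, g63]

theorem V64_ok : okE 276 V64 = true := (okE_cons.2 ⟨g62_ok, (okE_cons.2 ⟨g63_ok, (okE_nil 276)⟩)⟩)

noncomputable def g66 : Net := (Net.cons (nat_lit 1) (nat_lit 0x505544001455400111501110145051445144104041410055544110010411101550414) (Net.cons (nat_lit 2) (nat_lit 0x103213223010231302333133222310202231010132301132320013121103211212220) (Net.cons (nat_lit 4) (nat_lit 0xc0b0407020a06000f04000d090f050b0e040a030e06040c0b040907080809050101) (Net.cons (nat_lit 8) (nat_lit 0x9c005800d9000900c2000a002100cd0025003c005600cf000a0092000d001c0008) (Net.cons (nat_lit 16) (nat_lit 0xc0000e57100004471000041cc0000b5900000634100000841000099c800004800) (Net.cons (nat_lit 32) (nat_lit 0x2066820a000000003e55479d0000000090504337000000000001c114) (Net.cons (nat_lit 64) (nat_lit 0x40a0cd680950ce07000000000000000000000000000c9329) (Net.cons (nat_lit 128) (nat_lit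 0x9bd1fbcdf3041b1bd53c3622e8f8797b) (Net.cons (nat_lit 256) (nat_lit 916351) (Net.cons (nat_lit 128) (nat_lit 46351) (Net.cons (nat_lit 64) (nat_lit 0x5e35d8dda886b45c0000000000000000090e80f38b318d09) (Net.cons (nat_lit 32) (nat_lit 0x65e67e6400000000b559300300000000cb6dd59900000000bb82f131) (Net.cons (nat_lit 16) (nat_lit 0xa0000d7d6000079980000e6f600000bf1000044a100004c33000067e400006c37) (Net.cons (nat_lit 8) (nat_lit 0xb9009d007900a8008b00620033007300430025007800b600a700570069009c0040) (Net.cons (nat_lit 4) (nat_lit 0xa0b0e0d050a0509080b0f0609050e010b01090f08010206060f0c0b0e05020c0101) (Net.cons (nat_lit 2) (nat_lit 0x303332320223221203000200023012102310213211330022121220312002133302332) (Net.cons (nat_lit 1) (nat_lit 0x151405441050001105114405550010001445540441045540015411541155544514154) Net.nil)))))))))))))))))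

theorem g66_ok : Net.ok 276 g66 = true := by decide +kernel

noncomputable def g67 : Net := (Net.cons (nat_lit 1) (nat_lit 0x414445515111451040151055415150450454454555005144415415051540015055100) (Net.cons (nat_lit 2) (nat_lit 0x233013110131331000123311221231011110012123232030130300103321311030310) (Net.cons (nat_lit 4) (nat_lit 0xb0f0d06080f050c0c010b0b010901020709090c010d0f050d020e090e030f060001) (Net.cons (nat_lit 8) (nat_lit 0x54000c009200fd0095002400f900b40081002f003b00070007002a004700030002) (Net.cons (nat_lit 16) (nat_lit 0x60000eb1e0000ed860000a30b000061f5000085120000f81e00002c6a00001050) (Net.cons (nat_lit 32) (nat_lit 0x1a401e8800000000a060b508000000008053e4d5000000000002b3e1) (Net.cons (nat_lit 64) (nat_lit 0x3b621120204f7e1700000000000000000000000000058991) (Net.cons (nat_lit 128) (nat_lit 0xed2657e24c5011dc16c8c659758957e2) (Net.cons (nat_lit 256) (nat_lit 0xffff7) (Net.cons (nat_lit 128) (nat_lit 453611) (Net.cons (nat_lit 64) (nat_lit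 0xe489c7d6349a9f0d00000000000000008e594c3f3e81ff81) (Net.cons (nat_lit 32) (nat_lit 0x61b24759000000000cf37b09000000004d19b29700000000d112b1c2) (Net.cons (nat_lit 16) (nat_lit 0x8000010180000a32900008d0a000025d40000a2fa00009a410000e18b000010fc) (Net.cons (nat_lit 8) (nat_lit 0xc900b5009400d0000300b600a200bf00ca00140096003c00cc0013003700c6001f) (Net.cons (nat_lit 4) (nat_lit 0x609030f090d050e0703010b0b060e0a0506050a0b07040a0a000c0f0a0906020100) (Net.cons (nat_lit 2) (nat_lit 0x321312012311021133302200303302230301310320313210333030022122013030131) (Net.cons (nat_lit 1) (nat_lit 0x550055444041555450104401040400155011451440510011044440504545151401040) Net.nil)))))))))))))))))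

theorem g67_ok : Net.ok 276 g67 = true := by decide +kernel

noncomputable def V68 : List Net := [g66, g67]

theorem V68_ok : okE 276 V68 = true := (okE_cons.2 ⟨g66_ok, (okE_cons.2 ⟨g67_ok, (okE_nil 276)⟩)⟩)

noncomputable def g70 : Net := (Net.cons (nat_lit 1) (nat_lit 0x110055004505410015140515400550101551501504115555101051451155404141450) (Net.cons (nat_lit 2) (nat_lit 0x233131111100313330302031331122330030102030100002001001321203300232100) (Net.cons (nat_lit 4) (nat_lit 0x90a0e0a000d040b0d0c0a020c05000f050b0b01070008030c030d08050403090201) (Net.cons (nat_lit 8) (nat_lit 0xa6003a00a2009100ef004d008700d0004d00b0006b0008007b00ca000400830000) (Net.cons (nat_lit 16) (nat_lit 0xd00008af40000b04100005a0400008a9d0000697200001340000063c000003640) (Net.cons (nat_lit 32) (nat_lit 0xa0a5500000000b106f018000000001bc15a500000000000072102) (Net.cons (nat_lit 64) (nat_lit 0x104d38411321e80100000000000000000000000000090060) (Net.cons (nat_lit 128) (nat_lit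 0xa407032b1fd23515b6fabdd2e028b943) (Net.cons (nat_lit 256) (nat_lit 0xfbf63) (Net.cons (nat_lit 128) (nat_lit 386859) (Net.cons (nat_lit 64) (nat_lit 0xf64cc0c6a5a2db010000000000000000540a89ddff4867e5) (Net.cons (nat_lit 32) (nat_lit 0xf5e15f22000000006c7045460000000085155e210000000040777bdb) (Net.cons (nat_lit 16) (nat_lit 0xb0000f7fe00008e19000017d0000058f600006565000076cd0000dba100006980) (Net.cons (nat_lit 8) (nat_lit 0xa600c5000300e9000500fd0072003500d8009900a300620072000f001800570050) (Net.cons (nat_lit 4) (nat_lit 0xa0e0f0d0e05030a0d080b040f020203030c00080e07030604080b040709090f0708) (Net.cons (nat_lit 2) (nat_lit 0x232320111030121031121133002201212203333321111110200021210221100023212) (Net.cons (nat_lit 1) (nat_lit 0x514010501114550514510504401015515101140551541101141140015545141505115) Net.nil)))))))))))))))))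

theorem g70_ok : Net.ok 276 g70 = true := by decide +kernel

noncomputable def g71 : Net := (Net.cons (nat_lit 1) (nat_lit 0x505151114041554544450044540510100500050005415155511015451504504440040) (Net.cons (nat_lit 2) (nat_lit 0x302203130012003221020110121100213102030333222101333212101221102020200) (Net.cons (nat_lit 4) (nat_lit 0x7010c060f0e07080c010f0e0a090f06030a03030d0b0609090a01020703020c0609) (Net.cons (nat_lit 8) (nat_lit 0x63008400ff008800a4006100e6000e004300fd00230067009b00a700b200210000) (Net.cons (nat_lit 16) (nat_lit 0x50000c43c00000a9d000026660000490500005040000022a6000022e700002300) (Net.cons (nat_lit 32) (nat_lit 0x7ab30f2600000000683f66ea000000009002aa4c000000000009d7e4) (Net.cons (nat_lit 64) (nat_lit 0xa450852aa016023800000000000000000000000000023105) (Net.cons (nat_lit 128) (nat_lit 0xf11a0e8307efa67c056ca1a8eb1f805b) (Net.cons (nat_lit 256) (nat_lit 0xff7ff) (Net.cons (nat_lit 128) (nat_lit 739788) (Net.cons (nat_lit 64) (nat_lit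 0xf3422b5079a185190000000000000000f3756f4a64acac8b) (Net.cons (nat_lit 32) (nat_lit 0x26d3a0000000000722c548900000000532537ea000000008a4e137c) (Net.cons (nat_lit 16) (nat_lit 0x2000040d20000d7b90000d8e30000f4e3000071740000d8cf0000e36c0000284c) (Net.cons (nat_lit 8) (nat_lit 0x27004c00c2008400860009006d00b2008200a600c400d6008c005700a30045006a) (Net.cons (nat_lit 4) (nat_lit 0x5010802060b020b09080d0e0b04090f0b0a06000d090c0a07020a0a0d04040b0405) (Net.cons (nat_lit 2) (nat_lit 0x33010223230133333131013100000333221122113203011021203002030002302023) (Net.cons (nat_lit 1) (nat_lit 0x55015144011005045454441151441410000011545451114555444154014040450000) Net.nil)))))))))))))))))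

theorem g71_ok : Net.ok 276 g71 = true := by decide +kernel

noncomputable def V72 : List Net := [g70, g71]

theorem V72_ok : okE 276 V72 = true := (okE_cons.2 ⟨g70_ok, (okE_cons.2 ⟨g71_ok, (okE_nil 276)⟩)⟩)

noncomputable def g74 : Net := (Net.cons (nat_lit 1) (nat_lit 0x454514040441154040404111540400051410514014405410401541404105144011110) (Net.cons (nat_lit 2) (nat_lit 0x203323023022111203101101121101132132033123232122010033131111311200230) (Net.cons (nat_lit 4) (nat_lit 0x9000b0707070f0c00010b0303090c0501060a0506000b000b000c0e0a0506070900) (Net.cons (nat_lit 8) (nat_lit 0xda001100f70044006e00a40016001100b100eb0077001100ac003800e600400004) (Net.cons (nat_lit 16) (nat_lit 0x40000e9a30000772e00005e7d0000a7da0000f912000064020000261400003030) (Net.cons (nat_lit 32) (nat_lit 0xce090b1c000000004e5d0cf60000000090a208da00000000000a05d1) (Net.cons (nat_lit 64) (nat_lit 0x9124800a488d121300000000000000000000000000002498) (Net.cons (nat_lit 128) (nat_lit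 0x9cea75305b4ebebe6d46920b13be8aa2) (Net.cons (nat_lit 256) (nat_lit 966651) (Net.cons (nat_lit 128) (nat_lit 470983) (Net.cons (nat_lit 64) (nat_lit 0x873608f7b3b0b80f000000000000000050116458c130393a) (Net.cons (nat_lit 32) (nat_lit 0x922f139000000000ea981ae200000000aa2d033200000000d84accc8) (Net.cons (nat_lit 16) (nat_lit 0x9abb000019b800008c470000f9c700003c68000009ec0000ce3300006277) (Net.cons (nat_lit 8) (nat_lit 0x94001e00fc00980054001000f3004300bf001a006b000a009a00eb00a10073004c) (Net.cons (nat_lit 4) (nat_lit 0x40d0100040205040b03010201080309000f000e0a0708030e01020307070d090004) (Net.cons (nat_lit 2) (nat_lit 0x30203003020030122000320010020202013312101212101112023213122230101131) (Net.cons (nat_lit 1) (nat_lit 0x405414450400510451144154115444515151144411404104005000411500044101415) Net.nil)))))))))))))))))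

theorem g74_ok : Net.ok 276 g74 = true := by decide +kernel

noncomputable def V75 : List Net := [g70, g74]

theorem V75_ok : okE 276 V75 = true := (okE_cons.2 ⟨g70_ok, (okE_cons.2 ⟨g74_ok, (okE_nil 276)⟩)⟩)

noncomputable def g77 : Net := (Net.cons (nat_lit 1) (nat_lit 0x100510540415451045415515101555514015501010154154514004541151044005400) (Net.cons (nat_lit 2) (nat_lit 0x23130202110021011002231302121111333230323231002000313320222221303000) (Net.cons (nat_lit 4) (nat_lit 0x10b0306040d07080d0c04070807010c030f0002030c00080a020f0f0f030d040d08) (Net.cons (nat_lit 8) (nat_lit 0x800020001000a9007900e5002d004800a4008f00f900f900b3004500c400140008) (Net.cons (nat_lit 16) (nat_lit 0x30000d8ee0000e5c10000dc2e00006d340000c8920000d9e70000013500002800) (Net.cons (nat_lit 32) (nat_lit 0x682a529d00000000558d8ad10000000040b808870000000000083265) (Net.cons (nat_lit 64) (nat_lit 0x8c526f7392b2f10c00000000000000000000000000000381) (Net.cons (nat_lit 128) (nat_lit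 0xeb222f465dfa2050477cd035ae03486c) (Net.cons (nat_lit 256) (nat_lit 752621) (Net.cons (nat_lit 128) (nat_lit 366031) (Net.cons (nat_lit 64) (nat_lit 0x60ae10fc1493691700000000000000003e409c82fce414c0) (Net.cons (nat_lit 32) (nat_lit 0xd892cadf00000000d31f35d8000000003e3d8947000000003ed9da21) (Net.cons (nat_lit 16) (nat_lit 0x700009e4d0000fe610000733b000063de000059f40000179f0000b3d40000e6a1) (Net.cons (nat_lit 8) (nat_lit 0xca0011003700a1007b00bb006c00a2008a003b002b00de00a700970027004400ec) (Net.cons (nat_lit 4) (nat_lit 0x20f0a030d0c0f01010400040b0c09070a05000304050f0f08090005050003000f0e) (Net.cons (nat_lit 2) (nat_lit 0x31131312032122112003321013313032101010222212123220120100301300232121) (Net.cons (nat_lit 1) (nat_lit 0x550511010044411411444410110500151155045455545415540101045555404155545) Net.nil)))))))))))))))))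

theorem g77_ok : Net.ok 276 g77 = true := by decide +kernel

noncomputable def g78 : Net := (Net.cons (nat_lit 1) (nat_lit 0x1144545411144144015145441014505401515100450141014454514000111414000) (Net.cons (nat_lit 2) (nat_lit 0x303011122303120221221022221031133033221233133032122111122303211200000) (Net.cons (nat_lit 4) (nat_lit 0xa01040407080402090807030302020a0b0d0f050d0102030a020f01050a080f0000) (Net.cons (nat_lit 8) (nat_lit 0x52006900380066007400ca00ac00f00052007100210016006700e100c4006b0003) (Net.cons (nat_lit 16) (nat_lit 0xa0000c3e900005ac10000df3500003b7b000021fa000008680000101200004760) (Net.cons (nat_lit 32) (nat_lit 0xa07a454800000000089736c100000000101157b10000000000002b5a) (Net.cons (nat_lit 64) (nat_lit 0xce0b50083a6b482a00000000000000000000000000002220) (Net.cons (nat_lit 128) (nat_lit 0x95cb47ac941eba107b30b6a22be332a8) (Net.cons (nat_lit 256) (nat_lit 229370) (Net.cons (nat_lit 128) (nat_lit 455363) (Net.cons (nat_lit 64) (nat_lit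 0x66c9771fdb94a35e000000000000000010397800b99a21fd) (Net.cons (nat_lit 32) (nat_lit 0x7a3caed600000000880f6ef400000000352f40d8000000005d8fcf52) (Net.cons (nat_lit 16) (nat_lit 0xb0000e6a20000af070000cdcf0000d85a000081d50000fd92000002360000c82d) (Net.cons (nat_lit 8) (nat_lit 0x51003c008100e0005900ba0080009100b70073001d00d500da00a40040002a00e3) (Net.cons (nat_lit 4) (nat_lit 0xd00030b09040506010b0c020b040a0c08010a0e0c0e010a070c0201020e040f0606) (Net.cons (nat_lit 2) (nat_lit 0x303312031010320221023212301021223330322210310112233323122223202120323) (Net.cons (nat_lit 1) (nat_lit 0x45044014144104514144040454100500540055445401401144150015404511550105) Net.nil)))))))))))))))))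

theorem g78_ok : Net.ok 276 g78 = true := by decide +kernel

noncomputable def V79 : List Net := [g77, g78]

theorem V79_ok : okE 276 V79 = true := (okE_cons.2 ⟨g77_ok, (okE_cons.2 ⟨g78_ok, (okE_nil 276)⟩)⟩)

noncomputable def V81 : List Net := [n_t, n_t]

theorem V81_ok : okE 276 V81 = true := (okE_cons.2 ⟨n_t_ok, (okE_cons.2 ⟨n_t_ok, (okE_nil 276)⟩)⟩)

noncomputable def EHb_E : List Net := [n_b1, n_b2, n_b3, n_s2, n_s4, g58, g59, g62, g63, g66, g67, g70, g71, g70, g74, g77, g78, n_t, n_t]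

theorem EHb_E_ok : okE 276 EHb_E = true := (okE_cons.2 ⟨n_b1_ok, (okE_cons.2 ⟨n_b2_ok, (okE_cons.2 ⟨n_b3_ok, (okE_cons.2 ⟨n_s2_ok, (okE_cons.2 ⟨n_s4_ok, (okE_cons.2 ⟨g58_ok, (okE_cons.2 ⟨g59_ok, (okE_cons.2 ⟨g62_ok, (okE_cons.2 ⟨g63_ok, (okE_cons.2 ⟨g66_ok, (okE_cons.2 ⟨g67_ok, (okE_cons.2 ⟨g70_ok, (okE_cons.2 ⟨g71_ok, (okE_cons.2 ⟨g70_ok, (okE_cons.2 ⟨g74_ok, (okE_cons.2 ⟨g77_ok, (okE_cons.2 ⟨g78_ok, (okE_cons.2 ⟨n_t_ok, (okE_cons.2 ⟨n_t_ok, (okE_nil 276)⟩)⟩)⟩)⟩)⟩)⟩)⟩)⟩)⟩)⟩)⟩)⟩)⟩)⟩)⟩)⟩)⟩)⟩)⟩)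

noncomputable def EK : List Net := [n_k1, n_k2, n_k3, n_k4, n_k5, n_k6, n_k7]

theorem EK_ok : okE 276 EK = true := (okE_cons.2 ⟨n_k1_ok, (okE_cons.2 ⟨n_k2_ok, (okE_cons.2 ⟨n_k3_ok, (okE_cons.2 ⟨n_k4_ok, (okE_cons.2 ⟨n_k5_ok, (okE_cons.2 ⟨n_k6_ok, (okE_cons.2 ⟨n_k7_ok, (okE_nil 276)⟩)⟩)⟩)⟩)⟩)⟩)⟩)

noncomputable def g83 : Net := (Net.cons (nat_lit 1) (nat_lit 0x145455401445541445151040411554141401110104541155514051451044505004010) (Net.cons (nat_lit 2) (nat_lit 0x211303101233320300000122232120110000010123100111111121211303110300000) (Net.cons (nat_lit 4) (nat_lit 0xd0e05020d05080700030f0c0105010f06050406000b040b050308050f090b0c0308) (Net.cons (nat_lit 8) (nat_lit 0x600c400ab00b4004f0026000500dc004c00a300ba002c009500a600a8000a000c) (Net.cons (nat_lit 16) (nat_lit 0x600009b12000014aa0000068f0000b9e70000cda400004cd00000834c00001a00) (Net.cons (nat_lit 32) (nat_lit 0x1ecda20000000000602722ed00000000804538050000000000000380) (Net.cons (nat_lit 64) (nat_lit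 0xc20245100a09402100000000000000000000000000081c40) (Net.cons (nat_lit 128) (nat_lit 0xc205665e56d5a860003a918ab849925f) (Net.cons (nat_lit 256) (nat_lit 761823) (Net.cons (nat_lit 128) (nat_lit 321999) (Net.cons (nat_lit 64) (nat_lit 0xac649234483747d00000000000000003883a5d60f2f514f) (Net.cons (nat_lit 32) (nat_lit 0x8dbcba100000000632240fe00000000c08f4027000000005a75f893) (Net.cons (nat_lit 16) (nat_lit 0x5000085490000597900002c030000b36e0000b6d00000114700004c8e00004d91) (Net.cons (nat_lit 8) (nat_lit 0xcd00dc003d00ef000900aa002f00ba00d900d9006d000500a40036004c009f008c) (Net.cons (nat_lit 4) (nat_lit 0x60e060e0f010e020d05090b07090d0003070f0908070d03030a0606040905070a04) (Net.cons (nat_lit 2) (nat_lit 0x321232030023210202201102132112002000030103223130301102203130033011010) (Net.cons (nat_lit 1) (nat_lit 0x1545400054410401111405454001510145414455151154001455155411005011014) Net.nil)))))))))))))))))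

theorem g83_ok : Net.ok 276 g83 = true := by decide +kernel

noncomputable def g84 : Net := (Net.cons (nat_lit 1) (nat_lit 0x111404104114510145405045511551554100501004150550051050400110000414100) (Net.cons (nat_lit 2) (nat_lit 0x131310230330222303001110011121023301331210103300213312032001010322000) (Net.cons (nat_lit 4) (nat_lit 0xd030a050d0f0305010c080d0d050c06000f0a07040d0c0f060b0909040d0a0c0100) (Net.cons (nat_lit 8) (nat_lit 0x4e007300890027002500b8004100ac00d800a4005900cc00840089002700440000) (Net.cons (nat_lit 16) (nat_lit 0x81980000c0aa00009035000066210000018e00002646000064240000fe60) (Net.cons (nat_lit 32) (nat_lit 0xa853d85a00000000c50b701800000000e8021adb00000000000e6209) (Net.cons (nat_lit 64) (nat_lit 0x60264ca0d9782e40000000000000000000000000000298a8) (Net.cons (nat_lit 128) (nat_lit 0xcce27f77b43adbbab594329149cd7d63) (Net.cons (nat_lit 256) (nat_lit 0xfffeb) (Net.cons (nat_lit 128) (nat_lit 490857) (Net.cons (nat_lit 64) (nat_lit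 0xe63188a25b58ca78000000000000000024358410601cf8cf) (Net.cons (nat_lit 32) (nat_lit 0x585f9dc2000000007de914ce000000000e3a5bc300000000aab827ef) (Net.cons (nat_lit 16) (nat_lit 0xa000040b3000084900000916f0000f66b000019c4000022a80000345a00003e46) (Net.cons (nat_lit 8) (nat_lit 0x6e00fa00880027004500b80075009c009c00e40059009d008500c5007700200080) (Net.cons (nat_lit 4) (nat_lit 0xd070a090d0f070101080c090d010c06040b0a0300090c0b060f0d01040d0a0c0900) (Net.cons (nat_lit 2) (nat_lit 0x131310231330223303201110011121023301331210103300213312032001010322100) (Net.cons (nat_lit 1) (nat_lit 0x111404104114510145405045511551554100501004150550051050400110000414100) Net.nil)))))))))))))))))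

theorem g84_ok : Net.ok 276 g84 = true := by decide +kernel

noncomputable def g85 : Net := (Net.cons (nat_lit 1) (nat_lit 0x410504545045400555540510411155514544405000010401441011015455151010110) (Net.cons (nat_lit 2) (nat_lit 0x32201002331332011102011132001320320020300212230010123210020322202320) (Net.cons (nat_lit 4) (nat_lit 0x60d060d010d010a02010f0d0a0e0e0b010005000309010f08020b03070805000000) (Net.cons (nat_lit 8) (nat_lit 0xda003500ba005500ea00180031001900eb00a10099003f00fc0024000900360001) (Net.cons (nat_lit 16) (nat_lit 0x1e0d0000ee10000054cb000049410000a6ce0000f5b100001167000020c0) (Net.cons (nat_lit 32) (nat_lit 0x8810ac2000000000070137e000000003706366600000000000c0216) (Net.cons (nat_lit 64) (nat_lit 0x140d0c20599d567600000000000000000000000000058942) (Net.cons (nat_lit 128) (nat_lit 0x9ec8350cebf9a1ecc935faf69643243c) (Net.cons (nat_lit 256) (nat_lit 0xffffe) (Net.cons (nat_lit 128) (nat_lit 488206) (Net.cons (nat_lit 64) (nat_lit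 0x731500ea8dba3e550000000000000000452df309a32308a8) (Net.cons (nat_lit 32) (nat_lit 0x9f0c615f0000000067ae805900000000e8c62eab000000005f246468) (Net.cons (nat_lit 16) (nat_lit 0x50000eb7c00009c1c000078b000009ef00000c0230000b9060000523f000080f4) (Net.cons (nat_lit 8) (nat_lit 0x6f00a800bf00d6001200960082002b000b00de00df0004006c00260032000f005c) (Net.cons (nat_lit 4) (nat_lit 0x2080d07070c0f03040f08080d060c060f0f0407010b0b0f0d080c0b000e02020a01) (Net.cons (nat_lit 2) (nat_lit 0x122333100113130020001303231010210330231203220333300122210103210123030) (Net.cons (nat_lit 1) (nat_lit 0x450441450110015441510504151514041551044151010505140155154400510114150) Net.nil)))))))))))))))))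

theorem g85_ok : Net.ok 276 g85 = true := by decide +kernel

noncomputable def V86 : List Net := [g83, g84, g85]

theorem V86_ok : okE 276 V86 = true := (okE_cons.2 ⟨g83_ok, (okE_cons.2 ⟨g84_ok, (okE_cons.2 ⟨g85_ok, (okE_nil 276)⟩)⟩)⟩)

noncomputable def g88 : Net := (Net.cons (nat_lit 1) (nat_lit 0x114014544410415555110051445044555040151011511141510450055001144441110) (Net.cons (nat_lit 2) (nat_lit 0x3120202011033221330131230213210113333001001131122130132211233213100) (Net.cons (nat_lit 4) (nat_lit 0x905000302050801050b0806010a03060a080f0d0c0e0e03040c04040f01080808) (Net.cons (nat_lit 8) (nat_lit 0xb40037001c00cd00c4004d00d8001a001f005b002900260059009d002200380001) (Net.cons (nat_lit 16) (nat_lit 0x30000c85a000094100000926900004fa00000a135000047b200006cf600002420) (Net.cons (nat_lit 32) (nat_lit 0x30e05c79000000008036547d00000000081a03010000000000029312) (Net.cons (nat_lit 64) (nat_lit 0xcac68050a043992a00000000000000000000000000084251) (Net.cons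 (nat_lit 128) (nat_lit 0x1538e0111c4ab455fafe43c8f6863ed6) (Net.cons (nat_lit 256) (nat_lit 983031) (Net.cons (nat_lit 128) (nat_lit 208249) (Net.cons (nat_lit 64) (nat_lit 0x65dd29e18aaf18bf0000000000000000fa71c6d7039951f4) (Net.cons (nat_lit 32) (nat_lit 0x7e5a92ad000000004cd8a3e60000000087581d9000000000998f840b) (Net.cons (nat_lit 16) (nat_lit 0xe00009ed30000c8ee0000be030000f4f300009f1b0000774a00000165000086f3) (Net.cons (nat_lit 8) (nat_lit 0x3b009300bb00c900ac0020004000af002900ca00b100cd002f00f4000100660055) (Net.cons (nat_lit 4) (nat_lit 0xf0707010f030b0202050a0306050e0d0b080e060f090601020b03070b0f02080e09) (Net.cons (nat_lit 2) (nat_lit 0x32331223201010220133033003312213130213003003200111032021102230002300) (Net.cons (nat_lit 1) (nat_lit 0x401145514000005505441115514140155551505400115540000510144145011105550) Net.nil)))))))))))))))))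

theorem g88_ok : Net.ok 276 g88 = true := by decide +kernel

noncomputable def g89 : Net := (Net.cons (nat_lit 1) (nat_lit 0x51110514400154100105045440440045550155445415104014050050500550444510) (Net.cons (nat_lit 2) (nat_lit 0x22301332203022331130112100321312320313230200131020012322331001312220) (Net.cons (nat_lit 4) (nat_lit 0xf0c08040b0507040e0d05030f0b0d000c0e0402080409010d0d0d0e060804010d0c) (Net.cons (nat_lit 8) (nat_lit 0x4800f600ae00020019000300d400ce002000a4003e004d005e002c0049000c0008) (Net.cons (nat_lit 16) (nat_lit 0x70000d2a200005c63000042950000ca7000007c2c0000c2750000a63800009000) (Net.cons (nat_lit 32) (nat_lit 0x8957c63f00000000f616e4d40000000021a37572000000000007a12c) (Net.cons (nat_lit 64) (nat_lit 0x468004201079434d00000000000000000000000000025662) (Net.cons (nat_lit 128) (nat_lit 0x3bb84cf0e4054e755d27d809fa7d00d9) (Net.cons (nat_lit 256) (nat_lit 0xff7ff) (Net.cons (nat_lit 128) (nat_lit 664897) (Net.cons (nat_lit 64) (nat_lit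 0x73fc71d68913e06d0000000000000000cdca865ca444b702) (Net.cons (nat_lit 32) (nat_lit 0x8aed71da00000000f6ed292c00000000f4b6d329000000007fa9476a) (Net.cons (nat_lit 16) (nat_lit 0x50000a26300000b310000c28000004f0b0000e4a2000082ae00000aa40000121e) (Net.cons (nat_lit 8) (nat_lit 0x250045002d00cc00090052003f004b00f9005600ca009300e000ec00f000bf006c) (Net.cons (nat_lit 4) (nat_lit 0xa060009070600080d0d0e000702040d0900030e0b000b0f0000090200050e0f010a) (Net.cons (nat_lit 2) (nat_lit 0x311233013201103001200210230212012031222131230010031130022311300022221) (Net.cons (nat_lit 1) (nat_lit 0x155004100001541005111155445454151550151441410151154511044510140144515) Net.nil)))))))))))))))))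

theorem g89_ok : Net.ok 276 g89 = true := by decide +kernel

noncomputable def V90 : List Net := [g88, g89]

theorem V90_ok : okE 276 V90 = true := (okE_cons.2 ⟨g88_ok, (okE_cons.2 ⟨g89_ok, (okE_nil 276)⟩)⟩)

noncomputable def g92 : Net := (Net.cons (nat_lit 1) (nat_lit 0x141444515101104441000101500111511450505010150500011115055041554404050) (Net.cons (nat_lit 2) (nat_lit 0x112030023312300231211002212332223200113323330232131211101330100310220) (Net.cons (nat_lit 4) (nat_lit 0x909080d020f0d0d0d04070c030c080c02040605080e0c000b000408030d04040100) (Net.cons (nat_lit 8) (nat_lit 0x1e00fa001c006800de008a00f400040072001200bb000300d000b500e40014000c) (Net.cons (nat_lit 16) (nat_lit 0xb0000430f0000744200004810000086090000a3410000d8ac0000204b00003240) (Net.cons (nat_lit 32) (nat_lit 0x100504ee0000000029501659000000008d0d69910000000000053165) (Net.cons (nat_lit 64) (nat_lit 0x50e1060842432476000000000000000000000000000b5881) (Net.cons (nat_lit 128) (nat_lit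 0x406565aa49a3c11bb788ca571a730b26) (Net.cons (nat_lit 256) (nat_lit 0xf7fe7) (Net.cons (nat_lit 128) (nat_lit 734786) (Net.cons (nat_lit 64) (nat_lit 0x7e48809ce865575800000000000000001cfd18f3e1e97afb) (Net.cons (nat_lit 32) (nat_lit 0xf5eda9b100000000caa05cb700000000aac7596500000000928df95d) (Net.cons (nat_lit 16) (nat_lit 0x20000007a0000def800004c360000cf770000018d0000267a00009de60000b048) (Net.cons (nat_lit 8) (nat_lit 0x3d000700a5002e006f00ea0062005800b300a600810002005a00ec00e100570042) (Net.cons (nat_lit 4) (nat_lit 0x306040a040a060b040208080a0f0f010e0d0203010505090309020d0b09090d0100) (Net.cons (nat_lit 2) (nat_lit 0x220013320212322133103111121032210030222330303023301103133202303212031) (Net.cons (nat_lit 1) (nat_lit 0x545415501400144405444110400045155514554441501511414051045141454044011) Net.nil)))))))))))))))))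

theorem g92_ok : Net.ok 276 g92 = true := by decide +kernel

noncomputable def g93 : Net := (Net.cons (nat_lit 1) (nat_lit 0x414544005104051011144101010145114150401145505004544541501041151504450) (Net.cons (nat_lit 2) (nat_lit 0x111012012332133123321211020020200231221313331022233323000112012200220) (Net.cons (nat_lit 4) (nat_lit 0xe0501030609030209070f0a0c050c0c0c0800000e0303080a0f0c07050a010b0201) (Net.cons (nat_lit 8) (nat_lit 0x6e001000ca008e0045004b00bb007e001c0001005000e500210021002600ea0000) (Net.cons (nat_lit 16) (nat_lit 0x75d300002c3b00003b2b0000190500006d040000e1240000e1e40000fc40) (Net.cons (nat_lit 32) (nat_lit 0x5c209476000000007c252ba9000000000034f4770000000000093904) (Net.cons (nat_lit 64) (nat_lit 0x1890f80a24284110000000000000000000000000000c0e4) (Net.cons (nat_lit 128) (nat_lit 0xe08adf353877405a531780b78712fe91) (Net.cons (nat_lit 256) (nat_lit 786429) (Net.cons (nat_lit 128) (nat_lit 740950) (Net.cons (nat_lit 64) (nat_lit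 0xea197cfe456c4ea40000000000000000ab38db67a75234cb) (Net.cons (nat_lit 32) (nat_lit 0x524da43f000000003895cfc9000000000ddd03d300000000c91d9d6e) (Net.cons (nat_lit 16) (nat_lit 0xe00000fa90000eb920000dcb60000e55f0000610d00004a8a0000410500009443) (Net.cons (nat_lit 8) (nat_lit 0x630060002100db00ac0040008d001200dd0064008500db0034001e003800a7000f) (Net.cons (nat_lit 4) (nat_lit 0xa0e040c0606010f0c090b090a0d010307010d000806070c00060302070f04010e06) (Net.cons (nat_lit 2) (nat_lit 0x102002030200210213021223000021300133010032333002130231112331213322221) (Net.cons (nat_lit 1) (nat_lit 0x411100445504451011114111404545455145551140141505115051540544514454115) Net.nil)))))))))))))))))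

theorem g93_ok : Net.ok 276 g93 = true := by decide +kernel

noncomputable def V94 : List Net := [g92, g93]

theorem V94_ok : okE 276 V94 = true := (okE_cons.2 ⟨g92_ok, (okE_cons.2 ⟨g93_ok, (okE_nil 276)⟩)⟩)

noncomputable def g96 : Net := (Net.cons (nat_lit 1) (nat_lit 0x454010555411404405040551155541044114005114010414540404544505105510040) (Net.cons (nat_lit 2) (nat_lit 0x232023333031002311322200212133202331303012130103310111103231302011220) (Net.cons (nat_lit 4) (nat_lit 0x50303070c0904010d0f020c010a01060a04080b0f0c0b070c0002040d0d000c0c02) (Net.cons (nat_lit 8) (nat_lit 0x91009500ff0006008f003b00020008002200d4001c003a004700cf000c00200000) (Net.cons (nat_lit 16) (nat_lit 0xf0000c2b9000008180000d82c00005d8500000851000069910000a74100003300) (Net.cons (nat_lit 32) (nat_lit 0x47f51a5000000000eec7922a00000000afc409ef000000000004548a) (Net.cons (nat_lit 64) (nat_lit 0x1850600ca47c96000000000000000000000000000b04e4) (Net.cons (nat_lit 128) (nat_lit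 0xa253071e5dacb7acdffe91cbb36ef33) (Net.cons (nat_lit 256) (nat_lit 0xfffff) (Net.cons (nat_lit 128) (nat_lit 161973) (Net.cons (nat_lit 64) (nat_lit 0xc5bb2e897cbd856600000000000000005e47a2e98d05eace) (Net.cons (nat_lit 32) (nat_lit 0x6778e9f000000000ea995deb0000000045eda2c900000000d5ae3c83) (Net.cons (nat_lit 16) (nat_lit 0xd0000880000009e290000c2df0000fec9000098eb000044280000609c0000b0e8) (Net.cons (nat_lit 8) (nat_lit 0x840055002e000f006200a30033006600810005003000ce00a90096006600690048) (Net.cons (nat_lit 4) (nat_lit 0x70800000c080c050c0707050904060d0d0e000c04050f0a03010e0704090c040502) (Net.cons (nat_lit 2) (nat_lit 0x132333113103120022113103112000332130301113302012013221213310302021303) (Net.cons (nat_lit 1) (nat_lit 0x141415551551515544150054010141455441045445041111400511451504500454100) Net.nil)))))))))))))))))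

theorem g96_ok : Net.ok 276 g96 = true := by decide +kernel

noncomputable def g97 : Net := (Net.cons (nat_lit 1) (nat_lit 0x15150450444515110011054104040144104450504001000005544010055141000000) (Net.cons (nat_lit 2) (nat_lit 0x33100113103103331023013301200011322133120222023201030013133102122200) (Net.cons (nat_lit 4) (nat_lit 0x30a0a0708050c040c050f040d0001010406050107030304070008010a0908000f08) (Net.cons (nat_lit 8) (nat_lit 0x13006200c200fd0021001400ae007b008b0015002b0020004700700022008e0001) (Net.cons (nat_lit 16) (nat_lit 0x300007a880000787e000003b500006e7b0000d910000074b2000008b000004080) (Net.cons (nat_lit 32) (nat_lit 0x390c92770000000099f9285c000000000445c92c00000000000a296a) (Net.cons (nat_lit 64) (nat_lit 0x4602602606d1a1a000000000000000000000000000f4a1a) (Net.cons (nat_lit 128) (nat_lit 0xe04db47e1b1db08cff265224e8f5811f) (Net.cons (nat_lit 256) (nat_lit 0xfebff) (Net.cons (nat_lit 128) (nat_lit 511497) (Net.cons (nat_lit 64) (nat_lit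 0xf5dbf783a5e750460000000000000000274157a5eba284d8) (Net.cons (nat_lit 32) (nat_lit 0x3f5b67f100000000010be2b900000000493c4d9800000000a81cb8ea) (Net.cons (nat_lit 16) (nat_lit 0xd00008dd200001b850000d4b90000e542000053c70000782c00006b0500002c26) (Net.cons (nat_lit 8) (nat_lit 0x3b00490066003100d7008700e900b700db00b400e3009c000f007900cc00820029) (Net.cons (nat_lit 4) (nat_lit 0xa060409080d030e070e030200000d01030c0c0707030c0a0d0f040f04080804050a) (Net.cons (nat_lit 2) (nat_lit 0x323301232223213300120320021020013313022001223100131201321103303312101) (Net.cons (nat_lit 1) (nat_lit 0x15155055054404050114044111551500114044454000410001154114054504444441) Net.nil)))))))))))))))))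

theorem g97_ok : Net.ok 276 g97 = true := by decide +kernel

noncomputable def V98 : List Net := [g96, g97]

theorem V98_ok : okE 276 V98 = true := (okE_cons.2 ⟨g96_ok, (okE_cons.2 ⟨g97_ok, (okE_nil 276)⟩)⟩)

noncomputable def g100 : Net := (Net.cons (nat_lit 1) (nat_lit 0x150141105015044104511405440110054404411144511051550555144055501454140) (Net.cons (nat_lit 2) (nat_lit 0x212331031232210011300112220232302233133021131222022332001233110030200) (Net.cons (nat_lit 4) (nat_lit 0x3090903000e0a05090e070205080d09010a0701090a0604000e080c04070e000705) (Net.cons (nat_lit 8) (nat_lit 0xe60000009f00a2004a004e006b00c20075001e00bb00bb0035009b00f000620002) (Net.cons (nat_lit 16) (nat_lit 0xd0000d17d000058c20000e845000013ee00001bf00000b0550000964500003b90) (Net.cons (nat_lit 32) (nat_lit 0xb220148b00000000ab8055a20000000061a575440000000000055405) (Net.cons (nat_lit 64) (nat_lit 0x2c12ca058c10827800000000000000000000000000023090) (Net.cons (nat_lit 128) (nat_lit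 0xd55444b5deeb38977b839ec8103dcf50) (Net.cons (nat_lit 256) (nat_lit 0xfffd5) (Net.cons (nat_lit 128) (nat_lit 463999) (Net.cons (nat_lit 64) (nat_lit 0xd865b66109825c2c00000000000000001482e66ca28671b7) (Net.cons (nat_lit 32) (nat_lit 0x2b1f02c00000000b87d33c4000000005224cc910000000092ed1e41) (Net.cons (nat_lit 16) (nat_lit 0xb00002e460000351200009a080000423000001eec0000af210000610a0000b126) (Net.cons (nat_lit 8) (nat_lit 0x1b0043005900fe00ab004500b4007e00fc003f004700c0009500e000c1004a0066) (Net.cons (nat_lit 4) (nat_lit 0x304090a0e0c09000c0d040a03050f020b05020d0c060a090007070b020d070e0107) (Net.cons (nat_lit 2) (nat_lit 0x223111221233000112020022230123311333212033113031022013013010312102203) (Net.cons (nat_lit 1) (nat_lit 0x151041515114401511150444015151540505041541150145150014151450401544405) Net.nil)))))))))))))))))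

theorem g100_ok : Net.ok 276 g100 = true := by decide +kernel

noncomputable def g101 : Net := (Net.cons (nat_lit 1) (nat_lit 0x40154444044404001551041504505405451410000011455415404145115144004140) (Net.cons (nat_lit 2) (nat_lit 0x130122321210212122312103303320022200120110322321123202213101023302000) (Net.cons (nat_lit 4) (nat_lit 0xd0f0d000f0b0902050008030c0c0e02090e0b09030402070600090901080b0b0201) (Net.cons (nat_lit 8) (nat_lit 0xcb003800b10045000000a400c300dd0049003500ab00bd00cc0082008000fa000a) (Net.cons (nat_lit 16) (nat_lit 0x900006a2d000048ad0000570300008d1200002770000063980000065400002d60) (Net.cons (nat_lit 32) (nat_lit 0x1a7792d300000000094a4c780000000041055c290000000000087e1c) (Net.cons (nat_lit 64) (nat_lit 0x39ac0002e02754f0000000000000000000000000001a5d1) (Net.cons (nat_lit 128) (nat_lit 0x898b8f066bfcecc336662dd0942bb59) (Net.cons (nat_lit 256) (nat_lit 786431) (Net.cons (nat_lit 128) (nat_lit 758474) (Net.cons (nat_lit 64) (nat_lit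 0x1b6a009d6e04ddb900000000000000004927cbf28c455341) (Net.cons (nat_lit 32) (nat_lit 0x54877cd6000000004883ae9e00000000a1fbc96b000000003314f42e) (Net.cons (nat_lit 16) (nat_lit 0x2000024d80000c274000037dd0000821300008fe600003b06000074c60000cb68) (Net.cons (nat_lit 8) (nat_lit 0x750084007c00a10070004c002300a6004700eb004200e7001200ca006300660008) (Net.cons (nat_lit 4) (nat_lit 0x407060e0a06000a0c00080d0f0d050c090a0f0a02000903040104020108010d0401) (Net.cons (nat_lit 2) (nat_lit 0x333022130313122220100320233023332002221020112210131133131020121232122) (Net.cons (nat_lit 1) (nat_lit 0x400014410045410444011045500115505015100405010155445401044014101014400) Net.nil)))))))))))))))))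

theorem g101_ok : Net.ok 276 g101 = true := by decide +kernel

noncomputable def V102 : List Net := [g100, g101]

theorem V102_ok : okE 276 V102 = true := (okE_cons.2 ⟨g100_ok, (okE_cons.2 ⟨g101_ok, (okE_nil 276)⟩)⟩)

noncomputable def V104 : List Net := [g78, n_t]

theorem V104_ok : okE 276 V104 = true := (okE_cons.2 ⟨g78_ok, (okE_cons.2 ⟨n_t_ok, (okE_nil 276)⟩)⟩)

noncomputable def V106 : List Net := [n_t, n_t]

theorem V106_ok : okE 276 V106 = true := (okE_cons.2 ⟨n_t_ok, (okE_cons.2 ⟨n_t_ok, (okE_nil 276)⟩)⟩)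

noncomputable def EKb_E : List Net := [n_k1, n_k2, n_k3, n_k4, n_k5, n_k6, n_k7, g83, g84, g85, g88, g89, g92, g93, g96, g97, g100, g101, g78, n_t, n_t, n_t]

theorem EKb_E_ok : okE 276 EKb_E = true := (okE_cons.2 ⟨n_k1_ok, (okE_cons.2 ⟨n_k2_ok, (okE_cons.2 ⟨n_k3_ok, (okE_cons.2 ⟨n_k4_ok, (okE_cons.2 ⟨n_k5_ok, (okE_cons.2 ⟨n_k6_ok, (okE_cons.2 ⟨n_k7_ok, (okE_cons.2 ⟨g83_ok, (okE_cons.2 ⟨g84_ok, (okE_cons.2 ⟨g85_ok, (okE_cons.2 ⟨g88_ok, (okE_cons.2 ⟨g89_ok, (okE_cons.2 ⟨g92_ok, (okE_cons.2 ⟨g93_ok, (okE_cons.2 ⟨g96_ok, (okE_cons.2 ⟨g97_ok, (okE_cons.2 ⟨g100_ok, (okE_cons.2 ⟨g101_ok, (okE_cons.2 ⟨g78_ok, (okE_cons.2 ⟨n_t_ok, (okE_cons.2 ⟨n_t_ok, (okE_cons.2 ⟨n_t_ok, (okE_nil 276)⟩)⟩)⟩)⟩)⟩)⟩)⟩)⟩)⟩)⟩)⟩)⟩)⟩)⟩)⟩)⟩)⟩)⟩)⟩)⟩)⟩)⟩)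

noncomputable def EO : List Net := [n_t, n_u, n_w, n_x, n_v, n_a, n_b, n_p1, n_p2, n_y, n_yy]

theorem EO_ok : okE 276 EO = true := (okE_cons.2 ⟨n_t_ok, (okE_cons.2 ⟨n_u_ok, (okE_cons.2 ⟨n_w_ok, (okE_cons.2 ⟨n_x_ok, (okE_cons.2 ⟨n_v_ok, (okE_cons.2 ⟨n_a_ok, (okE_cons.2 ⟨n_b_ok, (okE_cons.2 ⟨n_p1_ok, (okE_cons.2 ⟨n_p2_ok, (okE_cons.2 ⟨n_y_ok, (okE_cons.2 ⟨n_yy_ok, (okE_nil 276)⟩)⟩)⟩)⟩)⟩)⟩)⟩)⟩)⟩)⟩)⟩)

noncomputable def g108 : Net := (Net.cons (nat_lit 1) (nat_lit 0x105545501010445440510415104141111510145115400115401440110540000044400) (Net.cons (nat_lit 2) (nat_lit 0x322223021203003331322330113102100322011021103211332021332022000003010) (Net.cons (nat_lit 4) (nat_lit 0x20f03010e03030e0203030805030201000101040f09000804020c0c040c02020300) (Net.cons (nat_lit 8) (nat_lit 0x9a009c009300c50006002c002b006200d4007500410008003c000600f90014000c) (Net.cons (nat_lit 16) (nat_lit 0x90000e5800000979b000046a0000001eb000071f50000276a0000212500009c10) (Net.cons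 (nat_lit 32) (nat_lit 0x4ed1bcf00000000841150f500000000121b3bc2000000000004be12) (Net.cons (nat_lit 64) (nat_lit 0x282134a514b45e91000000000000000000000000000a2630) (Net.cons (nat_lit 128) (nat_lit 0xfe370433bd489dfbd6c438ce01b58aa5) (Net.cons (nat_lit 256) (nat_lit 0xffebf) (Net.cons (nat_lit 128) (nat_lit 942318) (Net.cons (nat_lit 64) (nat_lit 0xc4e6abaddc6ea4770000000000000000d0c3cc8d73d991e6) (Net.cons (nat_lit 32) (nat_lit 0xf9b2040b000000006e1eea7d000000003b27661a00000000c323925e) (Net.cons (nat_lit 16) (nat_lit 0xb000004bf000062240000513c00002a81000096560000478e0000174e0000a04d) (Net.cons (nat_lit 8) (nat_lit 0x2000500ee00c600a4009f00be003e00cd005a001100e6008300c7005600f600c7) (Net.cons (nat_lit 4) (nat_lit 0xf0501060b0b0c0f0705040e02050704070f0504000a0a04010c090a040a0e0a0c04) (Net.cons (nat_lit 2) (nat_lit 0x3230311202022313020021320320323121303201122321320103101321210021120) (Net.cons (nat_lit 1) (nat_lit 0x514151151150150404050015450451141140540114000015444111055005501404100)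 Net.nil)))))))))))))))))

theorem g108_ok : Net.ok 276 g108 = true := by decide +kernel

noncomputable def g109 : Net := (Net.cons (nat_lit 1) (nat_lit 0x51515101001005104515004445514554510511511104404551144114455451055044) (Net.cons (nat_lit 2) (nat_lit 0x30213131220303110010201132210222003100021303220201200221022221202210) (Net.cons (nat_lit 4) (nat_lit 0xb000b0f03000c060e0d0a0207070b0b060c0f0a030e050c0b04010a060708010800) (Net.cons (nat_lit 8) (nat_lit 0xb80086000400c8009c00860020007900a70095003b002a00fa0043000a00d00008) (Net.cons (nat_lit 16) (nat_lit 0x2d200000cd570000c6b100006d8200000e0e0000610b00009ca4000030c0) (Net.cons (nat_lit 32) (nat_lit 0x6ae008d7000000006d24c86a000000001213cbd000000000000244c3) (Net.cons (nat_lit 64) (nat_lit 0x8b086c0801430b8800000000000000000000000000049b90) (Net.cons (nat_lit 128) (nat_lit 0x65ab83c0419ac68fae327c9b8ac68c99) (Net.cons (nat_lit 256) (nat_lit 983003) (Net.cons (nat_lit 128) (nat_lit 247201) (Net.cons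 (nat_lit 64) (nat_lit 0x2756e92693787c20000000000000000fac2e02e8171607f) (Net.cons (nat_lit 32) (nat_lit 0x6538d94700000000b21d720a00000000948f31b300000000e266e81b) (Net.cons (nat_lit 16) (nat_lit 0x800009ed3000068a60000cdfb0000c0d900003f780000885600002c2500003142) (Net.cons (nat_lit 8) (nat_lit 0x24000f00e000c100fb002800c100e600e9009500f0000700af00b500de006100a9) (Net.cons (nat_lit 4) (nat_lit 0xa0e060b070e06080500030b0b0d0d0d0e0f020f060c0b000f010e0d0201040f0503) (Net.cons (nat_lit 2) (nat_lit 0x203203210201332120023101311222310300130033020121031023000021010223) (Net.cons (nat_lit 1) (nat_lit 0x404541144141015000515010411054455515100054141155100005515041051145401) Net.nil)))))))))))))))))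

theorem g109_ok : Net.ok 276 g109 = true := by decide +kernel

noncomputable def g110 : Net := (Net.cons (nat_lit 1) (nat_lit 0x400551501514005440505040011151141004105050015054551011441400410545110) (Net.cons (nat_lit 2) (nat_lit 0x102230112312200131202331303211330123331103023322332121122201322110210) (Net.cons (nat_lit 4) (nat_lit 0xe0406010a0a00030c0b05030f0e02090508070c06000e0a0806090d0e0c00090402) (Net.cons (nat_lit 8) (nat_lit 0x96000200dc00ad001a00ae00de009400bd009800f10097005700d000ab00110002) (Net.cons (nat_lit 16) (nat_lit 0x20000510d00006ca9000004140000f5600000744c0000cd050000bab400004580) (Net.cons (nat_lit 32) (nat_lit 0x212435320000000090365f6c000000000512f4690000000000014302) (Net.cons (nat_lit 64) (nat_lit 0x40040c08a2990c41000000000000000000000000000aa4c2) (Net.cons (nat_lit 128) (nat_lit 0xef9f7bb5eb52a4068771e4cb1daa5955) (Net.cons (nat_lit 256) (nat_lit 786391) (Net.cons (nat_lit 128) (nat_lit 250627) (Net.cons (nat_lit 64)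 (nat_lit 0x82ac52b2d55dc187000000000000000031c2407c24672546) (Net.cons (nat_lit 32) (nat_lit 0x966f18ea00000000c9676a6c00000000228fc344000000005bcd42ac) (Net.cons (nat_lit 16) (nat_lit 0x30000528000002f6200002b030000670500000259000047d000008a1500000d73) (Net.cons (nat_lit 8) (nat_lit 0x150004005500ad0011005000a200a200ea0028001f00eb00ed007200e600560057) (Net.cons (nat_lit 4) (nat_lit 0x307010b0d08050c0e06040906070b09070802000f000a060406080d0802020a070e) (Net.cons (nat_lit 2) (nat_lit 0x303222010302123020021002020211131031332102321111020133120312322121100) (Net.cons (nat_lit 1) (nat_lit 0x11151551500401441454414504511504001545410000455054010004040110501455) Net.nil)))))))))))))))))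

theorem g110_ok : Net.ok 276 g110 = true := by decide +kernel

noncomputable def g111 : Net := (Net.cons (nat_lit 1) (nat_lit 0x14405554540514440411044014515010501151444501111410505415504001150440) (Net.cons (nat_lit 2) (nat_lit 0x310322131130020302110032331130110103012012212020131201001120313310030) (Net.cons (nat_lit 4) (nat_lit 0x20b040b0507070e0d080806030703010c00060a090c0f0f00090901010c08070102) (Net.cons (nat_lit 8) (nat_lit 0xd1005800210055008200b000ac00cc003700d9002000d4004800070078002e0008) (Net.cons (nat_lit 16) (nat_lit 0x30000f09a00008ad40000dc60000020930000ee7c000055e10000640800001a00) (Net.cons (nat_lit 32) (nat_lit 0x50880e09000000004d1c74c2000000002e0870db0000000000001082) (Net.cons (nat_lit 64) (nat_lit 0x10f28882388c02f000000000000000000000000000094019) (Net.cons (nat_lit 128) (nat_lit 0x292c11039a95347099dee9b4652a7ee0) (Net.cons (nat_lit 256) (nat_lit 786427) (Net.cons (nat_lit 128) (nat_lit 206063) (Net.cons (nat_lit 64) (nat_lit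 0xedf25b6e0d8963f0000000000000000e3485c3114084591) (Net.cons (nat_lit 32) (nat_lit 0x286ae2c00000000c747ddda00000000e5ac259a00000000681b883f) (Net.cons (nat_lit 16) (nat_lit 0x20000f58e00001210000065ea00008b83000006540000c7ae0000fd8e00000f24) (Net.cons (nat_lit 8) (nat_lit 0x2b00d2002700d5006400ff00d90044008600c100a5008100db001000e900d90002) (Net.cons (nat_lit 4) (nat_lit 0x40800040e050d0203030f0b030907000b020a0209040c060b030f00040f0e010603) (Net.cons (nat_lit 2) (nat_lit 0x331220321111211100023331231121330101102232323112131121301300231212211) (Net.cons (nat_lit 1) (nat_lit 0x410401440440500505411000410505515101455145551040050044055510450054044) Net.nil)))))))))))))))))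

theorem g111_ok : Net.ok 276 g111 = true := by decide +kernel

noncomputable def g112 : Net := (Net.cons (nat_lit 1) (nat_lit 0x15140500515510141004001505555550044005114450054104400100504401100500) (Net.cons (nat_lit 2) (nat_lit 0x22111113002010312021330212232032212020310300232012030130100001000000) (Net.cons (nat_lit 4) (nat_lit 0x4080e0702010407000c05010c060c0407080205000509020d05020d000802030000) (Net.cons (nat_lit 8) (nat_lit 0x8600c700d500ec00cb0087006f00e3001c0027008a00d00068000a002100200004) (Net.cons (nat_lit 16) (nat_lit 0xd000048dd000035b0000008ab0000225e000021220000a6440000404000000160) (Net.cons (nat_lit 32) (nat_lit 0x40a0d2e00000000807023de000000004805c84500000000000e018a) (Net.cons (nat_lit 64) (nat_lit 0x30500868a9e64000000000000000000000000000044ca4) (Net.cons (nat_lit 128) (nat_lit 0xa3f2bfd14bc3e5b6e849e3eba22587ea) (Net.cons (nat_lit 256) (nat_lit 0xfefee) (Net.cons (nat_lit 128) (nat_lit 624615) (Net.cons (nat_lit 64) (nat_lit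 0xb2ca1139fe01b64000000000000000002ce681038e355ee5) (Net.cons (nat_lit 32) (nat_lit 0x5ea24d2e000000009bdfe1db00000000c6a7ca64000000000ea7438a) (Net.cons (nat_lit 16) (nat_lit 0x10000cacf000035b400008eb60000a04a0000a33f000066460000c24800000161) (Net.cons (nat_lit 8) (nat_lit 0x8600c500d500ec00cb0087006d00e1001e0025008800d0006a000a003100a20006) (Net.cons (nat_lit 4) (nat_lit 0x4080e0702010607000c05030c060c0407080205000509020d05030d020802030000) (Net.cons (nat_lit 2) (nat_lit 0x22111113202010112021330310332032212020310300212010230132100121200000) (Net.cons (nat_lit 1) (nat_lit 0x15140500515510141004001505555550044005114450054504400100504401100500) Net.nil)))))))))))))))))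

theorem g112_ok : Net.ok 276 g112 = true := by decide +kernel

noncomputable def g113 : Net := (Net.cons (nat_lit 1) (nat_lit 0x14550415444404015111015444401444541044511004400050401014441541040000) (Net.cons (nat_lit 2) (nat_lit 0x1210332200203332330010201030222202211131110021210202303000011202000) (Net.cons (nat_lit 4) (nat_lit 0xd0e0d0201060a030e090901040d020c0409030003040c0a03000b0e020005020004) (Net.cons (nat_lit 8) (nat_lit 0x800ba004d00de00dd00a200d9002e004e004800c000c100090080000000090000) (Net.cons (nat_lit 16) (nat_lit 0xd00004ac70000fb70000095c8000039ce000038b10000ba260000003400002240) (Net.cons (nat_lit 32) (nat_lit 0x5d8188e000000001240724100000000e545e3200000000000035210) (Net.cons (nat_lit 64) (nat_lit 0x16099814230c1500000000000000000000000000006028) (Net.cons (nat_lit 128) (nat_lit 0x37ddfed4a0903c5733cae70d16678844) (Net.cons (nat_lit 256) (nat_lit 522876) (Net.cons (nat_lit 128) (nat_lit 493764) (Net.cons (nat_lit 64) (nat_lit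 0x714e89b816a35eb700000000000000009f48b0205d85e1a8) (Net.cons (nat_lit 32) (nat_lit 0xabdc28fd00000000a8614b6900000000d365f9600000000006137210) (Net.cons (nat_lit 16) (nat_lit 0xd00004a4f0000cb780000a5ca0000094e00003bb1000088a60000203c000033c9) (Net.cons (nat_lit 8) (nat_lit 0x2800b8004d00de00cf00b200d9006c004e006800d000c300090080000000090004) (Net.cons (nat_lit 4) (nat_lit 0xd0e0d0201060a0b0e090901040d020c0409030003040c0a03000b0e020005020006) (Net.cons (nat_lit 2) (nat_lit 0x1210312200203332332010201030232202231131110021210202303000011202000) (Net.cons (nat_lit 1) (nat_lit 0x54550415444404015111015444401444541044551004400050401014441541040000) Net.nil)))))))))))))))))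

theorem g113_ok : Net.ok 276 g113 = true := by decide +kernel

noncomputable def g114 : Net := (Net.cons (nat_lit 1) (nat_lit 0x40101415415455440111400455104011041154000105001514500050100041000440) (Net.cons (nat_lit 2) (nat_lit 0x21232210003213120201300200022003302210131110323102130230002000200000) (Net.cons (nat_lit 4) (nat_lit 0x90f0e0306060403010d0b08080501030400040304020c0d05080401000809010800) (Net.cons (nat_lit 8) (nat_lit 0xed0088007d00d300ce00fb00420004002500f30088004400280029001000000000) (Net.cons (nat_lit 16) (nat_lit 0x100009f1a000080ca00007d2b0000192100005c72000052630000594100003100) (Net.cons (nat_lit 32) (nat_lit 0x670d4c21000000002948fa4800000000000540ec0000000000060840) (Net.cons (nat_lit 64) (nat_lit 0x6608404200d578f800000000000000000000000000015246) (Net.cons (nat_lit 128) (nat_lit 0x49315b57403d7fc8af59111060cdc3b0) (Net.cons (nat_lit 256) (nat_lit 0xffbf6) (Net.cons (nat_lit 128) (nat_lit 902064) (Net.cons (nat_lit 64) (nat_lit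 0x6f9fe8e3c9d570b800000000000000000f0b72b9570c1247) (Net.cons (nat_lit 32) (nat_lit 0xf305c323000000003f28b24d0000000024c90dec00000000046f4a40) (Net.cons (nat_lit 16) (nat_lit 0x100001b0a0000468b00007d7b000099280000de630000d66300005b1000003900) (Net.cons (nat_lit 8) (nat_lit 0xed0088007d00d300ce00fb00420024002500f7008800400028002d001000000080) (Net.cons (nat_lit 4) (nat_lit 0x90f0e0b06060403010d0b08080509030400040304020c0d05080401000809010806) (Net.cons (nat_lit 2) (nat_lit 0x21233210013212120301200200022113302210121110323102131230002000300000) (Net.cons (nat_lit 1) (nat_lit 0x40101415415455440111400455104011041554000105001514500050100041000440) Net.nil)))))))))))))))))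

theorem g114_ok : Net.ok 276 g114 = true := by decide +kernel

noncomputable def g115 : Net := (Net.cons (nat_lit 1) (nat_lit 0x55414540011410055550544145415541505545414104050140514541410104111500) (Net.cons (nat_lit 2) (nat_lit 0x200300101133101103312300001303022202100110001201112232111220001200000) (Net.cons (nat_lit 4) (nat_lit 0x20500030f0705000d0b080c0106060a000b04070102080e0f0005040e0a04020100) (Net.cons (nat_lit 8) (nat_lit 0xb000000ea009600470080008a0082000b00eb00ad0011008c00fa009a00040000) (Net.cons (nat_lit 16) (nat_lit 0xe0000405d0000b81100001b15000007b600000e6800006002000011000000c440) (Net.cons (nat_lit 32) (nat_lit 0x290654d5000000002489855100000000540dd9ef00000000000445d8) (Net.cons (nat_lit 64) (nat_lit 0x818e70954108a1300000000000000000000000000080083) (Net.cons (nat_lit 128) (nat_lit 0x7b918d1ec51e36fa758972479904c588) (Net.cons (nat_lit 256) (nat_lit 976347) (Net.cons (nat_lit 128) (nat_lit 908453) (Net.cons (nat_lit 64) (nat_lit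 0x309fa1afc59091020000000000000000b9cf4ececac09a9b) (Net.cons (nat_lit 32) (nat_lit 0x280e52c5000000002ea1ca5900000000172dccbf0000000004144bd8) (Net.cons (nat_lit 16) (nat_lit 0x60000821d0000b11900001a550000dbbe000004600000ba8a00001c0800008ac8) (Net.cons (nat_lit 8) (nat_lit 0xa004400a200d6005600890082008a005b00ab00bc000900e400fa0092000c0009) (Net.cons (nat_lit 4) (nat_lit 0x60400020f0705020c0e080d0406070a040a040f0403080f0e04050c0f0a05060100) (Net.cons (nat_lit 2) (nat_lit 0x200300101133101103312300001303032202100110001201112232111220201200000) (Net.cons (nat_lit 1) (nat_lit 0x55414540011410055550544145415541505545414104050140514541410104111500) Net.nil)))))))))))))))))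

theorem g115_ok : Net.ok 276 g115 = true := by decide +kernel

noncomputable def ht_c1_K : List Net := [g108, g109, g110, g111, g112, g113, g114, g115]

theorem ht_c1_K_ok : okE 276 ht_c1_K = true := (okE_cons.2 ⟨g108_ok, (okE_cons.2 ⟨g109_ok, (okE_cons.2 ⟨g110_ok, (okE_cons.2 ⟨g111_ok, (okE_cons.2 ⟨g112_ok, (okE_cons.2 ⟨g113_ok, (okE_cons.2 ⟨g114_ok, (okE_cons.2 ⟨g115_ok, (okE_nil 276)⟩)⟩)⟩)⟩)⟩)⟩)⟩)⟩)

noncomputable def V117 : List Net := [g36, g37, g38, g39, g40, g41, g42]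

theorem V117_ok : okE 276 V117 = true := (okE_cons.2 ⟨g36_ok, (okE_cons.2 ⟨g37_ok, (okE_cons.2 ⟨g38_ok, (okE_cons.2 ⟨g39_ok, (okE_cons.2 ⟨g40_ok, (okE_cons.2 ⟨g41_ok, (okE_cons.2 ⟨g42_ok, (okE_nil 276)⟩)⟩)⟩)⟩)⟩)⟩)⟩)

noncomputable def V118 : List Net := [g37, g38, g39, g40, g41, g42]

theorem V118_ok : okE 276 V118 = true := (okE_cons.2 ⟨g37_ok, (okE_cons.2 ⟨g38_ok, (okE_cons.2 ⟨g39_ok, (okE_cons.2 ⟨g40_ok, (okE_cons.2 ⟨g41_ok, (okE_cons.2 ⟨g42_ok, (okE_nil 276)⟩)⟩)⟩)⟩)⟩)⟩)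

noncomputable def V119 : List Net := [g38, g39, g40, g41, g42]

theorem V119_ok : okE 276 V119 = true := (okE_cons.2 ⟨g38_ok, (okE_cons.2 ⟨g39_ok, (okE_cons.2 ⟨g40_ok, (okE_cons.2 ⟨g41_ok, (okE_cons.2 ⟨g42_ok, (okE_nil 276)⟩)⟩)⟩)⟩)⟩)

noncomputable def V120 : List Net := [g39, g40, g41, g42]

theorem V120_ok : okE 276 V120 = true := (okE_cons.2 ⟨g39_ok, (okE_cons.2 ⟨g40_ok, (okE_cons.2 ⟨g41_ok, (okE_cons.2 ⟨g42_ok, (okE_nil 276)⟩)⟩)⟩)⟩)

noncomputable def V121 : List Net := [g41, g42]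

theorem V121_ok : okE 276 V121 = true := (okE_cons.2 ⟨g41_ok, (okE_cons.2 ⟨g42_ok, (okE_nil 276)⟩)⟩)

noncomputable def V122 : List Net := [g42]

theorem V122_ok : okE 276 V122 = true := (okE_cons.2 ⟨g42_ok, (okE_nil 276)⟩)

noncomputable def V123 : List Net := []

theorem V123_ok : okE 276 V123 = true := (okE_nil 276)

noncomputable def ht_c1_cnt_EG : List Net := [g36, g37, g38, g39, g40, g41, g42, g35]

theorem ht_c1_cnt_EG_ok : okE 276 ht_c1_cnt_EG = true := (okE_cons.2 ⟨g36_ok, (okE_cons.2 ⟨g37_ok, (okE_cons.2 ⟨g38_ok, (okE_cons.2 ⟨g39_ok, (okE_cons.2 ⟨g40_ok, (okE_cons.2 ⟨g41_ok, (okE_cons.2 ⟨g42_ok, (okE_cons.2 ⟨g35_ok, (okE_nil 276)⟩)⟩)⟩)⟩)⟩)⟩)⟩)⟩)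

noncomputable def g124 : Net := (Net.cons (nat_lit 1) (nat_lit 0x500410504040144100001411150500114500505110050541445105405141000000154) (Net.cons (nat_lit 2) (nat_lit 0x100002000122311210010133230132202130002012202123111203021203311211010) (Net.cons (nat_lit 4) (nat_lit 0x90c0e0d080a0f04020d090801040f0b000f08000109080a0a0503000c04060a0803) (Net.cons (nat_lit 8) (nat_lit 0x9f00b10050000400ea008c00c1009400ad004100080052006f00f000e1003b0001) (Net.cons (nat_lit 16) (nat_lit 0x80000c96c000054d4000075c8000012060000bfdf000000520000007a00000160) (Net.cons (nat_lit 32) (nat_lit 0xfd22476e000000006020dede000000000040ed410000000000080450) (Net.cons (nat_lit 64) (nat_lit 0x7a0881114201a74100000000000000000000000000002471) (Net.cons (nat_lit 128) (nat_lit 0x8a69dc4bb3050df571b7759cc860a382) (Net.cons (nat_lit 256) (nat_lit 784371) (Net.cons (nat_lit 128) (nat_lit 526770) (Net.cons (nat_lit 64) (nat_lit 0x6c0ed11638bcc8dd0000000000000000fe5a41f73caab1f5) (Net.cons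 (nat_lit 32) (nat_lit 0x69c9050000000090a4144900000000a4b6676700000000fd6b7314) (Net.cons (nat_lit 16) (nat_lit 0xa000083020000659b000041dc00005550000071a900007e590000b40a00003953) (Net.cons (nat_lit 8) (nat_lit 0x75009300d700a4002800e600fc00a400b200880083004000df0026003700530013) (Net.cons (nat_lit 4) (nat_lit 0xe0e0c0d0f01050d0b0e030a0a0c0f0e0d0407040c0c020c0a040f0c0b060a060b0c) (Net.cons (nat_lit 2) (nat_lit 0x130021200330302200220112330321202100331100102301022003020233311300022) (Net.cons (nat_lit 1) (nat_lit 0x540511114505515444045510155501404041144011404510054510514515114041440) Net.nil)))))))))))))))))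

theorem g124_ok : Net.ok 276 g124 = true := by decide +kernel

noncomputable def g125 : Net := (Net.cons (nat_lit 1) (nat_lit 0x414401544451050041400445015500415141440141155411055050405004504001440) (Net.cons (nat_lit 2) (nat_lit 0x332002021120323131011021022113201231032021020012113232231023120021020) (Net.cons (nat_lit 4) (nat_lit 0xe0007010a0f070109010508040605000e050604010e01020d0a030d020b02090201) (Net.cons (nat_lit 8) (nat_lit 0xa800ee002a00e2009f008200e6006d008000df0088004000e4009d009100040008) (Net.cons (nat_lit 16) (nat_lit 0xc000028b800000ded000031950000acb000002107000025510000f60400003460) (Net.cons (nat_lit 32) (nat_lit 0xce50ea4800000000c9872d5a000000009482259200000000000aa44a) (Net.cons (nat_lit 64) (nat_lit 0x220228584848720000000000000000000000000000084e04) (Net.cons (nat_lit 128) (nat_lit 0xd9349e4bddbc74cff34a7197247b6344) (Net.cons (nat_lit 256) (nat_lit 786302) (Net.cons (nat_lit 128) (nat_lit 0xf60e5) (Net.cons (nat_lit 64)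 (nat_lit 0xb20dcd996dbc893200000000000000000d7106cca6ceff3c) (Net.cons (nat_lit 32) (nat_lit 0xdae9cf6e000000007f8badbd0000000081b4a336000000008a687577) (Net.cons (nat_lit 16) (nat_lit 0x80000f9e50000754f00000c9a0000eaf000002315000052430000645f000085b4) (Net.cons (nat_lit 8) (nat_lit 0xa10026003d00a700f2008b00b900a500bf006e0050005a005100230050003400d0) (Net.cons (nat_lit 4) (nat_lit 0xd0c0e070208020d0d0d0d0f0b0b060c0f0205010e080d0a010c0a040800050f0606) (Net.cons (nat_lit 2) (nat_lit 0x322011000010022310303200012322002120102112311323323321310031333130022) (Net.cons (nat_lit 1) (nat_lit 0x451010501110441051404505051051150441444004511105550005541404105415505) Net.nil)))))))))))))))))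

theorem g125_ok : Net.ok 276 g125 = true := by decide +kernel

noncomputable def g126 : Net := (Net.cons (nat_lit 1) (nat_lit 0x50001445544414054500001544414411001500454500515000014545445515500100) (Net.cons (nat_lit 2) (nat_lit 0x22211323030033123221133010233322221113100000012222020020112200311020) (Net.cons (nat_lit 4) (nat_lit 0x5060505090b040b0b010208040e0f02090d0b0e0008060d0a0b0d00050203000104) (Net.cons (nat_lit 8) (nat_lit 0x650049005a008200cf00d900e800b6006100ea00440049005c00f0004c003a000b) (Net.cons (nat_lit 16) (nat_lit 0x700007fdc00002afc00005ba40000210f000043f300000ac000002400000010b0) (Net.cons (nat_lit 32) (nat_lit 0x7b1ca3b00000000948362ce000000004a4d6254000000000008100f) (Net.cons (nat_lit 64) (nat_lit 0x811868508aa0d4d6000000000000000000000000000b0341) (Net.cons (nat_lit 128) (nat_lit 0xe22ec95fd4381ebc757326030b9524b6) (Net.cons (nat_lit 256) (nat_lit 997375) (Net.cons (nat_lit 128) (nat_lit 845694) (Net.cons (nat_lit 64) (nat_lit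 0x64b4b8f8a981fc65000000000000000002b6be2aabfc81d7) (Net.cons (nat_lit 32) (nat_lit 0x38ee05b4000000001766318f00000000bc6bdf19000000007ab25423) (Net.cons (nat_lit 16) (nat_lit 0xc000009300000da7900005ae90000985a00005bf100001e7d0000cbc80000f6d6) (Net.cons (nat_lit 8) (nat_lit 0x32006f00af006900c500d200e7004e00910086005c003e002b00f900f8000100f1) (Net.cons (nat_lit 4) (nat_lit 0x20e040f09020103030a000f0c060d02010e0e020f0d0a00000e000c0e060d0c010a) (Net.cons (nat_lit 2) (nat_lit 0x212032121102003300100110031133333322002220002121310123030021023032203) (Net.cons (nat_lit 1) (nat_lit 0x115044541450500550504101440550114515054500004140111514405400145111445) Net.nil)))))))))))))))))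

theorem g126_ok : Net.ok 276 g126 = true := by decide +kernel

noncomputable def g127 : Net := (Net.cons (nat_lit 1) (nat_lit 0x414500410451154401040400140555015041441545140145511440041415145001510) (Net.cons (nat_lit 2) (nat_lit 0x23222200300110132123203322132200031201002320302110310012211303103000) (Net.cons (nat_lit 4) (nat_lit 0xc0609080c0c07080f03090500030d0d060105030c01010c0b0308080e0e0b070500) (Net.cons (nat_lit 8) (nat_lit 0x7a00ac00b8001900f4009300ff0078005600ee00150049006000a2006800c50002) (Net.cons (nat_lit 16) (nat_lit 0x30ba0000c2dd00002ca900002c1d0000b0100000e88d0000187200001080) (Net.cons (nat_lit 32) (nat_lit 0x2c3ca92100000000123c90bd0000000008199f3400000000000a4808) (Net.cons (nat_lit 64) (nat_lit 0xe42800502200260000000000000000000000000003ac84) (Net.cons (nat_lit 128) (nat_lit 0x3a01078fe873bc4cfde67aa2920ad125) (Net.cons (nat_lit 256) (nat_lit 0xffdbf) (Net.cons (nat_lit 128) (nat_lit 253814) (Net.cons (nat_lit 64) (nat_lit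 0x1af9c9a6b4e03abd000000000000000056319f682fca9c98) (Net.cons (nat_lit 32) (nat_lit 0x10f8b18c00000000f17b79b9000000004a8000de00000000758cc09d) (Net.cons (nat_lit 16) (nat_lit 0x100003d4a00007e7b00001ba600007e17000007a70000f383000007ee0000d486) (Net.cons (nat_lit 8) (nat_lit 0x9500f600ac00e10038009500f4007c00d0005b001a00300052004e00d5004000d1) (Net.cons (nat_lit 4) (nat_lit 0xc030d0d0602070b0704030b080f0f0906070600060f0a0b0d0a030d0105000a0f09) (Net.cons (nat_lit 2) (nat_lit 0x11232230111100300033000303023022033131000232301033321200231123232012) (Net.cons (nat_lit 1) (nat_lit 0x415110054010051401550440540444055000015404441144510155554115545405050) Net.nil)))))))))))))))))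

theorem g127_ok : Net.ok 276 g127 = true := by decide +kernel

noncomputable def ht_c2_K : List Net := [g124, g125, g126, g127, n_k3, n_t]

theorem ht_c2_K_ok : okE 276 ht_c2_K = true := (okE_cons.2 ⟨g124_ok, (okE_cons.2 ⟨g125_ok, (okE_cons.2 ⟨g126_ok, (okE_cons.2 ⟨g127_ok, (okE_cons.2 ⟨n_k3_ok, (okE_cons.2 ⟨n_t_ok, (okE_nil 276)⟩)⟩)⟩)⟩)⟩)⟩)

noncomputable def g129 : Net := (Net.cons (nat_lit 1) (nat_lit 0x15140114004014104411545040540150144554155001505440055154014155001504) (Net.cons (nat_lit 2) (nat_lit 0x13321322010332323310100320003011032302200020223301201111102320013320) (Net.cons (nat_lit 4) (nat_lit 0xe00010a06000f0e070f02070c07070f0a0b05090302020e030c0d0b0403020d0604) (Net.cons (nat_lit 8) (nat_lit 0xdb00240013000000a600f200510017004800e00023000400bc0010005500660002) (Net.cons (nat_lit 16) (nat_lit 0x40000081e0000d34900006c640000167b000066bb0000c3cc00001900000032a0) (Net.cons (nat_lit 32) (nat_lit 0xc3c0f6990000000078908d5c00000000a1620873000000000000f398)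 (Net.cons (nat_lit 64) (nat_lit 0x59954d80a4423239000000000000000000000000000c13b2) (Net.cons (nat_lit 128) (nat_lit 0x55d3bbd134bfbfcdec0646fb7a04b35) (Net.cons (nat_lit 256) (nat_lit 981951) (Net.cons (nat_lit 128) (nat_lit 116597) (Net.cons (nat_lit 64) (nat_lit 0xa283d179b6a25f80000000000000000af55cca04aaaebf7) (Net.cons (nat_lit 32) (nat_lit 0x573bfb6700000000ad7050a000000000c0800722000000000a3c7dbc) (Net.cons (nat_lit 16) (nat_lit 0xc00004aa600006a590000c2200000467c0000182c00006b6400008fc50000a846) (Net.cons (nat_lit 8) (nat_lit 0x1000f400c500a00075005a00a9005e003d00fd0087001f00be0088000c005000e3) (Net.cons (nat_lit 4) (nat_lit 0x10006000004060b0e050f030d0d06060e040c0b0e0c0e000a0e0c0b0c080d0b0d00) (Net.cons (nat_lit 2) (nat_lit 0x11231103222102331332031201101110232302112010013033330013032321322020) (Net.cons (nat_lit 1) (nat_lit 0x441145550454454555004511450050505015450405010154115011014110410011500) Net.nil)))))))))))))))))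

theorem g129_ok : Net.ok 276 g129 = true := by decide +kernel

noncomputable def g130 : Net := (Net.cons (nat_lit 1) (nat_lit 0x44451014044545041511544414511014114144454040455115504404105110054000) (Net.cons (nat_lit 2) (nat_lit 0x213322233011103232302000030102321120233103111223123003323003000213120) (Net.cons (nat_lit 4) (nat_lit 0xf04010c050f0509050400010b070909090c0c050b0903090b0c0c0c050b010d0c04) (Net.cons (nat_lit 8) (nat_lit 0xb000d200bd00ab00810048002b000e003d004400a800b2008b009800c000490000) (Net.cons (nat_lit 16) (nat_lit 0xf000005140000f9fa000058040000c72a000058480000fdda0000888000000520) (Net.cons (nat_lit 32) (nat_lit 0x3470c0360000000086a0912600000000d9545603000000000005011c) (Net.cons (nat_lit 64) (nat_lit 0x5f1648bd0002723000000000000000000000000000000a0a) (Net.cons (nat_lit 128) (nat_lit 0x173f561a73c99b84c8692ce54be3143c) (Net.cons (nat_lit 256) (nat_lit 499582) (Net.cons (nat_lit 128) (nat_lit 222535) (Net.cons (nat_lit 64) (nat_lit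 0x5ba7719c0248afbd0000000000000000af3d4b68328a9d7b) (Net.cons (nat_lit 32) (nat_lit 0xc2c8fd4800000000c8489c3b00000000eab5713e00000000c2bceabc) (Net.cons (nat_lit 16) (nat_lit 0x9000077870000b35900001bee00009fc90000f12a0000016a000081610000fe25) (Net.cons (nat_lit 8) (nat_lit 0x4002200650080000f004000aa002c00e0002c008b0000008a0016008c00e9002b) (Net.cons (nat_lit 4) (nat_lit 0x70603010c09090a040704000605020200080d00030b0609030004080606060a040a) (Net.cons (nat_lit 2) (nat_lit 0x1130003313021032122030331033302230332011021121322302003132210111021) (Net.cons (nat_lit 1) (nat_lit 0x414514100514004541501545414054045540500415500551444151045415005104040) Net.nil)))))))))))))))))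

theorem g130_ok : Net.ok 276 g130 = true := by decide +kernel

noncomputable def g131 : Net := (Net.cons (nat_lit 1) (nat_lit 0x451550100545454011145514510155154110551101101501110501405041140511004) (Net.cons (nat_lit 2) (nat_lit 0x102012313310123330321230321021131213101220312203232103011322210111300) (Net.cons (nat_lit 4) (nat_lit 0x4080f0107050b00050402000e010f0b040f06080d0205080c01040a020b06080f00) (Net.cons (nat_lit 8) (nat_lit 0xbb00eb004b00c0003e00d000be003800dd009500c8004400590025002200300001) (Net.cons (nat_lit 16) (nat_lit 0x80000046e000090500000342c0000ca080000111d0000218b0000200c000000c0) (Net.cons (nat_lit 32) (nat_lit 0x44c80a360000000018912a0100000000308445e80000000000038900) (Net.cons (nat_lit 64) (nat_lit 0x912200188025574b00000000000000000000000000024924) (Net.cons (nat_lit 128) (nat_lit 0x8dc345f3801e4927563dbca93131446a) (Net.cons (nat_lit 256) (nat_lit 261614) (Net.cons (nat_lit 128) (nat_lit 546528) (Net.cons (nat_lit 64)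 (nat_lit 0xefab448542740cf0000000000000000202ec60d59de8665) (Net.cons (nat_lit 32) (nat_lit 0xca447abb0000000073ddbf5300000000a10886f200000000cb351e0f) (Net.cons (nat_lit 16) (nat_lit 0x8000058cc0000f71300007759000039df0000bd18000026890000262400000a69) (Net.cons (nat_lit 8) (nat_lit 0xd500c2002200db00cf00fd00c300200040008400d7007d00230005002100b300e4) (Net.cons (nat_lit 4) (nat_lit 0x500020003070c0005000608030a070e070d0f0f0c07040e08050e000a010e0c0e08) (Net.cons (nat_lit 2) (nat_lit 0x320033010110322332201212022220002233103120322000010102013202231130220) (Net.cons (nat_lit 1) (nat_lit 0x455411054405554050045545441501501540515510110401440551545400504111141) Net.nil)))))))))))))))))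

theorem g131_ok : Net.ok 276 g131 = true := by decide +kernel

noncomputable def V132 : List Net := [g129, g130, g131, n_t]

theorem V132_ok : okE 276 V132 = true := (okE_cons.2 ⟨g129_ok, (okE_cons.2 ⟨g130_ok, (okE_cons.2 ⟨g131_ok, (okE_cons.2 ⟨n_t_ok, (okE_nil 276)⟩)⟩)⟩)⟩)

noncomputable def V134 : List Net := [g130, g131, n_t]

theorem V134_ok : okE 276 V134 = true := (okE_cons.2 ⟨g130_ok, (okE_cons.2 ⟨g131_ok, (okE_cons.2 ⟨n_t_ok, (okE_nil 276)⟩)⟩)⟩)

noncomputable def V135 : List Net := [g131, n_t]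

theorem V135_ok : okE 276 V135 = true := (okE_cons.2 ⟨g131_ok, (okE_cons.2 ⟨n_t_ok, (okE_nil 276)⟩)⟩)

noncomputable def V136 : List Net := [n_t]

theorem V136_ok : okE 276 V136 = true := (okE_cons.2 ⟨n_t_ok, (okE_nil 276)⟩)

noncomputable def V137 : List Net := []

theorem V137_ok : okE 276 V137 = true := (okE_nil 276)

noncomputable def ht_c2_cnt_EG : List Net := [g36, g37, g38, g39, g40, g41, g42, g35, g129, g130, g131, n_t]

theorem ht_c2_cnt_EG_ok : okE 276 ht_c2_cnt_EG = true := (okE_cons.2 ⟨g36_ok, (okE_cons.2 ⟨g37_ok, (okE_cons.2 ⟨g38_ok, (okE_cons.2 ⟨g39_ok, (okE_cons.2 ⟨g40_ok, (okE_cons.2 ⟨g41_ok, (okE_cons.2 ⟨g42_ok, (okE_cons.2 ⟨g35_ok, (okE_cons.2 ⟨g129_ok, (okE_cons.2 ⟨g130_ok, (okE_cons.2 ⟨g131_ok, (okE_cons.2 ⟨n_t_ok, (okE_nil 276)⟩)⟩)⟩)⟩)⟩)⟩)⟩)⟩)⟩)⟩)⟩)⟩)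

noncomputable def g138 : Net := (Net.cons (nat_lit 1) (nat_lit 0x14150100400145050054450111044154114114515504050011405515554014500450) (Net.cons (nat_lit 2) (nat_lit 0x111312220331101130102232102322101121300011121332303312120012231300100) (Net.cons (nat_lit 4) (nat_lit 0xf0d0c0f000c07070a0d0105060e0b0707060f040906000d06050a0d000f020b0004) (Net.cons (nat_lit 8) (nat_lit 0xaf0096001e0037002b0071009b006b00b800ef009800840031000300c000510000) (Net.cons (nat_lit 16) (nat_lit 0xc0000512f000001130000bf96000010910000ef72000042020000127900000380) (Net.cons (nat_lit 32) (nat_lit 0xcd840b00000000b4cd01c000000000e78ecefe000000000005804b) (Net.cons (nat_lit 64) (nat_lit 0x850a2268040066900000000000000000000000000038239) (Net.cons (nat_lit 128) (nat_lit 0x645a019a98f323ac3a0da26c648b00c0) (Net.cons (nat_lit 256) (nat_lit 0xfb7fb) (Net.cons (nat_lit 128) (nat_lit 230529) (Net.cons (nat_lit 64) (nat_lit 0x80ada19e3151687e000000000000000000599490ef17c962) (Net.cons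 (nat_lit 32) (nat_lit 0x74bf4b2700000000da8be061000000009b08e17a000000001544ca5b) (Net.cons (nat_lit 16) (nat_lit 0x800005d3c000080800000c3af0000f4d900004abc000039470000146400004bca) (Net.cons (nat_lit 8) (nat_lit 0xb000460008009300cc006a00a60067004f0017009200ab00cf000600fe00340025) (Net.cons (nat_lit 4) (nat_lit 0xd08060e020701040905020c0e0d030b030f060b06020f08080a0a0904010f070701) (Net.cons (nat_lit 2) (nat_lit 0x11303332132130002301212303323120120223200221031313303120331030201122) (Net.cons (nat_lit 1) (nat_lit 0x45114401000511404044150514044104154454110444504044115554445051015410) Net.nil)))))))))))))))))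

theorem g138_ok : Net.ok 276 g138 = true := by decide +kernel

noncomputable def g139 : Net := (Net.cons (nat_lit 1) (nat_lit 0x150010445045011405104545015104445111414041445010145450054554051451504) (Net.cons (nat_lit 2) (nat_lit 0x13123122333203102312223122113100220221010013100232201200031123023120) (Net.cons (nat_lit 4) (nat_lit 0xb07010a04090a060403020807000d0305050005060f02050f0e0f0c0f0402010f00) (Net.cons (nat_lit 8) (nat_lit 0x4a0099000b00a4007c00ad00890092009f00ed00d400c400c500c00009003e0000) (Net.cons (nat_lit 16) (nat_lit 0x90000afb40000349a00002c8d000028510000f27800003d540000208c00008000) (Net.cons (nat_lit 32) (nat_lit 0x8b29243b00000000c7180f82000000004484ea800000000000001020) (Net.cons (nat_lit 64) (nat_lit 0x8872760321a7415000000000000000000000000000d4782) (Net.cons (nat_lit 128) (nat_lit 0x94bea762544c801c98219815ef3c24b9) (Net.cons (nat_lit 256) (nat_lit 917435) (Net.cons (nat_lit 128) (nat_lit 0xf7042) (Net.cons (nat_lit 64) (nat_lit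 0xaf9e32866a389c8a00000000000000000a8a23e0a96c7d75) (Net.cons (nat_lit 32) (nat_lit 0xbe0faee90000000007724e6f00000000ef9c0e69000000006bd8cb65) (Net.cons (nat_lit 16) (nat_lit 0xc0000ecf200006d1a0000a137000045f100003e7d0000c1a00000510d00001264) (Net.cons (nat_lit 8) (nat_lit 0x3900f600a7007700e1001100d400b600280003004c00b0008600da007d00510092) (Net.cons (nat_lit 4) (nat_lit 0xf0d0d00070b060d050a0e07070c050b0e0d070d020c080e0904080b0d0f090d0f0d) (Net.cons (nat_lit 2) (nat_lit 0x13112213113131100111331130320023200133230022110022212310013312120320) (Net.cons (nat_lit 1) (nat_lit 0x540445551415540410040545105045414001100414500051411441454544451110140) Net.nil)))))))))))))))))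

theorem g139_ok : Net.ok 276 g139 = true := by decide +kernel

noncomputable def g140 : Net := (Net.cons (nat_lit 1) (nat_lit 0x505145451501544541010514454115545051050145551104554104501144044440050) (Net.cons (nat_lit 2) (nat_lit 0x212102021313303121131330201223330332010001011031121300203021202220000) (Net.cons (nat_lit 4) (nat_lit 0xb0900070e0c0f0f01000d060301000e0f0301080209040906040c070d0804050802) (Net.cons (nat_lit 8) (nat_lit 0x4e00a00037001f003600b600ed00b700810016009500b500130063000800040005) (Net.cons (nat_lit 16) (nat_lit 0x661b000066520000933f0000d53f000020ac000010cd0000980400000000) (Net.cons (nat_lit 32) (nat_lit 0x424d29d1000000007051bc2b000000000a243be00000000000003c74) (Net.cons (nat_lit 64) (nat_lit 0x901520a13884096100000000000000000000000000066935) (Net.cons (nat_lit 128) (nat_lit 0x1ca0f1a3f2fc6ba180bdc40008521969) (Net.cons (nat_lit 256) (nat_lit 425853) (Net.cons (nat_lit 128) (nat_lit 575911) (Net.cons (nat_lit 64) (nat_lit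 0x861ddf43f46f1cb1000000000000000096ef8edde58a38b4) (Net.cons (nat_lit 32) (nat_lit 0x45bdbeeb00000000f20c54fb00000000974c605000000000a2189696) (Net.cons (nat_lit 16) (nat_lit 0x10000277e000096e70000f21a00006d1b000076db0000e84e00001a770000e0c0) (Net.cons (nat_lit 8) (nat_lit 0x2300ec00b8009a0031001300a9009700970035001b001d00290075002a000b008d) (Net.cons (nat_lit 4) (nat_lit 0xf0f010f0b0c0400020f0e0f0d000e0f07070c0c0a0e060503050d0b090a0e020601) (Net.cons (nat_lit 2) (nat_lit 0x303103022033120322021320223221220010121030000221012333100021001200211) (Net.cons (nat_lit 1) (nat_lit 0x101150515151410501450551445115144415004410540411504105500554140554111) Net.nil)))))))))))))))))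

theorem g140_ok : Net.ok 276 g140 = true := by decide +kernel

noncomputable def g141 : Net := (Net.cons (nat_lit 1) (nat_lit 0x110400144140401150055140115451510044451544550455101015010551100504104) (Net.cons (nat_lit 2) (nat_lit 0x321012031123123001221002012213232202130203011220211021221101222010010) (Net.cons (nat_lit 4) (nat_lit 0x60707080002060f0f0d010f09040f00060a00050c00030a01060b090f0807040200) (Net.cons (nat_lit 8) (nat_lit 0x100007006e001900bf002600ac0043002f00830016000700350001004400760007) (Net.cons (nat_lit 16) (nat_lit 0x9000072c6000049b200009b4300006032000068960000044c0000ba0c00000750) (Net.cons (nat_lit 32) (nat_lit 0xf9a4f48700000000128e1d2d000000009544b0c60000000000000af1) (Net.cons (nat_lit 64) (nat_lit 0x7198052002849410000000000000000000000000002c2c6) (Net.cons (nat_lit 128) (nat_lit 0x3c089ab700eb6c624db1ffdf9716405) (Net.cons (nat_lit 256) (nat_lit 0xfeff7) (Net.cons (nat_lit 128) (nat_lit 133511) (Net.cons (nat_lit 64) (nat_lit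 0x52c9a7d5ceace3d40000000000000000d8ff555814f1a9c9) (Net.cons (nat_lit 32) (nat_lit 0xfc9b80df00000000e8969bdc00000000751bd5df000000001d18e36a) (Net.cons (nat_lit 16) (nat_lit 0xc00009e3e0000a88c000005890000562500004c5f00004ff800003e6b0000887f) (Net.cons (nat_lit 8) (nat_lit 0x54004e003600d4008800eb00880068006500ff00bd00d900d40038007a007f0081) (Net.cons (nat_lit 4) (nat_lit 0xd0b02000b0a030f0d0a000a0c0a0f000f0a0a08010c0704030a09090f080c060402) (Net.cons (nat_lit 2) (nat_lit 0x220333310113110231103131130232330212210221303221310122230030021332333) (Net.cons (nat_lit 1) (nat_lit 0x110015445051040454414115544141411440045410054444415441411000101154555) Net.nil)))))))))))))))))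

theorem g141_ok : Net.ok 276 g141 = true := by decide +kernel

noncomputable def g142 : Net := (Net.cons (nat_lit 1) (nat_lit 0x55511045015450514410105441451155511054051555410045401141000505155404) (Net.cons (nat_lit 2) (nat_lit 0x22020200100201301102031132310022320101301123203031101111330320300120) (Net.cons (nat_lit 4) (nat_lit 0xe04050c090d0d090b000a00010b0a07000a050a0e00040b06050507050e0a050202) (Net.cons (nat_lit 8) (nat_lit 0x3500e1000000ef00fe009100b700900049006e0023003900ee000000f1000c0000) (Net.cons (nat_lit 16) (nat_lit 0x20000308400000e9200007d2a00006e2e000075c500006b270000214100002020) (Net.cons (nat_lit 32) (nat_lit 0xc6fc81f8000000008fd1e128000000002889a30e0000000000024126) (Net.cons (nat_lit 64) (nat_lit 0xc14296180571a2000000000000000000000000000c4c04) (Net.cons (nat_lit 128) (nat_lit 0xdc1bdafc0f8491ee19516c05107c02) (Net.cons (nat_lit 256) (nat_lit 949542) (Net.cons (nat_lit 128) (nat_lit 1889) (Net.cons (nat_lit 64) (nat_lit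 0xe3ce322b9cebfd89000000000000000097512207808dd07e) (Net.cons (nat_lit 32) (nat_lit 0x4feca4f700000000e2d8d0a000000000cb683557000000009d83e96a) (Net.cons (nat_lit 16) (nat_lit 0x600002b3f00002f27000055e40000bcea0000bb890000166a00009c42000021e6) (Net.cons (nat_lit 8) (nat_lit 0x1a00cd002800b6006c00b1005d00a100c000fb0062003e00af00a300f000c7007d) (Net.cons (nat_lit 4) (nat_lit 0x7060b0f000f0604060a0e0906010e040c0204020f09000e0309000605060d04030f) (Net.cons (nat_lit 2) (nat_lit 0x32021323123231001130010211130113110101311111130101232010331312020021) (Net.cons (nat_lit 1) (nat_lit 0x44404410054510410051145040540014545510514545404401541400411140544501) Net.nil)))))))))))))))))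

theorem g142_ok : Net.ok 276 g142 = true := by decide +kernel

noncomputable def ht_c3_K : List Net := [g138, g139, g40, g140, g141, g142, n_t]

theorem ht_c3_K_ok : okE 276 ht_c3_K = true := (okE_cons.2 ⟨g138_ok, (okE_cons.2 ⟨g139_ok, (okE_cons.2 ⟨g40_ok, (okE_cons.2 ⟨g140_ok, (okE_cons.2 ⟨g141_ok, (okE_cons.2 ⟨g142_ok, (okE_cons.2 ⟨n_t_ok, (okE_nil 276)⟩)⟩)⟩)⟩)⟩)⟩)⟩)

noncomputable def g144 : Net := (Net.cons (nat_lit 1) (nat_lit 0x40500011441505450105000145414411511145401554540110005110004145404000) (Net.cons (nat_lit 2) (nat_lit 0x22032203202103003112020333102213212032110010323103321200112220000000) (Net.cons (nat_lit 4) (nat_lit 0x70b03050004000a07080c0602090104040c070f000d0502090002050c040c000502) (Net.cons (nat_lit 8) (nat_lit 0x220015004d00520056001900150077006b003c00e8000c001f0040001a008c000a) (Net.cons (nat_lit 16) (nat_lit 0xb0000500700000ef100008e0d000043ea0000e9c2000095e20000122400007400) (Net.cons (nat_lit 32) (nat_lit 0x27132611000000004d86475100000000961015400000000000017200)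 (Net.cons (nat_lit 64) (nat_lit 0x863a1008212e38e800000000000000000000000000001020) (Net.cons (nat_lit 128) (nat_lit 0x1c027b9c589020619338a64469a236de) (Net.cons (nat_lit 256) (nat_lit 227326) (Net.cons (nat_lit 128) (nat_lit 977886) (Net.cons (nat_lit 64) (nat_lit 0xb3ba211d282b2de8000000000000000029c96c429e0609e1) (Net.cons (nat_lit 32) (nat_lit 0x6f766631000000004d9f2a1500000000d200f8050000000054612e4d) (Net.cons (nat_lit 16) (nat_lit 0xb00000c170000c2f700009a6d000007ee0000a1b30000c1ff0000422400006801) (Net.cons (nat_lit 8) (nat_lit 0x26000d004d00470053005d00170036006a002400a9000c001b004a005a008d004e) (Net.cons (nat_lit 4) (nat_lit 0x20b06040005000b070b0c03060d0d000409060b050803070c020701080709040006) (Net.cons (nat_lit 2) (nat_lit 0x22032213213103003113020332102212312032111010323103321200112220010000) (Net.cons (nat_lit 1) (nat_lit 0x40500011441505450105000145414411511145401554540110005110004145404000) Net.nil)))))))))))))))))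

theorem g144_ok : Net.ok 276 g144 = true := by decide +kernel

noncomputable def V145 : List Net := [g144, n_t]

theorem V145_ok : okE 276 V145 = true := (okE_cons.2 ⟨g144_ok, (okE_cons.2 ⟨n_t_ok, (okE_nil 276)⟩)⟩)

noncomputable def V147 : List Net := []

theorem V147_ok : okE 276 V147 = true := (okE_nil 276)

noncomputable def ht_c3_cnt_EG : List Net := [g36, g37, g38, g39, g40, g41, g42, g35, g144, n_t]

theorem ht_c3_cnt_EG_ok : okE 276 ht_c3_cnt_EG = true := (okE_cons.2 ⟨g36_ok, (okE_cons.2 ⟨g37_ok, (okE_cons.2 ⟨g38_ok, (okE_cons.2 ⟨g39_ok, (okE_cons.2 ⟨g40_ok, (okE_cons.2 ⟨g41_ok, (okE_cons.2 ⟨g42_ok, (okE_cons.2 ⟨g35_ok, (okE_cons.2 ⟨g144_ok, (okE_cons.2 ⟨n_t_ok, (okE_nil 276)⟩)⟩)⟩)⟩)⟩)⟩)⟩)⟩)⟩)⟩)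

noncomputable def g148 : Net := (Net.cons (nat_lit 1) (nat_lit 0x1505141414444415441405155140111000405000101055144105541104511145544) (Net.cons (nat_lit 2) (nat_lit 0x111010012201313001231120133123112000011331321123102300112103003010100) (Net.cons (nat_lit 4) (nat_lit 0x9020a070103080a0b0000040a0803070603000203080b0f0e0706080a0008020304) (Net.cons (nat_lit 8) (nat_lit 0xeb0068000b006200f5006d00e3000100f90006008800a2001000ac006600c00008) (Net.cons (nat_lit 16) (nat_lit 0x50000a9ca00002561000086e500002a850000ddec00001665000060c400005080) (Net.cons (nat_lit 32) (nat_lit 0xd9d57f000000000780bd30b0000000054a93c3200000000000264d0) (Net.cons (nat_lit 64) (nat_lit 0x800e040445b01c3c000000000000000000000000000a188f) (Net.cons (nat_lit 128) (nat_lit 0x46ef2dcd985f6272820088b97faa2491) (Net.cons (nat_lit 256) (nat_lit 753119) (Net.cons (nat_lit 128) (nat_lit 743774) (Net.cons (nat_lit 64) (nat_lit 0x542bb16477a05feb00000000000000009d7163d52e5c722e) (Net.cons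 (nat_lit 32) (nat_lit 0x93a5e8ef00000000590099870000000079586fc600000000ebc0355b) (Net.cons (nat_lit 16) (nat_lit 0x70000c9100000974a0000d0040000800900001f4f0000b2f80000952f0000821b) (Net.cons (nat_lit 8) (nat_lit 0xb40060005100bd0071002f00250044004500dc00e800c900d900b4003700d000ab) (Net.cons (nat_lit 4) (nat_lit 0x2070f0a0704080f0a0e0e070d0d0c03010b0d000309070f050e060500000c000c02) (Net.cons (nat_lit 2) (nat_lit 0x1131113000321010301233031231102110200012320332231131213102013001333) (Net.cons (nat_lit 1) (nat_lit 0x55445104404000555510010140145515554544145105504414001001504114141015) Net.nil)))))))))))))))))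

theorem g148_ok : Net.ok 276 g148 = true := by decide +kernel

noncomputable def g149 : Net := (Net.cons (nat_lit 1) (nat_lit 0x440054110555540140011145441401050504040151050015505514110144104150440) (Net.cons (nat_lit 2) (nat_lit 0x323311310020021303322101033012231323012210312020123222231300232110120) (Net.cons (nat_lit 4) (nat_lit 0xa0c0c040b020d080f0b0505090d000a030d030004050b0b09000305040d04000402) (Net.cons (nat_lit 8) (nat_lit 0x1500a400bc000100b4008b007e007e000a00ac0051001c00380078004f00c80003) (Net.cons (nat_lit 16) (nat_lit 0x20000b3d300001366000058d1000025f10000e861000096400000160000003840) (Net.cons (nat_lit 32) (nat_lit 0x5a24721100000000e021f5cd000000002820f848000000000001ca0b) (Net.cons (nat_lit 64) (nat_lit 0x20480122e2005f4100000000000000000000000000096130) (Net.cons (nat_lit 128) (nat_lit 0x127d8ae0b8ca373bf2a601465b5d3758) (Net.cons (nat_lit 256) (nat_lit 0xfff7b) (Net.cons (nat_lit 128) (nat_lit 946040) (Net.cons (nat_lit 64)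 (nat_lit 0xc2610c44c602b7980000000000000000b2b4b463cb6c2f4d) (Net.cons (nat_lit 32) (nat_lit 0xe85ad25c000000007ac84bf4000000005634b28a000000006664d9aa) (Net.cons (nat_lit 16) (nat_lit 0x40000ced20000f2b700006e010000596d00009b8e0000723700002a8600009780) (Net.cons (nat_lit 8) (nat_lit 0xe700f800150022001c0043006b003b002c00a7005200e0001b007c008800ac008d) (Net.cons (nat_lit 4) (nat_lit 0x40e010a0c0e0607040604090b050b0208010b00010d0b0a0a0f010e0b0a01090b06) (Net.cons (nat_lit 2) (nat_lit 0x133020322013110332330021303332231211002323021231331000330031230330312) (Net.cons (nat_lit 1) (nat_lit 0x44104451001440144014054111040500155015555551141445410100101445110511) Net.nil)))))))))))))))))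

theorem g149_ok : Net.ok 276 g149 = true := by decide +kernel

noncomputable def g150 : Net := (Net.cons (nat_lit 1) (nat_lit 0x404110555110111005511404155015044545115450114445145445444410404014440) (Net.cons (nat_lit 2) (nat_lit 0x130311031201223213223130332333010113103121121310020312213303223302000) (Net.cons (nat_lit 4) (nat_lit 0x703020d050f05050e0400020a0400040d06040609000d010a03050600080a020703) (Net.cons (nat_lit 8) (nat_lit 0xcf00c9003d008b000d00f1000100c8004e00020083002c001300f70072000d0001) (Net.cons (nat_lit 16) (nat_lit 0x40000493a000050700000065300003f200000e2c300006c2c000024f200005060) (Net.cons (nat_lit 32) (nat_lit 0xeb6c48dc00000000d63552600000000001483363000000000004c020) (Net.cons (nat_lit 64) (nat_lit 0x200a1106a41e2a2000000000000000000000000000013e01) (Net.cons (nat_lit 128) (nat_lit 0xab3e5a6bad4711918e64ef355bd21242) (Net.cons (nat_lit 256) (nat_lit 0xffe77) (Net.cons (nat_lit 128) (nat_lit 751674) (Net.cons (nat_lit 64)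 (nat_lit 0x652ff0201265785d0000000000000000aba67d48f0972801) (Net.cons (nat_lit 32) (nat_lit 0xe7f0c6b0000000002f262a3b00000000a13b69d50000000050ca6dd3) (Net.cons (nat_lit 16) (nat_lit 0xe0000fac80000b5ff000052e90000279b0000584000008e4a0000d44300000611) (Net.cons (nat_lit 8) (nat_lit 0x53006a002b00f700150021004300d10025008400ee00ec004600cb00f9007e0059) (Net.cons (nat_lit 4) (nat_lit 0xc0b020c000a0d060c030d0b0d090f01050b07070c03080e0408050e000f070b0a05) (Net.cons (nat_lit 2) (nat_lit 0x103102303233321003322130121100000221232032000301023213000023312021230) (Net.cons (nat_lit 1) (nat_lit 0x545141450555010105401105454111514514111455054144155401055011054054100) Net.nil)))))))))))))))))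

theorem g150_ok : Net.ok 276 g150 = true := by decide +kernel

noncomputable def g151 : Net := (Net.cons (nat_lit 1) (nat_lit 0x44440105014055514010400504554451015045555554111000010154544004415000) (Net.cons (nat_lit 2) (nat_lit 0x331302021132022302011003133033123000012132320110121232113103220310000) (Net.cons (nat_lit 4) (nat_lit 0xe00010405070e020e0507080a0e0c0d030b0c0506010f07030a0e0701070a0b0e04) (Net.cons (nat_lit 8) (nat_lit 0x490081000800d1005a003b001100d5007b00440009005500080084005d000a0003) (Net.cons (nat_lit 16) (nat_lit 0x4000053e600000068000054c400001ca5000081970000812c0000a60c0000e690) (Net.cons (nat_lit 32) (nat_lit 0x129a9a850000000001d8e714000000000026c2b0000000000002bf55) (Net.cons (nat_lit 64) (nat_lit 0xa954b65888695980000000000000000000000000000b0d11) (Net.cons (nat_lit 128) (nat_lit 0x9ac727cf80684820613090305989db94) (Net.cons (nat_lit 256) (nat_lit 0xfffd7) (Net.cons (nat_lit 128) (nat_lit 808992) (Net.cons (nat_lit 64)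 (nat_lit 0xd49d7189d4857220000000000000000a5f5574c781c972c) (Net.cons (nat_lit 32) (nat_lit 0x61a193d100000000d4b0004b00000000a375c5d600000000c492a86f) (Net.cons (nat_lit 16) (nat_lit 0x300006a780000ca740000959b00003c310000e1a10000e21f0000d7590000fe96) (Net.cons (nat_lit 8) (nat_lit 0xca004b005900b800cd005c0020001e00e200d00063005b002600b00008000700df) (Net.cons (nat_lit 4) (nat_lit 0x10406070309030e040702010b080d080f0f010b010a0305090b0a01050a030e06) (Net.cons (nat_lit 2) (nat_lit 0x33320033112002222033302033013033303200021202300121331210112300313221) (Net.cons (nat_lit 1) (nat_lit 0x510550000004455541041000551440405514541054054401515444441044150414014) Net.nil)))))))))))))))))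

theorem g151_ok : Net.ok 276 g151 = true := by decide +kernel

noncomputable def g152 : Net := (Net.cons (nat_lit 1) (nat_lit 0x440404145044550400415110400501000500504040105004504554100145141441104) (Net.cons (nat_lit 2) (nat_lit 0x120222310200122312320221200332010330311332101302101021312012021012030) (Net.cons (nat_lit 4) (nat_lit 0x509010f04090005030a070c0f04020608070006060f0908080f05030b0908000e03) (Net.cons (nat_lit 8) (nat_lit 0x2100a60089006200d0001500c8007d000f006500cb00780054001a0081001c0005) (Net.cons (nat_lit 16) (nat_lit 0x70000747c0000e6d00000caec000026880000d6e000000c13000008c000001120) (Net.cons (nat_lit 32) (nat_lit 0x808b8b590000000003428de400000000080686990000000000088603) (Net.cons (nat_lit 64) (nat_lit 0x9058082805a0c6580000000000000000000000000002981a) (Net.cons (nat_lit 128) (nat_lit 0x63845c4a4e34466ed17b80b63396ca8c) (Net.cons (nat_lit 256) (nat_lit 0xfdfff) (Net.cons (nat_lit 128) (nat_lit 549311) (Net.cons (nat_lit 64)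 (nat_lit 0x675851faa2e7f68f0000000000000000f300d6c82b49f83b) (Net.cons (nat_lit 32) (nat_lit 0xde9f673c000000003e02cb070000000024431baa00000000e94c85ad) (Net.cons (nat_lit 16) (nat_lit 0x100003cf10000fe370000a87d00002fc6000057ed00006da90000a5de0000e017) (Net.cons (nat_lit 8) (nat_lit 0x65008b00e8000f00a6005f00df005e007e00e800ca003a007400e40098006b00c9) (Net.cons (nat_lit 4) (nat_lit 0x40d020903030d09090105030f0d03060f02040a020f03070f02050b0c0203010f0f) (Net.cons (nat_lit 2) (nat_lit 0x233201313121031003222210103031033003221233031301022310201013330331331) (Net.cons (nat_lit 1) (nat_lit 0x455400455055451445144105410115004551045050100004055101051145545015110) Net.nil)))))))))))))))))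

theorem g152_ok : Net.ok 276 g152 = true := by decide +kernel

noncomputable def g153 : Net := (Net.cons (nat_lit 1) (nat_lit 0x511114051155114004144041054414115100110540541140014511405514515550140) (Net.cons (nat_lit 2) (nat_lit 0x222310332330102013021231220112210101202220030121012131030310212203110) (Net.cons (nat_lit 4) (nat_lit 0x80b080c0f0e0a060203030c0e020a0c060b0308090800070103050c080c020600) (Net.cons (nat_lit 8) (nat_lit 0x600c200b3003b00f1002d0058005100c1002300c20020006600d900f800040000) (Net.cons (nat_lit 16) (nat_lit 0xe000039bd0000603c000034bc00009139000040e20000280c00006c2e00006840) (Net.cons (nat_lit 32) (nat_lit 0xe882f77800000000dda28d5100000000448901a6000000000004f021) (Net.cons (nat_lit 64) (nat_lit 0x22d51160d24cf56000000000000000000000000000001026) (Net.cons (nat_lit 128) (nat_lit 0xad8ccbb89f7a54781751984b68964064) (Net.cons (nat_lit 256) (nat_lit 981223) (Net.cons (nat_lit 128) (nat_lit 172832) (Net.cons (nat_lit 64) (nat_lit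 0xdd79daaac853bb5b000000000000000017c85cd3fea75a2a) (Net.cons (nat_lit 32) (nat_lit 0xe3f537a8000000004c26a0610000000051800e9f00000000b49de06b) (Net.cons (nat_lit 16) (nat_lit 0x80000de3f0000a10c0000af2c000059ca0000ad6b0000a3c700003e1c00003956) (Net.cons (nat_lit 8) (nat_lit 0xa00d1001e00f8001d00a500b200770031008000ba0086004b008a007a000000ed) (Net.cons (nat_lit 4) (nat_lit 0x80801000708020b0a0c0902070e0a030a0a0f070c010b07090a01070408050e0a0c) (Net.cons (nat_lit 2) (nat_lit 0x300311133330033113323010302012112022032101102203222232112311200021030) (Net.cons (nat_lit 1) (nat_lit 0x555010545041451544144000155110000444414440550544404415101005110414501) Net.nil)))))))))))))))))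

theorem g153_ok : Net.ok 276 g153 = true := by decide +kernel

noncomputable def ht_c4_K : List Net := [g149, g150, g151, g152, g153, n_t]

theorem ht_c4_K_ok : okE 276 ht_c4_K = true := (okE_cons.2 ⟨g149_ok, (okE_cons.2 ⟨g150_ok, (okE_cons.2 ⟨g151_ok, (okE_cons.2 ⟨g152_ok, (okE_cons.2 ⟨g153_ok, (okE_cons.2 ⟨n_t_ok, (okE_nil 276)⟩)⟩)⟩)⟩)⟩)⟩)

noncomputable def g155 : Net := (Net.cons (nat_lit 1) (nat_lit 0x445104155500514541010455015415041004041054141105445040010504044414540) (Net.cons (nat_lit 2) (nat_lit 0x3122000311133231111232220312033131303233333230001033121303032032020) (Net.cons (nat_lit 4) (nat_lit 0xf0d070902090300020e04010a040304080f0f0d040c0e0a020b0204010c080e030a) (Net.cons (nat_lit 8) (nat_lit 0x9c009600bc00b4001900d2007200ca0026009b0084007100d1009c005b00840004) (Net.cons (nat_lit 16) (nat_lit 0x7000046e20000b5140000d9b80000541600008c84000065000000996900009710) (Net.cons (nat_lit 32) (nat_lit 0xa368bcf200000000a500696f00000000214d53090000000000079102)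 (Net.cons (nat_lit 64) (nat_lit 0x8c1009a530124a3100000000000000000000000000090408) (Net.cons (nat_lit 128) (nat_lit 0x1e01a7f8753404abb3781a17828a1a24) (Net.cons (nat_lit 256) (nat_lit 0xf9f7e) (Net.cons (nat_lit 128) (nat_lit 64250) (Net.cons (nat_lit 64) (nat_lit 0xa7939eb7b8df8590000000000000000061b07ae4f5cead82) (Net.cons (nat_lit 32) (nat_lit 0xe1fd8169000000007b094d9b00000000f351abda00000000e405b9a5) (Net.cons (nat_lit 16) (nat_lit 0x900009ddb0000b7950000514e000084530000cd8600005040000027cd00003af1) (Net.cons (nat_lit 8) (nat_lit 0xe900ea009a00f60079006100cd003400b8002000a300750027001f00f100830004) (Net.cons (nat_lit 4) (nat_lit 0x9040c030602080705030c020a0a040a050e020006060507080b070d000a09060d0c) (Net.cons (nat_lit 2) (nat_lit 0x202023023133010122120123001210211012023102321010211131133231131010303) (Net.cons (nat_lit 1) (nat_lit 0x11511511551001451155110444105014505151415445511441445541115044051005) Net.nil)))))))))))))))))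

theorem g155_ok : Net.ok 276 g155 = true := by decide +kernel

noncomputable def g156 : Net := (Net.cons (nat_lit 1) (nat_lit 0x441410401511551500541000444154044045445104544515501000000505401404110) (Net.cons (nat_lit 2) (nat_lit 0x110323121322301211301311312223032021333002211313330223222320003300220) (Net.cons (nat_lit 4) (nat_lit 0xe01060305000e07070e0b0b0c00090e0504060d0b00060b04040c0f05010f000d0a) (Net.cons (nat_lit 8) (nat_lit 0xb30023006500fe00170071005200c70040006800e500ae00ae00c6005500120001) (Net.cons (nat_lit 16) (nat_lit 0xb0000017400002ac30000bd0100001e34000007a000000021000010040000e410) (Net.cons (nat_lit 32) (nat_lit 0x29c6803d000000004009095300000000019202410000000000094813) (Net.cons (nat_lit 64) (nat_lit 0x110e44c82407880f000000000000000000000000000ad9d0) (Net.cons (nat_lit 128) (nat_lit 0x200452134098e7b6bf1a8cec76129d59) (Net.cons (nat_lit 256) (nat_lit 785883) (Net.cons (nat_lit 128) (nat_lit 886712) (Net.cons (nat_lit 64)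 (nat_lit 0x4faac03b447c66810000000000000000c09d34695d5adb75) (Net.cons (nat_lit 32) (nat_lit 0x26014e0f000000004f9e15ba000000004792d076000000008cf0ab70) (Net.cons (nat_lit 16) (nat_lit 0x90000d8880000fa6600000fea0000d032000037d900008a13000078220000b935) (Net.cons (nat_lit 8) (nat_lit 0xf900ea0069007500ed00fe007f00dc00da006300eb005c004c00e7008000920080) (Net.cons (nat_lit 4) (nat_lit 0xe050e0c02090c080f0a0c0e0105050f0c010a0006060802070f09050c0c020e0b08) (Net.cons (nat_lit 2) (nat_lit 0x120012233123220321210010300111223222300313131303130222111110033110133) (Net.cons (nat_lit 1) (nat_lit 0x15114150051054454450005050004154001555004455105145054011510504550554) Net.nil)))))))))))))))))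

theorem g156_ok : Net.ok 276 g156 = true := by decide +kernel

noncomputable def g157 : Net := (Net.cons (nat_lit 1) (nat_lit 0x100001144415015405501040045450150541041445545541051554054414400044410) (Net.cons (nat_lit 2) (nat_lit 0x131033032003033303210330210300330031101133321121132200303212310312000) (Net.cons (nat_lit 4) (nat_lit 0x7060d000b090e030f00090f0e0008010a0f0f0f0a080002000a03070d0b04050c00) (Net.cons (nat_lit 8) (nat_lit 0xe3000700fe009800c90033007c0011001100280037000600050015001800340008) (Net.cons (nat_lit 16) (nat_lit 0x30000bb070000f8ff0000418b0000e556000035040000ff820000c02000000500) (Net.cons (nat_lit 32) (nat_lit 0x42de8ca500000000da722158000000009e15aa8c00000000000b209c) (Net.cons (nat_lit 64) (nat_lit 0x17d020a8685b27d400000000000000000000000000046201) (Net.cons (nat_lit 128) (nat_lit 0x93cd384a2617e1116ca756ad9b9f410) (Net.cons (nat_lit 256) (nat_lit 0xff79d) (Net.cons (nat_lit 128) (nat_lit 719311) (Net.cons (nat_lit 64)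 (nat_lit 0x2e4bc41498ce4a00000000000000000a058ba09f6b874b) (Net.cons (nat_lit 32) (nat_lit 0x97cc80cd00000000272b3af200000000871ed734000000005fa92206) (Net.cons (nat_lit 16) (nat_lit 0x20000cadb00006c7f0000b8ff0000cd240000d59600001f160000185d00007799) (Net.cons (nat_lit 8) (nat_lit 0x4900e500ba00e1007d00b500d400550073006100f6001800660091008d00460006) (Net.cons (nat_lit 4) (nat_lit 0xc0c07090d030f0a020305030b0a0a0f000c090308050f01070e0a0b0b0e060a0104) (Net.cons (nat_lit 2) (nat_lit 0x33230123333101121030322233010322301212001110112020301313120223023100) (Net.cons (nat_lit 1) (nat_lit 0x500450451445005145010141451010011441441140015510445014440500004051514) Net.nil)))))))))))))))))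

theorem g157_ok : Net.ok 276 g157 = true := by decide +kernel

noncomputable def V158 : List Net := [g155, g156, g157, g130, n_t]

theorem V158_ok : okE 276 V158 = true := (okE_cons.2 ⟨g155_ok, (okE_cons.2 ⟨g156_ok, (okE_cons.2 ⟨g157_ok, (okE_cons.2 ⟨g130_ok, (okE_cons.2 ⟨n_t_ok, (okE_nil 276)⟩)⟩)⟩)⟩)⟩)

noncomputable def V160 : List Net := [g156, g157, g130, n_t]

theorem V160_ok : okE 276 V160 = true := (okE_cons.2 ⟨g156_ok, (okE_cons.2 ⟨g157_ok, (okE_cons.2 ⟨g130_ok, (okE_cons.2 ⟨n_t_ok, (okE_nil 276)⟩)⟩)⟩)⟩)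

noncomputable def V161 : List Net := [g157, g130, n_t]

theorem V161_ok : okE 276 V161 = true := (okE_cons.2 ⟨g157_ok, (okE_cons.2 ⟨g130_ok, (okE_cons.2 ⟨n_t_ok, (okE_nil 276)⟩)⟩)⟩)

noncomputable def V162 : List Net := [g130, n_t]

theorem V162_ok : okE 276 V162 = true := (okE_cons.2 ⟨g130_ok, (okE_cons.2 ⟨n_t_ok, (okE_nil 276)⟩)⟩)

noncomputable def V163 : List Net := [n_t]

theorem V163_ok : okE 276 V163 = true := (okE_cons.2 ⟨n_t_ok, (okE_nil 276)⟩)

noncomputable def V164 : List Net := []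

theorem V164_ok : okE 276 V164 = true := (okE_nil 276)

noncomputable def ht_c4_cnt_EG : List Net := [g36, g37, g38, g39, g40, g41, g42, g35, g155, g156, g157, g130, n_t]

theorem ht_c4_cnt_EG_ok : okE 276 ht_c4_cnt_EG = true := (okE_cons.2 ⟨g36_ok, (okE_cons.2 ⟨g37_ok, (okE_cons.2 ⟨g38_ok, (okE_cons.2 ⟨g39_ok, (okE_cons.2 ⟨g40_ok, (okE_cons.2 ⟨g41_ok, (okE_cons.2 ⟨g42_ok, (okE_cons.2 ⟨g35_ok, (okE_cons.2 ⟨g155_ok, (okE_cons.2 ⟨g156_ok, (okE_cons.2 ⟨g157_ok, (okE_cons.2 ⟨g130_ok, (okE_cons.2 ⟨n_t_ok, (okE_nil 276)⟩)⟩)⟩)⟩)⟩)⟩)⟩)⟩)⟩)⟩)⟩)⟩)⟩)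

noncomputable def g165 : Net := (Net.cons (nat_lit 1) (nat_lit 0x41145144010114540451111100040001040504414101111555050151454110440514) (Net.cons (nat_lit 2) (nat_lit 0x130020110012001223300300030230212223033211330022000131301310231030200) (Net.cons (nat_lit 4) (nat_lit 0xa0a0406070e090e0f0c0c0a0d040f0404070d010a0a090d020f08000d010b06000a) (Net.cons (nat_lit 8) (nat_lit 0x40068002100d10073009f0025006b002400f8001600d500f4001800130027000a) (Net.cons (nat_lit 16) (nat_lit 0xf0000ee74000049670000c4340000dd200000808100002e740000042100002350) (Net.cons (nat_lit 32) (nat_lit 0xc4a1bf360000000080369ad800000000d98bc6ab00000000000d9227) (Net.cons (nat_lit 64) (nat_lit 0x6100e3a79084b2900000000000000000000000000024096) (Net.cons (nat_lit 128) (nat_lit 0xcf847d2f5669e3c250fce255297b0559) (Net.cons (nat_lit 256) (nat_lit 0xff7ff) (Net.cons (nat_lit 128) (nat_lit 825836) (Net.cons (nat_lit 64) (nat_lit 0xf6246ae03c9493c90000000000000000a7a7c3aa0bc06594) (Net.cons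 (nat_lit 32) (nat_lit 0x2500ed1200000000fe665f6000000000fa33690a0000000056c4aa07) (Net.cons (nat_lit 16) (nat_lit 0x500003c4d0000335b0000a1a600009ffa0000f14600004c8a0000b08b00002b25) (Net.cons (nat_lit 8) (nat_lit 0xd0006d0043001d007e00f4003b007200ac005300e0004a00b3005e005b0030005f) (Net.cons (nat_lit 4) (nat_lit 0x70e000a09020305020f05000e070206090d0e080a0a0b040e0b020202000e0f0909) (Net.cons (nat_lit 2) (nat_lit 0x132310212310122132123020323320020313111310220231203031121200222210300) (Net.cons (nat_lit 1) (nat_lit 0x145055004151451001041555405504454151550515100554544044101055554044450) Net.nil)))))))))))))))))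

theorem g165_ok : Net.ok 276 g165 = true := by decide +kernel

noncomputable def g166 : Net := (Net.cons (nat_lit 1) (nat_lit 0x51145504105510551055154140040055545145055510440150155505400455151500) (Net.cons (nat_lit 2) (nat_lit 0x3011123130310123230211022321223232110213130121313230231020131123010) (Net.cons (nat_lit 4) (nat_lit 0xe030407080b0d0d030b00000e02040203000d05080f000605040804030706020205) (Net.cons (nat_lit 8) (nat_lit 0x11007b000c008d0043008e005800300039004800b900c80050000e002f00030005) (Net.cons (nat_lit 16) (nat_lit 0xc69500007c250000402c0000391c00004f4200007b28000019a000001480) (Net.cons (nat_lit 32) (nat_lit 0x22ba2250000000001ad446a4000000003a5d9e8f00000000000c0589) (Net.cons (nat_lit 64) (nat_lit 0x5a73145360941f8600000000000000000000000000009083) (Net.cons (nat_lit 128) (nat_lit 0xe07870e815a6a15517c19d1fde04694) (Net.cons (nat_lit 256) (nat_lit 843711) (Net.cons (nat_lit 128) (nat_lit 381235) (Net.cons (nat_lit 64) (nat_lit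 0xa6e17f0992a7dda5000000000000000075ef94c08716a08d) (Net.cons (nat_lit 32) (nat_lit 0x7023ca82000000006fb949a3000000009325904c000000001a45c40e) (Net.cons (nat_lit 16) (nat_lit 0xf000004c100002c19000070c700001b490000a74a0000890300003b320000ba12) (Net.cons (nat_lit 8) (nat_lit 0x8a00aa00e800dd009000b900b700a30029006500ea00ff00f2006800db002e0043) (Net.cons (nat_lit 4) (nat_lit 0xd040f010705090a000e0a030208090e010606010b01080601080b0d0001070e010f) (Net.cons (nat_lit 2) (nat_lit 0x13012001110013231110312112211233012101232120030331233103021010233130) (Net.cons (nat_lit 1) (nat_lit 0x551405144111500540540101115051051051401155054040144155110544051141101) Net.nil)))))))))))))))))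

theorem g166_ok : Net.ok 276 g166 = true := by decide +kernel

noncomputable def g167 : Net := (Net.cons (nat_lit 1) (nat_lit 0x445000154405015045004454115154551145151111155411554110045500005145040) (Net.cons (nat_lit 2) (nat_lit 0x3122323222031222010101012310003022222122331002211201310031210130300) (Net.cons (nat_lit 4) (nat_lit 0xc0a0c0f04010b0d0d0a030408070e0505000101080906080b0d0d04050903010402) (Net.cons (nat_lit 8) (nat_lit 0x820092000600520000002600850003004200d3008e00c700ca0014001300da000d) (Net.cons (nat_lit 16) (nat_lit 0x200000ea900008cd2000084e30000fd84000025500000ac090000c93200009e60) (Net.cons (nat_lit 32) (nat_lit 0x26e8542e00000000a341d0ec000000002408041b0000000000002204) (Net.cons (nat_lit 64) (nat_lit 0xc804f60f805c04400000000000000000000000000009ac98) (Net.cons (nat_lit 128) (nat_lit 0xc77b1769290f505a3e95e1c6eefa0124) (Net.cons (nat_lit 256) (nat_lit 770046) (Net.cons (nat_lit 128) (nat_lit 701586) (Net.cons (nat_lit 64) (nat_lit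 0x89931a47b41bb96000000000000000006036c35853a8cad1) (Net.cons (nat_lit 32) (nat_lit 0x20733c480000000058852ee0000000001213887400000000e91c3886) (Net.cons (nat_lit 16) (nat_lit 0xd0000d4a10000afe7000019d700005a9700009ce30000bd0e0000402a00001599) (Net.cons (nat_lit 8) (nat_lit 0x1900a600660068006f0099007c0085001e007f008700a2009c002a000600330089) (Net.cons (nat_lit 4) (nat_lit 0x30a0f01080e0b0f010b020008070f080f000b0b09070d0f030a0a0f0e0009060b05) (Net.cons (nat_lit 2) (nat_lit 0x12210123200223220331032133130323013322230333103203003130320010202321) (Net.cons (nat_lit 1) (nat_lit 0x51014410445151015001445454541510404014054155014545400114141141404440) Net.nil)))))))))))))))))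

theorem g167_ok : Net.ok 276 g167 = true := by decide +kernel

noncomputable def g168 : Net := (Net.cons (nat_lit 1) (nat_lit 0x50504501410444050004511141554450151045054541540544105554550510410410) (Net.cons (nat_lit 2) (nat_lit 0x232120032101223101213022112212300212031332210323301321121031210233000) (Net.cons (nat_lit 4) (nat_lit 0x40e0e06010e0905020d060c0302060c0407030a0b04070008010a0000080a0c0204) (Net.cons (nat_lit 8) (nat_lit 0x61009c00c6001a0001006400a0001c0062005100cc0014001000e2001800400000) (Net.cons (nat_lit 16) (nat_lit 0xa0000864a0000964800000875000074860000202e0000e0140000a50000000000) (Net.cons (nat_lit 32) (nat_lit 0x5c7b9b2900000000428c014700000000a1ca28e500000000000e2092) (Net.cons (nat_lit 64) (nat_lit 0xd490e66cd08324e100000000000000000000000000006c86) (Net.cons (nat_lit 128) (nat_lit 0xf0d5d8fbfd709b6d3f7abe2611a016e) (Net.cons (nat_lit 256) (nat_lit 949758) (Net.cons (nat_lit 128) (nat_lit 13895) (Net.cons (nat_lit 64) (nat_lit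 0x54e8b78693de23e20000000000000000fa911143115ec827) (Net.cons (nat_lit 32) (nat_lit 0x1047f37b00000000c49fd49700000000cd4c091c0000000059c30542) (Net.cons (nat_lit 16) (nat_lit 0x30000a4400000d5d20000041b000086ab00007bbc0000355c000054480000cac3) (Net.cons (nat_lit 8) (nat_lit 0xe40097008d0083006700a000370068004000c0001500700000003300ea001200b5) (Net.cons (nat_lit 4) (nat_lit 0x40b030001060d0f0105000403070c0903030d0c0200070c040c0d020d07030c070e) (Net.cons (nat_lit 2) (nat_lit 0x32123032320201131122032102111300313032000200113321132222223213320120) (Net.cons (nat_lit 1) (nat_lit 0x41100504411151401505541554514455151455545040510004104444144405505504) Net.nil)))))))))))))))))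

theorem g168_ok : Net.ok 276 g168 = true := by decide +kernel

noncomputable def g169 : Net := (Net.cons (nat_lit 1) (nat_lit 0x400005511001545500141554040510005140400444404111000104040440001044000) (Net.cons (nat_lit 2) (nat_lit 0x222010130231123331003210111113210320323010013330121012001010320102000) (Net.cons (nat_lit 4) (nat_lit 0x70306050e060902070802000f000a0a03030f080c0003040d0a0a02090801040700) (Net.cons (nat_lit 8) (nat_lit 0x6100ea00aa003000ca005e0090008800400052005400e1004a0042000a00020000) (Net.cons (nat_lit 16) (nat_lit 0x4000043650000e4c1000086620000c1420000e2000000c1d50000015000008800) (Net.cons (nat_lit 32) (nat_lit 0x2000f5d10000000030daac8d00000000611580a80000000000008881) (Net.cons (nat_lit 64) (nat_lit 0xcc607128040ca14100000000000000000000000000040284) (Net.cons (nat_lit 128) (nat_lit 0x28ec2fe9c41d8655e78454851850266d) (Net.cons (nat_lit 256) (nat_lit 306925) (Net.cons (nat_lit 128) (nat_lit 147301) (Net.cons (nat_lit 64)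 (nat_lit 0xc169f4e8132dc0e1000000000000000095438782a45c2886) (Net.cons (nat_lit 32) (nat_lit 0xa453d7eb00000000bdbb8d9700000000ef55d3b500000000844083b9) (Net.cons (nat_lit 16) (nat_lit 0x600007a570000edf20000c66b0000c06a0000ea190000c8dd0000005000008808) (Net.cons (nat_lit 8) (nat_lit 0x5900c2008f000100ca004700b8009100600072005c00e8004700430002001a0048) (Net.cons (nat_lit 4) (nat_lit 0x70306050e060903070802000f000a0a03030f080d0003050d0a0a02090901040700) (Net.cons (nat_lit 2) (nat_lit 0x222010130231123231003310111113210320323010113330121112001010320102000) (Net.cons (nat_lit 1) (nat_lit 0x400005515001545500141554040511005140400444404111000104040440001044000) Net.nil)))))))))))))))))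

theorem g169_ok : Net.ok 276 g169 = true := by decide +kernel

noncomputable def g170 : Net := (Net.cons (nat_lit 1) (nat_lit 0x45145544045011440004141004500155105141545114044015401400100415000400) (Net.cons (nat_lit 2) (nat_lit 0x111120013211200301022113302032212311021103120200220323020100203031000) (Net.cons (nat_lit 4) (nat_lit 0xe050300070b0d020c08040a0707070801000209080d0408030c0e020a0400020000) (Net.cons (nat_lit 8) (nat_lit 0xe9002b009c003800ce0064009d006c000400ba00f4001800c500d3000100140000) (Net.cons (nat_lit 16) (nat_lit 0x40000da47000015e500006c7c00001a0200000e14000021600000892100004410) (Net.cons (nat_lit 32) (nat_lit 0x62c7817a000000004e6060210000000001a06c140000000000002884) (Net.cons (nat_lit 64) (nat_lit 0xd09816001804a81400000000000000000000000000020010) (Net.cons (nat_lit 128) (nat_lit 0x4b3d2c56513fc95cbf807b476864bc21) (Net.cons (nat_lit 256) (nat_lit 457909) (Net.cons (nat_lit 128) (nat_lit 130915) (Net.cons (nat_lit 64) (nat_lit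 0xf2f2a6738f8de944000000000000000063527dd6c0c33d11) (Net.cons (nat_lit 32) (nat_lit 0x28c5c16a000000002f487870000000004ca8383c000000000983bcb4) (Net.cons (nat_lit 16) (nat_lit 0xc0000904e000055e7000064340000430300008e1c00006aa80000c32200000c18) (Net.cons (nat_lit 8) (nat_lit 0xeb002a009e003600ce00aa00a4004d005500ba00bc001100d100c2001200350040) (Net.cons (nat_lit 4) (nat_lit 0xf010204030a0d020d08040e0606060800000209090d0409070d05030a0404060004) (Net.cons (nat_lit 2) (nat_lit 0x111120213211200321222113300032012311201303120200220121220100203231000) (Net.cons (nat_lit 1) (nat_lit 0x45145544045011440004141404500155105141545114044015401400100415000400) Net.nil)))))))))))))))))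

theorem g170_ok : Net.ok 276 g170 = true := by decide +kernel

noncomputable def g171 : Net := (Net.cons (nat_lit 1) (nat_lit 0x150550541401051414404001141441415550050550505451541101551441101454040) (Net.cons (nat_lit 2) (nat_lit 0x103221103021100000130322222131332012313331022301000231311112100332030) (Net.cons (nat_lit 4) (nat_lit 0x90e0a05060e0b0b03080806050c070d060f0d0b000002030b060b02000008090901) (Net.cons (nat_lit 8) (nat_lit 0x6d000000c000440070003b00fe00b2009f00490005003200e7005600490003) (Net.cons (nat_lit 16) (nat_lit 0x20000f1010000a8fa000060800000a2110000b281000042760000221400000210) (Net.cons (nat_lit 32) (nat_lit 0x2419a215000000009c08127c00000000d0043f490000000000040c00) (Net.cons (nat_lit 64) (nat_lit 0x8400a05309280f3b00000000000000000000000000070089) (Net.cons (nat_lit 128) (nat_lit 0x4b454d40362ad3758742e69b3f1430ab) (Net.cons (nat_lit 256) (nat_lit 474879) (Net.cons (nat_lit 128) (nat_lit 125985) (Net.cons (nat_lit 64) (nat_lit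 0xa4c87e4b90bacb3d0000000000000000c92788e90a1ff589) (Net.cons (nat_lit 32) (nat_lit 0x2bb0f814000000002e6d8f5400000000801269f4000000007f20980a) (Net.cons (nat_lit 16) (nat_lit 0xb00002812000042e80000744200004b9200001de9000085000000cc4500005e49) (Net.cons (nat_lit 8) (nat_lit 0x2900b3005a00db00fa0039001d000300c20082002300fd00b5007600b800860031) (Net.cons (nat_lit 4) (nat_lit 0x80e06050f0e08030a050e0a090f030b0b0f050506000c09090309050e060804020d) (Net.cons (nat_lit 2) (nat_lit 0x103010112323122100023102303021301232220331121333123123130012312202111) (Net.cons (nat_lit 1) (nat_lit 0x540401100411044514154051404041015541454510045050404001501144555115514) Net.nil)))))))))))))))))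

theorem g171_ok : Net.ok 276 g171 = true := by decide +kernel

noncomputable def ht_c5_K : List Net := [g166, g167, g168, g169, g170, g171]

theorem ht_c5_K_ok : okE 276 ht_c5_K = true := (okE_cons.2 ⟨g166_ok, (okE_cons.2 ⟨g167_ok, (okE_cons.2 ⟨g168_ok, (okE_cons.2 ⟨g169_ok, (okE_cons.2 ⟨g170_ok, (okE_cons.2 ⟨g171_ok, (okE_nil 276)⟩)⟩)⟩)⟩)⟩)⟩)

noncomputable def g173 : Net := (Net.cons (nat_lit 1) (nat_lit 0x150151001504511040550414150510455445504044400405040110415551551415414) (Net.cons (nat_lit 2) (nat_lit 0x223312122331032020102122210322330222131030012221313120023320233000200) (Net.cons (nat_lit 4) (nat_lit 0x5070b0d0f0d050f04000b000c040c01080b010a0a050502000605020e020e030809) (Net.cons (nat_lit 8) (nat_lit 0x5100d6005600c5000300ae00c400750034009800ac0086000600b7006300110009) (Net.cons (nat_lit 16) (nat_lit 0x70000804f0000bf920000a1d20000b7ca000059d00000aa220000224a00003b00) (Net.cons (nat_lit 32) (nat_lit 0x907f2a0f000000002a158a96000000002803a09300000000000971b1)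 (Net.cons (nat_lit 64) (nat_lit 0x1822842d433e219000000000000000000000000000954c4) (Net.cons (nat_lit 128) (nat_lit 0x8de099a3b2a429c7de0ff4fd4613921a) (Net.cons (nat_lit 256) (nat_lit 786431) (Net.cons (nat_lit 128) (nat_lit 674626) (Net.cons (nat_lit 64) (nat_lit 0xfaca43689d81b673000000000000000052a9f351bdcf6601) (Net.cons (nat_lit 32) (nat_lit 0xc3d86116000000005f7f7dba0000000036a1b0ca00000000b76767f3) (Net.cons (nat_lit 16) (nat_lit 0xd0000f25b000020fa000042a20000d9e5000023d60000e8f90000e41c00001708) (Net.cons (nat_lit 8) (nat_lit 0x91005d00cc00b500c300ee00a500bc000800ae00bd004900ef006a000f007d003b) (Net.cons (nat_lit 4) (nat_lit 0x402030604040808010b0f0e080e0c07080e020a09030a0d0b0607020d030d06020a) (Net.cons (nat_lit 2) (nat_lit 0x122123030133002121320031212332101110312203303320300113113000023113203) (Net.cons (nat_lit 1) (nat_lit 0x11544044000510544051514511551401154004504000014554400001550055510415) Net.nil)))))))))))))))))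

theorem g173_ok : Net.ok 276 g173 = true := by decide +kernel

noncomputable def g174 : Net := (Net.cons (nat_lit 1) (nat_lit 0x515401540111115551111441111514115011151451400051440515544505454440550) (Net.cons (nat_lit 2) (nat_lit 0x231311012330232121203220121320101213010331113011311002101302303320100) (Net.cons (nat_lit 4) (nat_lit 0x10001090a0d0b0101070a0a010b080709000000000d0b01070b0c0304060d040508) (Net.cons (nat_lit 8) (nat_lit 0x4700d6009c00af008b00e7006e008d008500b3000100d900500040000100390006) (Net.cons (nat_lit 16) (nat_lit 0x8000022240000361e00004f8d0000a0e6000008930000358b000047a6000044d0) (Net.cons (nat_lit 32) (nat_lit 0xc932898e00000000070675cf00000000620fa2a900000000000006b8) (Net.cons (nat_lit 64) (nat_lit 0x825058292009e93200000000000000000000000000042415) (Net.cons (nat_lit 128) (nat_lit 0x89f6b04eb25e2db16a29c8f30617b892) (Net.cons (nat_lit 256) (nat_lit 0xffeff) (Net.cons (nat_lit 128) (nat_lit 287252) (Net.cons (nat_lit 64)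 (nat_lit 0x62498e5e2d0772fc0000000000000000f353c4889ecce725) (Net.cons (nat_lit 32) (nat_lit 0x4c7c54fb00000000c55af56a000000008bc12f6e000000006ef275c6) (Net.cons (nat_lit 16) (nat_lit 0x2000062fd0000bebe00000e13000013ae000005cb00004f9a0000156d0000ed52) (Net.cons (nat_lit 8) (nat_lit 0x6b000700d2004300c100cc00410010009000db007800ac00c00093005000a800ae) (Net.cons (nat_lit 4) (nat_lit 0xc07020d0e080a0e0702000b0204050408010808020d090903060402050f07000a06) (Net.cons (nat_lit 2) (nat_lit 0x30100203231321111112313131130211220311123102331122103130102012103211) (Net.cons (nat_lit 1) (nat_lit 0x545145544441501111144000500410041011501441541555545554004004440045040) Net.nil)))))))))))))))))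

theorem g174_ok : Net.ok 276 g174 = true := by decide +kernel

noncomputable def g175 : Net := (Net.cons (nat_lit 1) (nat_lit 0x11440450450440141514145100411115010411004000015140400400155514410000) (Net.cons (nat_lit 2) (nat_lit 0x223313032332231100132322103200101003300121031320323320032221030101020) (Net.cons (nat_lit 4) (nat_lit 0x50507080f020f0f0d0f000701090901010801020905050a0604010e0d0d040b0401) (Net.cons (nat_lit 8) (nat_lit 0xcc001b00b100d6009300ca000c0051002c00f600c20006000e0083002400320008) (Net.cons (nat_lit 16) (nat_lit 0xa00007d6e00000ca700000ae600003db800005f37000096f40000894c00001800) (Net.cons (nat_lit 32) (nat_lit 0xd107203e0000000060171d26000000008051b5110000000000045397) (Net.cons (nat_lit 64) (nat_lit 0xa2bec0940495587000000000000000000000000000cd13b) (Net.cons (nat_lit 128) (nat_lit 0xa6aecd7a00934bec68153291f8643d0a) (Net.cons (nat_lit 256) (nat_lit 917439) (Net.cons (nat_lit 128) (nat_lit 558441) (Net.cons (nat_lit 64) (nat_lit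 0x58562628c5295f30000000000000000017058bbaf56327c3) (Net.cons (nat_lit 32) (nat_lit 0xfc967213000000005ef5d48900000000f58db71100000000ee68792d) (Net.cons (nat_lit 16) (nat_lit 0x60000b7240000adfa00000d820000fc4c0000a4570000f16e00001b140000b899) (Net.cons (nat_lit 8) (nat_lit 0x1400a300f2009700b300f000d800b700400063007d00da0078001a001800b700f1) (Net.cons (nat_lit 4) (nat_lit 0xc0c030c0f0e020b0a04030f0d060d0c0b070a0d040c000d000e050b070f03090809) (Net.cons (nat_lit 2) (nat_lit 0x321010231300011000200210131230222200101120000233230222133321200130031) (Net.cons (nat_lit 1) (nat_lit 0x14000405044010101115410545104105111501500400555144500551415550041450) Net.nil)))))))))))))))))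

theorem g175_ok : Net.ok 276 g175 = true := by decide +kernel

noncomputable def g176 : Net := (Net.cons (nat_lit 1) (nat_lit 0x444410150444104011410040500101044411050110001554455510514010005405410) (Net.cons (nat_lit 2) (nat_lit 0x300220122020102003203001302010223001030000313022310302030301222132220) (Net.cons (nat_lit 4) (nat_lit 0xa0a0402030609050b0b060a0c0e08080a04050a070e00020f020c0b010501030c02) (Net.cons (nat_lit 8) (nat_lit 0x65004800ae006b001000ee007100a700580045002b00d700c00010000000400008) (Net.cons (nat_lit 16) (nat_lit 0x100005b8500004091000019a7000049630000ca3b000004410000da920000e800) (Net.cons (nat_lit 32) (nat_lit 0x97805c3000000000a71be81e000000003152826000000000000a60cc) (Net.cons (nat_lit 64) (nat_lit 0x82802cc158874a40000000000000000000000000002b830) (Net.cons (nat_lit 128) (nat_lit 0xc624b5b800df2a1a50e48a7dfd58010) (Net.cons (nat_lit 256) (nat_lit 0xff8fc) (Net.cons (nat_lit 128) (nat_lit 34373) (Net.cons (nat_lit 64) (nat_lit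 0x2a7b724e9db9b84a00000000000000004f7c5907b40b50f2) (Net.cons (nat_lit 32) (nat_lit 0x858cd4f900000000a6c2e0b800000000b07dbaa3000000008406686b) (Net.cons (nat_lit 16) (nat_lit 0x50000dbcb00008a46000099ae000042240000ca3b000090d30000dd8600005f36) (Net.cons (nat_lit 8) (nat_lit 0x9100fc008900eb00b100ae000c00ee00a7005a00ce0049009700ac005400880088) (Net.cons (nat_lit 4) (nat_lit 0x3060f03090a0e03020b0f0309080d05090b050e0b000c0a0f060f050a070d0d0901) (Net.cons (nat_lit 2) (nat_lit 0x211221103010332010223203313010232231122113331022000211110201332213132) (Net.cons (nat_lit 1) (nat_lit 0x101555115450445041051001504545100044441150115455145051500000100455555) Net.nil)))))))))))))))))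

theorem g176_ok : Net.ok 276 g176 = true := by decide +kernel

noncomputable def g177 : Net := (Net.cons (nat_lit 1) (nat_lit 0x404104005004104554005545004501141540500104511441401404104504040100000) (Net.cons (nat_lit 2) (nat_lit 0x101123332222123231232123133102212013222111003233020300212100101120200) (Net.cons (nat_lit 4) (nat_lit 0x10c0d0308060e0a0c0c0603090408050d00060d03020a0003070804010200020000) (Net.cons (nat_lit 8) (nat_lit 0x49004a00ae00460031004e0036000b00400035002300520008008b009800b50008) (Net.cons (nat_lit 16) (nat_lit 0xa0000c82600004ddc00002a78000091100000a26300000089000029a800000000) (Net.cons (nat_lit 32) (nat_lit 0x7162e18900000000a413c50700000000681626f00000000000060005) (Net.cons (nat_lit 64) (nat_lit 0xc08418080501c0400000000000000000000000000020069) (Net.cons (nat_lit 128) (nat_lit 0x9313d0871c2545dd9e98b31db5501808) (Net.cons (nat_lit 256) (nat_lit 415855) (Net.cons (nat_lit 128) (nat_lit 71688) (Net.cons (nat_lit 64) (nat_lit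 0xae8c1840d35efce20000000000000000ee2418201e58e6bb) (Net.cons (nat_lit 32) (nat_lit 0x7c64e44f00000000a42785d70000000045144776000000006dc42187) (Net.cons (nat_lit 16) (nat_lit 0x80000c9a400004cca0000466e00009c020000c73d0000218b0000083a000065b2) (Net.cons (nat_lit 8) (nat_lit 0x900aa00ae00060071000e0037000b0040007500630012000800cb009800f50048) (Net.cons (nat_lit 4) (nat_lit 0x90c0d0b08060e0a0c0c060b010409050d00060d03020a0003070804010200020000) (Net.cons (nat_lit 2) (nat_lit 0x101123332222123231232123133102212013222111003233020300212100101120200) (Net.cons (nat_lit 1) (nat_lit 0x404104105004104554005544014501141540500104511440401444104504040100040) Net.nil)))))))))))))))))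

theorem g177_ok : Net.ok 276 g177 = true := by decide +kernel

noncomputable def V178 : List Net := [g173, g174, g175, g176, g177]

theorem V178_ok : okE 276 V178 = true := (okE_cons.2 ⟨g173_ok, (okE_cons.2 ⟨g174_ok, (okE_cons.2 ⟨g175_ok, (okE_cons.2 ⟨g176_ok, (okE_cons.2 ⟨g177_ok, (okE_nil 276)⟩)⟩)⟩)⟩)⟩)

noncomputable def V180 : List Net := [g174, g175, g176, g177]

theorem V180_ok : okE 276 V180 = true := (okE_cons.2 ⟨g174_ok, (okE_cons.2 ⟨g175_ok, (okE_cons.2 ⟨g176_ok, (okE_cons.2 ⟨g177_ok, (okE_nil 276)⟩)⟩)⟩)⟩)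

noncomputable def V181 : List Net := [g175, g176, g177]

theorem V181_ok : okE 276 V181 = true := (okE_cons.2 ⟨g175_ok, (okE_cons.2 ⟨g176_ok, (okE_cons.2 ⟨g177_ok, (okE_nil 276)⟩)⟩)⟩)

noncomputable def V182 : List Net := [g176, g177]

theorem V182_ok : okE 276 V182 = true := (okE_cons.2 ⟨g176_ok, (okE_cons.2 ⟨g177_ok, (okE_nil 276)⟩)⟩)

noncomputable def V183 : List Net := []

theorem V183_ok : okE 276 V183 = true := (okE_nil 276)

noncomputable def ht_c5_cnt_EG : List Net := [g35, g36, g37, g38, g39, g40, g41, g42, g173, g174, g175, g176, g177]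

theorem ht_c5_cnt_EG_ok : okE 276 ht_c5_cnt_EG = true := (okE_cons.2 ⟨g35_ok, (okE_cons.2 ⟨g36_ok, (okE_cons.2 ⟨g37_ok, (okE_cons.2 ⟨g38_ok, (okE_cons.2 ⟨g39_ok, (okE_cons.2 ⟨g40_ok, (okE_cons.2 ⟨g41_ok, (okE_cons.2 ⟨g42_ok, (okE_cons.2 ⟨g173_ok, (okE_cons.2 ⟨g174_ok, (okE_cons.2 ⟨g175_ok, (okE_cons.2 ⟨g176_ok, (okE_cons.2 ⟨g177_ok, (okE_nil 276)⟩)⟩)⟩)⟩)⟩)⟩)⟩)⟩)⟩)⟩)⟩)⟩)⟩)

noncomputable def g184 : Net := (Net.cons (nat_lit 1) (nat_lit 0x455551001010110455415405441005545411511551055141544540101015450110444) (Net.cons (nat_lit 2) (nat_lit 0x203220101223210330100103131201021102011110033303003311113030212200200) (Net.cons (nat_lit 4) (nat_lit 0xb01010b000a0005020106000f0204060e03010203020c0b0f0808070d0006050c0c) (Net.cons (nat_lit 8) (nat_lit 0xcc0071006100d10006005000a00018002800fd006c0019007700f0009200d30008) (Net.cons (nat_lit 16) (nat_lit 0x30000822c00004af50000a50900004f3d00002eaf00000c9b0000864100000ae0) (Net.cons (nat_lit 32) (nat_lit 0xc240333500000000e252bd8100000000a0da9ef100000000000b201a)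 (Net.cons (nat_lit 64) (nat_lit 0x1453b17932c40905000000000000000000000000000d9e62) (Net.cons (nat_lit 128) (nat_lit 0x2809b6174beb0d68965207e8791d6080) (Net.cons (nat_lit 256) (nat_lit 0xffefb) (Net.cons (nat_lit 128) (nat_lit 598229) (Net.cons (nat_lit 64) (nat_lit 0xc22f7a6f0ed73ac600000000000000001418e8b8ada99968) (Net.cons (nat_lit 32) (nat_lit 0xe2063dd1000000006544db60000000000be4dae10000000049fc38ce) (Net.cons (nat_lit 16) (nat_lit 0xb00009b4c00006a2e0000972c0000087500001e8f0000dfa50000c7890000fef2) (Net.cons (nat_lit 8) (nat_lit 0x690091006000ee003400570032001a00bb006000a2006900c90004006b00bf009f) (Net.cons (nat_lit 4) (nat_lit 0x2090d050109090f020d060000070405030508000a0706080f00050d0f08070d0f01) (Net.cons (nat_lit 2) (nat_lit 0x300310312221003030033103103330202011030103011200021032233333232110022) (Net.cons (nat_lit 1) (nat_lit 0x514001450001110455005441404015055050415515555001144045015015404115041) Net.nil)))))))))))))))))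

theorem g184_ok : Net.ok 276 g184 = true := by decide +kernel

noncomputable def g185 : Net := (Net.cons (nat_lit 1) (nat_lit 0x415545101411110541455041155041410444011011405145041040410051555150400) (Net.cons (nat_lit 2) (nat_lit 0x321111220022133010121233331123012203202301312021303203033030012000300) (Net.cons (nat_lit 4) (nat_lit 0x50d0d010e0f0c030c09010008070401030e0a09050e0a0e0d01010b010f060f0102) (Net.cons (nat_lit 8) (nat_lit 0x1e007500dd001a00c600ed0010004b009400580072003900f700700047004f000e) (Net.cons (nat_lit 16) (nat_lit 0x40000579700001e520000df8e0000f82200001ea40000bcd10000212c00008010) (Net.cons (nat_lit 32) (nat_lit 0x89ee802600000000a0483f52000000000080309000000000000890a2) (Net.cons (nat_lit 64) (nat_lit 0x621f0640014180c300000000000000000000000000085103) (Net.cons (nat_lit 128) (nat_lit 0xfea649db1a05606490d94f02f3f5f01b) (Net.cons (nat_lit 256) (nat_lit 0xff1ff) (Net.cons (nat_lit 128) (nat_lit 872336) (Net.cons (nat_lit 64)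 (nat_lit 0x29cee99f5a0204c200000000000000002d8f54e3b42c7b92) (Net.cons (nat_lit 32) (nat_lit 0x2939e90c00000000c032eaf700000000d1a3a16b0000000091914b17) (Net.cons (nat_lit 16) (nat_lit 0x50000a42f000012ad0000d8780000f8e2000091f400005573000086400000a801) (Net.cons (nat_lit 8) (nat_lit 0x47005f00990033004200ba00b400b300670079001a00c700ec006f00b40060003b) (Net.cons (nat_lit 4) (nat_lit 0x60d010f0507060f050606050e020c04010d0f03000109070f01010009060d0c0c09) (Net.cons (nat_lit 2) (nat_lit 0x132102120212222130031032230003331110003201113000110201011222223132133) (Net.cons (nat_lit 1) (nat_lit 0x501500001544404114550500440155400401505510501050105440054515444450400) Net.nil)))))))))))))))))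

theorem g185_ok : Net.ok 276 g185 = true := by decide +kernel

noncomputable def g186 : Net := (Net.cons (nat_lit 1) (nat_lit 0x15104404441415501101501515545411504441045050041151141411105044151404) (Net.cons (nat_lit 2) (nat_lit 0x120111111001230230232311121331123220221022130100132233011132301102020) (Net.cons (nat_lit 4) (nat_lit 0x1050007070002070e0e020a00040302050a01070a01040408080c0b010501040200) (Net.cons (nat_lit 8) (nat_lit 0x8e008f00770054006e005400a0000d009a00c5003400110095004400a200580000) (Net.cons (nat_lit 16) (nat_lit 0xe0000e98e000045480000847e0000bf320000dc7d000022240000212300008520) (Net.cons (nat_lit 32) (nat_lit 0x8e2b7c500000000063228a3600000000a24da024000000000004cc04) (Net.cons (nat_lit 64) (nat_lit 0x79d0411248464e0300000000000000000000000000054219) (Net.cons (nat_lit 128) (nat_lit 0x89aa7eb3aed6dfd9f252012970218e6f) (Net.cons (nat_lit 256) (nat_lit 917503) (Net.cons (nat_lit 128) (nat_lit 531355) (Net.cons (nat_lit 64) (nat_lit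 0xa462aca74dd96f1000000000000000008b5cc94d041cf363) (Net.cons (nat_lit 32) (nat_lit 0xb8f7356200000000472b0a4200000000e1ffe944000000008cfe5259) (Net.cons (nat_lit 16) (nat_lit 0x600002aec00009ea800008cd90000c350000083ef0000caa00000406c0000ff40) (Net.cons (nat_lit 8) (nat_lit 0x27009e008f0074002f00b90024008d00c80044000100cd008e009200e300450028) (Net.cons (nat_lit 4) (nat_lit 0xb0408090600000805010302090d07020f090402000b0507000f0f0005060c090a0d) (Net.cons (nat_lit 2) (nat_lit 0x303030003111112120111230020201320302113102031221232131021020200003110) (Net.cons (nat_lit 1) (nat_lit 0x44015415044540000450451540401014415101004104554455145014441444550004) Net.nil)))))))))))))))))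

theorem g186_ok : Net.ok 276 g186 = true := by decide +kernel

noncomputable def g187 : Net := (Net.cons (nat_lit 1) (nat_lit 0x4115554015055451555051145055144511514041455100111015411444444110500) (Net.cons (nat_lit 2) (nat_lit 0x2113222333020002131233313300320033210300010213112203333232102000100) (Net.cons (nat_lit 4) (nat_lit 0x1010109010b0805010b06080d0a0a070c0d000a040300010d050a08080a0d080308) (Net.cons (nat_lit 8) (nat_lit 0x5100ef002e00f400a1004a002400600098001d00910035001a0082000a0040000b) (Net.cons (nat_lit 16) (nat_lit 0xf0000c40800000cac000033e90000b5200000263d00008a9600003a500000dc00) (Net.cons (nat_lit 32) (nat_lit 0x1a0075b700000000ad04866a000000009561220c0000000000054060) (Net.cons (nat_lit 64) (nat_lit 0x1124e04a34a58ea100000000000000000000000000096ca8) (Net.cons (nat_lit 128) (nat_lit 0x529b4e65eb6625b909adb33ad4d558d7) (Net.cons (nat_lit 256) (nat_lit 916735) (Net.cons (nat_lit 128) (nat_lit 697230) (Net.cons (nat_lit 64) (nat_lit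 0xfd49bb898fb7048a0000000000000000551e4d7eeaa25ef9) (Net.cons (nat_lit 32) (nat_lit 0x1add72fa000000009c8b45b300000000b9aad8db00000000fd4dedf6) (Net.cons (nat_lit 16) (nat_lit 0x300003b550000e2260000229f000050e800007b210000cf29000041f10000c8fd) (Net.cons (nat_lit 8) (nat_lit 0xf2008b0044003300f70019007d004100f700e60070005f0021001200cc00430029) (Net.cons (nat_lit 4) (nat_lit 0x40f010f0300090706070706060d0201090c0b0409020d0d0c0200060b00030a0607) (Net.cons (nat_lit 2) (nat_lit 0x220200321012300220330221012303122001322022001301333131010210100121011) (Net.cons (nat_lit 1) (nat_lit 0x111415401554551544001004405555140115400040140051014150104151551405) Net.nil)))))))))))))))))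

theorem g187_ok : Net.ok 276 g187 = true := by decide +kernel

noncomputable def g188 : Net := (Net.cons (nat_lit 1) (nat_lit 0x115454014010511455510054005411044410401511451100114154004144454001000) (Net.cons (nat_lit 2) (nat_lit 0x203300210201112321330303311310222133321313312021021221311212220133200) (Net.cons (nat_lit 4) (nat_lit 0x20306000d0504010008010d000c03060a0c020e030b0d01020b0f0e020e02000402) (Net.cons (nat_lit 8) (nat_lit 0xca0009009300e40020005b005300b000b20086002500e3000600b0009100590002) (Net.cons (nat_lit 16) (nat_lit 0xb0000eddd0000a05800000f00000010e7000060b40000caa70000801a00008840) (Net.cons (nat_lit 32) (nat_lit 0x278c98a50000000076e34b9600000000200980db0000000000052080) (Net.cons (nat_lit 64) (nat_lit 0x806b403c9dc8c14200000000000000000000000000090062) (Net.cons (nat_lit 128) (nat_lit 0x67caf57b44d22f4adcb10805bb220d0c) (Net.cons (nat_lit 256) (nat_lit 0xfadef) (Net.cons (nat_lit 128) (nat_lit 846517) (Net.cons (nat_lit 64)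 (nat_lit 0x8e5477bbaa6a75240000000000000000b7a939efedc1086d) (Net.cons (nat_lit 32) (nat_lit 0x241bc78800000000feeb2506000000007d616a2900000000e2f18516) (Net.cons (nat_lit 16) (nat_lit 0x50000a6fc000056330000a1640000a8370000991e000098bf0000326c00004859) (Net.cons (nat_lit 8) (nat_lit 0xae00e600c500c100cf002b00c400440075003500f7007b004700f100ee001f0005) (Net.cons (nat_lit 4) (nat_lit 0xa070704070403060b030a0b0b0006010c0f04000a070700060e0206070d090f00) (Net.cons (nat_lit 2) (nat_lit 0x103223131331031203023301112312300022332233300121321221212222021231022) (Net.cons (nat_lit 1) (nat_lit 0x155511545511150011440111404110550555540050050114150141454100055114054) Net.nil)))))))))))))))))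

theorem g188_ok : Net.ok 276 g188 = true := by decide +kernel

noncomputable def ht_c6_K : List Net := [g185, g186, g187, g188, n_t]

theorem ht_c6_K_ok : okE 276 ht_c6_K = true := (okE_cons.2 ⟨g185_ok, (okE_cons.2 ⟨g186_ok, (okE_cons.2 ⟨g187_ok, (okE_cons.2 ⟨g188_ok, (okE_cons.2 ⟨n_t_ok, (okE_nil 276)⟩)⟩)⟩)⟩)⟩)

noncomputable def ht_c6_cnt_EG : List Net := [g36, g37, g38, g39, g40, g41, g42, g35, g156, g157, g130, n_t, g155]

theorem ht_c6_cnt_EG_ok : okE 276 ht_c6_cnt_EG = true := (okE_cons.2 ⟨g36_ok, (okE_cons.2 ⟨g37_ok, (okE_cons.2 ⟨g38_ok, (okE_cons.2 ⟨g39_ok, (okE_cons.2 ⟨g40_ok, (okE_cons.2 ⟨g41_ok, (okE_cons.2 ⟨g42_ok, (okE_cons.2 ⟨g35_ok, (okE_cons.2 ⟨g156_ok, (okE_cons.2 ⟨g157_ok, (okE_cons.2 ⟨g130_ok, (okE_cons.2 ⟨n_t_ok, (okE_cons.2 ⟨g155_ok, (okE_nil 276)⟩)⟩)⟩)⟩)⟩)⟩)⟩)⟩)⟩)⟩)⟩)⟩)⟩)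

noncomputable def g190 : Net := (Net.cons (nat_lit 1) (nat_lit 0x10415040514544141545055144104410415444554454454155515551404111415414) (Net.cons (nat_lit 2) (nat_lit 0x33312202222022132233110013022231223012310030332103302200330301122010) (Net.cons (nat_lit 4) (nat_lit 0xc020203070d0100050d090d0b080d010a0b0b0b070d04020706090a0c0000020c00) (Net.cons (nat_lit 8) (nat_lit 0x3d00eb000b006700e400eb00350049008600a8006600cb0072001500b700920008) (Net.cons (nat_lit 16) (nat_lit 0x618000049880000de4600000c0b00001e2c000061640000896500002600) (Net.cons (nat_lit 32) (nat_lit 0x649eaedc000000009034d175000000001821975c0000000000042404) (Net.cons (nat_lit 64) (nat_lit 0x1dde00b4a849a891000000000000000000000000000e0b88) (Net.cons (nat_lit 128) (nat_lit 0x84091279bf64443a5bf656cf008601f1) (Net.cons (nat_lit 256) (nat_lit 933885) (Net.cons (nat_lit 128) (nat_lit 912899) (Net.cons (nat_lit 64) (nat_lit 0xbd2ab89177cbc5c3000000000000000005008a8fd3da41f3) (Net.cons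 (nat_lit 32) (nat_lit 0xdf2aaba40000000017dce7010000000084731269000000004177c5c5) (Net.cons (nat_lit 16) (nat_lit 0x4000054d20000b1f000002b3e000026d1000080780000a05400008999000052b8) (Net.cons (nat_lit 8) (nat_lit 0x800f1005900ed00f400c300c10088000000af00cb0005005000800092000300ba) (Net.cons (nat_lit 4) (nat_lit 0xc070701010c08080602090607000d0800050b0f0d0509070c07090f0a00090d020b) (Net.cons (nat_lit 2) (nat_lit 0x213211010202231312031122033032031001332012032123122310332131300331232) (Net.cons (nat_lit 1) (nat_lit 0x54544111444455045145140544115451510100110544501554055010155544501404) Net.nil)))))))))))))))))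

theorem g190_ok : Net.ok 276 g190 = true := by decide +kernel

noncomputable def g191 : Net := (Net.cons (nat_lit 1) (nat_lit 0x140104445454101400041110440544455504510414445140515544014045104004550) (Net.cons (nat_lit 2) (nat_lit 0x1130300001121311321310220302301131221323311330011101301032013133010) (Net.cons (nat_lit 4) (nat_lit 0x2080b0f01000d050b0f050a0502010f03010c04000b03060702010c0e0501090c09) (Net.cons (nat_lit 8) (nat_lit 0xd00063003c00ff0046001b00880059002d00d1002400bc0018008a00a00048000b) (Net.cons (nat_lit 16) (nat_lit 0xd000093800000418300001600000076fe00000d650000e2e00000656c00001080) (Net.cons (nat_lit 32) (nat_lit 0xac25b00800000000885909b400000000f1cd5a290000000000004089) (Net.cons (nat_lit 64) (nat_lit 0x20bec1408847591900000000000000000000000000041860) (Net.cons (nat_lit 128) (nat_lit 0xb7e6e943c828d202c018001406da500d) (Net.cons (nat_lit 256) (nat_lit 942063) (Net.cons (nat_lit 128) (nat_lit 367541) (Net.cons (nat_lit 64) (nat_lit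 0xa22eea3b740e98020000000000000000c3f46d82fc47252f) (Net.cons (nat_lit 32) (nat_lit 0x984326c1000000005a7865ef0000000023cf168b000000008bd828bf) (Net.cons (nat_lit 16) (nat_lit 0xf000068c500005bb200005d0e00002ba70000eeb70000b1c30000bdef00000651) (Net.cons (nat_lit 8) (nat_lit 0x1800c40046007300e6004100df006b006d0089002800f800970047006d004500e8) (Net.cons (nat_lit 4) (nat_lit 0x60a02040f0d0b0f0b050c090c0904070c0f050d0b09080f0d07010405010303090b) (Net.cons (nat_lit 2) (nat_lit 0x131020011301330300102011002303313000132322032011200202002323032100233) (Net.cons (nat_lit 1) (nat_lit 0x415401140455411101155100011444504405101545511515441541454445114415415) Net.nil)))))))))))))))))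

theorem g191_ok : Net.ok 276 g191 = true := by decide +kernel

noncomputable def g192 : Net := (Net.cons (nat_lit 1) (nat_lit 0x551110151040551400141105041410441111140401444540104410455514514040004) (Net.cons (nat_lit 2) (nat_lit 0x200222021203312121301030032033312320012012222120120123230221012222120) (Net.cons (nat_lit 4) (nat_lit 0x40d0e000c0607070703000f070c050f080209020d0c0101070a0b09090c0d020800) (Net.cons (nat_lit 8) (nat_lit 0x5e005c00b5009d000f009000ad009800ae0049009a001e002f002500a200200000) (Net.cons (nat_lit 16) (nat_lit 0x900000e160000994400000ee7000048a90000a28f0000a09000005c0200002840) (Net.cons (nat_lit 32) (nat_lit 0x4921d5db000000006a8b8c0800000000a85b22750000000000094800) (Net.cons (nat_lit 64) (nat_lit 0x420820c008000e55000000000000000000000000000532a8) (Net.cons (nat_lit 128) (nat_lit 0x5f841fa4fb19a4ebb83e7c4a33bb0d45) (Net.cons (nat_lit 256) (nat_lit 0xf7fed) (Net.cons (nat_lit 128) (nat_lit 498621) (Net.cons (nat_lit 64)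 (nat_lit 0x12ca8848ae377c4200000000000000004350ac20b22a7c79) (Net.cons (nat_lit 32) (nat_lit 0x98c7109700000000c229fee40000000027480ca5000000006bc75f04) (Net.cons (nat_lit 16) (nat_lit 0x900002c4200005c54000063b1000038fb000036aa00009edd000043a20000ba12) (Net.cons (nat_lit 8) (nat_lit 0x1b003c00610045007900ff0046008c00cc00880042000c003f000e00ca00be00bf) (Net.cons (nat_lit 4) (nat_lit 0xc070d0f0c0d080e02000a030a0400060a020f0e0308090c050d030c0a0608010e07) (Net.cons (nat_lit 2) (nat_lit 0x120332103201112013011320203200221220232112032311213320311001021121020) (Net.cons (nat_lit 1) (nat_lit 0x554014515101450541110511550441551110505141544150540451405115540555000) Net.nil)))))))))))))))))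

theorem g192_ok : Net.ok 276 g192 = true := by decide +kernel

noncomputable def g193 : Net := (Net.cons (nat_lit 1) (nat_lit 0x455505111055505501455444155555500541410450555010400001041501040445100) (Net.cons (nat_lit 2) (nat_lit 0x1210212002022132211102031023321012330333000220203110010000111003000) (Net.cons (nat_lit 4) (nat_lit 0x90502010200000e090b0c02010908010a0b0d070f0e070b060a0d0f0d0f07010801) (Net.cons (nat_lit 8) (nat_lit 0xf00fe009b005e005800ff007f00ba00e9006100d20078006a0060004400af0008) (Net.cons (nat_lit 16) (nat_lit 0xb0000c4c200007c910000709800008e6d00000d5100004ab8000089c000001110) (Net.cons (nat_lit 32) (nat_lit 0xbc6e127a00000000e45adf81000000008020bd82000000000004e685) (Net.cons (nat_lit 64) (nat_lit 0x1bc482c59f24de000000000000000000000000000047a33) (Net.cons (nat_lit 128) (nat_lit 0xe1cad12102618e1976361aced992c0e3) (Net.cons (nat_lit 256) (nat_lit 983031) (Net.cons (nat_lit 128) (nat_lit 340429) (Net.cons (nat_lit 64) (nat_lit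 0x5b54ec3d8785384e0000000000000000493767902f007a64) (Net.cons (nat_lit 32) (nat_lit 0xbcc6f8e3000000004c76b53400000000bcb17d6c0000000038e3d691) (Net.cons (nat_lit 16) (nat_lit 0x50000eb1a0000d26e0000271000003c7200006df800005c9d00000b42000040fa) (Net.cons (nat_lit 8) (nat_lit 0x37007e00a1009300a200630027008100cd006c00c800c800560021005400ea00cc) (Net.cons (nat_lit 4) (nat_lit 0x70e080a070e0b01040b0b050b060f040c050008020702050a0a03020d020b000a03) (Net.cons (nat_lit 2) (nat_lit 0x3013211331002231212030002101233122101230012331201203122313132333020) (Net.cons (nat_lit 1) (nat_lit 0x55055551100501045011005145500150055154500400145450110455104004054401) Net.nil)))))))))))))))))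

theorem g193_ok : Net.ok 276 g193 = true := by decide +kernel

noncomputable def g194 : Net := (Net.cons (nat_lit 1) (nat_lit 0x55011550444405041011551551054455540111115551410551445511401404054000) (Net.cons (nat_lit 2) (nat_lit 0x1333210112113110332220101301203012010003203131321001010110100010000) (Net.cons (nat_lit 4) (nat_lit 0x40b0b07050e0f0c070a01010400020901080a060101080104030b0c090e0c000900) (Net.cons (nat_lit 8) (nat_lit 0xca00fa00e6003900610002002d00d0004800700025002000e80026008800220000) (Net.cons (nat_lit 16) (nat_lit 0x80000cf04000036d60000e7a600000c230000cfb40000e97300001a4500002000) (Net.cons (nat_lit 32) (nat_lit 0x8214709900000000ab88871600000000490ec0a60000000000000826) (Net.cons (nat_lit 64) (nat_lit 0x20008613110449c6000000000000000000000000000000a2) (Net.cons (nat_lit 128) (nat_lit 0xb220fbe679b2598e03957d35c88cc244) (Net.cons (nat_lit 256) (nat_lit 846566) (Net.cons (nat_lit 128) (nat_lit 905796) (Net.cons (nat_lit 64) (nat_lit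 0xf450b7128fd44cf700000000000000008d5a200089d410a3) (Net.cons (nat_lit 32) (nat_lit 0x134ce399000000001bd9b75600000000d81fd1b6000000008131982e) (Net.cons (nat_lit 16) (nat_lit 0x90000ef84000036d60000c6a600002d2b0000eebc0000ed73000018c400002402) (Net.cons (nat_lit 8) (nat_lit 0xca00fa00e6003900680002002c00d0004900700025002000e80027008900220040) (Net.cons (nat_lit 4) (nat_lit 0x40b0b07050e0f0c070a010104000209010a0a060101080504030f0c090e0c000900) (Net.cons (nat_lit 2) (nat_lit 0x201333210132113110332220101303203012010003203131321001012130100010000) (Net.cons (nat_lit 1) (nat_lit 0x55011550444405041011551551054455540111115551410551445511401404054000) Net.nil)))))))))))))))))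

theorem g194_ok : Net.ok 276 g194 = true := by decide +kernel

noncomputable def g195 : Net := (Net.cons (nat_lit 1) (nat_lit 0x145504540554014154410045011014545145115150415041054444511111040500000) (Net.cons (nat_lit 2) (nat_lit 0x1311301103000221021113322113002312002210311221212320112203230102000) (Net.cons (nat_lit 4) (nat_lit 0x7040f040508080f09060900050802040409080f0b02050408050d08090308060400) (Net.cons (nat_lit 8) (nat_lit 0x4d000c00b50060005a004200000048001600b6008b005400580024008000000005) (Net.cons (nat_lit 16) (nat_lit 0x60000c29d0000a2ce0000d946000005080000017b000010510000204200001040) (Net.cons (nat_lit 32) (nat_lit 0x30f61c0200000000080134a900000000146d8a300000000000001080) (Net.cons (nat_lit 64) (nat_lit 0x40b334043002177800000000000000000000000000008da1) (Net.cons (nat_lit 128) (nat_lit 0x2696a5ab2bdb3d397d259ba414813c47) (Net.cons (nat_lit 256) (nat_lit 114151) (Net.cons (nat_lit 128) (nat_lit 605767) (Net.cons (nat_lit 64) (nat_lit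 0x65fc3736718e94f80000000000000000b545017388a997e3) (Net.cons (nat_lit 32) (nat_lit 0x28f64742000000002f8172a90000000079ecc6340000000002131380) (Net.cons (nat_lit 16) (nat_lit 0xe0000da9e0000bbcc0000cd440000104800001d7800000c51000033c100002c44) (Net.cons (nat_lit 8) (nat_lit 0x4d002d00b5006700da004200000049001600b60088005400580027008300020045) (Net.cons (nat_lit 4) (nat_lit 0x7040f040508080f0907090005080a040409080f0b02050408050d08090308060500) (Net.cons (nat_lit 2) (nat_lit 0x311301102010221021113322113002312002210311221212320112203230102000) (Net.cons (nat_lit 1) (nat_lit 0x145504540554014154410045011014545145115150415041054444511111040500000) Net.nil)))))))))))))))))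

theorem g195_ok : Net.ok 276 g195 = true := by decide +kernel

noncomputable def ht_c7_K : List Net := [g191, g192, g193, n_t, g194, g195]

theorem ht_c7_K_ok : okE 276 ht_c7_K = true := (okE_cons.2 ⟨g191_ok, (okE_cons.2 ⟨g192_ok, (okE_cons.2 ⟨g193_ok, (okE_cons.2 ⟨n_t_ok, (okE_cons.2 ⟨g194_ok, (okE_cons.2 ⟨g195_ok, (okE_nil 276)⟩)⟩)⟩)⟩)⟩)⟩)

noncomputable def V197 : List Net := [g41]

theorem V197_ok : okE 276 V197 = true := (okE_cons.2 ⟨g41_ok, (okE_nil 276)⟩)

noncomputable def V199 : List Net := []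

theorem V199_ok : okE 276 V199 = true := (okE_nil 276)

noncomputable def ht_c7_cnt_EG : List Net := [g36, g37, g38, g39, g40, g41, g42, g35]

theorem ht_c7_cnt_EG_ok : okE 276 ht_c7_cnt_EG = true := (okE_cons.2 ⟨g36_ok, (okE_cons.2 ⟨g37_ok, (okE_cons.2 ⟨g38_ok, (okE_cons.2 ⟨g39_ok, (okE_cons.2 ⟨g40_ok, (okE_cons.2 ⟨g41_ok, (okE_cons.2 ⟨g42_ok, (okE_cons.2 ⟨g35_ok, (okE_nil 276)⟩)⟩)⟩)⟩)⟩)⟩)⟩)⟩)

noncomputable def g200 : Net := (Net.cons (nat_lit 1) (nat_lit 0x405501101544011400105151441450515414454510050545015551401154455541010) (Net.cons (nat_lit 2) (nat_lit 0x202203231022222032111230111100203021211230303031223320300001101203310) (Net.cons (nat_lit 4) (nat_lit 0x80a03020b030f080e080c07030b01080e0100020701020d0f070a040209020f0900) (Net.cons (nat_lit 8) (nat_lit 0x87003c0059006d0001001a009a00e000d4006000a3003f0098006900040088000c) (Net.cons (nat_lit 16) (nat_lit 0x241c0000ba280000da3200000a150000826f000008380000321400008310) (Net.cons (nat_lit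 32) (nat_lit 0xf5416c34000000008e95e258000000002717f1e80000000000021b50) (Net.cons (nat_lit 64) (nat_lit 0x2c2ba15b12190444000000000000000000000000000f40c0) (Net.cons (nat_lit 128) (nat_lit 0x9e5bc9152617376e622036ca9c8a8605) (Net.cons (nat_lit 256) (nat_lit 0xfdfff) (Net.cons (nat_lit 128) (nat_lit 422400) (Net.cons (nat_lit 64) (nat_lit 0xde1ecdd11963f07000000000000000002799ad3a66caf612) (Net.cons (nat_lit 32) (nat_lit 0x8f1d01740000000084e9b2f100000000a74d5f2a00000000add0c69d) (Net.cons (nat_lit 16) (nat_lit 0xe0000db0300006848000017b90000ae6b0000facb000024f10000d8ac00001e91) (Net.cons (nat_lit 8) (nat_lit 0xd000d700070037003000ad0003006700f400e1001a004200a5002300a1003700d5) (Net.cons (nat_lit 4) (nat_lit 0x1060b040d0d080b090d09080703040f020a0d070a0f0805090001030c0a060f0305) (Net.cons (nat_lit 2) (nat_lit 0x312001211032200331211212132220213321213010133232101301233031023222100) (Net.cons (nat_lit 1) (nat_lit 0x144410115150015001104554505041145551100455401000101000454115144440540)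 Net.nil)))))))))))))))))

theorem g200_ok : Net.ok 276 g200 = true := by decide +kernel

noncomputable def g201 : Net := (Net.cons (nat_lit 1) (nat_lit 0x40104155044115051155405141140401004551104440441154545154045411010414) (Net.cons (nat_lit 2) (nat_lit 0x331011300002331101232301011330231020002303222333022020133323101013200) (Net.cons (nat_lit 4) (nat_lit 0xb06080d04000d0f02030509090d040c0a0c04040c040a02080a06080b0d02090809) (Net.cons (nat_lit 8) (nat_lit 0x9c004100a5000e009c00c5007400c30027009d005b00260012001d002300470000) (Net.cons (nat_lit 16) (nat_lit 0x70000a91300006afc0000f8430000e48300002096000073280000e92500001020) (Net.cons (nat_lit 32) (nat_lit 0x938153540000000096f57806000000007a61b781000000000001a197) (Net.cons (nat_lit 64) (nat_lit 0x45548085f912a67d0000000000000000000000000000822b) (Net.cons (nat_lit 128) (nat_lit 0x91dbe34ce8b6a4c47cad00e913429cb4) (Net.cons (nat_lit 256) (nat_lit 786367) (Net.cons (nat_lit 128) (nat_lit 169739)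 (Net.cons (nat_lit 64) (nat_lit 0xd3f71db181d4e82900000000000000002da216e7ae326333) (Net.cons (nat_lit 32) (nat_lit 0xe6055ff4000000007eaa844c0000000041fa65ec00000000adf0d9dc) (Net.cons (nat_lit 16) (nat_lit 0x2000009bf0000e5ac000007650000e6c000005eac0000011700003cb60000b275) (Net.cons (nat_lit 8) (nat_lit 0xb800c00009009500a600eb00ee00f5003500aa00f100b00095000b007a00410020) (Net.cons (nat_lit 4) (nat_lit 0x5040b090c0f0e07080f0a0f0f0d020106050a010b0f080a040c0a0e0d09000f080f) (Net.cons (nat_lit 2) (nat_lit 0x311321320200232023230133031310303221110003123322102100032033111113022) (Net.cons (nat_lit 1) (nat_lit 0x44100451004145105155404551551500010511010551451044000045055050115400) Net.nil)))))))))))))))))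

theorem g201_ok : Net.ok 276 g201 = true := by decide +kernel

noncomputable def g202 : Net := (Net.cons (nat_lit 1) (nat_lit 0x114515545551554044154545415451400405500114050414454044150150414444514) (Net.cons (nat_lit 2) (nat_lit 0x202310311102023110302102130103223213311331230002313031202030001122010) (Net.cons (nat_lit 4) (nat_lit 0xa09020401080a07050509040a040a0701070a0d0a0d020d070d02010800000a0200) (Net.cons (nat_lit 8) (nat_lit 0xe700e80006004500b6001c00500058002a00f2000e00930009004b009c00450001) (Net.cons (nat_lit 16) (nat_lit 0x10000581a00002d190000a74200007af7000053d4000010ce0000210a00008460) (Net.cons (nat_lit 32) (nat_lit 0x82239d7c000000006f0c80c6000000003146876f000000000003a320) (Net.cons (nat_lit 64) (nat_lit 0x209048111581942c0000000000000000000000000004c3c1) (Net.cons (nat_lit 128) (nat_lit 0x399593ef1263f4e057227e324fa008aa) (Net.cons (nat_lit 256) (nat_lit 520171) (Net.cons (nat_lit 128) (nat_lit 534780) (Net.cons (nat_lit 64)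 (nat_lit 0x52b2cc3da5c666460000000000000000fea4ad7481dbe7ac) (Net.cons (nat_lit 32) (nat_lit 0x579e67000000000b0e838f4000000006b8d328c00000000529d2a21) (Net.cons (nat_lit 16) (nat_lit 0x3000012270000d9580000a4c300009c870000835c0000c2d90000a9e000008769) (Net.cons (nat_lit 8) (nat_lit 0x600f2003c008c005600ac00c6007f005c00f4008d00aa004400b600ae00d90005) (Net.cons (nat_lit 4) (nat_lit 0x40d0a030c0700090404010806050e0708060702060904050a0103070f0f0102060f) (Net.cons (nat_lit 2) (nat_lit 0x201221033120231000322213030100033203313202323102311022012033310202323) (Net.cons (nat_lit 1) (nat_lit 0x151405005414140051041505511055144004411545545044155105155154051044544) Net.nil)))))))))))))))))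

theorem g202_ok : Net.ok 276 g202 = true := by decide +kernel

noncomputable def g203 : Net := (Net.cons (nat_lit 1) (nat_lit 0x514041511111001544140101154414100405441105004054040510055440440400504) (Net.cons (nat_lit 2) (nat_lit 0x31001103132020321330032133133102122223233212310022312131113320320200) (Net.cons (nat_lit 4) (nat_lit 0xb0f03010e010903010e04010203010d040d0b0e00060301010a090806060103000b) (Net.cons (nat_lit 8) (nat_lit 0x5700990018004f00ea004200ad0058008f00c50043009100150000003e0004000b) (Net.cons (nat_lit 16) (nat_lit 0xf000043f200007ac80000d4e500000dd900000dd2000073c20000013a00006010) (Net.cons (nat_lit 32) (nat_lit 0x6255bb500000000051017231000000001b77a54c0000000000040119) (Net.cons (nat_lit 64) (nat_lit 0x33308111688dcd3c00000000000000000000000000092116) (Net.cons (nat_lit 128) (nat_lit 0x165395f1c3a4333a65ad7c4ab858cd26) (Net.cons (nat_lit 256) (nat_lit 912831) (Net.cons (nat_lit 128) (nat_lit 248578) (Net.cons (nat_lit 64) (nat_lit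 0x493e81ec435cde180000000000000000a04dc2dd8eb375e6) (Net.cons (nat_lit 32) (nat_lit 0x59545bf500000000e867bca700000000ae4536f40000000083d81481) (Net.cons (nat_lit 16) (nat_lit 0x400006f8800002b470000d83b0000099d000057a70000f53b000015aa0000e96e) (Net.cons (nat_lit 8) (nat_lit 0x4300a20060002e00fe00f600bc000d009b006900b900cb00c800bb008f000100fb) (Net.cons (nat_lit 4) (nat_lit 0x1060b020f040d010900030e09060d08010c02080e0f0f040e0909090e0c0204050c) (Net.cons (nat_lit 2) (nat_lit 0x32123213333132221002211320230121322301033112023101031021102222113212) (Net.cons (nat_lit 1) (nat_lit 0x410115540110050505555401415400440505545014001101410515041414541140000) Net.nil)))))))))))))))))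

theorem g203_ok : Net.ok 276 g203 = true := by decide +kernel

noncomputable def g204 : Net := (Net.cons (nat_lit 1) (nat_lit 0x151105414540111114000051415045101405411115455550515150050551111140010) (Net.cons (nat_lit 2) (nat_lit 0x133311200311110111011112130101101233300012100003233121031123220212000) (Net.cons (nat_lit 4) (nat_lit 0x9000b0903020e0502050b0d090c030208080609010a0a0d070c0308040b0a0c0304) (Net.cons (nat_lit 8) (nat_lit 0xc3002a00dc00ce00e600b1006000050047000a00d7000000f20080009d00260005) (Net.cons (nat_lit 16) (nat_lit 0x20000543500005d100000c4bc0000068400005bd20000ce190000c03e00008010) (Net.cons (nat_lit 32) (nat_lit 0x8a07b0c6000000002fb2cf3000000000224910ca00000000000ce290) (Net.cons (nat_lit 64) (nat_lit 0x800d25402e068405000000000000000000000000000105aa) (Net.cons (nat_lit 128) (nat_lit 0x2989686d0c2305df97c41581323d3ca0) (Net.cons (nat_lit 256) (nat_lit 917435) (Net.cons (nat_lit 128) (nat_lit 372416) (Net.cons (nat_lit 64)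 (nat_lit 0x21420655a20b52270000000000000000e219c07a59db3c69) (Net.cons (nat_lit 32) (nat_lit 0xab82c42d00000000a87ab7f80000000019f8a8f300000000f60f8b75) (Net.cons (nat_lit 16) (nat_lit 0x200000c310000d36800007cf0000076c50000243c000077060000166400000e45) (Net.cons (nat_lit 8) (nat_lit 0x7600ff00dd006c00b6009800dd00b7005f00da0031007b00f3000100f500ef0025) (Net.cons (nat_lit 4) (nat_lit 0xa02000b0d010d0b030c000d0c0404040a0d0b040808030d030a07010d0600010f0e) (Net.cons (nat_lit 2) (nat_lit 0x131322201010021100313130322202301320023330121231023223113311013022111) (Net.cons (nat_lit 1) (nat_lit 0x510405551144055055144405555144015445051155545441455550014504111450154) Net.nil)))))))))))))))))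

theorem g204_ok : Net.ok 276 g204 = true := by decide +kernel

noncomputable def g205 : Net := (Net.cons (nat_lit 1) (nat_lit 0x150004140444415445104045515404555501445050100455040144110501451000400) (Net.cons (nat_lit 2) (nat_lit 0x112103202320321223113322220131010233222113022321210101000012211020200) (Net.cons (nat_lit 4) (nat_lit 0x50f040e000b0d030b00000a0c0f09060a0a0504040f0808060a03020006000700) (Net.cons (nat_lit 8) (nat_lit 0xae004f00ba00070074004d008d008200a4009600c8000800220024008400c50008) (Net.cons (nat_lit 16) (nat_lit 0xf0000046000000667000090010000294000005590000080140000305e00000080) (Net.cons (nat_lit 32) (nat_lit 0x116d589000000000a80dd0080000000080049a310000000000048c9a) (Net.cons (nat_lit 64) (nat_lit 0x81081256188506080000000000000000000000000000249c) (Net.cons (nat_lit 128) (nat_lit 0x7ae52e18ac85dcfc85ecbc4eb5009edd) (Net.cons (nat_lit 256) (nat_lit 311263) (Net.cons (nat_lit 128) (nat_lit 40701) (Net.cons (nat_lit 64) (nat_lit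 0x3abccee98ec272a000000000000000040a0ccd84200a6ad) (Net.cons (nat_lit 32) (nat_lit 0x316c5884000000002c8cc01800000000a397182100000000a4162c8e) (Net.cons (nat_lit 16) (nat_lit 0xf00008364000086670000ab110000af400000d79000009e3000001e5f0000a2c0) (Net.cons (nat_lit 8) (nat_lit 0xbe000b00be00070062005d009d008200b40096008c000c00260074008400c5000c) (Net.cons (nat_lit 4) (nat_lit 0x2050f040e000b0d030b00000a0c0f09060a0a0504040f08080e0a03020006000700) (Net.cons (nat_lit 2) (nat_lit 0x112103202320331223113322220131010233222113022321210101000012211020300) (Net.cons (nat_lit 1) (nat_lit 0x150004140444415455104045515404555501445050100455040144110501451000400) Net.nil)))))))))))))))))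

theorem g205_ok : Net.ok 276 g205 = true := by decide +kernel

noncomputable def g206 : Net := (Net.cons (nat_lit 1) (nat_lit 0x44004450101011545150115115040011144445155444010141004045014101000004) (Net.cons (nat_lit 2) (nat_lit 0x21120213322302020110331331203130130102200101223302200200031011101000) (Net.cons (nat_lit 4) (nat_lit 0xb05020609090b090a02060d0a050902010c0a040c000d00090b0601040205000100) (Net.cons (nat_lit 8) (nat_lit 0x9d00ec00e000330057004200030037006a001900d7009b00070056008500e80004) (Net.cons (nat_lit 16) (nat_lit 0xc00009e020000091f0000f795000090ce000085060000c5b000000c1c00000290) (Net.cons (nat_lit 32) (nat_lit 0x2114d910000000005c05b4260000000081e412950000000000010e30) (Net.cons (nat_lit 64) (nat_lit 0xc1085a200926810300000000000000000000000000041009) (Net.cons (nat_lit 128) (nat_lit 0xd8053268063f102cc8e89009b869254) (Net.cons (nat_lit 256) (nat_lit 515839) (Net.cons (nat_lit 128) (nat_lit 177733) (Net.cons (nat_lit 64) (nat_lit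 0x998d3bbe2976848800000000000000004ff081c004189219) (Net.cons (nat_lit 32) (nat_lit 0x61289787000000001d4478b40000000095b09693000000000811ce78) (Net.cons (nat_lit 16) (nat_lit 0xc0000d6570000454b0000b7840000d5fe0000e5e20000ccb400005c1c00000af4) (Net.cons (nat_lit 8) (nat_lit 0x9900e000e50077005b000200060032006e005900db00db0003005600c900ec0045) (Net.cons (nat_lit 4) (nat_lit 0xe05020709090f0b0e03020c0a040902050d0a0409000d05090b0705040201030500) (Net.cons (nat_lit 2) (nat_lit 0x21120213323312020110333331203130130102301101222202200300031011101000) (Net.cons (nat_lit 1) (nat_lit 0x44004450101011555150115115040011144445155444010141004045014101000004) Net.nil)))))))))))))))))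

theorem g206_ok : Net.ok 276 g206 = true := by decide +kernel

noncomputable def ht_c8_K : List Net := [g201, g202, g203, g204, g205, g206]

theorem ht_c8_K_ok : okE 276 ht_c8_K = true := (okE_cons.2 ⟨g201_ok, (okE_cons.2 ⟨g202_ok, (okE_cons.2 ⟨g203_ok, (okE_cons.2 ⟨g204_ok, (okE_cons.2 ⟨g205_ok, (okE_cons.2 ⟨g206_ok, (okE_nil 276)⟩)⟩)⟩)⟩)⟩)⟩)

noncomputable def ht_c8_cnt_EG : List Net := [g36, g37, g38, g39, g40, g41, g42, g35]

theorem ht_c8_cnt_EG_ok : okE 276 ht_c8_cnt_EG = true := (okE_cons.2 ⟨g36_ok, (okE_cons.2 ⟨g37_ok, (okE_cons.2 ⟨g38_ok, (okE_cons.2 ⟨g39_ok, (okE_cons.2 ⟨g40_ok, (okE_cons.2 ⟨g41_ok, (okE_cons.2 ⟨g42_ok, (okE_cons.2 ⟨g35_ok, (okE_nil 276)⟩)⟩)⟩)⟩)⟩)⟩)⟩)⟩)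

noncomputable def g208 : Net := (Net.cons (nat_lit 1) (nat_lit 0x51441011144445511154444141451100101414004011414015141501514440504054) (Net.cons (nat_lit 2) (nat_lit 0x323131233301120321010301030212110012312133203311101132202233032030030) (Net.cons (nat_lit 4) (nat_lit 0x70c0c0909050f040b000601070908050807030f0f03050d05090800020004040102) (Net.cons (nat_lit 8) (nat_lit 0xf007a00cb009f005000d800df00f3006a00110042000c005c0007004000050009) (Net.cons (nat_lit 16) (nat_lit 0x20000a02600001e4c0000cf7a000016c4000034790000c1a80000240800000200) (Net.cons (nat_lit 32) (nat_lit 0x4264496e0000000023c9372b000000000231007000000000000b0168) (Net.cons (nat_lit 64) (nat_lit 0x242518492e00835b000000000000000000000000000b0e98) (Net.cons (nat_lit 128) (nat_lit 0xf65b4a41ec51ac364026938883b935de) (Net.cons (nat_lit 256) (nat_lit 0xf7ffe) (Net.cons (nat_lit 128) (nat_lit 77367) (Net.cons (nat_lit 64) (nat_lit 0x35e413fcfa81c06000000000000000082440507e723b2cf) (Net.cons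 (nat_lit 32) (nat_lit 0xf5c5ec5300000000839dff260000000083f52e99000000005d54fdc8) (Net.cons (nat_lit 16) (nat_lit 0x80000043400004d2f000086fb000041750000631b0000d1af0000ba860000b8b4) (Net.cons (nat_lit 8) (nat_lit 0xe700cc00b80071007200d8000d00490016008a007800da007a001a00a100e00063) (Net.cons (nat_lit 4) (nat_lit 0x2090a0d0e0c070c0c090a0d0a0a000e060e06020a0f030007050a0707080b040404) (Net.cons (nat_lit 2) (nat_lit 0x120132232031333000322102202110003130312120322322123111220022113131001) (Net.cons (nat_lit 1) (nat_lit 0x15045514110554550144141100451000105150011011440404551415500115055405) Net.nil)))))))))))))))))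

theorem g208_ok : Net.ok 276 g208 = true := by decide +kernel

noncomputable def g209 : Net := (Net.cons (nat_lit 1) (nat_lit 0x441041401150450045001155550450050050010101104050411454045140504115004) (Net.cons (nat_lit 2) (nat_lit 0x31113231033231311001012231102233203013000101210220132011202230030310) (Net.cons (nat_lit 4) (nat_lit 0x50b050c030e01060804070a0f03020701030304070503070b09000109040c020d09) (Net.cons (nat_lit 8) (nat_lit 0x8d000f0010009f0011002f00ce001e0052001000b30062007a0028003a00800005) (Net.cons (nat_lit 16) (nat_lit 0x90000180c0000969b000008d60000915a0000fad20000f603000026b000005680) (Net.cons (nat_lit 32) (nat_lit 0x250ba8b6000000006ad015df00000000026657a1000000000003400c) (Net.cons (nat_lit 64) (nat_lit 0xc48442201a5804000000000000000000000000000081328) (Net.cons (nat_lit 128) (nat_lit 0x3d2e11b47fe51c8b404457deda597412) (Net.cons (nat_lit 256) (nat_lit 753598) (Net.cons (nat_lit 128) (nat_lit 176210) (Net.cons (nat_lit 64) (nat_lit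 0xbd5b36b481ac4a310000000000000000a32b042f500e68ca) (Net.cons (nat_lit 32) (nat_lit 0xe8d3436c000000009b9f151d00000000b84f63a70000000097c13f05) (Net.cons (nat_lit 16) (nat_lit 0xc00003cbb00006f81000055890000a02a0000d9f20000db44000011550000962c) (Net.cons (nat_lit 8) (nat_lit 0x1200cb00850080008700ea00dd005200d900f1006000da0045000500fb001f00f4) (Net.cons (nat_lit 4) (nat_lit 0xc05010b060406030e0f0e040a0204060b090f0d0b0c0b0804080703050f0a0b0f) (Net.cons (nat_lit 2) (nat_lit 0x121223102110330013120100102122101212332132333221212033020220001020001) (Net.cons (nat_lit 1) (nat_lit 0x404444140540555140110014451114415051154145410405104454000414404454510) Net.nil)))))))))))))))))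

theorem g209_ok : Net.ok 276 g209 = true := by decide +kernel

noncomputable def g210 : Net := (Net.cons (nat_lit 1) (nat_lit 0x550445451150105441455505011141440144450455001451141045555000505401010) (Net.cons (nat_lit 2) (nat_lit 0x310132303203231323211220013203201120203323202020201012111233301032030) (Net.cons (nat_lit 4) (nat_lit 0xb0504010101090607000a0a080c0f070e09060f07090e0f0e0805020803040e0501) (Net.cons (nat_lit 8) (nat_lit 0x8100cc005e00360055008b00980070007000dc0028005a008b004a000c00400004) (Net.cons (nat_lit 16) (nat_lit 0x9000062eb000080f6000073a90000ee790000ba210000e0050000200200002400) (Net.cons (nat_lit 32) (nat_lit 0x8d88ad710000000064ac30a000000000004627b300000000000f8524) (Net.cons (nat_lit 64) (nat_lit 0x31080d8e5980a1c0000000000000000000000000000a5200) (Net.cons (nat_lit 128) (nat_lit 0x7eb46fa126c8da1cc38fa06f7d1facd6) (Net.cons (nat_lit 256) (nat_lit 0xffff7) (Net.cons (nat_lit 128) (nat_lit 890234) (Net.cons (nat_lit 64)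 (nat_lit 0xca7e05ec224c045200000000000000001be6d0508c91c46f) (Net.cons (nat_lit 32) (nat_lit 0xe6f4d9be00000000b3530235000000008a91631a00000000e4cbe732) (Net.cons (nat_lit 16) (nat_lit 0x200009bc50000e49a000025eb00007c2f0000f0780000706500009bad000060cc) (Net.cons (nat_lit 8) (nat_lit 0x7600cf001000960002006800c2001300e500da000300f0002800480063003f0002) (Net.cons (nat_lit 4) (nat_lit 0x80401060004050809070a09010f00020e050e050e030d050001050508010d07030d) (Net.cons (nat_lit 2) (nat_lit 0x220130033201231203100023333100223333013332110332121322301032022002032) (Net.cons (nat_lit 1) (nat_lit 0x154555105115115011541450000400055140511040500004140440045444454115411) Net.nil)))))))))))))))))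

theorem g210_ok : Net.ok 276 g210 = true := by decide +kernel

noncomputable def g211 : Net := (Net.cons (nat_lit 1) (nat_lit 0x444010010000110441505455051544405415015550455454441014411141401440450) (Net.cons (nat_lit 2) (nat_lit 0x231122032303320012233203022102013233300112120011303302332021320300200) (Net.cons (nat_lit 4) (nat_lit 0x30e0d0e07080a0603080c0d0b04060c0d05000903060004020d0001040409080002) (Net.cons (nat_lit 8) (nat_lit 0x7100d200f6009100cd00d500e9003d00a900490092006d00a4000400020027000d) (Net.cons (nat_lit 16) (nat_lit 0xa000049c3000092fa0000129a00009ae30000e7c5000024da000040000000a400) (Net.cons (nat_lit 32) (nat_lit 0x51342889000000004214439600000000a8d2435f000000000008a58e) (Net.cons (nat_lit 64) (nat_lit 0x20d248058d872a20000000000000000000000000005a985) (Net.cons (nat_lit 128) (nat_lit 0xf9591a752747cb45d7836040c8833d0) (Net.cons (nat_lit 256) (nat_lit 0xfffdf) (Net.cons (nat_lit 128) (nat_lit 569995) (Net.cons (nat_lit 64) (nat_lit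 0x391163c8144671510000000000000000b61aa1390810f3c2) (Net.cons (nat_lit 32) (nat_lit 0x862155ee000000005f03ddae00000000d6cb332f00000000c6c0d578) (Net.cons (nat_lit 16) (nat_lit 0xc0000a46400004bad000004fd00000f16000046b0000081480000008a0000eac4) (Net.cons (nat_lit 8) (nat_lit 0xef000a003c00d6000e00f200f5009300da00eb00f600060099008500b6006f001f) (Net.cons (nat_lit 4) (nat_lit 0x4050300030e0f050606060f06080b020508090b04070103060e030f04070d030903) (Net.cons (nat_lit 2) (nat_lit 0x200230103201301113202201133100132310120022101221201203303320120300121) (Net.cons (nat_lit 1) (nat_lit 0x504515115515040504500554100111514015004544505115500011450101001550415) Net.nil)))))))))))))))))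

theorem g211_ok : Net.ok 276 g211 = true := by decide +kernel

noncomputable def g212 : Net := (Net.cons (nat_lit 1) (nat_lit 0x411545001504100441111140544045415151555401155545445044451045001400050) (Net.cons (nat_lit 2) (nat_lit 0x213210322000103333312300211321203023123330330103123003022302032232220) (Net.cons (nat_lit 4) (nat_lit 0x607040f04080b070307040b0e060f070b030405010202040f0f0f0b07040e070905) (Net.cons (nat_lit 8) (nat_lit 0x9d003f0078003d002d00a9002200820099000d006f006a000d00ad00cc00a00004) (Net.cons (nat_lit 16) (nat_lit 0x10000c3620000955c00002f9500003f810000549b0000f8e40000b110000000b0) (Net.cons (nat_lit 32) (nat_lit 0xe704a7a1000000008ed2c2e4000000000368f562000000000004a86a) (Net.cons (nat_lit 64) (nat_lit 0x1a04843152846402000000000000000000000000000e5710) (Net.cons (nat_lit 128) (nat_lit 0x7caf73dc5348f535c383862580bc82d8) (Net.cons (nat_lit 256) (nat_lit 983035) (Net.cons (nat_lit 128) (nat_lit 590258) (Net.cons (nat_lit 64)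 (nat_lit 0x9c388f9f63e022b50000000000000000ad8bc5286460a4fe) (Net.cons (nat_lit 32) (nat_lit 0xa331a1720000000042e4b07800000000a6835fe200000000093b7c0a) (Net.cons (nat_lit 16) (nat_lit 0x200000015000015440000f617000037b5000038e50000b4430000b2320000d1d5) (Net.cons (nat_lit 8) (nat_lit 0xcc00d600bb004d00e0004b0032006b002a00f30077004e0099007600a800450061) (Net.cons (nat_lit 4) (nat_lit 0xa0e0200080a0204040a02020500030204020c0c010900060001020f05080b080900) (Net.cons (nat_lit 2) (nat_lit 0x13300013300130233113303322211020201111232221100203202233220220023332) (Net.cons (nat_lit 1) (nat_lit 0x515011505054405045041001151011444445145110115505001440051004001114154) Net.nil)))))))))))))))))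

theorem g212_ok : Net.ok 276 g212 = true := by decide +kernel

noncomputable def ht_c9_K : List Net := [g209, g210, g211, g212]

theorem ht_c9_K_ok : okE 276 ht_c9_K = true := (okE_cons.2 ⟨g209_ok, (okE_cons.2 ⟨g210_ok, (okE_cons.2 ⟨g211_ok, (okE_cons.2 ⟨g212_ok, (okE_nil 276)⟩)⟩)⟩)⟩)

noncomputable def g214 : Net := (Net.cons (nat_lit 1) (nat_lit 0x404511100001441445100505115055555055044450511501041051050415050011100) (Net.cons (nat_lit 2) (nat_lit 0x211030123002200113102123221110121022200221013222301230321112200023300) (Net.cons (nat_lit 4) (nat_lit 0x30e0d030c0604000007070d090c0509040f0506030a0b0606040b0d080c0601080c) (Net.cons (nat_lit 8) (nat_lit 0x7d004900e700da00190096004a007500c900ec00a2008e006e000700ce00120009) (Net.cons (nat_lit 16) (nat_lit 0x600006d030000840c0000de58000048550000de8400006c920000725300006400) (Net.cons (nat_lit 32) (nat_lit 0x6bca2005000000004d10c6b4000000002142be37000000000004d054) (Net.cons (nat_lit 64) (nat_lit 0xc2502426400094b200000000000000000000000000042c26)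 (Net.cons (nat_lit 128) (nat_lit 0x159c76130192abb2cec94335d321166e) (Net.cons (nat_lit 256) (nat_lit 523902) (Net.cons (nat_lit 128) (nat_lit 335907) (Net.cons (nat_lit 64) (nat_lit 0xcef52470a5a527e100000000000000009306e6d4ecf40fd3) (Net.cons (nat_lit 32) (nat_lit 0xdc40af800000000383d8cc500000000c5f1de21000000002c1418f5) (Net.cons (nat_lit 16) (nat_lit 0x90000495600009bbb000012040000b84c0000ca6f0000e3040000c1ae0000f0e4) (Net.cons (nat_lit 8) (nat_lit 0x1f00c90091008b0094003600c3001f0010000000d10028002900030013008c00b1) (Net.cons (nat_lit 4) (nat_lit 0xc080d090306010a0a020303030c0305010e0701050c0e0c0604040c0e0f03030d05) (Net.cons (nat_lit 2) (nat_lit 0x112001003202323003011100001210300213213013120323210101311233202202303) (Net.cons (nat_lit 1) (nat_lit 0x544545441015000110010154551441111504054040115041451411554144051150551) Net.nil)))))))))))))))))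

theorem g214_ok : Net.ok 276 g214 = true := by decide +kernel

noncomputable def g215 : Net := (Net.cons (nat_lit 1) (nat_lit 0x540510041445101005411414455104555450405504544115151004140055440500150) (Net.cons (nat_lit 2) (nat_lit 0x32203021232211223101301313013103123103332312333201000331133021021000) (Net.cons (nat_lit 4) (nat_lit 0xa060708060300060704040c0104020b070002000706050b0b0f0301070c060c0300) (Net.cons (nat_lit 8) (nat_lit 0x6d00e4007b001a00a600e0006900cd00fc0045007e00fc00e20084004100240009) (Net.cons (nat_lit 16) (nat_lit 0x6000022450000af5c000046d1000093c400001a0600008e020000401100001010) (Net.cons (nat_lit 32) (nat_lit 0xb28ed0d2000000006e057c19000000005907970d00000000000a60c6) (Net.cons (nat_lit 64) (nat_lit 0x16154319021cc26100000000000000000000000000044865) (Net.cons (nat_lit 128) (nat_lit 0xa0b96c2a520a871976860755fd9e5618) (Net.cons (nat_lit 256) (nat_lit 0xf7eff) (Net.cons (nat_lit 128) (nat_lit 671356) (Net.cons (nat_lit 64)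 (nat_lit 0x5f324caea8271a0400000000000000005928e7a034977264) (Net.cons (nat_lit 32) (nat_lit 0x3c0e37b40000000075beee1f000000006840bf1800000000e7e49e35) (Net.cons (nat_lit 16) (nat_lit 0xa000059620000b3fd000068c50000756f000013a500000e560000a53400006b43) (Net.cons (nat_lit 8) (nat_lit 0x4400af00440046002200d7001200ca0087000900c2006600b0005a003400520091) (Net.cons (nat_lit 4) (nat_lit 0x30a0f0e07030e0d0500010d09050608020f00020f0609080f0c0601030b0e06010b) (Net.cons (nat_lit 2) (nat_lit 0x21200101122213203203120232113010301223211300212021233011211013330030) (Net.cons (nat_lit 1) (nat_lit 0x504114544411110044401111414100455454141551544041540414054041115051501) Net.nil)))))))))))))))))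

theorem g215_ok : Net.ok 276 g215 = true := by decide +kernel

noncomputable def g216 : Net := (Net.cons (nat_lit 1) (nat_lit 0x110005545410500014114405111451104115014041004544410105505114510150154) (Net.cons (nat_lit 2) (nat_lit 0x310301223213123131200130331122023120113323001231212332021212002013110) (Net.cons (nat_lit 4) (nat_lit 0xc0d070901060d0004000e0c010c0c0206090e01050e0409010b01000002040e03) (Net.cons (nat_lit 8) (nat_lit 0x1e00cc008e00d90093007c0081009e00280020005d002f005c005b008200a60004) (Net.cons (nat_lit 16) (nat_lit 0x40000ddbd0000103c000078b700002abb00008a85000029cc0000b04800002090) (Net.cons (nat_lit 32) (nat_lit 0x32dc715c000000007734984a000000004130e70a0000000000020db1) (Net.cons (nat_lit 64) (nat_lit 0x91000214309b24460000000000000000000000000005e250) (Net.cons (nat_lit 128) (nat_lit 0x5073c4a702aa5e0fc40177c86f46d0e) (Net.cons (nat_lit 256) (nat_lit 524287) (Net.cons (nat_lit 128) (nat_lit 112416) (Net.cons (nat_lit 64) (nat_lit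 0x9b4d869e49aa4ac20000000000000000756d9d10f2342ab3) (Net.cons (nat_lit 32) (nat_lit 0xf5b3745c00000000e7a9870c00000000b03b66d300000000d3ac8f4a) (Net.cons (nat_lit 16) (nat_lit 0xa0000871100004a5b0000e32e0000281000002f1300004cd60000681a00007206) (Net.cons (nat_lit 8) (nat_lit 0x9d003200bc005c00d4007c001100ed00e200b700cc0036005d004900930026004a) (Net.cons (nat_lit 4) (nat_lit 0x50b090f020007030a0905070e070104090e060e0c01040800050a0a0800020c0004) (Net.cons (nat_lit 2) (nat_lit 0x302313101211233003103001303322223123200113011012312110123332033020013) (Net.cons (nat_lit 1) (nat_lit 0x14055100140101454400040105004145055511140044510510015105550104415454) Net.nil)))))))))))))))))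

theorem g216_ok : Net.ok 276 g216 = true := by decide +kernel

noncomputable def g217 : Net := (Net.cons (nat_lit 1) (nat_lit 0x511001141140545145011400515540100015411510401440540445014401410001000) (Net.cons (nat_lit 2) (nat_lit 0x123220220200132310311132001023103221203222022022011320120012000000000) (Net.cons (nat_lit 4) (nat_lit 0x7080e03000e0f090c060404020e090900070e06000d020e080c0602000b00040000) (Net.cons (nat_lit 8) (nat_lit 0x170042007300b700d500ad00d700ba000500cb00a4009a00d50060002100000000) (Net.cons (nat_lit 16) (nat_lit 0x4000023da000074c800008d480000389b000029e50000ec98000030b000008000) (Net.cons (nat_lit 32) (nat_lit 0x858084c4000000000d5b5b0e000000000913ed200000000000059801) (Net.cons (nat_lit 64) (nat_lit 0x8480d4030611800000000000000000000000000000038a80) (Net.cons (nat_lit 128) (nat_lit 0x3b129da2865186ec979e493589c04096) (Net.cons (nat_lit 256) (nat_lit 514711) (Net.cons (nat_lit 128) (nat_lit 286970) (Net.cons (nat_lit 64)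 (nat_lit 0x9e05703ba7b906c00000000000000004d0d2960444bcfc0) (Net.cons (nat_lit 32) (nat_lit 0xc884ad7e0000000089575327000000008d3fed9500000000ac0d9827) (Net.cons (nat_lit 16) (nat_lit 0x800002ada0000fdc100002dcc0000f99f000029e100007d9c0000b1b400008804) (Net.cons (nat_lit 8) (nat_lit 0x3700ca00f7003f00dd00a500df00b2000d004b00a0001200dd006800290010008c) (Net.cons (nat_lit 4) (nat_lit 0x7080e03000e0f090c060404020e090900070e06040d020e080c0602000b00060400) (Net.cons (nat_lit 2) (nat_lit 0x123230220200132310311132001023103221203222022022011320120012000000000) (Net.cons (nat_lit 1) (nat_lit 0x511001141140545145011400515540100015411510401440540445014401410001000) Net.nil)))))))))))))))))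

theorem g217_ok : Net.ok 276 g217 = true := by decide +kernel

noncomputable def V218 : List Net := [g214, g215, g216, g217]

theorem V218_ok : okE 276 V218 = true := (okE_cons.2 ⟨g214_ok, (okE_cons.2 ⟨g215_ok, (okE_cons.2 ⟨g216_ok, (okE_cons.2 ⟨g217_ok, (okE_nil 276)⟩)⟩)⟩)⟩)

noncomputable def V220 : List Net := [g215, g216, g217]

theorem V220_ok : okE 276 V220 = true := (okE_cons.2 ⟨g215_ok, (okE_cons.2 ⟨g216_ok, (okE_cons.2 ⟨g217_ok, (okE_nil 276)⟩)⟩)⟩)

noncomputable def V221 : List Net := [g216, g217]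

theorem V221_ok : okE 276 V221 = true := (okE_cons.2 ⟨g216_ok, (okE_cons.2 ⟨g217_ok, (okE_nil 276)⟩)⟩)

noncomputable def V222 : List Net := [g217]

theorem V222_ok : okE 276 V222 = true := (okE_cons.2 ⟨g217_ok, (okE_nil 276)⟩)

noncomputable def V223 : List Net := []

theorem V223_ok : okE 276 V223 = true := (okE_nil 276)

noncomputable def ht_c9_cnt_EG : List Net := [g35, g36, g37, g38, g39, g40, g41, g42, g173, g174, g175, g176, g177, g214, g215, g216, g217]

theorem ht_c9_cnt_EG_ok : okE 276 ht_c9_cnt_EG = true := (okE_cons.2 ⟨g35_ok, (okE_cons.2 ⟨g36_ok, (okE_cons.2 ⟨g37_ok, (okE_cons.2 ⟨g38_ok, (okE_cons.2 ⟨g39_ok, (okE_cons.2 ⟨g40_ok, (okE_cons.2 ⟨g41_ok, (okE_cons.2 ⟨g42_ok, (okE_cons.2 ⟨g173_ok, (okE_cons.2 ⟨g174_ok, (okE_cons.2 ⟨g175_ok, (okE_cons.2 ⟨g176_ok, (okE_cons.2 ⟨g177_ok, (okE_cons.2 ⟨g214_ok, (okE_cons.2 ⟨g215_ok, (okE_cons.2 ⟨g216_ok, (okE_cons.2 ⟨g217_ok, (okE_nil 276)⟩)⟩)⟩)⟩)⟩)⟩)⟩)⟩)⟩)⟩)⟩)⟩)⟩)⟩)⟩)⟩)⟩)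

noncomputable def g224 : Net := (Net.cons (nat_lit 1) (nat_lit 0x100414545114511010140014414550000041054405451505511050010101141055040) (Net.cons (nat_lit 2) (nat_lit 0x333210330323013222230001221331013220202220002222300333131012122121010) (Net.cons (nat_lit 4) (nat_lit 0xc0d08010b05030e0206030904020d0d0d090b0b0c0f0906030c0607000b0802070b) (Net.cons (nat_lit 8) (nat_lit 0xe6005600fe00e100c400eb00be00ae00660097006b00f0005d0092004100ba0000) (Net.cons (nat_lit 16) (nat_lit 0x500000b1b000023cc0000c76400003c13000060ce00000004000018b200009f00) (Net.cons (nat_lit 32) (nat_lit 0xb03586d100000000c161924500000000ce1212c00000000000001088) (Net.cons (nat_lit 64) (nat_lit 0x911082918261472a00000000000000000000000000080c88) (Net.cons (nat_lit 128) (nat_lit 0xa50843f3006516975090b42c8a01237d) (Net.cons (nat_lit 256) (nat_lit 786429) (Net.cons (nat_lit 128) (nat_lit 191441) (Net.cons (nat_lit 64) (nat_lit 0xb42c0cb838c4bbb0000000000000000ed96510883692ed1) (Net.cons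 (nat_lit 32) (nat_lit 0xd45cd90000000000c528306700000000eeaba879000000009cf12925) (Net.cons (nat_lit 16) (nat_lit 0x4000030380000e292000003c0000022540000fb810000f2ac0000bb37000036c1) (Net.cons (nat_lit 8) (nat_lit 0x97006d007d002b000a00e7003b006800660026005b009e00550062005300310089) (Net.cons (nat_lit 4) (nat_lit 0xc0006020b050a0b0505080506070c060d0909030f03020c0a000505050407030904) (Net.cons (nat_lit 2) (nat_lit 0x2031332203003123212001201020331010230222301303212230301233122323203) (Net.cons (nat_lit 1) (nat_lit 0x111040111055055004004104110511101005511045541401151150105540554014) Net.nil)))))))))))))))))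

theorem g224_ok : Net.ok 276 g224 = true := by decide +kernel

noncomputable def g225 : Net := (Net.cons (nat_lit 1) (nat_lit 0x140144441444414141505550450450154544005141051451150540545405141414404) (Net.cons (nat_lit 2) (nat_lit 0x202232013311200322112210320200111203111110011122221112311200302030320) (Net.cons (nat_lit 4) (nat_lit 0x506090807020706090704010e0b01020709050309030104040b04030e0b01070602) (Net.cons (nat_lit 8) (nat_lit 0xa70012003000300010000e0028006400af0006004d001c0040000200ce00200001) (Net.cons (nat_lit 16) (nat_lit 0xd0000014b00003e8f0000d2d800002024000041070000527100008c0000007180) (Net.cons (nat_lit 32) (nat_lit 0x5a40f70600000000499e204f000000009c232c080000000000028644) (Net.cons (nat_lit 64) (nat_lit 0x4019024b804814ad000000000000000000000000000f260a) (Net.cons (nat_lit 128) (nat_lit 0x5686149dae4fb599339b07722d003ecd) (Net.cons (nat_lit 256) (nat_lit 0xfffff) (Net.cons (nat_lit 128) (nat_lit 339003) (Net.cons (nat_lit 64)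 (nat_lit 0xe9c89b35ee4560ff00000000000000002f37f9d59000e50e) (Net.cons (nat_lit 32) (nat_lit 0x79f8f2200000000e0f722c70000000000033be000000000d189b63b) (Net.cons (nat_lit 16) (nat_lit 0x600005e9400007b7c0000ef1800001a320000c8d70000f0b20000046000004963) (Net.cons (nat_lit 8) (nat_lit 0x45009d00df00a700cb006e001700780041000600e600e2008000c400fd0074000d) (Net.cons (nat_lit 4) (nat_lit 0x304050c0d080205050e0b09050b080901040401030c0e0b030f05080a0e00070d05) (Net.cons (nat_lit 2) (nat_lit 0x122132310003220030000300021010121233202011232000330013010301112033130) (Net.cons (nat_lit 1) (nat_lit 0x451114401500114051555410540454401555014140504111504540115511105515040) Net.nil)))))))))))))))))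

theorem g225_ok : Net.ok 276 g225 = true := by decide +kernel

noncomputable def g226 : Net := (Net.cons (nat_lit 1) (nat_lit 0x4051554015554444500444055115014515041454014004410014455555155110140) (Net.cons (nat_lit 2) (nat_lit 0x3031311222223123210120112213010122123001001123131013220010223101000) (Net.cons (nat_lit 4) (nat_lit 0xb0d010d02020c05080d0b02080b01030a0c09090c0007070001000809080a0d0d0a) (Net.cons (nat_lit 8) (nat_lit 0x350034009b00e800dc0036006800b0007100670085003500830030008900340000) (Net.cons (nat_lit 16) (nat_lit 0xc0000e5f00000bf090000b16e000006120000422a0000de6900009c5b00000000) (Net.cons (nat_lit 32) (nat_lit 0x8b6c016900000000ca049d860000000081a576930000000000004d60) (Net.cons (nat_lit 64) (nat_lit 0x1e45c8da2925a82000000000000000000000000000050206) (Net.cons (nat_lit 128) (nat_lit 0x3f9b899301a0560421c4526df8976815) (Net.cons (nat_lit 256) (nat_lit 0xf6ff7) (Net.cons (nat_lit 128) (nat_lit 54503) (Net.cons (nat_lit 64) (nat_lit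 0x904dac6509d913a700000000000000008e2d537e2d85604b) (Net.cons (nat_lit 32) (nat_lit 0x35db29400000000090972cd400000000a0ffc2750000000075cc7f9c) (Net.cons (nat_lit 16) (nat_lit 0x30000c45f00009fc20000d87a00008e140000cec2000082a90000bc5200005f04) (Net.cons (nat_lit 8) (nat_lit 0xbc0028008400310019007f004900e000220057006c006400ab00e6003a002000cc) (Net.cons (nat_lit 4) (nat_lit 0x50309070307010e0a030d070d0f0d0d030a0e030b000f04080a050b06000c03070d) (Net.cons (nat_lit 2) (nat_lit 0x220031031031221123221201302013311020232002201032320022011101113333003) (Net.cons (nat_lit 1) (nat_lit 0x454454140055440444445141441141051405445544451101144440104114041111105) Net.nil)))))))))))))))))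

theorem g226_ok : Net.ok 276 g226 = true := by decide +kernel

noncomputable def g227 : Net := (Net.cons (nat_lit 1) (nat_lit 0x105515445541041451441014511540510110040514454014554544405505510110054) (Net.cons (nat_lit 2) (nat_lit 0x112133300311101312031110100130131111002022101210220311223011320203200) (Net.cons (nat_lit 4) (nat_lit 0x70f090d0e0e030c030d04090f070b0505010f0403000104070e020c090904010003) (Net.cons (nat_lit 8) (nat_lit 0x9a00750094007e007800ab00c3008a0030005500c80058007e0028006c00d40006) (Net.cons (nat_lit 16) (nat_lit 0x400004d920000fbf200009240000012240000a5720000cea200000e070000c200) (Net.cons (nat_lit 32) (nat_lit 0x6752a5e6000000002329903500000000c618ef6600000000000a12aa) (Net.cons (nat_lit 64) (nat_lit 0x2751200185ea06000000000000000000000000000a2568) (Net.cons (nat_lit 128) (nat_lit 0x94301848738bf7eb4c8fe7af4214da56) (Net.cons (nat_lit 256) (nat_lit 0xffffe) (Net.cons (nat_lit 128) (nat_lit 973546) (Net.cons (nat_lit 64) (nat_lit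 0x356370804d07b1900000000000000000cbbff3021d038556) (Net.cons (nat_lit 32) (nat_lit 0x3a36297300000000967f3a1900000000571af19200000000e8ce0752) (Net.cons (nat_lit 16) (nat_lit 0x5000096930000d651000069110000b14a00004a750000acf500003ddb0000d786) (Net.cons (nat_lit 8) (nat_lit 0x690042009500b4004d00700014003000f4001c00c400dc003c00a800d000690027) (Net.cons (nat_lit 4) (nat_lit 0x5040b0d0f0307070a07090209070b07070b0b0802040e0107060c040d090e080e0d) (Net.cons (nat_lit 2) (nat_lit 0x230122000033220202200010313211211031110122100112010130221311323200130) (Net.cons (nat_lit 1) (nat_lit 0x504011551440554410111455504405500000141540510555100400504541541104445) Net.nil)))))))))))))))))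

theorem g227_ok : Net.ok 276 g227 = true := by decide +kernel

noncomputable def g228 : Net := (Net.cons (nat_lit 1) (nat_lit 0x111040011115400510150015405454105504110155000554414110000100544455400) (Net.cons (nat_lit 2) (nat_lit 0x202121302130122003022031110223010211131012033011200032001010102000210) (Net.cons (nat_lit 4) (nat_lit 0xe01010803080d0e0102000e020a0c01010a080d01010b0508090a06010a08080608) (Net.cons (nat_lit 8) (nat_lit 0x9700e300bd00f800ee009c004a001f005b00d4008300d800950056007b00ac0008) (Net.cons (nat_lit 16) (nat_lit 0xe00000aaf000057230000d9e100006d7a0000b61f00003c900000309400002020) (Net.cons (nat_lit 32) (nat_lit 0x2bebc94e00000000480b044100000000893ab46300000000000b0459) (Net.cons (nat_lit 64) (nat_lit 0xcc870284b17bd580000000000000000000000000005c4c8) (Net.cons (nat_lit 128) (nat_lit 0xa24d73a60a404b80de858d0ae1d80562) (Net.cons (nat_lit 256) (nat_lit 0xff7fb) (Net.cons (nat_lit 128) (nat_lit 520351) (Net.cons (nat_lit 64)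 (nat_lit 0x1ad01cb2a8b44f2a000000000000000007b7c3d54cc5655e) (Net.cons (nat_lit 32) (nat_lit 0x1f19a0e00000000d3a8109600000000833f8daa000000003c655c22) (Net.cons (nat_lit 16) (nat_lit 0x400001db500005be60000938b00005d410000dcc30000aff50000a460000015d3) (Net.cons (nat_lit 8) (nat_lit 0x5600f6003300cf00f200cd00c700cf0060009a00d200ca0074005700e100c10069) (Net.cons (nat_lit 4) (nat_lit 0x800040a0302060005060c0e07070402010c020d0607040d050a0f0602000e03020a) (Net.cons (nat_lit 2) (nat_lit 0x330220021002000213003020221033211333010332233222202221222210021301031) (Net.cons (nat_lit 1) (nat_lit 0x110540011100101551150051004054001045500104404504010051005115444045441) Net.nil)))))))))))))))))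

theorem g228_ok : Net.ok 276 g228 = true := by decide +kernel

noncomputable def g229 : Net := (Net.cons (nat_lit 1) (nat_lit 0x111544450110055001041511040011004105144155111105101450054005140004500) (Net.cons (nat_lit 2) (nat_lit 0x110330022112103320310130000322010123030130022220300003233010200020100) (Net.cons (nat_lit 4) (nat_lit 0x10b070d0a0c0f060c020e08000f0b09080000070f05020e080202020e02080c0807) (Net.cons (nat_lit 8) (nat_lit 0xa200d1001c00f1007200a9000200d10008008500ea003100d80038008c00050000) (Net.cons (nat_lit 16) (nat_lit 0x984b0000d5a50000589b00005a820000048a000021680000261300004060) (Net.cons (nat_lit 32) (nat_lit 0xf18926300000000020084d2800000000908106540000000000008090) (Net.cons (nat_lit 64) (nat_lit 0x471081941509104000000000000000000000000000d87c4) (Net.cons (nat_lit 128) (nat_lit 0xd8f7142ccb4bb785f60a5e758e38c8c5) (Net.cons (nat_lit 256) (nat_lit 905205) (Net.cons (nat_lit 128) (nat_lit 772237) (Net.cons (nat_lit 64) (nat_lit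 0x55318abaf350932400000000000000005870486882accf9c) (Net.cons (nat_lit 32) (nat_lit 0xf98964780000000020ac2f310000000098a98e9e000000000425aedb) (Net.cons (nat_lit 16) (nat_lit 0x30000955a0000f5a50000589b00001ee3000024fa0000693800002a5200004461) (Net.cons (nat_lit 8) (nat_lit 0xe200d1001c00f100f200e9000200910048009400ae00f10098006800cc004500c0) (Net.cons (nat_lit 4) (nat_lit 0x10a070d0a0c0f060e020e08000f0b09080001060f05020e080202020e02080c0807) (Net.cons (nat_lit 2) (nat_lit 0x110230022112003320300120000332010123030120023220300002223011200020100) (Net.cons (nat_lit 1) (nat_lit 0x111554450110055101041511040011004105144155111105101450054005140004500) Net.nil)))))))))))))))))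

theorem g229_ok : Net.ok 276 g229 = true := by decide +kernel

noncomputable def ht_c10_K : List Net := [g225, g226, g227, g228, g229]

theorem ht_c10_K_ok : okE 276 ht_c10_K = true := (okE_cons.2 ⟨g225_ok, (okE_cons.2 ⟨g226_ok, (okE_cons.2 ⟨g227_ok, (okE_cons.2 ⟨g228_ok, (okE_cons.2 ⟨g229_ok, (okE_nil 276)⟩)⟩)⟩)⟩)⟩)

noncomputable def ht_c10_cnt_EG : List Net := [g173, g174, g175, g176, g177, g35, g36, g37, g38, g39, g40, g41, g42, g214, g215, g216, g217]

theorem ht_c10_cnt_EG_ok : okE 276 ht_c10_cnt_EG = true := (okE_cons.2 ⟨g173_ok, (okE_cons.2 ⟨g174_ok, (okE_cons.2 ⟨g175_ok, (okE_cons.2 ⟨g176_ok, (okE_cons.2 ⟨g177_ok, (okE_cons.2 ⟨g35_ok, (okE_cons.2 ⟨g36_ok, (okE_cons.2 ⟨g37_ok, (okE_cons.2 ⟨g38_ok, (okE_cons.2 ⟨g39_ok, (okE_cons.2 ⟨g40_ok, (okE_cons.2 ⟨g41_ok, (okE_cons.2 ⟨g42_ok, (okE_cons.2 ⟨g214_ok, (okE_cons.2 ⟨g215_ok, (okE_cons.2 ⟨g216_ok, (okE_cons.2 ⟨g217_ok, (okE_nil 276)⟩)⟩)⟩)⟩)⟩)⟩)⟩)⟩)⟩)⟩)⟩)⟩)⟩)⟩)⟩)⟩)⟩)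

noncomputable def g231 : Net := (Net.cons (nat_lit 1) (nat_lit 0x11040514040500144145410511410411400044000550154040554500045505010004) (Net.cons (nat_lit 2) (nat_lit 0x221032122312100032311123303330013022232100200233033030132101321301010) (Net.cons (nat_lit 4) (nat_lit 0x90e0d05060b000606050d060d080d010b07000b0403010d0b050a0a0b0d01080509) (Net.cons (nat_lit 8) (nat_lit 0xa800a6004a0096004a005e00f5005300fb004c00f7004100c9002a005200260000) (Net.cons (nat_lit 16) (nat_lit 0x20000debb000040920000f6210000bd7500006d5600000948000014b00000c8a0) (Net.cons (nat_lit 32) (nat_lit 0xd5d740f00000000c289ab520000000016816c1b00000000000ba225) (Net.cons (nat_lit 64) (nat_lit 0x30250269458a047e00000000000000000000000000040019) (Net.cons (nat_lit 128) (nat_lit 0x911a19c9d7bfe309663d2232b2219ac2) (Net.cons (nat_lit 256) (nat_lit 0xffaff) (Net.cons (nat_lit 128) (nat_lit 335734) (Net.cons (nat_lit 64) (nat_lit 0x2720409c7c60c82100000000000000009d1c03f9a68e77b7) (Net.cons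 (nat_lit 32) (nat_lit 0x4acd510b000000008137045800000000d11073f20000000026167fd8) (Net.cons (nat_lit 16) (nat_lit 0xe0000bfb50000a69a0000c7540000f96500007df9000089a90000cbed0000e51e) (Net.cons (nat_lit 8) (nat_lit 0x2800aa000c008100e500e3006e00a200e000ab009500cb00d7002b00180015003f) (Net.cons (nat_lit 4) (nat_lit 0xb0b0401040f090c0000070a0709030f0802080603050f07030d0e01000d020a0903) (Net.cons (nat_lit 2) (nat_lit 0x323033231212022331320032133030330303021000213300012311012310310223202) (Net.cons (nat_lit 1) (nat_lit 0x155515411150555541404044011510111104415011005145000055041555104505045) Net.nil)))))))))))))))))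

theorem g231_ok : Net.ok 276 g231 = true := by decide +kernel

noncomputable def g232 : Net := (Net.cons (nat_lit 1) (nat_lit 0x450404540010551105505010041001104141010110414500504515441404051444044) (Net.cons (nat_lit 2) (nat_lit 0x102122001112011212131332311200003022332223032322221303201120103022000) (Net.cons (nat_lit 4) (nat_lit 0x90b0b03070308020d0d07050a0f030f000e000d0e09070e070c0e0808080a000000) (Net.cons (nat_lit 8) (nat_lit 0xf5006e000400a700bd00fc00cb00e700580049009c005a00a500c1000600230001) (Net.cons (nat_lit 16) (nat_lit 0xd000036490000275c000012f80000c57c00003a870000100b0000ed8000008920) (Net.cons (nat_lit 32) (nat_lit 0x81814eb000000000a705472e00000000b4861a850000000000004f01) (Net.cons (nat_lit 64) (nat_lit 0x2a438402025af790000000000000000000000000008c8e1) (Net.cons (nat_lit 128) (nat_lit 0x8ceb1947519b2acd1f0e258022f4b7ba) (Net.cons (nat_lit 256) (nat_lit 983035) (Net.cons (nat_lit 128) (nat_lit 673166) (Net.cons (nat_lit 64) (nat_lit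 0x6791c8bdc9e74870000000000000000720bfb2e95e6664c) (Net.cons (nat_lit 32) (nat_lit 0xa8a1101200000000876516a8000000006b158263000000008266bdaf) (Net.cons (nat_lit 16) (nat_lit 0xf0000ea7500009dbc0000b9d20000385c000041b40000b6d20000b05100004f7d) (Net.cons (nat_lit 8) (nat_lit 0x6d004d00df002c0047003c00b9008800ad0089001e0092005c003c009600fa00e7) (Net.cons (nat_lit 4) (nat_lit 0x8060e0c07040a08090205080a02050c0e070502060b0404020c060c0805000c030f) (Net.cons (nat_lit 2) (nat_lit 0x302232311013111230031132331111001313110330300120101023301011203100133) (Net.cons (nat_lit 1) (nat_lit 0x411441500504510515055411001541514505441144555041455411144555444151515) Net.nil)))))))))))))))))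

theorem g232_ok : Net.ok 276 g232 = true := by decide +kernel

noncomputable def g233 : Net := (Net.cons (nat_lit 1) (nat_lit 0x515404044111514145114115504550415054054541114401144045104551555544514) (Net.cons (nat_lit 2) (nat_lit 0x311120003231222333030212132112011033022131122123101302022102122133200) (Net.cons (nat_lit 4) (nat_lit 0x204010d07060e0e0a090902090d0804020d0a0b070208040e040e0c0904090b0004) (Net.cons (nat_lit 8) (nat_lit 0x7000b009200d4008a001c0070009e00f600a4005100fe007900cc008100000004) (Net.cons (nat_lit 16) (nat_lit 0x300001bbf0000565600004e550000bd2a0000a3ba0000ae0000002f2b00008800) (Net.cons (nat_lit 32) (nat_lit 0xda3385dc000000000c298006000000002e8602940000000000020a61) (Net.cons (nat_lit 64) (nat_lit 0x22c154510000ecaf0000000000000000000000000000cc81) (Net.cons (nat_lit 128) (nat_lit 0x98247f4d47c84c7daff7ab9ec2cbf513) (Net.cons (nat_lit 256) (nat_lit 0xffffb) (Net.cons (nat_lit 128) (nat_lit 149185) (Net.cons (nat_lit 64)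 (nat_lit 0x94c8f134371e926b0000000000000000bb3bec5ac7690851) (Net.cons (nat_lit 32) (nat_lit 0xf9791fe1000000000d2bb84d00000000e99b809800000000f4d617db) (Net.cons (nat_lit 16) (nat_lit 0x20000d5890000c58600002ed400002add0000588e00006334000092960000d751) (Net.cons (nat_lit 8) (nat_lit 0xaf00d5003100e3001300f9007c00d80053009100f7003100c100f3002d00280039) (Net.cons (nat_lit 4) (nat_lit 0xd0a040d0a020006010707060c080c0e080904070306040a00040f0f05080f0a060d) (Net.cons (nat_lit 2) (nat_lit 0x313203122222003331112112333101323331301102320133131302010120002233111) (Net.cons (nat_lit 1) (nat_lit 0x155141505515451511455405550054105041415144511540014001005410511041150) Net.nil)))))))))))))))))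

theorem g233_ok : Net.ok 276 g233 = true := by decide +kernel

noncomputable def g234 : Net := (Net.cons (nat_lit 1) (nat_lit 0x410004000101105045451505511004000155550401151015544001001041551555550) (Net.cons (nat_lit 2) (nat_lit 0x32200210100300210010131333103233011103232000323300320210131013330300) (Net.cons (nat_lit 4) (nat_lit 0x4030f0a0a0a0000000b0301080500020d09080b07050c03030c0a03040c03020002) (Net.cons (nat_lit 8) (nat_lit 0xa5000f00de006b002800ea002d00960036005d002700e900f0001f002d00000000) (Net.cons (nat_lit 16) (nat_lit 0x20000d19500008bc2000037dd0000803b0000e44d000010500000a18100006520) (Net.cons (nat_lit 32) (nat_lit 0xe509675400000000c65f253e000000003efbff160000000000027288) (Net.cons (nat_lit 64) (nat_lit 0x252305364235249100000000000000000000000000049c25) (Net.cons (nat_lit 128) (nat_lit 0xff834393ee3afcc1026024ac3987f273) (Net.cons (nat_lit 256) (nat_lit 524287) (Net.cons (nat_lit 128) (nat_lit 38997) (Net.cons (nat_lit 64) (nat_lit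 0x383bab13c6b0530600000000000000005bb12b70fe4964d8) (Net.cons (nat_lit 32) (nat_lit 0xd23b59100000000f764a2ed00000000bbb58682000000005037e490) (Net.cons (nat_lit 16) (nat_lit 0x5000012a80000ea34000081cc000092950000dc1f0000712c0000b0900000bc5e) (Net.cons (nat_lit 8) (nat_lit 0x57008d0038004200dd00d2000d006300aa003400ee00fd00e800f900c900940081) (Net.cons (nat_lit 4) (nat_lit 0xf0200090d0e0f080509050509050d06060900010b06090808090c0205000b0e030c) (Net.cons (nat_lit 2) (nat_lit 0x33002310020221311232332210110100313000113121021130031232322123012003) (Net.cons (nat_lit 1) (nat_lit 0x515011500110044405454540551100051544100100115411554041114155100145045) Net.nil)))))))))))))))))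

theorem g234_ok : Net.ok 276 g234 = true := by decide +kernel

noncomputable def g235 : Net := (Net.cons (nat_lit 1) (nat_lit 0x550051544114444154515001551400450011054011111510104550151410141514500) (Net.cons (nat_lit 2) (nat_lit 0x123201122212333221220111101120310310211120232102302021032310313103100) (Net.cons (nat_lit 4) (nat_lit 0x1030c0c0f0306020404000e0f0b00010109030b0b0008080605050f050f05040607) (Net.cons (nat_lit 8) (nat_lit 0x1f000500370031008f00ed00c4000900b9004700a400f8003a0015000200560002) (Net.cons (nat_lit 16) (nat_lit 0x9000002b600002482000075460000b04f00008e0d000022d800003e0c00005580) (Net.cons (nat_lit 32) (nat_lit 0xd146280300000000e4c8100c000000001022dd6000000000000c1910) (Net.cons (nat_lit 64) (nat_lit 0x1028055a5aa940930000000000000000000000000006c026) (Net.cons (nat_lit 128) (nat_lit 0xa740edef2c835ff56dc99248838f5d7) (Net.cons (nat_lit 256) (nat_lit 0xffdf7) (Net.cons (nat_lit 128) (nat_lit 867694) (Net.cons (nat_lit 64)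 (nat_lit 0xa2b47c549d9e901000000000000000003ac1ab4e8fa2b079) (Net.cons (nat_lit 32) (nat_lit 0x9eb772c50000000084ecaaf8000000000fe6f20a0000000032b8851e) (Net.cons (nat_lit 16) (nat_lit 0x9000001d1000057e6000039340000adc90000685f00008ca200000c140000af8e) (Net.cons (nat_lit 8) (nat_lit 0x3e00e50045001600db0064007c00d5005600cd001a0063003f001f002c004e00e4) (Net.cons (nat_lit 4) (nat_lit 0x10b0b020009000604000e060b0b0202020d0c0009020e0a070d050f070b03020705) (Net.cons (nat_lit 2) (nat_lit 0x103213203123321331210012022132023210201333120303122201131132300313110) (Net.cons (nat_lit 1) (nat_lit 0x554104501005005450540455054440405551041045145545545550551540141415410) Net.nil)))))))))))))))))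

theorem g235_ok : Net.ok 276 g235 = true := by decide +kernel

noncomputable def ht_c11_K : List Net := [g232, g231, g233, g234, g235]

theorem ht_c11_K_ok : okE 276 ht_c11_K = true := (okE_cons.2 ⟨g232_ok, (okE_cons.2 ⟨g231_ok, (okE_cons.2 ⟨g233_ok, (okE_cons.2 ⟨g234_ok, (okE_cons.2 ⟨g235_ok, (okE_nil 276)⟩)⟩)⟩)⟩)⟩)

noncomputable def V237 : List Net := []

theorem V237_ok : okE 276 V237 = true := (okE_nil 276)

noncomputable def ht_c11_cnt_EG : List Net := [g35, g36, g37, g38, g39, g40, g41, g42, g173, g174, g175, g176, g177, g214, g215, g216, g217]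

theorem ht_c11_cnt_EG_ok : okE 276 ht_c11_cnt_EG = true := (okE_cons.2 ⟨g35_ok, (okE_cons.2 ⟨g36_ok, (okE_cons.2 ⟨g37_ok, (okE_cons.2 ⟨g38_ok, (okE_cons.2 ⟨g39_ok, (okE_cons.2 ⟨g40_ok, (okE_cons.2 ⟨g41_ok, (okE_cons.2 ⟨g42_ok, (okE_cons.2 ⟨g173_ok, (okE_cons.2 ⟨g174_ok, (okE_cons.2 ⟨g175_ok, (okE_cons.2 ⟨g176_ok, (okE_cons.2 ⟨g177_ok, (okE_cons.2 ⟨g214_ok, (okE_cons.2 ⟨g215_ok, (okE_cons.2 ⟨g216_ok, (okE_cons.2 ⟨g217_ok, (okE_nil 276)⟩)⟩)⟩)⟩)⟩)⟩)⟩)⟩)⟩)⟩)⟩)⟩)⟩)⟩)⟩)⟩)⟩)

noncomputable def g239 : Net := (Net.cons (nat_lit 1) (nat_lit 0x40505541140104451151000104450401440445405110004040010445501410445450) (Net.cons (nat_lit 2) (nat_lit 0x222023201222101201332132301001310322103221120021032200010330312012110) (Net.cons (nat_lit 4) (nat_lit 0x701040a020f060c0300000b060309060e040e08080602030707060e050207000201) (Net.cons (nat_lit 8) (nat_lit 0xd000b40014004c00c100390080006500f300d800b8003800a3009a008c00f60000) (Net.cons (nat_lit 16) (nat_lit 0x60000e32a0000e04c0000468200007f9b0000c842000050490000418000008ad0)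 (Net.cons (nat_lit 32) (nat_lit 0x8398050400000000188207490000000034014349000000000006c810) (Net.cons (nat_lit 64) (nat_lit 0x5002e722c4e20d8c0000000000000000000000000001a0d1) (Net.cons (nat_lit 128) (nat_lit 0xf1dedf9b0074076dba70ace7ee2e708) (Net.cons (nat_lit 256) (nat_lit 0xffffb) (Net.cons (nat_lit 128) (nat_lit 613512) (Net.cons (nat_lit 64) (nat_lit 0xe0f8053bbab67c0a0000000000000000492dbcb0b1cfdba0) (Net.cons (nat_lit 32) (nat_lit 0xfc3d97d900000000a6715c10000000008bd4e02f00000000d66bbe49) (Net.cons (nat_lit 16) (nat_lit 0xd00004174000022030000c4ea00007dad0000f44a000036dd0000dd430000dccb) (Net.cons (nat_lit 8) (nat_lit 0x1d00a400500068002e004b004200540031003f0038009700350007003900cf0059) (Net.cons (nat_lit 4) (nat_lit 0xc05040f0d0f0a030b0103020b0809000304000d0d0906050d0f0a01050e07020a07) (Net.cons (nat_lit 2) (nat_lit 0x132311123110331021301232021122233323331001323223103031323030231310303) (Net.cons (nat_lit 1) (nat_lit 0x514441150105455055005000101445445440051440104015050510054140444000455)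 Net.nil)))))))))))))))))

theorem g239_ok : Net.ok 276 g239 = true := by decide +kernel

noncomputable def g240 : Net := (Net.cons (nat_lit 1) (nat_lit 0x541115504411101101155414445440005041444415101055054505115044554150440) (Net.cons (nat_lit 2) (nat_lit 0x33030102203100020221223213133132000132003020231032212020010312110000) (Net.cons (nat_lit 4) (nat_lit 0x40e000f060d00010609060d0e0a0c0c00060a0d0404020f0f050e040e0a00010408) (Net.cons (nat_lit 8) (nat_lit 0x8500700002006700ae009b00c3008f006d00c1004e00f30005006c0014006a000a) (Net.cons (nat_lit 16) (nat_lit 0xe0000038a0000ddca0000191900009cab000098b200000943000050ba00008070) (Net.cons (nat_lit 32) (nat_lit 0x723750a00000000051cc050900000000829254a400000000000680e7) (Net.cons (nat_lit 64) (nat_lit 0x232146144905106800000000000000000000000000024bf1) (Net.cons (nat_lit 128) (nat_lit 0x164352708788a7e4b566a42f48c49a1a) (Net.cons (nat_lit 256) (nat_lit 0xfdbff) (Net.cons (nat_lit 128) (nat_lit 344579)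 (Net.cons (nat_lit 64) (nat_lit 0x6cd1f718c3e9745f0000000000000000ceb32919884af806) (Net.cons (nat_lit 32) (nat_lit 0x5ba5a18c00000000a0c7e3dd0000000031c5cf1a0000000050b5cae1) (Net.cons (nat_lit 16) (nat_lit 0x500003a7a00001a930000a38f0000350f0000f15900000bb900002c0c0000383a) (Net.cons (nat_lit 8) (nat_lit 0x7b0007000c00f90064003e0079008c0077005800ca00fe00fa002e001c005700c5) (Net.cons (nat_lit 4) (nat_lit 0x7050909030f0b090d0f00020c050d08020000040806000209060c04000a070e0707) (Net.cons (nat_lit 2) (nat_lit 0x32111111332010303300333031013210310222101011002231021121201221330320) (Net.cons (nat_lit 1) (nat_lit 0x155551115014154141141111410454550041451550011105415140445144014145440) Net.nil)))))))))))))))))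

theorem g240_ok : Net.ok 276 g240 = true := by decide +kernel

noncomputable def g241 : Net := (Net.cons (nat_lit 1) (nat_lit 0x10145111544054001104110015440505555400551550140141015445100101401000) (Net.cons (nat_lit 2) (nat_lit 0x201111020320201010101313001310322211000121012031221313313112201321020) (Net.cons (nat_lit 4) (nat_lit 0xf0a05080e0306090e0c02090408000c000a060a000608080100050d040803080a08) (Net.cons (nat_lit 8) (nat_lit 0x22005400d0006600180045007a004b00750082009000b700eb00a50002003a000a) (Net.cons (nat_lit 16) (nat_lit 0x10000212200007312000023020000927d000006050000cb0f0000480c00002480) (Net.cons (nat_lit 32) (nat_lit 0x62d761b5000000000006e1520000000000c8d10500000000000c5e00) (Net.cons (nat_lit 64) (nat_lit 0x329d20906432400200000000000000000000000000002888) (Net.cons (nat_lit 128) (nat_lit 0x91ea378aad3cb2cd6b779f35d0475082) (Net.cons (nat_lit 256) (nat_lit 0xffeca) (Net.cons (nat_lit 128) (nat_lit 924393) (Net.cons (nat_lit 64)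 (nat_lit 0x91c22ac95471bcd00000000000000007314f4ca04c41017) (Net.cons (nat_lit 32) (nat_lit 0xc8aa26e3000000007084e81f00000000a7d4d79200000000e032585d) (Net.cons (nat_lit 16) (nat_lit 0xb0000b74e0000630e00003714000034450000e29c0000f9f600009b87000060fc) (Net.cons (nat_lit 8) (nat_lit 0xe00038005f00af006b0058002400ff00450076005200120053007c008200be00eb) (Net.cons (nat_lit 4) (nat_lit 0xb07020707050a090c0d030800000008020109050c060e010d07030601070d040104) (Net.cons (nat_lit 2) (nat_lit 0x21221321200321133130300001320222331200001113230211221213332321012212) (Net.cons (nat_lit 1) (nat_lit 0x10105500041504400044154011514440111515510440444015111441105005500014) Net.nil)))))))))))))))))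

theorem g241_ok : Net.ok 276 g241 = true := by decide +kernel

noncomputable def ht_c12_K : List Net := [g239, g240, g241, n_t]

theorem ht_c12_K_ok : okE 276 ht_c12_K = true := (okE_cons.2 ⟨g239_ok, (okE_cons.2 ⟨g240_ok, (okE_cons.2 ⟨g241_ok, (okE_cons.2 ⟨n_t_ok, (okE_nil 276)⟩)⟩)⟩)⟩)

noncomputable def g243 : Net := (Net.cons (nat_lit 1) (nat_lit 0x451004415005410504105504444544455444410151400410045010115115111401100) (Net.cons (nat_lit 2) (nat_lit 0x32002303322313320003201200213020023110302032003210010020032003000210) (Net.cons (nat_lit 4) (nat_lit 0x5040c0a00000b0b01010e0003070f0200000c060d080e0d010701000a040b0b0a08) (Net.cons (nat_lit 8) (nat_lit 0x6000a60003009200d100c50044003700a2007a004e009600be0087005100aa0002) (Net.cons (nat_lit 16) (nat_lit 0x6494000049e500004aa300007a070000e0110000d19000006b8200000a90) (Net.cons (nat_lit 32) (nat_lit 0x68de95480000000036695300000000002c0526090000000000020ef3) (Net.cons (nat_lit 64) (nat_lit 0x2a022e202e1b354b0000000000000000000000000008c288)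 (Net.cons (nat_lit 128) (nat_lit 0x631b52524ddcfac558283c38a3426dae) (Net.cons (nat_lit 256) (nat_lit 978943) (Net.cons (nat_lit 128) (nat_lit 94084) (Net.cons (nat_lit 64) (nat_lit 0xe5b26a2050ee9ad0000000000000000074d1c7a63927a247) (Net.cons (nat_lit 32) (nat_lit 0x61a3dc1600000000e46d9d3f000000004ed1bc35000000006ade2ec4) (Net.cons (nat_lit 16) (nat_lit 0x40000359000001775000038d50000f8b60000828e0000453400000b8e00001105) (Net.cons (nat_lit 8) (nat_lit 0x29000100aa009900f6004600f500bb005700eb00f0001d008400ac0031006a00af) (Net.cons (nat_lit 4) (nat_lit 0x8040e0003060b0c0f0f03050403050f0a0608090f0c0803040e0a030b06070f0600) (Net.cons (nat_lit 2) (nat_lit 0x321332101020232103310033020320220210221331111330201021333002220232) (Net.cons (nat_lit 1) (nat_lit 0x55045401400110151404404004551005111554101414055001450455400151555000) Net.nil)))))))))))))))))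

theorem g243_ok : Net.ok 276 g243 = true := by decide +kernel

noncomputable def g244 : Net := (Net.cons (nat_lit 1) (nat_lit 0x544101140151554511450011014151405050101541551505001010155050454004) (Net.cons (nat_lit 2) (nat_lit 0x132120000023021323210203212222101202313310120122213202113221000101000) (Net.cons (nat_lit 4) (nat_lit 0x70f0f010f09000801050c0d08040f0a030100010d0f0f0e04010407070a04030208) (Net.cons (nat_lit 8) (nat_lit 0x24005b00e300fe001c004000880001006a007d00aa0035000b008a001a007a0002) (Net.cons (nat_lit 16) (nat_lit 0x9000097a80000b4d10000711e00002c82000084810000251000000250000040a0) (Net.cons (nat_lit 32) (nat_lit 0xa69d90b7000000006dbd0b8e0000000098249e3000000000000a010f) (Net.cons (nat_lit 64) (nat_lit 0xed90059e11231eb400000000000000000000000000080488) (Net.cons (nat_lit 128) (nat_lit 0x39c11e2c3e84fa1dd45ea192c5b1422a) (Net.cons (nat_lit 256) (nat_lit 747503) (Net.cons (nat_lit 128) (nat_lit 197864) (Net.cons (nat_lit 64) (nat_lit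 0x9cbbc62006a398ff0000000000000000fce050dc17c7ea49) (Net.cons (nat_lit 32) (nat_lit 0x8ab0a0520000000063a181ad00000000f5e6b8a400000000eb28f480) (Net.cons (nat_lit 16) (nat_lit 0x10000ca680000bb6b0000147200006a850000bd1400002d220000538e0000deac) (Net.cons (nat_lit 8) (nat_lit 0x3700c600b80064001300a9007400430094007e00c7009000ce000a004b00620002) (Net.cons (nat_lit 4) (nat_lit 0xb0b01000f0908020c050a0f060f0a0e0900000a09090b0d020c0d06090e050a0000) (Net.cons (nat_lit 2) (nat_lit 0x332320303023131300000011310320123213102100020302333321111331112121320) (Net.cons (nat_lit 1) (nat_lit 0x4005054045101545501055145411501444014014550014551055051445411155541) Net.nil)))))))))))))))))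

theorem g244_ok : Net.ok 276 g244 = true := by decide +kernel

noncomputable def V245 : List Net := [g243, g244, n_t]

theorem V245_ok : okE 276 V245 = true := (okE_cons.2 ⟨g243_ok, (okE_cons.2 ⟨g244_ok, (okE_cons.2 ⟨n_t_ok, (okE_nil 276)⟩)⟩)⟩)

noncomputable def V247 : List Net := [g244, n_t]

theorem V247_ok : okE 276 V247 = true := (okE_cons.2 ⟨g244_ok, (okE_cons.2 ⟨n_t_ok, (okE_nil 276)⟩)⟩)

noncomputable def V248 : List Net := [n_t]

theorem V248_ok : okE 276 V248 = true := (okE_cons.2 ⟨n_t_ok, (okE_nil 276)⟩)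

noncomputable def V249 : List Net := []

theorem V249_ok : okE 276 V249 = true := (okE_nil 276)

noncomputable def ht_c12_cnt_EG : List Net := [g36, g37, g38, g39, g40, g41, g42, g35, g243, g244, n_t]

theorem ht_c12_cnt_EG_ok : okE 276 ht_c12_cnt_EG = true := (okE_cons.2 ⟨g36_ok, (okE_cons.2 ⟨g37_ok, (okE_cons.2 ⟨g38_ok, (okE_cons.2 ⟨g39_ok, (okE_cons.2 ⟨g40_ok, (okE_cons.2 ⟨g41_ok, (okE_cons.2 ⟨g42_ok, (okE_cons.2 ⟨g35_ok, (okE_cons.2 ⟨g243_ok, (okE_cons.2 ⟨g244_ok, (okE_cons.2 ⟨n_t_ok, (okE_nil 276)⟩)⟩)⟩)⟩)⟩)⟩)⟩)⟩)⟩)⟩)⟩)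

noncomputable def g250 : Net := (Net.cons (nat_lit 1) (nat_lit 0x15554401545100504045411114141405114011044411505154040441101155115144) (Net.cons (nat_lit 2) (nat_lit 0x21021021120302211003011323123201201122001323210101110320321123120330) (Net.cons (nat_lit 4) (nat_lit 0x50a000e080a0105080902000c0d0f06030a010c0e090d050601070d0e0f0e05070e) (Net.cons (nat_lit 8) (nat_lit 0xbc008e00af002a00c100c600e10034003200fe009d005c0020008c000700020006) (Net.cons (nat_lit 16) (nat_lit 0xf0000cdfb00006a570000d2630000c2d40000d1b20000c48100004d1500002700) (Net.cons (nat_lit 32) (nat_lit 0xbe045090000000002206974b00000000a58eec3200000000000a0249) (Net.cons (nat_lit 64) (nat_lit 0x8640148c018c0ec5000000000000000000000000000e9438) (Net.cons (nat_lit 128) (nat_lit 0x93f46156cb77813a7ca78da5960a697) (Net.cons (nat_lit 256) (nat_lit 0xfb7ff) (Net.cons (nat_lit 128) (nat_lit 533363) (Net.cons (nat_lit 64) (nat_lit 0xa6cc14627728fcd50000000000000000cb589708725f5dd9) (Net.cons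 (nat_lit 32) (nat_lit 0x1ae861ae000000009ec6e1df00000000019730560000000073609fe6) (Net.cons (nat_lit 16) (nat_lit 0x400000f7d000036a9000083e500009277000050b60000d26a00003c9c00004475) (Net.cons (nat_lit 8) (nat_lit 0x83006200e80036006d0094007f005000d7007e00150042000d0088002200f700ae) (Net.cons (nat_lit 4) (nat_lit 0x504090b0b03070e030a030a05060c0a0d02010f04040f05040a0e0a04000f05080c) (Net.cons (nat_lit 2) (nat_lit 0x23331101331303002112223231012132021212333312120300111300321312013131) (Net.cons (nat_lit 1) (nat_lit 0x115044110054115144144010515440511010045054414004500515055055111540100) Net.nil)))))))))))))))))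

theorem g250_ok : Net.ok 276 g250 = true := by decide +kernel

noncomputable def g251 : Net := (Net.cons (nat_lit 1) (nat_lit 0x550504055411550410144515450501415051511545014105011050410545405551100) (Net.cons (nat_lit 2) (nat_lit 0x132321002332022001320220233301111230100033200320130220020011113033000) (Net.cons (nat_lit 4) (nat_lit 0x10e030301080309040209090e0506060b090009020d03010a09050109020707020c) (Net.cons (nat_lit 8) (nat_lit 0x9c00a400e100a600c50027000e004e005200f200b4002c0060004300c200140008) (Net.cons (nat_lit 16) (nat_lit 0x9dbc0000fb4200006b220000d94c000048b30000e41f0000efe000000500) (Net.cons (nat_lit 32) (nat_lit 0xa0717498000000008e2999ab00000000c70ad4c0000000000000c189) (Net.cons (nat_lit 64) (nat_lit 0x28b3401148a3269000000000000000000000000000b0a38) (Net.cons (nat_lit 128) (nat_lit 0x409789e81faff2f09b1837a90102fe4b) (Net.cons (nat_lit 256) (nat_lit 0xffffb) (Net.cons (nat_lit 128) (nat_lit 460309) (Net.cons (nat_lit 64) (nat_lit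 0x6a9b2d87dffbf15c00000000000000001dd31264fa6fa7b7) (Net.cons (nat_lit 32) (nat_lit 0x53d4b15b000000000e484f5d000000004983b076000000003a1456d0) (Net.cons (nat_lit 16) (nat_lit 0x3b4400004cb800000a64000021e20000f5d60000a9be0000862200009cb3) (Net.cons (nat_lit 8) (nat_lit 0x7800930001009900cc006400fa0003004800610045003700f100d7004c00b500f6) (Net.cons (nat_lit 4) (nat_lit 0xb060007080a0c0a00060909040802070a0309000206090b080702050c0d09020c08) (Net.cons (nat_lit 2) (nat_lit 0x111022231231331131200332013031320302032301131331113012022022111132122) (Net.cons (nat_lit 1) (nat_lit 0x41450455405014451555010144145415015541455001451045404514005550404554) Net.nil)))))))))))))))))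

theorem g251_ok : Net.ok 276 g251 = true := by decide +kernel

noncomputable def g252 : Net := (Net.cons (nat_lit 1) (nat_lit 0x514044505045505415501414104501405044544100001510000140105550100500054) (Net.cons (nat_lit 2) (nat_lit 0x2023131031122002211121212330101301102200323303003221003233100301320) (Net.cons (nat_lit 4) (nat_lit 0x10f0905040c070901060b040509050c04060b0105040d09010c0904070005040001) (Net.cons (nat_lit 8) (nat_lit 0x7a009800f90082002700c300ea002000b9009b00c700340035000500a300f2000c) (Net.cons (nat_lit 16) (nat_lit 0x50000079e0000a2620000828000005064000041b8000099540000470100000280) (Net.cons (nat_lit 32) (nat_lit 0xc035787400000000349c101a00000000ca018fc3000000000001d222) (Net.cons (nat_lit 64) (nat_lit 0x2c59c446560278700000000000000000000000000016ec1) (Net.cons (nat_lit 128) (nat_lit 0x97017b43288390745cc4c7074df6a384) (Net.cons (nat_lit 256) (nat_lit 0xfffe7) (Net.cons (nat_lit 128) (nat_lit 738367) (Net.cons (nat_lit 64) (nat_lit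 0x26551a8bca438b64000000000000000004b60c8edb4904f4) (Net.cons (nat_lit 32) (nat_lit 0x5950f3a600000000df13ece2000000000de6126900000000fa7e78e3) (Net.cons (nat_lit 16) (nat_lit 0x60000e105000069940000ec0d0000e9ca0000c3420000873b0000a1a400004b86) (Net.cons (nat_lit 8) (nat_lit 0x4a00aa00f30039000800ee008000ad005d00fb0038002000cc00fd009000920060) (Net.cons (nat_lit 4) (nat_lit 0x7050f0004000e010603050603020f0e0903000001030606020d030c0b0205000e00) (Net.cons (nat_lit 2) (nat_lit 0x203320322313220203122032002133102202021333003213220310203331102132323) (Net.cons (nat_lit 1) (nat_lit 0x10444545050050004104045004140414540040104144011014104110511145541150) Net.nil)))))))))))))))))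

theorem g252_ok : Net.ok 276 g252 = true := by decide +kernel

noncomputable def g253 : Net := (Net.cons (nat_lit 1) (nat_lit 0x444414011455404514544154544011001514501151005510500504510540400104004) (Net.cons (nat_lit 2) (nat_lit 0x212100211111303032211210210030120300302233111011101231021213003133100) (Net.cons (nat_lit 4) (nat_lit 0x60e0109060a0e0a0e0c0b080c0b0e010b0d0e080008030e0f0a05090a040f040402) (Net.cons (nat_lit 8) (nat_lit 0xb900a00001006d00ea0019003e00730092003a0070005a0080007500b000ab0004) (Net.cons (nat_lit 16) (nat_lit 0xb0000400600004cbb00002c420000286d0000f2470000cc8d0000c1700000c420) (Net.cons (nat_lit 32) (nat_lit 0x46039fa100000000e146211100000000333a402c000000000005a92a) (Net.cons (nat_lit 64) (nat_lit 0x6dcd04708881f14900000000000000000000000000014190) (Net.cons (nat_lit 128) (nat_lit 0x27948d82d9ea934a486b5bf273539500) (Net.cons (nat_lit 256) (nat_lit 523710) (Net.cons (nat_lit 128) (nat_lit 28983) (Net.cons (nat_lit 64) (nat_lit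 0xeef4323d2d93b20700000000000000006c73cbeff28aad53) (Net.cons (nat_lit 32) (nat_lit 0x33d3476400000000c6f23d3c00000000ec238f3000000000fb3e7a4f) (Net.cons (nat_lit 16) (nat_lit 0xa000068f800006d530000b9f300009f27000093500000655b00005f370000f76b) (Net.cons (nat_lit 8) (nat_lit 0x3e000600b7006600fc00df00fe006b000400d800a3002f00dd00e800d000dc00e7) (Net.cons (nat_lit 4) (nat_lit 0x600030404060a070e0601060800030000060d04050f0a05090e090e0506020c010e) (Net.cons (nat_lit 2) (nat_lit 0x112023000333103103130230121113133300210110321120220132123320221020303) (Net.cons (nat_lit 1) (nat_lit 0x550140550104111511010511105055440051151140555501144044444405115114045) Net.nil)))))))))))))))))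

theorem g253_ok : Net.ok 276 g253 = true := by decide +kernel

noncomputable def g254 : Net := (Net.cons (nat_lit 1) (nat_lit 0x450155010144000114000115110451041400444045115154414040114555440001110) (Net.cons (nat_lit 2) (nat_lit 0x330200103000221001320011222112321201312322100310101102103230202121200) (Net.cons (nat_lit 4) (nat_lit 0x3030c040d070e0307030c0b0e0404050a0b0a0f0c04080e04070909080708060109) (Net.cons (nat_lit 8) (nat_lit 0x5b0097004200f100930085009400c600bb009200060031002c0006001800430004) (Net.cons (nat_lit 16) (nat_lit 0xe0000dea90000c3060000c1e10000204c000068c0000087e400005cc100001900) (Net.cons (nat_lit 32) (nat_lit 0x6438066d000000005b82e20300000000d82410da0000000000010028) (Net.cons (nat_lit 64) (nat_lit 0xa24f02415177b9ee0000000000000000000000000000062a) (Net.cons (nat_lit 128) (nat_lit 0x90cb79772d4988916e34660656be9dac) (Net.cons (nat_lit 256) (nat_lit 0xf9fef) (Net.cons (nat_lit 128) (nat_lit 701271) (Net.cons (nat_lit 64)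 (nat_lit 0x41f1362422c309fa00000000000000004cdab79a80b7470c) (Net.cons (nat_lit 32) (nat_lit 0xb029d747000000009a07eb3e00000000d862a2b400000000c3ce38ac) (Net.cons (nat_lit 16) (nat_lit 0xc0000b08d0000dafc00003d470000b45000007732000023c40000e6ee0000fa49) (Net.cons (nat_lit 8) (nat_lit 0x5300c8008b007f0057000c00af00c900af00a000b500fb00f6004900a700160001) (Net.cons (nat_lit 4) (nat_lit 0xb0a0c0c03040c0f07020d030c0d0e080b02050402090201050d0a08000501050a08) (Net.cons (nat_lit 2) (nat_lit 0x110011212110230010103031232023330230230100011333222330002012130330100) (Net.cons (nat_lit 1) (nat_lit 0x44005004415555444504154015040441404450505515410150000011545040440510) Net.nil)))))))))))))))))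

theorem g254_ok : Net.ok 276 g254 = true := by decide +kernel

noncomputable def g255 : Net := (Net.cons (nat_lit 1) (nat_lit 0x110011414554015500554540010115105044455415015144014015040151040451440) (Net.cons (nat_lit 2) (nat_lit 0x201001301332031012022103002103020330020130232202221110313122112110000) (Net.cons (nat_lit 4) (nat_lit 0x80d02030e06070e0d060e070c00030a00050402040409080d0a0e000e040b020902) (Net.cons (nat_lit 8) (nat_lit 0x89004900d000030033006c00d80010009700b000f9000200a800bc00760040000c) (Net.cons (nat_lit 16) (nat_lit 0x600002f2400008ef00000811100009fe2000069810000144300002c6100001800) (Net.cons (nat_lit 32) (nat_lit 0x16f9804c0000000027080894000000001086532a000000000002f042) (Net.cons (nat_lit 64) (nat_lit 0x4150604100111b1a00000000000000000000000000029036) (Net.cons (nat_lit 128) (nat_lit 0x6250b80e9df45f0d0f8fc2d3cd8bf198) (Net.cons (nat_lit 256) (nat_lit 784894) (Net.cons (nat_lit 128) (nat_lit 545262) (Net.cons (nat_lit 64)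 (nat_lit 0x5d099cf673951def0000000000000000a786dd1eda1806d1) (Net.cons (nat_lit 32) (nat_lit 0xb4c05c1200000000255d0ab60000000099221d05000000001a07342b) (Net.cons (nat_lit 16) (nat_lit 0x70000018f0000915c0000fda7000016eb000084f10000717b000013290000c628) (Net.cons (nat_lit 8) (nat_lit 0x28000200d2001f00e700b8004800c2004c0097008900650084005400b600ce0085) (Net.cons (nat_lit 4) (nat_lit 0x80d0d0f0007030901030c010805070b080d000704070a0a0a070b0f0a0202000902) (Net.cons (nat_lit 2) (nat_lit 0x321030131020312111013121100100011221323330011021321302201132231000120) (Net.cons (nat_lit 1) (nat_lit 0x500005055515405505045540110440145054154155050511044451415140005451440) Net.nil)))))))))))))))))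

theorem g255_ok : Net.ok 276 g255 = true := by decide +kernel

noncomputable def ht_c13_K : List Net := [g251, g252, g253, g254, g255, n_t]

theorem ht_c13_K_ok : okE 276 ht_c13_K = true := (okE_cons.2 ⟨g251_ok, (okE_cons.2 ⟨g252_ok, (okE_cons.2 ⟨g253_ok, (okE_cons.2 ⟨g254_ok, (okE_cons.2 ⟨g255_ok, (okE_cons.2 ⟨n_t_ok, (okE_nil 276)⟩)⟩)⟩)⟩)⟩)⟩)

noncomputable def ht_c13_cnt_EG : List Net := [g36, g37, g38, g39, g40, g41, g42, g35, g155, g156, g157, g130, n_t]

theorem ht_c13_cnt_EG_ok : okE 276 ht_c13_cnt_EG = true := (okE_cons.2 ⟨g36_ok, (okE_cons.2 ⟨g37_ok, (okE_cons.2 ⟨g38_ok, (okE_cons.2 ⟨g39_ok, (okE_cons.2 ⟨g40_ok, (okE_cons.2 ⟨g41_ok, (okE_cons.2 ⟨g42_ok, (okE_cons.2 ⟨g35_ok, (okE_cons.2 ⟨g155_ok, (okE_cons.2 ⟨g156_ok, (okE_cons.2 ⟨g157_ok, (okE_cons.2 ⟨g130_ok, (okE_cons.2 ⟨n_t_ok, (okE_nil 276)⟩)⟩)⟩)⟩)⟩)⟩)⟩)⟩)⟩)⟩)⟩)⟩)⟩)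

noncomputable def g257 : Net := (Net.cons (nat_lit 1) (nat_lit 0x545044010010140145541100150455101551004115004504455051054500514400450) (Net.cons (nat_lit 2) (nat_lit 0x20320030000330012010311200130323310202021201002100203112230011000310) (Net.cons (nat_lit 4) (nat_lit 0x306090304030e070a02040a0e050902010d0904080c06070e0e09010305040a0c01) (Net.cons (nat_lit 8) (nat_lit 0xfb003100da00990090009d002d00c9008c00e000cb00ec00c30085001200920004) (Net.cons (nat_lit 16) (nat_lit 0x6000028980000578c00009a8f0000532100001d11000097c5000025c800000240) (Net.cons (nat_lit 32) (nat_lit 0xc81cd6790000000042fe89f800000000110d3a4500000000000522ec) (Net.cons (nat_lit 64) (nat_lit 0xc07327688183c13300000000000000000000000000030e80) (Net.cons (nat_lit 128) (nat_lit 0xd838aa1049209fff22cb1d6fb48e8932) (Net.cons (nat_lit 256) (nat_lit 0xfefff) (Net.cons (nat_lit 128) (nat_lit 618044) (Net.cons (nat_lit 64) (nat_lit 0xffd82755d35e2bc10000000000000000baa55eeac5882cfa) (Net.cons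 (nat_lit 32) (nat_lit 0x21c9521500000000f203191100000000fd5194bb000000002433fe5e) (Net.cons (nat_lit 16) (nat_lit 0x70000c45500000ec10000759a00002e960000940f000099ac000095c30000807f) (Net.cons (nat_lit 8) (nat_lit 0xa000230060006d00a6005f00e800ae00c0009200af00dc007d00ff003700fc00cd) (Net.cons (nat_lit 4) (nat_lit 0x6090203080e090b0a060501010f08000f00000e08040601020f00000700000e0e0d) (Net.cons (nat_lit 2) (nat_lit 0x300111321120130323033221331123230100231110311330320013020330202022302) (Net.cons (nat_lit 1) (nat_lit 0x55140415155501515444501410115455550054014504000415005445505101055404) Net.nil)))))))))))))))))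

theorem g257_ok : Net.ok 276 g257 = true := by decide +kernel

noncomputable def g258 : Net := (Net.cons (nat_lit 1) (nat_lit 0x400011154100055011554414414150545055500145510104155541050015111500040) (Net.cons (nat_lit 2) (nat_lit 0x111332122230211110000302313101110320231321223031221230001302013232010) (Net.cons (nat_lit 4) (nat_lit 0xc0e050b0704060406020d0604090b06060e0b00040c080109070e00000e01080100) (Net.cons (nat_lit 8) (nat_lit 0xe4008e008d00c600380068003f00250077001500d000380061004000e9002b0004) (Net.cons (nat_lit 16) (nat_lit 0x50000d3b600007aa90000d18a000073c8000044970000880a0000200900000820) (Net.cons (nat_lit 32) (nat_lit 0x8924343300000000622b8a490000000004c8ed130000000000041008) (Net.cons (nat_lit 64) (nat_lit 0x7403578b14707b200000000000000000000000000003e6a) (Net.cons (nat_lit 128) (nat_lit 0x5f6e0eba052f03cf682ab1c2bec20061) (Net.cons (nat_lit 256) (nat_lit 933867) (Net.cons (nat_lit 128) (nat_lit 146520) (Net.cons (nat_lit 64) (nat_lit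 0xecc6bed4a31f8c1300000000000000007618b00546fc7f36) (Net.cons (nat_lit 32) (nat_lit 0xb2b76a300000000a89633f0000000006642babf00000000b708eda8) (Net.cons (nat_lit 16) (nat_lit 0x800008c09000002a2000050510000c1ff00008648000079c200008162000060a8) (Net.cons (nat_lit 8) (nat_lit 0xf8008400c400530009006b002f00b900c2004400f600470042001f00e7002800e0) (Net.cons (nat_lit 4) (nat_lit 0x90f080e04050b0e0c030306040b050008020b0a080a0b0c04040508040d0f0c04) (Net.cons (nat_lit 2) (nat_lit 0x20111213021003020112000233123020011002032033030220011110120330001210) (Net.cons (nat_lit 1) (nat_lit 0x11540050410404150010014505014110144054104500540551045154044544450154) Net.nil)))))))))))))))))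

theorem g258_ok : Net.ok 276 g258 = true := by decide +kernel

noncomputable def g259 : Net := (Net.cons (nat_lit 1) (nat_lit 0x150555510500015111405500515515104151015105404010000001451005111105010) (Net.cons (nat_lit 2) (nat_lit 0x21112130013113213032102222303213102121113030222001332122031103302120) (Net.cons (nat_lit 4) (nat_lit 0x40e06080d0802060507010c040909010b030d0d0001040a090a020f00060a080f02) (Net.cons (nat_lit 8) (nat_lit 0xd0000500d400ec004800f400c900d5004c00710068000400080083000400200009) (Net.cons (nat_lit 16) (nat_lit 0x4000093460000f1510000ac2c0000bb930000c5720000067f0000ce9200009500) (Net.cons (nat_lit 32) (nat_lit 0x4f50e0e00000000543e87f000000000c0cc8dff0000000000000090) (Net.cons (nat_lit 64) (nat_lit 0x8002f95c52dec077000000000000000000000000000809c4) (Net.cons (nat_lit 128) (nat_lit 0xf1fb318f1658d3241655cc73cda9f837) (Net.cons (nat_lit 256) (nat_lit 785919) (Net.cons (nat_lit 128) (nat_lit 0xfc25c) (Net.cons (nat_lit 64) (nat_lit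 0x95a954259f4cf8f600000000000000005c69fe043124b15b) (Net.cons (nat_lit 32) (nat_lit 0xf9b886ef00000000df362efd000000004677cec400000000f2cbb1b6) (Net.cons (nat_lit 16) (nat_lit 0xf00001c9b0000d51200006bbb0000224300004136000045990000b88b000082c0) (Net.cons (nat_lit 8) (nat_lit 0xa0009c00ba004700ec0049003e00e100cf008900fa000800650003007100b20072) (Net.cons (nat_lit 4) (nat_lit 0xf0e0701050909030b0a090b07020e0f0f08000f03020d020b0a0e0b0e00060c0101) (Net.cons (nat_lit 2) (nat_lit 0x201331130300133301221310022320103030022120222010230103002230330330332) (Net.cons (nat_lit 1) (nat_lit 0x505101450504050005445504501515010104400111051550151445454051554040550) Net.nil)))))))))))))))))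

theorem g259_ok : Net.ok 276 g259 = true := by decide +kernel

noncomputable def g260 : Net := (Net.cons (nat_lit 1) (nat_lit 0x145155041044415040144145004141014404410501540451414050041000154450510) (Net.cons (nat_lit 2) (nat_lit 0x1212300121201011210231013221133213123200312313020103231301310301220) (Net.cons (nat_lit 4) (nat_lit 0x805040c00070a08010c0f0b0f000701010d0509050303000f0800050309080a0200) (Net.cons (nat_lit 8) (nat_lit 0x5700ad005700100095000b0089002f002800e8000b00750020002500f100110002) (Net.cons (nat_lit 16) (nat_lit 0x10000896400007cd80000ce440000930200001a8900008b3500008d930000e400) (Net.cons (nat_lit 32) (nat_lit 0x9c49251200000000021503ba00000000420e73650000000000000e2a) (Net.cons (nat_lit 64) (nat_lit 0x3200178042ee50160000000000000000000000000009d071) (Net.cons (nat_lit 128) (nat_lit 0xf71fe9bb1059e6dd45eb3e7ffebc5a0d) (Net.cons (nat_lit 256) (nat_lit 0xffeff) (Net.cons (nat_lit 128) (nat_lit 673963) (Net.cons (nat_lit 64) (nat_lit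 0xb45ab4654c4152f10000000000000000a8f5d36e93106203) (Net.cons (nat_lit 32) (nat_lit 0x43ba82ae00000000795f35e6000000003a54f212000000009173446a) (Net.cons (nat_lit 16) (nat_lit 0x30000641d00004cef00003845000018b90000e11b000057e900008caa00008aff) (Net.cons (nat_lit 8) (nat_lit 0x3b003800d4007000f10096007e007f00890079004d00d1005400070033008c00df) (Net.cons (nat_lit 4) (nat_lit 0xb070b0b0a0e0f020b08070b070e04010b08050a080e08020c0b060406090406090b) (Net.cons (nat_lit 2) (nat_lit 0x321023130300223331120012233003323130031301131310331301033031031132131) (Net.cons (nat_lit 1) (nat_lit 0x44550140005401055550544415555555115015511144005451014440454141111544) Net.nil)))))))))))))))))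

theorem g260_ok : Net.ok 276 g260 = true := by decide +kernel

noncomputable def g261 : Net := (Net.cons (nat_lit 1) (nat_lit 0x45401511110014040011415050540045001441414001110050554014414450411000) (Net.cons (nat_lit 2) (nat_lit 0x210210012032232203301000121110211212003003230030102001020202101020200) (Net.cons (nat_lit 4) (nat_lit 0x40e0c0f04040f0b0e090107090a04000e0a0f0b0804010602080401040e06000000) (Net.cons (nat_lit 8) (nat_lit 0x5f00aa0046009b00b9007c009000800047002d00d20042008300040021000a0000) (Net.cons (nat_lit 16) (nat_lit 0xd0000543a0000eaf60000c978000058c600002c630000f040000044af00000650) (Net.cons (nat_lit 32) (nat_lit 0x190c8b89000000003008135100000000200204900000000000040204) (Net.cons (nat_lit 64) (nat_lit 0x3a40840c00ad68400000000000000000000000000001009) (Net.cons (nat_lit 128) (nat_lit 0x2de8cfb0c3ee991d9e5c03760ec60789) (Net.cons (nat_lit 256) (nat_lit 923613) (Net.cons (nat_lit 128) (nat_lit 421803) (Net.cons (nat_lit 64) (nat_lit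 0x7973961f2bfdad00000000000000000e080651006805aa9) (Net.cons (nat_lit 32) (nat_lit 0x5f69cb9f00000000a4614b6300000000a47344a20000000016435626) (Net.cons (nat_lit 16) (nat_lit 0xd0000cc220000fef60000d168000048c200003c670000fc4c0000d83700009750) (Net.cons (nat_lit 8) (nat_lit 0x5b0086004a009f00bd007c0098008800c300ad00d200ca00af00ac00ad002e0008) (Net.cons (nat_lit 4) (nat_lit 0x60e0c0f04040f0b0e09010f090e04080e0b0f030904030602080c01040e06000004) (Net.cons (nat_lit 2) (nat_lit 0x210210012032232203301000123110211212003003230030102001020202101020200) (Net.cons (nat_lit 1) (nat_lit 0x45401511110014040051415050540045001441415001110050554014414450411000) Net.nil)))))))))))))))))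

theorem g261_ok : Net.ok 276 g261 = true := by decide +kernel

noncomputable def g262 : Net := (Net.cons (nat_lit 1) (nat_lit 0x451550151400051445114040505410400010514111450040010150050110400500000) (Net.cons (nat_lit 2) (nat_lit 0x31021133032210330303313332112230003033332231210101313103113000230000) (Net.cons (nat_lit 4) (nat_lit 0x9040c0709090a0c030104050b00030c050b0202070c01070d060008020501030101) (Net.cons (nat_lit 8) (nat_lit 0xa1008f000a00f400cc008300a800330014009700640081008400c2004600070000) (Net.cons (nat_lit 16) (nat_lit 0x80000c6ac0000c13c0000c63900000c0900005e5a000034420000cc900000c020) (Net.cons (nat_lit 32) (nat_lit 0xedce031e000000009018671000000000b01d049a000000000000102c) (Net.cons (nat_lit 64) (nat_lit 0x824800414424a9090000000000000000000000000006704c) (Net.cons (nat_lit 128) (nat_lit 0x240dd7552f3b955d12c8802145e8401) (Net.cons (nat_lit 256) (nat_lit 0xffc6d) (Net.cons (nat_lit 128) (nat_lit 165533) (Net.cons (nat_lit 64) (nat_lit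 0x820caecdbd68e93700000000000000002635c8a4954c7452) (Net.cons (nat_lit 32) (nat_lit 0xec82011600000000941d771900000000bc1b06bf000000002cce542c) (Net.cons (nat_lit 16) (nat_lit 0x40000a2a10000c9bc0000c67500002f09000078720000344e0000cc980000c424) (Net.cons (nat_lit 8) (nat_lit 0xa100f9000a00f400cc00a300a80033001400d30066008100a60086004700630001) (Net.cons (nat_lit 4) (nat_lit 0x9040a010d090e0e03050c010904070c070b0604010c05070d04020e020503070101) (Net.cons (nat_lit 2) (nat_lit 0x31021133032210330303313333112230003133332231212101313103113000230000) (Net.cons (nat_lit 1) (nat_lit 0x451550111400051444114040505410401110514111450040010150050110400500000) Net.nil)))))))))))))))))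

theorem g262_ok : Net.ok 276 g262 = true := by decide +kernel

noncomputable def g263 : Net := (Net.cons (nat_lit 1) (nat_lit 0x555141051045511500114001411005010414010400451444145015511154115540444) (Net.cons (nat_lit 2) (nat_lit 0x11002102122213310020112323122022022112120323232123211201210212033120) (Net.cons (nat_lit 4) (nat_lit 0xe0b02030b0005080506050a0c0e050401030b03070909060d080a040f0e03080809) (Net.cons (nat_lit 8) (nat_lit 0x1700c00082007400620029006a0018005300aa00e800b300090062002f000b0001) (Net.cons (nat_lit 16) (nat_lit 0x8000099960000bd7e000045c80000078100000d8b00007c49000090c700001010) (Net.cons (nat_lit 32) (nat_lit 0x2a001391000000009d4ccc4c0000000056ad74400000000000080042) (Net.cons (nat_lit 64) (nat_lit 0xd02416412804024900000000000000000000000000098641) (Net.cons (nat_lit 128) (nat_lit 0xe1d5f166b0e008ea1fa827a54855c613) (Net.cons (nat_lit 256) (nat_lit 0xfd6d3) (Net.cons (nat_lit 128) (nat_lit 149664) (Net.cons (nat_lit 64)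 (nat_lit 0x89dc69e0b4946eb000000000000000016cae91ec9e81e49) (Net.cons (nat_lit 32) (nat_lit 0x1c915b46000000003954be0c0000000087059248000000004d6d701d) (Net.cons (nat_lit 16) (nat_lit 0xb50f0000688a0000a6cc00009791000071ba0000976d0000adee0000b2a3) (Net.cons (nat_lit 8) (nat_lit 0xc3004c005b001000e7004a009c0006005600da00dd004b007a00cd00a20052003e) (Net.cons (nat_lit 4) (nat_lit 0xa0f02090b000f0e0d0f0208090c0109070203030c020b0e0109080c090708010f07) (Net.cons (nat_lit 2) (nat_lit 0x31202232000232222220132133320033222231003121213130020000121121230222) (Net.cons (nat_lit 1) (nat_lit 0x515101014455414511541445155405501410510400440110555055114155404014105) Net.nil)))))))))))))))))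

theorem g263_ok : Net.ok 276 g263 = true := by decide +kernel

noncomputable def ht_c14_K : List Net := [g258, g259, g260, g261, g262, g263]

theorem ht_c14_K_ok : okE 276 ht_c14_K = true := (okE_cons.2 ⟨g258_ok, (okE_cons.2 ⟨g259_ok, (okE_cons.2 ⟨g260_ok, (okE_cons.2 ⟨g261_ok, (okE_cons.2 ⟨g262_ok, (okE_cons.2 ⟨g263_ok, (okE_nil 276)⟩)⟩)⟩)⟩)⟩)⟩)

noncomputable def g265 : Net := (Net.cons (nat_lit 1) (nat_lit 0x454015140105010514404554001050055511114401540100011504051151415100000) (Net.cons (nat_lit 2) (nat_lit 0x233003030331003303331001010233302003110012120222332202103231030111200) (Net.cons (nat_lit 4) (nat_lit 0x8020e0e0102070b0b000b07070d010203080f0a0f06050e0400030c010508020004) (Net.cons (nat_lit 8) (nat_lit 0xb700bd003200120084003c00e4009c00300046003d0041009f0052008f00040001) (Net.cons (nat_lit 16) (nat_lit 0x6000092840000ce040000041c0000f890000015880000a22e0000ab4100008c20) (Net.cons (nat_lit 32) (nat_lit 0xa65519010000000044644542000000003010ac650000000000001a37)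 (Net.cons (nat_lit 64) (nat_lit 0x1685a0010c1169000000000000000000000000000069c29) (Net.cons (nat_lit 128) (nat_lit 0xa2e72dc3d16961115532823cfd13000) (Net.cons (nat_lit 256) (nat_lit 507455) (Net.cons (nat_lit 128) (nat_lit 168416) (Net.cons (nat_lit 64) (nat_lit 0x48ba1d5499e40a9c000000000000000043c0e35967049645) (Net.cons (nat_lit 32) (nat_lit 0xc70414c700000000597254ac000000007c9a3c8c000000004643395e) (Net.cons (nat_lit 16) (nat_lit 0x30000f381000081f60000050f00008696000006180000700e000089b000009c7c) (Net.cons (nat_lit 8) (nat_lit 0x1004b007a00b2005500b8006b007e00a7005c00c5009500f500c600e4000b0002) (Net.cons (nat_lit 4) (nat_lit 0x30a000e050b010e020f0d07070b0802040e0c0804070102090a020f06020e0a0b08) (Net.cons (nat_lit 2) (nat_lit 0x33203222331131211313302010303032312321333121222011022003221033103021) (Net.cons (nat_lit 1) (nat_lit 0x151155541111451544145515055054401144545445551041104045141141450150041) Net.nil)))))))))))))))))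

theorem g265_ok : Net.ok 276 g265 = true := by decide +kernel

noncomputable def V266 : List Net := [g265]

theorem V266_ok : okE 276 V266 = true := (okE_cons.2 ⟨g265_ok, (okE_nil 276)⟩)

noncomputable def V268 : List Net := []

theorem V268_ok : okE 276 V268 = true := (okE_nil 276)

noncomputable def ht_c14_cnt_EG : List Net := [g35, g36, g37, g38, g39, g40, g41, g42, g173, g174, g175, g176, g177, g265]

theorem ht_c14_cnt_EG_ok : okE 276 ht_c14_cnt_EG = true := (okE_cons.2 ⟨g35_ok, (okE_cons.2 ⟨g36_ok, (okE_cons.2 ⟨g37_ok, (okE_cons.2 ⟨g38_ok, (okE_cons.2 ⟨g39_ok, (okE_cons.2 ⟨g40_ok, (okE_cons.2 ⟨g41_ok, (okE_cons.2 ⟨g42_ok, (okE_cons.2 ⟨g173_ok, (okE_cons.2 ⟨g174_ok, (okE_cons.2 ⟨g175_ok, (okE_cons.2 ⟨g176_ok, (okE_cons.2 ⟨g177_ok, (okE_cons.2 ⟨g265_ok, (okE_nil 276)⟩)⟩)⟩)⟩)⟩)⟩)⟩)⟩)⟩)⟩)⟩)⟩)⟩)⟩)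

noncomputable def g269 : Net := (Net.cons (nat_lit 1) (nat_lit 0x5401514150111554405405440450155014554455504104450100444541111010400) (Net.cons (nat_lit 2) (nat_lit 0x100010011202310002211322013202112321113003103100100221200320013022000) (Net.cons (nat_lit 4) (nat_lit 0x90f0f0700000700080b030a0707070301010a030f050109000d0302000305030d09) (Net.cons (nat_lit 8) (nat_lit 0xd1003900d400d10050002c00b6009300c300eb00f20040001a008b00a500880002) (Net.cons (nat_lit 16) (nat_lit 0x8000058b30000cca300005c1b000023870000ab6c0000c2340000815000001a00) (Net.cons (nat_lit 32) (nat_lit 0x85311898000000009b45b1b00000000012cf2a1300000000000406dc) (Net.cons (nat_lit 64) (nat_lit 0x4c14895c2730885e0000000000000000000000000002a831) (Net.cons (nat_lit 128) (nat_lit 0x23e5bd13e3b0ca28efd1644c1c811594) (Net.cons (nat_lit 256) (nat_lit 507901) (Net.cons (nat_lit 128) (nat_lit 677446) (Net.cons (nat_lit 64) (nat_lit 0x54316bcbb7d063210000000000000000e333f6f59fbc50d3) (Net.cons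 (nat_lit 32) (nat_lit 0xff9fac0900000000858b1fa200000000900655bf00000000f7faad52) (Net.cons (nat_lit 16) (nat_lit 0x30000288f0000b70f00009ada0000459a00001833000092940000eb8c0000cada) (Net.cons (nat_lit 8) (nat_lit 0xd400c20057002b002000e600940070000300bc00bc00ea008f002b00b2009600f2) (Net.cons (nat_lit 4) (nat_lit 0x6070f0c0f0601090f09010b060402040d0c0f080e0e0e070c000700070205010105) (Net.cons (nat_lit 2) (nat_lit 0x300303221211233200223000201120020321212312003200123331010212023131002) (Net.cons (nat_lit 1) (nat_lit 0x545501055454505554514105404055155454441415011111110145015015040044001) Net.nil)))))))))))))))))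

theorem g269_ok : Net.ok 276 g269 = true := by decide +kernel

noncomputable def g270 : Net := (Net.cons (nat_lit 1) (nat_lit 0x451154004510441055150010451445401155045110005400540140111415514540400) (Net.cons (nat_lit 2) (nat_lit 0x213002300021011223021113033032120020131023031013321020111213230232320) (Net.cons (nat_lit 4) (nat_lit 0xa0d05060a010803070d030d09040e0d0d0e0e0d080e03000b0a0f07090c02080b01) (Net.cons (nat_lit 8) (nat_lit 0xdd00bc00ad00b500e6001c00790064004400260008006b0096002e008c0072000a) (Net.cons (nat_lit 16) (nat_lit 0xc0000d7ce0000f50e00002a810000725000004a2900008f5600003278000082e0) (Net.cons (nat_lit 32) (nat_lit 0xcc8afd750000000062c9a06c00000000940041aa0000000000010225) (Net.cons (nat_lit 64) (nat_lit 0x7618d47281a188f2000000000000000000000000000f4380) (Net.cons (nat_lit 128) (nat_lit 0xa01bed1c296d953e5ea01bef92c8285e) (Net.cons (nat_lit 256) (nat_lit 0xfebff) (Net.cons (nat_lit 128) (nat_lit 819087) (Net.cons (nat_lit 64)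 (nat_lit 0x3c95a1a08248167f00000000000000007d6c1a996a46ffa5) (Net.cons (nat_lit 32) (nat_lit 0xd73487fc00000000e8c7f8f7000000006d55c5070000000028830e28) (Net.cons (nat_lit 16) (nat_lit 0xf000026b00000056700001bd600000c9a0000b5fa0000ad4100008c7c0000d879) (Net.cons (nat_lit 8) (nat_lit 0x910014003700b800ca00b800bf0038003600e9008600f000fd0022009f00ed003d) (Net.cons (nat_lit 4) (nat_lit 0xf02070f06060e090d0c05050e08010b0b03020f0c00040800030d050b0509000106) (Net.cons (nat_lit 2) (nat_lit 0x211011222032131303311232323311221322022333200010012220203221132322123) (Net.cons (nat_lit 1) (nat_lit 0x11400555555450154445540445541415555405551510105545011044000045415144) Net.nil)))))))))))))))))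

theorem g270_ok : Net.ok 276 g270 = true := by decide +kernel

noncomputable def g271 : Net := (Net.cons (nat_lit 1) (nat_lit 0x504044501040500451154445501001505414551455400150151415550050001000440) (Net.cons (nat_lit 2) (nat_lit 0x100132101331203320323010300311221121110021022321001122013300201022200) (Net.cons (nat_lit 4) (nat_lit 0xd07020908090a0400040d080c020a0e0a030b050a010c060d010f0d070d03070c02) (Net.cons (nat_lit 8) (nat_lit 0x43004f0061006b005b00fd00ed003c000700fb000a008b001100a200960080000a) (Net.cons (nat_lit 16) (nat_lit 0xc0000e63100006a45000040020000a2060000649e000034830000b6300000d390) (Net.cons (nat_lit 32) (nat_lit 0xc420d22f00000000425ac37f000000001d21c6100000000000016d58) (Net.cons (nat_lit 64) (nat_lit 0xda699a2cc08e611c0000000000000000000000000008c653) (Net.cons (nat_lit 128) (nat_lit 0x9e4cc516f261c1d960a33a381cb4148c) (Net.cons (nat_lit 256) (nat_lit 917503) (Net.cons (nat_lit 128) (nat_lit 962722) (Net.cons (nat_lit 64)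 (nat_lit 0x29e47c889b0e9d6500000000000000008aa72b2e57201ba4) (Net.cons (nat_lit 32) (nat_lit 0x8003f647000000000da9e6cb000000001df44b8c000000006b03951e) (Net.cons (nat_lit 16) (nat_lit 0xa00006e220000c2f70000601000007cbc0000abfb00009eca00000d1d00008660) (Net.cons (nat_lit 8) (nat_lit 0xfe00d100b9005100e000d800fb000200cb007d006f0056007e005b00dd00890002) (Net.cons (nat_lit 4) (nat_lit 0xd020a050c0a0e010d000f00020401090606060a09000a070005030b0a060200080f) (Net.cons (nat_lit 2) (nat_lit 0x330211112003320102213003321301332100123122211231110232310000220223010) (Net.cons (nat_lit 1) (nat_lit 0x111450441004455015040411405105150015510504151541104540150041454050010) Net.nil)))))))))))))))))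

theorem g271_ok : Net.ok 276 g271 = true := by decide +kernel

noncomputable def g272 : Net := (Net.cons (nat_lit 1) (nat_lit 0x555111000454400151114140010010100554041041415114140410405140440414040) (Net.cons (nat_lit 2) (nat_lit 0x20102320013322023030100322000000002322201233020200002102233202000020) (Net.cons (nat_lit 4) (nat_lit 0x503070d0f070b0f040d0d080e0d09060b0402090d0b0a0a040801020302030008) (Net.cons (nat_lit 8) (nat_lit 0xc001c00b400f600c1005800e1000a00d500d400e800620051001c00c300880000) (Net.cons (nat_lit 16) (nat_lit 0x3000090a700001f43000091d50000178f00008e4a00001d68000040b900000da0) (Net.cons (nat_lit 32) (nat_lit 0xcbc51be4000000001416fbc500000000890220370000000000080128) (Net.cons (nat_lit 64) (nat_lit 0x5690984027815a1000000000000000000000000000084483) (Net.cons (nat_lit 128) (nat_lit 0xcc40a9e821a736f533cb14d7db18912) (Net.cons (nat_lit 256) (nat_lit 646587) (Net.cons (nat_lit 128) (nat_lit 100690) (Net.cons (nat_lit 64) (nat_lit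 0x433392cd1a8578590000000000000000064044ec8dc64dcb) (Net.cons (nat_lit 32) (nat_lit 0xfe657d850000000049b6bdcc000000006ceaa33700000000bf69a1eb) (Net.cons (nat_lit 16) (nat_lit 0xf00003187000015890000d9570000ff0f0000851a00001c600000e3b300006d62) (Net.cons (nat_lit 8) (nat_lit 0xc00f4009400dc00e10058004b002200d500dc0042006a0051009e00e1000a0000) (Net.cons (nat_lit 4) (nat_lit 0x50b0f0d0f070b0f040d0502060d090e0b0402010703020a0408090a03020b0808) (Net.cons (nat_lit 2) (nat_lit 0x20102322013322221030100102220000002320201231020220002102233202000020) (Net.cons (nat_lit 1) (nat_lit 0x555111000454400151114140010010100554041041415114140410405140440414040) Net.nil)))))))))))))))))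

theorem g272_ok : Net.ok 276 g272 = true := by decide +kernel

noncomputable def g273 : Net := (Net.cons (nat_lit 1) (nat_lit 0x100441544511000404555515005005514454145101414051105510105554044100400) (Net.cons (nat_lit 2) (nat_lit 0x320120210132111012001200003122220023131221222112222103113130233101210) (Net.cons (nat_lit 4) (nat_lit 0xf0c0607020001020b04020d0d01010c0f0b0906070307070b00060a080207060500) (Net.cons (nat_lit 8) (nat_lit 0x95004100d300fe00e800600079003e00ea004200a000c400fa0043003800870002) (Net.cons (nat_lit 16) (nat_lit 0xb000094dd0000b7590000258d00006f3f00000a5d0000697c0000c06800003040) (Net.cons (nat_lit 32) (nat_lit 0xf6ab73bb000000002abea25400000000611354d000000000000a5882) (Net.cons (nat_lit 64) (nat_lit 0x240a0c4fa40641a200000000000000000000000000002168) (Net.cons (nat_lit 128) (nat_lit 0x7faa0b434958f89753e486bcb439c0be) (Net.cons (nat_lit 256) (nat_lit 0xffffe) (Net.cons (nat_lit 128) (nat_lit 0xfc700) (Net.cons (nat_lit 64)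 (nat_lit 0x749e64bf396bc34a0000000000000000f87027838c1ff91e) (Net.cons (nat_lit 32) (nat_lit 0xef1045cb00000000eadec8c1000000004b90e11e000000007ab1eda1) (Net.cons (nat_lit 16) (nat_lit 0xf0000e0010000b6730000e7d900006f3b0000be88000082d0000033b000003464) (Net.cons (nat_lit 8) (nat_lit 0xda006100b5005300b1009000e200cb006b0086000300a300f000c3002d00490096) (Net.cons (nat_lit 4) (nat_lit 0x601020b000403040909060d040d0c07070b0e030f0d070f000a0a0a010709080603) (Net.cons (nat_lit 2) (nat_lit 0x233310312300131030002100222233032022010323301331232011012133231203211) (Net.cons (nat_lit 1) (nat_lit 0x110441055155441515514515150110444514100110444454555541010015015041400) Net.nil)))))))))))))))))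

theorem g273_ok : Net.ok 276 g273 = true := by decide +kernel

noncomputable def ht_c15_K : List Net := [g270, g271, g269, g272, g273]

theorem ht_c15_K_ok : okE 276 ht_c15_K = true := (okE_cons.2 ⟨g270_ok, (okE_cons.2 ⟨g271_ok, (okE_cons.2 ⟨g269_ok, (okE_cons.2 ⟨g272_ok, (okE_cons.2 ⟨g273_ok, (okE_nil 276)⟩)⟩)⟩)⟩)⟩)

noncomputable def g275 : Net := (Net.cons (nat_lit 1) (nat_lit 0x10514045004405444045401550405444510111405155541444044540041541141140) (Net.cons (nat_lit 2) (nat_lit 0x232033120323032330202023113102013032330121230220031111120203001110210) (Net.cons (nat_lit 4) (nat_lit 0x40e0901070903020802000d0c0a0c0808050e09030a000800060006000a05020008) (Net.cons (nat_lit 8) (nat_lit 0xd500980023005800960098005b0004005700ca00f7000500e2001c006900900000) (Net.cons (nat_lit 16) (nat_lit 0x600004ba200003de000008aca0000c5960000426a000042e10000458400004080) (Net.cons (nat_lit 32) (nat_lit 0x34730191000000000621628a00000000d053c151000000000008648a) (Net.cons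 (nat_lit 64) (nat_lit 0x8d43a60002ead07d00000000000000000000000000020106) (Net.cons (nat_lit 128) (nat_lit 0x2888eb01514c89ed874b4dc6f3a4e392) (Net.cons (nat_lit 256) (nat_lit 976830) (Net.cons (nat_lit 128) (nat_lit 521104) (Net.cons (nat_lit 64) (nat_lit 0x9f2ce6831d7950be000000000000000044c8403099d7e107) (Net.cons (nat_lit 32) (nat_lit 0x36720912000000000423f6ce0000000056a4ccc30000000006da669d) (Net.cons (nat_lit 16) (nat_lit 0x400006b610000383f00008ab9000045550000c2b90000d2f2000045d70000c013) (Net.cons (nat_lit 8) (nat_lit 0x5700980023007d0013001a005b0004005f00ce0076008100e3003c006900950008) (Net.cons (nat_lit 4) (nat_lit 0x40e0901070903020802000d0c0a0c0808050e09030a020800060006000a05020008) (Net.cons (nat_lit 2) (nat_lit 0x232033120323032320202023113102013032330121230220031111120213011110210) (Net.cons (nat_lit 1) (nat_lit 0x10514045004405444045401550405444510111405155541444044540041541141140) Net.nil)))))))))))))))))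

theorem g275_ok : Net.ok 276 g275 = true := by decide +kernel

noncomputable def g276 : Net := (Net.cons (nat_lit 1) (nat_lit 0x410501455014051011445014054145141511140414400045115405411155005055400) (Net.cons (nat_lit 2) (nat_lit 0x100330021011010132230022100001323222111122111032021112212020022103130) (Net.cons (nat_lit 4) (nat_lit 0x60c000f010b0b010a0009020508030f05080c0308040d040f090d080e08030c060a) (Net.cons (nat_lit 8) (nat_lit 0x9f009000f50066001e00530019002f0017001700a8000e0021000b00cc00520008) (Net.cons (nat_lit 16) (nat_lit 0x50000e01b00005296000012a1000086e50000cdae000088a9000050d000002590) (Net.cons (nat_lit 32) (nat_lit 0x421a32a80000000008064ced000000002e628cd0000000000000620a) (Net.cons (nat_lit 64) (nat_lit 0x650fec258321b80000000000000000000000000000c0561) (Net.cons (nat_lit 128) (nat_lit 0x4b18b894b523639d65c7466ecd1a09b8) (Net.cons (nat_lit 256) (nat_lit 946171) (Net.cons (nat_lit 128) (nat_lit 489800) (Net.cons (nat_lit 64) (nat_lit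 0xf062b054a3390f00000000000000000554d5128eaa0a5d5) (Net.cons (nat_lit 32) (nat_lit 0xeb1dc52b00000000d09d1ded00000000ee1179bd00000000610c5136) (Net.cons (nat_lit 16) (nat_lit 0xd00002a41000018cb000071fe00002ef00000a8fc000073fd000071b600001f23) (Net.cons (nat_lit 8) (nat_lit 0x710088009900bc003d00a4000d0035002f00d8009700f7002100df00e4006c00b1) (Net.cons (nat_lit 4) (nat_lit 0x404090f02080c0a0d070e050b080908080902030d0e09030909000d0e0e08010e01) (Net.cons (nat_lit 2) (nat_lit 0x322311011032111132031303213103301132001202033222203210313331030102213) (Net.cons (nat_lit 1) (nat_lit 0x50454455555541111404001540554104411045544511150115005110454010401104) Net.nil)))))))))))))))))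

theorem g276_ok : Net.ok 276 g276 = true := by decide +kernel

noncomputable def V277 : List Net := [g275, g276]

theorem V277_ok : okE 276 V277 = true := (okE_cons.2 ⟨g275_ok, (okE_cons.2 ⟨g276_ok, (okE_nil 276)⟩)⟩)

noncomputable def V279 : List Net := [g276]

theorem V279_ok : okE 276 V279 = true := (okE_cons.2 ⟨g276_ok, (okE_nil 276)⟩)

noncomputable def V280 : List Net := []

theorem V280_ok : okE 276 V280 = true := (okE_nil 276)

noncomputable def ht_c15_cnt_EG : List Net := [g37, g38, g39, g40, g41, g42, g36, g35, g155, g156, g157, g130, n_t, g276, g275]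

theorem ht_c15_cnt_EG_ok : okE 276 ht_c15_cnt_EG = true := (okE_cons.2 ⟨g37_ok, (okE_cons.2 ⟨g38_ok, (okE_cons.2 ⟨g39_ok, (okE_cons.2 ⟨g40_ok, (okE_cons.2 ⟨g41_ok, (okE_cons.2 ⟨g42_ok, (okE_cons.2 ⟨g36_ok, (okE_cons.2 ⟨g35_ok, (okE_cons.2 ⟨g155_ok, (okE_cons.2 ⟨g156_ok, (okE_cons.2 ⟨g157_ok, (okE_cons.2 ⟨g130_ok, (okE_cons.2 ⟨n_t_ok, (okE_cons.2 ⟨g276_ok, (okE_cons.2 ⟨g275_ok, (okE_nil 276)⟩)⟩)⟩)⟩)⟩)⟩)⟩)⟩)⟩)⟩)⟩)⟩)⟩)⟩)⟩)

noncomputable def g281 : Net := (Net.cons (nat_lit 1) (nat_lit 0x415504555154451105451554454500011404101510405450145050500500040455500) (Net.cons (nat_lit 2) (nat_lit 0x302023312103121333103301120330233223133331021223323322131023212213130) (Net.cons (nat_lit 4) (nat_lit 0xd0e01030e030c00000f080f01090b030f0a0a0f0105030b0b020108000c020e0405) (Net.cons (nat_lit 8) (nat_lit 0x4000db003200c400cc002d00bc001a00150046005300d0004800b700d000c30001) (Net.cons (nat_lit 16) (nat_lit 0xb0000de000000510d0000a93d000060f80000868500009d98000005d600000640)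 (Net.cons (nat_lit 32) (nat_lit 0x106f89230000000002918adb00000000227800d30000000000058a40) (Net.cons (nat_lit 64) (nat_lit 0x808090180780ec4d00000000000000000000000000000b9a) (Net.cons (nat_lit 128) (nat_lit 0xece7b94bb7181e3610222356f082608d) (Net.cons (nat_lit 256) (nat_lit 0xfefff) (Net.cons (nat_lit 128) (nat_lit 119376) (Net.cons (nat_lit 64) (nat_lit 0xee0138800f79354c00000000000000000e86c099b0d9a312) (Net.cons (nat_lit 32) (nat_lit 0x4df763b300000000fc680a4e000000006bccaf7000000000c7d96ab3) (Net.cons (nat_lit 16) (nat_lit 0xa00007e0300003d5c0000f78c0000725200007f96000018c700006fc80000348f) (Net.cons (nat_lit 8) (nat_lit 0x4e00f7009c00a80025002c000e0093002000e6004a00d10000008f001d009400a1) (Net.cons (nat_lit 4) (nat_lit 0xc06060f030e060a0905020a0a0e0c0a090604030205000f0f050509030b0a000005) (Net.cons (nat_lit 2) (nat_lit 0x303122200130321033101021230333311122210022303312202202213210023212112) (Net.cons (nat_lit 1) (nat_lit 0x110104411115444555004015105111011004005555411554011410104001501444404)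 Net.nil)))))))))))))))))

theorem g281_ok : Net.ok 276 g281 = true := by decide +kernel

noncomputable def g282 : Net := (Net.cons (nat_lit 1) (nat_lit 0x540450110111151010555554001110011150100155000101510144000000100104154) (Net.cons (nat_lit 2) (nat_lit 0x101000102011011111002201313323010313221001031102003003111032132003220) (Net.cons (nat_lit 4) (nat_lit 0xa000b000d030e07090a0d0a0e060b0a04030c07030601050806090904000a020303) (Net.cons (nat_lit 8) (nat_lit 0x900001001900950083009d00ef00f1001b00eb0056001b002b0024008c005f0005) (Net.cons (nat_lit 16) (nat_lit 0x80000213a0000627f00009a950000188c000092a40000e525000050a800004c80) (Net.cons (nat_lit 32) (nat_lit 0xc0c4369400000000642029080000000040c798050000000000001440) (Net.cons (nat_lit 64) (nat_lit 0x35b6800fc8051ca900000000000000000000000000044848) (Net.cons (nat_lit 128) (nat_lit 0x7551ffd663324725c0e679c98bb372be) (Net.cons (nat_lit 256) (nat_lit 491519) (Net.cons (nat_lit 128) (nat_lit 936448)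 (Net.cons (nat_lit 64) (nat_lit 0xd6a20126351995e8000000000000000008c813743407b903) (Net.cons (nat_lit 32) (nat_lit 0xc64d078100000000d0d6e5e500000000ea00f36200000000f76cbc59) (Net.cons (nat_lit 16) (nat_lit 0x30000b76a00005ffb00009ad30000d89e00007ca700007bf800004cfa00002db0) (Net.cons (nat_lit 8) (nat_lit 0xbf00ca002900a90021006800e5000d00df00b3007300b100e600ef006400a0008d) (Net.cons (nat_lit 4) (nat_lit 0x70e0c0a000209000d010800020002090a060c0f06030102030b050e03030006000c) (Net.cons (nat_lit 2) (nat_lit 0x331032100103302002332210112122231211321013100331100232230132132132103) (Net.cons (nat_lit 1) (nat_lit 0x540055444405054045044110104505554104150450011041105410540500544141504) Net.nil)))))))))))))))))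

theorem g282_ok : Net.ok 276 g282 = true := by decide +kernel

noncomputable def g283 : Net := (Net.cons (nat_lit 1) (nat_lit 0x415404140550104515111045001400010114155414145014154055004541104040504) (Net.cons (nat_lit 2) (nat_lit 0x20313311220133121103221102000312312001000033031323011323322222202300) (Net.cons (nat_lit 4) (nat_lit 0xc0104070f050e0e0504030a05060b00070106060c0001070304030b0c0c080d0e00) (Net.cons (nat_lit 8) (nat_lit 0x30004c005800d600a100cb004b0024000a0057007c00d10015000100c400800001) (Net.cons (nat_lit 16) (nat_lit 0x400009bbb0000b3ba000072ce0000021800001304000020990000acc800000800) (Net.cons (nat_lit 32) (nat_lit 0x49581c47000000004301115600000000c140344c00000000000ab802) (Net.cons (nat_lit 64) (nat_lit 0x408d05318238ab290000000000000000000000000002244d) (Net.cons (nat_lit 128) (nat_lit 0xd0e13ef16d84993b221e7146d3fc98a8) (Net.cons (nat_lit 256) (nat_lit 0xffcef) (Net.cons (nat_lit 128) (nat_lit 686648) (Net.cons (nat_lit 64)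 (nat_lit 0x44b659351653e8e0000000000000000414c64dccf2378f8) (Net.cons (nat_lit 32) (nat_lit 0x428488a5000000003cfb507500000000e6454a7f0000000051c7b352) (Net.cons (nat_lit 16) (nat_lit 0x1000033e00000f3f400001ab6000071eb0000dd910000a29100005fc60000e403) (Net.cons (nat_lit 8) (nat_lit 0x52003600d9007e009c00f500f600d500e900ee007000b3005c00b9006e00a1004c) (Net.cons (nat_lit 4) (nat_lit 0x80b07020300080f010b0a00010c0c060b06060c02040f05090e0b0c05060905070e) (Net.cons (nat_lit 2) (nat_lit 0x302233220313111200201021102003200023111330033332200110231302030101131) (Net.cons (nat_lit 1) (nat_lit 0x415414554400514150400404444511410105511445005105015544044511155051444) Net.nil)))))))))))))))))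

theorem g283_ok : Net.ok 276 g283 = true := by decide +kernel

noncomputable def ht_c16_K : List Net := [g281, g282, g283, n_t]

theorem ht_c16_K_ok : okE 276 ht_c16_K = true := (okE_cons.2 ⟨g281_ok, (okE_cons.2 ⟨g282_ok, (okE_cons.2 ⟨g283_ok, (okE_cons.2 ⟨n_t_ok, (okE_nil 276)⟩)⟩)⟩)⟩)

noncomputable def g285 : Net := (Net.cons (nat_lit 1) (nat_lit 0x44414005414041140455411544400504101505450415141405415401054144154040) (Net.cons (nat_lit 2) (nat_lit 0x222201320333101330100111303103033120310203211002112333023111120200100) (Net.cons (nat_lit 4) (nat_lit 0x107040a000904030f01080000070b010b0f0c0709030d090400030d09000f0f0e0a) (Net.cons (nat_lit 8) (nat_lit 0xbe009b00c3001f001b007000bd00f0001b00be000f000700030081008a00200000) (Net.cons (nat_lit 16) (nat_lit 0xc0000da350000f67e000096a60000057800000a6900006c000000552000005000) (Net.cons (nat_lit 32) (nat_lit 0xc2a4c914000000005224a992000000008a23ad550000000000001965) (Net.cons (nat_lit 64) (nat_lit 0xc413212d0ee148cd00000000000000000000000000028443)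 (Net.cons (nat_lit 128) (nat_lit 0x4ddd8b121680d60b914ef8ef286e0c6c) (Net.cons (nat_lit 256) (nat_lit 982383) (Net.cons (nat_lit 128) (nat_lit 603276) (Net.cons (nat_lit 64) (nat_lit 0x266c54d43eb1fa6c0000000000000000ccbc69754a14daa3) (Net.cons (nat_lit 32) (nat_lit 0x9d08d3e9000000003480d809000000004301871c000000002c9c436f) (Net.cons (nat_lit 16) (nat_lit 0x20000f2240000e0530000239c0000493300004ce60000cefe000003e10000ed81) (Net.cons (nat_lit 8) (nat_lit 0xb300c30087006d0074005400ad00c9007b00b9008a00420043002a00d3000e00e0) (Net.cons (nat_lit 4) (nat_lit 0x70e0e0e0f0d02000c0b080f050101070c0b0a070f0b0b0501000b0901020405090c) (Net.cons (nat_lit 2) (nat_lit 0x20211013131010023010111020311223230311113031130223000231311321312302) (Net.cons (nat_lit 1) (nat_lit 0x400405540504151440444514451405501001401450014044115554540144501010400) Net.nil)))))))))))))))))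

theorem g285_ok : Net.ok 276 g285 = true := by decide +kernel

noncomputable def V286 : List Net := [g285, n_t]

theorem V286_ok : okE 276 V286 = true := (okE_cons.2 ⟨g285_ok, (okE_cons.2 ⟨n_t_ok, (okE_nil 276)⟩)⟩)

noncomputable def V288 : List Net := [n_t]

theorem V288_ok : okE 276 V288 = true := (okE_cons.2 ⟨n_t_ok, (okE_nil 276)⟩)

noncomputable def V289 : List Net := []

theorem V289_ok : okE 276 V289 = true := (okE_nil 276)

noncomputable def ht_c16_cnt_EG : List Net := [g36, g37, g38, g39, g40, g41, g42, g35, g155, g156, g157, g130, n_t, g285]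

theorem ht_c16_cnt_EG_ok : okE 276 ht_c16_cnt_EG = true := (okE_cons.2 ⟨g36_ok, (okE_cons.2 ⟨g37_ok, (okE_cons.2 ⟨g38_ok, (okE_cons.2 ⟨g39_ok, (okE_cons.2 ⟨g40_ok, (okE_cons.2 ⟨g41_ok, (okE_cons.2 ⟨g42_ok, (okE_cons.2 ⟨g35_ok, (okE_cons.2 ⟨g155_ok, (okE_cons.2 ⟨g156_ok, (okE_cons.2 ⟨g157_ok, (okE_cons.2 ⟨g130_ok, (okE_cons.2 ⟨n_t_ok, (okE_cons.2 ⟨g285_ok, (okE_nil 276)⟩)⟩)⟩)⟩)⟩)⟩)⟩)⟩)⟩)⟩)⟩)⟩)⟩)⟩)

noncomputable def g290 : Net := (Net.cons (nat_lit 1) (nat_lit 0x544145440405541511400445054400405000551454515011015410441400001101010) (Net.cons (nat_lit 2) (nat_lit 0x330330223302312203002013231223323131023121332110210222320312231300020) (Net.cons (nat_lit 4) (nat_lit 0xd0102090a0e0a0209030d080a0200080708090f07040d0f080a0a08000300040604) (Net.cons (nat_lit 8) (nat_lit 0x8700e900f900ab009400b3004f006500ce00190053000b00d7008e002000690000) (Net.cons (nat_lit 16) (nat_lit 0x200003dd100000662000067690000ccd7000042f4000051400000384100002420) (Net.cons (nat_lit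 32) (nat_lit 0x2a274d4000000000946d76b00000000e01c2d950000000000040c8d) (Net.cons (nat_lit 64) (nat_lit 0x1c212f2d4200050000000000000000000000000001d9eb) (Net.cons (nat_lit 128) (nat_lit 0x764296569354f2569abe2bf9eea6f1c4) (Net.cons (nat_lit 256) (nat_lit 523759) (Net.cons (nat_lit 128) (nat_lit 447569) (Net.cons (nat_lit 64) (nat_lit 0x8bf58ca756458b7200000000000000004be3a0d1d92fb107) (Net.cons (nat_lit 32) (nat_lit 0x2eba5b3a00000000ceef373d000000001299e9aa00000000fdbb240e) (Net.cons (nat_lit 16) (nat_lit 0xc0000087500002e4d0000a0900000fc330000868000003ac60000ef710000c760) (Net.cons (nat_lit 8) (nat_lit 0xb3008c005900440075009e007100560018005b007400d2003300e3005500bc00ca) (Net.cons (nat_lit 4) (nat_lit 0xc09050f0a040e000f02030d0e09040400040e0f0e02090e08030d0e060f0e040309) (Net.cons (nat_lit 2) (nat_lit 0x331013211110101021202123223213000122121212211332213203131132110011221) (Net.cons (nat_lit 1) (nat_lit 0x411450411041511140155450454440050001010011404015005515151155040014)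 Net.nil)))))))))))))))))

theorem g290_ok : Net.ok 276 g290 = true := by decide +kernel

noncomputable def g291 : Net := (Net.cons (nat_lit 1) (nat_lit 0x400051004054550500445101015410400511545011554104001114151410451000) (Net.cons (nat_lit 2) (nat_lit 0x232220011211301020102001103031212322210202312011222320112301022010020) (Net.cons (nat_lit 4) (nat_lit 0x30e0c030b00080f090e05080c090909030d030309010c01020c020f0c080b0003) (Net.cons (nat_lit 8) (nat_lit 0x18003d00fc00bc0081001d00840010007900c600e4009c00c00061009900210008) (Net.cons (nat_lit 16) (nat_lit 0xa0000b7ea00000ad80000e9c00000fbbc00003bb10000f90c0000cec400002420) (Net.cons (nat_lit 32) (nat_lit 0x64271be10000000047c3452c00000000a1243216000000000000a242) (Net.cons (nat_lit 64) (nat_lit 0x8e240220084228d700000000000000000000000000045e30) (Net.cons (nat_lit 128) (nat_lit 0xd09950f43f58096b1fae3b92d527602e) (Net.cons (nat_lit 256) (nat_lit 523903) (Net.cons (nat_lit 128) (nat_lit 206520) (Net.cons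 (nat_lit 64) (nat_lit 0x22eb6932bbdd295000000000000000004400b13635a48d27) (Net.cons (nat_lit 32) (nat_lit 0x2d9a6bf600000000758163070000000035dc6e75000000009e993606) (Net.cons (nat_lit 16) (nat_lit 0x80000e3e00000d30a0000a55b00009be00000bffc0000488f0000f87900000ef8) (Net.cons (nat_lit 8) (nat_lit 0x5900da003d004a001d00c300e600df002400cc007700b2003c0072003d0049001f) (Net.cons (nat_lit 4) (nat_lit 0x2010a000d090a0e09050702060b0c060e040706050e0a000d0c05020c06040a0e00) (Net.cons (nat_lit 2) (nat_lit 0x22111123220211322312201110310130120130201013221013001222311210133020) (Net.cons (nat_lit 1) (nat_lit 0x55101105014040055005444154050510445500445501111015544545541411415051) Net.nil)))))))))))))))))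

theorem g291_ok : Net.ok 276 g291 = true := by decide +kernel

noncomputable def g292 : Net := (Net.cons (nat_lit 1) (nat_lit 0x540014055000115454540041014415444551155015555145551000054501101414140) (Net.cons (nat_lit 2) (nat_lit 0x220030203100003121230322021310233002021320303221023212333023002030020) (Net.cons (nat_lit 4) (nat_lit 0x90d0d070701000c070401050d080e080e000a0607080f0905080a050806090c0005) (Net.cons (nat_lit 8) (nat_lit 0x8c0082000100ef00a8002d006e0011001000d900bb00db00a9000700af00440008) (Net.cons (nat_lit 16) (nat_lit 0x6000023a30000e6170000be87000085c2000015b30000028a0000e68800002800) (Net.cons (nat_lit 32) (nat_lit 0x9aaf5cee000000003f726703000000008c88a49f0000000000016130) (Net.cons (nat_lit 64) (nat_lit 0x188004496c4d09a80000000000000000000000000005eda4) (Net.cons (nat_lit 128) (nat_lit 0x9c46ece272e25eb807afa0998c1389a4) (Net.cons (nat_lit 256) (nat_lit 519605) (Net.cons (nat_lit 128) (nat_lit 920226) (Net.cons (nat_lit 64)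 (nat_lit 0x17e36c25c80d0a91000000000000000024418796d41aeb8d) (Net.cons (nat_lit 32) (nat_lit 0x6e734b6f000000002862c58800000000fcdecdc200000000ccce03da) (Net.cons (nat_lit 16) (nat_lit 0xc00007c120000fe810000348b00000e62000087cd00008b2c0000224800008aa7) (Net.cons (nat_lit 8) (nat_lit 0x4c00a1009600ab008a000a004b00950097000e00f900e200f9001f008b0022006c) (Net.cons (nat_lit 4) (nat_lit 0xd090906070804060e030b07020d0e0c08000f03080a0f0d030c0d0d020a0b070407) (Net.cons (nat_lit 2) (nat_lit 0x330331303321321300203103000000221030032032311202123223203011220210010) (Net.cons (nat_lit 1) (nat_lit 0x140105151001450011045404041510045505004515114551405514101540505540045) Net.nil)))))))))))))))))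

theorem g292_ok : Net.ok 276 g292 = true := by decide +kernel

noncomputable def ht_c17_K : List Net := [g290, g291, g292, g285, n_t]

theorem ht_c17_K_ok : okE 276 ht_c17_K = true := (okE_cons.2 ⟨g290_ok, (okE_cons.2 ⟨g291_ok, (okE_cons.2 ⟨g292_ok, (okE_cons.2 ⟨g285_ok, (okE_cons.2 ⟨n_t_ok, (okE_nil 276)⟩)⟩)⟩)⟩)⟩)

noncomputable def V294 : List Net := [n_t]

theorem V294_ok : okE 276 V294 = true := (okE_cons.2 ⟨n_t_ok, (okE_nil 276)⟩)

noncomputable def V296 : List Net := []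

theorem V296_ok : okE 276 V296 = true := (okE_nil 276)

noncomputable def ht_c17_cnt_EG : List Net := [g36, g37, g38, g39, g40, g41, g42, g35, g243, g244, n_t]

theorem ht_c17_cnt_EG_ok : okE 276 ht_c17_cnt_EG = true := (okE_cons.2 ⟨g36_ok, (okE_cons.2 ⟨g37_ok, (okE_cons.2 ⟨g38_ok, (okE_cons.2 ⟨g39_ok, (okE_cons.2 ⟨g40_ok, (okE_cons.2 ⟨g41_ok, (okE_cons.2 ⟨g42_ok, (okE_cons.2 ⟨g35_ok, (okE_cons.2 ⟨g243_ok, (okE_cons.2 ⟨g244_ok, (okE_cons.2 ⟨n_t_ok, (okE_nil 276)⟩)⟩)⟩)⟩)⟩)⟩)⟩)⟩)⟩)⟩)⟩)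

noncomputable def g297 : Net := (Net.cons (nat_lit 1) (nat_lit 0x1005010011440510100444100051051440005411405450404505000444011400004) (Net.cons (nat_lit 2) (nat_lit 0x222023300001001102231303000023232001313111101232310300210130003110100) (Net.cons (nat_lit 4) (nat_lit 0xa0b080209080501030d010a000604030e080a0d000d070f09040e000402040d0201) (Net.cons (nat_lit 8) (nat_lit 0x8800cd002c00c10073004a0048003500a50016008b00d100500087000c00260000) (Net.cons (nat_lit 16) (nat_lit 0xe0000341300004a1300000ac4000036060000dca60000143300004e0200002880) (Net.cons (nat_lit 32) (nat_lit 0xc6a09da100000000e40fd95c0000000020635a0200000000000120e0) (Net.cons (nat_lit 64) (nat_lit 0xca881a4c17eb4f9800000000000000000000000000046c0a) (Net.cons (nat_lit 128) (nat_lit 0x62d75d5941d8a7b5bd5fc2847e2b922c) (Net.cons (nat_lit 256) (nat_lit 0xffeef) (Net.cons (nat_lit 128) (nat_lit 477699) (Net.cons (nat_lit 64) (nat_lit 0x9c046ccefcc34993000000000000000000cdfbcd3fe8a59a) (Net.cons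 (nat_lit 32) (nat_lit 0x3e6f8798000000006da3a82e0000000029d8a78000000000dfdb57c1) (Net.cons (nat_lit 16) (nat_lit 0xd0000702b0000b9600000963c0000d8be0000ab30000085dd0000b1f200008300) (Net.cons (nat_lit 8) (nat_lit 0xaf000a00a000aa004f00e500b500b20087000a00bd00520091003800a700c3006d) (Net.cons (nat_lit 4) (nat_lit 0x70c0c0d0000080f0a03040a04000c02000b060c090304000b02000b020202080b0a) (Net.cons (nat_lit 2) (nat_lit 0x31331131231120000223133023232321011133000202221131203231122023331222) (Net.cons (nat_lit 1) (nat_lit 0x4011041014411051501145015015450555100500101544500000041500044051510) Net.nil)))))))))))))))))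

theorem g297_ok : Net.ok 276 g297 = true := by decide +kernel

noncomputable def g298 : Net := (Net.cons (nat_lit 1) (nat_lit 0x10100105040510505040105051110404051114141511404544044054544154400510) (Net.cons (nat_lit 2) (nat_lit 0x213200100013003202212033202210322031130032112000130232033111332220320) (Net.cons (nat_lit 4) (nat_lit 0xe0d080406030c080d070307090f0a08090a00040804060e0903050b0402020a0d04) (Net.cons (nat_lit 8) (nat_lit 0x6300ee00fd00710007006e004b002e00cc006500c3008f004f004200d100cc0001) (Net.cons (nat_lit 16) (nat_lit 0x50000dd7a0000a0900000800b000073540000e6a400007140000081640000a440) (Net.cons (nat_lit 32) (nat_lit 0x2048032e000000000670841e0000000043069a0300000000000b1d90) (Net.cons (nat_lit 64) (nat_lit 0x68218d2651018ce400000000000000000000000000078696) (Net.cons (nat_lit 128) (nat_lit 0x46546b538ca6379929f9962555614560) (Net.cons (nat_lit 256) (nat_lit 0xffffe) (Net.cons (nat_lit 128) (nat_lit 49012) (Net.cons (nat_lit 64) (nat_lit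 0x9966caf4d24c3299000000000000000033abca763cda6112) (Net.cons (nat_lit 32) (nat_lit 0xa9f190d5000000002dbec6aa00000000da446b7000000000bfd82d7b) (Net.cons (nat_lit 16) (nat_lit 0x4000013460000d7cf0000e20a0000e00d0000a0dd0000e0eb00001f1700004b3e) (Net.cons (nat_lit 8) (nat_lit 0xdf00cd00c0001700e3003600b2009d00dd00d0006b009c009a0054006a000e00ea) (Net.cons (nat_lit 4) (nat_lit 0x50803000a0a0b0f0f01060c0f08060706030a0d050f080f0903010f03000408060f) (Net.cons (nat_lit 2) (nat_lit 0x301110022301221333022021300021103031313220130101002221102031121321110) (Net.cons (nat_lit 1) (nat_lit 0x510550044515505150111554045540404111555401055444141104444505115401445) Net.nil)))))))))))))))))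

theorem g298_ok : Net.ok 276 g298 = true := by decide +kernel

noncomputable def g299 : Net := (Net.cons (nat_lit 1) (nat_lit 0x55541441105505544555510111015151510040111414515140015110041415055114) (Net.cons (nat_lit 2) (nat_lit 0x30320223310213211110202330103211021323200031122011033330233322002300) (Net.cons (nat_lit 4) (nat_lit 0x30601050002000f080c0201010c0c030d0403040408070b080503060d05050303) (Net.cons (nat_lit 8) (nat_lit 0x72002e008700b100fe00580085009b0085003300dd000800c60009002c002a000c) (Net.cons (nat_lit 16) (nat_lit 0xc0000a4a50000a5730000101c000046700000466f000037480000471600000720) (Net.cons (nat_lit 32) (nat_lit 0x7fc9de720000000000526a0c00000000a6210d1700000000000a4dba) (Net.cons (nat_lit 64) (nat_lit 0x94632817fec4c3600000000000000000000000000087341) (Net.cons (nat_lit 128) (nat_lit 0xa3a8ea4a5ce0fe02554780f5a3f6c1d) (Net.cons (nat_lit 256) (nat_lit 0xfffff) (Net.cons (nat_lit 128) (nat_lit 560526) (Net.cons (nat_lit 64) (nat_lit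 0xc09817e1e76ceb80000000000000000a87b0459614e112e) (Net.cons (nat_lit 32) (nat_lit 0x48f6c7760000000096d6b0d200000000883dd7680000000095c7fba0) (Net.cons (nat_lit 16) (nat_lit 0x30000b1ec0000031e00005c730000a06300009755000034a70000d84300006ce3) (Net.cons (nat_lit 8) (nat_lit 0x94000200900065008b008b0043009300b30088005c00d0008a00d900ed00d400f5) (Net.cons (nat_lit 4) (nat_lit 0x802050c020204020b010605080200070a0b010d0d0e040e0f010e07090208010606) (Net.cons (nat_lit 2) (nat_lit 0x102001301321132110213221213100112100112311313030013200312221110103121) (Net.cons (nat_lit 1) (nat_lit 0x451141155110000001445400440501001155040105151101154544545400511155) Net.nil)))))))))))))))))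

theorem g299_ok : Net.ok 276 g299 = true := by decide +kernel

noncomputable def g300 : Net := (Net.cons (nat_lit 1) (nat_lit 0x145004110154404041155505015111400105404500505414101044041411545500050) (Net.cons (nat_lit 2) (nat_lit 0x312210113030330121223222331032022102010121000200203321223032023122200) (Net.cons (nat_lit 4) (nat_lit 0xd0d080106020b0e03060f0905060c0803030005090b030d060b050a010b030d0a08) (Net.cons (nat_lit 8) (nat_lit 0xaf003e002f00e400ea00c8003c002300d200db00600038008a003400040096000c) (Net.cons (nat_lit 16) (nat_lit 0x90000e0010000939c000032240000f48300003151000010b30000068000008640) (Net.cons (nat_lit 32) (nat_lit 0x1344a123000000001c560301000000001245f40d0000000000089410) (Net.cons (nat_lit 64) (nat_lit 0x27937588a4c72127000000000000000000000000000c980d) (Net.cons (nat_lit 128) (nat_lit 0xa44a3ef2884932f653bd434a2d8a62ca) (Net.cons (nat_lit 256) (nat_lit 0xffeff) (Net.cons (nat_lit 128) (nat_lit 841027) (Net.cons (nat_lit 64)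 (nat_lit 0x6c99c2d2d7d86be60000000000000000bcd981da0304e47f) (Net.cons (nat_lit 32) (nat_lit 0x5c03fa090000000075f5f44c000000003973a4990000000037ddd7bc) (Net.cons (nat_lit 16) (nat_lit 0x20000c90a0000fac00000ba9e0000cb290000fe8a0000888b0000722e00008797) (Net.cons (nat_lit 8) (nat_lit 0x310077001000b500630085000700eb0091005900ca0003003a002b0024001c007d) (Net.cons (nat_lit 4) (nat_lit 0x10b01000c04080d01060a0c0700010003010507030f08060e01060100090109080a) (Net.cons (nat_lit 2) (nat_lit 0x310201131301210010032120212023220201122303213001211333011132303113003) (Net.cons (nat_lit 1) (nat_lit 0x144404105004540545144145450045041505544005155414401411554411451101504) Net.nil)))))))))))))))))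

theorem g300_ok : Net.ok 276 g300 = true := by decide +kernel

noncomputable def g301 : Net := (Net.cons (nat_lit 1) (nat_lit 0x404015405151555451401010554040045440411501544114445141415445144504114) (Net.cons (nat_lit 2) (nat_lit 0x313333331023022020133122321132003122003203013023310300300200232123220) (Net.cons (nat_lit 4) (nat_lit 0xd04080609030a04050807000e000e010d06040c030000020c040708090c04090002) (Net.cons (nat_lit 8) (nat_lit 0x8b007b004a003600d100230056003000a3008d00ed0090000b002400e100b30009) (Net.cons (nat_lit 16) (nat_lit 0x200003bb8000014880000d31000001c080000e0170000ede90000202600006880) (Net.cons (nat_lit 32) (nat_lit 0x9849238d000000008404182200000000a4475fa50000000000012c05) (Net.cons (nat_lit 64) (nat_lit 0xa20154a7534d0b4e00000000000000000000000000094824) (Net.cons (nat_lit 128) (nat_lit 0x7b14cb8c769a3d6a99019f2b2dd70a8f) (Net.cons (nat_lit 256) (nat_lit 0xfeeef) (Net.cons (nat_lit 128) (nat_lit 138377) (Net.cons (nat_lit 64)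 (nat_lit 0x6f6ad6361989216c000000000000000022dd40ac9b1ad655) (Net.cons (nat_lit 32) (nat_lit 0x3ad720c700000000874a8f7800000000a80b4e1e000000004643bde6) (Net.cons (nat_lit 16) (nat_lit 0xd000072f400000d430000e14e0000021a00004caa0000ff2b0000c6e30000ab7c) (Net.cons (nat_lit 8) (nat_lit 0x2c008e000800fa00a20068001100c2009700b700950059002900ac00be001c0052) (Net.cons (nat_lit 4) (nat_lit 0xa0d00080405050c0d02010f0a02020f090f08020b0a0d060e0d020e0d080d040d07) (Net.cons (nat_lit 2) (nat_lit 0x110302002221231203331332301033020120132101131020020331122203331220033) (Net.cons (nat_lit 1) (nat_lit 0x451545010001005404041141105054001501444450144550044141551405500011504) Net.nil)))))))))))))))))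

theorem g301_ok : Net.ok 276 g301 = true := by decide +kernel

noncomputable def ht_c18_K : List Net := [g297, g298, g299, g300, g301]

theorem ht_c18_K_ok : okE 276 ht_c18_K = true := (okE_cons.2 ⟨g297_ok, (okE_cons.2 ⟨g298_ok, (okE_cons.2 ⟨g299_ok, (okE_cons.2 ⟨g300_ok, (okE_cons.2 ⟨g301_ok, (okE_nil 276)⟩)⟩)⟩)⟩)⟩)

noncomputable def ht_c18_cnt_EG : List Net := [g35, g36, g37, g38, g39, g40, g41, g42, g173, g174, g175, g176, g177]

theorem ht_c18_cnt_EG_ok : okE 276 ht_c18_cnt_EG = true := (okE_cons.2 ⟨g35_ok, (okE_cons.2 ⟨g36_ok, (okE_cons.2 ⟨g37_ok, (okE_cons.2 ⟨g38_ok, (okE_cons.2 ⟨g39_ok, (okE_cons.2 ⟨g40_ok, (okE_cons.2 ⟨g41_ok, (okE_cons.2 ⟨g42_ok, (okE_cons.2 ⟨g173_ok, (okE_cons.2 ⟨g174_ok, (okE_cons.2 ⟨g175_ok, (okE_cons.2 ⟨g176_ok, (okE_cons.2 ⟨g177_ok, (okE_nil 276)⟩)⟩)⟩)⟩)⟩)⟩)⟩)⟩)⟩)⟩)⟩)⟩)⟩)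

noncomputable def g303 : Net := (Net.cons (nat_lit 1) (nat_lit 0x100011440414504100115055114115155511551105441411454150401140110511154) (Net.cons (nat_lit 2) (nat_lit 0x201120002012311020211200333310120120013331111132233030031303330133120) (Net.cons (nat_lit 4) (nat_lit 0x80f000d070e0e04000a0e040a0e0d0f07010f0d0a0a050a0c02080e0d0d040b0307) (Net.cons (nat_lit 8) (nat_lit 0xfa005000da00e90086002b00c900ca00600085005c0010006b0030008800090004) (Net.cons (nat_lit 16) (nat_lit 0x10000465400007199000051dd000075080000ae580000892a0000312300008280) (Net.cons (nat_lit 32) (nat_lit 0x42ba064d000000000206ceba000000005878bc1a000000000004014e) (Net.cons (nat_lit 64) (nat_lit 0x6a92217810c824c60000000000000000000000000008780a) (Net.cons (nat_lit 128) (nat_lit 0xd4afa045e572e715ab5c17bef8bb7bd3) (Net.cons (nat_lit 256) (nat_lit 0xffbdf) (Net.cons (nat_lit 128) (nat_lit 516408) (Net.cons (nat_lit 64) (nat_lit 0x99546e4ff5a5860f000000000000000076fabf3baed70f10) (Net.cons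 (nat_lit 32) (nat_lit 0x62f576c600000000998ab035000000000bc2e31f00000000d39a11fd) (Net.cons (nat_lit 16) (nat_lit 0xe000070870000261c000022660000d6e00000f29c0000708e0000be4900005767) (Net.cons (nat_lit 8) (nat_lit 0xe70038000600ec0083004900960038009a006200b9001f00f90013007100ae0092) (Net.cons (nat_lit 4) (nat_lit 0x30c080507020b02040b0e0101060f00040501080a0a0802040e050e0f070e020a03) (Net.cons (nat_lit 2) (nat_lit 0x21023213011110233000033212233130033032030210332023112300211302211220) (Net.cons (nat_lit 1) (nat_lit 0x51050001510545004154040404514451515055050455144004451415511054445010) Net.nil)))))))))))))))))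

theorem g303_ok : Net.ok 276 g303 = true := by decide +kernel

noncomputable def g304 : Net := (Net.cons (nat_lit 1) (nat_lit 0x414145551114541051450014445001015110414510414514040510014445410450500) (Net.cons (nat_lit 2) (nat_lit 0x30323032311230113001222133100211131013130233321033323200211020100200) (Net.cons (nat_lit 4) (nat_lit 0x508050b0600040c0f0c00080b050902020409090a0d08030e090f030b0f050e0105) (Net.cons (nat_lit 8) (nat_lit 0xf200a200cd00e4001a002400dd006900cb00e100a6004400ba00f800bc0017000d) (Net.cons (nat_lit 16) (nat_lit 0x800008a590000ba8100002b14000026510000424900004d86000008240000a060) (Net.cons (nat_lit 32) (nat_lit 0x82439c70000000004da33384000000000420115a000000000004159a) (Net.cons (nat_lit 64) (nat_lit 0xe621080410859f5e00000000000000000000000000021114) (Net.cons (nat_lit 128) (nat_lit 0x9c8a9fdd616d3f327bad420bb0ad9c65) (Net.cons (nat_lit 256) (nat_lit 0xfbdff) (Net.cons (nat_lit 128) (nat_lit 228553) (Net.cons (nat_lit 64)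 (nat_lit 0xf4313104edc647ae00000000000000000fb67e08314afb1f) (Net.cons (nat_lit 32) (nat_lit 0x7a5af5300000000f963a943000000001ac48057000000008b813a09) (Net.cons (nat_lit 16) (nat_lit 0xc0000806a0000960a00008874000040890000e8270000d1bf0000746b00007081) (Net.cons (nat_lit 8) (nat_lit 0xc2003f005c005c0099000f00940048009a00d100bd009200b600e40004002b00d0) (Net.cons (nat_lit 4) (nat_lit 0xe05010d0309080d040f0907080e0f080f0e0b0c0d0d0e0a050b01000e040f080e05) (Net.cons (nat_lit 2) (nat_lit 0x232211332222211232303221132233221330200210033231323211100032100222120) (Net.cons (nat_lit 1) (nat_lit 0x514511144140554450050014040155104551140451441144454414114101005505504) Net.nil)))))))))))))))))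

theorem g304_ok : Net.ok 276 g304 = true := by decide +kernel

noncomputable def g305 : Net := (Net.cons (nat_lit 1) (nat_lit 0x115400445400444500551450500010014510404541101014551511040400000510000) (Net.cons (nat_lit 2) (nat_lit 0x131131332323022200313313233033332103210301032121310211012100000000000) (Net.cons (nat_lit 4) (nat_lit 0xd0103040d0d02000e020c0f000c02000309000b000001010b04000104000000) (Net.cons (nat_lit 8) (nat_lit 0x29004f004400ae004d006500c9002a004a002c00100073001100a1002100800004) (Net.cons (nat_lit 16) (nat_lit 0x6000093980000084700008064000080580000a93100008182000022f000000000) (Net.cons (nat_lit 32) (nat_lit 0x90a4620e000000008c500501000000003000928a000000000004f981) (Net.cons (nat_lit 64) (nat_lit 0x863058ca202ed0900000000000000000000000000021a48) (Net.cons (nat_lit 128) (nat_lit 0xaf978c20262a928949a7d4da82a4991) (Net.cons (nat_lit 256) (nat_lit 983005) (Net.cons (nat_lit 128) (nat_lit 740752) (Net.cons (nat_lit 64) (nat_lit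 0x8cbf0bed3642fd4a0000000000000000619d885155925ada) (Net.cons (nat_lit 32) (nat_lit 0x186ce21f000000006d918500000000007546929a00000000c305f9b0) (Net.cons (nat_lit 16) (nat_lit 0x60000b79c0000094e00008076000084590000ac3000008183000026f900000040) (Net.cons (nat_lit 8) (nat_lit 0x28004f004400af004c00e500c900aa004a00a80010007f001d00a1002100840004) (Net.cons (nat_lit 4) (nat_lit 0xd01030c050d02000e0a0c0f020c02040e09000b000001010b04000901020000) (Net.cons (nat_lit 2) (nat_lit 0x130131332323022200312313233033332103200301132121310213012100010000001) (Net.cons (nat_lit 1) (nat_lit 0x115400455400444500551450540010014510404541101014551511040400000511000) Net.nil)))))))))))))))))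

theorem g305_ok : Net.ok 276 g305 = true := by decide +kernel

noncomputable def ht_c19_K : List Net := [g303, g304, g305, n_t]

theorem ht_c19_K_ok : okE 276 ht_c19_K = true := (okE_cons.2 ⟨g303_ok, (okE_cons.2 ⟨g304_ok, (okE_cons.2 ⟨g305_ok, (okE_cons.2 ⟨n_t_ok, (okE_nil 276)⟩)⟩)⟩)⟩)

noncomputable def g307 : Net := (Net.cons (nat_lit 1) (nat_lit 0x414514100514004541501545414054045540500415500551444151045415005104040) (Net.cons (nat_lit 2) (nat_lit 0x1131113303031132122020321132302230322011031021323202003032210111020) (Net.cons (nat_lit 4) (nat_lit 0x40507000c090d0c0505040505050605000f0c05020e050d0000010c0706050a000a) (Net.cons (nat_lit 8) (nat_lit 0x60004005700b5002f0020009c004e00c3004c00ae006200c9007000ed008a0008) (Net.cons (nat_lit 16) (nat_lit 0x8000013e40000c32c000033b80000cce900003128000005120000e04200008900) (Net.cons (nat_lit 32) (nat_lit 0x11ab2c40000000008bbc0c000000000280133c90000000000028a59) (Net.cons (nat_lit 64) (nat_lit 0x46560cbc8125fac50000000000000000000000000000ad0d)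 (Net.cons (nat_lit 128) (nat_lit 0x2b9f58968716ed6464c9552b68761434) (Net.cons (nat_lit 256) (nat_lit 442237) (Net.cons (nat_lit 128) (nat_lit 722847) (Net.cons (nat_lit 64) (nat_lit 0x3cf0132a18e53a1000000000000000068362c4bd6382b3f) (Net.cons (nat_lit 32) (nat_lit 0xb5b8d6fb000000001470c9c4000000001c8131ed0000000085e73abb) (Net.cons (nat_lit 16) (nat_lit 0x800003565000089af000019260000b55d00009c1a0000defb00008c9200002c0b) (Net.cons (nat_lit 8) (nat_lit 0x8500b500dd009800b00028004a006c006a0026009b009000ec00bb00a4007b0027) (Net.cons (nat_lit 4) (nat_lit 0xe03000a070b040d050501010a070f080d0a0806080a03080a090a0c000a000a0804) (Net.cons (nat_lit 2) (nat_lit 0x203323233011003333302000020013321120223103111223022003223013111213120) (Net.cons (nat_lit 1) (nat_lit 0x44451014044545041511544414511014114144454040455115504404105110054000) Net.nil)))))))))))))))))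

theorem g307_ok : Net.ok 276 g307 = true := by decide +kernel

noncomputable def V308 : List Net := [g307]

theorem V308_ok : okE 276 V308 = true := (okE_cons.2 ⟨g307_ok, (okE_nil 276)⟩)

noncomputable def V310 : List Net := []

theorem V310_ok : okE 276 V310 = true := (okE_nil 276)

noncomputable def ht_c19_cnt_EG : List Net := [g36, g37, g38, g39, g40, g41, g42, g35, g130, g131, n_t, g129, g307]

theorem ht_c19_cnt_EG_ok : okE 276 ht_c19_cnt_EG = true := (okE_cons.2 ⟨g36_ok, (okE_cons.2 ⟨g37_ok, (okE_cons.2 ⟨g38_ok, (okE_cons.2 ⟨g39_ok, (okE_cons.2 ⟨g40_ok, (okE_cons.2 ⟨g41_ok, (okE_cons.2 ⟨g42_ok, (okE_cons.2 ⟨g35_ok, (okE_cons.2 ⟨g130_ok, (okE_cons.2 ⟨g131_ok, (okE_cons.2 ⟨n_t_ok, (okE_cons.2 ⟨g129_ok, (okE_cons.2 ⟨g307_ok, (okE_nil 276)⟩)⟩)⟩)⟩)⟩)⟩)⟩)⟩)⟩)⟩)⟩)⟩)⟩)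

noncomputable def g311 : Net := (Net.cons (nat_lit 1) (nat_lit 0x10410410404410410455404454114145545540111555414441441104004445001140) (Net.cons (nat_lit 2) (nat_lit 0x132032112032001023230010203332030332203031012313010203033300131001030) (Net.cons (nat_lit 4) (nat_lit 0xf04040c0306070a0902010e09020b0c0104080b0509000509030f0f030c07020201) (Net.cons (nat_lit 8) (nat_lit 0xcb006f00a1003e00d900e1001000c4008d000700e100bb00d500a3000500080000) (Net.cons (nat_lit 16) (nat_lit 0xf00003026000061b0000099e000003b310000db410000ee0c00003a1800009210) (Net.cons (nat_lit 32) (nat_lit 0x1166a55900000000fd0522840000000051f050100000000000097c23) (Net.cons (nat_lit 64) (nat_lit 0x489020c84e04acc80000000000000000000000000000d222) (Net.cons (nat_lit 128) (nat_lit 0x72865eef07716b168e79b121e983266b) (Net.cons (nat_lit 256) (nat_lit 0xffe7b) (Net.cons (nat_lit 128) (nat_lit 517011) (Net.cons (nat_lit 64) (nat_lit 0xab332658d290becf00000000000000004fe8505fd7a82037) (Net.cons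 (nat_lit 32) (nat_lit 0x147465200000000a72035f2000000001f43c0a9000000008c161d66) (Net.cons (nat_lit 16) (nat_lit 0xf0000682800008b680000d97c0000c5e60000cb5500003a7c000062be0000101f) (Net.cons (nat_lit 8) (nat_lit 0x8000a800a800ad000b00110089004a00c100a900ab00c80055008700ed00a60064) (Net.cons (nat_lit 4) (nat_lit 0x900020b0b07020505010a05030d0607030d07020e050a0309060a040d0702060e04) (Net.cons (nat_lit 2) (nat_lit 0x302203013020022223232021300332303302231313002111112203012132232011230) (Net.cons (nat_lit 1) (nat_lit 0x411144511014445415444151014405500040540140050145415415141500410410514) Net.nil)))))))))))))))))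

theorem g311_ok : Net.ok 276 g311 = true := by decide +kernel

noncomputable def g312 : Net := (Net.cons (nat_lit 1) (nat_lit 0x15541401504405541451540115505441544145440104551054110441505514010100) (Net.cons (nat_lit 2) (nat_lit 0x323313123301010011310330233113100121213012310231002121203120230203000) (Net.cons (nat_lit 4) (nat_lit 0x10d0c090609080207080e0e0b0006050d0104030e010a080b02010708040e090301) (Net.cons (nat_lit 8) (nat_lit 0xdd0054007100180098008b006e00bc007d001c007500cb000c00a6004000680008) (Net.cons (nat_lit 16) (nat_lit 0x300003d430000498e000022b400005e3000004c3d0000b1bd0000359800006290) (Net.cons (nat_lit 32) (nat_lit 0xaf05b2f800000000891525c000000000f8206f85000000000000409a) (Net.cons (nat_lit 64) (nat_lit 0x34d510e3083b315400000000000000000000000000007503) (Net.cons (nat_lit 128) (nat_lit 0x8c94c2411f656441f161d7b695d21aac) (Net.cons (nat_lit 256) (nat_lit 688063) (Net.cons (nat_lit 128) (nat_lit 560050) (Net.cons (nat_lit 64) (nat_lit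 0xbdc5d64b438054320000000000000000d60db6213b2fefe7) (Net.cons (nat_lit 32) (nat_lit 0xf750ae9c0000000010d5f09d0000000029b9ee8d00000000495c75e7) (Net.cons (nat_lit 16) (nat_lit 0x900003f7f00007e710000ebdf00007f1e0000411f0000e8fa000074fa0000db1a) (Net.cons (nat_lit 8) (nat_lit 0xc900a700b0005800d800a300a60078006e00b8006c00a900f900df001500990072) (Net.cons (nat_lit 4) (nat_lit 0x10d080b050b0f0709090b0f030302010a0004030a040b000e0300030b010f0a0200) (Net.cons (nat_lit 2) (nat_lit 0x323212123301011011210330333112000120213012200231002031303120230213100) (Net.cons (nat_lit 1) (nat_lit 0x15141401504405551511540115505541540145441104551454100441505514050100) Net.nil)))))))))))))))))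

theorem g312_ok : Net.ok 276 g312 = true := by decide +kernel

noncomputable def ht_c20_K : List Net := [g311, g312, n_t]

theorem ht_c20_K_ok : okE 276 ht_c20_K = true := (okE_cons.2 ⟨g311_ok, (okE_cons.2 ⟨g312_ok, (okE_cons.2 ⟨n_t_ok, (okE_nil 276)⟩)⟩)⟩)

noncomputable def V314 : List Net := [n_t]

theorem V314_ok : okE 276 V314 = true := (okE_cons.2 ⟨n_t_ok, (okE_nil 276)⟩)

noncomputable def V316 : List Net := []

theorem V316_ok : okE 276 V316 = true := (okE_nil 276)

noncomputable def ht_c20_cnt_EG : List Net := [g37, g38, g39, g40, g41, g42, g36, g35, g144, n_t]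

theorem ht_c20_cnt_EG_ok : okE 276 ht_c20_cnt_EG = true := (okE_cons.2 ⟨g37_ok, (okE_cons.2 ⟨g38_ok, (okE_cons.2 ⟨g39_ok, (okE_cons.2 ⟨g40_ok, (okE_cons.2 ⟨g41_ok, (okE_cons.2 ⟨g42_ok, (okE_cons.2 ⟨g36_ok, (okE_cons.2 ⟨g35_ok, (okE_cons.2 ⟨g144_ok, (okE_cons.2 ⟨n_t_ok, (okE_nil 276)⟩)⟩)⟩)⟩)⟩)⟩)⟩)⟩)⟩)⟩)

noncomputable def g317 : Net := (Net.cons (nat_lit 1) (nat_lit 0x105114445104551411105040015410105440115015040150555050055415041105550) (Net.cons (nat_lit 2) (nat_lit 0x310010320231302330203020232132333333000000021200213303322310130003100) (Net.cons (nat_lit 4) (nat_lit 0x303090d0e040d0e0a09050c0b0b0c090b0c0e0b0f050d0a0003080908000e020d0b) (Net.cons (nat_lit 8) (nat_lit 0x8000950064000a0028002e005e005e00d8006b00270069001d0046005f00fc0004) (Net.cons (nat_lit 16) (nat_lit 0x20000c37200007bf40000276b00003b740000447600005e4d0000c82c00001800) (Net.cons (nat_lit 32) (nat_lit 0x705fe1c80000000011c08de4000000005e49963500000000000cc0b4) (Net.cons (nat_lit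 64) (nat_lit 0x4338102800b34a1c00000000000000000000000000005ca4) (Net.cons (nat_lit 128) (nat_lit 0x3f9952a2c2fc3a01cc20e4de9b41499c) (Net.cons (nat_lit 256) (nat_lit 909247) (Net.cons (nat_lit 128) (nat_lit 923915) (Net.cons (nat_lit 64) (nat_lit 0x73e826bcb9d3ad4e00000000000000008028516ab4f5ebb5) (Net.cons (nat_lit 32) (nat_lit 0x5c5b607f00000000851fda4e00000000dbee1479000000004255a440) (Net.cons (nat_lit 16) (nat_lit 0x10000d9920000833f0000e2c20000386600001da80000a446000034630000534d) (Net.cons (nat_lit 8) (nat_lit 0x1000d3002e00600013003f0011002200740070007f000700c0002a009000f6001c) (Net.cons (nat_lit 4) (nat_lit 0x40400020c060e06050c080d0409010f0b0a020d090308060407070f04030a0c0606) (Net.cons (nat_lit 2) (nat_lit 0x212332300331123022212202023133323311320120021102320311320221330113221) (Net.cons (nat_lit 1) (nat_lit 0x545044051004004044500515105440144550454410454501541144541451055444551) Net.nil)))))))))))))))))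

theorem g317_ok : Net.ok 276 g317 = true := by decide +kernel

noncomputable def g318 : Net := (Net.cons (nat_lit 1) (nat_lit 0x114550145500051110151015145500410150440555411455415554051054150114000) (Net.cons (nat_lit 2) (nat_lit 0x223301110203202331230030010213232222120310113112232203100101221221120) (Net.cons (nat_lit 4) (nat_lit 0x3080308070800080e05000d0007000d020b0804010d050b05070a0f050c0a080a01) (Net.cons (nat_lit 8) (nat_lit 0xee0020009e009800fc0078000000d50083001c006f00a50049001d003d00ae0000) (Net.cons (nat_lit 16) (nat_lit 0x400005db300007204000011e1000056790000cf0a0000068d00003444000049c0) (Net.cons (nat_lit 32) (nat_lit 0x8bc9049000000004860a36b000000000aa2c2f20000000000091c50) (Net.cons (nat_lit 64) (nat_lit 0x70ac22c0007b9000000000000000000000000000008c261) (Net.cons (nat_lit 128) (nat_lit 0x24b218c8d684d0462399c7775f461570) (Net.cons (nat_lit 256) (nat_lit 0xfdff1) (Net.cons (nat_lit 128) (nat_lit 622038) (Net.cons (nat_lit 64) (nat_lit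 0x1af10416a1478d310000000000000000be6d180fe3de02fc) (Net.cons (nat_lit 32) (nat_lit 0x14a8d8ce0000000000133e1d00000000a1ac62a7000000007dccbf15) (Net.cons (nat_lit 16) (nat_lit 0xb0000c07500002b55000067e90000dd0d0000407100001a3a000022fb0000cf11) (Net.cons (nat_lit 8) (nat_lit 0xfa00e8009d00b30042002800a800eb00fd00070081009c00d100fa00bd0070001a) (Net.cons (nat_lit 4) (nat_lit 0x7020105060104050e0c08020808060605030c0200020c06080a01030a00060a0607) (Net.cons (nat_lit 2) (nat_lit 0x213331203233331020133301113111323121112220100233300232011000013332313) (Net.cons (nat_lit 1) (nat_lit 0x115451454551144540104505414541055005501451511140044445501104050045501) Net.nil)))))))))))))))))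

theorem g318_ok : Net.ok 276 g318 = true := by decide +kernel

noncomputable def ht_c21_K : List Net := [g318, g317]

theorem ht_c21_K_ok : okE 276 ht_c21_K = true := (okE_cons.2 ⟨g318_ok, (okE_cons.2 ⟨g317_ok, (okE_nil 276)⟩)⟩)

noncomputable def g320 : Net := (Net.cons (nat_lit 1) (nat_lit 0x55151445450144101541054405054111404104445054044004501111554514005010) (Net.cons (nat_lit 2) (nat_lit 0x223132101111222320120031033223000023133000120302031012303033100132110) (Net.cons (nat_lit 4) (nat_lit 0xd03050d0f0c08080300000e0c0c020c06030705090209060d06050f040006010202) (Net.cons (nat_lit 8) (nat_lit 0xd20087008d009b003a000e00d4009f00ec00d900dd002200290039002000560000) (Net.cons (nat_lit 16) (nat_lit 0x6000059fc0000b4d00000d7020000c61f00004a80000019490000050c0000c020) (Net.cons (nat_lit 32) (nat_lit 0x4dd0518800000000109a4454000000004ea8426200000000000423de) (Net.cons (nat_lit 64) (nat_lit 0x32ad330488838cf50000000000000000000000000002104c) (Net.cons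 (nat_lit 128) (nat_lit 0x34db46d9d23e0f19c376b56c3c88ec69) (Net.cons (nat_lit 256) (nat_lit 983039) (Net.cons (nat_lit 128) (nat_lit 613774) (Net.cons (nat_lit 64) (nat_lit 0x74718977416f26620000000000000000f29819e4be0973db) (Net.cons (nat_lit 32) (nat_lit 0xfab45d15000000007dad2b6b00000000bf8ded0f000000008e8e1fd4) (Net.cons (nat_lit 16) (nat_lit 0xe00004dfd0000e5ae0000592b0000a66a0000c02f00007d2d0000b1b90000f079) (Net.cons (nat_lit 8) (nat_lit 0xc400d4003300ef001700cc00c800d300660073007100cb007b00df001b00fc0075) (Net.cons (nat_lit 4) (nat_lit 0x4060d010e0c0b03090f080d0a0d0d0a0c02050308050505060c0a0c0a0804040c0b) (Net.cons (nat_lit 2) (nat_lit 0x11020220323133112223323103130120003303212210323123233310111302331331) (Net.cons (nat_lit 1) (nat_lit 0x54411401040500155551145015115515444440455154004444114104041554040514) Net.nil)))))))))))))))))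

theorem g320_ok : Net.ok 276 g320 = true := by decide +kernel

noncomputable def g321 : Net := (Net.cons (nat_lit 1) (nat_lit 0x551514045451044101155551555540111504555550500141455145044004051451440) (Net.cons (nat_lit 2) (nat_lit 0x213022201201211212200210220103212230000220220130210020312300202201000) (Net.cons (nat_lit 4) (nat_lit 0x40406000f0a040d0902010e09000102090c0902040b040f010a0008000905040c07) (Net.cons (nat_lit 8) (nat_lit 0x9b00af00a400e900ee008a004b00a200f000590027005b0051004f002800020005) (Net.cons (nat_lit 16) (nat_lit 0xf0000343c0000f3b6000003b1000000190000b75500001b32000000ef000021a0) (Net.cons (nat_lit 32) (nat_lit 0x8829927c000000005084fa2400000000a12340920000000000010d03) (Net.cons (nat_lit 64) (nat_lit 0x5c880985aa185888000000000000000000000000000907d6) (Net.cons (nat_lit 128) (nat_lit 0xb64918588826f68dead687b5621d5754) (Net.cons (nat_lit 256) (nat_lit 917495) (Net.cons (nat_lit 128) (nat_lit 3591) (Net.cons (nat_lit 64) (nat_lit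 0x53d0c9a5bdbe728f0000000000000000e9b3b29f0491d0a6) (Net.cons (nat_lit 32) (nat_lit 0x18d9d330000000001d06ef1d00000000c708d35b00000000a13d26e6) (Net.cons (nat_lit 16) (nat_lit 0xb0000fc1f00005634000064b500009d900000c7160000997300003f4c0000b41b) (Net.cons (nat_lit 8) (nat_lit 0xa300240057003d00c500fa00a70094006b0056006500b800d500a7002a00060058) (Net.cons (nat_lit 4) (nat_lit 0x7000405050804080008020c0c07020b040406040005090a03020f08070b0104090a) (Net.cons (nat_lit 2) (nat_lit 0x323313110202321033001031201203230110331111122000132232133211203100032) (Net.cons (nat_lit 1) (nat_lit 0x500545555445450005154440101140150144410104100440505144040145451151154) Net.nil)))))))))))))))))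

theorem g321_ok : Net.ok 276 g321 = true := by decide +kernel

noncomputable def g322 : Net := (Net.cons (nat_lit 1) (nat_lit 0x401454051004005114151445414501014510141514115550045441115041400411550) (Net.cons (nat_lit 2) (nat_lit 0x120113102101001210210332300001000301101220111011011100313031002010310) (Net.cons (nat_lit 4) (nat_lit 0x508060d0d0e0801080c06050e010f03070c06020002030c030e0e0d0f0c05010100) (Net.cons (nat_lit 8) (nat_lit 0x58001200c100ce00dc0070009e003c00d700830012001300b70026003200480001) (Net.cons (nat_lit 16) (nat_lit 0x800001c0e0000d2d5000050d800002970000046730000515c0000654500000480) (Net.cons (nat_lit 32) (nat_lit 0x80b29483000000002c217ee100000000485c29b80000000000012941) (Net.cons (nat_lit 64) (nat_lit 0x88aaa029cef512d00000000000000000000000000080d4e) (Net.cons (nat_lit 128) (nat_lit 0x921ccc4ad8834c9749e6624c25734b51) (Net.cons (nat_lit 256) (nat_lit 749535) (Net.cons (nat_lit 128) (nat_lit 933417) (Net.cons (nat_lit 64) (nat_lit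 0x38aa7833facd5baf000000000000000078c059e9e3bef500) (Net.cons (nat_lit 32) (nat_lit 0x2a04bd980000000003532825000000008456641f00000000c7222917) (Net.cons (nat_lit 16) (nat_lit 0xa000010680000bb9b00007ee00000fa3400001e8a000020630000440600002ae5) (Net.cons (nat_lit 8) (nat_lit 0x9e004000bd00be005b000800c60088003000f100e100e7004b00b4002d00cd00e8) (Net.cons (nat_lit 4) (nat_lit 0x50c02000d0d08010a0e020a00090c0b090105050b0603040906090f0b020507000a) (Net.cons (nat_lit 2) (nat_lit 0x112121122330001013012022030031003210002001011211101121013321332101102) (Net.cons (nat_lit 1) (nat_lit 0x415455400145010454105044040510445445401151415105014514140150011110) Net.nil)))))))))))))))))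

theorem g322_ok : Net.ok 276 g322 = true := by decide +kernel

noncomputable def V323 : List Net := [g320, g321, g322]

theorem V323_ok : okE 276 V323 = true := (okE_cons.2 ⟨g320_ok, (okE_cons.2 ⟨g321_ok, (okE_cons.2 ⟨g322_ok, (okE_nil 276)⟩)⟩)⟩)

noncomputable def V325 : List Net := [g321, g322]

theorem V325_ok : okE 276 V325 = true := (okE_cons.2 ⟨g321_ok, (okE_cons.2 ⟨g322_ok, (okE_nil 276)⟩)⟩)

noncomputable def V326 : List Net := []

theorem V326_ok : okE 276 V326 = true := (okE_nil 276)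

noncomputable def ht_c21_cnt_EG : List Net := [g36, g37, g38, g39, g40, g41, g42, g35, g320, g321, g322]

theorem ht_c21_cnt_EG_ok : okE 276 ht_c21_cnt_EG = true := (okE_cons.2 ⟨g36_ok, (okE_cons.2 ⟨g37_ok, (okE_cons.2 ⟨g38_ok, (okE_cons.2 ⟨g39_ok, (okE_cons.2 ⟨g40_ok, (okE_cons.2 ⟨g41_ok, (okE_cons.2 ⟨g42_ok, (okE_cons.2 ⟨g35_ok, (okE_cons.2 ⟨g320_ok, (okE_cons.2 ⟨g321_ok, (okE_cons.2 ⟨g322_ok, (okE_nil 276)⟩)⟩)⟩)⟩)⟩)⟩)⟩)⟩)⟩)⟩)⟩)

noncomputable def g327 : Net := (Net.cons (nat_lit 1) (nat_lit 0x40114040050101551054011101115014410405005414544004044140441000410014) (Net.cons (nat_lit 2) (nat_lit 0x101301010221121313313033203023011232231111020321221232120111232311120) (Net.cons (nat_lit 4) (nat_lit 0x2060b0f0c0d04070f0b0409060609050b0c0b07010c00060a0c0f06030305000d00) (Net.cons (nat_lit 8) (nat_lit 0xdc003a00b100f80086001e0052006f00a200cf008300b90073000000020082000f) (Net.cons (nat_lit 16) (nat_lit 0xe000078000000ef41000034b70000522b000028780000180c0000400100000350)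 (Net.cons (nat_lit 32) (nat_lit 0x3f4c7150000000035b132c2000000007f3b934f000000000000020e) (Net.cons (nat_lit 64) (nat_lit 0x4e050600432af2c000000000000000000000000000144c4) (Net.cons (nat_lit 128) (nat_lit 0x87494c2b18667730a0a73a519f91db01) (Net.cons (nat_lit 256) (nat_lit 516063) (Net.cons (nat_lit 128) (nat_lit 573582) (Net.cons (nat_lit 64) (nat_lit 0x6e7543b1e95ff91f0000000000000000d6f57cbeac64a8ff) (Net.cons (nat_lit 32) (nat_lit 0x930b9484000000000be2d7cb0000000065268c8c0000000029a9757d) (Net.cons (nat_lit 16) (nat_lit 0x60000a17100003a4e000091360000cacb0000360e000086680000059c00000d4f) (Net.cons (nat_lit 8) (nat_lit 0xc1007d006b00fc00ee00ec005d00b80041005800920023006500560067001800c3) (Net.cons (nat_lit 4) (nat_lit 0xe03050e0502040f0c050609070509000501070707000d09010a030808040803010f) (Net.cons (nat_lit 2) (nat_lit 0x131003223130202002202221123310331110010233022013013231310020333022211) (Net.cons (nat_lit 1) (nat_lit 0x114450555545550115440055144014404414005401415441400104455111011141114)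 Net.nil)))))))))))))))))

theorem g327_ok : Net.ok 276 g327 = true := by decide +kernel

noncomputable def g328 : Net := (Net.cons (nat_lit 1) (nat_lit 0x51440445544540111011440504545504510544405401510450010454441514140510) (Net.cons (nat_lit 2) (nat_lit 0x331130321103000021330011331030203322012302220300233102100031222010010) (Net.cons (nat_lit 4) (nat_lit 0x2060f0605030c0603050306040104040f0a04090802010a0e02010b09020108030f) (Net.cons (nat_lit 8) (nat_lit 0x13009100ed00180025008a00a9001300550043008b00d9006c0066006f00c10000) (Net.cons (nat_lit 16) (nat_lit 0x60000dba00000c6a10000ec1b000024110000b019000074590000382400000d80) (Net.cons (nat_lit 32) (nat_lit 0xc419341c000000009019d485000000000a10d31b0000000000050240) (Net.cons (nat_lit 64) (nat_lit 0x872e50c9d10d92300000000000000000000000000001912) (Net.cons (nat_lit 128) (nat_lit 0xe276e3d69a2d024f1a8c0ef9075b0e2f) (Net.cons (nat_lit 256) (nat_lit 0xf9fff) (Net.cons (nat_lit 128) (nat_lit 849779)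 (Net.cons (nat_lit 64) (nat_lit 0xead0cb0340b144100000000000000000d9feef1dd9eaa229) (Net.cons (nat_lit 32) (nat_lit 0xfa8f2125000000002a4ca6cf0000000054083ae5000000002bf7bad7) (Net.cons (nat_lit 16) (nat_lit 0x7000089bc00003dc90000c2c00000c38c00001e45000037e000000fc90000a6f6) (Net.cons (nat_lit 8) (nat_lit 0x4a00f00009001f00a100d000ff00170063007300e7001e009b0075000500ea0099) (Net.cons (nat_lit 4) (nat_lit 0x105040f0e0a0e090d0c030c0a0309000207030b0c000200020003050b050e0e0c0b) (Net.cons (nat_lit 2) (nat_lit 0x203003313131103011102032110000002010010330211100121221020203311120122) (Net.cons (nat_lit 1) (nat_lit 0x405401411011540044045051441054451501004054445055100450111414154404455) Net.nil)))))))))))))))))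

theorem g328_ok : Net.ok 276 g328 = true := by decide +kernel

noncomputable def g329 : Net := (Net.cons (nat_lit 1) (nat_lit 0x11505411515140104145501500110505441010040440511010045011551104454400) (Net.cons (nat_lit 2) (nat_lit 0x102030203232000310222021102122101311230012332031203301233030103100310) (Net.cons (nat_lit 4) (nat_lit 0xa0f040e0c050002040603010e0f05070e0d0f04080209030c050d0c0b0c09040403) (Net.cons (nat_lit 8) (nat_lit 0x2300b7000400d70097008900ad006e006b00c400d900b00088004c00750002000f) (Net.cons (nat_lit 16) (nat_lit 0x60000c3750000431300002cf6000089f30000d6b4000088830000080000000650) (Net.cons (nat_lit 32) (nat_lit 0xb189a7a200000000a3f8c6c8000000001eb7c02700000000000646b3) (Net.cons (nat_lit 64) (nat_lit 0xde2c526210917c10000000000000000000000000000141bf) (Net.cons (nat_lit 128) (nat_lit 0xbcd11d038221bc5263ac6a6495b1229c) (Net.cons (nat_lit 256) (nat_lit 0xf67ff) (Net.cons (nat_lit 128) (nat_lit 770673) (Net.cons (nat_lit 64)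 (nat_lit 0xd169dc88848a2d440000000000000000a6b0a720fbaea060) (Net.cons (nat_lit 32) (nat_lit 0x4ccfd93000000000cf3454c100000000a6336013000000002ab4c04f) (Net.cons (nat_lit 16) (nat_lit 0xa0000f2a90000dcec0000c9d3000099e30000242f000080d100008cba00000576) (Net.cons (nat_lit 8) (nat_lit 0xc500fa0066001f00d2009100c4000900dc00750062003000bd0011000d00f400af) (Net.cons (nat_lit 4) (nat_lit 0x80f0c0401090d040d0e03070b0303070d0904090b040e0f0e0904090a040c010a01) (Net.cons (nat_lit 2) (nat_lit 0x223012012222221133033130132112113100302223330130223120321103213320210) (Net.cons (nat_lit 1) (nat_lit 0x550041044140041500154105451011501010015000405155050545110104014050144) Net.nil)))))))))))))))))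

theorem g329_ok : Net.ok 276 g329 = true := by decide +kernel

noncomputable def g330 : Net := (Net.cons (nat_lit 1) (nat_lit 0x554400140514501450405411001104110155415010001445105111140004000040000) (Net.cons (nat_lit 2) (nat_lit 0x200203230210301300133220300013223221203111122230310000300312000000000) (Net.cons (nat_lit 4) (nat_lit 0x608040905020e020b0504030901030b060e0406060a020d0f030708010d0c0a0400) (Net.cons (nat_lit 8) (nat_lit 0xcb00f900070011008e0004006e008500e3001d00a000b000c3000500cb00890000) (Net.cons (nat_lit 16) (nat_lit 0x1000057fb0000b9200000fbbb000037b100005522000023580000b48800000640) (Net.cons (nat_lit 32) (nat_lit 0x18519d30000000001508f430000000008e2006480000000000002468) (Net.cons (nat_lit 64) (nat_lit 0x908412030ea20aa500000000000000000000000000010242) (Net.cons (nat_lit 128) (nat_lit 0x1c02c7b396617671a594b4b00899a000) (Net.cons (nat_lit 256) (nat_lit 648810) (Net.cons (nat_lit 128) (nat_lit 0xfa884) (Net.cons (nat_lit 64)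 (nat_lit 0x859c02923ba24fb700000000000000008f200ddccc018246) (Net.cons (nat_lit 32) (nat_lit 0x83f19938000000008d9ab120000000001771425c0000000098d8246f) (Net.cons (nat_lit 16) (nat_lit 0x1000036bb0000bc210000feff000026e100007c2a0000a3d80000fd8800008240) (Net.cons (nat_lit 8) (nat_lit 0xcb00bb00470049008a0004006e009500fb005d00a400e0008b001500cb00e90004) (Net.cons (nat_lit 4) (nat_lit 0x608050905020e030b0504020901030b060e0406060b020d0f030709010d0c0a0400) (Net.cons (nat_lit 2) (nat_lit 0x300203230210301301133230300013223221303101122230310100300312000000000) (Net.cons (nat_lit 1) (nat_lit 0x554500140514501450405411001105110155415010001445105111140004000040000) Net.nil)))))))))))))))))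

theorem g330_ok : Net.ok 276 g330 = true := by decide +kernel

noncomputable def ht_c22_K : List Net := [g327, g328, g329, g330]

theorem ht_c22_K_ok : okE 276 ht_c22_K = true := (okE_cons.2 ⟨g327_ok, (okE_cons.2 ⟨g328_ok, (okE_cons.2 ⟨g329_ok, (okE_cons.2 ⟨g330_ok, (okE_nil 276)⟩)⟩)⟩)⟩)

noncomputable def g332 : Net := (Net.cons (nat_lit 1) (nat_lit 0x55115514505004511105445040054410515410450554404501040001115141444040) (Net.cons (nat_lit 2) (nat_lit 0x332223103313023223233320203332012230000010313211012012202012003202100) (Net.cons (nat_lit 4) (nat_lit 0x70e04080902000c0c0b0b000b010c0d000408010a070802040d0608080000000000) (Net.cons (nat_lit 8) (nat_lit 0x8300ac006600020034000e001200a3001a00d6007500c800a600a2006200200000) (Net.cons (nat_lit 16) (nat_lit 0x80000413c0000c20400008b1a00009fc70000a0000000f007000006b000008120) (Net.cons (nat_lit 32) (nat_lit 0x18d68f9000000006322607900000000f200c200000000000008d0c2) (Net.cons (nat_lit 64) (nat_lit 0xe3ca2110389270100000000000000000000000000008a41)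 (Net.cons (nat_lit 128) (nat_lit 0xe6fb0dbe990377d3c886a6ef1ae94049) (Net.cons (nat_lit 256) (nat_lit 785387) (Net.cons (nat_lit 128) (nat_lit 376905) (Net.cons (nat_lit 64) (nat_lit 0xc3f2e43d2bc9a5a10000000000000000d26bd2afe9688a4c) (Net.cons (nat_lit 32) (nat_lit 0x971ea7f0000000061504a6b00000000726e4280000000000cf0d8c2) (Net.cons (nat_lit 16) (nat_lit 0x8000055380000468300009b8c00009dd7000024930000720d000004b5000001a8) (Net.cons (nat_lit 8) (nat_lit 0xc300a800e4008a0034000b00dd0021009a005600f100cb002600ae006200200003) (Net.cons (nat_lit 4) (nat_lit 0x7060408090a000c0c0b0b0009010c0d020408090a070a02040d0608080000000000) (Net.cons (nat_lit 2) (nat_lit 0x332223103313023223333320203332032230000010313211012012202012003202100) (Net.cons (nat_lit 1) (nat_lit 0x55115514505004511105445040054410515410450554404501040001115141444040) Net.nil)))))))))))))))))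

theorem g332_ok : Net.ok 276 g332 = true := by decide +kernel

noncomputable def V333 : List Net := [g332]

theorem V333_ok : okE 276 V333 = true := (okE_cons.2 ⟨g332_ok, (okE_nil 276)⟩)

noncomputable def V335 : List Net := []

theorem V335_ok : okE 276 V335 = true := (okE_nil 276)

noncomputable def ht_c22_cnt_EG : List Net := [g36, g37, g38, g39, g40, g41, g42, g35, g129, g130, g131, n_t, g332]

theorem ht_c22_cnt_EG_ok : okE 276 ht_c22_cnt_EG = true := (okE_cons.2 ⟨g36_ok, (okE_cons.2 ⟨g37_ok, (okE_cons.2 ⟨g38_ok, (okE_cons.2 ⟨g39_ok, (okE_cons.2 ⟨g40_ok, (okE_cons.2 ⟨g41_ok, (okE_cons.2 ⟨g42_ok, (okE_cons.2 ⟨g35_ok, (okE_cons.2 ⟨g129_ok, (okE_cons.2 ⟨g130_ok, (okE_cons.2 ⟨g131_ok, (okE_cons.2 ⟨n_t_ok, (okE_cons.2 ⟨g332_ok, (okE_nil 276)⟩)⟩)⟩)⟩)⟩)⟩)⟩)⟩)⟩)⟩)⟩)⟩)⟩)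

noncomputable def g336 : Net := (Net.cons (nat_lit 1) (nat_lit 0x445010010541055101114445501155010455044045054401515450445501151040000) (Net.cons (nat_lit 2) (nat_lit 0x233222023332122113010022313203332211322121020300311130310313320320000) (Net.cons (nat_lit 4) (nat_lit 0x307070b0d0e0a0d000c0805040d0f08030505050f0b05030c0d020c0a050d000008) (Net.cons (nat_lit 8) (nat_lit 0x70008009400e8006200c0008d00d2001200bc002100a50010005d00b100480000) (Net.cons (nat_lit 16) (nat_lit 0x5000074a60000e304000000fb0000ee07000091cc00008c1200000e0800000800) (Net.cons (nat_lit 32) (nat_lit 0x2067ab7900000000ad5a12fc00000000a040e1a400000000000be504) (Net.cons (nat_lit 64) (nat_lit 0x2a168091ad3b7dae00000000000000000000000000002a09) (Net.cons (nat_lit 128) (nat_lit 0x194d7bae38f83703fa3246d1ef349fe) (Net.cons (nat_lit 256) (nat_lit 782335) (Net.cons (nat_lit 128) (nat_lit 194469) (Net.cons (nat_lit 64) (nat_lit 0x5fb60b0a30dbe4e30000000000000000b184a2b339f16137) (Net.cons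 (nat_lit 32) (nat_lit 0xf5b397200000000e408b4d800000000ed53bb6600000000c5977259) (Net.cons (nat_lit 16) (nat_lit 0x700000878000093a7000064030000d9d700005925000099a10000152f0000bdae) (Net.cons (nat_lit 8) (nat_lit 0x3d0039004b00be003d00dd00f7003c00190092003300a10085009100db008500e7) (Net.cons (nat_lit 4) (nat_lit 0x10c070f070807090f0905060a050d03050709060d05020d070c09090f060c030607) (Net.cons (nat_lit 2) (nat_lit 0x131230312000322223130110313313332021022113321123123231121321021221132) (Net.cons (nat_lit 1) (nat_lit 0x415055114410400154501041054545014005440404515054050500051400515145044) Net.nil)))))))))))))))))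

theorem g336_ok : Net.ok 276 g336 = true := by decide +kernel

noncomputable def g337 : Net := (Net.cons (nat_lit 1) (nat_lit 0x554441010441411554115001155151551115144401504114040145114541555000540) (Net.cons (nat_lit 2) (nat_lit 0x20200031032320200100331131132123232323223120121232321231011233102200) (Net.cons (nat_lit 4) (nat_lit 0x30d0a09030d020e080302060f03070a050f0106050008060503060608020d0b0908) (Net.cons (nat_lit 8) (nat_lit 0xc500d200e4000d006400dc006f0019008100c9005d00d800bc0063008500a20002) (Net.cons (nat_lit 16) (nat_lit 0x4000001440000aa590000a70a00007a900000e4080000a6680000b9d000000010) (Net.cons (nat_lit 32) (nat_lit 0x483691280000000046cf824800000000a223726b00000000000486d0) (Net.cons (nat_lit 64) (nat_lit 0xc6005c24f8d2207f00000000000000000000000000012808) (Net.cons (nat_lit 128) (nat_lit 0x9f49a91079e98ae578f255bf823ed35a) (Net.cons (nat_lit 256) (nat_lit 0xffffa) (Net.cons (nat_lit 128) (nat_lit 750274) (Net.cons (nat_lit 64)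 (nat_lit 0x64d755291bea8eb60000000000000000e2b47af26baea59d) (Net.cons (nat_lit 32) (nat_lit 0xcb2485e200000000f9305353000000008ce58ae60000000026ea8104) (Net.cons (nat_lit 16) (nat_lit 0xf0000c7b400001c150000ea2c000096fc0000c4780000af8d0000082c000007e4) (Net.cons (nat_lit 8) (nat_lit 0xf80014002e004500a7009000cf000600670020003a00180093008f0078006d0048) (Net.cons (nat_lit 4) (nat_lit 0xc000a090c0e090c04060f01080a0408050802070b0f08060f08080d0f080d000706) (Net.cons (nat_lit 2) (nat_lit 0x202111020113021102212321212132320101323322200310122333200213002032022) (Net.cons (nat_lit 1) (nat_lit 0x15001444515150050445401445044004510514404005140454115500414511500540) Net.nil)))))))))))))))))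

theorem g337_ok : Net.ok 276 g337 = true := by decide +kernel

noncomputable def g338 : Net := (Net.cons (nat_lit 1) (nat_lit 0x415011051150100045041045404014541554514105140515410115145410004000054) (Net.cons (nat_lit 2) (nat_lit 0x222110233302300320002131323331212231133000113330033103000200213300000) (Net.cons (nat_lit 4) (nat_lit 0x907070a08010e02020a0d0b040a00040d04040b0a0504070e040e0a040f020c0806) (Net.cons (nat_lit 8) (nat_lit 0x89009500c5007b0074000d00c0003a009f006400ed002e001c0080003000500003) (Net.cons (nat_lit 16) (nat_lit 0x7000007230000632a000030d400008dda000028430000772600000b1000006d20) (Net.cons (nat_lit 32) (nat_lit 0xf312b5a000000000c106161700000000618ce1c800000000000cc995) (Net.cons (nat_lit 64) (nat_lit 0x1bd90240368a415000000000000000000000000000002a13) (Net.cons (nat_lit 128) (nat_lit 0x81a26a525a6f34335a5d181a65aa455f) (Net.cons (nat_lit 256) (nat_lit 978943) (Net.cons (nat_lit 128) (nat_lit 354395) (Net.cons (nat_lit 64)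 (nat_lit 0x143dacbdc63148500000000000000000d5474ca8a9cabb01) (Net.cons (nat_lit 32) (nat_lit 0x19c7874d000000007b505f97000000002583730b00000000ebd99ecf) (Net.cons (nat_lit 16) (nat_lit 0x20000df5200003f1d0000d8670000994a000015d10000fb6100009c1700000894) (Net.cons (nat_lit 8) (nat_lit 0x40048008000a9003d00a500160023005b00c60057002d00fa006900eb00a40091) (Net.cons (nat_lit 4) (nat_lit 0xd010d0a0e060f0504030f0706060209010102020f0d000c0e010301030c0b000b0c) (Net.cons (nat_lit 2) (nat_lit 0x232032120230332000202033232330200110220113020313313233030331011111101) (Net.cons (nat_lit 1) (nat_lit 0x51554511400144150014005445151141114141514451154014115105055440554414) Net.nil)))))))))))))))))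

theorem g338_ok : Net.ok 276 g338 = true := by decide +kernel

noncomputable def g339 : Net := (Net.cons (nat_lit 1) (nat_lit 0x454005014140454444410045550000050450001444504550410410500550100000000) (Net.cons (nat_lit 2) (nat_lit 0x220022210210011100223012011311023302202231203203110001012000103021000) (Net.cons (nat_lit 4) (nat_lit 0xc0c0e080803090701080402030f0b040e02090006020f0d0e020d000a08000100) (Net.cons (nat_lit 8) (nat_lit 0xb0008a00cf005300f8007400fe00df00720095004600200020000b009000840000) (Net.cons (nat_lit 16) (nat_lit 0x10000901200001b960000214800007e10000035940000a18000004201000015a0) (Net.cons (nat_lit 32) (nat_lit 0x94c18459000000003a0ed04400000000cc85b09c0000000000010004) (Net.cons (nat_lit 64) (nat_lit 0x12e43d1200141304000000000000000000000000000b09a0) (Net.cons (nat_lit 128) (nat_lit 0x9262f39b98ce4baea097cca88c3edcf0) (Net.cons (nat_lit 256) (nat_lit 0xfddf4) (Net.cons (nat_lit 128) (nat_lit 0xfccf1) (Net.cons (nat_lit 64)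 (nat_lit 0x8babbcdf154423140000000000000000c192908c278e3de0) (Net.cons (nat_lit 32) (nat_lit 0x9601c448000000007acac05400000000dc4de1bc0000000010cc121e) (Net.cons (nat_lit 16) (nat_lit 0x1000090a700009bdf0000274900006f44000025940000b9810000c388000011ac) (Net.cons (nat_lit 8) (nat_lit 0xa1008e00de004300f9006500ee00df00660094004300240034000a009100800004) (Net.cons (nat_lit 4) (nat_lit 0xd0c0f0909020d0600090502020e0a050e02080107030f0d0e020c020b09010100) (Net.cons (nat_lit 2) (nat_lit 0x220222210210011100223012011311023302202231203203110001032000103021000) (Net.cons (nat_lit 1) (nat_lit 0x454005015141454444410045550000050450001444504550410450500550100000040) Net.nil)))))))))))))))))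

theorem g339_ok : Net.ok 276 g339 = true := by decide +kernel

noncomputable def g340 : Net := (Net.cons (nat_lit 1) (nat_lit 0x514400444551415005154501004110544551040444051554005140044041100000040) (Net.cons (nat_lit 2) (nat_lit 0x200100320011203012213333331023231111200012201012023200010200012002020) (Net.cons (nat_lit 4) (nat_lit 0xa0a01020e0e030e000508020b0d060b020c0308080605080f040a08090908000800) (Net.cons (nat_lit 8) (nat_lit 0xee006700de008d000f00ba009a007100d800e6000200d200160080004100100000) (Net.cons (nat_lit 16) (nat_lit 0x60000ba9b0000669a0000af8d0000a9ea0000020e000070040000809000000050) (Net.cons (nat_lit 32) (nat_lit 0x60483fc500000000177908b100000000b08edc500000000000084812) (Net.cons (nat_lit 64) (nat_lit 0xd0c181aa0010138e0000000000000000000000000006e088) (Net.cons (nat_lit 128) (nat_lit 0xe06ccef8dbdcf101188f4b120d89a086) (Net.cons (nat_lit 256) (nat_lit 0xfe8de) (Net.cons (nat_lit 128) (nat_lit 631343) (Net.cons (nat_lit 64)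 (nat_lit 0x936529c2389a0bdd0000000000000000528cda00b006a6cb) (Net.cons (nat_lit 32) (nat_lit 0xf440d54f0000000007f91cbb00000000208ed6740000000072d90ad3) (Net.cons (nat_lit 16) (nat_lit 0x60000aa3a00000c1200007f850000f9ca0000791700003244000080db00004011) (Net.cons (nat_lit 8) (nat_lit 0xaf0085007e000700c700b8005a007500f000460062001a007c00c0006700d80002) (Net.cons (nat_lit 4) (nat_lit 0x20a0308070e030e000d08020b0d070b020c030308050700050c080809090a000200) (Net.cons (nat_lit 2) (nat_lit 0x100122011201210311331111023011111202010201012201000112200012000220) (Net.cons (nat_lit 1) (nat_lit 0x514400444551415005154501004110544551040444051554005140044041100000044) Net.nil)))))))))))))))))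

theorem g340_ok : Net.ok 276 g340 = true := by decide +kernel

noncomputable def ht_c23_K : List Net := [g337, g336, g338, g339, g340]

theorem ht_c23_K_ok : okE 276 ht_c23_K = true := (okE_cons.2 ⟨g337_ok, (okE_cons.2 ⟨g336_ok, (okE_cons.2 ⟨g338_ok, (okE_cons.2 ⟨g339_ok, (okE_cons.2 ⟨g340_ok, (okE_nil 276)⟩)⟩)⟩)⟩)⟩)

noncomputable def ht_c23_cnt_EG : List Net := [g36, g37, g38, g39, g40, g41, g42, g35, g129, g130, g131, n_t, g332]

theorem ht_c23_cnt_EG_ok : okE 276 ht_c23_cnt_EG = true := (okE_cons.2 ⟨g36_ok, (okE_cons.2 ⟨g37_ok, (okE_cons.2 ⟨g38_ok, (okE_cons.2 ⟨g39_ok, (okE_cons.2 ⟨g40_ok, (okE_cons.2 ⟨g41_ok, (okE_cons.2 ⟨g42_ok, (okE_cons.2 ⟨g35_ok, (okE_cons.2 ⟨g129_ok, (okE_cons.2 ⟨g130_ok, (okE_cons.2 ⟨g131_ok, (okE_cons.2 ⟨n_t_ok, (okE_cons.2 ⟨g332_ok, (okE_nil 276)⟩)⟩)⟩)⟩)⟩)⟩)⟩)⟩)⟩)⟩)⟩)⟩)⟩)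

noncomputable def g342 : Net := (Net.cons (nat_lit 1) (nat_lit 0x515515405514551404441050050454410404111145144401015051041111514541500) (Net.cons (nat_lit 2) (nat_lit 0x310233203101103000012131330211012211012333211202211122221102033323100) (Net.cons (nat_lit 4) (nat_lit 0x9010904010a0d000a090c0909080f0404050009040d0600030d0e010101000c0108) (Net.cons (nat_lit 8) (nat_lit 0x2900b90044001400de000500e000bb0016004b00730070002a000e004d00030004) (Net.cons (nat_lit 16) (nat_lit 0xf00000265000027b200000e00000065820000a7490000b1190000aa1400009020) (Net.cons (nat_lit 32) (nat_lit 0x1b62cf4d00000000fc93286b00000000104a2e9a0000000000070742) (Net.cons (nat_lit 64) (nat_lit 0x3b25129442759d7400000000000000000000000000043b9a) (Net.cons (nat_lit 128) (nat_lit 0x44c0565bba1be68f3f37a4e761e10527) (Net.cons (nat_lit 256) (nat_lit 0xfffff) (Net.cons (nat_lit 128) (nat_lit 859898) (Net.cons (nat_lit 64) (nat_lit 0xde27b6b75b25b3ca0000000000000000f1c445da50e915c5) (Net.cons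 (nat_lit 32) (nat_lit 0xe2228b24000000002da1077c00000000231757730000000071c2f8e8) (Net.cons (nat_lit 16) (nat_lit 0x10000b48a0000a2c800000f5b000000b30000f0710000bf7e0000139400008367) (Net.cons (nat_lit 8) (nat_lit 0x4a00f00083007700bb00df00be00be006e00b8007d00e70029003c002500a3004c) (Net.cons (nat_lit 4) (nat_lit 0x70e0f060b0c020202070602080f090102080908000108070702080d0909080b020f) (Net.cons (nat_lit 2) (nat_lit 0x231021001221300030201200031210132123100330013223021102223322212303101) (Net.cons (nat_lit 1) (nat_lit 0x405541515414105140010005150040400554455144001154140555105104154545511) Net.nil)))))))))))))))))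

theorem g342_ok : Net.ok 276 g342 = true := by decide +kernel

noncomputable def g343 : Net := (Net.cons (nat_lit 1) (nat_lit 0x50055015444504505415401440154510010111055101551451415505144010400400) (Net.cons (nat_lit 2) (nat_lit 0x32123301122211332103321322322031013301020022233301020230031031201310) (Net.cons (nat_lit 4) (nat_lit 0xe010d0f0408020b00070104070c020b0a0b040506050e0f04040e030a040009020d) (Net.cons (nat_lit 8) (nat_lit 0x2400c6008b00c200b200550066004e00e2007b00d50043009f0051000600200006) (Net.cons (nat_lit 16) (nat_lit 0x20000ff9500004b32000041c400007c5c000051fc0000321e00000109000082d0) (Net.cons (nat_lit 32) (nat_lit 0x4d23931400000000f948111c00000000feae283300000000000c3000) (Net.cons (nat_lit 64) (nat_lit 0x29978204072cd9b000000000000000000000000000016462) (Net.cons (nat_lit 128) (nat_lit 0x3ac1996f4361411f973e662334cc0994) (Net.cons (nat_lit 256) (nat_lit 917503) (Net.cons (nat_lit 128) (nat_lit 900024) (Net.cons (nat_lit 64) (nat_lit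 0x4074454f36b0859400000000000000007a10a6d4a60f6fc8) (Net.cons (nat_lit 32) (nat_lit 0x28aa5540000000004357c48000000000acb9368600000000d7793545) (Net.cons (nat_lit 16) (nat_lit 0xc0000b2510000217000000e940000f1130000f4c90000ec53000093b800003b33) (Net.cons (nat_lit 8) (nat_lit 0x21008500e300a400a40091005800a200b3008e002f00e300c1002b009c00080062) (Net.cons (nat_lit 4) (nat_lit 0x301010901080706050d010500050304070a0f04060e01090f09040d07030b0a0a08) (Net.cons (nat_lit 2) (nat_lit 0x30233123030300212130312001023311303211023333302002331330131122103332) (Net.cons (nat_lit 1) (nat_lit 0x141441541014415455514051155440410054414114450555105151041541151554441) Net.nil)))))))))))))))))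

theorem g343_ok : Net.ok 276 g343 = true := by decide +kernel

noncomputable def ht_c24_K : List Net := [g342, g343, n_t]

theorem ht_c24_K_ok : okE 276 ht_c24_K = true := (okE_cons.2 ⟨g342_ok, (okE_cons.2 ⟨g343_ok, (okE_cons.2 ⟨n_t_ok, (okE_nil 276)⟩)⟩)⟩)

noncomputable def V345 : List Net := []

theorem V345_ok : okE 276 V345 = true := (okE_nil 276)

noncomputable def ht_c24_cnt_EG : List Net := [g36, g37, g38, g39, g40, g41, g42, g35, n_t, g144]

theorem ht_c24_cnt_EG_ok : okE 276 ht_c24_cnt_EG = true := (okE_cons.2 ⟨g36_ok, (okE_cons.2 ⟨g37_ok, (okE_cons.2 ⟨g38_ok, (okE_cons.2 ⟨g39_ok, (okE_cons.2 ⟨g40_ok, (okE_cons.2 ⟨g41_ok, (okE_cons.2 ⟨g42_ok, (okE_cons.2 ⟨g35_ok, (okE_cons.2 ⟨n_t_ok, (okE_cons.2 ⟨g144_ok, (okE_nil 276)⟩)⟩)⟩)⟩)⟩)⟩)⟩)⟩)⟩)⟩)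

noncomputable def g347 : Net := (Net.cons (nat_lit 1) (nat_lit 0x510404550441140505544411150000115544101541454055500440115515040554504) (Net.cons (nat_lit 2) (nat_lit 0x221301330330200023123101010303221313223310223032120003032000231300) (Net.cons (nat_lit 4) (nat_lit 0x404030904010c0c080303090c03090e030f0f06040105020505010109090f050000) (Net.cons (nat_lit 8) (nat_lit 0x600170044006700210055006c0085004700310078008000c1006100ee00f90004) (Net.cons (nat_lit 16) (nat_lit 0x4000012110000415c000080b50000788e00005c370000c18e00000bc200008620) (Net.cons (nat_lit 32) (nat_lit 0x5505a38800000000dc741e9100000000208256fe0000000000080a44) (Net.cons (nat_lit 64) (nat_lit 0x4a5923007c0a5ed6000000000000000000000000000447af) (Net.cons (nat_lit 128) (nat_lit 0xc2509b9de97123e29d2bfc65174e0297) (Net.cons (nat_lit 256) (nat_lit 0xfcfff) (Net.cons (nat_lit 128) (nat_lit 688002) (Net.cons (nat_lit 64) (nat_lit 0x5dbe793b3929ea780000000000000000e377572c95d9d9ad) (Net.cons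 (nat_lit 32) (nat_lit 0xa5e0c780000000001ac58ff9000000000dfb5b8d000000008f1b15c6) (Net.cons (nat_lit 16) (nat_lit 0x60000492e0000259b000013960000d040000056fd0000395d0000c00d0000d5b1) (Net.cons (nat_lit 8) (nat_lit 0xc1002700fd00e300ab006e00d9009400b90080000c0079007b00ae008800a30075) (Net.cons (nat_lit 4) (nat_lit 0xa0b0f080b0a0e0403020b0e0902040e0c07040a050f0108070408050c040a030007) (Net.cons (nat_lit 2) (nat_lit 0x203003000331210003311103303203313320213203020122230233222020133120021) (Net.cons (nat_lit 1) (nat_lit 0x410105444004010514050144550005145444114105144100411115514050101440400) Net.nil)))))))))))))))))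

theorem g347_ok : Net.ok 276 g347 = true := by decide +kernel

noncomputable def g348 : Net := (Net.cons (nat_lit 1) (nat_lit 0x450104145411115104111505541051511410555510455551514110150545041514140) (Net.cons (nat_lit 2) (nat_lit 0x100320320133132222132020311210212000000322202310322301300112020133110) (Net.cons (nat_lit 4) (nat_lit 0x102040c0f0702090f0301040e02080b01020e050a000d0300040a0d040c05040003) (Net.cons (nat_lit 8) (nat_lit 0xd400dd00ad002a00ac00c600960008007e004100f30092002a002e002900c2000c) (Net.cons (nat_lit 16) (nat_lit 0x2e460000da140000352b0000cd3b0000840e0000882e00001c9a0000b940) (Net.cons (nat_lit 32) (nat_lit 0xe16424b100000000c8013a9200000000045830bd000000000008ca06) (Net.cons (nat_lit 64) (nat_lit 0x802ab066ac1ec6ca000000000000000000000000000002ae) (Net.cons (nat_lit 128) (nat_lit 0x2116a144d403d05c963c57bb3a5db8e1) (Net.cons (nat_lit 256) (nat_lit 0xffbef) (Net.cons (nat_lit 128) (nat_lit 595714) (Net.cons (nat_lit 64) (nat_lit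 0x70776c6e00062c6500000000000000005ccc83d95307a404) (Net.cons (nat_lit 32) (nat_lit 0x7568c7f7000000001d2d971500000000386db5ad00000000d69881d0) (Net.cons (nat_lit 16) (nat_lit 0xd0000ecb30000fd57000016030000598e00009d00000077230000530f0000d1e3) (Net.cons (nat_lit 8) (nat_lit 0xdd009700e800680063008100fd008a0073001000370099005b002d000100210085) (Net.cons (nat_lit 4) (nat_lit 0x3020d04000d0e0b0707030e0c0800000107060306010b0f080100050608030d030a) (Net.cons (nat_lit 2) (nat_lit 0x220100012230213122021022210231110331300113032023030313311220003102330) (Net.cons (nat_lit 1) (nat_lit 0x114105544040040511051501144554011151515040410415444145155045045100501) Net.nil)))))))))))))))))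

theorem g348_ok : Net.ok 276 g348 = true := by decide +kernel

noncomputable def g349 : Net := (Net.cons (nat_lit 1) (nat_lit 0x550545110404415440045551551154141410410410145014540151544050515145514) (Net.cons (nat_lit 2) (nat_lit 0x311110230300211003102320021200320221331233301021201332000001010010120) (Net.cons (nat_lit 4) (nat_lit 0x90509090d010b010b050f0b0d01080107020c000b010007060305090a0604070b0c) (Net.cons (nat_lit 8) (nat_lit 0x58005100fb00c7003f00fe00ce00f7007200b8001b000a00070049006b00620000) (Net.cons (nat_lit 16) (nat_lit 0x60000990400008c8c0000c2ec0000765b000000b00000bb50000042cc00001c00) (Net.cons (nat_lit 32) (nat_lit 0x33fe25e00000000391304540000000020801e050000000000007384) (Net.cons (nat_lit 64) (nat_lit 0x9386c86240055e190000000000000000000000000000c822) (Net.cons (nat_lit 128) (nat_lit 0x164611f6a1a56077e1a0cd94cf378631) (Net.cons (nat_lit 256) (nat_lit 524223) (Net.cons (nat_lit 128) (nat_lit 342315) (Net.cons (nat_lit 64) (nat_lit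 0x6a9a1759b35242100000000000000005ebaa1fde03d3fb2) (Net.cons (nat_lit 32) (nat_lit 0x4e1a662300000000fc7d7e7a00000000834ac7e6000000007b7432b0) (Net.cons (nat_lit 16) (nat_lit 0xe000015ce000080c9000050cb00005c1400006d9c0000061300000a01000001d0) (Net.cons (nat_lit 8) (nat_lit 0x77002e008f00c2009f00a000e400db00b000890026004900a900d700aa0092001e) (Net.cons (nat_lit 4) (nat_lit 0x900030f0c0802050f0101050e020d04030b0d0e010c020f090c0f090f0e0a0a0b06) (Net.cons (nat_lit 2) (nat_lit 0x311031211003011002212301201200212123112331113200232212022113231133001) (Net.cons (nat_lit 1) (nat_lit 0x515110114114004415155055005144105450404455450100051505514014051504150) Net.nil)))))))))))))))))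

theorem g349_ok : Net.ok 276 g349 = true := by decide +kernel

noncomputable def ht_c25_K : List Net := [g348, g347, g349, n_t]

theorem ht_c25_K_ok : okE 276 ht_c25_K = true := (okE_cons.2 ⟨g348_ok, (okE_cons.2 ⟨g347_ok, (okE_cons.2 ⟨g349_ok, (okE_cons.2 ⟨n_t_ok, (okE_nil 276)⟩)⟩)⟩)⟩)

noncomputable def ht_c25_cnt_EG : List Net := [g36, g37, g38, g39, g40, g41, g42, g35]

theorem ht_c25_cnt_EG_ok : okE 276 ht_c25_cnt_EG = true := (okE_cons.2 ⟨g36_ok, (okE_cons.2 ⟨g37_ok, (okE_cons.2 ⟨g38_ok, (okE_cons.2 ⟨g39_ok, (okE_cons.2 ⟨g40_ok, (okE_cons.2 ⟨g41_ok, (okE_cons.2 ⟨g42_ok, (okE_cons.2 ⟨g35_ok, (okE_nil 276)⟩)⟩)⟩)⟩)⟩)⟩)⟩)⟩)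

noncomputable def g351 : Net := (Net.cons (nat_lit 1) (nat_lit 0x111404110154105514451441445450405050054011504410440544440044154111050) (Net.cons (nat_lit 2) (nat_lit 0x312312110320002033220011122010032230033313312310121111031111212013100) (Net.cons (nat_lit 4) (nat_lit 0x10a020f030505000104090a0b040c070d0b0f000106040e0f0e02060a010c000c0a) (Net.cons (nat_lit 8) (nat_lit 0xc2009700c000a00082004d00af00e80063005e005e005700ff00db004500ea0002) (Net.cons (nat_lit 16) (nat_lit 0x400008cc2000051500000e0390000824b0000f0c400006e100000b02400001440) (Net.cons (nat_lit 32) (nat_lit 0x12f630200000000630476b50000000083dd1878000000000008a0e8) (Net.cons (nat_lit 64) (nat_lit 0x4242076e08367140000000000000000000000000008c048) (Net.cons (nat_lit 128) (nat_lit 0xdd6af752165a47e6d0cd082cebff6511) (Net.cons (nat_lit 256) (nat_lit 0xff7f9) (Net.cons (nat_lit 128) (nat_lit 737530) (Net.cons (nat_lit 64) (nat_lit 0x68de03baa51a1f910000000000000000297d84440fe0dfd6) (Net.cons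 (nat_lit 32) (nat_lit 0x25a3247d000000007ca4e82e00000000fbca0b1100000000a6e8a829) (Net.cons (nat_lit 16) (nat_lit 0x70000783d0000a0350000da920000fb2e00009b490000c95900009d8c0000c937) (Net.cons (nat_lit 8) (nat_lit 0x57002100bd00470088007c00c000e800e800d000240035006d00100010001f005b) (Net.cons (nat_lit 4) (nat_lit 0x50d0a0f0e020d0c020e03050b0b040f0e080d0a020d0e01050f03030b030d050e04) (Net.cons (nat_lit 2) (nat_lit 0x32030200200312310022312223013331031321310320213032300212013222303131) (Net.cons (nat_lit 1) (nat_lit 0x455450511101541040541154004005110451154401415145040100000001415405501) Net.nil)))))))))))))))))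

theorem g351_ok : Net.ok 276 g351 = true := by decide +kernel

noncomputable def g352 : Net := (Net.cons (nat_lit 1) (nat_lit 0x501000101045054015101150104554154440501114554410145544045444505040110) (Net.cons (nat_lit 2) (nat_lit 0x211033001123331012213113232021130030321132002000321011010233101332100) (Net.cons (nat_lit 4) (nat_lit 0xf0f0f060b0809000a09020905090a0f0e0809090400030808020a050b0809060903) (Net.cons (nat_lit 8) (nat_lit 0xfe008d00e500b700670013004c00cb00410008008400a4009e0053007500440002) (Net.cons (nat_lit 16) (nat_lit 0x100004474000068f50000296c000058430000c4080000b7420000c01000000220) (Net.cons (nat_lit 32) (nat_lit 0x240fe02600000000de17b611000000004809568d00000000000568b4) (Net.cons (nat_lit 64) (nat_lit 0x3c924e00b3915040000000000000000000000000000a5600) (Net.cons (nat_lit 128) (nat_lit 0x5629c7c648d1ea092bb7b9dafb019138) (Net.cons (nat_lit 256) (nat_lit 0xfffff) (Net.cons (nat_lit 128) (nat_lit 362835) (Net.cons (nat_lit 64)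 (nat_lit 0xaf13fc75e616878b0000000000000000754f2979d333f31c) (Net.cons (nat_lit 32) (nat_lit 0x5e809690000000007abf7871000000001e04d70b00000000042ab9b1) (Net.cons (nat_lit 16) (nat_lit 0x500005b130000992700008bc70000e10700004f4500009d9d000011940000eb55) (Net.cons (nat_lit 8) (nat_lit 0xa700f800ef00ec003900490092007200090032006700f3008400d20023004b00bf) (Net.cons (nat_lit 4) (nat_lit 0x1010609050b0f000201010109070405020d070901010d09020a000e080e020b0e05) (Net.cons (nat_lit 2) (nat_lit 0x13201303132021211123312221031112212123120202221301121030101232200211) (Net.cons (nat_lit 1) (nat_lit 0x145510555100514510445400005400501441105451051450144044450011114440540) Net.nil)))))))))))))))))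

theorem g352_ok : Net.ok 276 g352 = true := by decide +kernel

noncomputable def ht_c26_K : List Net := [g351, g352, n_t]

theorem ht_c26_K_ok : okE 276 ht_c26_K = true := (okE_cons.2 ⟨g351_ok, (okE_cons.2 ⟨g352_ok, (okE_cons.2 ⟨n_t_ok, (okE_nil 276)⟩)⟩)⟩)

noncomputable def ht_c26_cnt_EG : List Net := [g36, g37, g38, g39, g40, g41, g42, g35, n_t, g144]

theorem ht_c26_cnt_EG_ok : okE 276 ht_c26_cnt_EG = true := (okE_cons.2 ⟨g36_ok, (okE_cons.2 ⟨g37_ok, (okE_cons.2 ⟨g38_ok, (okE_cons.2 ⟨g39_ok, (okE_cons.2 ⟨g40_ok, (okE_cons.2 ⟨g41_ok, (okE_cons.2 ⟨g42_ok, (okE_cons.2 ⟨g35_ok, (okE_cons.2 ⟨n_t_ok, (okE_cons.2 ⟨g144_ok, (okE_nil 276)⟩)⟩)⟩)⟩)⟩)⟩)⟩)⟩)⟩)⟩)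

noncomputable def g354 : Net := (Net.cons (nat_lit 1) (nat_lit 0x400555111451505454141404101501540515010511150501004151554111045104000) (Net.cons (nat_lit 2) (nat_lit 0x1112212200131003223001110010312132232120213002221302233010202322010) (Net.cons (nat_lit 4) (nat_lit 0x8000907070f020a0102020b050400070a050f040206030107020c0f000c070b0b00) (Net.cons (nat_lit 8) (nat_lit 0xb400f500cb00290049000c00f2008a0010005200d800f40029005100f10044000f) (Net.cons (nat_lit 16) (nat_lit 0x40000680d00000290000035f80000055100001c5700005308000045a10000e5f0) (Net.cons (nat_lit 32) (nat_lit 0x5703fb000000000001741740000000059403ee4000000000007adaa) (Net.cons (nat_lit 64) (nat_lit 0xc58318b02d40801200000000000000000000000000063e65) (Net.cons (nat_lit 128) (nat_lit 0xa3bca16758cb69f16c4bb8d7e7b84313) (Net.cons (nat_lit 256) (nat_lit 0xfffff) (Net.cons (nat_lit 128) (nat_lit 522371) (Net.cons (nat_lit 64) (nat_lit 0x5b78522d0cd8d4a500000000000000000d869418535fe530) (Net.cons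 (nat_lit 32) (nat_lit 0xb64f2eda0000000070253b5100000000356442f700000000e820c084) (Net.cons (nat_lit 16) (nat_lit 0x8000095810000c1e60000c6090000d527000051720000eecc000036cb00005247) (Net.cons (nat_lit 8) (nat_lit 0x55001f00a300d400fc0085005e00890035006700c600630055004500520051009d) (Net.cons (nat_lit 4) (nat_lit 0x5030b01090b0b0a0d0b0503080e0507050c0c0e0d0708020c03090c080502050f0e) (Net.cons (nat_lit 2) (nat_lit 0x22321201231222320010021311313010303103123100332010003021031201322312) (Net.cons (nat_lit 1) (nat_lit 0x40055401555550444045010500041440415554444015511155004154014014445454) Net.nil)))))))))))))))))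

theorem g354_ok : Net.ok 276 g354 = true := by decide +kernel

noncomputable def g355 : Net := (Net.cons (nat_lit 1) (nat_lit 0x51040440040515051055001455444041540551011050440055544105444554005140) (Net.cons (nat_lit 2) (nat_lit 0x322312021320120001323320011022013102032233020330320321121132032120030) (Net.cons (nat_lit 4) (nat_lit 0xa0201080107070a0b050f0f010c040d00040c01020708050b07010302030e010801) (Net.cons (nat_lit 8) (nat_lit 0xf30081007200cb0001005300fc00ad0045001900bb00e80068004200190019000f) (Net.cons (nat_lit 16) (nat_lit 0xd0000bc2900000f190000ae1e0000254400002510000062890000484a00007320) (Net.cons (nat_lit 32) (nat_lit 0x7624a80000000040464e050000000002481d09000000000002ec20) (Net.cons (nat_lit 64) (nat_lit 0x20404b088d8038b20000000000000000000000000000302d) (Net.cons (nat_lit 128) (nat_lit 0xe3ca349284d7328a4e924b882b605dc5) (Net.cons (nat_lit 256) (nat_lit 0xfffef) (Net.cons (nat_lit 128) (nat_lit 564592) (Net.cons (nat_lit 64) (nat_lit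 0xf06760b882023ddd00000000000000001880948d490ed99a) (Net.cons (nat_lit 32) (nat_lit 0xc3dd92fe00000000ca6aa792000000001baaabb100000000652796dc) (Net.cons (nat_lit 16) (nat_lit 0x700002eec0000eb3100000900000081b800001dac0000b87e0000086b00001007) (Net.cons (nat_lit 8) (nat_lit 0x1600c70057004a0082006800fa00da003e00a4002900be007600a700e9005f0006) (Net.cons (nat_lit 4) (nat_lit 0x903060707040d09010c0e060f0a030f0a060804010f0402090e0802020a080c0c01) (Net.cons (nat_lit 2) (nat_lit 0x310033213121132203311321233023001311122003032200121123113230132122322) (Net.cons (nat_lit 1) (nat_lit 0x111545545555445114050100504011150140540005100101114541144404154115105) Net.nil)))))))))))))))))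

theorem g355_ok : Net.ok 276 g355 = true := by decide +kernel

noncomputable def ht_c27_K : List Net := [g355, g354, g215, g217]

theorem ht_c27_K_ok : okE 276 ht_c27_K = true := (okE_cons.2 ⟨g355_ok, (okE_cons.2 ⟨g354_ok, (okE_cons.2 ⟨g215_ok, (okE_cons.2 ⟨g217_ok, (okE_nil 276)⟩)⟩)⟩)⟩)

noncomputable def ht_c27_cnt_EG : List Net := [g173, g174, g175, g176, g177, g35, g36, g37, g38, g39, g40, g41, g42, g214, g215, g216, g217]

theorem ht_c27_cnt_EG_ok : okE 276 ht_c27_cnt_EG = true := (okE_cons.2 ⟨g173_ok, (okE_cons.2 ⟨g174_ok, (okE_cons.2 ⟨g175_ok, (okE_cons.2 ⟨g176_ok, (okE_cons.2 ⟨g177_ok, (okE_cons.2 ⟨g35_ok, (okE_cons.2 ⟨g36_ok, (okE_cons.2 ⟨g37_ok, (okE_cons.2 ⟨g38_ok, (okE_cons.2 ⟨g39_ok, (okE_cons.2 ⟨g40_ok, (okE_cons.2 ⟨g41_ok, (okE_cons.2 ⟨g42_ok, (okE_cons.2 ⟨g214_ok, (okE_cons.2 ⟨g215_ok, (okE_cons.2 ⟨g216_ok, (okE_cons.2 ⟨g217_ok, (okE_nil 276)⟩)⟩)⟩)⟩)⟩)⟩)⟩)⟩)⟩)⟩)⟩)⟩)⟩)⟩)⟩)⟩)⟩)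

noncomputable def g357 : Net := (Net.cons (nat_lit 1) (nat_lit 0x454400410015404405454441440141104545145115414051145100514540155405050) (Net.cons (nat_lit 2) (nat_lit 0x3320321100301333203031103002312131012311323213222113021113021020200) (Net.cons (nat_lit 4) (nat_lit 0x101080d040f0b0f04050b090d06090406050b0c010e0b0603050d0f02080d0802) (Net.cons (nat_lit 8) (nat_lit 0x8b00e80052002f00140041004c00de00eb00e80006007a009b007400d000160005) (Net.cons (nat_lit 16) (nat_lit 0xf000074e8000015b50000a8ae0000eab00000b3c9000019f40000849f00005a60) (Net.cons (nat_lit 32) (nat_lit 0xe411a2b5000000007e0a3d4000000000181100050000000000071808) (Net.cons (nat_lit 64) (nat_lit 0x5ed020c0aa0e2f1300000000000000000000000000053ba8) (Net.cons (nat_lit 128) (nat_lit 0x10ffd440286b70226e0cadb8c7d734c5) (Net.cons (nat_lit 256) (nat_lit 0xfffef) (Net.cons (nat_lit 128) (nat_lit 130940) (Net.cons (nat_lit 64) (nat_lit 0x91831dc15342825c000000000000000055115883cbe0ea6c) (Net.cons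 (nat_lit 32) (nat_lit 0xb1c9c18100000000a6a30177000000003424023c000000002309bd3b) (Net.cons (nat_lit 16) (nat_lit 0x80000071d0000b3da000022f600009d23000038f10000920e00006cf6000053fb) (Net.cons (nat_lit 8) (nat_lit 0xe200ec00de003c005700e600b800ec00350098008a00ae0035003400b200240013) (Net.cons (nat_lit 4) (nat_lit 0x90a0905000e0002060704080a010f06070f030a000e0d0f0105000a0207060f040a) (Net.cons (nat_lit 2) (nat_lit 0x211300022031102203100303001233011133221101332121210011331201332303133) (Net.cons (nat_lit 1) (nat_lit 0x115101000501555155010410145544410441014411505045114445154000440415450) Net.nil)))))))))))))))))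

theorem g357_ok : Net.ok 276 g357 = true := by decide +kernel

noncomputable def g358 : Net := (Net.cons (nat_lit 1) (nat_lit 0x404054001045441510404541010415550150041450440054400155554401055450404) (Net.cons (nat_lit 2) (nat_lit 0x20030221221121022020000301223322220102023131000130203310133000300320) (Net.cons (nat_lit 4) (nat_lit 0xd09060d0c0c0f000c06030605070d03000c08020207070c040e0005040508000608) (Net.cons (nat_lit 8) (nat_lit 0x43002d00280068004a007e002800d10033008d006000aa003300b500c200370002) (Net.cons (nat_lit 16) (nat_lit 0xc0000c08800000a08000014cf000010480000dd4100004e83000082b700000200) (Net.cons (nat_lit 32) (nat_lit 0xe0dc4047000000002f62803900000000e5e07955000000000009344d) (Net.cons (nat_lit 64) (nat_lit 0x222e005e80140d6500000000000000000000000000036805) (Net.cons (nat_lit 128) (nat_lit 0xec4fabf4853dee068771dcab0ba4bd2f) (Net.cons (nat_lit 256) (nat_lit 0xfff7f) (Net.cons (nat_lit 128) (nat_lit 720084) (Net.cons (nat_lit 64)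 (nat_lit 0x8ed211ac0b74a0e0000000000000000057d62261a8127868) (Net.cons (nat_lit 32) (nat_lit 0xd0b4bde700000000fcf643850000000004c9bbaa00000000db43b89e) (Net.cons (nat_lit 16) (nat_lit 0xc0000e7b5000055860000c19c0000d955000068b40000929200002aaf0000bff4) (Net.cons (nat_lit 8) (nat_lit 0x3000100097007000d7001400d800340075005700a900d500ba007400a4001c001a) (Net.cons (nat_lit 4) (nat_lit 0x302010b0808080d09020001080200060304010a0e0b0f0203080b0a030b0b0f0706) (Net.cons (nat_lit 2) (nat_lit 0x32121313133202002302223221031202300303002233320322302213211002322233) (Net.cons (nat_lit 1) (nat_lit 0x440540414550100545441014505155150054504505045441145451111511451045010) Net.nil)))))))))))))))))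

theorem g358_ok : Net.ok 276 g358 = true := by decide +kernel

noncomputable def g359 : Net := (Net.cons (nat_lit 1) (nat_lit 0x145055004151451001041555405504454151550515100554544044101055554044450) (Net.cons (nat_lit 2) (nat_lit 0x23121013230203112323020321121320303312110210231223310022101220300200) (Net.cons (nat_lit 4) (nat_lit 0xb0e0103070a01000a0601000c060d0400060402000b05070e0c0f0b090d07060900) (Net.cons (nat_lit 8) (nat_lit 0xd3005b00ee00280056005900b400cd00230047004500dd005500a20029002a0002) (Net.cons (nat_lit 16) (nat_lit 0x10000f11a0000fb4200007902000024040000fb8a000040cc00001ce400001a60) (Net.cons (nat_lit 32) (nat_lit 0x2f128d7200000000dc79787200000000c40eeb0300000000000b2476) (Net.cons (nat_lit 64) (nat_lit 0x8227290d508f5e2c0000000000000000000000000004cc50) (Net.cons (nat_lit 128) (nat_lit 0xf15e469e0cc53c3643a9f9c3777db429) (Net.cons (nat_lit 256) (nat_lit 0xfff7f) (Net.cons (nat_lit 128) (nat_lit 0xf4650) (Net.cons (nat_lit 64)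 (nat_lit 0xd7aa652c980c836e0000000000000000da2aca1e322849c9) (Net.cons (nat_lit 32) (nat_lit 0xbb32646400000000773624910000000057265da800000000c3b496bf) (Net.cons (nat_lit 16) (nat_lit 0x500009926000039d30000edec0000552e00005ef30000064d0000c94d0000efe3) (Net.cons (nat_lit 8) (nat_lit 0xa3000b00bd00c40026003a00ad003f002e005600b8006700c900b9003c00ef0087) (Net.cons (nat_lit 4) (nat_lit 0x3060e0e0c0c040f06060403040509050208040b0b0300070a0e0202070d0a06030c) (Net.cons (nat_lit 2) (nat_lit 0x33023211233111202220201022223012233113212300030200331323331212130200) (Net.cons (nat_lit 1) (nat_lit 0x41145144010114540451111100040001040504414101111555050151454110440514) Net.nil)))))))))))))))))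

theorem g359_ok : Net.ok 276 g359 = true := by decide +kernel

noncomputable def ht_c28_K : List Net := [g357, g358, g359]

theorem ht_c28_K_ok : okE 276 ht_c28_K = true := (okE_cons.2 ⟨g357_ok, (okE_cons.2 ⟨g358_ok, (okE_cons.2 ⟨g359_ok, (okE_nil 276)⟩)⟩)⟩)

noncomputable def ht_c28_cnt_EG : List Net := [g173, g174, g175, g176, g177, g35, g36, g37, g38, g39, g40, g41, g42]

theorem ht_c28_cnt_EG_ok : okE 276 ht_c28_cnt_EG = true := (okE_cons.2 ⟨g173_ok, (okE_cons.2 ⟨g174_ok, (okE_cons.2 ⟨g175_ok, (okE_cons.2 ⟨g176_ok, (okE_cons.2 ⟨g177_ok, (okE_cons.2 ⟨g35_ok, (okE_cons.2 ⟨g36_ok, (okE_cons.2 ⟨g37_ok, (okE_cons.2 ⟨g38_ok, (okE_cons.2 ⟨g39_ok, (okE_cons.2 ⟨g40_ok, (okE_cons.2 ⟨g41_ok, (okE_cons.2 ⟨g42_ok, (okE_nil 276)⟩)⟩)⟩)⟩)⟩)⟩)⟩)⟩)⟩)⟩)⟩)⟩)⟩)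

noncomputable def g361 : Net := (Net.cons (nat_lit 1) (nat_lit 0x404441014000051001041541444151054410155051411414450145110101050040054) (Net.cons (nat_lit 2) (nat_lit 0x100030031110132322210122133300203031221123102212223032220103101212010) (Net.cons (nat_lit 4) (nat_lit 0x30f0f06010306060c030f0d03040608030500050c0f070a090e0d04000706080200) (Net.cons (nat_lit 8) (nat_lit 0x3c000c0015001e007b00b800bb00fa008b00aa008900470034009a0024001c0008) (Net.cons (nat_lit 16) (nat_lit 0xc000020950000f4a200000c4900008720000000e80000d5380000ccd0000096a0) (Net.cons (nat_lit 32) (nat_lit 0xb216ce2000000000aa1b525600000000719264c900000000000c6804) (Net.cons (nat_lit 64) (nat_lit 0xe2838980311e68ba0000000000000000000000000001d43d) (Net.cons (nat_lit 128) (nat_lit 0x236725bb9b891f61d98cac26a0768db3) (Net.cons (nat_lit 256) (nat_lit 0xfffbf) (Net.cons (nat_lit 128) (nat_lit 421611) (Net.cons (nat_lit 64) (nat_lit 0xfbca662319788f000000000000000065ffc3b63f4af7af) (Net.cons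 (nat_lit 32) (nat_lit 0xe9ccb95e000000003110c5e300000000133e930400000000ba5b7672) (Net.cons (nat_lit 16) (nat_lit 0x50000d50e0000e4bd00001f00000031c90000eb79000070c70000eecc00002d5a) (Net.cons (nat_lit 8) (nat_lit 0xb5007700f900be00200033007000ee002900de008200eb00710032005f0027002c) (Net.cons (nat_lit 4) (nat_lit 0x50f0608080b0f05020009080c07020f090d030b040800070000040c090b0c080701) (Net.cons (nat_lit 2) (nat_lit 0x121101112321312213223020221102013303332101300321112112301031300231332) (Net.cons (nat_lit 1) (nat_lit 0x10015110114415510141414511510405054001155545010515044514550514151) Net.nil)))))))))))))))))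

theorem g361_ok : Net.ok 276 g361 = true := by decide +kernel

noncomputable def g362 : Net := (Net.cons (nat_lit 1) (nat_lit 0x554411150544045015404445055011110551011011555544501554500551445114144) (Net.cons (nat_lit 2) (nat_lit 0x202213303231320211231131022131133130113232201333000322032333130232200) (Net.cons (nat_lit 4) (nat_lit 0xa0c050e0609010301040002010c0a0e0d0f0e0d0e0a0e00010a0301080a050d0502) (Net.cons (nat_lit 8) (nat_lit 0x2b00cf006a0034005f004e001300a20092004b00b600c0001200830064007e0009) (Net.cons (nat_lit 16) (nat_lit 0x90000baa4000076cd00009da90000d50000003eb00000755c0000980700000000) (Net.cons (nat_lit 32) (nat_lit 0xc26a56c00000000e216e66900000000003dff9100000000000c0602) (Net.cons (nat_lit 64) (nat_lit 0x182af111d2f72df300000000000000000000000000050a68) (Net.cons (nat_lit 128) (nat_lit 0xc4b337da5b184c451f9cc887adeee0e8) (Net.cons (nat_lit 256) (nat_lit 0xfeeff) (Net.cons (nat_lit 128) (nat_lit 734038) (Net.cons (nat_lit 64)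 (nat_lit 0xf189e998f93fd411000000000000000053a7cd5a02666962) (Net.cons (nat_lit 32) (nat_lit 0xa1863a43000000003305096b0000000002381d8500000000f3a83eaa) (Net.cons (nat_lit 16) (nat_lit 0x5000057d8000070640000b67b0000bae40000a9130000589b0000085500008372) (Net.cons (nat_lit 8) (nat_lit 0x1d008d00ca003c00800095003200b5006200ed006200890061008e00b9005e0033) (Net.cons (nat_lit 4) (nat_lit 0xe0d0508070f060a0400030f0f06010d030c08070c0c08040d09060f0d0e070d0e0c) (Net.cons (nat_lit 2) (nat_lit 0x203131232022022101321310103301003203311221310111201321321332322201303) (Net.cons (nat_lit 1) (nat_lit 0x455011504040500041040100505540544045445544411010115405400054111154550) Net.nil)))))))))))))))))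

theorem g362_ok : Net.ok 276 g362 = true := by decide +kernel

noncomputable def ht_c29_K : List Net := [g361, g362, g241]

theorem ht_c29_K_ok : okE 276 ht_c29_K = true := (okE_cons.2 ⟨g361_ok, (okE_cons.2 ⟨g362_ok, (okE_cons.2 ⟨g241_ok, (okE_nil 276)⟩)⟩)⟩)

noncomputable def ht_c29_cnt_EG : List Net := [g36, g37, g38, g39, g40, g41, g42, g35, g307, g130, g131, n_t, g129]

theorem ht_c29_cnt_EG_ok : okE 276 ht_c29_cnt_EG = true := (okE_cons.2 ⟨g36_ok, (okE_cons.2 ⟨g37_ok, (okE_cons.2 ⟨g38_ok, (okE_cons.2 ⟨g39_ok, (okE_cons.2 ⟨g40_ok, (okE_cons.2 ⟨g41_ok, (okE_cons.2 ⟨g42_ok, (okE_cons.2 ⟨g35_ok, (okE_cons.2 ⟨g307_ok, (okE_cons.2 ⟨g130_ok, (okE_cons.2 ⟨g131_ok, (okE_cons.2 ⟨n_t_ok, (okE_cons.2 ⟨g129_ok, (okE_nil 276)⟩)⟩)⟩)⟩)⟩)⟩)⟩)⟩)⟩)⟩)⟩)⟩)⟩)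

noncomputable def g364 : Net := (Net.cons (nat_lit 1) (nat_lit 0x150154444511454454440115110551414400010100455155445504441505455100000) (Net.cons (nat_lit 2) (nat_lit 0x33230102302223303233022222020230202101221033301002211203202202120230) (Net.cons (nat_lit 4) (nat_lit 0xf0b08070506080a0a0b0d070d060604010700000f000d070306010a0201000304) (Net.cons (nat_lit 8) (nat_lit 0xe7003b00e4000e0000002600db005b009b002b0065008c00d5002b0084002d0002) (Net.cons (nat_lit 16) (nat_lit 0xb0000074e000089cd0000d12200003ac3000066570000476100008c310000b300) (Net.cons (nat_lit 32) (nat_lit 0x3443223c000000006be0a4500000000004bb02990000000000022d95) (Net.cons (nat_lit 64) (nat_lit 0x89e90570d84078d90000000000000000000000000005c190) (Net.cons (nat_lit 128) (nat_lit 0x6d880678c1424d0692653382381ae6b9) (Net.cons (nat_lit 256) (nat_lit 0xfffbf) (Net.cons (nat_lit 128) (nat_lit 750956) (Net.cons (nat_lit 64) (nat_lit 0x73b0385ec672fcdb00000000000000005d26a04f829d0740) (Net.cons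 (nat_lit 32) (nat_lit 0x2c2995230000000087ae949500000000c82b514200000000c096e979) (Net.cons (nat_lit 16) (nat_lit 0xa000011890000b4c600006a690000dd3700000e420000aa910000319400005f54) (Net.cons (nat_lit 8) (nat_lit 0x19007f00cd00b000ff000f006000a500eb00660027006200360074000000f50034) (Net.cons (nat_lit 4) (nat_lit 0x800030d010c070703040b06070804050107000c0a07080e0408030d080f0c0d0902) (Net.cons (nat_lit 2) (nat_lit 0x2002132022222102220212121322320010012011100123021333302213210102200) (Net.cons (nat_lit 1) (nat_lit 0x5110555515455011055001115054505541415545451555411515001444150044050) Net.nil)))))))))))))))))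

theorem g364_ok : Net.ok 276 g364 = true := by decide +kernel

noncomputable def g365 : Net := (Net.cons (nat_lit 1) (nat_lit 0x110115140111500144100040544141440505011451145015440040105440541104400) (Net.cons (nat_lit 2) (nat_lit 0x323223220303323323012123233230133331200112010010012003012211231311310) (Net.cons (nat_lit 4) (nat_lit 0xd090b07050a0f0c010c060e0407000a0007010e0006090c010e0404010c0e06000a) (Net.cons (nat_lit 8) (nat_lit 0x5f00eb00a300f40000005a005e001e000b00b0008f000800d50071009e00aa0002) (Net.cons (nat_lit 16) (nat_lit 0x80000ca5a0000fe5800009f070000162b000025260000865800008a3a00004480) (Net.cons (nat_lit 32) (nat_lit 0x4521589000000000b1238b6100000000040354150000000000054320) (Net.cons (nat_lit 64) (nat_lit 0x44500020e25a26ca00000000000000000000000000010115) (Net.cons (nat_lit 128) (nat_lit 0x3b16a4bdfe6b79ae6742d74a08bc1786) (Net.cons (nat_lit 256) (nat_lit 0xf77f7) (Net.cons (nat_lit 128) (nat_lit 381767) (Net.cons (nat_lit 64)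 (nat_lit 0x9b5a6bbd2d0d17f60000000000000000b1598a0c33cc03a6) (Net.cons (nat_lit 32) (nat_lit 0xfeb36e1a00000000dad4e8e2000000004ff768a2000000001d5d0608) (Net.cons (nat_lit 16) (nat_lit 0xd04f0000a8c60000d9f800004d370000339000009b9500007936000052a3) (Net.cons (nat_lit 8) (nat_lit 0xb008b008d00860087008c002b0081000a00db009a001a007900f700f6001d00a4) (Net.cons (nat_lit 4) (nat_lit 0xa0007040802000f040b0301060d06080f0a0a01010f0c0a000c000e020e0a060904) (Net.cons (nat_lit 2) (nat_lit 0x123212332312030030321101313301001102023313010133120331330202222123132) (Net.cons (nat_lit 1) (nat_lit 0x440000450150450144541005441545045105154405444451055015014441144414001) Net.nil)))))))))))))))))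

theorem g365_ok : Net.ok 276 g365 = true := by decide +kernel

noncomputable def g366 : Net := (Net.cons (nat_lit 1) (nat_lit 0x454045441455041050111445545111114414501004041114000111551551110500040) (Net.cons (nat_lit 2) (nat_lit 0x103300210320031131301021203321220111313033001221210222022001100130000) (Net.cons (nat_lit 4) (nat_lit 0x40c040e0c0400020805030106090403000a0300020a0d0f030e000b0f0a03050602) (Net.cons (nat_lit 8) (nat_lit 0x7a0015009f00e2004500b400a1005100a0004400fe009500ac000400110008000c) (Net.cons (nat_lit 16) (nat_lit 0x7000091540000b05c0000ab940000bbe80000b2060000c0000000392c00004400) (Net.cons (nat_lit 32) (nat_lit 0xc588563300000000a9478f7200000000f0500e180000000000041c09) (Net.cons (nat_lit 64) (nat_lit 0xaa0d2a4ab2d0c88c000000000000000000000000000a1a48) (Net.cons (nat_lit 128) (nat_lit 0xffee208a099108ea44e39ed0b76c2de2) (Net.cons (nat_lit 256) (nat_lit 950271) (Net.cons (nat_lit 128) (nat_lit 384453) (Net.cons (nat_lit 64)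 (nat_lit 0x6e3fd271a4d9c60400000000000000003387510c081ad7db) (Net.cons (nat_lit 32) (nat_lit 0x5a2f84320000000042038dc500000000e7d2f82900000000d3dfba8b) (Net.cons (nat_lit 16) (nat_lit 0x90000a5d90000b36500001c4e0000beb40000ca820000a4220000e2a60000d4aa) (Net.cons (nat_lit 8) (nat_lit 0xb60037009d00c000d000d0009c00ab00eb006c00fb00290078001200ea00db00b3) (Net.cons (nat_lit 4) (nat_lit 0x5080c05070d0a080b050706030a030000070e05030e04020b09090c030a05040f06) (Net.cons (nat_lit 2) (nat_lit 0x220311332121303232201333113021220220323302301312032133113202332202113) (Net.cons (nat_lit 1) (nat_lit 0x411001415501550115505401104441411445005110541510114450044114511055405) Net.nil)))))))))))))))))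

theorem g366_ok : Net.ok 276 g366 = true := by decide +kernel

noncomputable def g367 : Net := (Net.cons (nat_lit 1) (nat_lit 0x150000010544541151015514140414544050555410001004401404551440405105000) (Net.cons (nat_lit 2) (nat_lit 0x131020122231023202231233231121121323012210331123312100203033202301110) (Net.cons (nat_lit 4) (nat_lit 0xf01060d0d0f070e080d0e010103020c0100000702000102070805060a08070d0104) (Net.cons (nat_lit 8) (nat_lit 0xe4006000e4004a002e0004009200d400af004b00cb00cb0078009b008000200005) (Net.cons (nat_lit 16) (nat_lit 0x30000c60a0000c1ba0000f76800002f4a0000bc9100008135000001000000f230) (Net.cons (nat_lit 32) (nat_lit 0x48c6d418000000001e4000820000000085044abc00000000000c8198) (Net.cons (nat_lit 64) (nat_lit 0x7c0bd79048be82b300000000000000000000000000022088) (Net.cons (nat_lit 128) (nat_lit 0x11976dcdfe8f32ce6d98ba78027eb831) (Net.cons (nat_lit 256) (nat_lit 0xfffb9) (Net.cons (nat_lit 128) (nat_lit 503156) (Net.cons (nat_lit 64)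 (nat_lit 0xa240d944939cca500000000000000000a05760d65eea2d6b) (Net.cons (nat_lit 32) (nat_lit 0x71a7de90000000067d9098400000000805027c6000000001c3b87dc) (Net.cons (nat_lit 16) (nat_lit 0xd00000ddb0000899b00008fb000000b3a0000fa1c0000605d00000f58000083eb) (Net.cons (nat_lit 8) (nat_lit 0x56006d00be00e6003f0034008100a5008b009d0089005b00c900a00096009600c6) (Net.cons (nat_lit 4) (nat_lit 0xf070d09040c0705050e0b070003020b030503070e050f0a0e0009060a0a05020108) (Net.cons (nat_lit 2) (nat_lit 0x101213002300333020122032121222031232032312201321300100303313310100213) (Net.cons (nat_lit 1) (nat_lit 0x444110415414110541044150505115105154011115041405554540444414051104104) Net.nil)))))))))))))))))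

theorem g367_ok : Net.ok 276 g367 = true := by decide +kernel

noncomputable def ht_c30_K : List Net := [g364, g365, g366, g367, n_t]

theorem ht_c30_K_ok : okE 276 ht_c30_K = true := (okE_cons.2 ⟨g364_ok, (okE_cons.2 ⟨g365_ok, (okE_cons.2 ⟨g366_ok, (okE_cons.2 ⟨g367_ok, (okE_cons.2 ⟨n_t_ok, (okE_nil 276)⟩)⟩)⟩)⟩)⟩)

noncomputable def V369 : List Net := []

theorem V369_ok : okE 276 V369 = true := (okE_nil 276)

noncomputable def ht_c30_cnt_EG : List Net := [g36, g37, g38, g39, g40, g41, g42, g35, g129, g130, g131, n_t]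

theorem ht_c30_cnt_EG_ok : okE 276 ht_c30_cnt_EG = true := (okE_cons.2 ⟨g36_ok, (okE_cons.2 ⟨g37_ok, (okE_cons.2 ⟨g38_ok, (okE_cons.2 ⟨g39_ok, (okE_cons.2 ⟨g40_ok, (okE_cons.2 ⟨g41_ok, (okE_cons.2 ⟨g42_ok, (okE_cons.2 ⟨g35_ok, (okE_cons.2 ⟨g129_ok, (okE_cons.2 ⟨g130_ok, (okE_cons.2 ⟨g131_ok, (okE_cons.2 ⟨n_t_ok, (okE_nil 276)⟩)⟩)⟩)⟩)⟩)⟩)⟩)⟩)⟩)⟩)⟩)⟩)

noncomputable def g371 : Net := (Net.cons (nat_lit 1) (nat_lit 0x140115105145411551554114111001414051110515141500000154545144101451400) (Net.cons (nat_lit 2) (nat_lit 0x132212332323310103220312231313020020033222003301300302232112201333100) (Net.cons (nat_lit 4) (nat_lit 0xd0f0c0d00060708070e0f02020f040d040201060e0a070a08080506080e05020b08) (Net.cons (nat_lit 8) (nat_lit 0xf400ae0012004500e000c5004300ad0048003800b300ae0045008a00cc00030004) (Net.cons (nat_lit 16) (nat_lit 0x8000097c7000082290000bbad0000b50d000086c10000b0210000809800002120) (Net.cons (nat_lit 32) (nat_lit 0x4c917f96000000000fb36c04000000004009602d00000000000a6d47)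 (Net.cons (nat_lit 64) (nat_lit 0x181106822a9520000000000000000000000000000a522c) (Net.cons (nat_lit 128) (nat_lit 0xb37b54cdddf83d55542721ea2f5b9c24) (Net.cons (nat_lit 256) (nat_lit 786287) (Net.cons (nat_lit 128) (nat_lit 866381) (Net.cons (nat_lit 64) (nat_lit 0xec4821a34cf54ea80000000000000000909fd8ff6d926352) (Net.cons (nat_lit 32) (nat_lit 0x99f756fd0000000026eb1be600000000250b97db00000000b5137471) (Net.cons (nat_lit 16) (nat_lit 0x40000a38d0000f9c50000819a0000280400008f360000c8fd0000610e0000b3fd) (Net.cons (nat_lit 8) (nat_lit 0x85007a004b00ae00bc00ad005200d5002f00760075002300c700e4001f003c0047) (Net.cons (nat_lit 4) (nat_lit 0xa01090a050c040e070c0b060d0b0e06050e0b0a020004030a0e0a0b0d010f050409) (Net.cons (nat_lit 2) (nat_lit 0x132021031102122203111130111010032200122022213200310232122001103312031) (Net.cons (nat_lit 1) (nat_lit 0x100140555451111014040001140555505505555010541505415514141551104510155) Net.nil)))))))))))))))))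

theorem g371_ok : Net.ok 276 g371 = true := by decide +kernel

noncomputable def g372 : Net := (Net.cons (nat_lit 1) (nat_lit 0x45040011140110111414500140405050151041000000445040101110411141140500) (Net.cons (nat_lit 2) (nat_lit 0x120102323200012333230001120233021330112222003003001011222120032010000) (Net.cons (nat_lit 4) (nat_lit 0xc04000f010302040a0f0e060e0b090400000b07090804000705050403080b0a0000) (Net.cons (nat_lit 8) (nat_lit 0xa9007a00450000006000c5001c0079003500b60040007000310015005900290002) (Net.cons (nat_lit 16) (nat_lit 0xb00007903000017760000ea97000047f1000080500000c0650000c4500000a020) (Net.cons (nat_lit 32) (nat_lit 0xea75136000000000840c805a00000000244801b000000000000592a0) (Net.cons (nat_lit 64) (nat_lit 0x8535214a880ca846000000000000000000000000000614a6) (Net.cons (nat_lit 128) (nat_lit 0x2e1a0a4a014baea2a9ad2394a92ad0c6) (Net.cons (nat_lit 256) (nat_lit 0xff6e6) (Net.cons (nat_lit 128) (nat_lit 0xfc0c2) (Net.cons (nat_lit 64)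 (nat_lit 0xadf1f65e469ca04700000000000000002048c7aac58e44fc) (Net.cons (nat_lit 32) (nat_lit 0x72f11b75000000009c88815d000000002460c9ba000000001ad0dae7) (Net.cons (nat_lit 16) (nat_lit 0xf0000791700005ef30000eb9200004fed0000a95d000041b90000d48c000020ec) (Net.cons (nat_lit 8) (nat_lit 0xad006b0045008000610046009f0078003400b600c200f00035000500c900380082) (Net.cons (nat_lit 4) (nat_lit 0xd05090e010302050a0f0f0e0e0b0a0500010b0f09080408070404040b090b0a0008) (Net.cons (nat_lit 2) (nat_lit 0x120102323200012333230001120233021330112222003023001011222120032010000) (Net.cons (nat_lit 1) (nat_lit 0x45040011140110111414500140405450151041000000445040101110411141140500) Net.nil)))))))))))))))))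

theorem g372_ok : Net.ok 276 g372 = true := by decide +kernel

noncomputable def g373 : Net := (Net.cons (nat_lit 1) (nat_lit 0x411115144414151401454004411144050400014014555144400440514515044051000) (Net.cons (nat_lit 2) (nat_lit 0x103120000021202032003300022022202102332131002110130121121111312322230) (Net.cons (nat_lit 4) (nat_lit 0xa0002070c0603020706060d0a0208090f0d020204020c0d020b06000100020b0a00) (Net.cons (nat_lit 8) (nat_lit 0x460018008b008a00700079008500d4008e005a0019006d000e00ee009300010001) (Net.cons (nat_lit 16) (nat_lit 0x40000b763000083520000ab87000050080000172400004c930000ca0000000010) (Net.cons (nat_lit 32) (nat_lit 0x80d8823800000000882016140000000041f5a46600000000000aca53) (Net.cons (nat_lit 64) (nat_lit 0x2006cc71258a66e700000000000000000000000000030528) (Net.cons (nat_lit 128) (nat_lit 0x3fffe589ca9abf67029009fabd482e03) (Net.cons (nat_lit 256) (nat_lit 0xfef7b) (Net.cons (nat_lit 128) (nat_lit 294288) (Net.cons (nat_lit 64)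 (nat_lit 0x48ada83087521f520000000000000000e304b3a985f13f35) (Net.cons (nat_lit 32) (nat_lit 0x811bf4a00000000213a0e180000000058948c48000000004f6b1a38) (Net.cons (nat_lit 16) (nat_lit 0xe0000a32400004f230000189c00000a5c0000e4ce0000e69d0000ff3e0000c958) (Net.cons (nat_lit 8) (nat_lit 0xa2001b00de003b00ee0032006d009300fb006c0009004b001200150096006f0078) (Net.cons (nat_lit 4) (nat_lit 0x703060a050a020f03060d01030a08020f01010e0a06020c050f0801000205060d) (Net.cons (nat_lit 2) (nat_lit 0x122013220030333131023121302003033231310131200132021120132110233003311) (Net.cons (nat_lit 1) (nat_lit 0x410514151045005400541041451014445445554155104550040515414514114104155) Net.nil)))))))))))))))))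

theorem g373_ok : Net.ok 276 g373 = true := by decide +kernel

noncomputable def ht_c31_K : List Net := [g371, g372, g373]

theorem ht_c31_K_ok : okE 276 ht_c31_K = true := (okE_cons.2 ⟨g371_ok, (okE_cons.2 ⟨g372_ok, (okE_cons.2 ⟨g373_ok, (okE_nil 276)⟩)⟩)⟩)

noncomputable def V375 : List Net := [g112]

theorem V375_ok : okE 276 V375 = true := (okE_cons.2 ⟨g112_ok, (okE_nil 276)⟩)

noncomputable def V377 : List Net := []

theorem V377_ok : okE 276 V377 = true := (okE_nil 276)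

noncomputable def ht_c31_cnt_EG : List Net := [g36, g37, g38, g39, g40, g41, g42, g35, g243, g244, n_t, g112]

theorem ht_c31_cnt_EG_ok : okE 276 ht_c31_cnt_EG = true := (okE_cons.2 ⟨g36_ok, (okE_cons.2 ⟨g37_ok, (okE_cons.2 ⟨g38_ok, (okE_cons.2 ⟨g39_ok, (okE_cons.2 ⟨g40_ok, (okE_cons.2 ⟨g41_ok, (okE_cons.2 ⟨g42_ok, (okE_cons.2 ⟨g35_ok, (okE_cons.2 ⟨g243_ok, (okE_cons.2 ⟨g244_ok, (okE_cons.2 ⟨n_t_ok, (okE_cons.2 ⟨g112_ok, (okE_nil 276)⟩)⟩)⟩)⟩)⟩)⟩)⟩)⟩)⟩)⟩)⟩)⟩)

noncomputable def g378 : Net := (Net.cons (nat_lit 1) (nat_lit 0x401454411145540041140440100041014544040551450410145115551104004141040) (Net.cons (nat_lit 2) (nat_lit 0x301330311013032312330130031100111202122220220313320030323301331130020) (Net.cons (nat_lit 4) (nat_lit 0x509070d010c0e02060e090206030e030b0d02070b0d05090a0a0c0406020a0204) (Net.cons (nat_lit 8) (nat_lit 0x6f00f100f000a3007300700011001700770031000000bb001c00e3009b00040000) (Net.cons (nat_lit 16) (nat_lit 0xc0000579600007b4c000080780000e8230000c4a50000a42b00009316000010f0)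 (Net.cons (nat_lit 32) (nat_lit 0x6f188fb9000000009823f2ba000000000126dc9100000000000100d9) (Net.cons (nat_lit 64) (nat_lit 0x44a863242d0e2076000000000000000000000000000cb3a9) (Net.cons (nat_lit 128) (nat_lit 0xd28bafe184f34649af72d0df39306c7a) (Net.cons (nat_lit 256) (nat_lit 0xffffb) (Net.cons (nat_lit 128) (nat_lit 902109) (Net.cons (nat_lit 64) (nat_lit 0x26b1f1a6bf82fd800000000000000000e73773e10ecbfe12) (Net.cons (nat_lit 32) (nat_lit 0x497c6a280000000069ee5a410000000093d43ed700000000e5a3d45f) (Net.cons (nat_lit 16) (nat_lit 0x30000cc8c0000d35300004b0f000098340000b7260000b9bf000027ce0000d123) (Net.cons (nat_lit 8) (nat_lit 0x52005500b300d300d00068006d00db006600480084001c00f500c100a200300031) (Net.cons (nat_lit 4) (nat_lit 0xd0d090a03050f050505030705070b0a030e080402020a09060f040104030c00060e) (Net.cons (nat_lit 2) (nat_lit 0x213011020210312331210130323102230010301112201110103013012312202113223) (Net.cons (nat_lit 1) (nat_lit 0x404110441405005551515545055010111101114550115101144455141551014100510)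 Net.nil)))))))))))))))))

theorem g378_ok : Net.ok 276 g378 = true := by decide +kernel

noncomputable def g379 : Net := (Net.cons (nat_lit 1) (nat_lit 0x110441055155441515514515150110444514100110444454555541010015015041400) (Net.cons (nat_lit 2) (nat_lit 0x322201203210030121113011333322123133101222210230323100103022321212300) (Net.cons (nat_lit 4) (nat_lit 0x705070b040207040d09020905080902030a0e070e0c020f05080f0f0102080d0302) (Net.cons (nat_lit 8) (nat_lit 0xcb00610070004600e0004400b70097007b00870086007200d500c7006c00c00002) (Net.cons (nat_lit 16) (nat_lit 0xe000001940000f2320000668800002fa900002e8d00003240000047e000009070) (Net.cons (nat_lit 32) (nat_lit 0x55a4110e00000000a17379140000000005b4a5da00000000000088a0) (Net.cons (nat_lit 64) (nat_lit 0x2b603d884e871c000000000000000000000000000eec5b) (Net.cons (nat_lit 128) (nat_lit 0x445fde81873dec926d30b6be0b6f8701) (Net.cons (nat_lit 256) (nat_lit 0xffffb) (Net.cons (nat_lit 128) (nat_lit 886190)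 (Net.cons (nat_lit 64) (nat_lit 0x2c0b7b08d9b221e70000000000000000a80114c2adc1b5ee) (Net.cons (nat_lit 32) (nat_lit 0x5d0a43ea00000000215b8694000000002b6e1084000000008fefc944) (Net.cons (nat_lit 16) (nat_lit 0xe00007c910000f688000060880000de3f00007f890000ac6b000081fd0000b150) (Net.cons (nat_lit 8) (nat_lit 0xd0005800df00fb00ad0024006900ea002b000300300054003b004300e900d60027) (Net.cons (nat_lit 4) (nat_lit 0xe090306070104060b0403090801010c0a0f0803020302070a04060f0d0002070304) (Net.cons (nat_lit 2) (nat_lit 0x231030301023000013110311012033331132020330333013332012002021322010301) (Net.cons (nat_lit 1) (nat_lit 0x100441544511000404555515005005514454145101414051105510105554044100400) Net.nil)))))))))))))))))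

theorem g379_ok : Net.ok 276 g379 = true := by decide +kernel

noncomputable def ht_c32_K : List Net := [g378, g250, g379]

theorem ht_c32_K_ok : okE 276 ht_c32_K = true := (okE_cons.2 ⟨g378_ok, (okE_cons.2 ⟨g250_ok, (okE_cons.2 ⟨g379_ok, (okE_nil 276)⟩)⟩)⟩)

noncomputable def ht_c32_cnt_EG : List Net := [g37, g38, g39, g40, g41, g42, g36, g35, g155, g156, g157, g130, n_t, g276, g275]

theorem ht_c32_cnt_EG_ok : okE 276 ht_c32_cnt_EG = true := (okE_cons.2 ⟨g37_ok, (okE_cons.2 ⟨g38_ok, (okE_cons.2 ⟨g39_ok, (okE_cons.2 ⟨g40_ok, (okE_cons.2 ⟨g41_ok, (okE_cons.2 ⟨g42_ok, (okE_cons.2 ⟨g36_ok, (okE_cons.2 ⟨g35_ok, (okE_cons.2 ⟨g155_ok, (okE_cons.2 ⟨g156_ok, (okE_cons.2 ⟨g157_ok, (okE_cons.2 ⟨g130_ok, (okE_cons.2 ⟨n_t_ok, (okE_cons.2 ⟨g276_ok, (okE_cons.2 ⟨g275_ok, (okE_nil 276)⟩)⟩)⟩)⟩)⟩)⟩)⟩)⟩)⟩)⟩)⟩)⟩)⟩)⟩)⟩)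

noncomputable def g381 : Net := (Net.cons (nat_lit 1) (nat_lit 0x105500040105115004110410011550141545054145110555514115550500011005500) (Net.cons (nat_lit 2) (nat_lit 0x210303232312130201023303313123010311312030120201312003231221111231000) (Net.cons (nat_lit 4) (nat_lit 0x90a08000a010e020b0e040a0a04010505050100010f0c0f030d04080001010a0c0c) (Net.cons (nat_lit 8) (nat_lit 0xc00ce000900c9000d009e00bd00d7006b0098009700e2002200ef00c900120002) (Net.cons (nat_lit 16) (nat_lit 0x30000174b00001c9b0000846200008d7c00004509000031a80000c03400004230) (Net.cons (nat_lit 32) (nat_lit 0x5b04b9440000000006059b0e00000000488f3ac20000000000028712) (Net.cons (nat_lit 64) (nat_lit 0x8088cc365e591e40000000000000000000000000000d0405) (Net.cons (nat_lit 128) (nat_lit 0x2150cfe96d8e71eae39b22df12799c3f) (Net.cons (nat_lit 256) (nat_lit 0xfffbf) (Net.cons (nat_lit 128) (nat_lit 574088) (Net.cons (nat_lit 64) (nat_lit 0x8f51d2f19de59d0b00000000000000005acb4f3da3ccee77) (Net.cons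 (nat_lit 32) (nat_lit 0x9be2ad5f00000000d87fa51900000000b0a6144000000000733782c1) (Net.cons (nat_lit 16) (nat_lit 0xd0000e4150000caa800003db40000d057000022ba00001fdd00004a6d000067ba) (Net.cons (nat_lit 8) (nat_lit 0x4500ed0025008000f8000e00ac001800360008001e004c00d600b50002006a00ed) (Net.cons (nat_lit 4) (nat_lit 0x10c02040a0807040a080b05090f0a0200070104060005050f0a020b01080e020205) (Net.cons (nat_lit 2) (nat_lit 0x213221123212312331313121023010211231122133022213230323213210233030002) (Net.cons (nat_lit 1) (nat_lit 0x144444114010100150404515004550140554545014504054411100154110104514050) Net.nil)))))))))))))))))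

theorem g381_ok : Net.ok 276 g381 = true := by decide +kernel

noncomputable def g382 : Net := (Net.cons (nat_lit 1) (nat_lit 0x114050105500541111014454451005114140100054100451041500501040104554100) (Net.cons (nat_lit 2) (nat_lit 0x333131031113310321212122011323132023101200022221200312111320002232020) (Net.cons (nat_lit 4) (nat_lit 0xe0308000f050d0b020e000a0105050005060d0a0f0004070b060f050405020e0402) (Net.cons (nat_lit 8) (nat_lit 0x8b0029008800cf0047004b0090005c000f00a5002400f100ec0030000a0081000c) (Net.cons (nat_lit 16) (nat_lit 0x600005481000052fb000026650000269300006f37000098d40000c150000032b0) (Net.cons (nat_lit 32) (nat_lit 0x8359171000000000d9264bf300000000a18b5021000000000004021b) (Net.cons (nat_lit 64) (nat_lit 0x54300ab2059c41400000000000000000000000000044061) (Net.cons (nat_lit 128) (nat_lit 0xb2d5f607512eac0d5702c4fc2ffea4d2) (Net.cons (nat_lit 256) (nat_lit 980735) (Net.cons (nat_lit 128) (nat_lit 911144) (Net.cons (nat_lit 64) (nat_lit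 0x46422c5fb9c465cc0000000000000000f42cb6c4506766e0) (Net.cons (nat_lit 32) (nat_lit 0x3fc1187900000000d9186da80000000013f46b480000000068d8ae0d) (Net.cons (nat_lit 16) (nat_lit 0x20000b8d80000143400008678000006e6000087fc000034650000bb820000ba9d) (Net.cons (nat_lit 8) (nat_lit 0x9000ec000300bc00d500740012007c008900e80042002500fa0048009900600039) (Net.cons (nat_lit 4) (nat_lit 0x6040909090a0c0a060e000b000503070b0d050e0a0f070d0d01050102060d000c01) (Net.cons (nat_lit 2) (nat_lit 0x122101120123223131202100111100203201012031232023003110113200002032000) (Net.cons (nat_lit 1) (nat_lit 0x110004404511411005510154551104504101511040144510145104510445454544001) Net.nil)))))))))))))))))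

theorem g382_ok : Net.ok 276 g382 = true := by decide +kernel

noncomputable def ht_c33_K : List Net := [g381, g382]

theorem ht_c33_K_ok : okE 276 ht_c33_K = true := (okE_cons.2 ⟨g381_ok, (okE_cons.2 ⟨g382_ok, (okE_nil 276)⟩)⟩)

noncomputable def ht_c33_cnt_EG : List Net := [g173, g174, g175, g176, g177, g35, g36, g37, g38, g39, g40, g41, g42, g214, g215, g216, g217]

theorem ht_c33_cnt_EG_ok : okE 276 ht_c33_cnt_EG = true := (okE_cons.2 ⟨g173_ok, (okE_cons.2 ⟨g174_ok, (okE_cons.2 ⟨g175_ok, (okE_cons.2 ⟨g176_ok, (okE_cons.2 ⟨g177_ok, (okE_cons.2 ⟨g35_ok, (okE_cons.2 ⟨g36_ok, (okE_cons.2 ⟨g37_ok, (okE_cons.2 ⟨g38_ok, (okE_cons.2 ⟨g39_ok, (okE_cons.2 ⟨g40_ok, (okE_cons.2 ⟨g41_ok, (okE_cons.2 ⟨g42_ok, (okE_cons.2 ⟨g214_ok, (okE_cons.2 ⟨g215_ok, (okE_cons.2 ⟨g216_ok, (okE_cons.2 ⟨g217_ok, (okE_nil 276)⟩)⟩)⟩)⟩)⟩)⟩)⟩)⟩)⟩)⟩)⟩)⟩)⟩)⟩)⟩)⟩)⟩)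

noncomputable def g384 : Net := (Net.cons (nat_lit 1) (nat_lit 0x110100455005105145555501150444100554445005155044141510004140445004550) (Net.cons (nat_lit 2) (nat_lit 0x102120301322002300123032111212110230232333200212133021203233311023200) (Net.cons (nat_lit 4) (nat_lit 0x10704020908000b0f080501010a0502010e0e070806040c060b0d0c060d02030203) (Net.cons (nat_lit 8) (nat_lit 0xbd005d00f2000900a9006d00bc00bd00db008700c400670074008500e2000a000c) (Net.cons (nat_lit 16) (nat_lit 0xe00003f910000bcd200007a87000017500000ffee0000c232000088210000d400) (Net.cons (nat_lit 32) (nat_lit 0x4654e0d9000000000d6cbd6e00000000daec271800000000000604bc) (Net.cons (nat_lit 64) (nat_lit 0xe6c04b35175b02b0000000000000000000000000001a88c) (Net.cons (nat_lit 128) (nat_lit 0x135dcbf2e3365adfec30c7413647b4e1) (Net.cons (nat_lit 256) (nat_lit 524031) (Net.cons (nat_lit 128) (nat_lit 7825) (Net.cons (nat_lit 64) (nat_lit 0x4cf1a579ee0c36ae0000000000000000cce089f0f36e7592) (Net.cons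 (nat_lit 32) (nat_lit 0x31718b640000000055274b6d0000000012e9f2bb00000000fe97e748) (Net.cons (nat_lit 16) (nat_lit 0xe000095c200004cc200007f040000079400006f5a0000dc2900008ca00000549d) (Net.cons (nat_lit 8) (nat_lit 0x7800b6008d004800d1002e00960014006f005a0077005e003a00e900ee003700c4) (Net.cons (nat_lit 4) (nat_lit 0x8060e0a0d010f0a0c0904020a080703040d0b0b090d0f03040b090a0b0100020809) (Net.cons (nat_lit 2) (nat_lit 0x22220120120132003333000302033202211302122113001221233113132011013022) (Net.cons (nat_lit 1) (nat_lit 0x105515410554415105140501144445015415514151411054510510114101451444000) Net.nil)))))))))))))))))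

theorem g384_ok : Net.ok 276 g384 = true := by decide +kernel

noncomputable def g385 : Net := (Net.cons (nat_lit 1) (nat_lit 0x414114051454155010101444510410101411514555040000110011104050401410000) (Net.cons (nat_lit 2) (nat_lit 0x313231023330023002020022200103231100020012202110032313003013312012020) (Net.cons (nat_lit 4) (nat_lit 0xd0b0d01090a090e070c0d0003020c04050c030d090d07080403050a080008020800) (Net.cons (nat_lit 8) (nat_lit 0xa700bd00d8002e004000dd001c00e600610055003d000000e1004e005a00540004) (Net.cons (nat_lit 16) (nat_lit 0x500009068000045010000881a00003aa00000030100009aa10000511000000600) (Net.cons (nat_lit 32) (nat_lit 0x3153782a00000000cbd60b0500000000843c008b00000000000e09a5) (Net.cons (nat_lit 64) (nat_lit 0x119c535c8a8aa02b00000000000000000000000000050223) (Net.cons (nat_lit 128) (nat_lit 0x600b43b082bb7c2151d414ce1d3f2088) (Net.cons (nat_lit 256) (nat_lit 995247) (Net.cons (nat_lit 128) (nat_lit 255130) (Net.cons (nat_lit 64)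 (nat_lit 0xcf30331d9ece280f00000000000000008602414743010acf) (Net.cons (nat_lit 32) (nat_lit 0x25d5f91a00000000dad45c05000000008138c18d000000007a2c0783) (Net.cons (nat_lit 16) (nat_lit 0x70000906a0000cd6d0000871600003b8000005e630000fb8300001b9e0000a124) (Net.cons (nat_lit 8) (nat_lit 0xe3003900d000a6004400d3005600c000e10053003b002c00d3004a001000520022) (Net.cons (nat_lit 4) (nat_lit 0xd0b0f05090e030e0f0c0d0003060c06070c070d0909070a04070702080202060402) (Net.cons (nat_lit 2) (nat_lit 0x133231223332003002022022200103231300020012200113032313021013310010020) (Net.cons (nat_lit 1) (nat_lit 0x504114451450115010101444510410100411114541044000110011104051501400400) Net.nil)))))))))))))))))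

theorem g385_ok : Net.ok 276 g385 = true := by decide +kernel

noncomputable def ht_c34_K : List Net := [g384, g227, g385]

theorem ht_c34_K_ok : okE 276 ht_c34_K = true := (okE_cons.2 ⟨g384_ok, (okE_cons.2 ⟨g227_ok, (okE_cons.2 ⟨g385_ok, (okE_nil 276)⟩)⟩)⟩)

noncomputable def ht_c34_cnt_EG : List Net := [g214, g215, g216, g217, g173, g174, g175, g176, g177, g35, g36, g37, g38, g39, g40, g41, g42]

theorem ht_c34_cnt_EG_ok : okE 276 ht_c34_cnt_EG = true := (okE_cons.2 ⟨g214_ok, (okE_cons.2 ⟨g215_ok, (okE_cons.2 ⟨g216_ok, (okE_cons.2 ⟨g217_ok, (okE_cons.2 ⟨g173_ok, (okE_cons.2 ⟨g174_ok, (okE_cons.2 ⟨g175_ok, (okE_cons.2 ⟨g176_ok, (okE_cons.2 ⟨g177_ok, (okE_cons.2 ⟨g35_ok, (okE_cons.2 ⟨g36_ok, (okE_cons.2 ⟨g37_ok, (okE_cons.2 ⟨g38_ok, (okE_cons.2 ⟨g39_ok, (okE_cons.2 ⟨g40_ok, (okE_cons.2 ⟨g41_ok, (okE_cons.2 ⟨g42_ok, (okE_nil 276)⟩)⟩)⟩)⟩)⟩)⟩)⟩)⟩)⟩)⟩)⟩)⟩)⟩)⟩)⟩)⟩)⟩)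

noncomputable def g387 : Net := (Net.cons (nat_lit 1) (nat_lit 0x114005451540451100411555050015550044405404014101000040145045551045150) (Net.cons (nat_lit 2) (nat_lit 0x130313322113021310111123120032000200003221220323123010310321303310000) (Net.cons (nat_lit 4) (nat_lit 0x508040c000e030b0505050a07010e0b0802020b0003080a0c090a080e02060f0b01) (Net.cons (nat_lit 8) (nat_lit 0xca00f400100052001a00c20031000900c1009900090099007c006700a000a30000) (Net.cons (nat_lit 16) (nat_lit 0xb0000ec870000cf5c0000d59b0000b51e0000882e0000f00e00006af000005500) (Net.cons (nat_lit 32) (nat_lit 0x2e6ac492000000000a0ed0f300000000d5a0a0e400000000000c8a09) (Net.cons (nat_lit 64) (nat_lit 0x6a1a50710c04089a000000000000000000000000000b06d0) (Net.cons (nat_lit 128) (nat_lit 0x41ad49f6caddfb4dba73be0507a66713) (Net.cons (nat_lit 256) (nat_lit 0xffffb) (Net.cons (nat_lit 128) (nat_lit 545479) (Net.cons (nat_lit 64) (nat_lit 0xe4d91dbd1c2981c900000000000000006ce6780399051c2c) (Net.cons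 (nat_lit 32) (nat_lit 0xd85e40ed00000000a79c41f70000000047d7b6f6000000008ac3f6e8) (Net.cons (nat_lit 16) (nat_lit 0x100004d9e0000c05000007c8b000070820000bc100000bdde000040fa00001065) (Net.cons (nat_lit 8) (nat_lit 0x9800110084000100b800e300ac00c1009100d1004200fd00d500be0006003c002a) (Net.cons (nat_lit 4) (nat_lit 0x20f06000203000a09020f0a0009020703040d000f0e020503040d030f0c0d0808) (Net.cons (nat_lit 2) (nat_lit 0x100002221023222312002211032003231201010102300321222321120113033110100) (Net.cons (nat_lit 1) (nat_lit 0x100510510540414150511555105000011541441510054000100010411400000504000) Net.nil)))))))))))))))))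

theorem g387_ok : Net.ok 276 g387 = true := by decide +kernel

noncomputable def g388 : Net := (Net.cons (nat_lit 1) (nat_lit 0x10511504550451511555040450115411001101145105054014410014144400111004) (Net.cons (nat_lit 2) (nat_lit 0x311133301110031113102131231011133320330010232023110102133311010200320) (Net.cons (nat_lit 4) (nat_lit 0xc03080105010b0b060e0c0b0e020a0707030b020c01040b03000707070d060c0202) (Net.cons (nat_lit 8) (nat_lit 0x9c00ef003800af00e200fe00e1005000a5008f0044007800940018005100140005) (Net.cons (nat_lit 16) (nat_lit 0xb0000a8c200003c9f00009fc10000d99200003a2a0000a3600000732100008530) (Net.cons (nat_lit 32) (nat_lit 0x3209840c00000000249641190000000099959d080000000000002148) (Net.cons (nat_lit 64) (nat_lit 0xea912054008156f50000000000000000000000000008f27a) (Net.cons (nat_lit 128) (nat_lit 0x74a98627c4511d329a7ee55144c724a8) (Net.cons (nat_lit 256) (nat_lit 0xff7fa) (Net.cons (nat_lit 128) (nat_lit 675557) (Net.cons (nat_lit 64)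 (nat_lit 0xe0e3321a30ead5a200000000000000007d3ce403b681eae1) (Net.cons (nat_lit 32) (nat_lit 0x6400bffa00000000fdd20fc900000000826de9c9000000008b7ec072) (Net.cons (nat_lit 16) (nat_lit 0x13e5000051b100001739000028a4000069ac000060850000d6dc0000e292) (Net.cons (nat_lit 8) (nat_lit 0xbe00b3002e00f5000900700006000e00b300d90024005300ed00f500ee00250016) (Net.cons (nat_lit 4) (nat_lit 0x209040e0703070a05060a0f0b050e06010f000b0c0c020d080d010f0c060f0c0c0c) (Net.cons (nat_lit 2) (nat_lit 0x103000113311301112122032313013113111132322312300301321232301212203020) (Net.cons (nat_lit 1) (nat_lit 0x454441111451000144450505140141450115440140511405000505500140414450005) Net.nil)))))))))))))))))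

theorem g388_ok : Net.ok 276 g388 = true := by decide +kernel

noncomputable def ht_c35_K : List Net := [g387, g388]

theorem ht_c35_K_ok : okE 276 ht_c35_K = true := (okE_cons.2 ⟨g387_ok, (okE_cons.2 ⟨g388_ok, (okE_nil 276)⟩)⟩)

noncomputable def ht_c35_cnt_EG : List Net := [g36, g37, g38, g39, g40, g41, g42, g35, g320, g321, g322]

theorem ht_c35_cnt_EG_ok : okE 276 ht_c35_cnt_EG = true := (okE_cons.2 ⟨g36_ok, (okE_cons.2 ⟨g37_ok, (okE_cons.2 ⟨g38_ok, (okE_cons.2 ⟨g39_ok, (okE_cons.2 ⟨g40_ok, (okE_cons.2 ⟨g41_ok, (okE_cons.2 ⟨g42_ok, (okE_cons.2 ⟨g35_ok, (okE_cons.2 ⟨g320_ok, (okE_cons.2 ⟨g321_ok, (okE_cons.2 ⟨g322_ok, (okE_nil 276)⟩)⟩)⟩)⟩)⟩)⟩)⟩)⟩)⟩)⟩)⟩)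

noncomputable def g390 : Net := (Net.cons (nat_lit 1) (nat_lit 0x445114550101414150045015550510010414105050150414001014115405050111400) (Net.cons (nat_lit 2) (nat_lit 0x213200322030121320320302213321110000200032100030221010111122100) (Net.cons (nat_lit 4) (nat_lit 0xa070f050d020d06060b000f0c0c0a04030a0907030c090f05030200040700050b00) (Net.cons (nat_lit 8) (nat_lit 0xd70065003f009b008d002000d6002f00970004001b00dc000400b0000300350000) (Net.cons (nat_lit 16) (nat_lit 0x5000044a20000d3a80000969b00007b72000049990000b5840000891e00000250) (Net.cons (nat_lit 32) (nat_lit 0xc4dba243000000002a2ed8480000000020474171000000000000ae5f) (Net.cons (nat_lit 64) (nat_lit 0x44303c4a86c013a400000000000000000000000000005500) (Net.cons (nat_lit 128) (nat_lit 0x2ced2dd4de947068c194903a1056181c) (Net.cons (nat_lit 256) (nat_lit 982879) (Net.cons (nat_lit 128) (nat_lit 578443) (Net.cons (nat_lit 64) (nat_lit 0x1ca2250372a4e5d600000000000000005f3b6889ef14fbf2) (Net.cons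 (nat_lit 32) (nat_lit 0xea5c566e00000000fe0eafa900000000cc11544600000000df479f43) (Net.cons (nat_lit 16) (nat_lit 0x50000b65c0000aa640000d79b000032f40000d52b000053810000adb20000b951) (Net.cons (nat_lit 8) (nat_lit 0x9100a6004c004400b400230024006200d700bc00f900f2001300a700ec00240079) (Net.cons (nat_lit 4) (nat_lit 0xa0d0b0308000205010b050106090309090e010c0e040e0507030f070b0b0802070c) (Net.cons (nat_lit 2) (nat_lit 0x30230102020213331210132000200023300200032221332130222330031312213103) (Net.cons (nat_lit 1) (nat_lit 0x451510401514115454454110045400154054441545551544405401500414514105041) Net.nil)))))))))))))))))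

theorem g390_ok : Net.ok 276 g390 = true := by decide +kernel

noncomputable def ht_c36_K : List Net := [g362, g390, n_t]

theorem ht_c36_K_ok : okE 276 ht_c36_K = true := (okE_cons.2 ⟨g362_ok, (okE_cons.2 ⟨g390_ok, (okE_cons.2 ⟨n_t_ok, (okE_nil 276)⟩)⟩)⟩)

noncomputable def ht_c36_cnt_EG : List Net := [g36, g37, g38, g39, g40, g41, g42, g35, g155, g156, g157, g130, n_t]

theorem ht_c36_cnt_EG_ok : okE 276 ht_c36_cnt_EG = true := (okE_cons.2 ⟨g36_ok, (okE_cons.2 ⟨g37_ok, (okE_cons.2 ⟨g38_ok, (okE_cons.2 ⟨g39_ok, (okE_cons.2 ⟨g40_ok, (okE_cons.2 ⟨g41_ok, (okE_cons.2 ⟨g42_ok, (okE_cons.2 ⟨g35_ok, (okE_cons.2 ⟨g155_ok, (okE_cons.2 ⟨g156_ok, (okE_cons.2 ⟨g157_ok, (okE_cons.2 ⟨g130_ok, (okE_cons.2 ⟨n_t_ok, (okE_nil 276)⟩)⟩)⟩)⟩)⟩)⟩)⟩)⟩)⟩)⟩)⟩)⟩)⟩)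

noncomputable def g392 : Net := (Net.cons (nat_lit 1) (nat_lit 0x405545041051140541541115151550010411005051410450055555045040001541544) (Net.cons (nat_lit 2) (nat_lit 0x200323330332201232302111210232003220312312012230020222310031202131230) (Net.cons (nat_lit 4) (nat_lit 0x2080009090209050900080c0e0a0e090d020c0001060a050d030e000a04050a080f) (Net.cons (nat_lit 8) (nat_lit 0x8200ac00d7002f0063003e0017001d00a7007700d0002e008b005f006a00000009) (Net.cons (nat_lit 16) (nat_lit 0xb000022c20000d94b0000dc8d00004e180000bf2a00005a000000402300000e10) (Net.cons (nat_lit 32) (nat_lit 0x96db7c5100000000056c085e00000000851e1a8a000000000002d8cd) (Net.cons (nat_lit 64) (nat_lit 0xf2616c5b538921e400000000000000000000000000071e05) (Net.cons (nat_lit 128) (nat_lit 0x8d6fdcef49fbaf017e1ea330be232854) (Net.cons (nat_lit 256) (nat_lit 0xffedd) (Net.cons (nat_lit 128) (nat_lit 260832) (Net.cons (nat_lit 64) (nat_lit 0x8cd924f6c3a58a0f0000000000000000e2409c255d96dacf) (Net.cons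 (nat_lit 32) (nat_lit 0xbb72289b000000006e312b170000000061235cfb0000000017adad26) (Net.cons (nat_lit 16) (nat_lit 0x40000c99a00005a8800005b4c0000705800006ef60000c00a0000c6a60000aa1d) (Net.cons (nat_lit 8) (nat_lit 0x71007c002400c2002e00d60026003900da007e007f00a8001b0083003100700061) (Net.cons (nat_lit 4) (nat_lit 0xb0809050c060f0c04050c030906020a0c0e090e040f070b050c0e0e04020d020501) (Net.cons (nat_lit 2) (nat_lit 0x300002131112232102113003232233000102301220021300212200203023002030322) (Net.cons (nat_lit 1) (nat_lit 0x440101551411440044151441540015445400045041445011444555541055014415501) Net.nil)))))))))))))))))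

theorem g392_ok : Net.ok 276 g392 = true := by decide +kernel

noncomputable def ht_c37_K : List Net := [g392, g359]

theorem ht_c37_K_ok : okE 276 ht_c37_K = true := (okE_cons.2 ⟨g392_ok, (okE_cons.2 ⟨g359_ok, (okE_nil 276)⟩)⟩)

noncomputable def ht_c37_cnt_EG : List Net := [g174, g175, g176, g177, g173, g35, g36, g37, g38, g39, g40, g41, g42]

theorem ht_c37_cnt_EG_ok : okE 276 ht_c37_cnt_EG = true := (okE_cons.2 ⟨g174_ok, (okE_cons.2 ⟨g175_ok, (okE_cons.2 ⟨g176_ok, (okE_cons.2 ⟨g177_ok, (okE_cons.2 ⟨g173_ok, (okE_cons.2 ⟨g35_ok, (okE_cons.2 ⟨g36_ok, (okE_cons.2 ⟨g37_ok, (okE_cons.2 ⟨g38_ok, (okE_cons.2 ⟨g39_ok, (okE_cons.2 ⟨g40_ok, (okE_cons.2 ⟨g41_ok, (okE_cons.2 ⟨g42_ok, (okE_nil 276)⟩)⟩)⟩)⟩)⟩)⟩)⟩)⟩)⟩)⟩)⟩)⟩)⟩)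

noncomputable def g394 : Net := (Net.cons (nat_lit 1) (nat_lit 0x500004045115404041044000401145454101114444144010410150104144151140440) (Net.cons (nat_lit 2) (nat_lit 0x110031310330111221131312320220303332222120310033203021303021223222110) (Net.cons (nat_lit 4) (nat_lit 0xd07090b070e06090d000c01030f06030e000c0d0e0e03010d000406030201030904) (Net.cons (nat_lit 8) (nat_lit 0x6500800003009e0002008000d600ec009c00b300340082007d000d001b00210004) (Net.cons (nat_lit 16) (nat_lit 0xa000089730000c6910000a6c80000a01200006a0a00000d240000343500000c80) (Net.cons (nat_lit 32) (nat_lit 0x877325450000000043b29b5300000000c59c887b00000000000ea91d) (Net.cons (nat_lit 64) (nat_lit 0x2328e971b49a4724000000000000000000000000000e0fc3) (Net.cons (nat_lit 128) (nat_lit 0x600cc4ab68ed5913db602d5e9750e6ae) (Net.cons (nat_lit 256) (nat_lit 0xfefff) (Net.cons (nat_lit 128) (nat_lit 424062) (Net.cons (nat_lit 64) (nat_lit 0x9785f4f368cd300900000000000000000827e7c99dfee15c) (Net.cons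 (nat_lit 32) (nat_lit 0x30590eff00000000229510ae0000000039de6947000000000c8d3c64) (Net.cons (nat_lit 16) (nat_lit 0x40000c65b000089f700005f700000c5b60000e0b90000913b0000b33d00001396) (Net.cons (nat_lit 8) (nat_lit 0xa50053007600ed002b00e200ad002100810069004f00c9006a005e0058008500e1) (Net.cons (nat_lit 4) (nat_lit 0x70c030f04000408080c03010a09050600050c08080204050f070e09090406070003) (Net.cons (nat_lit 2) (nat_lit 0x332133010203122321323303313021322313321233012332222033031103101311132) (Net.cons (nat_lit 1) (nat_lit 0x400145515115441515500110105400010154505450454545144555055010155100111) Net.nil)))))))))))))))))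

theorem g394_ok : Net.ok 276 g394 = true := by decide +kernel

noncomputable def ht_c38_K : List Net := [g394, n_t]

theorem ht_c38_K_ok : okE 276 ht_c38_K = true := (okE_cons.2 ⟨g394_ok, (okE_cons.2 ⟨n_t_ok, (okE_nil 276)⟩)⟩)

noncomputable def ht_c38_cnt_EG : List Net := [g36, g37, g38, g39, g40, g41, g42, g35, n_t, g144]

theorem ht_c38_cnt_EG_ok : okE 276 ht_c38_cnt_EG = true := (okE_cons.2 ⟨g36_ok, (okE_cons.2 ⟨g37_ok, (okE_cons.2 ⟨g38_ok, (okE_cons.2 ⟨g39_ok, (okE_cons.2 ⟨g40_ok, (okE_cons.2 ⟨g41_ok, (okE_cons.2 ⟨g42_ok, (okE_cons.2 ⟨g35_ok, (okE_cons.2 ⟨n_t_ok, (okE_cons.2 ⟨g144_ok, (okE_nil 276)⟩)⟩)⟩)⟩)⟩)⟩)⟩)⟩)⟩)⟩)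

noncomputable def g396 : Net := (Net.cons (nat_lit 1) (nat_lit 0x151540415401515100505511051451111044040401040005100154404500111511500) (Net.cons (nat_lit 2) (nat_lit 0x210111202220100131103003231202212030122112020231121130013210232100000) (Net.cons (nat_lit 4) (nat_lit 0xb070e0a0e0d0601060809040d04050002060b0a070100090604040c060308070003) (Net.cons (nat_lit 8) (nat_lit 0x6a001b00c3004e009d000100ac009300a6008f00c500d400400019005900020005) (Net.cons (nat_lit 16) (nat_lit 0x6d9c00003f830000e8b50000923400001304000070c40000663a00003300) (Net.cons (nat_lit 32) (nat_lit 0x2ff82f50000000003000030c00000000721363ec00000000000426d8) (Net.cons (nat_lit 64) (nat_lit 0xc31af40406900910000000000000000000000000009358c) (Net.cons (nat_lit 128) (nat_lit 0x5b9e6ae9080dfa9a952195ac79f8a943) (Net.cons (nat_lit 256) (nat_lit 0xfffdf) (Net.cons (nat_lit 128) (nat_lit 715872) (Net.cons (nat_lit 64) (nat_lit 0xb6ec7a94c682a1b4000000000000000061b20f469adbac32) (Net.cons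 (nat_lit 32) (nat_lit 0x97e8597a00000000b06a3376000000002d02180c00000000cd0f8092) (Net.cons (nat_lit 16) (nat_lit 0x500006bf9000079fd0000065f0000db910000057200007707000003200000b172) (Net.cons (nat_lit 8) (nat_lit 0xb1009100ba00da004000d000f700b80088006200fb0004004100da008b00c30071) (Net.cons (nat_lit 4) (nat_lit 0xa040e060e060b070d07050806010f0a040a0404050e0006090e030a0f0c0e010b0e) (Net.cons (nat_lit 2) (nat_lit 0x320232002123230120331232223301332103212131212022331210232200103323300) (Net.cons (nat_lit 1) (nat_lit 0x505010045040510455100500404415404454400400450514414544040144545144041) Net.nil)))))))))))))))))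

theorem g396_ok : Net.ok 276 g396 = true := by decide +kernel

noncomputable def ht_c39_K : List Net := [g396, n_t]

theorem ht_c39_K_ok : okE 276 ht_c39_K = true := (okE_cons.2 ⟨g396_ok, (okE_cons.2 ⟨n_t_ok, (okE_nil 276)⟩)⟩)

noncomputable def ht_c39_cnt_EG : List Net := [g36, g37, g38, g39, g40, g41, g42, g35, n_t, g144]

theorem ht_c39_cnt_EG_ok : okE 276 ht_c39_cnt_EG = true := (okE_cons.2 ⟨g36_ok, (okE_cons.2 ⟨g37_ok, (okE_cons.2 ⟨g38_ok, (okE_cons.2 ⟨g39_ok, (okE_cons.2 ⟨g40_ok, (okE_cons.2 ⟨g41_ok, (okE_cons.2 ⟨g42_ok, (okE_cons.2 ⟨g35_ok, (okE_cons.2 ⟨n_t_ok, (okE_cons.2 ⟨g144_ok, (okE_nil 276)⟩)⟩)⟩)⟩)⟩)⟩)⟩)⟩)⟩)⟩)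

noncomputable def g398 : Net := (Net.cons (nat_lit 1) (nat_lit 0x451455010104055455054154154454010054510540041404440045545140150014114) (Net.cons (nat_lit 2) (nat_lit 0x100301001122332322003302333102213133231313313212200221030112223102020) (Net.cons (nat_lit 4) (nat_lit 0x20309040a090a0d08030b09060a0d0604060807050a0b0301000309060c0c0f0209) (Net.cons (nat_lit 8) (nat_lit 0x340052004900bb003100280002003d0087002f0044002a004d008e00e100110000) (Net.cons (nat_lit 16) (nat_lit 0x600003795000091ad0000dc6800009d050000e2fb000004cf000014d0000004c0) (Net.cons (nat_lit 32) (nat_lit 0xb7dc4e6400000000444d502c000000000829c12800000000000424d8) (Net.cons (nat_lit 64) (nat_lit 0x258e5600a4102087000000000000000000000000000c845b) (Net.cons (nat_lit 128) (nat_lit 0x99d0f3fb35b44d04761f8d78d8c526f9) (Net.cons (nat_lit 256) (nat_lit 0xff6fb) (Net.cons (nat_lit 128) (nat_lit 362274) (Net.cons (nat_lit 64) (nat_lit 0x8aabeb67c0ca8ac400000000000000002afd9e8157ded6fe) (Net.cons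 (nat_lit 32) (nat_lit 0x66c1b5550000000050a1fe8900000000e4541c1800000000b016d974) (Net.cons (nat_lit 16) (nat_lit 0xb0000c272000070840000d1f5000087700000f9cb0000102300008b22000072bb) (Net.cons (nat_lit 8) (nat_lit 0xde00b200bb008e0097006300670044008c003d00ce003b002f00e300d6001b00f5) (Net.cons (nat_lit 4) (nat_lit 0x6010f0b0c040305000a03070606070901010c000a0b0b07050208040a0901030400) (Net.cons (nat_lit 2) (nat_lit 0x330231210011000130113213320002212122233013023322200123320120200103101) (Net.cons (nat_lit 1) (nat_lit 0x111401004144014014140144105411541144115114455400151555000110115414404) Net.nil)))))))))))))))))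

theorem g398_ok : Net.ok 276 g398 = true := by decide +kernel

noncomputable def g399 : Net := (Net.cons (nat_lit 1) (nat_lit 0x514055140444450551045405141550441555041501415501010454445501005411400) (Net.cons (nat_lit 2) (nat_lit 0x112122003110203302301023330300302320320333223011300112320111302211330) (Net.cons (nat_lit 4) (nat_lit 0x70d010404090b000d02080b0c0107050e080c0c06090f010b0d0009000c0d0d0101) (Net.cons (nat_lit 8) (nat_lit 0xcc001600b00092009c00b7003a0090005a008d004a0001000300e80006001f0009) (Net.cons (nat_lit 16) (nat_lit 0x1000067260000019000002ad2000006f20000418e0000f0170000069a000010a0) (Net.cons (nat_lit 32) (nat_lit 0x11049b4900000000d798bf7b00000000299566220000000000006a41) (Net.cons (nat_lit 64) (nat_lit 0x20651d27da48161600000000000000000000000000083e40) (Net.cons (nat_lit 128) (nat_lit 0xab9280894afe6566d9f55f36b4043853) (Net.cons (nat_lit 256) (nat_lit 819187) (Net.cons (nat_lit 128) (nat_lit 320115) (Net.cons (nat_lit 64)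 (nat_lit 0x613fb96a4ae7c114000000000000000006dc30689cf7e64f) (Net.cons (nat_lit 32) (nat_lit 0xc8594ef00000000a28bd01f000000008d06db0900000000a2fe335f) (Net.cons (nat_lit 16) (nat_lit 0x10000f0540000c015000014f7000001560000bc4e0000d0af0000ca9600008245) (Net.cons (nat_lit 8) (nat_lit 0xbe001800c5003b00a2007e00e400fc001e00fe00a400d900ff00cb00e3008700ee) (Net.cons (nat_lit 4) (nat_lit 0x7000f0304050f000300020f030a09070b060703070d0a0f0c03080c040e0c040805) (Net.cons (nat_lit 2) (nat_lit 0x133103131101133112121213311012322222023212221001032320130000303323023) (Net.cons (nat_lit 1) (nat_lit 0x154541441545455155011410555045150551505110455551404510454110501144401) Net.nil)))))))))))))))))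

theorem g399_ok : Net.ok 276 g399 = true := by decide +kernel

noncomputable def ht_c40_K : List Net := [g398, g399]

theorem ht_c40_K_ok : okE 276 ht_c40_K = true := (okE_cons.2 ⟨g398_ok, (okE_cons.2 ⟨g399_ok, (okE_nil 276)⟩)⟩)

noncomputable def ht_c40_cnt_EG : List Net := [g37, g38, g39, g40, g41, g42, g36, g35, g243, g244, n_t, g112]

theorem ht_c40_cnt_EG_ok : okE 276 ht_c40_cnt_EG = true := (okE_cons.2 ⟨g37_ok, (okE_cons.2 ⟨g38_ok, (okE_cons.2 ⟨g39_ok, (okE_cons.2 ⟨g40_ok, (okE_cons.2 ⟨g41_ok, (okE_cons.2 ⟨g42_ok, (okE_cons.2 ⟨g36_ok, (okE_cons.2 ⟨g35_ok, (okE_cons.2 ⟨g243_ok, (okE_cons.2 ⟨g244_ok, (okE_cons.2 ⟨n_t_ok, (okE_cons.2 ⟨g112_ok, (okE_nil 276)⟩)⟩)⟩)⟩)⟩)⟩)⟩)⟩)⟩)⟩)⟩)⟩)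

noncomputable def g401 : Net := (Net.cons (nat_lit 1) (nat_lit 0x515010055054444510454005004541501540145014555011044500400455045001140) (Net.cons (nat_lit 2) (nat_lit 0x1131322120021212221200032030311132020121010333112013012221020022000) (Net.cons (nat_lit 4) (nat_lit 0xd090c0c0503040e0c04000b0c040a0406050e0f0c0c0d0408020804060d01000908) (Net.cons (nat_lit 8) (nat_lit 0xe300bf0000007d006b007600960085001000a500c600ec004a00a200a5009c0001) (Net.cons (nat_lit 16) (nat_lit 0x700001fa1000060f20000c79300005f840000736e0000ce8000000e0e00000020) (Net.cons (nat_lit 32) (nat_lit 0x638c188f0000000013008e2a0000000090863908000000000006348f) (Net.cons (nat_lit 64) (nat_lit 0x26a80218a8d0a7e600000000000000000000000000001b02) (Net.cons (nat_lit 128) (nat_lit 0xea1089989cef9081dcaeb7e12139ac0e) (Net.cons (nat_lit 256) (nat_lit 0xfffbf) (Net.cons (nat_lit 128) (nat_lit 960352) (Net.cons (nat_lit 64) (nat_lit 0x7981634e940fa18e00000000000000000f516fe05b450084) (Net.cons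 (nat_lit 32) (nat_lit 0x531159400000000d8921daf0000000010275ec0000000001b69baaf) (Net.cons (nat_lit 16) (nat_lit 0xf0000cc590000cf5600003d9d00005875000021ec0000a58f00006e7000005588) (Net.cons (nat_lit 8) (nat_lit 0x1b00e0005100e000a1007f007400f30048001900db006400f600b0002b00550004) (Net.cons (nat_lit 4) (nat_lit 0x7050902090c01080e08070702070e050808030e0b0601020d0807000a030f0e0c06) (Net.cons (nat_lit 2) (nat_lit 0x300132112100111321203132300200122101220321220312212200201021223033202) (Net.cons (nat_lit 1) (nat_lit 0x40501000055544111445541155014114411440140450045445540000454040545100) Net.nil)))))))))))))))))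

theorem g401_ok : Net.ok 276 g401 = true := by decide +kernel

noncomputable def g402 : Net := (Net.cons (nat_lit 1) (nat_lit 0x441401404445544415144055414154000040454544040440141111041500015105440) (Net.cons (nat_lit 2) (nat_lit 0x101322330232203000110031202103213332303123102010003113301220101033230) (Net.cons (nat_lit 4) (nat_lit 0x3040f04080e0308070d000d0404040d0e0f04020802020a06020508060101000100) (Net.cons (nat_lit 8) (nat_lit 0x550046009b003100c0006000ff00270040001000ea00d40020002c00e1008e000b) (Net.cons (nat_lit 16) (nat_lit 0x10000d0430000c50400007f680000e61b000087430000b78d00004a4400000890) (Net.cons (nat_lit 32) (nat_lit 0x433d5d8500000000006362020000000004c408a20000000000020cc9) (Net.cons (nat_lit 64) (nat_lit 0x9aba066024020c580000000000000000000000000002468e) (Net.cons (nat_lit 128) (nat_lit 0x1cb60dcbe1311ee3a2488320df8b1e4a) (Net.cons (nat_lit 256) (nat_lit 777951) (Net.cons (nat_lit 128) (nat_lit 124823) (Net.cons (nat_lit 64)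 (nat_lit 0x41966d1950639d600000000000000008841ef02532c88e3) (Net.cons (nat_lit 32) (nat_lit 0x8e3009d900000000d39d052600000000b5de5081000000006a60a80c) (Net.cons (nat_lit 16) (nat_lit 0xa0000ced8000067bf00009d4b000009cf00000df90000a03f0000469900008eef) (Net.cons (nat_lit 8) (nat_lit 0x9c004a002e005800bb0047007b00c2001e003d00e800a80044007a008200bd0062) (Net.cons (nat_lit 4) (nat_lit 0xd0201020d0c080a050805010906080d0f000c080c08010605000100060b070504) (Net.cons (nat_lit 2) (nat_lit 0x112300203312231333100020221001031131032010312312331333111013113213000) (Net.cons (nat_lit 1) (nat_lit 0x405555141150504004555401041451555110111140451445411444010110101115514) Net.nil)))))))))))))))))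

theorem g402_ok : Net.ok 276 g402 = true := by decide +kernel

noncomputable def ht_c41_K : List Net := [g401, g402, n_t]

theorem ht_c41_K_ok : okE 276 ht_c41_K = true := (okE_cons.2 ⟨g401_ok, (okE_cons.2 ⟨g402_ok, (okE_cons.2 ⟨n_t_ok, (okE_nil 276)⟩)⟩)⟩)

noncomputable def g404 : Net := (Net.cons (nat_lit 1) (nat_lit 0x114101111550114540511145444144511504555540105541011400004041115115500) (Net.cons (nat_lit 2) (nat_lit 0x111013222013133311311333322101322013031232212223122022010201120200000) (Net.cons (nat_lit 4) (nat_lit 0x30b05070a0c000501000402000709020107050a0b0c01020f000e0b0400060d0201) (Net.cons (nat_lit 8) (nat_lit 0x620008007c00070088007f000300ee0049006100af005e008d003f00f20025000c) (Net.cons (nat_lit 16) (nat_lit 0x60000e0970000ed300000844600008ce4000025400000f85b000092ec00000900) (Net.cons (nat_lit 32) (nat_lit 0x355f805d0000000014f7a52e000000008a11a18c000000000007320d) (Net.cons (nat_lit 64) (nat_lit 0xcc1700420036414900000000000000000000000000032380)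 (Net.cons (nat_lit 128) (nat_lit 0x7952f900000e5aadb40d01c66df3f88d) (Net.cons (nat_lit 256) (nat_lit 523213) (Net.cons (nat_lit 128) (nat_lit 148948) (Net.cons (nat_lit 64) (nat_lit 0x821fb03d15d4a98c0000000000000000b73392006c095765) (Net.cons (nat_lit 32) (nat_lit 0xf7c12366000000006bd601d800000000b420a18c000000000a6e1251) (Net.cons (nat_lit 16) (nat_lit 0xe0000a2dc0000ac2d000012eb0000ddd8000049f100008e280000c4ed00002924) (Net.cons (nat_lit 8) (nat_lit 0x220093007b000c0032005300940008006100cd00ac0019009e00a500a2001a00cc) (Net.cons (nat_lit 4) (nat_lit 0x30302070b0d090c0e0f080f000d06010d02040e040c05020f000c0a0603030d060d) (Net.cons (nat_lit 2) (nat_lit 0x121011301212230331302101101130131012131030010312232213302212322023103) (Net.cons (nat_lit 1) (nat_lit 0x100501101541010140041004045140010404045014114144001441400441114455445) Net.nil)))))))))))))))))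

theorem g404_ok : Net.ok 276 g404 = true := by decide +kernel

noncomputable def g405 : Net := (Net.cons (nat_lit 1) (nat_lit 0x104044444504141004505511010015445541400114550540114040541050540440150) (Net.cons (nat_lit 2) (nat_lit 0x101313013031223321033313311233310122232203011011233300303331103030000) (Net.cons (nat_lit 4) (nat_lit 0x2030703060b0a06090e0008090e0e0306020f0403020d0201070a0105030b080704) (Net.cons (nat_lit 8) (nat_lit 0x4300f600a000c700e5000200f300bb001400850061000f00320000004600190000) (Net.cons (nat_lit 16) (nat_lit 0xd0000c7b600006cc500002acb000032250000d59a000069d100009bea00000b80) (Net.cons (nat_lit 32) (nat_lit 0x9224aa36000000006215e84200000000d5b498ca00000000000081c4) (Net.cons (nat_lit 64) (nat_lit 0x419219924c00d02500000000000000000000000000001132) (Net.cons (nat_lit 128) (nat_lit 0x4cc3328493b6934ba9390932cdc1d24d) (Net.cons (nat_lit 256) (nat_lit 121855) (Net.cons (nat_lit 128) (nat_lit 0xfd7b1) (Net.cons (nat_lit 64)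 (nat_lit 0x60a42a7c8f04088c0000000000000000e684110a718bcaa3) (Net.cons (nat_lit 32) (nat_lit 0x908765260000000075c5986a0000000060a1520f0000000092acf342) (Net.cons (nat_lit 16) (nat_lit 0xc000096fc000028450000e3e2000015dc000020ca00000adb0000087a000061c4) (Net.cons (nat_lit 8) (nat_lit 0xba003f00b800c500e900ae006d00df00a7007d009f004700220056007600ef0088) (Net.cons (nat_lit 4) (nat_lit 0x20a050e0c0b0b020e06040b03070a090704020d0403030c080c0c010d0301020709) (Net.cons (nat_lit 2) (nat_lit 0x3233022103210323002101100331203220122203202020333110331223122100101) (Net.cons (nat_lit 1) (nat_lit 0x504545414114004445455011505105411404115451150141004000544051511544154) Net.nil)))))))))))))))))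

theorem g405_ok : Net.ok 276 g405 = true := by decide +kernel

noncomputable def V406 : List Net := [g404, g405]

theorem V406_ok : okE 276 V406 = true := (okE_cons.2 ⟨g404_ok, (okE_cons.2 ⟨g405_ok, (okE_nil 276)⟩)⟩)

noncomputable def V408 : List Net := [g405]

theorem V408_ok : okE 276 V408 = true := (okE_cons.2 ⟨g405_ok, (okE_nil 276)⟩)

noncomputable def V409 : List Net := []

theorem V409_ok : okE 276 V409 = true := (okE_nil 276)

noncomputable def ht_c41_cnt_EG : List Net := [g36, g37, g38, g39, g40, g41, g42, g35, g156, g157, g130, n_t, g155, g404, g405]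

theorem ht_c41_cnt_EG_ok : okE 276 ht_c41_cnt_EG = true := (okE_cons.2 ⟨g36_ok, (okE_cons.2 ⟨g37_ok, (okE_cons.2 ⟨g38_ok, (okE_cons.2 ⟨g39_ok, (okE_cons.2 ⟨g40_ok, (okE_cons.2 ⟨g41_ok, (okE_cons.2 ⟨g42_ok, (okE_cons.2 ⟨g35_ok, (okE_cons.2 ⟨g156_ok, (okE_cons.2 ⟨g157_ok, (okE_cons.2 ⟨g130_ok, (okE_cons.2 ⟨n_t_ok, (okE_cons.2 ⟨g155_ok, (okE_cons.2 ⟨g404_ok, (okE_cons.2 ⟨g405_ok, (okE_nil 276)⟩)⟩)⟩)⟩)⟩)⟩)⟩)⟩)⟩)⟩)⟩)⟩)⟩)⟩)⟩)

noncomputable def g410 : Net := (Net.cons (nat_lit 1) (nat_lit 0x415144155455010515141140104555511541504440505004141104441150055400140) (Net.cons (nat_lit 2) (nat_lit 0x102311220201103302303312020001321111302020322232301130100220300312220) (Net.cons (nat_lit 4) (nat_lit 0x2010e0d0e060701020a08050a0f04040e020d0d070e07020e0002090b050009080a) (Net.cons (nat_lit 8) (nat_lit 0xf2008e00430050000200be002d00d300dc0048000f00f5007e00c300b000980006) (Net.cons (nat_lit 16) (nat_lit 0x500007f19000048da00000e7700000d3e0000c6e800003b89000004d100003060)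 (Net.cons (nat_lit 32) (nat_lit 0x3436ac1500000000000b956600000000642ae6250000000000098064) (Net.cons (nat_lit 64) (nat_lit 0xa0a4205900e2000800000000000000000000000000020922) (Net.cons (nat_lit 128) (nat_lit 0xf287968405fa69e2403278df6a08e8cb) (Net.cons (nat_lit 256) (nat_lit 784895) (Net.cons (nat_lit 128) (nat_lit 68987) (Net.cons (nat_lit 64) (nat_lit 0xb9c8131dfde9c703000000000000000041b0cf742ea8d46f) (Net.cons (nat_lit 32) (nat_lit 0x72d99a0a00000000b79eb865000000003412f29c000000007c81b0a3) (Net.cons (nat_lit 16) (nat_lit 0xd00001bdd00000aab000002f400009f16000066cd000036f200009ffc000095db) (Net.cons (nat_lit 8) (nat_lit 0xac00ac001a008700a7001f00db00b7000a007a00e1005100c000910017006900fd) (Net.cons (nat_lit 4) (nat_lit 0x60504010b06010e00020a0d0500070c040f07020600010d0d0f00070c0809070803) (Net.cons (nat_lit 2) (nat_lit 0x333203202123100212103013132302031120102030313130300310131021222120333) (Net.cons (nat_lit 1) (nat_lit 0x451444114404551401450440510501040504101044015454050540414140145405044)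 Net.nil)))))))))))))))))

theorem g410_ok : Net.ok 276 g410 = true := by decide +kernel

noncomputable def g411 : Net := (Net.cons (nat_lit 1) (nat_lit 0x104001044041450101101444510155401551114010104011110114055141041450114) (Net.cons (nat_lit 2) (nat_lit 0x112230123333332030300022311012330122303032231032312203112223102001020) (Net.cons (nat_lit 4) (nat_lit 0xb0c0c09000f0c070d0b010f09040d0100010805060a090f08020a070d0e040502) (Net.cons (nat_lit 8) (nat_lit 0x8f006c00b3006d00ad002e008a0022006d000f008e0056000300e60062008a0000) (Net.cons (nat_lit 16) (nat_lit 0xe0000c2140000d21400003e180000abf20000bc0a00000ca100001ea200000900) (Net.cons (nat_lit 32) (nat_lit 0x18c8257800000000ef81371900000000059b09020000000000021b15) (Net.cons (nat_lit 64) (nat_lit 0xcd0448a0016b21e20000000000000000000000000002f020) (Net.cons (nat_lit 128) (nat_lit 0x4c00b98a21b6c636b335756626412d99) (Net.cons (nat_lit 256) (nat_lit 262079) (Net.cons (nat_lit 128) (nat_lit 541660)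 (Net.cons (nat_lit 64) (nat_lit 0x2cc6842e592920590000000000000000e6d7c97b442e2bc8) (Net.cons (nat_lit 32) (nat_lit 0xc75b4d46000000000242774d00000000cb60eaeb000000002ac89db7) (Net.cons (nat_lit 16) (nat_lit 0xf0000414b0000c9330000335b0000509200003a93000022d10000663800000aae) (Net.cons (nat_lit 8) (nat_lit 0x2e00c200a40064001900e3008f000e008d009500830041007a008e00f300e2005b) (Net.cons (nat_lit 4) (nat_lit 0x3070a040e0e030e0a0c050f0b0b0702040c0c0a0e03080e040e0d060d0c0c080b04) (Net.cons (nat_lit 2) (nat_lit 0x322332220223323220000323013101311330103302313302220213231030300102020) (Net.cons (nat_lit 1) (nat_lit 0x110441001054141505510540005045541041450504405140554141445154505444145) Net.nil)))))))))))))))))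

theorem g411_ok : Net.ok 276 g411 = true := by decide +kernel

noncomputable def ht_c42_K : List Net := [g410, g411, n_t]

theorem ht_c42_K_ok : okE 276 ht_c42_K = true := (okE_cons.2 ⟨g410_ok, (okE_cons.2 ⟨g411_ok, (okE_cons.2 ⟨n_t_ok, (okE_nil 276)⟩)⟩)⟩)

noncomputable def ht_c42_cnt_EG : List Net := [g36, g37, g38, g39, g40, g41, g42, g35, g155, g156, g157, g130, n_t]

theorem ht_c42_cnt_EG_ok : okE 276 ht_c42_cnt_EG = true := (okE_cons.2 ⟨g36_ok, (okE_cons.2 ⟨g37_ok, (okE_cons.2 ⟨g38_ok, (okE_cons.2 ⟨g39_ok, (okE_cons.2 ⟨g40_ok, (okE_cons.2 ⟨g41_ok, (okE_cons.2 ⟨g42_ok, (okE_cons.2 ⟨g35_ok, (okE_cons.2 ⟨g155_ok, (okE_cons.2 ⟨g156_ok, (okE_cons.2 ⟨g157_ok, (okE_cons.2 ⟨g130_ok, (okE_cons.2 ⟨n_t_ok, (okE_nil 276)⟩)⟩)⟩)⟩)⟩)⟩)⟩)⟩)⟩)⟩)⟩)⟩)⟩)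

noncomputable def ht_nc18_17_cnt_EG : List Net := []

theorem ht_nc18_17_cnt_EG_ok : okE 276 ht_nc18_17_cnt_EG = true := (okE_nil 276)

noncomputable def ht_nc26_25_cnt_EG : List Net := []

theorem ht_nc26_25_cnt_EG_ok : okE 276 ht_nc26_25_cnt_EG = true := (okE_nil 276)

noncomputable def ht_nc39_38_cnt_EG : List Net := [g36, g37, g38, g39, g40, g41, g42, g35, n_t, g144]

theorem ht_nc39_38_cnt_EG_ok : okE 276 ht_nc39_38_cnt_EG = true := (okE_cons.2 ⟨g36_ok, (okE_cons.2 ⟨g37_ok, (okE_cons.2 ⟨g38_ok, (okE_cons.2 ⟨g39_ok, (okE_cons.2 ⟨g40_ok, (okE_cons.2 ⟨g41_ok, (okE_cons.2 ⟨g42_ok, (okE_cons.2 ⟨g35_ok, (okE_cons.2 ⟨n_t_ok, (okE_cons.2 ⟨g144_ok, (okE_nil 276)⟩)⟩)⟩)⟩)⟩)⟩)⟩)⟩)⟩)⟩)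

noncomputable def n_tu : Net := (Net.cons (nat_lit 1) (nat_lit 0x44010455515451451404150114154015410450540545050140051104450415001000) (Net.cons (nat_lit 2) (nat_lit 0x31212232101003321110033011233030211123201332131110202302100220203200) (Net.cons (nat_lit 4) (nat_lit 0xa040e04060e08010b090d0701040f0f000d000a0d0d070e0f090802030300000500) (Net.cons (nat_lit 8) (nat_lit 0x8300e9003f000c002500fa00a0009b0069008c0081002100100083009100c10000) (Net.cons (nat_lit 16) (nat_lit 0x5ff00001fd80000ea340000511a00007d01000023570000684900009000) (Net.cons (nat_lit 32) (nat_lit 0x2843c5900000000078c009270000000083b1b0c90000000000004a02) (Net.cons (nat_lit 64) (nat_lit 0x40022a0098dc0c7100000000000000000000000000080010) (Net.cons (nat_lit 128) (nat_lit 0xc980a166aa19921c91c2cb3310c0287b) (Net.cons (nat_lit 256) (nat_lit 588539) (Net.cons (nat_lit 128) (nat_lit 273535) (Net.cons (nat_lit 64) (nat_lit 0xf163230901bfcdf10000000000000000013e99814a090910) (Net.cons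 (nat_lit 32) (nat_lit 0xff3364920000000061a0126700000000a6b2fae9000000003643424b) (Net.cons (nat_lit 16) (nat_lit 0x8cfe00009eda000063b40000dd1e0000fc830000a9540000e94800009801) (Net.cons (nat_lit 8) (nat_lit 0x8700ca003f000e002700fa00a4009e006c00ae00b2002300330081009500c30020) (Net.cons (nat_lit 4) (nat_lit 0xa040e04060e08010b090d0701040f0f000d000e0d0d070e0f0d0802030300000500) (Net.cons (nat_lit 2) (nat_lit 0x31212232101003321110033011233030211123201332131110202302100220203200) (Net.cons (nat_lit 1) (nat_lit 0x44010455515451451404150114154015410450540545050140051104450415001000) Net.nil)))))))))))))))))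

theorem n_tu_ok : Net.ok 276 n_tu = true := by decide +kernel

noncomputable def g413 : Net := (Net.cons (nat_lit 1) (nat_lit 0x441004450511015111505450151104110404515544414515454414004540501154400) (Net.cons (nat_lit 2) (nat_lit 0x223311203231210121130131022220301220211111112123103101313123220022320) (Net.cons (nat_lit 4) (nat_lit 0x6000e0a0d0302090400090c0e01060303060e02040308030905080f04080b0600) (Net.cons (nat_lit 8) (nat_lit 0x4500d10063001c007d005600b80009007a004c003e002a00ad0006002600020006) (Net.cons (nat_lit 16) (nat_lit 0x4000082020000059000000aa400007f8200000894000057450000322800004a00) (Net.cons (nat_lit 32) (nat_lit 0x48888876000000004006cec500000000d83d2dc00000000000021a11) (Net.cons (nat_lit 64) (nat_lit 0xaa30394e5050079000000000000000000000000000445c8) (Net.cons (nat_lit 128) (nat_lit 0xbf19534a2a1fcb4dd5ba44fcdf135f90) (Net.cons (nat_lit 256) (nat_lit 491517) (Net.cons (nat_lit 128) (nat_lit 770356) (Net.cons (nat_lit 64) (nat_lit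 0x7ebfed9a8382a8ea0000000000000000c86e2aeb2f05d742) (Net.cons (nat_lit 32) (nat_lit 0x7c1833b1000000007bbda7660000000047ac5f3300000000241010f4) (Net.cons (nat_lit 16) (nat_lit 0x40000e6ec0000b52400007b09000026be00009a81000054970000436700002061) (Net.cons (nat_lit 8) (nat_lit 0x6001c00c600a80063004600ea0051009a00ef00e1003300aa006f00c8000800aa) (Net.cons (nat_lit 4) (nat_lit 0x104040c0e0906040107010308020f050c0a0d0f0909040001020d0c00080f01080c) (Net.cons (nat_lit 2) (nat_lit 0x23003301033300131003230132211212310133111131231023013301111132222221) (Net.cons (nat_lit 1) (nat_lit 0x405004455010010010410014540154451410401441110501101010141540110540550) Net.nil)))))))))))))))))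

theorem g413_ok : Net.ok 276 g413 = true := by decide +kernel

noncomputable def g414 : Net := (Net.cons (nat_lit 1) (nat_lit 0x551444004441401154051501110455104555101110001445510000005155401414100) (Net.cons (nat_lit 2) (nat_lit 0x310122332002330220000230232132023010121000312221312323123020331213000) (Net.cons (nat_lit 4) (nat_lit 0xd060e000e010b0a01030e0d010908010c0e0f0c04050809010f0a0c0c0e0a0d0d01) (Net.cons (nat_lit 8) (nat_lit 0xd200d1000f004c009f00230048003700a00063009000c9003600730055000b0005) (Net.cons (nat_lit 16) (nat_lit 0xd00005f17000073de00001988000059ea0000aa4d0000e6820000d56400005010) (Net.cons (nat_lit 32) (nat_lit 0x4cfdbb410000000084372d0300000000c374b46700000000000a8c09) (Net.cons (nat_lit 64) (nat_lit 0x8390e399246d8609000000000000000000000000000290ec) (Net.cons (nat_lit 128) (nat_lit 0x193c487296548423b6c1a7ef332aaf23) (Net.cons (nat_lit 256) (nat_lit 983039) (Net.cons (nat_lit 128) (nat_lit 116152) (Net.cons (nat_lit 64)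 (nat_lit 0xaa6ed2ccd1f1abc300000000000000009d726226d5671309) (Net.cons (nat_lit 32) (nat_lit 0xf21d40e0000000004f278b6f000000004170d5a50000000025762de8) (Net.cons (nat_lit 16) (nat_lit 0x900006c23000011be0000c6f80000ca90000084e60000fec4000078660000ff47) (Net.cons (nat_lit 8) (nat_lit 0x5a00d300d2004800f6002f00fd0051006a00b300a000ff007800b10055009a00a5) (Net.cons (nat_lit 4) (nat_lit 0xa0206070906080f0f0b0d0f0101010703010b030c05050c050c0f0604070a0d080a) (Net.cons (nat_lit 2) (nat_lit 0x111002031022021022111113231330030331102331033230202230102020313230122) (Net.cons (nat_lit 1) (nat_lit 0x510040411441450111404500154110404055455004014001510444405154415445044) Net.nil)))))))))))))))))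

theorem g414_ok : Net.ok 276 g414 = true := by decide +kernel

noncomputable def g415 : Net := (Net.cons (nat_lit 1) (nat_lit 0x454001514115504501501545544004414414455545444505440000454140441014400) (Net.cons (nat_lit 2) (nat_lit 0x232330323021333220021320012021013223011113033123210201211203220300100) (Net.cons (nat_lit 4) (nat_lit 0x70d0804020f030f080d0506090e080d0e010f020a0e040a060a0b0f0504090a0a05) (Net.cons (nat_lit 8) (nat_lit 0x500ff008c003e0040001a004d00fc002200d00029004400400036003300000004) (Net.cons (nat_lit 16) (nat_lit 0x80000c3060000300a0000343e000060090000636800009ef800008a420000c810) (Net.cons (nat_lit 32) (nat_lit 0xfe7864e300000000c80116150000000095045b18000000000009d943) (Net.cons (nat_lit 64) (nat_lit 0x40044b97540b0406000000000000000000000000000e0b82) (Net.cons (nat_lit 128) (nat_lit 0x567bd571b4c8b5249ef73ec649e16139) (Net.cons (nat_lit 256) (nat_lit 0xfffff) (Net.cons (nat_lit 128) (nat_lit 207283) (Net.cons (nat_lit 64)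 (nat_lit 0x3b6d29132469bcb30000000000000000773910b5aec6825e) (Net.cons (nat_lit 32) (nat_lit 0xfcbafd5300000000ac0f400100000000cd02d6e700000000ad6d08b9) (Net.cons (nat_lit 16) (nat_lit 0x40000b52c000067b60000717c0000151a0000255600001dea0000ce320000c1a8) (Net.cons (nat_lit 8) (nat_lit 0x41006300ac0088001e004e00300086006c00cc0063007c00e10021005a005c00de) (Net.cons (nat_lit 4) (nat_lit 0x402020d0b000007050d000e070606040e0f040205020508020902050f000909070c) (Net.cons (nat_lit 2) (nat_lit 0x220321201221023021120320132212200102313013021211202121021120230213023) (Net.cons (nat_lit 1) (nat_lit 0x410004400104151140541141504040414111145014415514050444141145111155100) Net.nil)))))))))))))))))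

theorem g415_ok : Net.ok 276 g415 = true := by decide +kernel

noncomputable def g416 : Net := (Net.cons (nat_lit 1) (nat_lit 0x555054055015004544544504441410114105104150145114041500140145555514500) (Net.cons (nat_lit 2) (nat_lit 0x123211200321111213010123120220212111330010210323221201230302332003000) (Net.cons (nat_lit 4) (nat_lit 0xe0b05030a03090107010801080f0004070f0c00010f01050d0b0300040208000001) (Net.cons (nat_lit 8) (nat_lit 0xb00b0007b005c005900ed00ca0028008c0033002d005100ab005c003300cc0002) (Net.cons (nat_lit 16) (nat_lit 0x200008132000041ab000080040000228800001b8d0000aaea0000c1960000c190) (Net.cons (nat_lit 32) (nat_lit 0x1bad36480000000053cd18250000000000302d1e0000000000036025) (Net.cons (nat_lit 64) (nat_lit 0x1103d0d026236a9d00000000000000000000000000000892) (Net.cons (nat_lit 128) (nat_lit 0x9abe3b7d873598e161ade08521562cad) (Net.cons (nat_lit 256) (nat_lit 0xfedff) (Net.cons (nat_lit 128) (nat_lit 315039) (Net.cons (nat_lit 64)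 (nat_lit 0x503375d4b14bd82e0000000000000000bee18256802617ac) (Net.cons (nat_lit 32) (nat_lit 0x3e3053000000000d9a860b7000000008b1561dd0000000058ae7a36) (Net.cons (nat_lit 16) (nat_lit 0x90000312f00007a77000079730000979800009c3e0000e1860000ddb6000051fd) (Net.cons (nat_lit 8) (nat_lit 0x49000d002600c000fc00fe0046004100af001700c400fb00a700dd00a600790051) (Net.cons (nat_lit 4) (nat_lit 0x70e060703070d0601080b0a020d0f0f0e0e0e0005070a050e020c0f0f0703030804) (Net.cons (nat_lit 2) (nat_lit 0x212131311332021132131331321012122203120123113331231301030000332103233) (Net.cons (nat_lit 1) (nat_lit 0x55545555540101445444444001005140015051445550105011441445000144141501) Net.nil)))))))))))))))))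

theorem g416_ok : Net.ok 276 g416 = true := by decide +kernel

noncomputable def g417 : Net := (Net.cons (nat_lit 1) (nat_lit 0x41455105454410041041550510454105514011005101145114441100445444001510) (Net.cons (nat_lit 2) (nat_lit 0x321201211203200100031003132203133101232113012010233101033302313012200) (Net.cons (nat_lit 4) (nat_lit 0xd0e0f060901020806030a050306050d0b040c060a08050808050d0904020d0b0300) (Net.cons (nat_lit 8) (nat_lit 0xc900ad00cf0097004000c4001c00690036007c000d0017002e000100f300940000) (Net.cons (nat_lit 16) (nat_lit 0xa00004a1b000073d800006b620000a9c90000ec2400002a5c0000541500009440) (Net.cons (nat_lit 32) (nat_lit 0x17aba43c000000004ccc486d00000000002a817600000000000c0081) (Net.cons (nat_lit 64) (nat_lit 0x9dd62b0262813746000000000000000000000000000eb91a) (Net.cons (nat_lit 128) (nat_lit 0xe7d6b889c9124e591808030eaa950c45) (Net.cons (nat_lit 256) (nat_lit 0xfbddf) (Net.cons (nat_lit 128) (nat_lit 113074) (Net.cons (nat_lit 64)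 (nat_lit 0x91bb1da6cad461850000000000000000a18ceef4b47d739b) (Net.cons (nat_lit 32) (nat_lit 0xb713462b00000000b7c5f678000000001d3eb71100000000acdea168) (Net.cons (nat_lit 16) (nat_lit 0xe0000a11c0000d3a40000d587000010c0000019dd000082470000a42700009a25) (Net.cons (nat_lit 8) (nat_lit 0x9b00d700ef00a300da0060003b007d00da00fa0008004300de0003003b00740064) (Net.cons (nat_lit 4) (nat_lit 0xb04050e03070b070c02040d0c000507070b0f04070205090a0506060600030b0d08) (Net.cons (nat_lit 2) (nat_lit 0x133211131300202011012001030032101131120033220320331001021000311032310) (Net.cons (nat_lit 1) (nat_lit 0x501455500011055015441555105004154104005110115451114104141000445040050) Net.nil)))))))))))))))))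

theorem g417_ok : Net.ok 276 g417 = true := by decide +kernel

noncomputable def tt_c1_K : List Net := [g413, g414, g415, g416, g417, n_u]

theorem tt_c1_K_ok : okE 276 tt_c1_K = true := (okE_cons.2 ⟨g413_ok, (okE_cons.2 ⟨g414_ok, (okE_cons.2 ⟨g415_ok, (okE_cons.2 ⟨g416_ok, (okE_cons.2 ⟨g417_ok, (okE_cons.2 ⟨n_u_ok, (okE_nil 276)⟩)⟩)⟩)⟩)⟩)⟩)

noncomputable def g419 : Net := (Net.cons (nat_lit 1) (nat_lit 0x41415445115115451045050050450505400515541040150104555510441140100450) (Net.cons (nat_lit 2) (nat_lit 0x102120130333003321201312111312023333003333101301322322201112000101110) (Net.cons (nat_lit 4) (nat_lit 0xc07090202020d03020d0d0f0d05040909010404050504090c07080e010f0001090e) (Net.cons (nat_lit 8) (nat_lit 0x31004600e0005c0028002d00af007000be009600c000d7000900c5005e00290000) (Net.cons (nat_lit 16) (nat_lit 0x98e10000883f00009c1800001b4400006a590000e2f80000250200000510) (Net.cons (nat_lit 32) (nat_lit 0x9439373000000000d09d4ec8000000000eebc91800000000000894e8)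 (Net.cons (nat_lit 64) (nat_lit 0x7b914a825807ac31000000000000000000000000000ae394) (Net.cons (nat_lit 128) (nat_lit 0x2d451bed87904f3dd69e707b78522d60) (Net.cons (nat_lit 256) (nat_lit 983038) (Net.cons (nat_lit 128) (nat_lit 905506) (Net.cons (nat_lit 64) (nat_lit 0x34937c01cbe844cb00000000000000009182137e8d28382d) (Net.cons (nat_lit 32) (nat_lit 0x2b34a5700000000e9374651000000000ed3919b000000000e02f077) (Net.cons (nat_lit 16) (nat_lit 0x40000de8100009be90000229200009a870000cf880000d70a0000e9270000c031) (Net.cons (nat_lit 8) (nat_lit 0x410025007c00b0009600be006f004d00c3005f005100ce00f500e4006500710070) (Net.cons (nat_lit 4) (nat_lit 0x50002020b0b040c0705040c0f0d0a0109050203020a040a0a05090a0e0e0b070604) (Net.cons (nat_lit 2) (nat_lit 0x302203302111020131002310312121323001113302130002332330021020101212321) (Net.cons (nat_lit 1) (nat_lit 0x114151505144554550405011050441505154440404541140501154015014004510551) Net.nil)))))))))))))))))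

theorem g419_ok : Net.ok 276 g419 = true := by decide +kernel

noncomputable def g420 : Net := (Net.cons (nat_lit 1) (nat_lit 0x155044140514514040040551544105545505005550111015114515511411044140150) (Net.cons (nat_lit 2) (nat_lit 0x132033301203010101011332010103331113010112200330303332003201200001130) (Net.cons (nat_lit 4) (nat_lit 0x8020409070108020f090e07010a06000f0e010e0207060f07000e0e050704010004) (Net.cons (nat_lit 8) (nat_lit 0xa900e0008a00d800cb003e00a8006b006000e1005a00850001008b00f200aa0001) (Net.cons (nat_lit 16) (nat_lit 0x300000189000038b800001d6800000c3d0000c74f000082640000c200000014d0) (Net.cons (nat_lit 32) (nat_lit 0x6c72188d000000003cf9741f000000004e0ebd80000000000001022e) (Net.cons (nat_lit 64) (nat_lit 0x846801a75f3490e6000000000000000000000000000840a5) (Net.cons (nat_lit 128) (nat_lit 0x171b2bc0a19c8d06b8744a6fde6504fe) (Net.cons (nat_lit 256) (nat_lit 0xff6ff) (Net.cons (nat_lit 128) (nat_lit 407327) (Net.cons (nat_lit 64)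 (nat_lit 0x96392c7ddc8223640000000000000000f6f1287499999150) (Net.cons (nat_lit 32) (nat_lit 0x4ed7062300000000bf04514f000000006f9dd805000000003f00ccc0) (Net.cons (nat_lit 16) (nat_lit 0xa0000bf2d000029a300009c9f000025bf0000c00e0000ab860000aad700003da3) (Net.cons (nat_lit 8) (nat_lit 0x9f004a009800ea0062003f00f100c300a400f100fd00d6006a0009005300af0080) (Net.cons (nat_lit 4) (nat_lit 0x607080d0d000a0a09080606010d0b030e010f0e030c0c0e07020e0200030300090d) (Net.cons (nat_lit 2) (nat_lit 0x313322303310310301132013112132021101323010332202221233233010220201020) (Net.cons (nat_lit 1) (nat_lit 0x514541144444545400500515104104405515044140451550144151410101415405014) Net.nil)))))))))))))))))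

theorem g420_ok : Net.ok 276 g420 = true := by decide +kernel

noncomputable def V421 : List Net := [g414, g419, g420, g417, n_u]

theorem V421_ok : okE 276 V421 = true := (okE_cons.2 ⟨g414_ok, (okE_cons.2 ⟨g419_ok, (okE_cons.2 ⟨g420_ok, (okE_cons.2 ⟨g417_ok, (okE_cons.2 ⟨n_u_ok, (okE_nil 276)⟩)⟩)⟩)⟩)⟩)

noncomputable def V423 : List Net := [g419, g420, g417, n_u]

theorem V423_ok : okE 276 V423 = true := (okE_cons.2 ⟨g419_ok, (okE_cons.2 ⟨g420_ok, (okE_cons.2 ⟨g417_ok, (okE_cons.2 ⟨n_u_ok, (okE_nil 276)⟩)⟩)⟩)⟩)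

noncomputable def V424 : List Net := [g420, g417, n_u]

theorem V424_ok : okE 276 V424 = true := (okE_cons.2 ⟨g420_ok, (okE_cons.2 ⟨g417_ok, (okE_cons.2 ⟨n_u_ok, (okE_nil 276)⟩)⟩)⟩)

noncomputable def V425 : List Net := [g417, n_u]

theorem V425_ok : okE 276 V425 = true := (okE_cons.2 ⟨g417_ok, (okE_cons.2 ⟨n_u_ok, (okE_nil 276)⟩)⟩)

noncomputable def V426 : List Net := [n_u]

theorem V426_ok : okE 276 V426 = true := (okE_cons.2 ⟨n_u_ok, (okE_nil 276)⟩)

noncomputable def V427 : List Net := []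

theorem V427_ok : okE 276 V427 = true := (okE_nil 276)

noncomputable def tt_c1_cnt_EG : List Net := [g124, g125, g126, g127, n_k3, n_t, g414, g419, g420, g417, n_u]

theorem tt_c1_cnt_EG_ok : okE 276 tt_c1_cnt_EG = true := (okE_cons.2 ⟨g124_ok, (okE_cons.2 ⟨g125_ok, (okE_cons.2 ⟨g126_ok, (okE_cons.2 ⟨g127_ok, (okE_cons.2 ⟨n_k3_ok, (okE_cons.2 ⟨n_t_ok, (okE_cons.2 ⟨g414_ok, (okE_cons.2 ⟨g419_ok, (okE_cons.2 ⟨g420_ok, (okE_cons.2 ⟨g417_ok, (okE_cons.2 ⟨n_u_ok, (okE_nil 276)⟩)⟩)⟩)⟩)⟩)⟩)⟩)⟩)⟩)⟩)⟩)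

noncomputable def g428 : Net := (Net.cons (nat_lit 1) (nat_lit 0x411005441404041051541014050401541014540514144115010110454444454505010) (Net.cons (nat_lit 2) (nat_lit 0x222132313233101312202222232020032300022203001303012210323132012022300) (Net.cons (nat_lit 4) (nat_lit 0x409060f0409090f07060b0703020d020f070b0508020b07050f0c04020c05070302) (Net.cons (nat_lit 8) (nat_lit 0x95001600ab00a500f80057007f00cd003100fc009c00cc00c00005008c00a90001) (Net.cons (nat_lit 16) (nat_lit 0xe0000ead50000a7850000bade000058c70000da4d00009292000057f000001c20) (Net.cons (nat_lit 32) (nat_lit 0x5938442700000000879190aa00000000fa35190500000000000221c8) (Net.cons (nat_lit 64) (nat_lit 0x40c850271144e4270000000000000000000000000005034d) (Net.cons (nat_lit 128) (nat_lit 0xb18f68ad242d069ae5459d0233d77e4f) (Net.cons (nat_lit 256) (nat_lit 524271) (Net.cons (nat_lit 128) (nat_lit 886328) (Net.cons (nat_lit 64) (nat_lit 0x98c8f56d33909fe50000000000000000d5e5219d9b9ff92c) (Net.cons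 (nat_lit 32) (nat_lit 0xfdae4701000000009a2f32f0000000005d3bdb04000000001899461f) (Net.cons (nat_lit 16) (nat_lit 0x20000331500005911000064ba0000b9dc00007a9f00004e7e00006b000000b164) (Net.cons (nat_lit 8) (nat_lit 0xfd00d200b7004100d500c3008b0007001e0030007200a90024008700cb007900ca) (Net.cons (nat_lit 4) (nat_lit 0xd0901080503090c0a02090a070a0f0f0502080b000004060e0a0b0607030304080b) (Net.cons (nat_lit 2) (nat_lit 0x12303103330022210033211001012200112022022003203000233322022213321201) (Net.cons (nat_lit 1) (nat_lit 0x40550144145544005410455115150501005014404005144011440510155115010140) Net.nil)))))))))))))))))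

theorem g428_ok : Net.ok 276 g428 = true := by decide +kernel

noncomputable def g429 : Net := (Net.cons (nat_lit 1) (nat_lit 0x40151005141410445101441554041514441414410411540005014401440555505100) (Net.cons (nat_lit 2) (nat_lit 0x1002202220323112231310303320312331222230131121330202010233202120100) (Net.cons (nat_lit 4) (nat_lit 0x2090a0601080007040d030a080e0c040f0801090901010004050804050408010301) (Net.cons (nat_lit 8) (nat_lit 0x6b003200c900ed00f500810094001f001c00f300ba0075008e00fb00b300040000) (Net.cons (nat_lit 16) (nat_lit 0x30000965a00003d3c000014b00000d233000052440000a6260000400400001020) (Net.cons (nat_lit 32) (nat_lit 0x89389acc0000000006bb9030000000002c4d1d92000000000000800e) (Net.cons (nat_lit 64) (nat_lit 0x3074494920004106000000000000000000000000000bdcf9) (Net.cons (nat_lit 128) (nat_lit 0x94f9132e785c626527874a7596318079) (Net.cons (nat_lit 256) (nat_lit 777471) (Net.cons (nat_lit 128) (nat_lit 527715) (Net.cons (nat_lit 64) (nat_lit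 0xbb8053be1cce862900000000000000006dedc8760227ae66) (Net.cons (nat_lit 32) (nat_lit 0x81046200000000003497a2f60000000043d70b6e00000000eda1a34b) (Net.cons (nat_lit 16) (nat_lit 0x20000cc28000058230000354e0000c7c80000f09d000055440000c0770000784f) (Net.cons (nat_lit 8) (nat_lit 0x4a00c00017005800440033009900e100250003002f00c70047003c00d900a6008b) (Net.cons (nat_lit 4) (nat_lit 0x8040f050d000e0a0500030a03040506000703080e000c05010f0604070e0306060b) (Net.cons (nat_lit 2) (nat_lit 0x131213011230300203210233200222230303011302332310332330113223330102202) (Net.cons (nat_lit 1) (nat_lit 0x111050041404451011141105554101144450551550001414040010455041440445541) Net.nil)))))))))))))))))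

theorem g429_ok : Net.ok 276 g429 = true := by decide +kernel

noncomputable def g430 : Net := (Net.cons (nat_lit 1) (nat_lit 0x55451151141454005110500444050455005504011551114501444444401504140410) (Net.cons (nat_lit 2) (nat_lit 0x133231011032130333103131020222003010012001332023011000132010111323300) (Net.cons (nat_lit 4) (nat_lit 0xe0402070f050f090102020b040b08010100020d060c0f020601040a040908030500) (Net.cons (nat_lit 8) (nat_lit 0x81007e00e10071008c004400be00e200dd007d0072009a008500c7002900a50001) (Net.cons (nat_lit 16) (nat_lit 0xb3be0000c2050000e6a0000089a500001a13000099e80000bd1000000e00) (Net.cons (nat_lit 32) (nat_lit 0x734123a800000000ac42f23400000000b66885060000000000048d52) (Net.cons (nat_lit 64) (nat_lit 0x1538202a0108f75000000000000000000000000000080b53) (Net.cons (nat_lit 128) (nat_lit 0xb34d0f304237bb708670e50b2dc8d845) (Net.cons (nat_lit 256) (nat_lit 0xfdf57) (Net.cons (nat_lit 128) (nat_lit 511044) (Net.cons (nat_lit 64) (nat_lit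 0xbecfc47818288aee00000000000000001ccf9bdb438ea836) (Net.cons (nat_lit 32) (nat_lit 0x9be892100000000df2fe3180000000037720b3600000000721ec141) (Net.cons (nat_lit 16) (nat_lit 0xf5a8000094620000969b000034620000e0230000c7b400000f1000002cf3) (Net.cons (nat_lit 8) (nat_lit 0xd5007b0003003a00b50085000e00ff0037007c003600a9001600e2003b009a008a) (Net.cons (nat_lit 4) (nat_lit 0xc040e030e060c0b01020508030b0706080a050806010f0e05080307080702070e04) (Net.cons (nat_lit 2) (nat_lit 0x332332332100001112002321002022133110003110003232101103220010330201102) (Net.cons (nat_lit 1) (nat_lit 0x515554545440004405114005545145415010115054401441400000040451004104100) Net.nil)))))))))))))))))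

theorem g430_ok : Net.ok 276 g430 = true := by decide +kernel

noncomputable def g431 : Net := (Net.cons (nat_lit 1) (nat_lit 0x40500014451455000540051051111144040150515151554051050414511041450154) (Net.cons (nat_lit 2) (nat_lit 0x221203232323010030322100312103101012211212300230000231212300002100210) (Net.cons (nat_lit 4) (nat_lit 0x2000b0c0508030c030b0a050e0c0505020d0a0a0b030c0c02050d0a040e0a010f01) (Net.cons (nat_lit 8) (nat_lit 0x80000200fc003400ca008000b8008a00c200e4002100c20099000a0096003a0000) (Net.cons (nat_lit 16) (nat_lit 0x1d1b0000d6e400006f810000aed40000d38f000049c20000868000006000) (Net.cons (nat_lit 32) (nat_lit 0x832c93000000000e75f9081000000003909475b00000000000e4114) (Net.cons (nat_lit 64) (nat_lit 0x309a47c92df1c1c200000000000000000000000000085258) (Net.cons (nat_lit 128) (nat_lit 0xfd2334f7ad9067e7e08dc86c521dbce) (Net.cons (nat_lit 256) (nat_lit 0xffbde) (Net.cons (nat_lit 128) (nat_lit 797422) (Net.cons (nat_lit 64) (nat_lit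 0xfd8e9d2643fad7d400000000000000000cfe842fd4cdc3aa) (Net.cons (nat_lit 32) (nat_lit 0x63e8de3b000000006bccc286000000007d89430d0000000012c3acf6) (Net.cons (nat_lit 16) (nat_lit 0x600007e7f000047f7000095190000daa6000071e50000c66b000066f100003be3) (Net.cons (nat_lit 8) (nat_lit 0x4a00aa00ef004b00f0001c009b00b400f70073000400bc009e005f009c005d0030) (Net.cons (nat_lit 4) (nat_lit 0x10808090d080b090e0a010f050106050a0c060f01060d0a0e000c030e0602010102) (Net.cons (nat_lit 2) (nat_lit 0x313202123222212133032122133131112210030311111201031121102112122123213) (Net.cons (nat_lit 1) (nat_lit 0x510541405000514511051501000541545044454011555105445550050500404054014) Net.nil)))))))))))))))))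

theorem g431_ok : Net.ok 276 g431 = true := by decide +kernel

noncomputable def g432 : Net := (Net.cons (nat_lit 1) (nat_lit 0x100154400115445540050444000055010104140400400041100440105455444415550) (Net.cons (nat_lit 2) (nat_lit 0x301311332111312300213020010212313020231301032302202113130322120212300) (Net.cons (nat_lit 4) (nat_lit 0x4090404010a0d07010f0a080f0e02050e0208000a0c0a020a0a0a0f0307030c0804) (Net.cons (nat_lit 8) (nat_lit 0xaf0073006d002900fa00e8001900f800800092003e00e4001c008a004a00aa0001) (Net.cons (nat_lit 16) (nat_lit 0x60000502d0000d1d3000009df0000d59d000032dd0000e08c000097080000a050) (Net.cons (nat_lit 32) (nat_lit 0xa0ab632e0000000052e30358000000002412e0e100000000000c8880) (Net.cons (nat_lit 64) (nat_lit 0x8000f06409bdd171000000000000000000000000000b0460) (Net.cons (nat_lit 128) (nat_lit 0x8b4fc27bc53f20cc62763514188e301a) (Net.cons (nat_lit 256) (nat_lit 0xfbcff) (Net.cons (nat_lit 128) (nat_lit 973099) (Net.cons (nat_lit 64)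 (nat_lit 0x7765aa19427d51e900000000000000001cd95c9cba1a8a75) (Net.cons (nat_lit 32) (nat_lit 0x65c25ed900000000ccf4931a00000000b05356b90000000036c725ce) (Net.cons (nat_lit 16) (nat_lit 0xda2d0000b2e00000a59b0000e4a600005da10000a24b0000c4080000c056) (Net.cons (nat_lit 8) (nat_lit 0x13005a007600d5001a0018002e003b009d003a009200c60026006b001b00200057) (Net.cons (nat_lit 4) (nat_lit 0xc050f0d0b01060a0207020e0f030b0d0b060105040f080d060205070103030a0704) (Net.cons (nat_lit 2) (nat_lit 0x301112010302300303323122310320311121121330311023112111210211123300103) (Net.cons (nat_lit 1) (nat_lit 0x454055050551041015141544104115411444404515415504104444145011000400511) Net.nil)))))))))))))))))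

theorem g432_ok : Net.ok 276 g432 = true := by decide +kernel

noncomputable def tt_c2_K : List Net := [g428, g429, g430, g431, g432, n_t]

theorem tt_c2_K_ok : okE 276 tt_c2_K = true := (okE_cons.2 ⟨g428_ok, (okE_cons.2 ⟨g429_ok, (okE_cons.2 ⟨g430_ok, (okE_cons.2 ⟨g431_ok, (okE_cons.2 ⟨g432_ok, (okE_cons.2 ⟨n_t_ok, (okE_nil 276)⟩)⟩)⟩)⟩)⟩)⟩)

noncomputable def V434 : List Net := [g125, g126, g127, n_k3, n_t]

theorem V434_ok : okE 276 V434 = true := (okE_cons.2 ⟨g125_ok, (okE_cons.2 ⟨g126_ok, (okE_cons.2 ⟨g127_ok, (okE_cons.2 ⟨n_k3_ok, (okE_cons.2 ⟨n_t_ok, (okE_nil 276)⟩)⟩)⟩)⟩)⟩)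

noncomputable def V435 : List Net := [g126, g127, n_k3, n_t]

theorem V435_ok : okE 276 V435 = true := (okE_cons.2 ⟨g126_ok, (okE_cons.2 ⟨g127_ok, (okE_cons.2 ⟨n_k3_ok, (okE_cons.2 ⟨n_t_ok, (okE_nil 276)⟩)⟩)⟩)⟩)

noncomputable def V436 : List Net := [g127, n_k3, n_t]

theorem V436_ok : okE 276 V436 = true := (okE_cons.2 ⟨g127_ok, (okE_cons.2 ⟨n_k3_ok, (okE_cons.2 ⟨n_t_ok, (okE_nil 276)⟩)⟩)⟩)

noncomputable def V437 : List Net := [n_k3, n_t]

theorem V437_ok : okE 276 V437 = true := (okE_cons.2 ⟨n_k3_ok, (okE_cons.2 ⟨n_t_ok, (okE_nil 276)⟩)⟩)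

noncomputable def V438 : List Net := [n_t]

theorem V438_ok : okE 276 V438 = true := (okE_cons.2 ⟨n_t_ok, (okE_nil 276)⟩)

noncomputable def V439 : List Net := []

theorem V439_ok : okE 276 V439 = true := (okE_nil 276)

noncomputable def tt_c2_cnt_EG : List Net := [g124, g125, g126, g127, n_k3, n_t]

theorem tt_c2_cnt_EG_ok : okE 276 tt_c2_cnt_EG = true := (okE_cons.2 ⟨g124_ok, (okE_cons.2 ⟨g125_ok, (okE_cons.2 ⟨g126_ok, (okE_cons.2 ⟨g127_ok, (okE_cons.2 ⟨n_k3_ok, (okE_cons.2 ⟨n_t_ok, (okE_nil 276)⟩)⟩)⟩)⟩)⟩)⟩)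

noncomputable def g440 : Net := (Net.cons (nat_lit 1) (nat_lit 0x550404410101114040410401515015141554401014514145414004550105454400154) (Net.cons (nat_lit 2) (nat_lit 0x111210022101023202302232220020313133112122013100323011030201123301200) (Net.cons (nat_lit 4) (nat_lit 0xe0b01080e020b0309030a0a08070f0f07040b03030c03020403010a0d0809040704) (Net.cons (nat_lit 8) (nat_lit 0x3f007a00390042007600360053001600d1006a00a00059000000bf008c00400005) (Net.cons (nat_lit 16) (nat_lit 0x200003d9b0000382800008f870000878000004be4000019f0000077e000008c90) (Net.cons (nat_lit 32) (nat_lit 0x7182190500000000702120800000000098067612000000000002807a) (Net.cons (nat_lit 64) (nat_lit 0x8503ca5b8480b53800000000000000000000000000048390) (Net.cons (nat_lit 128) (nat_lit 0xb1f45cf916b6ea58245f9382d92194e1) (Net.cons (nat_lit 256) (nat_lit 0xfbfff) (Net.cons (nat_lit 128) (nat_lit 708961) (Net.cons (nat_lit 64) (nat_lit 0xb612c46f9b673420000000000000000e1e641703c136916) (Net.cons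 (nat_lit 32) (nat_lit 0x1e75c8ba000000004b4c549c000000002350d7d60000000088123eeb) (Net.cons (nat_lit 16) (nat_lit 0xc0000e7000000be190000cd1e0000351c0000f81e0000c5dd00001d900000a4bb) (Net.cons (nat_lit 8) (nat_lit 0x5b002400e80032007f00f300c1008600f9001d00fa007b00da00d700a100d100d9) (Net.cons (nat_lit 4) (nat_lit 0x80f080b0e0b0d0501070f0d000f0403060a02050e04030d0e070a0f0f010a030808) (Net.cons (nat_lit 2) (nat_lit 0x311132022111020300130311122120330310223003102233302323232102020230331) (Net.cons (nat_lit 1) (nat_lit 0x10445544515451051100551444100544005111414505141450155541044150504050) Net.nil)))))))))))))))))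

theorem g440_ok : Net.ok 276 g440 = true := by decide +kernel

noncomputable def g441 : Net := (Net.cons (nat_lit 1) (nat_lit 0x400105415545400055554051514441051050100455150104411110504445510401404) (Net.cons (nat_lit 2) (nat_lit 0x231303311122110012222210230333222212103221001121103113221010322203310) (Net.cons (nat_lit 4) (nat_lit 0x10202050e0203000f0405020c06020f040f08020b0b09030a0301080c0504040302) (Net.cons (nat_lit 8) (nat_lit 0xd200700074008f002f003c000d0035005f002500e50011007e00da0085008d000a) (Net.cons (nat_lit 16) (nat_lit 0x50000aee5000085a90000e26c0000840e000031190000fc4c0000045600004840) (Net.cons (nat_lit 32) (nat_lit 0x911448850000000038c04f7500000000488454ee000000000003e001) (Net.cons (nat_lit 64) (nat_lit 0x90015086283d7681000000000000000000000000000cb078) (Net.cons (nat_lit 128) (nat_lit 0xbbe4130bc6e5cea12d51489cba9783c1) (Net.cons (nat_lit 256) (nat_lit 0xffbfd) (Net.cons (nat_lit 128) (nat_lit 831531) (Net.cons (nat_lit 64)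 (nat_lit 0xd53680233af345b90000000000000000c03a83922acb9f9d) (Net.cons (nat_lit 32) (nat_lit 0xd86a1bcf000000008bff8b150000000051612b3500000000c7bf156e) (Net.cons (nat_lit 16) (nat_lit 0x80000f7e40000543e000021fd000009e800001e3c0000800e000051c90000b55c) (Net.cons (nat_lit 8) (nat_lit 0xf1006700ce006d00a500dc00f200da00fa00dd009e003100ef00d20016005300e2) (Net.cons (nat_lit 4) (nat_lit 0x20c080802090809050c06030d090f060e020f02030f0a000b050e030f0c030e0f0f) (Net.cons (nat_lit 2) (nat_lit 0x201311211223101133131233211000031210123101110200113012213201220032300) (Net.cons (nat_lit 1) (nat_lit 0x141111415455011150044101154045504115005054110150451155114440141040411) Net.nil)))))))))))))))))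

theorem g441_ok : Net.ok 276 g441 = true := by decide +kernel

noncomputable def g442 : Net := (Net.cons (nat_lit 1) (nat_lit 0x545555510000414545411151011050010054115010014040444150444445144140440) (Net.cons (nat_lit 2) (nat_lit 0x122211012000121331302023013011230222101031031010210021002320311320220) (Net.cons (nat_lit 4) (nat_lit 0xa030903090b060e000d0300040e0d0705050101000a0d0b030f0609070808090c06) (Net.cons (nat_lit 8) (nat_lit 0x56000500e3009a00d4005f0047000800f7000100e300050068002f001f00050008) (Net.cons (nat_lit 16) (nat_lit 0xf0000ca14000045fc000029360000ccb800009b540000cd45000000a100000260) (Net.cons (nat_lit 32) (nat_lit 0x83c78a5800000000078af60f000000008e2c2ca10000000000030085) (Net.cons (nat_lit 64) (nat_lit 0x60418df05b4101b000000000000000000000000000084282) (Net.cons (nat_lit 128) (nat_lit 0x61ff1acebb036cd0860af737407c84bb) (Net.cons (nat_lit 256) (nat_lit 0xff6ff) (Net.cons (nat_lit 128) (nat_lit 35825) (Net.cons (nat_lit 64)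 (nat_lit 0x1ab01df323012445000000000000000001812f14bd06b9f3) (Net.cons (nat_lit 32) (nat_lit 0x4ddbc6d3000000000298406f000000005e80644e00000000b992d309) (Net.cons (nat_lit 16) (nat_lit 0xf0000e6d90000ca7c0000cb14000090880000bc180000b5ed0000a95e0000497c) (Net.cons (nat_lit 8) (nat_lit 0x1200c900a900b70057005f0062009600b800b000d500a3009e005a005c00f0007f) (Net.cons (nat_lit 4) (nat_lit 0x80b0d020902010708010d0e040e0c0305000c0405010a030f030d000a010f030a09) (Net.cons (nat_lit 2) (nat_lit 0x122131222311301230212122021221130213022113013030020330022011030013231) (Net.cons (nat_lit 1) (nat_lit 0x505504001440155144110410005504444440555005411510410150504500544141441) Net.nil)))))))))))))))))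

theorem g442_ok : Net.ok 276 g442 = true := by decide +kernel

noncomputable def tt_c3_K : List Net := [g440, g441, g442, g416, g417, n_u]

theorem tt_c3_K_ok : okE 276 tt_c3_K = true := (okE_cons.2 ⟨g440_ok, (okE_cons.2 ⟨g441_ok, (okE_cons.2 ⟨g442_ok, (okE_cons.2 ⟨g416_ok, (okE_cons.2 ⟨g417_ok, (okE_cons.2 ⟨n_u_ok, (okE_nil 276)⟩)⟩)⟩)⟩)⟩)⟩)

noncomputable def tt_c3_cnt_EG : List Net := [g124, g125, g126, g127, n_k3, n_t, g414, g419, g420, g417, n_u]

theorem tt_c3_cnt_EG_ok : okE 276 tt_c3_cnt_EG = true := (okE_cons.2 ⟨g124_ok, (okE_cons.2 ⟨g125_ok, (okE_cons.2 ⟨g126_ok, (okE_cons.2 ⟨g127_ok, (okE_cons.2 ⟨n_k3_ok, (okE_cons.2 ⟨n_t_ok, (okE_cons.2 ⟨g414_ok, (okE_cons.2 ⟨g419_ok, (okE_cons.2 ⟨g420_ok, (okE_cons.2 ⟨g417_ok, (okE_cons.2 ⟨n_u_ok, (okE_nil 276)⟩)⟩)⟩)⟩)⟩)⟩)⟩)⟩)⟩)⟩)⟩)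

noncomputable def g444 : Net := (Net.cons (nat_lit 1) (nat_lit 0x14510511555540041145401411505405404404515440040550554504045414515514) (Net.cons (nat_lit 2) (nat_lit 0x300332213020313300201200311201012330323311033220103122003121310313100) (Net.cons (nat_lit 4) (nat_lit 0x60d0b0103060f0c090b03010c0d0d00050904090d08030c0f030a010d0509070100) (Net.cons (nat_lit 8) (nat_lit 0xd2002000ea002300e50064005000af002500de00c500a700e9008e007100000001) (Net.cons (nat_lit 16) (nat_lit 0xf0000b99f0000e39400009ea40000442b0000a33f0000689c00008a3600003020) (Net.cons (nat_lit 32) (nat_lit 0x310961f3000000008106d0d1000000005627f411000000000002110f) (Net.cons (nat_lit 64) (nat_lit 0xd292802f2205290a0000000000000000000000000006587c) (Net.cons (nat_lit 128) (nat_lit 0x45133724125e63b7b281ea4be5d50481) (Net.cons (nat_lit 256) (nat_lit 0xffdff) (Net.cons (nat_lit 128) (nat_lit 264828) (Net.cons (nat_lit 64) (nat_lit 0x11f1cceef182c3f0000000000000000616d6106875d845a) (Net.cons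 (nat_lit 32) (nat_lit 0x441f5e230000000068a1ab65000000004dc78e1100000000820b6139) (Net.cons (nat_lit 16) (nat_lit 0xd0000a09800007fae000000d5000082cd0000a7aa000090ba0000345000006329) (Net.cons (nat_lit 8) (nat_lit 0xc20083000000320084001800a0002900eb001e003b00290009003a00f1000200cd) (Net.cons (nat_lit 4) (nat_lit 0xb0a030904020b040b0d0e070d0105090f04060c0a040f060e02070101070f030009) (Net.cons (nat_lit 2) (nat_lit 0x10300201320302103301200012202232302032110133302230112110223303032100) (Net.cons (nat_lit 1) (nat_lit 0x114041540011155101150514404550045054510110155540141114110441401400554) Net.nil)))))))))))))))))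

theorem g444_ok : Net.ok 276 g444 = true := by decide +kernel

noncomputable def g445 : Net := (Net.cons (nat_lit 1) (nat_lit 0x404045011010541545045440114145415444141041444014511415001010150110000) (Net.cons (nat_lit 2) (nat_lit 0x110320231102233111000111231013010333100200112302121222310021221001220) (Net.cons (nat_lit 4) (nat_lit 0xf07020a0206010401080a0b0704090008010d000109020c030f0c080a0f03080409) (Net.cons (nat_lit 8) (nat_lit 0x14009f00e60031000700dd0095003f004500b600fe00310045006000640003000a) (Net.cons (nat_lit 16) (nat_lit 0xa00008c5c000067220000ef480000f0ab00006f6a000070f1000070a400001390) (Net.cons (nat_lit 32) (nat_lit 0x28824b5e00000000c5859ca40000000038833d14000000000003e567) (Net.cons (nat_lit 64) (nat_lit 0x1498247854340b840000000000000000000000000003ab64) (Net.cons (nat_lit 128) (nat_lit 0x6cc3029bb40a5c18503f34e4e1b786c0) (Net.cons (nat_lit 256) (nat_lit 0xfffff) (Net.cons (nat_lit 128) (nat_lit 656692) (Net.cons (nat_lit 64)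 (nat_lit 0x5cbcaba86a949a780000000000000000798a36a214f5740c) (Net.cons (nat_lit 32) (nat_lit 0x380fc17b0000000012eba86c000000008b0450d300000000ac1bdc0d) (Net.cons (nat_lit 16) (nat_lit 0x20000694d00005bc90000c8260000b4270000620e0000db320000816c00003b82) (Net.cons (nat_lit 8) (nat_lit 0x820057000300b100a000590077003a00850035006b00ef00d60053008e006c00e6) (Net.cons (nat_lit 4) (nat_lit 0xa0c0d0c0401010b0605050c05090d0f0b050f070d010907030c020309050a060d09) (Net.cons (nat_lit 2) (nat_lit 0x312020200232310112302333203022010112202322200303030212323123011312121) (Net.cons (nat_lit 1) (nat_lit 0x450145540010401551050001404155400010051510014005411444450540551040044) Net.nil)))))))))))))))))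

theorem g445_ok : Net.ok 276 g445 = true := by decide +kernel

noncomputable def g446 : Net := (Net.cons (nat_lit 1) (nat_lit 0x550515505005451140000045511005015141154150055514405400154550405110150) (Net.cons (nat_lit 2) (nat_lit 0x32303003202203003221020230100302210221120300111012021322032111201110) (Net.cons (nat_lit 4) (nat_lit 0xc030202000b0c07080e010b000e0a000b0c0b010a0a040a060a0900070b050c0800) (Net.cons (nat_lit 8) (nat_lit 0xb5000600b40084005d00e300e4000100dd0070006100e8001d00d100d000060000) (Net.cons (nat_lit 16) (nat_lit 0x40000d16a0000404b0000a1510000705700009c3c00001072000086810000a480) (Net.cons (nat_lit 32) (nat_lit 0x4286186c00000000416071c3000000001ec42882000000000000f401) (Net.cons (nat_lit 64) (nat_lit 0x1a0889d000c0d32000000000000000000000000000042898) (Net.cons (nat_lit 128) (nat_lit 0x6a66899b1690d56415ec20414b611162) (Net.cons (nat_lit 256) (nat_lit 524287) (Net.cons (nat_lit 128) (nat_lit 599840) (Net.cons (nat_lit 64) (nat_lit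 0xbe0fc696117cf1250000000000000000260f142da32fbb02) (Net.cons (nat_lit 32) (nat_lit 0xdad2096400000000027bdc0100000000ae16d01d00000000c6ef19c5) (Net.cons (nat_lit 16) (nat_lit 0x3000073660000009b0000fce30000611e00004bb2000038f40000205f0000c941) (Net.cons (nat_lit 8) (nat_lit 0x37009000b300d600e7002900c6002a004400ad00f4006900b600f6000c0034000c) (Net.cons (nat_lit 4) (nat_lit 0xc0c010a080b090b020e0709020b0a0c0a0d0e0e0b0d0509050a0d0d0c060f0a0501) (Net.cons (nat_lit 2) (nat_lit 0x123121122311112030002211312032321001110330223031320320321321003031313) (Net.cons (nat_lit 1) (nat_lit 0x445505405011450104004055550104055041044105011510411400544114404511550) Net.nil)))))))))))))))))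

theorem g446_ok : Net.ok 276 g446 = true := by decide +kernel

noncomputable def g447 : Net := (Net.cons (nat_lit 1) (nat_lit 0x41015141005001515441454441144504000451055541051050005004014010445140) (Net.cons (nat_lit 2) (nat_lit 0x203211303212113212021112010322202002011301210210120120330231312002010) (Net.cons (nat_lit 4) (nat_lit 0xd0006090d000a000702040a0107080e0b0a0c03050a060b03060e0b040c0b0a0008) (Net.cons (nat_lit 8) (nat_lit 0x1700ba005800f400a300f5006800e100f00042009a00160081009000c6004d000c) (Net.cons (nat_lit 16) (nat_lit 0xc00001fad0000c481000015cc0000e9e00000b4b300006a110000ccd300003ac0) (Net.cons (nat_lit 32) (nat_lit 0x728222e100000000a68bd295000000008000e884000000000002864b) (Net.cons (nat_lit 64) (nat_lit 0x801a146890f9c5a00000000000000000000000000006b981) (Net.cons (nat_lit 128) (nat_lit 0x1234528eff51210590ae6de468a9cf94) (Net.cons (nat_lit 256) (nat_lit 0xfffff) (Net.cons (nat_lit 128) (nat_lit 992556) (Net.cons (nat_lit 64)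 (nat_lit 0x22e6359d64686fb20000000000000000e758c9a04120cd9c) (Net.cons (nat_lit 32) (nat_lit 0x2c9462780000000085f1449d00000000e8bf591800000000a4d52dfb) (Net.cons (nat_lit 16) (nat_lit 0x40000569c0000259f00006b7400005eb600009dff00006fae0000097600007741) (Net.cons (nat_lit 8) (nat_lit 0xdd006e006900cd002b00370036002700b5009a00190017004b00020035008800b5) (Net.cons (nat_lit 4) (nat_lit 0xe08010b05030a04010b0108080a0805080c090e0607050e0c0f000806060e0e0900) (Net.cons (nat_lit 2) (nat_lit 0x331121223311330321230200331213202213033133333320223011113022311011131) (Net.cons (nat_lit 1) (nat_lit 0x44105151414044050044014400414114440554551455001015554100015511401440) Net.nil)))))))))))))))))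

theorem g447_ok : Net.ok 276 g447 = true := by decide +kernel

noncomputable def tt_c4_K : List Net := [g444, g445, g446, g447, n_u]

theorem tt_c4_K_ok : okE 276 tt_c4_K = true := (okE_cons.2 ⟨g444_ok, (okE_cons.2 ⟨g445_ok, (okE_cons.2 ⟨g446_ok, (okE_cons.2 ⟨g447_ok, (okE_cons.2 ⟨n_u_ok, (okE_nil 276)⟩)⟩)⟩)⟩)⟩)

noncomputable def tt_c4_cnt_EG : List Net := [g124, g125, g126, g127, n_k3, n_t, g414, g419, g420, g417, n_u]

theorem tt_c4_cnt_EG_ok : okE 276 tt_c4_cnt_EG = true := (okE_cons.2 ⟨g124_ok, (okE_cons.2 ⟨g125_ok, (okE_cons.2 ⟨g126_ok, (okE_cons.2 ⟨g127_ok, (okE_cons.2 ⟨n_k3_ok, (okE_cons.2 ⟨n_t_ok, (okE_cons.2 ⟨g414_ok, (okE_cons.2 ⟨g419_ok, (okE_cons.2 ⟨g420_ok, (okE_cons.2 ⟨g417_ok, (okE_cons.2 ⟨n_u_ok, (okE_nil 276)⟩)⟩)⟩)⟩)⟩)⟩)⟩)⟩)⟩)⟩)⟩)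

noncomputable def g449 : Net := (Net.cons (nat_lit 1) (nat_lit 0x550111414441415404105145445415001405540014101145144000510540414405104) (Net.cons (nat_lit 2) (nat_lit 0x101223030031220112331013332132210302000133002221031021022311020102010) (Net.cons (nat_lit 4) (nat_lit 0x10a00000b0702060a080801080b0f09080d0008000a04010d00010002030c000000) (Net.cons (nat_lit 8) (nat_lit 0xd7006f00f100cc005b0073009e00030045000c009a0070008e00ad004900050008) (Net.cons (nat_lit 16) (nat_lit 0x900005cb000009aed0000416a00008133000052fc0000c2070000460800000600) (Net.cons (nat_lit 32) (nat_lit 0xb89512c5000000000e01d0e800000000081194460000000000010d41) (Net.cons (nat_lit 64) (nat_lit 0x2040a847050f0b2f000000000000000000000000000c0442) (Net.cons (nat_lit 128) (nat_lit 0x28aa6e2a1f349ea7104184e58abb1051) (Net.cons (nat_lit 256) (nat_lit 991195) (Net.cons (nat_lit 128) (nat_lit 169241) (Net.cons (nat_lit 64) (nat_lit 0x36e5238babd6f0cf00000000000000001bdd55d49694d15f) (Net.cons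 (nat_lit 32) (nat_lit 0xc134bc9700000000169246b4000000008981127a00000000588b815d) (Net.cons (nat_lit 16) (nat_lit 0x100007c9c0000bec50000d5420000e9ba00009e8500005f2e00006e1900001600) (Net.cons (nat_lit 8) (nat_lit 0xaa002f00f90050005b006b0043009b00dc005000420069001700e500d0008d0074) (Net.cons (nat_lit 4) (nat_lit 0x50f09080b0706060a050405000b0f0808040104040e04040f0d07010a0305080404) (Net.cons (nat_lit 2) (nat_lit 0x101223030031220112331013332132210302000133002221031021022311020102010) (Net.cons (nat_lit 1) (nat_lit 0x550111414441415404105145445415001405540014101145144000510540414405104) Net.nil)))))))))))))))))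

theorem g449_ok : Net.ok 276 g449 = true := by decide +kernel

noncomputable def g450 : Net := (Net.cons (nat_lit 1) (nat_lit 0x50101450400014444445511155105050115154014505504510010151014414011140) (Net.cons (nat_lit 2) (nat_lit 0x121100023200120320012202101132100211120001330021102202313001331033100) (Net.cons (nat_lit 4) (nat_lit 0x70a06000d060808070105010d050b08030f0001080200010b010705010802000a00) (Net.cons (nat_lit 8) (nat_lit 0x59005200ab0078002800ff00c60068004e000e001100ae00940036005c00550004) (Net.cons (nat_lit 16) (nat_lit 0x90000a0dc00003ecb000005530000ff080000b157000041090000d83000008030) (Net.cons (nat_lit 32) (nat_lit 0x15cd6942000000004a5034d10000000004a48fb30000000000072080) (Net.cons (nat_lit 64) (nat_lit 0x920098783d094fc200000000000000000000000000048521) (Net.cons (nat_lit 128) (nat_lit 0x89c86a09f52c74d75f54d1724ab80b82) (Net.cons (nat_lit 256) (nat_lit 0xfefb7) (Net.cons (nat_lit 128) (nat_lit 755725) (Net.cons (nat_lit 64)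 (nat_lit 0xad93d1582e89bb5e0000000000000000e4a5cff18056f487) (Net.cons (nat_lit 32) (nat_lit 0xda9e7f9000000009adc311500000000ecee761f00000000ca0d01ab) (Net.cons (nat_lit 16) (nat_lit 0x9b9d0000f22600003ba4000097bc00003586000037c6000056b80000e0ad) (Net.cons (nat_lit 8) (nat_lit 0x76006500bc002b007900510058006d00c600df002800a600c300e80006005d0015) (Net.cons (nat_lit 4) (nat_lit 0xd0a000400060b0100010f0b04030803040301000a09020b0f04010c030d00030e03) (Net.cons (nat_lit 2) (nat_lit 0x333101102201311233033300221320121213303311102020310301003203020003010) (Net.cons (nat_lit 1) (nat_lit 0x440051440040455410155501040404405140411415015101005145400500155505110) Net.nil)))))))))))))))))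

theorem g450_ok : Net.ok 276 g450 = true := by decide +kernel

noncomputable def g451 : Net := (Net.cons (nat_lit 1) (nat_lit 0x154101114414545411044144515544151005050001000050141015154054040011000) (Net.cons (nat_lit 2) (nat_lit 0x21231023013032322330113300332300123123100213333200313001012120020000) (Net.cons (nat_lit 4) (nat_lit 0xb0c0f0c0d0a030c020405000b040704070d0507040c0b0007030204000c08020900) (Net.cons (nat_lit 8) (nat_lit 0x42003100be000c001c00e30048006e006800ca009c00d5002b0016002400230000) (Net.cons (nat_lit 16) (nat_lit 0x200003be80000049700001a5600006111000004c50000e2a50000c68100000940) (Net.cons (nat_lit 32) (nat_lit 0x195118200000000011879d950000000004600d1500000000000ba200) (Net.cons (nat_lit 64) (nat_lit 0xd481188cd1689e4d00000000000000000000000000031370) (Net.cons (nat_lit 128) (nat_lit 0x420ba9c97ca7f2d49c961557a9c21809) (Net.cons (nat_lit 256) (nat_lit 769017) (Net.cons (nat_lit 128) (nat_lit 678915) (Net.cons (nat_lit 64) (nat_lit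 0xf18ddf10d1f81af900000000000000002161430103931f75) (Net.cons (nat_lit 32) (nat_lit 0x19f1b8b200000000d7831d05000000004020ed940000000000822298) (Net.cons (nat_lit 16) (nat_lit 0xa00003ae0000004df00001e5b0000711a000014cc0000e6ab0000c28c0000096b) (Net.cons (nat_lit 8) (nat_lit 0xc6003400bb0008001900e7006c006a006c00ce00dc0090002f00d2002100230085) (Net.cons (nat_lit 4) (nat_lit 0xb0c0f0c0f0a030e060405000b040704070d050f04080b0407030204000c08020900) (Net.cons (nat_lit 2) (nat_lit 0x21231023013032322330113300332300123123100213333200313001012120030000) (Net.cons (nat_lit 1) (nat_lit 0x154101114414545411044154515544151005050001000050141015154054140011000) Net.nil)))))))))))))))))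

theorem g451_ok : Net.ok 276 g451 = true := by decide +kernel

noncomputable def g452 : Net := (Net.cons (nat_lit 1) (nat_lit 0x405544401404100141454400040055451555111000454445014501450554011054414) (Net.cons (nat_lit 2) (nat_lit 0x100230022303332001031203210331201020130013032323331220223110001201330) (Net.cons (nat_lit 4) (nat_lit 0xb060f0d0f020d08010305020a00090205060400090e050f0200010e0500080200) (Net.cons (nat_lit 8) (nat_lit 0xe200ad00df008e0020006800d40042005c00fc009a00c200250036001500b20003) (Net.cons (nat_lit 16) (nat_lit 0x50000e1280000dcb600000d000000f3000000bb06000029b40000b06600007460) (Net.cons (nat_lit 32) (nat_lit 0xb43c8d8300000000c604628b0000000052140c2000000000000420d4) (Net.cons (nat_lit 64) (nat_lit 0x11425ba1000f7b5c0000000000000000000000000006548c) (Net.cons (nat_lit 128) (nat_lit 0xdc98636a7928c45e4353b8d9251d1a5f) (Net.cons (nat_lit 256) (nat_lit 0xf7eff) (Net.cons (nat_lit 128) (nat_lit 140269) (Net.cons (nat_lit 64) (nat_lit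 0x4339733c92a95f8e00000000000000005b5ace162c538145) (Net.cons (nat_lit 32) (nat_lit 0xe56795930000000006c47a8f00000000363122e200000000cc7ed91c) (Net.cons (nat_lit 16) (nat_lit 0x2000059db0000d4e5000009220000c6880000dab6000018c4000071e00000c947) (Net.cons (nat_lit 8) (nat_lit 0xdc001d004c000a001a00fc00230011004200f7003700c5007e003a009700cb0053) (Net.cons (nat_lit 4) (nat_lit 0x70c050a0c0b0a040c000e0d020604020e0807060e040703080b0804070307020001) (Net.cons (nat_lit 2) (nat_lit 0x202231322002132101203321121221233101322223103332023120331203211013021) (Net.cons (nat_lit 1) (nat_lit 0x451405040445000100055441001015405514011000145041414051044411110551144) Net.nil)))))))))))))))))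

theorem g452_ok : Net.ok 276 g452 = true := by decide +kernel

noncomputable def tt_c5_K : List Net := [g450, g449, g451, g452, n_u]

theorem tt_c5_K_ok : okE 276 tt_c5_K = true := (okE_cons.2 ⟨g450_ok, (okE_cons.2 ⟨g449_ok, (okE_cons.2 ⟨g451_ok, (okE_cons.2 ⟨g452_ok, (okE_cons.2 ⟨n_u_ok, (okE_nil 276)⟩)⟩)⟩)⟩)⟩)

noncomputable def tt_c5_cnt_EG : List Net := [g124, g125, g126, g127, n_k3, n_t, g414, g419, g420, g417, n_u]

theorem tt_c5_cnt_EG_ok : okE 276 tt_c5_cnt_EG = true := (okE_cons.2 ⟨g124_ok, (okE_cons.2 ⟨g125_ok, (okE_cons.2 ⟨g126_ok, (okE_cons.2 ⟨g127_ok, (okE_cons.2 ⟨n_k3_ok, (okE_cons.2 ⟨n_t_ok, (okE_cons.2 ⟨g414_ok, (okE_cons.2 ⟨g419_ok, (okE_cons.2 ⟨g420_ok, (okE_cons.2 ⟨g417_ok, (okE_cons.2 ⟨n_u_ok, (okE_nil 276)⟩)⟩)⟩)⟩)⟩)⟩)⟩)⟩)⟩)⟩)⟩)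

noncomputable def g454 : Net := (Net.cons (nat_lit 1) (nat_lit 0x40051014005005504114114540055415155145051010515114011510500101114000) (Net.cons (nat_lit 2) (nat_lit 0x322123103111230030031212220031020223000231212032011233103120131300010) (Net.cons (nat_lit 4) (nat_lit 0x7080c0d0807020403020e06000700090805060c020d0c07020b0b0d0901000c0c04) (Net.cons (nat_lit 8) (nat_lit 0x4900cf00b9001200f200cc002a003c00000033001d00c6005400ba00a000a0000c) (Net.cons (nat_lit 16) (nat_lit 0xc0000ce0900008cd100002e0b0000057300000fd4000003e30000273900000460) (Net.cons (nat_lit 32) (nat_lit 0x8d4700b200000000417f938600000000084012730000000000040e59) (Net.cons (nat_lit 64) (nat_lit 0x7c8060814123088e00000000000000000000000000022033) (Net.cons (nat_lit 128) (nat_lit 0x75af1b668677ff6b0b766ae75bd6706c) (Net.cons (nat_lit 256) (nat_lit 949887) (Net.cons (nat_lit 128) (nat_lit 927205) (Net.cons (nat_lit 64) (nat_lit 0xf16bea189dba10c20000000000000000d979df1bd12431f6) (Net.cons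 (nat_lit 32) (nat_lit 0x90350be00000000bb5b9dde0000000098413c3e000000003baddbe5) (Net.cons (nat_lit 16) (nat_lit 0x83340000c71e000051b6000067cf00008a9800004d3d0000e78200009cde) (Net.cons (nat_lit 8) (nat_lit 0xed00ce00bb004100a3008e0019001a00670010004c000d0045003b00e200a60084) (Net.cons (nat_lit 4) (nat_lit 0x20c0809040a070407070d0a0503040f0c00020c0708080a07050e0908040509090f) (Net.cons (nat_lit 2) (nat_lit 0x332123003111230030031213230130030223000221232032011233103120031300011) (Net.cons (nat_lit 1) (nat_lit 0x40055414005005504114144500455415155145051011515114011510500101114001) Net.nil)))))))))))))))))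

theorem g454_ok : Net.ok 276 g454 = true := by decide +kernel

noncomputable def g455 : Net := (Net.cons (nat_lit 1) (nat_lit 0x100415154455050050555444511015050140454154145150501011554055110441440) (Net.cons (nat_lit 2) (nat_lit 0x221010312023230111331131303010321013133132120002221300022110320000) (Net.cons (nat_lit 4) (nat_lit 0xd0105000f0a000a02030f03060d0c0d0c00070d0e0b0905070200080301020a0503) (Net.cons (nat_lit 8) (nat_lit 0x2200c800dd00e60078002300bd003300ac008e00310000001800880039003e0008) (Net.cons (nat_lit 16) (nat_lit 0x1000061c3000062f40000a304000088dd00000c7800002fac0000e83000004b80) (Net.cons (nat_lit 32) (nat_lit 0xa9dc02800000000a04600f300000000385b0cd400000000000000a1) (Net.cons (nat_lit 64) (nat_lit 0x9298a2548480843e000000000000000000000000000dc00c) (Net.cons (nat_lit 128) (nat_lit 0x312ed3e84cb5cf248393393fd367ecd0) (Net.cons (nat_lit 256) (nat_lit 0xfeffd) (Net.cons (nat_lit 128) (nat_lit 519258) (Net.cons (nat_lit 64) (nat_lit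 0xbed2946a03c017bc0000000000000000d166d8c0ba2a8094) (Net.cons (nat_lit 32) (nat_lit 0xdf9a28a00000000b4960bfd00000000229fdf760000000009adc037) (Net.cons (nat_lit 16) (nat_lit 0x1000041f3000063f5000002ac00008975000085190000b2f50000ed780000d7f8) (Net.cons (nat_lit 8) (nat_lit 0xa200d9007500c600d200020015000300ac00960071000000380089001300260094) (Net.cons (nat_lit 4) (nat_lit 0x509060902020002000b0e0f0f04040704080f0e070a000d0f0a0b000903020f0d0f) (Net.cons (nat_lit 2) (nat_lit 0x220000312013232133331333302011321013103222132032323310002110320200) (Net.cons (nat_lit 1) (nat_lit 0x101415554555050050555444511015050140454154145150501011554055110545440) Net.nil)))))))))))))))))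

theorem g455_ok : Net.ok 276 g455 = true := by decide +kernel

noncomputable def g456 : Net := (Net.cons (nat_lit 1) (nat_lit 0x145115551145141100414544050044554014451105415505451051405015100400000) (Net.cons (nat_lit 2) (nat_lit 0x221221101111222211200102230112233200331323302203232022030010231101000) (Net.cons (nat_lit 4) (nat_lit 0x900030a030d030c00020f0406020e0c0c0a0b0d0a060806030c010c070800090000) (Net.cons (nat_lit 8) (nat_lit 0x9900a900510072000600b8005600500006004600660067004f00a4004f000a0000) (Net.cons (nat_lit 16) (nat_lit 0xe0000060e000020410000b561000014a5000002c4000000130000819000000890) (Net.cons (nat_lit 32) (nat_lit 0x1220125200000000e01918ed0000000025ade0400000000000000a09) (Net.cons (nat_lit 64) (nat_lit 0x5412190c2306a8080000000000000000000000000009c01a) (Net.cons (nat_lit 128) (nat_lit 0x592953475013bd740d32ee8bbbce0214) (Net.cons (nat_lit 256) (nat_lit 0xfda9f) (Net.cons (nat_lit 128) (nat_lit 17278) (Net.cons (nat_lit 64)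 (nat_lit 0x6664456f6d61c0220000000000000000a5997308412ec459) (Net.cons (nat_lit 32) (nat_lit 0x9f749e3000000000e57f5cac000000004c95ca990000000065292f23) (Net.cons (nat_lit 16) (nat_lit 0x5000038c5000068f20000f0da000079ef00005bef0000fc18000082df000007d8) (Net.cons (nat_lit 8) (nat_lit 0xfd00ce00710046003c009d005d006300a6007c00030047006f00d0007f002d00a3) (Net.cons (nat_lit 4) (nat_lit 0xd04050e010d030900010f0606010e0c0c0e090d0d020c06010e0508030806090002) (Net.cons (nat_lit 2) (nat_lit 0x221221101111222211200102230112233200331323322203232022030010231101000) (Net.cons (nat_lit 1) (nat_lit 0x145115551145141100414544050044554014451105415505451051405015100400000) Net.nil)))))))))))))))))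

theorem g456_ok : Net.ok 276 g456 = true := by decide +kernel

noncomputable def tt_c6_K : List Net := [g455, n_s4, g454, g456]

theorem tt_c6_K_ok : okE 276 tt_c6_K = true := (okE_cons.2 ⟨g455_ok, (okE_cons.2 ⟨n_s4_ok, (okE_cons.2 ⟨g454_ok, (okE_cons.2 ⟨g456_ok, (okE_nil 276)⟩)⟩)⟩)⟩)

noncomputable def g458 : Net := (Net.cons (nat_lit 1) (nat_lit 0x504151015010054010140501050000555440050045105155101014405001401404444) (Net.cons (nat_lit 2) (nat_lit 0x323202033103033020133201103031001211300311323300103311322000200000020) (Net.cons (nat_lit 4) (nat_lit 0xb070c0c060b03070a0c0c04010406050e000b0f0301050f06080c000a0405090603) (Net.cons (nat_lit 8) (nat_lit 0x6d0014008b002b00f300f5009c001700500024006600c600c300400004005e0002) (Net.cons (nat_lit 16) (nat_lit 0x98360000a6020000cd6f00005ad1000087af0000fe980000e98200000300) (Net.cons (nat_lit 32) (nat_lit 0x28f370590000000048e766bc0000000023611ad20000000000083094) (Net.cons (nat_lit 64) (nat_lit 0xc62c0c06900bfa0000000000000000000000000000057a98)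 (Net.cons (nat_lit 128) (nat_lit 0x8a8d9e609158900c5ce212bf400660b1) (Net.cons (nat_lit 256) (nat_lit 0xf7bfd) (Net.cons (nat_lit 128) (nat_lit 199495) (Net.cons (nat_lit 64) (nat_lit 0xb89ddb211843dbfe000000000000000046df8197a1f3d500) (Net.cons (nat_lit 32) (nat_lit 0xc280351300000000de6b70d500000000ede8104000000000547e2d1e) (Net.cons (nat_lit 16) (nat_lit 0xc0000d9c600009fbc0000f59d00005a710000482b0000e8190000de0b00003482) (Net.cons (nat_lit 8) (nat_lit 0xd20055006700b90080006e006100910083009f00c300970012001400ff00900014) (Net.cons (nat_lit 4) (nat_lit 0x40e0e0f07000e000d090204050b0b030a0904010605090f060a0708050c0d080605) (Net.cons (nat_lit 2) (nat_lit 0x312321023111313230000333332232101210302220203330123212133102113121121) (Net.cons (nat_lit 1) (nat_lit 0x451451150044001500404450011544154145405555111055551514150045141001505) Net.nil)))))))))))))))))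

theorem g458_ok : Net.ok 276 g458 = true := by decide +kernel

noncomputable def g459 : Net := (Net.cons (nat_lit 1) (nat_lit 0x45411451054150454045011100455054055454114100554110051044055455010000) (Net.cons (nat_lit 2) (nat_lit 0x313310122000102110332200032212120120100010101313130020312002112232200) (Net.cons (nat_lit 4) (nat_lit 0x2070100060c06000f0b0703070d040f0409000a07070c0d02080d040a0000000e) (Net.cons (nat_lit 8) (nat_lit 0x850054005a00b0009b0062007c00b8008300c8007f00520010006200010000000e) (Net.cons (nat_lit 16) (nat_lit 0x50000e2b300002ac20000b9ce000060dd0000d32a000028f000008011000008c0) (Net.cons (nat_lit 32) (nat_lit 0x504ba570000000028bc088200000000800398e000000000000518da) (Net.cons (nat_lit 64) (nat_lit 0x81306125a2a78c0e0000000000000000000000000001d6d8) (Net.cons (nat_lit 128) (nat_lit 0x4dbecb83e17c157ba08fbaa60bcb0c94) (Net.cons (nat_lit 256) (nat_lit 0xfdedf) (Net.cons (nat_lit 128) (nat_lit 691477) (Net.cons (nat_lit 64) (nat_lit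 0x8bcc67552ad22f2f00000000000000003a4997683960dfd8) (Net.cons (nat_lit 32) (nat_lit 0xbd316b7e0000000044a9898700000000b91639e4000000007cb4c97a) (Net.cons (nat_lit 16) (nat_lit 0x40000e2920000aae30000b8ef0000f07d0000538b0000ad51000000b100000867) (Net.cons (nat_lit 8) (nat_lit 0x2500d500db00b0001a00ef00fc003f0087004800fe00d3009000e300800001008a) (Net.cons (nat_lit 4) (nat_lit 0x2070100070c06000e0a0703070d040f0409000a07070c0d03080d050a0000010e) (Net.cons (nat_lit 2) (nat_lit 0x313311122000102110332200032212120020100010101313130020312002112222200) (Net.cons (nat_lit 1) (nat_lit 0x45411455054151454045011100455054155454115100554110051044055455050400) Net.nil)))))))))))))))))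

theorem g459_ok : Net.ok 276 g459 = true := by decide +kernel

noncomputable def V460 : List Net := [g458, g459]

theorem V460_ok : okE 276 V460 = true := (okE_cons.2 ⟨g458_ok, (okE_cons.2 ⟨g459_ok, (okE_nil 276)⟩)⟩)

noncomputable def V462 : List Net := [g459]

theorem V462_ok : okE 276 V462 = true := (okE_cons.2 ⟨g459_ok, (okE_nil 276)⟩)

noncomputable def V463 : List Net := []

theorem V463_ok : okE 276 V463 = true := (okE_nil 276)

noncomputable def tt_c6_cnt_EG : List Net := [g414, g419, g420, g417, n_u, g124, g125, g126, g127, n_k3, n_t, g458, g459]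

theorem tt_c6_cnt_EG_ok : okE 276 tt_c6_cnt_EG = true := (okE_cons.2 ⟨g414_ok, (okE_cons.2 ⟨g419_ok, (okE_cons.2 ⟨g420_ok, (okE_cons.2 ⟨g417_ok, (okE_cons.2 ⟨n_u_ok, (okE_cons.2 ⟨g124_ok, (okE_cons.2 ⟨g125_ok, (okE_cons.2 ⟨g126_ok, (okE_cons.2 ⟨g127_ok, (okE_cons.2 ⟨n_k3_ok, (okE_cons.2 ⟨n_t_ok, (okE_cons.2 ⟨g458_ok, (okE_cons.2 ⟨g459_ok, (okE_nil 276)⟩)⟩)⟩)⟩)⟩)⟩)⟩)⟩)⟩)⟩)⟩)⟩)⟩)

noncomputable def g464 : Net := (Net.cons (nat_lit 1) (nat_lit 0x151144011151010455501004014004010555540015004051451511010041155011010) (Net.cons (nat_lit 2) (nat_lit 0x231320102230212112300302002123003032221330113112321200322303300201000) (Net.cons (nat_lit 4) (nat_lit 0x605070f0404070c060900010907020d010408080a020600040008020e04070d0409) (Net.cons (nat_lit 8) (nat_lit 0xbd001200a100cf00e800b6008b001a00cf00f900e10026002300bd009c00d30001) (Net.cons (nat_lit 16) (nat_lit 0x500003ba200008ab40000c2cc000064d1000024c10000c0250000892000002500) (Net.cons (nat_lit 32) (nat_lit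 0x2fbf467a00000000097de58700000000e442c022000000000006b8e4) (Net.cons (nat_lit 64) (nat_lit 0x86130518e202ac5a00000000000000000000000000048518) (Net.cons (nat_lit 128) (nat_lit 0x179c1affd026c51bc16b45c62e1b0119) (Net.cons (nat_lit 256) (nat_lit 0xfbdfd) (Net.cons (nat_lit 128) (nat_lit 141817) (Net.cons (nat_lit 64) (nat_lit 0xcaa940bb81c4d24c0000000000000000279d3069865263c8) (Net.cons (nat_lit 32) (nat_lit 0x2e34d83800000000e37bf28900000000f25306d000000000d2ae1b71) (Net.cons (nat_lit 16) (nat_lit 0xf000036cc00008c7700002e7300003e200000b53d00003c6000002dfb0000b11f) (Net.cons (nat_lit 8) (nat_lit 0x5b001500ca00d9004e00230038008a001a006d00a2007d005d00f3007b00c20031) (Net.cons (nat_lit 4) (nat_lit 0xd0e01020a080708050d0104000a0c01040e010e0c030f05080e020c04050f0e0804) (Net.cons (nat_lit 2) (nat_lit 0x31313300310132120311100000022012121202123233213311003133012232001210) (Net.cons (nat_lit 1) (nat_lit 0x105141411004500045500411504115500450010041415511145115101151104541100)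 Net.nil)))))))))))))))))

theorem g464_ok : Net.ok 276 g464 = true := by decide +kernel

noncomputable def g465 : Net := (Net.cons (nat_lit 1) (nat_lit 0x1445540040055510505140554414044541010505055000011510155045440510000) (Net.cons (nat_lit 2) (nat_lit 0x1112222101313201120203203230012031002000213231221232323021010020) (Net.cons (nat_lit 4) (nat_lit 0x405050c0b0e0e09010e030b02040f0a020e0d060e0d0a0a0d0b0304040a08060901) (Net.cons (nat_lit 8) (nat_lit 0x67005000b9006e00f9000e00a1007900cc000100e0009900900047006c00c5000e) (Net.cons (nat_lit 16) (nat_lit 0x80000fad80000543900004ec60000c3170000c63700001034000080b600009880) (Net.cons (nat_lit 32) (nat_lit 0x1915987400000000c9fcaa6e00000000946dc2a00000000000066cc8) (Net.cons (nat_lit 64) (nat_lit 0x104d7cd4e4836ce8000000000000000000000000000cc371) (Net.cons (nat_lit 128) (nat_lit 0xf3e66a2a45ddd6c0872914f6aa170412) (Net.cons (nat_lit 256) (nat_lit 0xfffff) (Net.cons (nat_lit 128) (nat_lit 834605) (Net.cons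 (nat_lit 64) (nat_lit 0xcc2bf50c07f46788000000000000000086d4778ffb25df87) (Net.cons (nat_lit 32) (nat_lit 0x5c40bba50000000036dde4680000000051d96c9300000000c670e03d) (Net.cons (nat_lit 16) (nat_lit 0xb0000c12b0000fabb0000248100004a280000b35f00003f450000b6280000bc79) (Net.cons (nat_lit 8) (nat_lit 0xec005100a300c3006f008d00f4006200b1000300a0000a00e300cf00ef00dd0090) (Net.cons (nat_lit 4) (nat_lit 0x1010403010d060001010801090000000403030d0c040a0d0d06020b0d0e0d020104) (Net.cons (nat_lit 2) (nat_lit 0x130301300231132302001101223211020223212010301022130203010221202130022) (Net.cons (nat_lit 1) (nat_lit 0x105505555444155554415415100511110150150415505454554010044151151154454) Net.nil)))))))))))))))))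

theorem g465_ok : Net.ok 276 g465 = true := by decide +kernel

noncomputable def g466 : Net := (Net.cons (nat_lit 1) (nat_lit 0x404415454400514010540451510500014111555541115010545444051405441445140) (Net.cons (nat_lit 2) (nat_lit 0x102320130201111013122311332200313100103233310331120031122133101300200) (Net.cons (nat_lit 4) (nat_lit 0x90f03070c0e0d0d080b0b0700000e0b08060a020c06020a0d0b070403040a0d0a00) (Net.cons (nat_lit 8) (nat_lit 0xef002f00ee00ff008800a400ed00e500de00ae004f003400e50036004d00010008) (Net.cons (nat_lit 16) (nat_lit 0x80000059400001aa800002d1b0000054e0000b18f000032220000050800000c40) (Net.cons (nat_lit 32) (nat_lit 0x2a3015b600000000368b8f00000000009341c5570000000000090101) (Net.cons (nat_lit 64) (nat_lit 0x25b1104248b06000000000000000000000000000b2014) (Net.cons (nat_lit 128) (nat_lit 0x3f84d781287a7bf8b6e208d255919f4a) (Net.cons (nat_lit 256) (nat_lit 770015) (Net.cons (nat_lit 128) (nat_lit 813620) (Net.cons (nat_lit 64) (nat_lit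 0xf3490ded6a1c6ca1000000000000000055ca45d7ef4e8250) (Net.cons (nat_lit 32) (nat_lit 0x6039c4890000000053e2e18200000000cbd0aeed00000000ea1928a5) (Net.cons (nat_lit 16) (nat_lit 0x900009c120000ac1a0000d7a600002f390000bb8600001e690000047e0000e16f) (Net.cons (nat_lit 8) (nat_lit 0xfe006400dc00420050001600ee0010000d000b006e0048003600d3008600360057) (Net.cons (nat_lit 4) (nat_lit 0xa0f0509040e0b09050c09060a0d010004060b00080f060b090d0100030d04010d0c) (Net.cons (nat_lit 2) (nat_lit 0x131202133220320302013112030121020301133210202123300211122312101232000) (Net.cons (nat_lit 1) (nat_lit 0x411404504145100144041405145545105504144114411155505000114004415555040) Net.nil)))))))))))))))))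

theorem g466_ok : Net.ok 276 g466 = true := by decide +kernel

noncomputable def tt_c7_K : List Net := [g464, g465, g466, n_t, n_u]

theorem tt_c7_K_ok : okE 276 tt_c7_K = true := (okE_cons.2 ⟨g464_ok, (okE_cons.2 ⟨g465_ok, (okE_cons.2 ⟨g466_ok, (okE_cons.2 ⟨n_t_ok, (okE_cons.2 ⟨n_u_ok, (okE_nil 276)⟩)⟩)⟩)⟩)⟩)

noncomputable def g468 : Net := (Net.cons (nat_lit 1) (nat_lit 0x114144150410015541151011114540051445544505005150515041400150105550504) (Net.cons (nat_lit 2) (nat_lit 0x130103030212210122101030101322332233003112210220130011021220322011220) (Net.cons (nat_lit 4) (nat_lit 0xb04000208010408000b0a070e09000e0d06050105030c080a02050b04030a060800) (Net.cons (nat_lit 8) (nat_lit 0x74001700b400b3007d00aa0073002c0094004400ac00e600dd008100c800000006) (Net.cons (nat_lit 16) (nat_lit 0x1000017e10000cbde00001f9a00008c680000da8e000083c100001a94000080c0) (Net.cons (nat_lit 32) (nat_lit 0x282c499800000000f440283f00000000432000d40000000000015a00) (Net.cons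 (nat_lit 64) (nat_lit 0x3d562102681f004e00000000000000000000000000061ac4) (Net.cons (nat_lit 128) (nat_lit 0xe9b62ece1e55217c14e08fcdf14d85c6) (Net.cons (nat_lit 256) (nat_lit 0xfffd6) (Net.cons (nat_lit 128) (nat_lit 501572) (Net.cons (nat_lit 64) (nat_lit 0x2eac23fe0478fecc00000000000000000c39dcb19edc92e2) (Net.cons (nat_lit 32) (nat_lit 0x80c8ce5b00000000e70f8e1900000000e1c411d40000000095772c56) (Net.cons (nat_lit 16) (nat_lit 0xd0000c523000097e70000a0f1000024e50000def90000d534000076a5000087c2) (Net.cons (nat_lit 8) (nat_lit 0x2a007300a3006c007f0046009d0018000f00ec0089000a00d2009a00ed00640073) (Net.cons (nat_lit 4) (nat_lit 0xb0509090a0d02090402030a030f0608050709050b0104060d0a020c04030c080701) (Net.cons (nat_lit 2) (nat_lit 0x231001010103212111211221032011123303200111220331022301021131032111001) (Net.cons (nat_lit 1) (nat_lit 0x114401111500511555505505454141514415541444055005001005014150104454140) Net.nil)))))))))))))))))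

theorem g468_ok : Net.ok 276 g468 = true := by decide +kernel

noncomputable def g469 : Net := (Net.cons (nat_lit 1) (nat_lit 0x444154514001440010555400554445104014011551101501510101400040050044000) (Net.cons (nat_lit 2) (nat_lit 0x221300310132203001113101310330230001220203210123111213220200032002000) (Net.cons (nat_lit 4) (nat_lit 0x40d010c06040a080a0d040601020a080d0b0e0304010b06040a0607070003080202) (Net.cons (nat_lit 8) (nat_lit 0x9300b000ec001600e60054002b001700350092008700690068004e001900030000) (Net.cons (nat_lit 16) (nat_lit 0x5000007e1000055a4000096480000030b0000b080000050200000040000000520) (Net.cons (nat_lit 32) (nat_lit 0x781a80fd000000005441a40c00000000003482b50000000000051504) (Net.cons (nat_lit 64) (nat_lit 0x3054844062c57130000000000000000000000000004d054) (Net.cons (nat_lit 128) (nat_lit 0x97ba02176accf49d1cdf4a531de6b312) (Net.cons (nat_lit 256) (nat_lit 0xff776) (Net.cons (nat_lit 128) (nat_lit 504346) (Net.cons (nat_lit 64)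 (nat_lit 0x13d459514ebf563c0000000000000000919520b508c55a5d) (Net.cons (nat_lit 32) (nat_lit 0x79d8c1bb000000005401ad0800000000003492b40000000086849500) (Net.cons (nat_lit 16) (nat_lit 0x70000c7a6000099f60000d73b000063480000309300009177000085520000e567) (Net.cons (nat_lit 8) (nat_lit 0xd200f000ac005700f60016006a00df00f5009300e700290028007f005b00430040) (Net.cons (nat_lit 4) (nat_lit 0x40d010c06040a0c0a090406010202040d0b0e0704010b0e040a0607030003090602) (Net.cons (nat_lit 2) (nat_lit 0x221300310132203001113101310330230001220203210123111213220200032002000) (Net.cons (nat_lit 1) (nat_lit 0x444154514001440010555410554445104014011551101501510101400040150044000) Net.nil)))))))))))))))))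

theorem g469_ok : Net.ok 276 g469 = true := by decide +kernel

noncomputable def g470 : Net := (Net.cons (nat_lit 1) (nat_lit 0x514444554510554555014440404415045501500050051104541115011104550504550) (Net.cons (nat_lit 2) (nat_lit 0x213033312302213020130323111330222302302212133003322331033123232313100) (Net.cons (nat_lit 4) (nat_lit 0xa060d0b020603040e0f030c08070e07000d090b050c030908080e060f080c020000) (Net.cons (nat_lit 8) (nat_lit 0xd10039007c00e1005b003100dd00010019000d00d5004a00b6004b003100720000) (Net.cons (nat_lit 16) (nat_lit 0x40000239b000009ca00002a1e0000288a0000dcd100004432000000e200008200) (Net.cons (nat_lit 32) (nat_lit 0xc10d81c500000000335558bd000000002023d6830000000000004b80) (Net.cons (nat_lit 64) (nat_lit 0x9911440505010cd0000000000000000000000000000500a) (Net.cons (nat_lit 128) (nat_lit 0xc5a98035e19314fae8341454b6ca8fb9) (Net.cons (nat_lit 256) (nat_lit 982971) (Net.cons (nat_lit 128) (nat_lit 574526) (Net.cons (nat_lit 64) (nat_lit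 0x26d508fcc3d21b12000000000000000045141fdbe339947b) (Net.cons (nat_lit 32) (nat_lit 0x558579c600000000f79d6862000000000dc475be000000008954b4ed) (Net.cons (nat_lit 16) (nat_lit 0x2000006970000138b000059a70000d3ae00004a6b000012f200003a770000e374) (Net.cons (nat_lit 8) (nat_lit 0x99004200e1004b0058003e00e2009f000200e7005100d100fe00aa008800c1007a) (Net.cons (nat_lit 4) (nat_lit 0x7020d0a0802010c0c0d0d0d0c050d060b0e0807020d0f0e0f07010306050c080506) (Net.cons (nat_lit 2) (nat_lit 0x102023223303103222020313021020233312213333012320321032323221313010130) (Net.cons (nat_lit 1) (nat_lit 0x105140041111541510410504151115101150514001404411114055445004050051414) Net.nil)))))))))))))))))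

theorem g470_ok : Net.ok 276 g470 = true := by decide +kernel

noncomputable def V471 : List Net := [g468, g469, g470, n_t, n_u]

theorem V471_ok : okE 276 V471 = true := (okE_cons.2 ⟨g468_ok, (okE_cons.2 ⟨g469_ok, (okE_cons.2 ⟨g470_ok, (okE_cons.2 ⟨n_t_ok, (okE_cons.2 ⟨n_u_ok, (okE_nil 276)⟩)⟩)⟩)⟩)⟩)

noncomputable def V473 : List Net := [g469, g470, n_t, n_u]

theorem V473_ok : okE 276 V473 = true := (okE_cons.2 ⟨g469_ok, (okE_cons.2 ⟨g470_ok, (okE_cons.2 ⟨n_t_ok, (okE_cons.2 ⟨n_u_ok, (okE_nil 276)⟩)⟩)⟩)⟩)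

noncomputable def V474 : List Net := [g470, n_t, n_u]

theorem V474_ok : okE 276 V474 = true := (okE_cons.2 ⟨g470_ok, (okE_cons.2 ⟨n_t_ok, (okE_cons.2 ⟨n_u_ok, (okE_nil 276)⟩)⟩)⟩)

noncomputable def V475 : List Net := [n_t, n_u]

theorem V475_ok : okE 276 V475 = true := (okE_cons.2 ⟨n_t_ok, (okE_cons.2 ⟨n_u_ok, (okE_nil 276)⟩)⟩)

noncomputable def V476 : List Net := [n_u]

theorem V476_ok : okE 276 V476 = true := (okE_cons.2 ⟨n_u_ok, (okE_nil 276)⟩)

noncomputable def V477 : List Net := []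

theorem V477_ok : okE 276 V477 = true := (okE_nil 276)

noncomputable def tt_c7_cnt_EG : List Net := [g124, g125, g126, g127, n_k3, n_t, g469, g470, n_u, g468]

theorem tt_c7_cnt_EG_ok : okE 276 tt_c7_cnt_EG = true := (okE_cons.2 ⟨g124_ok, (okE_cons.2 ⟨g125_ok, (okE_cons.2 ⟨g126_ok, (okE_cons.2 ⟨g127_ok, (okE_cons.2 ⟨n_k3_ok, (okE_cons.2 ⟨n_t_ok, (okE_cons.2 ⟨g469_ok, (okE_cons.2 ⟨g470_ok, (okE_cons.2 ⟨n_u_ok, (okE_cons.2 ⟨g468_ok, (okE_nil 276)⟩)⟩)⟩)⟩)⟩)⟩)⟩)⟩)⟩)⟩)

noncomputable def g478 : Net := (Net.cons (nat_lit 1) (nat_lit 0x515100411100404154515150111141401540100414140455004101000444114140410) (Net.cons (nat_lit 2) (nat_lit 0x323103110321020310301211130320000131202231001102330303300333101222330) (Net.cons (nat_lit 4) (nat_lit 0x2050d030c0d0b0f0e0f02090c0304060102090206040606090f00080e070e080a02) (Net.cons (nat_lit 8) (nat_lit 0x500003005100ad009800db00fe00b20083000700880041000a0070001a00a30001) (Net.cons (nat_lit 16) (nat_lit 0x70000dcc0000054e6000062c2000094820000d1d3000052eb0000a5870000a030)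 (Net.cons (nat_lit 32) (nat_lit 0x418102cd00000000c5e71e3e00000000004df3fb000000000004002c) (Net.cons (nat_lit 64) (nat_lit 0x210cc1006611a0f900000000000000000000000000047ba0) (Net.cons (nat_lit 128) (nat_lit 0x5d247856ad26f3796e2885485bd49aef) (Net.cons (nat_lit 256) (nat_lit 457727) (Net.cons (nat_lit 128) (nat_lit 0xfd669) (Net.cons (nat_lit 64) (nat_lit 0x69fc8520ba62fe720000000000000000e33a7f3543539221) (Net.cons (nat_lit 32) (nat_lit 0xbf11cc4e00000000d10fbe2100000000468ad48b0000000006671a94) (Net.cons (nat_lit 16) (nat_lit 0xf0000b5e80000cc9b0000364f000075100000b8ed000093bf0000412100009b8f) (Net.cons (nat_lit 8) (nat_lit 0xd200fa0074006c00fa004a00710093006200bc00b40028000c00de00c700fd0043) (Net.cons (nat_lit 4) (nat_lit 0x8000b0f0e02050009090408070b0f0f05060b060802010c070a060c0c060d0a060c) (Net.cons (nat_lit 2) (nat_lit 0x311001031030322123103213312003010331133131000122210031222301023331213) (Net.cons (nat_lit 1) (nat_lit 0x501545114015010005540000510111100144504004151141154551004400555014054)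 Net.nil)))))))))))))))))

theorem g478_ok : Net.ok 276 g478 = true := by decide +kernel

noncomputable def g479 : Net := (Net.cons (nat_lit 1) (nat_lit 0x450151010411044041515141141144010445100005505044044450514455104501140) (Net.cons (nat_lit 2) (nat_lit 0x310120023233123320130012331210123131332003312233122232032113210022010) (Net.cons (nat_lit 4) (nat_lit 0x60f070d060b0901070a070909070e0909010a050901050201060703050400060500) (Net.cons (nat_lit 8) (nat_lit 0xe20008007b008500ea001c00c00091006000ad00fc008a00ab009a008700900005) (Net.cons (nat_lit 16) (nat_lit 0x800002c7e0000760f00005dc30000980e00004793000041770000245900002880) (Net.cons (nat_lit 32) (nat_lit 0x404649a1000000001867ecf00000000058c6e4d200000000000a1146) (Net.cons (nat_lit 64) (nat_lit 0x20c6001a014c003c00000000000000000000000000053c94) (Net.cons (nat_lit 128) (nat_lit 0x846b5459ef9c9d2fe7948b26b650c82e) (Net.cons (nat_lit 256) (nat_lit 0xffffe) (Net.cons (nat_lit 128) (nat_lit 10749)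 (Net.cons (nat_lit 64) (nat_lit 0x783cbb51f6d96f92000000000000000098b0ed0042227007) (Net.cons (nat_lit 32) (nat_lit 0x3cb5e63000000008b7fcc9c00000000de9c993500000000baad9fea) (Net.cons (nat_lit 16) (nat_lit 0x80000be2b00006d9b00006b720000a83a000010ed0000b91c00002bf60000aad5) (Net.cons (nat_lit 8) (nat_lit 0xe5000c00fd00b900da0070009600dc008100b9007900dd0088009900ae00df0051) (Net.cons (nat_lit 4) (nat_lit 0x9070402040702000b040608060a0d000d060b0c0b010c070c0006040b020b050a08) (Net.cons (nat_lit 2) (nat_lit 0x202333310012322122200211112201303032130333220333310202031001130200130) (Net.cons (nat_lit 1) (nat_lit 0x551105054454104040550414100000504454005011154445140055414504501105401) Net.nil)))))))))))))))))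

theorem g479_ok : Net.ok 276 g479 = true := by decide +kernel

noncomputable def g480 : Net := (Net.cons (nat_lit 1) (nat_lit 0x504540451511154144045115405450104110011110151501451044555040545100004) (Net.cons (nat_lit 2) (nat_lit 0x103032330023010030001301012130223223131223230112122332120211023310120) (Net.cons (nat_lit 4) (nat_lit 0xd0d01010904070a0f010a0a06040e0b0c0e0101020d0a0c0b0d0f07090502010905) (Net.cons (nat_lit 8) (nat_lit 0x9800c6002f007a00b0008c008f00c200c8009d0054009a00e6004b008000480005) (Net.cons (nat_lit 16) (nat_lit 0xa59e00000af60000a4190000da3300001f930000045b0000c71f0000f220) (Net.cons (nat_lit 32) (nat_lit 0x8d00482500000000bf44300200000000b0912ab40000000000099b10) (Net.cons (nat_lit 64) (nat_lit 0x490057898829d25000000000000000000000000000060c8) (Net.cons (nat_lit 128) (nat_lit 0x8373dc82ecb88016bf89737e10687835) (Net.cons (nat_lit 256) (nat_lit 916477) (Net.cons (nat_lit 128) (nat_lit 466237) (Net.cons (nat_lit 64) (nat_lit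 0x1a0b4bb3aad005bb00000000000000008f92b0cc9e8b8a32) (Net.cons (nat_lit 32) (nat_lit 0x888c608d000000002a9de6ca000000001b605e4500000000c7d512e7) (Net.cons (nat_lit 16) (nat_lit 0x9000062de000080d90000017e00004c9800007dbb0000dba900008a9c0000b408) (Net.cons (nat_lit 8) (nat_lit 0x900a600b90052003100e8004d000700e1005500b5008500c3001a0035004200c2) (Net.cons (nat_lit 4) (nat_lit 0xc060f0f0c090d050a0305020d06000801070c0f010805040a06060c0504000d02) (Net.cons (nat_lit 2) (nat_lit 0x102033032333310222032331213010322232312123023002022222030311102022030) (Net.cons (nat_lit 1) (nat_lit 0x100451400011540011101151545104141001440514455445051051514405114045101) Net.nil)))))))))))))))))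

theorem g480_ok : Net.ok 276 g480 = true := by decide +kernel

noncomputable def tt_c8_K : List Net := [g478, g479, g480, n_tu, n_u]

theorem tt_c8_K_ok : okE 276 tt_c8_K = true := (okE_cons.2 ⟨g478_ok, (okE_cons.2 ⟨g479_ok, (okE_cons.2 ⟨g480_ok, (okE_cons.2 ⟨n_tu_ok, (okE_cons.2 ⟨n_u_ok, (okE_nil 276)⟩)⟩)⟩)⟩)⟩)

noncomputable def tt_c8_cnt_EG : List Net := [g124, g125, g126, g127, n_k3, n_t, g469, g470, n_u, g468]

theorem tt_c8_cnt_EG_ok : okE 276 tt_c8_cnt_EG = true := (okE_cons.2 ⟨g124_ok, (okE_cons.2 ⟨g125_ok, (okE_cons.2 ⟨g126_ok, (okE_cons.2 ⟨g127_ok, (okE_cons.2 ⟨n_k3_ok, (okE_cons.2 ⟨n_t_ok, (okE_cons.2 ⟨g469_ok, (okE_cons.2 ⟨g470_ok, (okE_cons.2 ⟨n_u_ok, (okE_cons.2 ⟨g468_ok, (okE_nil 276)⟩)⟩)⟩)⟩)⟩)⟩)⟩)⟩)⟩)⟩)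

noncomputable def g482 : Net := (Net.cons (nat_lit 1) (nat_lit 0x400504450154411415511401155414454410540500545544554500155101140054510) (Net.cons (nat_lit 2) (nat_lit 0x100012000102010321022333223221210033113123321331022003103002121121010) (Net.cons (nat_lit 4) (nat_lit 0x60c03000108030306020a0a0b05000b060d040e0a020401060c0a0309030d090f00) (Net.cons (nat_lit 8) (nat_lit 0x4c0004007f001d00c900d800ae00be00db004400990053005400f000a800620000) (Net.cons (nat_lit 16) (nat_lit 0x40000c0b800002ed3000071e8000012cc000088d40000320700004eb800002040) (Net.cons (nat_lit 32) (nat_lit 0x3d73578e000000008cf94c84000000009223cd480000000000002954) (Net.cons (nat_lit 64) (nat_lit 0x23df0102c0c73e9b0000000000000000000000000001c9c8) (Net.cons (nat_lit 128) (nat_lit 0x224a70dd8bb711ba5db5e3627647c48) (Net.cons (nat_lit 256) (nat_lit 392671) (Net.cons (nat_lit 128) (nat_lit 312972) (Net.cons (nat_lit 64) (nat_lit 0xe5e0e3e988823f8a0000000000000000ffd18edfabb38e72) (Net.cons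 (nat_lit 32) (nat_lit 0x2e7307cc0000000000d3ed3f0000000041726ded000000009491e54c) (Net.cons (nat_lit 16) (nat_lit 0x7f63000089f20000a5890000d2e80000bbf8000091bd0000eebe00000e32) (Net.cons (nat_lit 8) (nat_lit 0x7d002c0077002c0008009a002200bc000000b7006e00e1002300fc006d00f40019) (Net.cons (nat_lit 4) (nat_lit 0x5080a000e0e050406090001030108020a02000d000b080b010407090806020e090c) (Net.cons (nat_lit 2) (nat_lit 0x31110330303232331110103001102203223313313032031112330110130233032311) (Net.cons (nat_lit 1) (nat_lit 0x411401140104415554140404455154001011154511454151111005150150510044041) Net.nil)))))))))))))))))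

theorem g482_ok : Net.ok 276 g482 = true := by decide +kernel

noncomputable def g483 : Net := (Net.cons (nat_lit 1) (nat_lit 0x510105401400451505114151054005154140455005511555040555144414444555114) (Net.cons (nat_lit 2) (nat_lit 0x212003210332310312200020020103121110303203132102222020122322230222100) (Net.cons (nat_lit 4) (nat_lit 0xd0f0a0d05070a050e0c0c090d000f00070f0808090300010a0f0407040f0f090806) (Net.cons (nat_lit 8) (nat_lit 0x2a00a200500083007e00b90041005e001a00c800f100f7007f00b9002f00ea0000) (Net.cons (nat_lit 16) (nat_lit 0x4000096ef0000a1c4000099470000b70f000041af0000237800001900000005d0) (Net.cons (nat_lit 32) (nat_lit 0x3ce499130000000001598878000000001fa10b4d0000000000004b6d) (Net.cons (nat_lit 64) (nat_lit 0x442137b0e72b0f42000000000000000000000000000a8298) (Net.cons (nat_lit 128) (nat_lit 0x65f5b6a41b8cf17dab064916e4f2044a) (Net.cons (nat_lit 256) (nat_lit 716799) (Net.cons (nat_lit 128) (nat_lit 380664) (Net.cons (nat_lit 64)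 (nat_lit 0xba471e042bd386190000000000000000727875e3aeddd8a6) (Net.cons (nat_lit 32) (nat_lit 0x25ed8965000000006df996f100000000b3b8a24e00000000e797b532) (Net.cons (nat_lit 16) (nat_lit 0xe000018a700005c2b000042f800002a79000065d000003dad00001f220000b090) (Net.cons (nat_lit 8) (nat_lit 0xfd002500b4000f0022004f002a00f700fe00c5009c001100b30014002f00240077) (Net.cons (nat_lit 4) (nat_lit 0x10c04020509080203050b01000a0900010d0a060d0b01040e0e000e0b02000d0e0f) (Net.cons (nat_lit 2) (nat_lit 0x311303120312002131133310013211202211123223032333133033013022130123130) (Net.cons (nat_lit 1) (nat_lit 0x154105441500000441510451154050100504500550144404051045504544555040544) Net.nil)))))))))))))))))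

theorem g483_ok : Net.ok 276 g483 = true := by decide +kernel

noncomputable def g484 : Net := (Net.cons (nat_lit 1) (nat_lit 0x151044500400454541100550101405411500504111040041041444054100505104100) (Net.cons (nat_lit 2) (nat_lit 0x332110312332000323221333302133231232032133212300022132311102201110010) (Net.cons (nat_lit 4) (nat_lit 0xb060a0e0d04040f080d0905080b010600060f0c0f06060a0507080c020501050201) (Net.cons (nat_lit 8) (nat_lit 0x9a00d900d9005d0041009b0011001a005200900071000400c70016008400c0000a) (Net.cons (nat_lit 16) (nat_lit 0x90000abc1000013a100005fca000027920000bda40000a28a0000ba5c00009620) (Net.cons (nat_lit 32) (nat_lit 0x9175c0f800000000a6cf821c00000000c6855690000000000003a601) (Net.cons (nat_lit 64) (nat_lit 0xc331800440004146000000000000000000000000000314b0) (Net.cons (nat_lit 128) (nat_lit 0x5bca21342098922bb43ffdcb4091400a) (Net.cons (nat_lit 256) (nat_lit 784123) (Net.cons (nat_lit 128) (nat_lit 7117) (Net.cons (nat_lit 64) (nat_lit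 0x2d85359e2f696d0e0000000000000000c174943a07f1fec0) (Net.cons (nat_lit 32) (nat_lit 0x41f8257600000000c4fe295300000000d1eaaab70000000043201602) (Net.cons (nat_lit 16) (nat_lit 0xa0000ba56000004980000592f000010170000eaf40000b7fc0000186c00005012) (Net.cons (nat_lit 8) (nat_lit 0xe8002f00b80060002700b1005800f4008c000600350084002d001600400013008b) (Net.cons (nat_lit 4) (nat_lit 0x904050801040e0f0b0b0d05000b0f020d0e080f0802070a050f0b080d05080a000e) (Net.cons (nat_lit 2) (nat_lit 0x233111201130013300021332120310102232022212312300213102221110203300030) (Net.cons (nat_lit 1) (nat_lit 0x150041410414054445544444140105510501515011051144150005104545145044514) Net.nil)))))))))))))))))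

theorem g484_ok : Net.ok 276 g484 = true := by decide +kernel

noncomputable def tt_c9_K : List Net := [g482, g483, g484, n_t, n_u]

theorem tt_c9_K_ok : okE 276 tt_c9_K = true := (okE_cons.2 ⟨g482_ok, (okE_cons.2 ⟨g483_ok, (okE_cons.2 ⟨g484_ok, (okE_cons.2 ⟨n_t_ok, (okE_cons.2 ⟨n_u_ok, (okE_nil 276)⟩)⟩)⟩)⟩)⟩)

noncomputable def tt_c9_cnt_EG : List Net := [g124, g125, g126, g127, n_k3, n_t, g469, g470, n_u, g468]

theorem tt_c9_cnt_EG_ok : okE 276 tt_c9_cnt_EG = true := (okE_cons.2 ⟨g124_ok, (okE_cons.2 ⟨g125_ok, (okE_cons.2 ⟨g126_ok, (okE_cons.2 ⟨g127_ok, (okE_cons.2 ⟨n_k3_ok, (okE_cons.2 ⟨n_t_ok, (okE_cons.2 ⟨g469_ok, (okE_cons.2 ⟨g470_ok, (okE_cons.2 ⟨n_u_ok, (okE_cons.2 ⟨g468_ok, (okE_nil 276)⟩)⟩)⟩)⟩)⟩)⟩)⟩)⟩)⟩)⟩)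

noncomputable def g486 : Net := (Net.cons (nat_lit 1) (nat_lit 0x54415150045511140115040105454015544414144014045401401545554510401140) (Net.cons (nat_lit 2) (nat_lit 0x331123000101012211101112222110203031322131212232000031202123102121200) (Net.cons (nat_lit 4) (nat_lit 0x80d00000c06060b0a040604010e090c080f0f0201040902030a0106020f0e0a0f00) (Net.cons (nat_lit 8) (nat_lit 0x65007b0036005e00af00c00072009000cf009a008c00e800e00026008000a10000) (Net.cons (nat_lit 16) (nat_lit 0x10000ea5b0000b8280000007e00003242000004ef0000100d00003a3b00008280) (Net.cons (nat_lit 32) (nat_lit 0x180088410000000005d5e4750000000018155486000000000008090c) (Net.cons (nat_lit 64) (nat_lit 0x8834044094a3801e00000000000000000000000000000068) (Net.cons (nat_lit 128) (nat_lit 0x4d38bcbc98cfb619a74688750563d1d7) (Net.cons (nat_lit 256) (nat_lit 0xfdbff) (Net.cons (nat_lit 128) (nat_lit 516149) (Net.cons (nat_lit 64) (nat_lit 0xacfcc8e8203a5ea50000000000000000cd3c7017f0693df1) (Net.cons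 (nat_lit 32) (nat_lit 0x5ae0385f00000000895e31300000000032330ee6000000003e40383c) (Net.cons (nat_lit 16) (nat_lit 0x60000e4320000410c00008edb00009d0b000031ec00006f030000c6220000a5c4) (Net.cons (nat_lit 8) (nat_lit 0x20005c0039006f000400cc00c00099004300fb00140059001c006600e500cd0022) (Net.cons (nat_lit 4) (nat_lit 0x7040805040909070a0c060d000604080d0e040b070e0701010c0f02000a010f0c03) (Net.cons (nat_lit 2) (nat_lit 0x10113232230332212332211122010000023330312311322013202031122022000) (Net.cons (nat_lit 1) (nat_lit 0x400404550440450555500010050014150501015104055015150001041455115000154) Net.nil)))))))))))))))))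

theorem g486_ok : Net.ok 276 g486 = true := by decide +kernel

noncomputable def g487 : Net := (Net.cons (nat_lit 1) (nat_lit 0x404000051545050511004441450400450010410541140511511044555111150154400) (Net.cons (nat_lit 2) (nat_lit 0x120122230032320102300321013110220033021200210330110113122230023020120) (Net.cons (nat_lit 4) (nat_lit 0x7080c050f05040e0a070b0a0a07030107070e0c0b0808030a00020a050108000302) (Net.cons (nat_lit 8) (nat_lit 0x2c0017008000d10012008b0060001500c3007a001a0059002b00df008000040006) (Net.cons (nat_lit 16) (nat_lit 0x2000053b50000955800006176000074860000886000008d2200004d2100006200) (Net.cons (nat_lit 32) (nat_lit 0xf95e5309000000008592b62e00000000c17ee6e4000000000001082c) (Net.cons (nat_lit 64) (nat_lit 0x39ab12044e82447000000000000000000000000000e2444) (Net.cons (nat_lit 128) (nat_lit 0xbe47e73f82fb090fd9fc5c515402228e) (Net.cons (nat_lit 256) (nat_lit 0xf6fef) (Net.cons (nat_lit 128) (nat_lit 448214) (Net.cons (nat_lit 64)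 (nat_lit 0xef3f356a055ee26c00000000000000005aa615df9dce4d74) (Net.cons (nat_lit 32) (nat_lit 0x2d3ef78100000000e90cbebe00000000877458f300000000804377c8) (Net.cons (nat_lit 16) (nat_lit 0x8000053370000719b00002fac0000397a0000c5cd0000ae320000eb340000a217) (Net.cons (nat_lit 8) (nat_lit 0x5d008900b3009f00e900930073003c005c006300e5004c00a200f700fd008b0007) (Net.cons (nat_lit 4) (nat_lit 0xd04040e0405010d0c020d0f000b09090409070a070000020609090d080301040208) (Net.cons (nat_lit 2) (nat_lit 0x232331001332222220011322131302233000330130102300323030130023202333310) (Net.cons (nat_lit 1) (nat_lit 0x544011055444550511150040040454414110015050501415151155555005500144015) Net.nil)))))))))))))))))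

theorem g487_ok : Net.ok 276 g487 = true := by decide +kernel

noncomputable def tt_c10_K : List Net := [g486, g487, n_tu, n_u]

theorem tt_c10_K_ok : okE 276 tt_c10_K = true := (okE_cons.2 ⟨g486_ok, (okE_cons.2 ⟨g487_ok, (okE_cons.2 ⟨n_tu_ok, (okE_cons.2 ⟨n_u_ok, (okE_nil 276)⟩)⟩)⟩)⟩)

noncomputable def g489 : Net := (Net.cons (nat_lit 1) (nat_lit 0x110455500455141000045101055444444011100055011401155115514000144000044) (Net.cons (nat_lit 2) (nat_lit 0x313020231233321220011303102303013213000202121212032032202302132033200) (Net.cons (nat_lit 4) (nat_lit 0x50b0c0b020e030b0a0300050a0108080b090d060f0004060b010c0e0506010c02) (Net.cons (nat_lit 8) (nat_lit 0x8400b500bd009500a60049006200ef000f000c00f4006b00940006009400420008) (Net.cons (nat_lit 16) (nat_lit 0xb00007174000088e20000de82000064b60000640e000063e00000084300000660) (Net.cons (nat_lit 32) (nat_lit 0xf8f47b3a0000000012490804000000000e00a40200000000000a3742) (Net.cons (nat_lit 64) (nat_lit 0x405238589062812800000000000000000000000000002220)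 (Net.cons (nat_lit 128) (nat_lit 0x3327710a5de5a1c87e510ef6c096e12c) (Net.cons (nat_lit 256) (nat_lit 980991) (Net.cons (nat_lit 128) (nat_lit 536973) (Net.cons (nat_lit 64) (nat_lit 0xf66610fd7a3213e300000000000000008dfbbbeb8e5e4e07) (Net.cons (nat_lit 32) (nat_lit 0x34545b8c000000004df5201b00000000ec9bd30100000000ccc80d15) (Net.cons (nat_lit 16) (nat_lit 0xc00007b2e0000bdd100005aca00002af50000d91e0000f5a80000968e00006c38) (Net.cons (nat_lit 8) (nat_lit 0xc3005200b5008200b2005d009900a60070003d00850023000b009b002c0084008f) (Net.cons (nat_lit 4) (nat_lit 0xa0d02070a0e040c04040f070c09090803000b090b090a0c0802080e0c0106040202) (Net.cons (nat_lit 2) (nat_lit 0x121201320323123332022030022212333131131110022302301120322200211221030) (Net.cons (nat_lit 1) (nat_lit 0x401140444155541440550411454114441500144401400000100451105501455441010) Net.nil)))))))))))))))))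

theorem g489_ok : Net.ok 276 g489 = true := by decide +kernel

noncomputable def g490 : Net := (Net.cons (nat_lit 1) (nat_lit 0x441011441101515410151404150504140111501505011054005504011444111111110) (Net.cons (nat_lit 2) (nat_lit 0x213212032123310233133113312321220332203220001331220330230310131022300) (Net.cons (nat_lit 4) (nat_lit 0x20b020a0709020809090f020609000d0c03010c050709040b0d00070c07090c0c00) (Net.cons (nat_lit 8) (nat_lit 0x11006c008200a300a400ee007c0080002f001e001700bf006d000600ac00050000) (Net.cons (nat_lit 16) (nat_lit 0xb00001b2300002bcc000098f7000070400000b1ce000063340000d02100008180) (Net.cons (nat_lit 32) (nat_lit 0xa0995a1800000000d10183700000000019696bdb0000000000041208) (Net.cons (nat_lit 64) (nat_lit 0x8114402022b2ea74000000000000000000000000000841a3) (Net.cons (nat_lit 128) (nat_lit 0x10430e07f97c1e7ffb74eb610285c214) (Net.cons (nat_lit 256) (nat_lit 915391) (Net.cons (nat_lit 128) (nat_lit 668184) (Net.cons (nat_lit 64)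 (nat_lit 0xcb55082fd719f6fa00000000000000004de39d5565a0a4cd) (Net.cons (nat_lit 32) (nat_lit 0xf2112efe00000000ad310ce4000000009383fe8500000000550c9427) (Net.cons (nat_lit 16) (nat_lit 0x89260000774500002e7c0000cc6300002e74000014ca00009e0a00002486) (Net.cons (nat_lit 8) (nat_lit 0x900017008e00ba00ab003a0000001600ac008a0090006a00e9009200a3000500a0) (Net.cons (nat_lit 4) (nat_lit 0x603080c0e0d050f0f0d0f0a0b050509010a0d040e0e0f0c0a050e0509060b050d00) (Net.cons (nat_lit 2) (nat_lit 0x302021022303323322311211110003010312033303203130203132302010232212111) (Net.cons (nat_lit 1) (nat_lit 0x115110150440010510041551115510011115541045405405511540151045410511544) Net.nil)))))))))))))))))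

theorem g490_ok : Net.ok 276 g490 = true := by decide +kernel

noncomputable def g491 : Net := (Net.cons (nat_lit 1) (nat_lit 0x501005514045400505404114011415540044541541114141405441501444004550400) (Net.cons (nat_lit 2) (nat_lit 0x321320011033001220020112220103212202212131233301133001201110000000020) (Net.cons (nat_lit 4) (nat_lit 0x70e000b000d040505000a0f0c06030a0802090a0800060102000f0f090009040c08) (Net.cons (nat_lit 8) (nat_lit 0xea00a000c8003f006900ce002d0078000700b0005d000300ac004900a900000002) (Net.cons (nat_lit 16) (nat_lit 0x596000001b050000241200005e400000ae78000048120000904000000860) (Net.cons (nat_lit 32) (nat_lit 0x1afb06a600000000a0bc8d57000000002a40fc1000000000000a3c6e) (Net.cons (nat_lit 64) (nat_lit 0x290b094241a4134c00000000000000000000000000002e0c) (Net.cons (nat_lit 128) (nat_lit 0x43611d30a117a2256a2a0452e0e0928a) (Net.cons (nat_lit 256) (nat_lit 966382) (Net.cons (nat_lit 128) (nat_lit 574402) (Net.cons (nat_lit 64) (nat_lit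 0xabbcce9e9be4565f0000000000000000aad0e57ca400270c) (Net.cons (nat_lit 32) (nat_lit 0x3e9e05a200000000859c8c57000000002b09fff80000000039223d27) (Net.cons (nat_lit 16) (nat_lit 0x20000d924000059600000047100009e070000be1a000068530000980000006800) (Net.cons (nat_lit 8) (nat_lit 0xe0009800ca003d006100ee001f0058002700b8007d00030094004f00a10020008a) (Net.cons (nat_lit 4) (nat_lit 0x70f000b000d040505000a0f0c06030a0802090a0804060102000f0f090009050c08) (Net.cons (nat_lit 2) (nat_lit 0x120120011033003230220312220103212202212131233301133003321110000020020) (Net.cons (nat_lit 1) (nat_lit 0x501005514045400505404114011415540044541541114141405441501444004550400) Net.nil)))))))))))))))))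

theorem g491_ok : Net.ok 276 g491 = true := by decide +kernel

noncomputable def V492 : List Net := [g489, n_b, g490, g340, g491, n_t, n_u]

theorem V492_ok : okE 276 V492 = true := (okE_cons.2 ⟨g489_ok, (okE_cons.2 ⟨n_b_ok, (okE_cons.2 ⟨g490_ok, (okE_cons.2 ⟨g340_ok, (okE_cons.2 ⟨g491_ok, (okE_cons.2 ⟨n_t_ok, (okE_cons.2 ⟨n_u_ok, (okE_nil 276)⟩)⟩)⟩)⟩)⟩)⟩)⟩)

noncomputable def V494 : List Net := [n_b, g490, g340, g491, n_t, n_u]

theorem V494_ok : okE 276 V494 = true := (okE_cons.2 ⟨n_b_ok, (okE_cons.2 ⟨g490_ok, (okE_cons.2 ⟨g340_ok, (okE_cons.2 ⟨g491_ok, (okE_cons.2 ⟨n_t_ok, (okE_cons.2 ⟨n_u_ok, (okE_nil 276)⟩)⟩)⟩)⟩)⟩)⟩)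

noncomputable def V495 : List Net := [g340, g491, n_t, n_u]

theorem V495_ok : okE 276 V495 = true := (okE_cons.2 ⟨g340_ok, (okE_cons.2 ⟨g491_ok, (okE_cons.2 ⟨n_t_ok, (okE_cons.2 ⟨n_u_ok, (okE_nil 276)⟩)⟩)⟩)⟩)

noncomputable def V496 : List Net := [n_t, n_u]

theorem V496_ok : okE 276 V496 = true := (okE_cons.2 ⟨n_t_ok, (okE_cons.2 ⟨n_u_ok, (okE_nil 276)⟩)⟩)

noncomputable def V497 : List Net := [n_u]

theorem V497_ok : okE 276 V497 = true := (okE_cons.2 ⟨n_u_ok, (okE_nil 276)⟩)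

noncomputable def V498 : List Net := []

theorem V498_ok : okE 276 V498 = true := (okE_nil 276)

noncomputable def tt_c10_cnt_EG : List Net := [g468, g469, g470, n_t, n_u, g124, g125, g126, g127, n_k3, g489, n_b, g490, g340, g491]

theorem tt_c10_cnt_EG_ok : okE 276 tt_c10_cnt_EG = true := (okE_cons.2 ⟨g468_ok, (okE_cons.2 ⟨g469_ok, (okE_cons.2 ⟨g470_ok, (okE_cons.2 ⟨n_t_ok, (okE_cons.2 ⟨n_u_ok, (okE_cons.2 ⟨g124_ok, (okE_cons.2 ⟨g125_ok, (okE_cons.2 ⟨g126_ok, (okE_cons.2 ⟨g127_ok, (okE_cons.2 ⟨n_k3_ok, (okE_cons.2 ⟨g489_ok, (okE_cons.2 ⟨n_b_ok, (okE_cons.2 ⟨g490_ok, (okE_cons.2 ⟨g340_ok, (okE_cons.2 ⟨g491_ok, (okE_nil 276)⟩)⟩)⟩)⟩)⟩)⟩)⟩)⟩)⟩)⟩)⟩)⟩)⟩)⟩)⟩)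

noncomputable def g499 : Net := (Net.cons (nat_lit 1) (nat_lit 0x451114041000454510501415155501000514044515044510154041554110155000000) (Net.cons (nat_lit 2) (nat_lit 0x21001323022230012001123000033113022231022323222212013300130002002120) (Net.cons (nat_lit 4) (nat_lit 0xa0e000d030f050102040907080f0c0e0a030f0f000308030804000602060c0105) (Net.cons (nat_lit 8) (nat_lit 0x12006200e900510059007d00b7006100e40047009400820041009900ce00570000) (Net.cons (nat_lit 16) (nat_lit 0x30000f16e000038820000b376000061590000030e0000c46600000d08000008f0) (Net.cons (nat_lit 32) (nat_lit 0x870df0040000000072839dc500000000b8dd4b0500000000000dd0a0) (Net.cons (nat_lit 64) (nat_lit 0x420508e0844d6120000000000000000000000000000dfa14) (Net.cons (nat_lit 128) (nat_lit 0xdf83516624f1c24730d49d92e824a9b5) (Net.cons (nat_lit 256) (nat_lit 0xffffd) (Net.cons (nat_lit 128) (nat_lit 688519) (Net.cons (nat_lit 64) (nat_lit 0x9ad6d554e217ed5200000000000000002091d0460f442a91) (Net.cons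 (nat_lit 32) (nat_lit 0x319ccc0400000000ddac257500000000f47476ff000000007b9fff23) (Net.cons (nat_lit 16) (nat_lit 0x7000040ba0000c4370000fbaf00008a0900009ddd000024e1000050a400001fe0) (Net.cons (nat_lit 8) (nat_lit 0xbf00d80025001600c5001700fa001100cd00d9000f00e00035004b00b400f3004a) (Net.cons (nat_lit 4) (nat_lit 0x80903080104070509050f060d040a0d03080a08000a020c02040b050c0e0a0b010b) (Net.cons (nat_lit 2) (nat_lit 0x111102020131102213132200033221013323122113031033101210001010312102321) (Net.cons (nat_lit 1) (nat_lit 0x15145000010054105004054141154111101541154544451154444555411141150044) Net.nil)))))))))))))))))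

theorem g499_ok : Net.ok 276 g499 = true := by decide +kernel

noncomputable def g500 : Net := (Net.cons (nat_lit 1) (nat_lit 0x555114045005051441450414455541404015054405405511450455551500145501540) (Net.cons (nat_lit 2) (nat_lit 0x120212322202003232203301302230321001112312200121111233221330213110120) (Net.cons (nat_lit 4) (nat_lit 0xb050500010d0d0d0b0e0a0d06090f0402060407060d060a000c02060c0404050205) (Net.cons (nat_lit 8) (nat_lit 0x2b0028000100eb000000f6002800a8005c000d0056000a003f0087002d0007000c) (Net.cons (nat_lit 16) (nat_lit 0xb0000c0100000fddc00008dab0000cf05000026ce00001c200000d01e0000e680) (Net.cons (nat_lit 32) (nat_lit 0x741a3313000000004507131f00000000193cc2e2000000000006c11c) (Net.cons (nat_lit 64) (nat_lit 0x5a08cc20221a1d3800000000000000000000000000081f44) (Net.cons (nat_lit 128) (nat_lit 0x73d65b3888d838c59c69881a73ff49a) (Net.cons (nat_lit 256) (nat_lit 0xfffdf) (Net.cons (nat_lit 128) (nat_lit 985334) (Net.cons (nat_lit 64)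 (nat_lit 0x985d790d1d08f2830000000000000000ee5ddfbd75fd6302) (Net.cons (nat_lit 32) (nat_lit 0xc3135ce30000000037e17d9300000000609fda19000000000e65c51c) (Net.cons (nat_lit 16) (nat_lit 0xa0000d52500008e3f00008b5e00009b6200000fa70000c63d00009b7e000046d9) (Net.cons (nat_lit 8) (nat_lit 0xa600bc00f800a0008b00ff009e00d10090003000bf005500f2009a0012002b0031) (Net.cons (nat_lit 4) (nat_lit 0xe0d0905070a060a00080c0401040907030e020f0a0d0f05090c0b010d0f090e0f0c) (Net.cons (nat_lit 2) (nat_lit 0x11120210223030222013223302322303003311132310303023200212003220313320) (Net.cons (nat_lit 1) (nat_lit 0x110110441110541111150000055400055001151145001441410400011111050555405) Net.nil)))))))))))))))))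

theorem g500_ok : Net.ok 276 g500 = true := by decide +kernel

noncomputable def g501 : Net := (Net.cons (nat_lit 1) (nat_lit 0x444515410501005041040004105050045445000115550155014144404150401440140) (Net.cons (nat_lit 2) (nat_lit 0x120010221301030300113213202321010321222122001102120221302003220011220) (Net.cons (nat_lit 4) (nat_lit 0xd06060b09090d010e0f0a0c0c030b0c0b090e01000d01020806010d0a0b00090f01) (Net.cons (nat_lit 8) (nat_lit 0x1400bc0047006200b200b6002f00cf00c000f9003400d2000f0059008900440001) (Net.cons (nat_lit 16) (nat_lit 0x100002190000032ba0000e69500000a3b0000890d000014ac0000177b00006460) (Net.cons (nat_lit 32) (nat_lit 0x7aed340400000000155e2ae9000000008292e5820000000000009560) (Net.cons (nat_lit 64) (nat_lit 0x61922101d08101a100000000000000000000000000085207) (Net.cons (nat_lit 128) (nat_lit 0x7c588543b2cf52a79faa3c20435616ce) (Net.cons (nat_lit 256) (nat_lit 983023) (Net.cons (nat_lit 128) (nat_lit 431886) (Net.cons (nat_lit 64)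 (nat_lit 0x38fb31928e51b8f0000000000000000039ecb3185225d41f) (Net.cons (nat_lit 32) (nat_lit 0xb93bb6300000000068d731ef0000000066b6025a000000006765e196) (Net.cons (nat_lit 16) (nat_lit 0x4000039470000f9570000e6e600001b5100001966000033a400004d560000e122) (Net.cons (nat_lit 8) (nat_lit 0x6e00610054006e00b200b200d00016000800b8006600e2006a001e008200e600ac) (Net.cons (nat_lit 4) (nat_lit 0x60f0704070c080d0e0d000d02030b03060e0706030c0b0b0b02080001010007030e) (Net.cons (nat_lit 2) (nat_lit 0x232103033131112123211123202102001033300230223021312131301202001133121) (Net.cons (nat_lit 1) (nat_lit 0x444040541140141555040400500440405415401514451500040404440005054111115) Net.nil)))))))))))))))))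

theorem g501_ok : Net.ok 276 g501 = true := by decide +kernel

noncomputable def g502 : Net := (Net.cons (nat_lit 1) (nat_lit 0x501455504011015015445554104004155004105110115451115104141000405040050) (Net.cons (nat_lit 2) (nat_lit 0x211222220032031210013101203112232303333130313103103331022231222200000) (Net.cons (nat_lit 4) (nat_lit 0xc09020f0e010b010f070801030f01030f0f0f090702030b0707010b060301060708) (Net.cons (nat_lit 8) (nat_lit 0x72000a00670066001400e5002800b6003500fe00fa00ec00430088003f00950000) (Net.cons (nat_lit 16) (nat_lit 0x700005a9a0000e92c00002a4d00006d2e0000f24200005a08000050e700000050) (Net.cons (nat_lit 32) (nat_lit 0xae9490120000000072b8c84800000000726879c90000000000088928) (Net.cons (nat_lit 64) (nat_lit 0xad010d85212192310000000000000000000000000007122b) (Net.cons (nat_lit 128) (nat_lit 0x4645262af198c340a9aa09ad50ff4a60) (Net.cons (nat_lit 256) (nat_lit 0xfdb7f) (Net.cons (nat_lit 128) (nat_lit 30293) (Net.cons (nat_lit 64)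 (nat_lit 0x2bebe9415850916500000000000000000997e3790a7dedbe) (Net.cons (nat_lit 32) (nat_lit 0x8346a2dd00000000035df29a00000000f45c0f780000000083873e29) (Net.cons (nat_lit 16) (nat_lit 0x3000054900000d9800000772b00003eab00005aae0000dd7b0000753e0000036c) (Net.cons (nat_lit 8) (nat_lit 0xec002600af005000b400a5008500fc005100fa00d10079006300d60016001000d8) (Net.cons (nat_lit 4) (nat_lit 0xe0201010c050e080b0e06010d03010f0c0d040a0c01010a0f0305090f0f090d0405) (Net.cons (nat_lit 2) (nat_lit 0x22103302311032030211200301103030332113322131233011130100010033321330) (Net.cons (nat_lit 1) (nat_lit 0x441455505454410045040550514454105514011005101155115441100445014001510) Net.nil)))))))))))))))))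

theorem g502_ok : Net.ok 276 g502 = true := by decide +kernel

noncomputable def tt_c11_K : List Net := [g500, g501, g416, g502, n_u]

theorem tt_c11_K_ok : okE 276 tt_c11_K = true := (okE_cons.2 ⟨g500_ok, (okE_cons.2 ⟨g501_ok, (okE_cons.2 ⟨g416_ok, (okE_cons.2 ⟨g502_ok, (okE_cons.2 ⟨n_u_ok, (okE_nil 276)⟩)⟩)⟩)⟩)⟩)

noncomputable def tt_c11_cnt_EG : List Net := [g124, g125, g126, g127, n_k3, n_t, g414, g419, g420, g417, n_u]

theorem tt_c11_cnt_EG_ok : okE 276 tt_c11_cnt_EG = true := (okE_cons.2 ⟨g124_ok, (okE_cons.2 ⟨g125_ok, (okE_cons.2 ⟨g126_ok, (okE_cons.2 ⟨g127_ok, (okE_cons.2 ⟨n_k3_ok, (okE_cons.2 ⟨n_t_ok, (okE_cons.2 ⟨g414_ok, (okE_cons.2 ⟨g419_ok, (okE_cons.2 ⟨g420_ok, (okE_cons.2 ⟨g417_ok, (okE_cons.2 ⟨n_u_ok, (okE_nil 276)⟩)⟩)⟩)⟩)⟩)⟩)⟩)⟩)⟩)⟩)⟩)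

noncomputable def g504 : Net := (Net.cons (nat_lit 1) (nat_lit 0x454404140411011115105441145104501004514001405144541111040054140550540) (Net.cons (nat_lit 2) (nat_lit 0x12212112320123130221121132000122332222321312201202011211311323311030) (Net.cons (nat_lit 4) (nat_lit 0x8070d01000f0c06070d08060f08020f070d0400090f02000c0c020404030e0d0805) (Net.cons (nat_lit 8) (nat_lit 0xbe0007009400ca003200b1008f009b00bc007b00180089002800f8001300820004) (Net.cons (nat_lit 16) (nat_lit 0xb000068100000fe5f000022aa0000428b0000ae0b0000108300003e1a00009120) (Net.cons (nat_lit 32) (nat_lit 0x2a78a2810000000031d860e500000000582865f300000000000d8148) (Net.cons (nat_lit 64) (nat_lit 0x66c6a00b004e83e0000000000000000000000000002ec21) (Net.cons (nat_lit 128) (nat_lit 0xceed4decc34c4442d19233067c6b4d14) (Net.cons (nat_lit 256) (nat_lit 0xfff7d) (Net.cons (nat_lit 128) (nat_lit 587005) (Net.cons (nat_lit 64) (nat_lit 0x117000aac5ed35630000000000000000e9e2decb716aa1f2) (Net.cons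 (nat_lit 32) (nat_lit 0x68ff47b800000000831b3d6c000000009053f87d00000000a87d462e) (Net.cons (nat_lit 16) (nat_lit 0x700008440000038030000bdc000000b980000f561000098cf00002f430000b966) (Net.cons (nat_lit 8) (nat_lit 0xd7001c00c5009800bd0050004c0057006e007c00ca0059006e00e200aa0052006e) (Net.cons (nat_lit 4) (nat_lit 0x307030a01030e030f0d02040c06000f030a05010f05000a0400080a0606060d0a03) (Net.cons (nat_lit 2) (nat_lit 0x133000231332013020230112033000031313032331222121220200012330321302322) (Net.cons (nat_lit 1) (nat_lit 0x444401044004501510511401000100005155014415155451500500055414051555004) Net.nil)))))))))))))))))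

theorem g504_ok : Net.ok 276 g504 = true := by decide +kernel

noncomputable def g505 : Net := (Net.cons (nat_lit 1) (nat_lit 0x114101441011055041110101554404155040144455010500455100044010140500404) (Net.cons (nat_lit 2) (nat_lit 0x132302303113120322133013113123301021331120011132031011032202220033020) (Net.cons (nat_lit 4) (nat_lit 0xd00090d0209090a010709080b0f0d09060107070f04060a000200030d0b0f010508) (Net.cons (nat_lit 8) (nat_lit 0x70073004800a600270017007000cf00b0002a00800093000200d3000000070006) (Net.cons (nat_lit 16) (nat_lit 0xf0000b404000049960000010800008af200002b990000d58d0000ad8400006380) (Net.cons (nat_lit 32) (nat_lit 0x43bcd74a00000000038c46e6000000000504388e00000000000d04c8) (Net.cons (nat_lit 64) (nat_lit 0xa40531008894d00000000000000000000000000035200) (Net.cons (nat_lit 128) (nat_lit 0xa0d93a076bf176e94dc26e5c384d28c9) (Net.cons (nat_lit 256) (nat_lit 0xf7fdd) (Net.cons (nat_lit 128) (nat_lit 115037) (Net.cons (nat_lit 64) (nat_lit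 0x86a8131b4d8f602e0000000000000000816eb331cf98219f) (Net.cons (nat_lit 32) (nat_lit 0xda9adee5000000001c8336c500000000daa0491200000000369c42b4) (Net.cons (nat_lit 16) (nat_lit 0xd0000d7a00000f6760000d63e0000d0390000e1040000655b0000dda900002253) (Net.cons (nat_lit 8) (nat_lit 0xdc0082008e00810077001e00170039004e00f70028003a008d0053000200de0059) (Net.cons (nat_lit 4) (nat_lit 0x701010506050000000c090f08050f0b02070f0a000202020a0f05050c0c03030c0e) (Net.cons (nat_lit 2) (nat_lit 0x310022023321123121031302122103020122322011230212100111131302031103120) (Net.cons (nat_lit 1) (nat_lit 0x11544141150450401505455051105041414055115040111054115440105545114545) Net.nil)))))))))))))))))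

theorem g505_ok : Net.ok 276 g505 = true := by decide +kernel

noncomputable def g506 : Net := (Net.cons (nat_lit 1) (nat_lit 0x440005114010545441400405044015041141515140144105045405411454400500504) (Net.cons (nat_lit 2) (nat_lit 0x300333233220012202112222101210000002123220200322021022031322003332330) (Net.cons (nat_lit 4) (nat_lit 0xe090e06080e080e090106090b0f0709030c06010c010a09080d0f0f0b0003080a0e) (Net.cons (nat_lit 8) (nat_lit 0x980070007a002300bb0012005100da00a1009200ec001600d20082007800200005) (Net.cons (nat_lit 16) (nat_lit 0xf0000e0bc0000f5e800003e1c00007bfa00001b200000402c000010380000e1a0) (Net.cons (nat_lit 32) (nat_lit 0xc041bca6000000000398788200000000911212870000000000026997) (Net.cons (nat_lit 64) (nat_lit 0x8138e3085621ed0b000000000000000000000000000a00c0) (Net.cons (nat_lit 128) (nat_lit 0xa593015e5adab6e1342eea62a5e2da19) (Net.cons (nat_lit 256) (nat_lit 0xfffff) (Net.cons (nat_lit 128) (nat_lit 0xfcb2f) (Net.cons (nat_lit 64)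 (nat_lit 0xb305c94aa8901aac000000000000000046458be6a413fedb) (Net.cons (nat_lit 32) (nat_lit 0x61c9a7d100000000a8c93962000000001c07b0ec000000009f26d7ca) (Net.cons (nat_lit 16) (nat_lit 0x90000997b0000f8650000eb150000f09a00005b2d000040b60000ca3a000055f7) (Net.cons (nat_lit 8) (nat_lit 0xdd00b5004e0038009200b20097000200e800fc0094001f006d00cf001900a100e2) (Net.cons (nat_lit 4) (nat_lit 0x7040a040a010e0d0b0a0000090d010704020c07030b0c0f04020d090a090c0d0f0f) (Net.cons (nat_lit 2) (nat_lit 0x320213020310201120112222111310010223200321000233213003123333313320120) (Net.cons (nat_lit 1) (nat_lit 0x144050510000040154404400450155510401105440544515454111041551511141115) Net.nil)))))))))))))))))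

theorem g506_ok : Net.ok 276 g506 = true := by decide +kernel

noncomputable def g507 : Net := (Net.cons (nat_lit 1) (nat_lit 0x500010000015454110111111554550415540504110005450544114110555411414054) (Net.cons (nat_lit 2) (nat_lit 0x120223232221033221202323323300300012301302332213032302021201331200000) (Net.cons (nat_lit 4) (nat_lit 0x10a070e0f0e08010d01080e0401060d0f0209060d0b0403010a0704050b0b000806) (Net.cons (nat_lit 8) (nat_lit 0xd9008b00dd0094007a009a00cc00f600b1000400d5008b00cc00c400c600d0000a) (Net.cons (nat_lit 16) (nat_lit 0x30000742d0000d621000039a40000a5ea0000585b00004ccc0000134000000880) (Net.cons (nat_lit 32) (nat_lit 0xca13028000000000c8cb24320000000082f9ec88000000000004d410) (Net.cons (nat_lit 64) (nat_lit 0x86423c2a8f047000000000000000000000000000a3145) (Net.cons (nat_lit 128) (nat_lit 0xd7c6107a27283795560e66d1e8cac4ed) (Net.cons (nat_lit 256) (nat_lit 982527) (Net.cons (nat_lit 128) (nat_lit 872327) (Net.cons (nat_lit 64) (nat_lit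 0xc87e26d382456d4300000000000000006f95a7094ce25b03) (Net.cons (nat_lit 32) (nat_lit 0xf8bc86b800000000bf39bc1600000000c52a16b2000000006acbed07) (Net.cons (nat_lit 16) (nat_lit 0xb0000b12e00001122000035ea000086280000614b000053560000eb47000000f6) (Net.cons (nat_lit 8) (nat_lit 0xfc0071008500e1006800c8002100e70057005f00910096002e00e7002c00320000) (Net.cons (nat_lit 4) (nat_lit 0x3090e0e04000f0b0d04040f030a000a04060a0b0d0007070a040407010a02090908) (Net.cons (nat_lit 2) (nat_lit 0x213123012302322020110100301102202333221021121222002003031310321002101) (Net.cons (nat_lit 1) (nat_lit 0x501500540551011011051114145441450451405410441514055415410000041055) Net.nil)))))))))))))))))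

theorem g507_ok : Net.ok 276 g507 = true := by decide +kernel

noncomputable def tt_c12_K : List Net := [g505, g506, g507, g420, n_u]

theorem tt_c12_K_ok : okE 276 tt_c12_K = true := (okE_cons.2 ⟨g505_ok, (okE_cons.2 ⟨g506_ok, (okE_cons.2 ⟨g507_ok, (okE_cons.2 ⟨g420_ok, (okE_cons.2 ⟨n_u_ok, (okE_nil 276)⟩)⟩)⟩)⟩)⟩)

noncomputable def tt_c12_cnt_EG : List Net := [g124, g125, g126, g127, n_k3, n_t, g414, g419, g420, g417, n_u]

theorem tt_c12_cnt_EG_ok : okE 276 tt_c12_cnt_EG = true := (okE_cons.2 ⟨g124_ok, (okE_cons.2 ⟨g125_ok, (okE_cons.2 ⟨g126_ok, (okE_cons.2 ⟨g127_ok, (okE_cons.2 ⟨n_k3_ok, (okE_cons.2 ⟨n_t_ok, (okE_cons.2 ⟨g414_ok, (okE_cons.2 ⟨g419_ok, (okE_cons.2 ⟨g420_ok, (okE_cons.2 ⟨g417_ok, (okE_cons.2 ⟨n_u_ok, (okE_nil 276)⟩)⟩)⟩)⟩)⟩)⟩)⟩)⟩)⟩)⟩)⟩)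

noncomputable def g509 : Net := (Net.cons (nat_lit 1) (nat_lit 0x541451144051144014014511440004140014504554441044501041055410105141140) (Net.cons (nat_lit 2) (nat_lit 0x320020030000332323311231100203221300032232203200233230223010221321100) (Net.cons (nat_lit 4) (nat_lit 0xa0909030803040a0400050302050a05040e040806040e0b08050004020e0f0e0e08) (Net.cons (nat_lit 8) (nat_lit 0xbf006d00f4009e008300180007003f0034005e001c00a000c0008000d000990008) (Net.cons (nat_lit 16) (nat_lit 0x40000eeb400004dae0000af080000f68a000012c000005063000011b800002780) (Net.cons (nat_lit 32) (nat_lit 0x1aaeefa10000000076687e0200000000c1a44b5b000000000001660c) (Net.cons (nat_lit 64) (nat_lit 0x4fa1208822061e02000000000000000000000000000a4132) (Net.cons (nat_lit 128) (nat_lit 0xc77ba643d4165d5a98cc488f33262069) (Net.cons (nat_lit 256) (nat_lit 0xf67ff) (Net.cons (nat_lit 128) (nat_lit 156561) (Net.cons (nat_lit 64) (nat_lit 0xbe4ba96a6a8929170000000000000000d764fcbd0bee88dc) (Net.cons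 (nat_lit 32) (nat_lit 0xb282e07b0000000072cbe37900000000949eb3a900000000cc169d36) (Net.cons (nat_lit 16) (nat_lit 0x300006b0e0000e41000007bd300003e3f0000b09a00002eca00000c560000b28d) (Net.cons (nat_lit 8) (nat_lit 0x7e001a009e009100e900f40046005e00f900ff0034004900bd00c200a100870045) (Net.cons (nat_lit 4) (nat_lit 0x9070e0204060f03080b0b090504020d03050b0c08040a0a050b0409080604010001) (Net.cons (nat_lit 2) (nat_lit 0x123220010322300331031303310333321320322223331203312230321102223203011) (Net.cons (nat_lit 1) (nat_lit 0x555550155000545400004540500555514400450500111044045441141054514501404) Net.nil)))))))))))))))))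

theorem g509_ok : Net.ok 276 g509 = true := by decide +kernel

noncomputable def g510 : Net := (Net.cons (nat_lit 1) (nat_lit 0x514100551544511404044555401545445051455414101105010140041514551144510) (Net.cons (nat_lit 2) (nat_lit 0x231011031203013300001302133033102303123203012003220210311013131200320) (Net.cons (nat_lit 4) (nat_lit 0xd0c040800000b0b0205040509020e0a0500090a0d0d0c0f0b0e090906080e060204) (Net.cons (nat_lit 8) (nat_lit 0x400017007100c800c200b200b500e400200069002700bc00d50091008200c2000e) (Net.cons (nat_lit 16) (nat_lit 0x30000be0d0000751e000081270000c810000086f4000046980000a8630000e300) (Net.cons (nat_lit 32) (nat_lit 0xdfa004a0000000020afaa5300000000918989100000000000042206) (Net.cons (nat_lit 64) (nat_lit 0x984a465008264c54000000000000000000000000000aca82) (Net.cons (nat_lit 128) (nat_lit 0xb71f8709208cf514084559f1f8a4e9fa) (Net.cons (nat_lit 256) (nat_lit 982015) (Net.cons (nat_lit 128) (nat_lit 512008) (Net.cons (nat_lit 64) (nat_lit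 0x8d674a84a37a93fa00000000000000000375c12a8e9690fa) (Net.cons (nat_lit 32) (nat_lit 0xb175bd5f000000008981be6a0000000088b4b94900000000e6808dfc) (Net.cons (nat_lit 16) (nat_lit 0x80000767700005e1d00000618000064790000e8510000442d00000919000066f9) (Net.cons (nat_lit 8) (nat_lit 0xd700060023003d00940067002f004d004a006b00ca0022006a004a000200800068) (Net.cons (nat_lit 4) (nat_lit 0xd070b0106060c03010e04050a020c0b030906080d06040f0e0c030602020e050e0e) (Net.cons (nat_lit 2) (nat_lit 0x10231000103002012120132303333110020003022013101301203233001112223000) (Net.cons (nat_lit 1) (nat_lit 0x54110140010411100541115514550415454415155041455115000500044114405504) Net.nil)))))))))))))))))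

theorem g510_ok : Net.ok 276 g510 = true := by decide +kernel

noncomputable def g511 : Net := (Net.cons (nat_lit 1) (nat_lit 0x514001050155050540100144004410145440545014145011544554544104544414150) (Net.cons (nat_lit 2) (nat_lit 0x300012120010313130322001122300210120212132202320101310032331002300030) (Net.cons (nat_lit 4) (nat_lit 0x602020b030a0b0d030801090e0d040406060d02090306090202030205090c000100) (Net.cons (nat_lit 8) (nat_lit 0x41000b001400f0006200df0073005500e400d700f3005500f9002800cf00150002) (Net.cons (nat_lit 16) (nat_lit 0x50000c13c00006da10000577d000080a20000cd43000007380000264400000a80) (Net.cons (nat_lit 32) (nat_lit 0x15aa072400000000807a50b6000000007b103c35000000000002321b) (Net.cons (nat_lit 64) (nat_lit 0xab104d9a944216a3000000000000000000000000000027e6) (Net.cons (nat_lit 128) (nat_lit 0xced8650f3423af9431812a91cb6a0abb) (Net.cons (nat_lit 256) (nat_lit 704511) (Net.cons (nat_lit 128) (nat_lit 242316) (Net.cons (nat_lit 64)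 (nat_lit 0x38a943cdb399ce9000000000000000006489788c2bbf2270) (Net.cons (nat_lit 32) (nat_lit 0x7838a0bc0000000043442fa5000000006da8a6f600000000da1b3c48) (Net.cons (nat_lit 16) (nat_lit 0x70000810000002732000011210000bc15000043bb0000659e0000a65f0000127d) (Net.cons (nat_lit 8) (nat_lit 0x7300bf002200d10077005e008800b50086001600c3009c003a0089002f00f500ce) (Net.cons (nat_lit 4) (nat_lit 0x603000a0c0b0c0c000209010c04040a0c090a0d0b060c0c0302000f0c0c020f0d05) (Net.cons (nat_lit 2) (nat_lit 0x102211230210330102012012120200220030133130321021232311333101332102100) (Net.cons (nat_lit 1) (nat_lit 0x414000115445514555111510115441515150011554550550440415005550045154014) Net.nil)))))))))))))))))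

theorem g511_ok : Net.ok 276 g511 = true := by decide +kernel

noncomputable def tt_c13_K : List Net := [g510, g511, g431, g432, n_t]

theorem tt_c13_K_ok : okE 276 tt_c13_K = true := (okE_cons.2 ⟨g510_ok, (okE_cons.2 ⟨g511_ok, (okE_cons.2 ⟨g431_ok, (okE_cons.2 ⟨g432_ok, (okE_cons.2 ⟨n_t_ok, (okE_nil 276)⟩)⟩)⟩)⟩)⟩)

noncomputable def tt_c13_cnt_EG : List Net := [g125, g126, g127, n_k3, n_t, g124]

theorem tt_c13_cnt_EG_ok : okE 276 tt_c13_cnt_EG = true := (okE_cons.2 ⟨g125_ok, (okE_cons.2 ⟨g126_ok, (okE_cons.2 ⟨g127_ok, (okE_cons.2 ⟨n_k3_ok, (okE_cons.2 ⟨n_t_ok, (okE_cons.2 ⟨g124_ok, (okE_nil 276)⟩)⟩)⟩)⟩)⟩)⟩)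

noncomputable def g513 : Net := (Net.cons (nat_lit 1) (nat_lit 0x550541405000110510051501000541145044455411545005545550054515004015004) (Net.cons (nat_lit 2) (nat_lit 0x110313202321001220331323011003000003131310213130000010032133030102320) (Net.cons (nat_lit 4) (nat_lit 0x30401050a070d090409010c020f0501070e08010b020109020d0c04050d000a0407) (Net.cons (nat_lit 8) (nat_lit 0x1c00cb002e00bc00f0001700b6001600a400ab004c0000006700820006000a0001) (Net.cons (nat_lit 16) (nat_lit 0x40000673b0000bd850000a5d6000058c700003842000026e10000057b00002c00) (Net.cons (nat_lit 32) (nat_lit 0x16aa4e000000000081b11fe70000000042772a650000000000029e0a) (Net.cons (nat_lit 64) (nat_lit 0x202b01948c4893400000000000000000000000000004ab85) (Net.cons (nat_lit 128) (nat_lit 0x81c4610dcb9fbdde613b4ad3246adb0c) (Net.cons (nat_lit 256) (nat_lit 0xfff8f) (Net.cons (nat_lit 128) (nat_lit 915894) (Net.cons (nat_lit 64) (nat_lit 0x88a2d95dbd49dd3900000000000000005d025fa086b38c92) (Net.cons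 (nat_lit 32) (nat_lit 0x321695970000000069ad9629000000004f762e7000000000325928fb) (Net.cons (nat_lit 16) (nat_lit 0x70000c6a80000fad80000040d0000cdef0000faef00004462000054eb0000a7c5) (Net.cons (nat_lit 8) (nat_lit 0x1d003f005300d8003f00e70072004000fb0054009d00fd00bf00be007c003b0049) (Net.cons (nat_lit 4) (nat_lit 0x7050508080e04060e01090b000e000c0f00010d0509020d020c04060f090803020f) (Net.cons (nat_lit 2) (nat_lit 0x222330221212300232101231211032200201221131213110101302031110113012111) (Net.cons (nat_lit 1) (nat_lit 0x44504410051055000540051041101044140150555151154051151414555141454154) Net.nil)))))))))))))))))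

theorem g513_ok : Net.ok 276 g513 = true := by decide +kernel

noncomputable def g514 : Net := (Net.cons (nat_lit 1) (nat_lit 0x514044105504515501401140105455111054545001410055414544140040004401450) (Net.cons (nat_lit 2) (nat_lit 0x203033212023212312000210023203321300023033031231220001022323001130000) (Net.cons (nat_lit 4) (nat_lit 0xd0506010a0c0c080305010309010609060209080a0f0c050008050c000508020008) (Net.cons (nat_lit 8) (nat_lit 0xca003d00c0006e00f8005f005900b5001200f30032000f00b80083004e00350008) (Net.cons (nat_lit 16) (nat_lit 0x30000b81d0000025200004fa30000e80e0000c221000042a200002d1300008cb0) (Net.cons (nat_lit 32) (nat_lit 0x231688ad00000000104815c700000000052c34e5000000000008054a) (Net.cons (nat_lit 64) (nat_lit 0x80803476c8e2fc690000000000000000000000000007cfc9) (Net.cons (nat_lit 128) (nat_lit 0x6ffb4992dc76f97b8f3e3ee52098f308) (Net.cons (nat_lit 256) (nat_lit 0xffffb) (Net.cons (nat_lit 128) (nat_lit 902558) (Net.cons (nat_lit 64)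 (nat_lit 0xd159a83e043ded080000000000000000be991d0fec4527a3) (Net.cons (nat_lit 32) (nat_lit 0xdb7307070000000046cd39100000000077163ab2000000004ca5a2c7) (Net.cons (nat_lit 16) (nat_lit 0x20000745500003da5000049400000b3460000ba300000349b0000d7b90000a56e) (Net.cons (nat_lit 8) (nat_lit 0x59008d008b00e30069000200f000c5005e00330009000500120062004f00730068) (Net.cons (nat_lit 4) (nat_lit 0x5080a0c0c020c04020d02000f070f0f04000309070d08080e030e08010705070b04) (Net.cons (nat_lit 2) (nat_lit 0x320211312213103023322131132021122203323301323132130313222102022303212) (Net.cons (nat_lit 1) (nat_lit 0x14044055401504041000544510145511550440015054050144404104100051500104) Net.nil)))))))))))))))))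

theorem g514_ok : Net.ok 276 g514 = true := by decide +kernel

noncomputable def g515 : Net := (Net.cons (nat_lit 1) (nat_lit 0x44555151145401500540004444140145101410115055001101411441015545514000) (Net.cons (nat_lit 2) (nat_lit 0x133200122211332311211213212223220001002311103132210132233001100022030) (Net.cons (nat_lit 4) (nat_lit 0x7040c0d040b020f07080c0d060e080f0a0d00040208070a04000c04080c0c070001) (Net.cons (nat_lit 8) (nat_lit 0xa700c7002500a30057004d003800a80041009e00ab00ab007b0005002000170001) (Net.cons (nat_lit 16) (nat_lit 0xe5c60000e3e70000645c00003e8900005325000010f20000574500004020) (Net.cons (nat_lit 32) (nat_lit 0x3e8fb1e9000000006610236a0000000008447932000000000005c412) (Net.cons (nat_lit 64) (nat_lit 0x8c21450822bc203f000000000000000000000000000b0807) (Net.cons (nat_lit 128) (nat_lit 0xbd2f2f926518d0bd438ae2aa1fe11987) (Net.cons (nat_lit 256) (nat_lit 0xfdfb7) (Net.cons (nat_lit 128) (nat_lit 406725) (Net.cons (nat_lit 64) (nat_lit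 0x7bc5dce37c292a3a00000000000000005a0fd6fb2a470c6f) (Net.cons (nat_lit 32) (nat_lit 0xb3c4e9a3000000003a7fafaa00000000389acb70000000005b9ae91e) (Net.cons (nat_lit 16) (nat_lit 0xb0000088d0000800f0000127e0000d32c0000ca770000651300002e6900000ec4) (Net.cons (nat_lit 8) (nat_lit 0xb10096004700bc0007006e008100b9001a00f700fb00ff008000240080009c0047) (Net.cons (nat_lit 4) (nat_lit 0x903000b00020103090e070f060b0101030801080902030e0c010d0200010f0f0e08) (Net.cons (nat_lit 2) (nat_lit 0x233300313023112101332330000002212333313103022303322012121122101012220) (Net.cons (nat_lit 1) (nat_lit 0x144415115540001154115005000054104155544004040511144110100501110544500) Net.nil)))))))))))))))))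

theorem g515_ok : Net.ok 276 g515 = true := by decide +kernel

noncomputable def tt_c14_K : List Net := [g514, g515, g507, g417, n_u]

theorem tt_c14_K_ok : okE 276 tt_c14_K = true := (okE_cons.2 ⟨g514_ok, (okE_cons.2 ⟨g515_ok, (okE_cons.2 ⟨g507_ok, (okE_cons.2 ⟨g417_ok, (okE_cons.2 ⟨n_u_ok, (okE_nil 276)⟩)⟩)⟩)⟩)⟩)

noncomputable def tt_c14_cnt_EG : List Net := [g124, g125, g126, g127, n_k3, n_t, g414, g419, g420, g417, n_u]

theorem tt_c14_cnt_EG_ok : okE 276 tt_c14_cnt_EG = true := (okE_cons.2 ⟨g124_ok, (okE_cons.2 ⟨g125_ok, (okE_cons.2 ⟨g126_ok, (okE_cons.2 ⟨g127_ok, (okE_cons.2 ⟨n_k3_ok, (okE_cons.2 ⟨n_t_ok, (okE_cons.2 ⟨g414_ok, (okE_cons.2 ⟨g419_ok, (okE_cons.2 ⟨g420_ok, (okE_cons.2 ⟨g417_ok, (okE_cons.2 ⟨n_u_ok, (okE_nil 276)⟩)⟩)⟩)⟩)⟩)⟩)⟩)⟩)⟩)⟩)⟩)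

noncomputable def g517 : Net := (Net.cons (nat_lit 1) (nat_lit 0x11515144445015515004454545044445504040515011140045555054114055410410) (Net.cons (nat_lit 2) (nat_lit 0x232013112123200000110200131232221020331212310110203331012023113232230) (Net.cons (nat_lit 4) (nat_lit 0xf02060a06020a000b0f010f0d010b0a0f070a050a0f00030704000f020501060b0a) (Net.cons (nat_lit 8) (nat_lit 0x2400c7005d00ab0060005a00c6004400fa004b003300d8006c0071008a0062000a) (Net.cons (nat_lit 16) (nat_lit 0x20000ce3b0000c19700009bd20000575a0000d2680000ebe00000695100006310) (Net.cons (nat_lit 32) (nat_lit 0x2095180a00000000b879ce0800000000d60a81480000000000021848) (Net.cons (nat_lit 64) (nat_lit 0x8ae08038c50f340b00000000000000000000000000006778) (Net.cons (nat_lit 128) (nat_lit 0xb34006177c05e9337dbcac2f8bc15400) (Net.cons (nat_lit 256) (nat_lit 0xf7f7a) (Net.cons (nat_lit 128) (nat_lit 704828) (Net.cons (nat_lit 64) (nat_lit 0xb17bc16dae2276340000000000000000db1b6de833305a43) (Net.cons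 (nat_lit 32) (nat_lit 0x5156e69e00000000f99e711a00000000a69c377c00000000491a0f05) (Net.cons (nat_lit 16) (nat_lit 0x30000809700008f8e0000edaa0000ce2f000040720000f5f100004a640000a59b) (Net.cons (nat_lit 8) (nat_lit 0xdd001400db00e6009600f0000d000500ce00440087008f00a9004800dc0081003f) (Net.cons (nat_lit 4) (nat_lit 0xb010a0c0b030009000d0403080a0b0f090b020b01040d0a0e0b07050c08000d070b) (Net.cons (nat_lit 2) (nat_lit 0x213012001103311011113232232030030030202102011220120013322213102330312) (Net.cons (nat_lit 1) (nat_lit 0x15515151545054001401055440550500144515105415054451505011044454440515) Net.nil)))))))))))))))))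

theorem g517_ok : Net.ok 276 g517 = true := by decide +kernel

noncomputable def g518 : Net := (Net.cons (nat_lit 1) (nat_lit 0x50505141410510115555554041050050544440155144051400154410555501415404) (Net.cons (nat_lit 2) (nat_lit 0x210202232012122132120102031200031123332022301123232311202111002332120) (Net.cons (nat_lit 4) (nat_lit 0x705030e05030606010a00050c05090d030f0c0801030d04000c0c080600070006) (Net.cons (nat_lit 8) (nat_lit 0xfa004f00ce00e400d8001b00a10059005a008c003a00b2005800cc00bb00700002) (Net.cons (nat_lit 16) (nat_lit 0xc0000df320000895b000038800000c4e00000402000006225000016b200008500) (Net.cons (nat_lit 32) (nat_lit 0xa12a6dac000000004f4a201900000000029cbde200000000000c88ae) (Net.cons (nat_lit 64) (nat_lit 0x10d400034ea2b5180000000000000000000000000004b911) (Net.cons (nat_lit 128) (nat_lit 0x9f84412f7448499b0f7986201aa90518) (Net.cons (nat_lit 256) (nat_lit 0xffdbf) (Net.cons (nat_lit 128) (nat_lit 769021) (Net.cons (nat_lit 64) (nat_lit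 0x4ec0aa490844ba730000000000000000be02a87aac587fa4) (Net.cons (nat_lit 32) (nat_lit 0x6b6519600000000056f5941f000000008bff7cb30000000031ef0630) (Net.cons (nat_lit 16) (nat_lit 0x50000ebb800006bdc000036fa0000e4530000065900002723000098e700001cba) (Net.cons (nat_lit 8) (nat_lit 0xbd00910091000d003c003b00b60058007f00d000700061001200e40079003b00e8) (Net.cons (nat_lit 4) (nat_lit 0x706040c0106000a0d0b0e00080a000e0b0c0d0d0d0804080800000f0a070d0407) (Net.cons (nat_lit 2) (nat_lit 0x311130233220303100331102113323032320333321212221333201301220210023021) (Net.cons (nat_lit 1) (nat_lit 0x144501451150440141405044151055510401514414454455501005045050550411501) Net.nil)))))))))))))))))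

theorem g518_ok : Net.ok 276 g518 = true := by decide +kernel

noncomputable def tt_c15_K : List Net := [g517, g518, g444, g127, n_t]

theorem tt_c15_K_ok : okE 276 tt_c15_K = true := (okE_cons.2 ⟨g517_ok, (okE_cons.2 ⟨g518_ok, (okE_cons.2 ⟨g444_ok, (okE_cons.2 ⟨g127_ok, (okE_cons.2 ⟨n_t_ok, (okE_nil 276)⟩)⟩)⟩)⟩)⟩)

noncomputable def V520 : List Net := []

theorem V520_ok : okE 276 V520 = true := (okE_nil 276)

noncomputable def tt_c15_cnt_EG : List Net := [g124, g125, g126, g127, n_k3, n_t]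

theorem tt_c15_cnt_EG_ok : okE 276 tt_c15_cnt_EG = true := (okE_cons.2 ⟨g124_ok, (okE_cons.2 ⟨g125_ok, (okE_cons.2 ⟨g126_ok, (okE_cons.2 ⟨g127_ok, (okE_cons.2 ⟨n_k3_ok, (okE_cons.2 ⟨n_t_ok, (okE_nil 276)⟩)⟩)⟩)⟩)⟩)⟩)

noncomputable def g522 : Net := (Net.cons (nat_lit 1) (nat_lit 0x41014411111010055055140451551150040511514140005015414544454140150540) (Net.cons (nat_lit 2) (nat_lit 0x231311332320230220210230230221000212011220310110231122220033121122000) (Net.cons (nat_lit 4) (nat_lit 0x10005040b0d090a0f090d010b0303000103070e0b0d050608010c050b010b010d02) (Net.cons (nat_lit 8) (nat_lit 0x88005f000500dd004800af00d20074001e002e00cf002100cc00c8006800920008) (Net.cons (nat_lit 16) (nat_lit 0xd000061140000ad550000b60200008ead000011c9000060d40000968400007710) (Net.cons (nat_lit 32) (nat_lit 0x8a21585100000000349ef143000000008522804e000000000001ea00) (Net.cons (nat_lit 64) (nat_lit 0x81e108a42904619000000000000000000000000000020a4e) (Net.cons (nat_lit 128)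 (nat_lit 0x96fe16192362ce580b0d8ca4de68d99b) (Net.cons (nat_lit 256) (nat_lit 786399) (Net.cons (nat_lit 128) (nat_lit 502189) (Net.cons (nat_lit 64) (nat_lit 0x26f80be4424d5d9e000000000000000072712cd9512e8ea5) (Net.cons (nat_lit 32) (nat_lit 0x8b1233c200000000e9b6e84100000000a547142400000000e2578195) (Net.cons (nat_lit 16) (nat_lit 0x7000051510000e60a00008b45000057a1000080230000d89e000010b400004723) (Net.cons (nat_lit 8) (nat_lit 0x3004c001c00b0009700e500ea007d000000af006900d7002800a9008c000700c3) (Net.cons (nat_lit 4) (nat_lit 0x40a0b030c080c00040c0d030b0000050600030c08070408080d04020705060f0008) (Net.cons (nat_lit 2) (nat_lit 0x200232321203001201002220021323320232031221100232231320003210011212310) (Net.cons (nat_lit 1) (nat_lit 0x500511415051141415515004011454010050550105440550445450044144111415005) Net.nil)))))))))))))))))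

theorem g522_ok : Net.ok 276 g522 = true := by decide +kernel

noncomputable def g523 : Net := (Net.cons (nat_lit 1) (nat_lit 0x555140150405111511554514501441504511515100144104541444440051544404500) (Net.cons (nat_lit 2) (nat_lit 0x213200221301223122300331211200010000302121212320210010321021200311110) (Net.cons (nat_lit 4) (nat_lit 0x3020c0b0704050a04080609050308000c00060c080b09090c0e0e01000d0f0e0105) (Net.cons (nat_lit 8) (nat_lit 0x4d00520049005c00ca00c300c000db00be0070002200c10027007e008f005c0004) (Net.cons (nat_lit 16) (nat_lit 0x2000022d900006588000040660000f4b00000aabd000067c20000c09b00004290) (Net.cons (nat_lit 32) (nat_lit 0xbddf330c0000000068c1d0b600000000d0b7a712000000000008218c) (Net.cons (nat_lit 64) (nat_lit 0x690d6020403c68f100000000000000000000000000004ba1) (Net.cons (nat_lit 128) (nat_lit 0x6ada1cecb0a442b797e57b05701f6123) (Net.cons (nat_lit 256) (nat_lit 0xf7fbf) (Net.cons (nat_lit 128) (nat_lit 719979) (Net.cons (nat_lit 64)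 (nat_lit 0x7cefebf4e9419eb60000000000000000afbd38637234c1d4) (Net.cons (nat_lit 32) (nat_lit 0xe5dab6750000000012bb495d0000000035b65fe7000000006407bd04) (Net.cons (nat_lit 16) (nat_lit 0x60000516400001acb0000d0f100009d8800004de10000995b00005ec800003ddf) (Net.cons (nat_lit 8) (nat_lit 0xc900c000fc0039006f000e007e007d00c100c800c400a9007a004b00e500d700c3) (Net.cons (nat_lit 4) (nat_lit 0x10e0c000e08000905020e090e080c0b08000605090e0c030d03070b0c0702040b07) (Net.cons (nat_lit 2) (nat_lit 0x31302203100330333200111110112200102222220131200322003320031021300222) (Net.cons (nat_lit 1) (nat_lit 0x514404010545150014554444510400144114541544455544150005504001415455100) Net.nil)))))))))))))))))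

theorem g523_ok : Net.ok 276 g523 = true := by decide +kernel

noncomputable def g524 : Net := (Net.cons (nat_lit 1) (nat_lit 0x4405444555510115154011514455555144141105045501145150444141510541104) (Net.cons (nat_lit 2) (nat_lit 0x200201113012132222222023122120311202131011121133121000313023321112000) (Net.cons (nat_lit 4) (nat_lit 0xb0a0c0d09030e0e0f040b0a0d01030909080408090806040604010c0807020e0502) (Net.cons (nat_lit 8) (nat_lit 0xe500ca001f00a60092000f00ba00cd0049006400a600a20070006100f200ca0007) (Net.cons (nat_lit 16) (nat_lit 0xe000090ff0000e56c0000abdb0000295a00009676000098d50000d89200000400) (Net.cons (nat_lit 32) (nat_lit 0x95be210900000000b9d0755100000000f48e5423000000000005e814) (Net.cons (nat_lit 64) (nat_lit 0x9a42886c90bcc44b000000000000000000000000000b2403) (Net.cons (nat_lit 128) (nat_lit 0x1be55d54ac71672b843f96a8168ce842) (Net.cons (nat_lit 256) (nat_lit 0xfecd7) (Net.cons (nat_lit 128) (nat_lit 506146) (Net.cons (nat_lit 64) (nat_lit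 0xf89dc3f985fdb50900000000000000009d64bc9e7a4f275e) (Net.cons (nat_lit 32) (nat_lit 0x8abef86f00000000a6a17cc30000000021553c8900000000f7605e18) (Net.cons (nat_lit 16) (nat_lit 0xd000070b80000e14a0000332a0000dbea0000a45a00009d3100007c410000cae1) (Net.cons (nat_lit 8) (nat_lit 0x84002b005200e000b100f9007c00ef0024009400bc00cd00eb00ec00f6008700cf) (Net.cons (nat_lit 4) (nat_lit 0x1020e0c0208050b0d09020a0304070a04020f080f0a0903050d070b080306060702) (Net.cons (nat_lit 2) (nat_lit 0x200103300010121221310000200122112311232011111222100330121222332320032) (Net.cons (nat_lit 1) (nat_lit 0x11514451544055504150050504401045454401504104051540515041405401544100) Net.nil)))))))))))))))))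

theorem g524_ok : Net.ok 276 g524 = true := by decide +kernel

noncomputable def g525 : Net := (Net.cons (nat_lit 1) (nat_lit 0x455504515155045515510514414110051001001101111414410500455405501514) (Net.cons (nat_lit 2) (nat_lit 0x12000102132002301200022130300210302313033332122320312322200220033220) (Net.cons (nat_lit 4) (nat_lit 0x8010e0d010c0e090408080308070603060d08070706080b0a0d00030b090406070c) (Net.cons (nat_lit 8) (nat_lit 0x80043007800f1008400a200420082004d001800db004900fe0034001500460009) (Net.cons (nat_lit 16) (nat_lit 0x50000fced000088d00000cca30000c261000036a0000035610000bebc00004000) (Net.cons (nat_lit 32) (nat_lit 0xb714ec0300000000b630f6a4000000005d7184830000000000092290) (Net.cons (nat_lit 64) (nat_lit 0x700d0ea044ec496000000000000000000000000000252da) (Net.cons (nat_lit 128) (nat_lit 0x7a3f0c8685ebc5d95d0af86d99231464) (Net.cons (nat_lit 256) (nat_lit 0xf7fff) (Net.cons (nat_lit 128) (nat_lit 404039) (Net.cons (nat_lit 64) (nat_lit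 0x970f97926e30203900000000000000009d333ab301e94f52) (Net.cons (nat_lit 32) (nat_lit 0x9ac4285a00000000e53a0836000000005896e10700000000cff8f3fc) (Net.cons (nat_lit 16) (nat_lit 0xd00004f7d0000027d0000bc9b000012380000150600003e7a00003a1500008f7c) (Net.cons (nat_lit 8) (nat_lit 0x5c005800a70010006c007300e000d100ed0080000800cb00ea00fa001300df008d) (Net.cons (nat_lit 4) (nat_lit 0xf0702050d030a0e090309060b070000010f0a0f0001070d0a070f0c0b0e04050401) (Net.cons (nat_lit 2) (nat_lit 0x133333313002322221022300313301220222312320310312002030201311322031000) (Net.cons (nat_lit 1) (nat_lit 0x504050551555011051541551400115001015445011111110455414515450014410400) Net.nil)))))))))))))))))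

theorem g525_ok : Net.ok 276 g525 = true := by decide +kernel

noncomputable def g526 : Net := (Net.cons (nat_lit 1) (nat_lit 0x44105151414044050044014400414114440554551455001015554100015511401440) (Net.cons (nat_lit 2) (nat_lit 0x220030332200221230301311220302313302122022222231332100002133200100020) (Net.cons (nat_lit 4) (nat_lit 0x908040f05040801060e0408080a080709000e0b020506090904020a02020b090c00) (Net.cons (nat_lit 8) (nat_lit 0x3d00db004e00fe004700850081004500040032008e009600ef006a000400520004) (Net.cons (nat_lit 16) (nat_lit 0xf000090650000c7820000240d000026fd000066d80000b236000097b700008540) (Net.cons (nat_lit 32) (nat_lit 0xa1073b30000000011bc821500000000008b6b5c0000000000059330) (Net.cons (nat_lit 64) (nat_lit 0xa98a95c85033ee380000000000000000000000000001e18a) (Net.cons (nat_lit 128) (nat_lit 0xcae8004a2fd618153163b583f5293e07) (Net.cons (nat_lit 256) (nat_lit 0xfffff) (Net.cons (nat_lit 128) (nat_lit 56749) (Net.cons (nat_lit 64) (nat_lit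 0xe90e53f09dc1b79e0000000000000000cc1111bb63b5dfcb) (Net.cons (nat_lit 32) (nat_lit 0x625fc22200000000feb6c7ed00000000e010b60900000000c3ae4295) (Net.cons (nat_lit 16) (nat_lit 0x70000ff70000059a80000b85700002c8e000072d2000098320000c2980000c545) (Net.cons (nat_lit 8) (nat_lit 0xac0008000b001100550015007a0057000a007800b3008300f6002100f3007500f8) (Net.cons (nat_lit 4) (nat_lit 0xe00010e0f030800070201080607090a0e0a03060d0a030c05010b0e03080e0a0109) (Net.cons (nat_lit 2) (nat_lit 0x312300212303002303130003101233313113100210321301031031221320203113101) (Net.cons (nat_lit 1) (nat_lit 0x41015141005001515441454441144504000451055541051050005004014010445140) Net.nil)))))))))))))))))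

theorem g526_ok : Net.ok 276 g526 = true := by decide +kernel

noncomputable def tt_c16_K : List Net := [g523, g524, g525, g526, n_u]

theorem tt_c16_K_ok : okE 276 tt_c16_K = true := (okE_cons.2 ⟨g523_ok, (okE_cons.2 ⟨g524_ok, (okE_cons.2 ⟨g525_ok, (okE_cons.2 ⟨g526_ok, (okE_cons.2 ⟨n_u_ok, (okE_nil 276)⟩)⟩)⟩)⟩)⟩)

noncomputable def V528 : List Net := []

theorem V528_ok : okE 276 V528 = true := (okE_nil 276)

noncomputable def tt_c16_cnt_EG : List Net := [g124, g125, g126, g127, n_k3, n_t, g414, g419, g420, g417, n_u]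

theorem tt_c16_cnt_EG_ok : okE 276 tt_c16_cnt_EG = true := (okE_cons.2 ⟨g124_ok, (okE_cons.2 ⟨g125_ok, (okE_cons.2 ⟨g126_ok, (okE_cons.2 ⟨g127_ok, (okE_cons.2 ⟨n_k3_ok, (okE_cons.2 ⟨n_t_ok, (okE_cons.2 ⟨g414_ok, (okE_cons.2 ⟨g419_ok, (okE_cons.2 ⟨g420_ok, (okE_cons.2 ⟨g417_ok, (okE_cons.2 ⟨n_u_ok, (okE_nil 276)⟩)⟩)⟩)⟩)⟩)⟩)⟩)⟩)⟩)⟩)⟩)

noncomputable def g530 : Net := (Net.cons (nat_lit 1) (nat_lit 0x51040405001501404414014015101445111411150514104550455005155015440500) (Net.cons (nat_lit 2) (nat_lit 0x310312031322322121003032213123212211210022332222232333300213212002000) (Net.cons (nat_lit 4) (nat_lit 0xf0406030a020700020300060506070b0d0a0f0d04000c0f0b080104000407020107) (Net.cons (nat_lit 8) (nat_lit 0xbf001c009500a00022008900b4007a00f500790020002700ef0053000100030000) (Net.cons (nat_lit 16) (nat_lit 0xf00009a260000902b0000c0140000289c000040f6000005d00000961000000180) (Net.cons (nat_lit 32) (nat_lit 0xc85392100000000012112e8f0000000000064d62000000000001a0cd)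 (Net.cons (nat_lit 64) (nat_lit 0xd200b330887ce26d000000000000000000000000000cb44e) (Net.cons (nat_lit 128) (nat_lit 0xf7b5d03d4fb383380c1a2f85c041e165) (Net.cons (nat_lit 256) (nat_lit 0xff7ef) (Net.cons (nat_lit 128) (nat_lit 971139) (Net.cons (nat_lit 64) (nat_lit 0xa5371f70f7d0bd4e00000000000000005b8a83bcedc32b0d) (Net.cons (nat_lit 32) (nat_lit 0x6855a746000000007e59be8900000000fb94aa44000000002a3f6dca) (Net.cons (nat_lit 16) (nat_lit 0xa000012d00000c63c00005a6f0000dcfe00000ca3000031350000a67b0000333c) (Net.cons (nat_lit 8) (nat_lit 0x59000900ca00d400370089007f006c001b002d008a00a6008b00a2002e0060008b) (Net.cons (nat_lit 4) (nat_lit 0xa0307070f0c05060f01000e0a0e0e0a0a0e050a060802060b080a00040a010d030a) (Net.cons (nat_lit 2) (nat_lit 0x300302322321220031301033110331120121012221022131320300010220311303000) (Net.cons (nat_lit 1) (nat_lit 0x11444404540105141500110141014010155514004404155010444504145054015111) Net.nil)))))))))))))))))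

theorem g530_ok : Net.ok 276 g530 = true := by decide +kernel

noncomputable def g531 : Net := (Net.cons (nat_lit 1) (nat_lit 0x444515045515110110045540541015515054500410440051545040544515014000500) (Net.cons (nat_lit 2) (nat_lit 0x102101132031030321230123112302311100212103130123120303202133001222110) (Net.cons (nat_lit 4) (nat_lit 0x7030f0909010c04000e0201080709010a0905010d060b0a01050b0c0e030d010802) (Net.cons (nat_lit 8) (nat_lit 0x220012009d00b2009e0065009c000600bb00e700a5008f000800ea008000440004) (Net.cons (nat_lit 16) (nat_lit 0x600008b0a000065040000a94100007410000030c70000471d000061e400000410) (Net.cons (nat_lit 32) (nat_lit 0x1c721e35000000001d82240500000000601858ae00000000000a006a) (Net.cons (nat_lit 64) (nat_lit 0x71448842c06758010000000000000000000000000000431c) (Net.cons (nat_lit 128) (nat_lit 0xb9636f015553b7e0c4acd37bb22d8815) (Net.cons (nat_lit 256) (nat_lit 0xfcf7f) (Net.cons (nat_lit 128) (nat_lit 877323) (Net.cons (nat_lit 64)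 (nat_lit 0x9bc9f787b0a59bf10000000000000000b86e42a479b0ac5f) (Net.cons (nat_lit 32) (nat_lit 0x2eaaee100000000edfb02a800000000e1e87cb600000000daea2156) (Net.cons (nat_lit 16) (nat_lit 0x900005bee0000a4c3000032bc0000c2bb000044b80000f617000049660000ae4c) (Net.cons (nat_lit 8) (nat_lit 0xbe00ce00f500cb00b7006400c700bd007100c300b300c8001500440080006800c9) (Net.cons (nat_lit 4) (nat_lit 0xf0e0d0c050300020e060c0f0b0a0e0e06060c040000050c05000400040607060204) (Net.cons (nat_lit 2) (nat_lit 0x213313113131102132232133001110033111301002312322031202102332030120002) (Net.cons (nat_lit 1) (nat_lit 0x541114404404014051505414440000001505515050555555551541145115155040444) Net.nil)))))))))))))))))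

theorem g531_ok : Net.ok 276 g531 = true := by decide +kernel

noncomputable def g532 : Net := (Net.cons (nat_lit 1) (nat_lit 0x14404104014000515514514441441500544554441414540510054010151040441414) (Net.cons (nat_lit 2) (nat_lit 0x302222112311002210020123032330012003212312030320303312133323131020330) (Net.cons (nat_lit 4) (nat_lit 0xb0105020703020806060a0f0306030b010a0b000c0e0e01030c01020f0506040201) (Net.cons (nat_lit 8) (nat_lit 0x2e00420028001300d100ad00ba00aa00f500c5008f00c800e400c8002600000003) (Net.cons (nat_lit 16) (nat_lit 0x30000e1420000b61f00003f8300004ea40000ae3700009984000018b700002420) (Net.cons (nat_lit 32) (nat_lit 0x7f3fa8a000000000349eaaa000000000c8d5050400000000000563d0) (Net.cons (nat_lit 64) (nat_lit 0x43dcd5ca0228bbb400000000000000000000000000040320) (Net.cons (nat_lit 128) (nat_lit 0x44abe70adb12c03ca37438c545240bf4) (Net.cons (nat_lit 256) (nat_lit 389111) (Net.cons (nat_lit 128) (nat_lit 734378) (Net.cons (nat_lit 64) (nat_lit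 0xbd6be90f46aa59f80000000000000000bbe7c21063290239) (Net.cons (nat_lit 32) (nat_lit 0x37fb378f0000000018f947ba000000000afd3412000000007d70971a) (Net.cons (nat_lit 16) (nat_lit 0x30000d1ef0000e8900000ffad00001390000091550000ac020000c8b600005f04) (Net.cons (nat_lit 8) (nat_lit 0x200c800870094001b00890096002800f800be002600bd00fd00c6000a00850097) (Net.cons (nat_lit 4) (nat_lit 0x509060a080e070409000d070f06050202010e060008080103080e03070c0b060c0b) (Net.cons (nat_lit 2) (nat_lit 0x112303110313020022212031013000132111122232332130303230231030000311201) (Net.cons (nat_lit 1) (nat_lit 0x551011000111045454144055450115141004100100004555141000014511405404514) Net.nil)))))))))))))))))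

theorem g532_ok : Net.ok 276 g532 = true := by decide +kernel

noncomputable def tt_c17_K : List Net := [g530, g531, g532, g507, n_u]

theorem tt_c17_K_ok : okE 276 tt_c17_K = true := (okE_cons.2 ⟨g530_ok, (okE_cons.2 ⟨g531_ok, (okE_cons.2 ⟨g532_ok, (okE_cons.2 ⟨g507_ok, (okE_cons.2 ⟨n_u_ok, (okE_nil 276)⟩)⟩)⟩)⟩)⟩)

noncomputable def tt_c17_cnt_EG : List Net := [g124, g125, g126, g127, n_k3, n_t, g414, g419, g420, g417, n_u]

theorem tt_c17_cnt_EG_ok : okE 276 tt_c17_cnt_EG = true := (okE_cons.2 ⟨g124_ok, (okE_cons.2 ⟨g125_ok, (okE_cons.2 ⟨g126_ok, (okE_cons.2 ⟨g127_ok, (okE_cons.2 ⟨n_k3_ok, (okE_cons.2 ⟨n_t_ok, (okE_cons.2 ⟨g414_ok, (okE_cons.2 ⟨g419_ok, (okE_cons.2 ⟨g420_ok, (okE_cons.2 ⟨g417_ok, (okE_cons.2 ⟨n_u_ok, (okE_nil 276)⟩)⟩)⟩)⟩)⟩)⟩)⟩)⟩)⟩)⟩)⟩)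

noncomputable def g534 : Net := (Net.cons (nat_lit 1) (nat_lit 0x44101410440014005004115145440104544515555454501551011040445001041000) (Net.cons (nat_lit 2) (nat_lit 0x112301300100211123110030112113002210031211031133110323010032103312100) (Net.cons (nat_lit 4) (nat_lit 0x4050500090b09060a0e090e0a050e0608020a06010900090805060b0e0b0d0e0a06) (Net.cons (nat_lit 8) (nat_lit 0xca0089001d009500b1009000fb004c006300b700500087000600a5002700800008) (Net.cons (nat_lit 16) (nat_lit 0x40000f74e0000b80b0000862b00000de700001290000012a6000012c0000001b0) (Net.cons (nat_lit 32) (nat_lit 0x441752bd000000004235dd0100000000009981c000000000000c00e6) (Net.cons (nat_lit 64) (nat_lit 0xc31935bef18cc85e000000000000000000000000000e1021) (Net.cons (nat_lit 128) (nat_lit 0xd5578bbf09c345622eacb640fe350a1a) (Net.cons (nat_lit 256) (nat_lit 991231) (Net.cons (nat_lit 128) (nat_lit 560140) (Net.cons (nat_lit 64) (nat_lit 0x1aec4b5f7da1ee06000000000000000077a8ddd75603b66b) (Net.cons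 (nat_lit 32) (nat_lit 0xb4c68f7900000000c50013b300000000d35cdb6c00000000f9dc87e0) (Net.cons (nat_lit 16) (nat_lit 0x2000082ce0000588c00000d12000066040000671a000068120000b14e00006055) (Net.cons (nat_lit 8) (nat_lit 0x5100f3005300e300c100ae005e000a005600c3003d00c6009300730043003c0099) (Net.cons (nat_lit 4) (nat_lit 0xd0e060c0d00050607040a0109010d080f0b0d06070a010b020b0e0f020d0e010102) (Net.cons (nat_lit 2) (nat_lit 0x111320013123200321223210121213023102023133002331012011120313001221100) (Net.cons (nat_lit 1) (nat_lit 0x144501504001151100555005414444114544110514441440454144005044500115415) Net.nil)))))))))))))))))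

theorem g534_ok : Net.ok 276 g534 = true := by decide +kernel

noncomputable def g535 : Net := (Net.cons (nat_lit 1) (nat_lit 0x101411105444504554455054001040004045400445140011114010550514514111400) (Net.cons (nat_lit 2) (nat_lit 0x133301300021232120230232003321000033201121102223033113130020300012100) (Net.cons (nat_lit 4) (nat_lit 0x90408070d0106020c080c0f070a050c0a0c040300000308060e06080a030d000900) (Net.cons (nat_lit 8) (nat_lit 0x3c0086008e00b800af000a00b00075001c008500640088004b001000b1002d0004) (Net.cons (nat_lit 16) (nat_lit 0xf0000ab8a000000420000cd7a0000111c0000d7c00000aaca0000205000000400) (Net.cons (nat_lit 32) (nat_lit 0x9e44252900000000be9dc4c000000000301610ba000000000000c067) (Net.cons (nat_lit 64) (nat_lit 0x40a270881c0430d000000000000000000000000000297b4) (Net.cons (nat_lit 128) (nat_lit 0xaa47a8e0f4767a214d5d97683d9aaed9) (Net.cons (nat_lit 256) (nat_lit 786431) (Net.cons (nat_lit 128) (nat_lit 133964) (Net.cons (nat_lit 64) (nat_lit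 0x3921c4e9177ce2b40000000000000000945c65fe0dc9c8d5) (Net.cons (nat_lit 32) (nat_lit 0x67f886dc00000000215024d000000000f50bbba6000000002b9ebd5f) (Net.cons (nat_lit 16) (nat_lit 0x70000e0200000748a00002c630000eb550000857b0000381c0000408d0000f0e1) (Net.cons (nat_lit 8) (nat_lit 0xac008100ac00ce007f00db005a003d00360075005e005e009400d800f200030049) (Net.cons (nat_lit 4) (nat_lit 0x8010a0e060b0d0c0e0e020101030c06010f0c000400050b0d09050504020104040d) (Net.cons (nat_lit 2) (nat_lit 0x203000322310232100232221002301313223133110321322100203233031023000300) (Net.cons (nat_lit 1) (nat_lit 0x451501411515411510014054545151105151050450510414051140401155050414510) Net.nil)))))))))))))))))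

theorem g535_ok : Net.ok 276 g535 = true := by decide +kernel

noncomputable def g536 : Net := (Net.cons (nat_lit 1) (nat_lit 0x454401044014545141040044001054005155101500405115510000051054055554004) (Net.cons (nat_lit 2) (nat_lit 0x1003211011131310220200302313100100032003302200332020300003111310330) (Net.cons (nat_lit 4) (nat_lit 0xf0c0f0a0a050d070800070c0b020c090b030c0d0b0b0b0b0200090b0c02040402) (Net.cons (nat_lit 8) (nat_lit 0xb6004c000800840091003400f30022001800ca00210090003000ab004c004c0009) (Net.cons (nat_lit 16) (nat_lit 0x90000ac3c000057650000e26a0000bd90000037b90000397000006214000015a0) (Net.cons (nat_lit 32) (nat_lit 0xfeab4b4c0000000011ad4b4500000000100e7a8f00000000000982a2) (Net.cons (nat_lit 64) (nat_lit 0xaaf345036a62b00f00000000000000000000000000001303) (Net.cons (nat_lit 128) (nat_lit 0x7b93a7334db92fd5c064489cb75cfd8c) (Net.cons (nat_lit 256) (nat_lit 0xfffef) (Net.cons (nat_lit 128) (nat_lit 715246) (Net.cons (nat_lit 64) (nat_lit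 0x472b2f125df451a2000000000000000093194323fe35a90a) (Net.cons (nat_lit 32) (nat_lit 0x6133ef7e000000004ec5c15900000000ad09e5cc0000000019ee3af4) (Net.cons (nat_lit 16) (nat_lit 0x50000f5390000446900006ec80000ef4c0000148400008db90000a73e00001342) (Net.cons (nat_lit 8) (nat_lit 0x7e000100b800b8003200fc00bd00b8002e0054009400e100bc00f900720047003f) (Net.cons (nat_lit 4) (nat_lit 0xe050202060c0f0c0f050a09020f0306040709030c0d0a090f0d090d0d0b06040701) (Net.cons (nat_lit 2) (nat_lit 0x221222210010213013131012031232031032210133321033002220000011000320012) (Net.cons (nat_lit 1) (nat_lit 0x450114414505001104041045500055414005404104051151410414154500510550511) Net.nil)))))))))))))))))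

theorem g536_ok : Net.ok 276 g536 = true := by decide +kernel

noncomputable def g537 : Net := (Net.cons (nat_lit 1) (nat_lit 0x514455041545455444505554514554055100514441111445404115045500544015140) (Net.cons (nat_lit 2) (nat_lit 0x323003231001332303301222232121120332222202123003223330303122301000) (Net.cons (nat_lit 4) (nat_lit 0xc0d09080905010b0501080a0d010b000b0f08030301030f01060f0d05060400000a) (Net.cons (nat_lit 8) (nat_lit 0x5f0053004d0032008d001f0074008900b800d8000000d4000b0016008d0010000c) (Net.cons (nat_lit 16) (nat_lit 0x800003bf400003d6e000020130000302a000005e100008888000010f40000a100) (Net.cons (nat_lit 32) (nat_lit 0xd3b8870a00000000530f168800000000c02005de0000000000030048) (Net.cons (nat_lit 64) (nat_lit 0x193d1a6a27800006000000000000000000000000000bc24c) (Net.cons (nat_lit 128) (nat_lit 0x56a3d586517e47b9291d2bf9adda40) (Net.cons (nat_lit 256) (nat_lit 0xfff4c) (Net.cons (nat_lit 128) (nat_lit 227321) (Net.cons (nat_lit 64) (nat_lit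 0x31f52f33ec4d50a500000000000000001be1f3ece48c5782) (Net.cons (nat_lit 32) (nat_lit 0xbf7ca490000000005a6e3e8c00000000ab90975700000000008804b2) (Net.cons (nat_lit 16) (nat_lit 0x3d680000b56600007174000010bb000053a20000fbe000001a5600001d82) (Net.cons (nat_lit 8) (nat_lit 0x1b002c00e000e8004c00b2004b003800b400780035003f00690067006c001b003c) (Net.cons (nat_lit 4) (nat_lit 0x908020e050d02010c0605020005030b0e0c0405040f0f0306020e070e0a06070e) (Net.cons (nat_lit 2) (nat_lit 0x220230320022211012213100033032032200021133230213003321133331200310111) (Net.cons (nat_lit 1) (nat_lit 0x554410014151455441455514004015444010515405151110044410404510401404400) Net.nil)))))))))))))))))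

theorem g537_ok : Net.ok 276 g537 = true := by decide +kernel

noncomputable def g538 : Net := (Net.cons (nat_lit 1) (nat_lit 0x10015151541501454101014154455540405145454441505014511155040010545104) (Net.cons (nat_lit 2) (nat_lit 0x310202033332122121011100110110120321223022000211312213313000032010020) (Net.cons (nat_lit 4) (nat_lit 0x80d09000a0d0d050a020c0a01070d06000109040c01010a07070309040b0a03050b) (Net.cons (nat_lit 8) (nat_lit 0x11002e00610011009a007300d0002b001700cc00c5001d001100c60084009a0000) (Net.cons (nat_lit 16) (nat_lit 0x900005c2b0000d14b00001b6a00000c930000a385000038230000588c00002400) (Net.cons (nat_lit 32) (nat_lit 0x290981fa000000000f91b4b5000000003a4583ca0000000000022001) (Net.cons (nat_lit 64) (nat_lit 0x4780c51ed572b868000000000000000000000000000400eb) (Net.cons (nat_lit 128) (nat_lit 0x61916a294a2ae0a52613bf169d569c10) (Net.cons (nat_lit 256) (nat_lit 441851) (Net.cons (nat_lit 128) (nat_lit 561357) (Net.cons (nat_lit 64) (nat_lit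 0xa5ebf02ee11dc2c80000000000000000342f419a4fecd8bd) (Net.cons (nat_lit 32) (nat_lit 0x9bd7f69b000000000bbf4da100000000f537197a000000003fa53a1b) (Net.cons (nat_lit 16) (nat_lit 0x90000388000004ac900004f9700007da60000af7f0000eb6700003c9400002efc) (Net.cons (nat_lit 8) (nat_lit 0x3c0086006f00b60060002f00c6001e00900074000b0024007e00a10087008b00f0) (Net.cons (nat_lit 4) (nat_lit 0x90b0a010f0f0f0502020c0b010704010609090e0c0b0d0f070f0f0c0e0301000f05) (Net.cons (nat_lit 2) (nat_lit 0x331110201201101133031112210232022221001312020113300101203120123223200) (Net.cons (nat_lit 1) (nat_lit 0x510110145441415111515115454155545041445451444041015041500041440511104) Net.nil)))))))))))))))))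

theorem g538_ok : Net.ok 276 g538 = true := by decide +kernel

noncomputable def tt_c18_K : List Net := [g535, g534, g536, g537, g538, n_t]

theorem tt_c18_K_ok : okE 276 tt_c18_K = true := (okE_cons.2 ⟨g535_ok, (okE_cons.2 ⟨g534_ok, (okE_cons.2 ⟨g536_ok, (okE_cons.2 ⟨g537_ok, (okE_cons.2 ⟨g538_ok, (okE_cons.2 ⟨n_t_ok, (okE_nil 276)⟩)⟩)⟩)⟩)⟩)⟩)

noncomputable def tt_c18_cnt_EG : List Net := [g124, g125, g126, g127, n_k3, n_t]

theorem tt_c18_cnt_EG_ok : okE 276 tt_c18_cnt_EG = true := (okE_cons.2 ⟨g124_ok, (okE_cons.2 ⟨g125_ok, (okE_cons.2 ⟨g126_ok, (okE_cons.2 ⟨g127_ok, (okE_cons.2 ⟨n_k3_ok, (okE_cons.2 ⟨n_t_ok, (okE_nil 276)⟩)⟩)⟩)⟩)⟩)⟩)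

noncomputable def g540 : Net := (Net.cons (nat_lit 1) (nat_lit 0x4100514005544141041510400100005005541440001401155141410400000554550) (Net.cons (nat_lit 2) (nat_lit 0x101313110321232003330033122303201031010103222001302110332000032010020) (Net.cons (nat_lit 4) (nat_lit 0xc08080c0a0e04090d0f0c06070b0e050204060a000e00060d060803030000060501) (Net.cons (nat_lit 8) (nat_lit 0x1500fc00ac003d00bc009900ef0069003900d5006c009900710017000a000b000b) (Net.cons (nat_lit 16) (nat_lit 0x60000b9090000a0130000da4b0000b154000083e0000012c20000ddb200001140) (Net.cons (nat_lit 32) (nat_lit 0xa6d0cdf0000000009af5a09000000006e8dad84000000000007ba01) (Net.cons (nat_lit 64) (nat_lit 0x48192da801d2862000000000000000000000000000c8800) (Net.cons (nat_lit 128) (nat_lit 0xbdec240a869f52f0106dfed11cc923c9) (Net.cons (nat_lit 256) (nat_lit 0xfbbeb) (Net.cons (nat_lit 128) (nat_lit 724247) (Net.cons (nat_lit 64) (nat_lit 0xd16f96d524e730300000000000000000d5ec88dc2bcdc7d3) (Net.cons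 (nat_lit 32) (nat_lit 0x9e30c3e000000000c1335f38000000004183a6fe0000000045fffb48) (Net.cons (nat_lit 16) (nat_lit 0x70000fb2e00001e7900004fc10000f9af0000104900001eae000002e20000c166) (Net.cons (nat_lit 8) (nat_lit 0x66007b003c008d004d00d8001d0005009100d6006800ae007b004c002000760010) (Net.cons (nat_lit 4) (nat_lit 0x1070e080703060f030c0d050d04030704030c00040e0208060b0801040403030c08) (Net.cons (nat_lit 2) (nat_lit 0x331210112301102032031111130131031000233111132111113101311013121012121) (Net.cons (nat_lit 1) (nat_lit 0x15041011555515505414154454405504111400000100555444401404105014004511) Net.nil)))))))))))))))))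

theorem g540_ok : Net.ok 276 g540 = true := by decide +kernel

noncomputable def g541 : Net := (Net.cons (nat_lit 1) (nat_lit 0x100015114010444011445540545555405000005111004441550141000045551454010) (Net.cons (nat_lit 2) (nat_lit 0x102322103103031323100020111010223013130223102230102000222111021330220) (Net.cons (nat_lit 4) (nat_lit 0xb070b080c060f0c0c010a01070c040d03030708080a06020b080402010f03090f08) (Net.cons (nat_lit 8) (nat_lit 0x33003400af000700f700fd006e0061007b008a004a00e0008600ec00e000020001) (Net.cons (nat_lit 16) (nat_lit 0xe00006c4c0000b4700000b8860000cf0f000003a300008010000040540000d060) (Net.cons (nat_lit 32) (nat_lit 0x51080ad1000000004c60c90b00000000680f08f00000000000025a18) (Net.cons (nat_lit 64) (nat_lit 0xa097e20c211e4c00000000000000000000000000081084) (Net.cons (nat_lit 128) (nat_lit 0xf703642920f44adee5a893d38cc88d6c) (Net.cons (nat_lit 256) (nat_lit 778237) (Net.cons (nat_lit 128) (nat_lit 381383) (Net.cons (nat_lit 64) (nat_lit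 0xaeeda560dff37df20000000000000000baa16929a0b27748) (Net.cons (nat_lit 32) (nat_lit 0xc661e4fd000000003eb6061f000000001a02f6320000000065ccca49) (Net.cons (nat_lit 16) (nat_lit 0x60000b685000038c400009fa10000cb15000078410000a9c2000011d00000a719) (Net.cons (nat_lit 8) (nat_lit 0x7600ac00b900fe002d005900ae001c008100b700480060007300f40007009a006c) (Net.cons (nat_lit 4) (nat_lit 0xf000c020f09030609020e060d0a0c0f080c0900040105000e0f000c020808090d04) (Net.cons (nat_lit 2) (nat_lit 0x100330101210323020003332210303232012101223230101310011130313323332121) (Net.cons (nat_lit 1) (nat_lit 0x154010055104550040110540114115111154144044114555405155551411400041154) Net.nil)))))))))))))))))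

theorem g541_ok : Net.ok 276 g541 = true := by decide +kernel

noncomputable def g542 : Net := (Net.cons (nat_lit 1) (nat_lit 0x401015000000454154410544044041041045114500540154515405155404150151144) (Net.cons (nat_lit 2) (nat_lit 0x33132232022213132012012232303003002102203020301213032300103102010010) (Net.cons (nat_lit 4) (nat_lit 0x20f0f05030e050f0b0a04040807070b0104010c0b0d010f0b0b050e0b0d070a00) (Net.cons (nat_lit 8) (nat_lit 0x1200e30006001a003900250081001d0023008500d100fa00ef00c3004900650000) (Net.cons (nat_lit 16) (nat_lit 0xb0000cd3c0000072000005c040000565e00001c660000421a000077aa0000c260) (Net.cons (nat_lit 32) (nat_lit 0x2b1893900000000043f4548600000000adc8aec600000000000463b9) (Net.cons (nat_lit 64) (nat_lit 0x80b4c804242ceb09000000000000000000000000000324c6) (Net.cons (nat_lit 128) (nat_lit 0xb532ae0d6cfff017648c60d08284a26d) (Net.cons (nat_lit 256) (nat_lit 518143) (Net.cons (nat_lit 128) (nat_lit 245517) (Net.cons (nat_lit 64) (nat_lit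 0xcae180aaf5254b38000000000000000084cb79cc3b35d393) (Net.cons (nat_lit 32) (nat_lit 0x8c514b5f0000000012a3f215000000008b507ee800000000f0744cc0) (Net.cons (nat_lit 16) (nat_lit 0x800004487000093060000c8b90000d1b700005294000087530000b676000014b2) (Net.cons (nat_lit 8) (nat_lit 0x3700fc00ec00ec00c8002100b7000f005b00af001200d8006d0051002d00830093) (Net.cons (nat_lit 4) (nat_lit 0x40e070e070401080a0f010a040203090804060601060e080c090c030a02070a07) (Net.cons (nat_lit 2) (nat_lit 0x313332102323103302222233302221100112031232212022213213013102130112200) (Net.cons (nat_lit 1) (nat_lit 0x445151451404445414005414004455510515144101101405004441450410514105050) Net.nil)))))))))))))))))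

theorem g542_ok : Net.ok 276 g542 = true := by decide +kernel

noncomputable def tt_c19_K : List Net := [g541, g540, g542, g452, g522]

theorem tt_c19_K_ok : okE 276 tt_c19_K = true := (okE_cons.2 ⟨g541_ok, (okE_cons.2 ⟨g540_ok, (okE_cons.2 ⟨g542_ok, (okE_cons.2 ⟨g452_ok, (okE_cons.2 ⟨g522_ok, (okE_nil 276)⟩)⟩)⟩)⟩)⟩)

noncomputable def tt_c19_cnt_EG : List Net := [g124, g125, g126, g127, n_k3, n_t, g414, g419, g420, g417, n_u]

theorem tt_c19_cnt_EG_ok : okE 276 tt_c19_cnt_EG = true := (okE_cons.2 ⟨g124_ok, (okE_cons.2 ⟨g125_ok, (okE_cons.2 ⟨g126_ok, (okE_cons.2 ⟨g127_ok, (okE_cons.2 ⟨n_k3_ok, (okE_cons.2 ⟨n_t_ok, (okE_cons.2 ⟨g414_ok, (okE_cons.2 ⟨g419_ok, (okE_cons.2 ⟨g420_ok, (okE_cons.2 ⟨g417_ok, (okE_cons.2 ⟨n_u_ok, (okE_nil 276)⟩)⟩)⟩)⟩)⟩)⟩)⟩)⟩)⟩)⟩)⟩)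

noncomputable def g544 : Net := (Net.cons (nat_lit 1) (nat_lit 0x10051055445150040010504015554504504141410000114404045501514051411540) (Net.cons (nat_lit 2) (nat_lit 0x21103223222002000301310300121133303023223020023211130122211101303220) (Net.cons (nat_lit 4) (nat_lit 0x80d000a0d020d010d070802030b0407040104000d070d0c0d0b0e050f0000050800) (Net.cons (nat_lit 8) (nat_lit 0xb4000d00a200e900f1008d009f002f002a00340007006700640001001500e60001) (Net.cons (nat_lit 16) (nat_lit 0x600001589000024b700005f1400005a450000829600006cdd0000496c00009400) (Net.cons (nat_lit 32) (nat_lit 0x110864e200000000224869c9000000000a1136b9000000000008518e) (Net.cons (nat_lit 64) (nat_lit 0x6300488a263f3e490000000000000000000000000000483a) (Net.cons (nat_lit 128) (nat_lit 0xf79805431de2d11643248ba966ad664) (Net.cons (nat_lit 256) (nat_lit 0xfdfff) (Net.cons (nat_lit 128) (nat_lit 230408) (Net.cons (nat_lit 64) (nat_lit 0x5e8aa3386777ac15000000000000000048142f6006c658b1) (Net.cons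 (nat_lit 32) (nat_lit 0x551edfb3000000005692ca6e00000000bd5d688300000000156d743c) (Net.cons (nat_lit 16) (nat_lit 0xa000010cf0000775000006070000036f30000d2ff0000338f0000c6380000f6a3) (Net.cons (nat_lit 8) (nat_lit 0xa4001d00b4008e004c009f000a003b00ac0077003600790071002200ea00a000d0) (Net.cons (nat_lit 4) (nat_lit 0xc0d000800040b07070e0904030507060103090e0101070d0d0f0e04040d07070e0e) (Net.cons (nat_lit 2) (nat_lit 0x222101232120210001321131220303020111320010310010222222320033101203313) (Net.cons (nat_lit 1) (nat_lit 0x515404041110100150454554005104041515140415010145050515101141551014054) Net.nil)))))))))))))))))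

theorem g544_ok : Net.ok 276 g544 = true := by decide +kernel

noncomputable def g545 : Net := (Net.cons (nat_lit 1) (nat_lit 0x451110145511544405154110115115044501441001511405545510010444440510104) (Net.cons (nat_lit 2) (nat_lit 0x310013021333021232331221311003102133322201112302023013000010032012000) (Net.cons (nat_lit 4) (nat_lit 0x101030f0b070c0b060e07050b0e0609010b0e0c050b050303070f030e08010f0703) (Net.cons (nat_lit 8) (nat_lit 0xf6003d001300320024000e00e00040002f003900cd0011008f00d7009c001e0000) (Net.cons (nat_lit 16) (nat_lit 0x50000a87300009d2e0000025a00007dc30000ad95000060240000125e000081b0) (Net.cons (nat_lit 32) (nat_lit 0xd0e6403f000000000deef917000000003a2033550000000000014a0a) (Net.cons (nat_lit 64) (nat_lit 0xde00f5462182878200000000000000000000000000000598) (Net.cons (nat_lit 128) (nat_lit 0x745522517f2a12ef8b4cdf3718b4c5a0) (Net.cons (nat_lit 256) (nat_lit 516090) (Net.cons (nat_lit 128) (nat_lit 307396) (Net.cons (nat_lit 64)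 (nat_lit 0x83cab8a039b647d500000000000000000cd8a112bac834b3) (Net.cons (nat_lit 32) (nat_lit 0x871e15ec00000000284f91e80000000070b65cdd00000000e1cf69e0) (Net.cons (nat_lit 16) (nat_lit 0x60000a2a200008a1c000034f9000061cf0000538b00003fa000006d8800001312) (Net.cons (nat_lit 8) (nat_lit 0x51001800a700a50082006f002f005100b3007f005400df009600ff00a0003500b9) (Net.cons (nat_lit 4) (nat_lit 0x90a0f010207000e0e090400090a000b060e0a00070a0909000b020308060a050506) (Net.cons (nat_lit 2) (nat_lit 0x320121212133203331332320230201022330110203002112000122233332311003310) (Net.cons (nat_lit 1) (nat_lit 0x441415014555514001404154405510445040501451451150451411505111514451554) Net.nil)))))))))))))))))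

theorem g545_ok : Net.ok 276 g545 = true := by decide +kernel

noncomputable def g546 : Net := (Net.cons (nat_lit 1) (nat_lit 0x145450055451541044510405451155410050144411044004400110410015411040400) (Net.cons (nat_lit 2) (nat_lit 0x13023232232301133202022132320232103220001301322313112213023220003010) (Net.cons (nat_lit 4) (nat_lit 0x5010101040a0f0d0904040e0a0c02070e010a0203000b04040709080e0900040800) (Net.cons (nat_lit 8) (nat_lit 0x8008f004b007600190066000200a000c100060040006b006f006a000b00030001) (Net.cons (nat_lit 16) (nat_lit 0x70000c600000072ec00006eb400007c4b000078060000b5280000d12200004040) (Net.cons (nat_lit 32) (nat_lit 0xc0001e3400000000148c6cdc00000000023c28800000000000060540) (Net.cons (nat_lit 64) (nat_lit 0x39964084c5a8500500000000000000000000000000011000) (Net.cons (nat_lit 128) (nat_lit 0x36213beca154c57e099fcd016eecf07d) (Net.cons (nat_lit 256) (nat_lit 0xff77d) (Net.cons (nat_lit 128) (nat_lit 976263) (Net.cons (nat_lit 64) (nat_lit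 0xfd852f9bee044b930000000000000000c67db4ba0926fa96) (Net.cons (nat_lit 32) (nat_lit 0xd74f8f1c00000000509e4aff000000009202f27000000000ee3bfa0b) (Net.cons (nat_lit 16) (nat_lit 0x20000e86a0000678b0000c4e600009a2900002df80000637c0000137500005324) (Net.cons (nat_lit 8) (nat_lit 0x1b00ff005500ee009800ee006100c0007f00ca00ee00ca006300a2007f001b00cd) (Net.cons (nat_lit 4) (nat_lit 0x40c07080d01070c0b0500050a010d0702000f0407020b010f0707030a0e000e0701) (Net.cons (nat_lit 2) (nat_lit 0x121122130302100031020000330331332020123010103323003213330232113331102) (Net.cons (nat_lit 1) (nat_lit 0x501414051504551041111404050011450414444045104055450154450051451411404) Net.nil)))))))))))))))))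

theorem g546_ok : Net.ok 276 g546 = true := by decide +kernel

noncomputable def tt_c20_K : List Net := [g544, g545, g546, n_t]

theorem tt_c20_K_ok : okE 276 tt_c20_K = true := (okE_cons.2 ⟨g544_ok, (okE_cons.2 ⟨g545_ok, (okE_cons.2 ⟨g546_ok, (okE_cons.2 ⟨n_t_ok, (okE_nil 276)⟩)⟩)⟩)⟩)

noncomputable def g548 : Net := (Net.cons (nat_lit 1) (nat_lit 0x141554101511004100541545140415041540010445445145054051401050040005140) (Net.cons (nat_lit 2) (nat_lit 0x123310322231112312033133201122111002233123320110312013100200030000000) (Net.cons (nat_lit 4) (nat_lit 0x7000a01090a0904010602070e0d0d01020406070800020002010e0b0d0404040001) (Net.cons (nat_lit 8) (nat_lit 0xf0006500e8008100200042004000f20050000c00c30082000000bc004400800000) (Net.cons (nat_lit 16) (nat_lit 0xc0000aa2b000009500000c3650000831a0000205e00008365000090e000000380) (Net.cons (nat_lit 32) (nat_lit 0xc9af873500000000cc03407100000000046135610000000000001c41) (Net.cons (nat_lit 64) (nat_lit 0xd002a5001010146800000000000000000000000000040221)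 (Net.cons (nat_lit 128) (nat_lit 0xfe874365972690ed0fc4a448031795d8) (Net.cons (nat_lit 256) (nat_lit 499705) (Net.cons (nat_lit 128) (nat_lit 513245) (Net.cons (nat_lit 64) (nat_lit 0x5d03fd90d0981f6800000000000000006c38b80001448725) (Net.cons (nat_lit 32) (nat_lit 0x5aee4f33000000005d13087400000000b6e197c7000000007505dfd5) (Net.cons (nat_lit 16) (nat_lit 0xc00008a3b000029d10000e7610000f31b000050de0000abf40000f1e100004384) (Net.cons (nat_lit 8) (nat_lit 0xf1006000e900810021004a004000f30051000d00c20082004500bc004500850000) (Net.cons (nat_lit 4) (nat_lit 0x5020a01090e0904030603030e0d0d01020002070803030202010b0e0d0407040009) (Net.cons (nat_lit 2) (nat_lit 0x123310222231012313033132201122111002333123330110312013011200020000000) (Net.cons (nat_lit 1) (nat_lit 0x141554101511104100541545140415041540010445445145054051401440001005140) Net.nil)))))))))))))))))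

theorem g548_ok : Net.ok 276 g548 = true := by decide +kernel

noncomputable def g549 : Net := (Net.cons (nat_lit 1) (nat_lit 0x500044441051415504115554455500015414140444401111414140011411405441540) (Net.cons (nat_lit 2) (nat_lit 0x133031333202202121221200120302001100030102000023231130201021103113120) (Net.cons (nat_lit 4) (nat_lit 0xe09050709040e0105080e0400030d05080d07060e0f060107020002020d0c080500) (Net.cons (nat_lit 8) (nat_lit 0x1f003d0077004b0055007f00070035000b00750088008300b2008400e700280002) (Net.cons (nat_lit 16) (nat_lit 0xd0000984c0000fa51000026b10000de6f00008a1000005e3600001bfe000090a0) (Net.cons (nat_lit 32) (nat_lit 0x797f6208000000000aad9a3800000000e9d5035100000000000cef92) (Net.cons (nat_lit 64) (nat_lit 0x8848425a263453e000000000000000000000000000008120) (Net.cons (nat_lit 128) (nat_lit 0x9787ba39844ec55e0d7c786722bd64d8) (Net.cons (nat_lit 256) (nat_lit 0xfffff) (Net.cons (nat_lit 128) (nat_lit 0xf7230) (Net.cons (nat_lit 64)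 (nat_lit 0xb50ac804605c5db60000000000000000e66b63610ed8e19e) (Net.cons (nat_lit 32) (nat_lit 0x513a32380000000088431a2700000000c99abee10000000019850618) (Net.cons (nat_lit 16) (nat_lit 0x8c1c0000324000002df90000532c000024550000aedb000064af00008ee3) (Net.cons (nat_lit 8) (nat_lit 0x9400a600f000b900ef0026002a0076007000b1007d002600ae000e000f005c000b) (Net.cons (nat_lit 4) (nat_lit 0x8040e0e09010b0000060e030b04030302070502090d0b0a0c030704080a03050504) (Net.cons (nat_lit 2) (nat_lit 0x332113133333022303300012200321222203310321220121010101113103133003223) (Net.cons (nat_lit 1) (nat_lit 0x115054010141051000041514155015011455150041515545045110104111005141540) Net.nil)))))))))))))))))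

theorem g549_ok : Net.ok 276 g549 = true := by decide +kernel

noncomputable def V550 : List Net := [g548, g549, n_t]

theorem V550_ok : okE 276 V550 = true := (okE_cons.2 ⟨g548_ok, (okE_cons.2 ⟨g549_ok, (okE_cons.2 ⟨n_t_ok, (okE_nil 276)⟩)⟩)⟩)

noncomputable def V552 : List Net := [g549, n_t]

theorem V552_ok : okE 276 V552 = true := (okE_cons.2 ⟨g549_ok, (okE_cons.2 ⟨n_t_ok, (okE_nil 276)⟩)⟩)

noncomputable def V553 : List Net := [n_t]

theorem V553_ok : okE 276 V553 = true := (okE_cons.2 ⟨n_t_ok, (okE_nil 276)⟩)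

noncomputable def V554 : List Net := []

theorem V554_ok : okE 276 V554 = true := (okE_nil 276)

noncomputable def tt_c20_cnt_EG : List Net := [g489, n_b, g490, g340, g491, n_t, n_u, g468, g469, g470, g124, g125, g126, g127, n_k3, g548, g549]

theorem tt_c20_cnt_EG_ok : okE 276 tt_c20_cnt_EG = true := (okE_cons.2 ⟨g489_ok, (okE_cons.2 ⟨n_b_ok, (okE_cons.2 ⟨g490_ok, (okE_cons.2 ⟨g340_ok, (okE_cons.2 ⟨g491_ok, (okE_cons.2 ⟨n_t_ok, (okE_cons.2 ⟨n_u_ok, (okE_cons.2 ⟨g468_ok, (okE_cons.2 ⟨g469_ok, (okE_cons.2 ⟨g470_ok, (okE_cons.2 ⟨g124_ok, (okE_cons.2 ⟨g125_ok, (okE_cons.2 ⟨g126_ok, (okE_cons.2 ⟨g127_ok, (okE_cons.2 ⟨n_k3_ok, (okE_cons.2 ⟨g548_ok, (okE_cons.2 ⟨g549_ok, (okE_nil 276)⟩)⟩)⟩)⟩)⟩)⟩)⟩)⟩)⟩)⟩)⟩)⟩)⟩)⟩)⟩)⟩)⟩)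

noncomputable def g555 : Net := (Net.cons (nat_lit 1) (nat_lit 0x515110104554545450051400541105055051140540051044454044111404500514444) (Net.cons (nat_lit 2) (nat_lit 0x210223233203032121302100003113022000223210122111313201120101110300000) (Net.cons (nat_lit 4) (nat_lit 0x306070d00010c0d000d0b0d060b050e03070504060f0e060c020d080b0b04090407) (Net.cons (nat_lit 8) (nat_lit 0x8e007400560062001b007f004d006400820097002c005700680007005900590002) (Net.cons (nat_lit 16) (nat_lit 0x9000053e800007da90000420f000028e2000019ea000052b3000068b200000640) (Net.cons (nat_lit 32) (nat_lit 0xdc164946000000006873f8e400000000b94591830000000000090960) (Net.cons (nat_lit 64) (nat_lit 0x208c2024144c5a5e00000000000000000000000000000154) (Net.cons (nat_lit 128) (nat_lit 0x6c6f9dc1a90303285390b8f51f463285) (Net.cons (nat_lit 256) (nat_lit 999415) (Net.cons (nat_lit 128) (nat_lit 0xf58d2) (Net.cons (nat_lit 64) (nat_lit 0xcaf30c9a31c49c9e00000000000000002d6c5972d57b2add) (Net.cons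 (nat_lit 32) (nat_lit 0x295906a9000000009ee7596f0000000040780bd800000000d1cd3fa6) (Net.cons (nat_lit 16) (nat_lit 0xe0000b12f000030bc0000b78300003f280000102f0000577a0000059200002b57) (Net.cons (nat_lit 8) (nat_lit 0x2f00ef00060074005a00f700a50079006f00a6003100f800110065006a0008005b) (Net.cons (nat_lit 4) (nat_lit 0x50b08070002080101010a0908060f0a08070b0209020b05030b030603030e010704) (Net.cons (nat_lit 2) (nat_lit 0x303013203132300023011102031220023012230123302113300113131112001333311) (Net.cons (nat_lit 1) (nat_lit 0x151045444555450041455041145140445550011041010405405000140101154044140) Net.nil)))))))))))))))))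

theorem g555_ok : Net.ok 276 g555 = true := by decide +kernel

noncomputable def g556 : Net := (Net.cons (nat_lit 1) (nat_lit 0x414050014055100155411415500514550545041114554545451554054454054415100) (Net.cons (nat_lit 2) (nat_lit 0x131031310222022210103010000010202232201312113231202113211122330230220) (Net.cons (nat_lit 4) (nat_lit 0xe0a0e0c0e0e02030d0c06000002050003000c0b0102020e0a050f0d0b0605030c08) (Net.cons (nat_lit 8) (nat_lit 0x2a009d00c900ad0021004d00f70089007900ab008e006b004e00ed004900050008) (Net.cons (nat_lit 16) (nat_lit 0x6000077d60000ee440000aa5c0000e3360000748500000c04000008280000a210) (Net.cons (nat_lit 32) (nat_lit 0x6e88cb5b0000000090f1ccdc000000001606912600000000000b2f03) (Net.cons (nat_lit 64) (nat_lit 0xe17032c0d46230a0000000000000000000000000004a168) (Net.cons (nat_lit 128) (nat_lit 0x6f30cef6f98a2a495067d50944c2b90a) (Net.cons (nat_lit 256) (nat_lit 0xfbf7b) (Net.cons (nat_lit 128) (nat_lit 865338) (Net.cons (nat_lit 64)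 (nat_lit 0xaec95aed234714040000000000000000c4027d67bbed8221) (Net.cons (nat_lit 32) (nat_lit 0xf8dbb32300000000fb9bed4000000000b26c35c6000000007a7bb9c7) (Net.cons (nat_lit 16) (nat_lit 0xc000042f2000016c20000206e0000d496000056350000862a000093b50000c8b5) (Net.cons (nat_lit 8) (nat_lit 0xc2005f00ff001500f1000a0017002d005d006f00920028008a00a500ec000700da) (Net.cons (nat_lit 4) (nat_lit 0xd0f000b010903010e0f0407080a0f060209060b090a0e03060b0902090f00090d0d) (Net.cons (nat_lit 2) (nat_lit 0x302312312112020032201223132123322001323311131331000302130322012221023) (Net.cons (nat_lit 1) (nat_lit 0x1540404140145100555454055144000000440554514041504541450505150515111) Net.nil)))))))))))))))))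

theorem g556_ok : Net.ok 276 g556 = true := by decide +kernel

noncomputable def tt_c21_K : List Net := [g231, g555, g556, n_t]

theorem tt_c21_K_ok : okE 276 tt_c21_K = true := (okE_cons.2 ⟨g231_ok, (okE_cons.2 ⟨g555_ok, (okE_cons.2 ⟨g556_ok, (okE_cons.2 ⟨n_t_ok, (okE_nil 276)⟩)⟩)⟩)⟩)

noncomputable def tt_c21_cnt_EG : List Net := [g489, n_b, g490, g340, g491, n_t, n_u, g468, g469, g470, g124, g125, g126, g127, n_k3, g548, g549]

theorem tt_c21_cnt_EG_ok : okE 276 tt_c21_cnt_EG = true := (okE_cons.2 ⟨g489_ok, (okE_cons.2 ⟨n_b_ok, (okE_cons.2 ⟨g490_ok, (okE_cons.2 ⟨g340_ok, (okE_cons.2 ⟨g491_ok, (okE_cons.2 ⟨n_t_ok, (okE_cons.2 ⟨n_u_ok, (okE_cons.2 ⟨g468_ok, (okE_cons.2 ⟨g469_ok, (okE_cons.2 ⟨g470_ok, (okE_cons.2 ⟨g124_ok, (okE_cons.2 ⟨g125_ok, (okE_cons.2 ⟨g126_ok, (okE_cons.2 ⟨g127_ok, (okE_cons.2 ⟨n_k3_ok, (okE_cons.2 ⟨g548_ok, (okE_cons.2 ⟨g549_ok, (okE_nil 276)⟩)⟩)⟩)⟩)⟩)⟩)⟩)⟩)⟩)⟩)⟩)⟩)⟩)⟩)⟩)⟩)⟩)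

noncomputable def g558 : Net := (Net.cons (nat_lit 1) (nat_lit 0x555010540545500004154510500510000015011105015514545511450501500111414) (Net.cons (nat_lit 2) (nat_lit 0x32132032322230003220121132202331311303332132031101000311120113122020) (Net.cons (nat_lit 4) (nat_lit 0xd0007010e070404080d0f0609010a0f06030d09010c03010e0303050b06060b0001) (Net.cons (nat_lit 8) (nat_lit 0x70030001e00a400e900cd0065005d00000076007b00f000ab0093001700400004) (Net.cons (nat_lit 16) (nat_lit 0xb0000128e00002b6c0000b1a2000009fd00008e800000e123000031cd00001400) (Net.cons (nat_lit 32) (nat_lit 0xf21e0088000000008168248800000000222514b50000000000000017) (Net.cons (nat_lit 64) (nat_lit 0x4ac848640486e60700000000000000000000000000003804) (Net.cons (nat_lit 128) (nat_lit 0xd116f71b207902852cca704f4a6b91c) (Net.cons (nat_lit 256) (nat_lit 524191) (Net.cons (nat_lit 128) (nat_lit 776131) (Net.cons (nat_lit 64) (nat_lit 0xcde6f0301ee9878400000000000000005c4dac6e71fe8e81) (Net.cons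 (nat_lit 32) (nat_lit 0xab1812c900000000cd889cca00000000927dfea500000000df999ece) (Net.cons (nat_lit 16) (nat_lit 0xa000013ec000049c90000d3fd0000c9730000bcee00004ae90000b8c30000d9b4) (Net.cons (nat_lit 8) (nat_lit 0xb30048009b00e700b3002200690028004200c100f2008500e0004c0012005c001b) (Net.cons (nat_lit 4) (nat_lit 0x90305070e0c0905020803050b0508090004020f0e050c06060c0b08000a0a0b0f0c) (Net.cons (nat_lit 2) (nat_lit 0x333133000220230213100021200023132131020031130122000211203302103223010) (Net.cons (nat_lit 1) (nat_lit 0x544550040455411104444140051514451015411554111554105404555110101110454) Net.nil)))))))))))))))))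

theorem g558_ok : Net.ok 276 g558 = true := by decide +kernel

noncomputable def g559 : Net := (Net.cons (nat_lit 1) (nat_lit 0x445101014410500011440045100410455115145005151045041514041151404111104) (Net.cons (nat_lit 2) (nat_lit 0x130133321232203013230020303330200133223203210112030331123032221213100) (Net.cons (nat_lit 4) (nat_lit 0x703030d070d0c0d070f0d0304030a0104080e080e060c0f070d0d03010d09020301) (Net.cons (nat_lit 8) (nat_lit 0x1a008600cf0042009600f700df00440080007000d500c7005f00bc00bb00820005) (Net.cons (nat_lit 16) (nat_lit 0x50000b1d800000e05000056400000b352000057680000af600000db6100008f00) (Net.cons (nat_lit 32) (nat_lit 0xa219c2e00000000d9452c1e000000001d83582e0000000000088ca1) (Net.cons (nat_lit 64) (nat_lit 0x84c2897260387ed000000000000000000000000000080226) (Net.cons (nat_lit 128) (nat_lit 0x38bd544e516ef852ae5aafb83fdd7eca) (Net.cons (nat_lit 256) (nat_lit 917487) (Net.cons (nat_lit 128) (nat_lit 703526) (Net.cons (nat_lit 64) (nat_lit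 0x7825fc138f5240900000000000000009c041f8d70264a31) (Net.cons (nat_lit 32) (nat_lit 0xe6989b9000000004e8936af000000003bc90d000000000074c6155c) (Net.cons (nat_lit 16) (nat_lit 0xc0000c29b000092350000ddee00003e7a0000a8ec0000e0f60000b7780000b3f8) (Net.cons (nat_lit 8) (nat_lit 0xb000a400c7008600f6004e00490059008c00ce000a003d00c4002e0042003f0071) (Net.cons (nat_lit 4) (nat_lit 0x8000b0c0109010e010b0605060606010e030d020e030c01090d07090d01010b0500) (Net.cons (nat_lit 2) (nat_lit 0x20003232323303212132132313323203223213121302333011120120020203332012) (Net.cons (nat_lit 1) (nat_lit 0x454000440450515001155004004040054514100041050544050415045044101101104) Net.nil)))))))))))))))))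

theorem g559_ok : Net.ok 276 g559 = true := by decide +kernel

noncomputable def tt_c22_K : List Net := [g558, g559, g450, n_t]

theorem tt_c22_K_ok : okE 276 tt_c22_K = true := (okE_cons.2 ⟨g558_ok, (okE_cons.2 ⟨g559_ok, (okE_cons.2 ⟨g450_ok, (okE_cons.2 ⟨n_t_ok, (okE_nil 276)⟩)⟩)⟩)⟩)

noncomputable def tt_c22_cnt_EG : List Net := [g489, n_b, g490, g340, g491, n_t, n_u, g468, g469, g470, g124, g125, g126, g127, n_k3, g548, g549]

theorem tt_c22_cnt_EG_ok : okE 276 tt_c22_cnt_EG = true := (okE_cons.2 ⟨g489_ok, (okE_cons.2 ⟨n_b_ok, (okE_cons.2 ⟨g490_ok, (okE_cons.2 ⟨g340_ok, (okE_cons.2 ⟨g491_ok, (okE_cons.2 ⟨n_t_ok, (okE_cons.2 ⟨n_u_ok, (okE_cons.2 ⟨g468_ok, (okE_cons.2 ⟨g469_ok, (okE_cons.2 ⟨g470_ok, (okE_cons.2 ⟨g124_ok, (okE_cons.2 ⟨g125_ok, (okE_cons.2 ⟨g126_ok, (okE_cons.2 ⟨g127_ok, (okE_cons.2 ⟨n_k3_ok, (okE_cons.2 ⟨g548_ok, (okE_cons.2 ⟨g549_ok, (okE_nil 276)⟩)⟩)⟩)⟩)⟩)⟩)⟩)⟩)⟩)⟩)⟩)⟩)⟩)⟩)⟩)⟩)⟩)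

noncomputable def g561 : Net := (Net.cons (nat_lit 1) (nat_lit 0x11500005050444011510555114051054510044001554101444404445501554501000) (Net.cons (nat_lit 2) (nat_lit 0x220022223100133220202103323013001013001121301102303102200121311331320) (Net.cons (nat_lit 4) (nat_lit 0x80b0a040d0003020c05070a050a07040508090c080b0d0c0b080000040a000f0805) (Net.cons (nat_lit 8) (nat_lit 0x1300d1007c00f2009a003d007e00d1009200d2002c00e2004d009c007c0080000d) (Net.cons (nat_lit 16) (nat_lit 0x50000469c0000373200002cc00000053a00007cf200009af60000124a00008620) (Net.cons (nat_lit 32) (nat_lit 0xcbb23d3400000000d89380ae0000000001ede005000000000000a244) (Net.cons (nat_lit 64) (nat_lit 0xe278f03e9c09300600000000000000000000000000009600) (Net.cons (nat_lit 128) (nat_lit 0x845e266975cf59327e26d8578b9a40de) (Net.cons (nat_lit 256) (nat_lit 784382) (Net.cons (nat_lit 128) (nat_lit 568959) (Net.cons (nat_lit 64) (nat_lit 0x31dc067133b02f740000000000000000eb5254dfc6b5d450) (Net.cons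 (nat_lit 32) (nat_lit 0x7a5220f0000000008cd17aa000000001b3f5712000000008b1a9684) (Net.cons (nat_lit 16) (nat_lit 0xa00001813000024b10000753c000029f200009208000001bf0000d85a000021a4) (Net.cons (nat_lit 8) (nat_lit 0x6a00e1007c00ea0081001b00ee00f900c100ab000e0088005800610008002a00fd) (Net.cons (nat_lit 4) (nat_lit 0xe0e06040f0504010302030b0b0107050d030106030e0c090901010f0e09080d070d) (Net.cons (nat_lit 2) (nat_lit 0x332330131113332300002023231133310202100033331113021100113221312233300) (Net.cons (nat_lit 1) (nat_lit 0x44101401154450404115454505550455551441005114004014015514540554441414) Net.nil)))))))))))))))))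

theorem g561_ok : Net.ok 276 g561 = true := by decide +kernel

noncomputable def g562 : Net := (Net.cons (nat_lit 1) (nat_lit 0x44455011055040110451050055101500004114110104050104145504105504100110) (Net.cons (nat_lit 2) (nat_lit 0x103203223102030210130120003202222202311333201013303230312232211320020) (Net.cons (nat_lit 4) (nat_lit 0x8020e090b060c050b0d00070a08010f010d02000a0a0f040c020c040d0101030c07) (Net.cons (nat_lit 8) (nat_lit 0xd1004300720076005d0035002b005e001300ca00a700ee00be00220016000c) (Net.cons (nat_lit 16) (nat_lit 0x9000098a10000ad800000e375000095560000c99100008f270000972300004030) (Net.cons (nat_lit 32) (nat_lit 0x3f6c391200000000801648e60000000000a3c41e000000000005b6aa) (Net.cons (nat_lit 64) (nat_lit 0x386b50049c01b0a000000000000000000000000000391c8) (Net.cons (nat_lit 128) (nat_lit 0xbd01fcc146be6eea8ed64b450f541382) (Net.cons (nat_lit 256) (nat_lit 0xfffff) (Net.cons (nat_lit 128) (nat_lit 663713) (Net.cons (nat_lit 64) (nat_lit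 0xa8a714122cf3e2e00000000000000000a4a7cdc56117e8d2) (Net.cons (nat_lit 32) (nat_lit 0x79336e9a000000006c5d773900000000a08591350000000005ae5dbf) (Net.cons (nat_lit 16) (nat_lit 0x200000e7b00006ede00008ed80000cdc300005fd400008ca9000037f9000080a4) (Net.cons (nat_lit 8) (nat_lit 0x57009000fa00270000002700350093002b0090003a00ec00a700a5002300ba00a1) (Net.cons (nat_lit 4) (nat_lit 0x40e060b06060c03090f09000c02020f05060d07080909040402030e0306030b060e) (Net.cons (nat_lit 2) (nat_lit 0x1013032102213320033000300212123032123220300033020032032313200202202) (Net.cons (nat_lit 1) (nat_lit 0x45055005044554054014511100104514114454145440441541105514040040004) Net.nil)))))))))))))))))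

theorem g562_ok : Net.ok 276 g562 = true := by decide +kernel

noncomputable def g563 : Net := (Net.cons (nat_lit 1) (nat_lit 0x554005014145505451440451141504101411450104540440540154104144104145000) (Net.cons (nat_lit 2) (nat_lit 0x11010023111200231213030233123122331201203232303101122000312112122100) (Net.cons (nat_lit 4) (nat_lit 0xd0b0d08050b040e01080402080e090903060c060e030908030807040101010d0005) (Net.cons (nat_lit 8) (nat_lit 0xd300fe000b00b1003100f200b800f0008b000300670058006b00a6001100800003) (Net.cons (nat_lit 16) (nat_lit 0x40000ca030000863300002d840000ec3400005f440000b1b7000075d800004290) (Net.cons (nat_lit 32) (nat_lit 0x9bf2009c0000000085ae4beb000000002415523900000000000521b1) (Net.cons (nat_lit 64) (nat_lit 0x224249904689511000000000000000000000000000814e5) (Net.cons (nat_lit 128) (nat_lit 0xed0326d1d13c0e6f06fe136ec55f8781) (Net.cons (nat_lit 256) (nat_lit 0xffff5) (Net.cons (nat_lit 128) (nat_lit 783409) (Net.cons (nat_lit 64) (nat_lit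 0x707e7e93b58b65d00000000000000000651434159c936924) (Net.cons (nat_lit 32) (nat_lit 0x2c7418b700000000a71fd20f0000000068055a3d000000002f2467bd) (Net.cons (nat_lit 16) (nat_lit 0x1000072d700008fac0000bc4c0000d866000003bb00005d880000326800001c6f) (Net.cons (nat_lit 8) (nat_lit 0x2300710011003c007c00cc000600d1000b00d300260014000800ea00a100ff0069) (Net.cons (nat_lit 4) (nat_lit 0x4090c06090b0a0a0b0704060b0f050e010d01080c0d0c06040c04060505010d010c) (Net.cons (nat_lit 2) (nat_lit 0x321302010021231012202100213202210201313301231323211213233112332303322) (Net.cons (nat_lit 1) (nat_lit 0x500044551154045044051155155440150541551401145150510154100550001441000) Net.nil)))))))))))))))))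

theorem g563_ok : Net.ok 276 g563 = true := by decide +kernel

noncomputable def tt_c23_K : List Net := [g561, g562, g563, n_t]

theorem tt_c23_K_ok : okE 276 tt_c23_K = true := (okE_cons.2 ⟨g561_ok, (okE_cons.2 ⟨g562_ok, (okE_cons.2 ⟨g563_ok, (okE_cons.2 ⟨n_t_ok, (okE_nil 276)⟩)⟩)⟩)⟩)

noncomputable def tt_c23_cnt_EG : List Net := [g489, n_b, g490, g340, g491, n_t, n_u, g468, g469, g470, g124, g125, g126, g127, n_k3, g548, g549]

theorem tt_c23_cnt_EG_ok : okE 276 tt_c23_cnt_EG = true := (okE_cons.2 ⟨g489_ok, (okE_cons.2 ⟨n_b_ok, (okE_cons.2 ⟨g490_ok, (okE_cons.2 ⟨g340_ok, (okE_cons.2 ⟨g491_ok, (okE_cons.2 ⟨n_t_ok, (okE_cons.2 ⟨n_u_ok, (okE_cons.2 ⟨g468_ok, (okE_cons.2 ⟨g469_ok, (okE_cons.2 ⟨g470_ok, (okE_cons.2 ⟨g124_ok, (okE_cons.2 ⟨g125_ok, (okE_cons.2 ⟨g126_ok, (okE_cons.2 ⟨g127_ok, (okE_cons.2 ⟨n_k3_ok, (okE_cons.2 ⟨g548_ok, (okE_cons.2 ⟨g549_ok, (okE_nil 276)⟩)⟩)⟩)⟩)⟩)⟩)⟩)⟩)⟩)⟩)⟩)⟩)⟩)⟩)⟩)⟩)⟩)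

noncomputable def g565 : Net := (Net.cons (nat_lit 1) (nat_lit 0x10404515554501510545445555511145551500401050001115054511050445041400) (Net.cons (nat_lit 2) (nat_lit 0x113211330232330102013302301133222331322110113103303033003302322213210) (Net.cons (nat_lit 4) (nat_lit 0x70a0d0b080f060c0d0b020f060706010a00000c000a0d040f0806070b0f0800) (Net.cons (nat_lit 8) (nat_lit 0x270041000d00f0008800d600ae00ab00e00033002b003a00720093006c0002000c) (Net.cons (nat_lit 16) (nat_lit 0xb00008d33000080610000d2200000cd210000a6f900008b47000081f300002260) (Net.cons (nat_lit 32) (nat_lit 0x15e32579000000004560552b00000000c6872406000000000009c8ed) (Net.cons (nat_lit 64) (nat_lit 0x7a5002261b2814210000000000000000000000000001a0c1) (Net.cons (nat_lit 128) (nat_lit 0xf9b33fe60fd818b387cbe4897462d341) (Net.cons (nat_lit 256) (nat_lit 785405) (Net.cons (nat_lit 128) (nat_lit 476295) (Net.cons (nat_lit 64) (nat_lit 0x7107e04e2fd725740000000000000000970788d8398952e0) (Net.cons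 (nat_lit 32) (nat_lit 0xab2d23ce00000000aa3feef500000000157eb2c600000000cae46f9b) (Net.cons (nat_lit 16) (nat_lit 0xe0000954b000043c8000085d50000b9e7000097e60000313c0000101100008663) (Net.cons (nat_lit 8) (nat_lit 0x29005d00bb0082001200590020002200e100b3002200b4005800f7006a00190007) (Net.cons (nat_lit 4) (nat_lit 0x8000c0606080e08010d030a0201090c0a050e0a08080b0809070e0a04040b030d02) (Net.cons (nat_lit 2) (nat_lit 0x313221331201201232230300100300123113111013000101110010013213333301321) (Net.cons (nat_lit 1) (nat_lit 0x541115050104405054151410044451415550511550054541100515401404050545044) Net.nil)))))))))))))))))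

theorem g565_ok : Net.ok 276 g565 = true := by decide +kernel

noncomputable def g566 : Net := (Net.cons (nat_lit 1) (nat_lit 0x141554014051155015115504400405044441110511100541101140441504050100014) (Net.cons (nat_lit 2) (nat_lit 0x123023132231031132222121222021032111031221313020100010033330300023200) (Net.cons (nat_lit 4) (nat_lit 0xe010d0e00080909010c0a0101080501020907010e0109010f010906040107030409) (Net.cons (nat_lit 8) (nat_lit 0x7500c8004700eb0027007b00e200bf008e00e600e200550009000600520047000c) (Net.cons (nat_lit 16) (nat_lit 0xb1190000ac340000b2130000de5300001d5c0000050c00000e5c00004230) (Net.cons (nat_lit 32) (nat_lit 0xd37390ab000000004610089000000000510684580000000000005184) (Net.cons (nat_lit 64) (nat_lit 0x4e10108de0014a980000000000000000000000000008c415) (Net.cons (nat_lit 128) (nat_lit 0x5f01cdc29b718eec0156f66f75b14e01) (Net.cons (nat_lit 256) (nat_lit 0xfdfb5) (Net.cons (nat_lit 128) (nat_lit 595252) (Net.cons (nat_lit 64) (nat_lit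 0x52ed7f07050b4ecc00000000000000003087739621a0ee50) (Net.cons (nat_lit 32) (nat_lit 0x5acca474000000009e90fc1b00000000d89e791500000000a0061eae) (Net.cons (nat_lit 16) (nat_lit 0x600009b6d0000fa9500009884000096f100005c1a00006a3b0000779a0000399b) (Net.cons (nat_lit 8) (nat_lit 0xf300cd0030002200f40009000300c300320024003900b1004700760072004e008d) (Net.cons (nat_lit 4) (nat_lit 0x4020d08020c0209020b0b0e0900060003000a040e02070b0d0707010c030d060b00) (Net.cons (nat_lit 2) (nat_lit 0x131230223212022331332021223011203203121213300201303320123330201330000) (Net.cons (nat_lit 1) (nat_lit 0x101511411541110014441555010010414501554515544141111055510555415415014) Net.nil)))))))))))))))))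

theorem g566_ok : Net.ok 276 g566 = true := by decide +kernel

noncomputable def tt_c24_K : List Net := [g565, g566, g420, g502, n_u]

theorem tt_c24_K_ok : okE 276 tt_c24_K = true := (okE_cons.2 ⟨g565_ok, (okE_cons.2 ⟨g566_ok, (okE_cons.2 ⟨g420_ok, (okE_cons.2 ⟨g502_ok, (okE_cons.2 ⟨n_u_ok, (okE_nil 276)⟩)⟩)⟩)⟩)⟩)

noncomputable def tt_c24_cnt_EG : List Net := [g124, g125, g126, g127, n_k3, n_t, g419, g420, g417, n_u, g414]

theorem tt_c24_cnt_EG_ok : okE 276 tt_c24_cnt_EG = true := (okE_cons.2 ⟨g124_ok, (okE_cons.2 ⟨g125_ok, (okE_cons.2 ⟨g126_ok, (okE_cons.2 ⟨g127_ok, (okE_cons.2 ⟨n_k3_ok, (okE_cons.2 ⟨n_t_ok, (okE_cons.2 ⟨g419_ok, (okE_cons.2 ⟨g420_ok, (okE_cons.2 ⟨g417_ok, (okE_cons.2 ⟨n_u_ok, (okE_cons.2 ⟨g414_ok, (okE_nil 276)⟩)⟩)⟩)⟩)⟩)⟩)⟩)⟩)⟩)⟩)⟩)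

noncomputable def g568 : Net := (Net.cons (nat_lit 1) (nat_lit 0x140444114054154450545541040015101014405144441414401010401540011100550) (Net.cons (nat_lit 2) (nat_lit 0x121133323321311213322312312122003303311121223130020333120120110230210) (Net.cons (nat_lit 4) (nat_lit 0x50d020e0408050002030d0a01060c00060704040d0b090801000407080001080702) (Net.cons (nat_lit 8) (nat_lit 0xba007d007500a30023001400fd00390006009a0051006a00880045002b0031000c) (Net.cons (nat_lit 16) (nat_lit 0x20000b0a40000567a000060170000887500006d78000010220000ba4d00001ae0) (Net.cons (nat_lit 32) (nat_lit 0x531b1040000000004c9738c400000000152c4560000000000000cc0a) (Net.cons (nat_lit 64) (nat_lit 0x93054b016815ab1000000000000000000000000000072fc0) (Net.cons (nat_lit 128) (nat_lit 0xad391f0ee694d1b31a96403f8ee73a44) (Net.cons (nat_lit 256) (nat_lit 0xfffff) (Net.cons (nat_lit 128) (nat_lit 262277) (Net.cons (nat_lit 64) (nat_lit 0x30d1e1e096c37e8f00000000000000008c5364707df8d62d) (Net.cons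 (nat_lit 32) (nat_lit 0x7e22a00f0000000030bcee1a00000000dbb0377100000000712abd70) (Net.cons (nat_lit 16) (nat_lit 0x5f06000019810000a53d00002bba00001573000081e70000ab3200008608) (Net.cons (nat_lit 8) (nat_lit 0x790073006c006100cf004400ac009e000900fe00ea00ff00aa00ff006100ea007a) (Net.cons (nat_lit 4) (nat_lit 0xa04090802090f08000400050b06040305020a0d0f00070c0f01000e030a0b0c020b) (Net.cons (nat_lit 2) (nat_lit 0x301231223220111021202113003030000012010020303023203111220333101200213) (Net.cons (nat_lit 1) (nat_lit 0x405545100400011451415110451040554051415454001514144441055154401141555) Net.nil)))))))))))))))))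

theorem g568_ok : Net.ok 276 g568 = true := by decide +kernel

noncomputable def g569 : Net := (Net.cons (nat_lit 1) (nat_lit 0x5105405415510111540445550510444441005011154405411440140455400114000) (Net.cons (nat_lit 2) (nat_lit 0x312313222111103211020331100121010200101100301220122302023130101001200) (Net.cons (nat_lit 4) (nat_lit 0x60c0d0f00050e09060c01090e07080509060a090002000a0e0b040d0b0c000d09) (Net.cons (nat_lit 8) (nat_lit 0xfc009200a100ac007b004f00f4007d0083007900bd004800a90097005800010002) (Net.cons (nat_lit 16) (nat_lit 0x500002d7d00001304000073440000c65a0000d05b0000868100000609000080a0) (Net.cons (nat_lit 32) (nat_lit 0x50c5c5d800000000845775a800000000439414c900000000000d80a0) (Net.cons (nat_lit 64) (nat_lit 0x52368620c0d40200000000000000000000000000040759) (Net.cons (nat_lit 128) (nat_lit 0xe6c8c5d4fae6d1c644be7b630e3a2c11) (Net.cons (nat_lit 256) (nat_lit 0xfaff9) (Net.cons (nat_lit 128) (nat_lit 327688) (Net.cons (nat_lit 64) (nat_lit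 0x196db658dab466c100000000000000002f25277af8faac8d) (Net.cons (nat_lit 32) (nat_lit 0x404febdf00000000981b961600000000f4360a4800000000cfefebcd) (Net.cons (nat_lit 16) (nat_lit 0x400007db70000338e00009fcd000047510000794100005cb40000d812000053cd) (Net.cons (nat_lit 8) (nat_lit 0xaa007f002400290051009300ba004400b0000e00ca00db007300b2005f00150051) (Net.cons (nat_lit 4) (nat_lit 0x30b0f060209000f0400040501060f0e0c080a04090806040d0f0c0307000c0a0e08) (Net.cons (nat_lit 2) (nat_lit 0x110221233232031211033222113032020022012101032301303111010213201231213) (Net.cons (nat_lit 1) (nat_lit 0x55141415541114514045451141444110004141151414511500401144110150554111) Net.nil)))))))))))))))))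

theorem g569_ok : Net.ok 276 g569 = true := by decide +kernel

noncomputable def g570 : Net := (Net.cons (nat_lit 1) (nat_lit 0x551140454451450150550015554451140015511505100045050455511000545510) (Net.cons (nat_lit 2) (nat_lit 0x103233032301303223013320332202020200203101030111121022212122331100200) (Net.cons (nat_lit 4) (nat_lit 0xb0e08000f0c020904060007000e01090e00040008010a09070d07070e0608070407) (Net.cons (nat_lit 8) (nat_lit 0xc300e2004500510023005300c1001e009000430015000c00650076004000b50001) (Net.cons (nat_lit 16) (nat_lit 0x400000b9f00004bc500007ace000059dc0000b164000038590000011800006080) (Net.cons (nat_lit 32) (nat_lit 0xe1205e1d00000000f1912b4500000000864248b100000000000b1123) (Net.cons (nat_lit 64) (nat_lit 0x5aa60c0c0a81ad1000000000000000000000000000d4008) (Net.cons (nat_lit 128) (nat_lit 0x577e8c99898093e4e0d07845543c28f5) (Net.cons (nat_lit 256) (nat_lit 0xf79ff) (Net.cons (nat_lit 128) (nat_lit 230823) (Net.cons (nat_lit 64) (nat_lit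 0x31c064fd1b520d1600000000000000005c9950087beb4f35) (Net.cons (nat_lit 32) (nat_lit 0xd13260800000000bac3ba2400000000bc6055b500000000d9ad9973) (Net.cons (nat_lit 16) (nat_lit 0x40000cf030000356600007d25000057560000cec30000c1100000f19f00004ae1) (Net.cons (nat_lit 8) (nat_lit 0xf30043009a00d8003d00b3009e007a005700e4009000f000fa0072001300aa00c4) (Net.cons (nat_lit 4) (nat_lit 0x30e0603040808050d04040805010d0702020f03070d0f020b0701030707080a070f) (Net.cons (nat_lit 2) (nat_lit 0x221322031032232110031330030133021013111301011010221230301111233000203) (Net.cons (nat_lit 1) (nat_lit 0x500450040114445515141410510554054444051450501445005454511510004455014) Net.nil)))))))))))))))))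

theorem g570_ok : Net.ok 276 g570 = true := by decide +kernel

noncomputable def tt_c25_K : List Net := [g568, g569, g537, g570, n_t]

theorem tt_c25_K_ok : okE 276 tt_c25_K = true := (okE_cons.2 ⟨g568_ok, (okE_cons.2 ⟨g569_ok, (okE_cons.2 ⟨g537_ok, (okE_cons.2 ⟨g570_ok, (okE_cons.2 ⟨n_t_ok, (okE_nil 276)⟩)⟩)⟩)⟩)⟩)

noncomputable def tt_c25_cnt_EG : List Net := [g125, g126, g127, n_k3, n_t, g124]

theorem tt_c25_cnt_EG_ok : okE 276 tt_c25_cnt_EG = true := (okE_cons.2 ⟨g125_ok, (okE_cons.2 ⟨g126_ok, (okE_cons.2 ⟨g127_ok, (okE_cons.2 ⟨n_k3_ok, (okE_cons.2 ⟨n_t_ok, (okE_cons.2 ⟨g124_ok, (okE_nil 276)⟩)⟩)⟩)⟩)⟩)⟩)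

noncomputable def g572 : Net := (Net.cons (nat_lit 1) (nat_lit 0x445144115510455015405400441551144441541550455040444000144400400154440) (Net.cons (nat_lit 2) (nat_lit 0x230223202321013232312103112023320220023103020202001200321312011112000) (Net.cons (nat_lit 4) (nat_lit 0x804020506000a0506030d0a06060b0f0d0f00050e00020a030904050e0c00080d06) (Net.cons (nat_lit 8) (nat_lit 0xb400cc00d000a300f20079009a00bb00f900dc00e100560002001e0085009a0000) (Net.cons (nat_lit 16) (nat_lit 0xa00001ac50000c6b20000ef0c000016e5000060c90000d20c0000434300003260) (Net.cons (nat_lit 32) (nat_lit 0x36a8836600000000e9076184000000002249c0810000000000011c20) (Net.cons (nat_lit 64) (nat_lit 0x3101e8030504ab46000000000000000000000000000550e0) (Net.cons (nat_lit 128) (nat_lit 0xf83b688909ff685441da9432ac79a252) (Net.cons (nat_lit 256) (nat_lit 917238) (Net.cons (nat_lit 128) (nat_lit 71112) (Net.cons (nat_lit 64) (nat_lit 0x6048163f62012e4400000000000000003744125abcbce9c9) (Net.cons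 (nat_lit 32) (nat_lit 0x726fda5e000000001b435139000000008ad4986800000000cee71516) (Net.cons (nat_lit 16) (nat_lit 0x800004593000012f900009cca00009495000062d70000b98500006db50000426d) (Net.cons (nat_lit 8) (nat_lit 0xf00015002c0090005500fb0035008a00f50059002300f300fb0010002200880022) (Net.cons (nat_lit 4) (nat_lit 0x60b0d0b070307080c080b040c08050f0f070d02040d05060a070d010a0702070505) (Net.cons (nat_lit 2) (nat_lit 0x12303331133112311002323031233120032022012320223323001300101011203030) (Net.cons (nat_lit 1) (nat_lit 0x511151114414454405050014444050140541015104144050154144400151154540404) Net.nil)))))))))))))))))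

theorem g572_ok : Net.ok 276 g572 = true := by decide +kernel

noncomputable def g573 : Net := (Net.cons (nat_lit 1) (nat_lit 0x40451511000141114054115105141011514000051010051414411114414041154404) (Net.cons (nat_lit 2) (nat_lit 0x133022313033030021001230033231221013222132031300020301233313322220120) (Net.cons (nat_lit 4) (nat_lit 0xa0a0d0707050c00040c04080701010e0d040c0f00000a030b0c0403040b0d010100) (Net.cons (nat_lit 8) (nat_lit 0x5e00ca005300d7000a005500310032003a008c00c900c4000400e200a800870002) (Net.cons (nat_lit 16) (nat_lit 0x4000051650000c5230000d5d000008733000049d5000000c20000309800001600) (Net.cons (nat_lit 32) (nat_lit 0x8529150a00000000a225224b0000000008014097000000000008e103) (Net.cons (nat_lit 64) (nat_lit 0x1a5008150ec2c402000000000000000000000000000d50b7) (Net.cons (nat_lit 128) (nat_lit 0xedccd95382de48f2969bf3a47d2f426a) (Net.cons (nat_lit 256) (nat_lit 0xff7ff) (Net.cons (nat_lit 128) (nat_lit 839026) (Net.cons (nat_lit 64)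 (nat_lit 0x89762316f26604b00000000000000005a2720f6837a2222) (Net.cons (nat_lit 32) (nat_lit 0x9d618a29000000008a743e6e0000000029b120a000000000b6a70fcb) (Net.cons (nat_lit 16) (nat_lit 0x2000095fb000004410000c7a20000e0040000304200001b8300002c5600005efa) (Net.cons (nat_lit 8) (nat_lit 0x230085007300da000300fe008b00b100e300af00cd005a002600f50035003e0096) (Net.cons (nat_lit 4) (nat_lit 0xd0406030a0a0508010f09020c030e010c0103030c000a000e0805060c040407070c) (Net.cons (nat_lit 2) (nat_lit 0x122112301223103030301112203021233023322122203000303301022301220321021) (Net.cons (nat_lit 1) (nat_lit 0x41415455415144500451150105101405544000115504111014404500444005054041) Net.nil)))))))))))))))))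

theorem g573_ok : Net.ok 276 g573 = true := by decide +kernel

noncomputable def tt_c26_K : List Net := [g572, g573, n_y, n_u]

theorem tt_c26_K_ok : okE 276 tt_c26_K = true := (okE_cons.2 ⟨g572_ok, (okE_cons.2 ⟨g573_ok, (okE_cons.2 ⟨n_y_ok, (okE_cons.2 ⟨n_u_ok, (okE_nil 276)⟩)⟩)⟩)⟩)

noncomputable def g575 : Net := (Net.cons (nat_lit 1) (nat_lit 0x141005110545415010044400450440140414545151100145500451544504455515400) (Net.cons (nat_lit 2) (nat_lit 0x213001222202231322021031123210132330312012133023033302020023003002210) (Net.cons (nat_lit 4) (nat_lit 0xb010804050f0d070c070a040f0c000f04040d0b05040103000303010b03080f0001) (Net.cons (nat_lit 8) (nat_lit 0x48003b0003009200fc00bc002800230030000f0086009a0060006b003200da0003) (Net.cons (nat_lit 16) (nat_lit 0xc00006bed000044380000b3400000e08c0000f0fa00006af60000549800004400) (Net.cons (nat_lit 32) (nat_lit 0x6a28c7700000000826ee48f0000000030221c0d0000000000000113) (Net.cons (nat_lit 64) (nat_lit 0x3642b83cb986580b00000000000000000000000000071078)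 (Net.cons (nat_lit 128) (nat_lit 0x63239b2b1bc8a23094d46017a66d6dbd) (Net.cons (nat_lit 256) (nat_lit 0xffdff) (Net.cons (nat_lit 128) (nat_lit 170039) (Net.cons (nat_lit 64) (nat_lit 0x3a97818155825ee70000000000000000a115aeca10e680a6) (Net.cons (nat_lit 32) (nat_lit 0x48b28cbc0000000003b16f11000000007064a247000000008b1b9167) (Net.cons (nat_lit 16) (nat_lit 0x70000e01100002aeb0000ecf90000d49b0000accf0000703a0000b297000007d0) (Net.cons (nat_lit 8) (nat_lit 0x8100f600d600d800ba00b5002e007300270064001a0084005c009b000400e000fd) (Net.cons (nat_lit 4) (nat_lit 0x509070206070c0a020b0d0c0b020f0d060d08090502040609000c0b0e0b060e0f00) (Net.cons (nat_lit 2) (nat_lit 0x330111200112220012002222330100311330130020122112131320112310331302011) (Net.cons (nat_lit 1) (nat_lit 0x515450501141441100454044050044544400405000504441555114405145501045005) Net.nil)))))))))))))))))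

theorem g575_ok : Net.ok 276 g575 = true := by decide +kernel

noncomputable def V576 : List Net := [g575, n_y, n_u]

theorem V576_ok : okE 276 V576 = true := (okE_cons.2 ⟨g575_ok, (okE_cons.2 ⟨n_y_ok, (okE_cons.2 ⟨n_u_ok, (okE_nil 276)⟩)⟩)⟩)

noncomputable def V578 : List Net := [n_y, n_u]

theorem V578_ok : okE 276 V578 = true := (okE_cons.2 ⟨n_y_ok, (okE_cons.2 ⟨n_u_ok, (okE_nil 276)⟩)⟩)

noncomputable def V579 : List Net := [n_u]

theorem V579_ok : okE 276 V579 = true := (okE_cons.2 ⟨n_u_ok, (okE_nil 276)⟩)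

noncomputable def V580 : List Net := []

theorem V580_ok : okE 276 V580 = true := (okE_nil 276)

noncomputable def tt_c26_cnt_EG : List Net := [g124, g125, g126, g127, n_k3, n_t, g414, g419, g420, g417, n_u, n_y, g575]

theorem tt_c26_cnt_EG_ok : okE 276 tt_c26_cnt_EG = true := (okE_cons.2 ⟨g124_ok, (okE_cons.2 ⟨g125_ok, (okE_cons.2 ⟨g126_ok, (okE_cons.2 ⟨g127_ok, (okE_cons.2 ⟨n_k3_ok, (okE_cons.2 ⟨n_t_ok, (okE_cons.2 ⟨g414_ok, (okE_cons.2 ⟨g419_ok, (okE_cons.2 ⟨g420_ok, (okE_cons.2 ⟨g417_ok, (okE_cons.2 ⟨n_u_ok, (okE_cons.2 ⟨n_y_ok, (okE_cons.2 ⟨g575_ok, (okE_nil 276)⟩)⟩)⟩)⟩)⟩)⟩)⟩)⟩)⟩)⟩)⟩)⟩)⟩)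

noncomputable def g581 : Net := (Net.cons (nat_lit 1) (nat_lit 0x104554450005004451414100400515114411041514105414000145445045114004) (Net.cons (nat_lit 2) (nat_lit 0x111011011031012302023021123222013211202330031310012210121031222120110) (Net.cons (nat_lit 4) (nat_lit 0x70708040601060e0f01070b0b01070a020c020908010c0909050c0b0004050a0504) (Net.cons (nat_lit 8) (nat_lit 0x70008800190037005c008c0088004f007300ac0011008e00a4000a00b800a00008) (Net.cons (nat_lit 16) (nat_lit 0x30000fabb000080e10000616100003556000035320000a7440000154200003000) (Net.cons (nat_lit 32) (nat_lit 0x735f4f30000000005a0832270000000004568d600000000000070004) (Net.cons (nat_lit 64) (nat_lit 0x9134fc690fb7b188000000000000000000000000000005b3) (Net.cons (nat_lit 128) (nat_lit 0x8357ba973e2415d3102947fa61df3a6e) (Net.cons (nat_lit 256) (nat_lit 0xfbfff) (Net.cons (nat_lit 128) (nat_lit 231954) (Net.cons (nat_lit 64) (nat_lit 0xfac7dbcabd7a69bd000000000000000080b720ad25d87954) (Net.cons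 (nat_lit 32) (nat_lit 0x62f0d3d000000000d936a962000000006bb69cde0000000062f1d02f) (Net.cons (nat_lit 16) (nat_lit 0xe00004d7b00004e6100008e150000845a0000808d00006fba000076cf000059b4) (Net.cons (nat_lit 8) (nat_lit 0x85009900d5000700c900dd003500030005001400560061000500f3004400c80097) (Net.cons (nat_lit 4) (nat_lit 0x40a0f0e0c0f0d00090f000e020a020309000e0b0d0f0805010207050e0306050600) (Net.cons (nat_lit 2) (nat_lit 0x21102233200111203300111033012323201010020311011223011002333131213222) (Net.cons (nat_lit 1) (nat_lit 0x511404000011554005450554110050115544404045405015454015411000045104010) Net.nil)))))))))))))))))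

theorem g581_ok : Net.ok 276 g581 = true := by decide +kernel

noncomputable def g582 : Net := (Net.cons (nat_lit 1) (nat_lit 0x154114004004145455514555404414515541400550051004045140015401501505400) (Net.cons (nat_lit 2) (nat_lit 0x23103203113301232100200221122202022200213021331213001030213102000300) (Net.cons (nat_lit 4) (nat_lit 0x9090808010801040b000f0b04080809000d0d09000e010c0a030b00030e0d0e0003) (Net.cons (nat_lit 8) (nat_lit 0xcb003a003d00b8009f006800390021002a004d009100200073002e008800140008) (Net.cons (nat_lit 16) (nat_lit 0x400000d8f0000cdb40000a685000024d50000cdfa00001805000028b70000c210) (Net.cons (nat_lit 32) (nat_lit 0x612d151400000000466ac93200000000223b2141000000000000a18c) (Net.cons (nat_lit 64) (nat_lit 0x438880b8332a3b0800000000000000000000000000028319) (Net.cons (nat_lit 128) (nat_lit 0x41fac6636a27f5278a06329a55185a0a) (Net.cons (nat_lit 256) (nat_lit 0xffbff) (Net.cons (nat_lit 128) (nat_lit 838773) (Net.cons (nat_lit 64)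 (nat_lit 0x5d7e40c95b1310df00000000000000008fd132313f68747f) (Net.cons (nat_lit 32) (nat_lit 0xb43f03ba00000000dc66078500000000efec99730000000033fd5be9) (Net.cons (nat_lit 16) (nat_lit 0x20000b4b90000d78b00005602000065890000f52e0000f4d40000d66e0000a483) (Net.cons (nat_lit 8) (nat_lit 0x5500000002009000e1000d00ed0065000e00ff00c20003008e00a3005000b70082) (Net.cons (nat_lit 4) (nat_lit 0xa0309020b0e0008030e0e0c0b0f040e000f020a0104010d090207030b070802070a) (Net.cons (nat_lit 2) (nat_lit 0x22012002200123100201123230033021222100333123230023333310000121321232) (Net.cons (nat_lit 1) (nat_lit 0x501405045100545545440054054410544451000111110455005404510555415111505) Net.nil)))))))))))))))))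

theorem g582_ok : Net.ok 276 g582 = true := by decide +kernel

noncomputable def tt_c27_K : List Net := [g581, g582, g566, n_t]

theorem tt_c27_K_ok : okE 276 tt_c27_K = true := (okE_cons.2 ⟨g581_ok, (okE_cons.2 ⟨g582_ok, (okE_cons.2 ⟨g566_ok, (okE_cons.2 ⟨n_t_ok, (okE_nil 276)⟩)⟩)⟩)⟩)

noncomputable def g584 : Net := (Net.cons (nat_lit 1) (nat_lit 0x150045400510454504151414005004400055445151554550404155145001150041150) (Net.cons (nat_lit 2) (nat_lit 0x30210133032231313221102203022123112121330311211200101131313021122000) (Net.cons (nat_lit 4) (nat_lit 0xf0302020506030905000b0d0b080c0404070d0d0d0d0209010402020e0600020d06) (Net.cons (nat_lit 8) (nat_lit 0xe30004004300cd002f00c4003700f800e800b5001200ca0081002a005100450009) (Net.cons (nat_lit 16) (nat_lit 0x60000ed8a0000c2fa0000e0f400002588000034b70000c2030000046300004200) (Net.cons (nat_lit 32) (nat_lit 0xb934ce60000000002128c31900000000d00028a20000000000019c10) (Net.cons (nat_lit 64) (nat_lit 0x25a00070308c970e0000000000000000000000000009209e)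 (Net.cons (nat_lit 128) (nat_lit 0xb3494fc4834b45eec6f01ebc36b84382) (Net.cons (nat_lit 256) (nat_lit 786335) (Net.cons (nat_lit 128) (nat_lit 833715) (Net.cons (nat_lit 64) (nat_lit 0xc76ed9ad0a3f919e0000000000000000ef9c72ee01783a2a) (Net.cons (nat_lit 32) (nat_lit 0x5dff09db00000000d5b122780000000072f21cee0000000087279c55) (Net.cons (nat_lit 16) (nat_lit 0xe0000d5c800006a970000e1c20000eb4f000008e70000b11e000090a0000075ac) (Net.cons (nat_lit 8) (nat_lit 0xa300bd000400f600190057007300c40077003b0012002d00560031001d00b50069) (Net.cons (nat_lit 4) (nat_lit 0x50401080c020c0a010d0f050207060b0d090f050f0403000f0f070e070e0a0a000a) (Net.cons (nat_lit 2) (nat_lit 0x102021120313010120321311302013000133023302310323121021300322233231123) (Net.cons (nat_lit 1) (nat_lit 0x141044455540454044051144501111540051405540551554104155104001144510050) Net.nil)))))))))))))))))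

theorem g584_ok : Net.ok 276 g584 = true := by decide +kernel

noncomputable def g585 : Net := (Net.cons (nat_lit 1) (nat_lit 0x505004150100505554145004055015004545515441010554054444415440505404504) (Net.cons (nat_lit 2) (nat_lit 0x310111323233322202101003123330131103002302331221200210333013220132000) (Net.cons (nat_lit 4) (nat_lit 0x506080b09050107020c030e0c0f060c0d0b010e030c020e02090a09020209010305) (Net.cons (nat_lit 8) (nat_lit 0x8e006700c6005800c9008b00a700c3003b0094006900c2009100ba001200290005) (Net.cons (nat_lit 16) (nat_lit 0x90000abfa00003998000033c30000686000000ac50000c3230000252800001750) (Net.cons (nat_lit 32) (nat_lit 0x55910d4a000000001bc92f4800000000e8e15b4900000000000816b0) (Net.cons (nat_lit 64) (nat_lit 0x38a0c848c44eda0d000000000000000000000000000a0cd1) (Net.cons (nat_lit 128) (nat_lit 0xfb0cf200c4c71b9dc2ab2c4a2912c300) (Net.cons (nat_lit 256) (nat_lit 0xfdff1) (Net.cons (nat_lit 128) (nat_lit 656800) (Net.cons (nat_lit 64)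 (nat_lit 0x6c5b81e2ac2b1ed80000000000000000a7e2f08c468124aa) (Net.cons (nat_lit 32) (nat_lit 0x3a083ea200000000fd84529400000000678fb38800000000527ef430) (Net.cons (nat_lit 16) (nat_lit 0x10000c74b0000b16d0000dd500000e92e00000aa20000bddd0000e7ec00005d4f) (Net.cons (nat_lit 8) (nat_lit 0xc5005900b1004000e1005700f20062008b00d4009a00ae00df003e00d000510010) (Net.cons (nat_lit 4) (nat_lit 0x6000c02030c0d0d04050f0a0f0609060308050801060d0b00090a0f0a0e00030a0a) (Net.cons (nat_lit 2) (nat_lit 0x200113231101002223032313033012131300302322303020132010021033033221333) (Net.cons (nat_lit 1) (nat_lit 0x14455055155545500445100454544510554415101050451110011050541141450054) Net.nil)))))))))))))))))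

theorem g585_ok : Net.ok 276 g585 = true := by decide +kernel

noncomputable def V586 : List Net := [g584, g585, n_t]

theorem V586_ok : okE 276 V586 = true := (okE_cons.2 ⟨g584_ok, (okE_cons.2 ⟨g585_ok, (okE_cons.2 ⟨n_t_ok, (okE_nil 276)⟩)⟩)⟩)

noncomputable def V588 : List Net := [g585, n_t]

theorem V588_ok : okE 276 V588 = true := (okE_cons.2 ⟨g585_ok, (okE_cons.2 ⟨n_t_ok, (okE_nil 276)⟩)⟩)

noncomputable def V589 : List Net := [n_t]

theorem V589_ok : okE 276 V589 = true := (okE_cons.2 ⟨n_t_ok, (okE_nil 276)⟩)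

noncomputable def V590 : List Net := []

theorem V590_ok : okE 276 V590 = true := (okE_nil 276)

noncomputable def tt_c27_cnt_EG : List Net := [g124, g125, g126, g127, n_k3, n_t, g585, g584]

theorem tt_c27_cnt_EG_ok : okE 276 tt_c27_cnt_EG = true := (okE_cons.2 ⟨g124_ok, (okE_cons.2 ⟨g125_ok, (okE_cons.2 ⟨g126_ok, (okE_cons.2 ⟨g127_ok, (okE_cons.2 ⟨n_k3_ok, (okE_cons.2 ⟨n_t_ok, (okE_cons.2 ⟨g585_ok, (okE_cons.2 ⟨g584_ok, (okE_nil 276)⟩)⟩)⟩)⟩)⟩)⟩)⟩)⟩)

noncomputable def g591 : Net := (Net.cons (nat_lit 1) (nat_lit 0x540511114505515444045510155501404041144011404510054510514515114041440) (Net.cons (nat_lit 2) (nat_lit 0x312203022012120022002331112103021322113222320122200221212011033122200) (Net.cons (nat_lit 4) (nat_lit 0x80405000f0b040d080b0808080b0801060b0500040e000c060000050a0c0a0100) (Net.cons (nat_lit 8) (nat_lit 0xc000420049008a0075001f006f00d6008e003200d60052004f0088008c00880000) (Net.cons (nat_lit 16) (nat_lit 0x50000173f0000418200004c920000412000009a530000e01800001095000091a0)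 (Net.cons (nat_lit 32) (nat_lit 0xcc942e2000000000b3e8041000000000f29cd0000000000000041839) (Net.cons (nat_lit 64) (nat_lit 0xe493909214094a720000000000000000000000000008d2ba) (Net.cons (nat_lit 128) (nat_lit 0xa0e47117b3d0e9d35c33c7a5279101aa) (Net.cons (nat_lit 256) (nat_lit 909243) (Net.cons (nat_lit 128) (nat_lit 631430) (Net.cons (nat_lit 64) (nat_lit 0x3455d8828aa79ed5000000000000000021de1ef6e49bfd40) (Net.cons (nat_lit 32) (nat_lit 0xb1a700cd00000000a52c268e00000000e998e74c00000000811305a0) (Net.cons (nat_lit 16) (nat_lit 0x50000ff4a000040320000308a000092ed0000f743000011f500004e95000080ad) (Net.cons (nat_lit 8) (nat_lit 0x6f00c6008e001400b200b700d200ea00a6001000b3004100f0008100df002d0014) (Net.cons (nat_lit 4) (nat_lit 0x40408010e0c0d02020105040302090d060c040e0f0d040001030902040a0a0c040a) (Net.cons (nat_lit 2) (nat_lit 0x322220222300133022222311012210020313320230021301333031203021133033232) (Net.cons (nat_lit 1) (nat_lit 0x500410504040144100001411150500114500505110050541445105405141000000154)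 Net.nil)))))))))))))))))

theorem g591_ok : Net.ok 276 g591 = true := by decide +kernel

noncomputable def g592 : Net := (Net.cons (nat_lit 1) (nat_lit 0x550041514004000101455104111451015015040450001145415415115450011440540) (Net.cons (nat_lit 2) (nat_lit 0x303002011011131231333231200012322130121103111233303232331113302022300) (Net.cons (nat_lit 4) (nat_lit 0xd0303070d00030e0209020a0a04070b030c0e080d030100080d07070e0c0a000c00) (Net.cons (nat_lit 8) (nat_lit 0x7900e7003f009200ac0099006c00070000000000b50014006200190083002a0000) (Net.cons (nat_lit 16) (nat_lit 0x100003a200000c83a000065250000694100002110000025020000838000002680) (Net.cons (nat_lit 32) (nat_lit 0xe248b8ab000000001ba58153000000008810c80e0000000000080032) (Net.cons (nat_lit 64) (nat_lit 0x20d4016ac5043ba80000000000000000000000000008c028) (Net.cons (nat_lit 128) (nat_lit 0x940c693fead257e8e9fb8ed51f018ba0) (Net.cons (nat_lit 256) (nat_lit 651195) (Net.cons (nat_lit 128) (nat_lit 338150)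 (Net.cons (nat_lit 64) (nat_lit 0x3187eae4bfff00c80000000000000000bb97d394f48d9478) (Net.cons (nat_lit 32) (nat_lit 0x5e0ff5fa000000005b7a08510000000080889047000000000a92eb2b) (Net.cons (nat_lit 16) (nat_lit 0x900005ee30000e3250000e70700007d070000ff6b0000dc460000b3fc00009e2b) (Net.cons (nat_lit 8) (nat_lit 0xb200e50076004c00250003002e00fa0092003800930053003e00480085000600ff) (Net.cons (nat_lit 4) (nat_lit 0x40e0c050d000d06010a060406050a02090c030b07050a0009050e0f0b020609020f) (Net.cons (nat_lit 2) (nat_lit 0x301130031011311233311013100001331122033221030113200220310132330220120) (Net.cons (nat_lit 1) (nat_lit 0x515104104401541011504415111404410015110500401044451104410501114541140) Net.nil)))))))))))))))))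

theorem g592_ok : Net.ok 276 g592 = true := by decide +kernel

noncomputable def g593 : Net := (Net.cons (nat_lit 1) (nat_lit 0x540545145441151444541410040114154150055504545500504054404141014455010) (Net.cons (nat_lit 2) (nat_lit 0x221011221113111010202211203321303231300310323033333222011313300132110) (Net.cons (nat_lit 4) (nat_lit 0x10e0a040a0f030a0d050a040d0e030c08000e0900040b0c09080800080a0b0d000e) (Net.cons (nat_lit 8) (nat_lit 0x630007007f00810079009100b500fe000e00d300ff00b1001000fb00ab00490000) (Net.cons (nat_lit 16) (nat_lit 0x1000091eb0000bb5d000091b80000341000007dc20000341a000056920000c860) (Net.cons (nat_lit 32) (nat_lit 0x85598d6200000000fa6430a100000000854d016400000000000480ac) (Net.cons (nat_lit 64) (nat_lit 0x5e1201d4812606a000000000000000000000000000d5804) (Net.cons (nat_lit 128) (nat_lit 0x5fed0ceed3e13157280630d19b5271e6) (Net.cons (nat_lit 256) (nat_lit 0xff9fe) (Net.cons (nat_lit 128) (nat_lit 539870) (Net.cons (nat_lit 64)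 (nat_lit 0x712fc81b38c023d9000000000000000078cba6f5c4ec5ba9) (Net.cons (nat_lit 32) (nat_lit 0x90340ff200000000e9fc580f00000000a446671c00000000b0f68cef) (Net.cons (nat_lit 16) (nat_lit 0xb0000963d00003e9900001d9b00003742000028ad000077dc0000077b00001a37) (Net.cons (nat_lit 8) (nat_lit 0x2000450024000300a80033002400e500aa003e000900c00089006800ea005f0081) (Net.cons (nat_lit 4) (nat_lit 0xd010d070f0303020d0600040d030a0e07060b0f060b030d03010f06020b0d090b00) (Net.cons (nat_lit 2) (nat_lit 0x333332323131223020233302023312312230333203321211332100312030211021201) (Net.cons (nat_lit 1) (nat_lit 0x11145100111551451505110011115504044441115450041155555055141005555045) Net.nil)))))))))))))))))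

theorem g593_ok : Net.ok 276 g593 = true := by decide +kernel

noncomputable def tt_c28_K : List Net := [g591, g592, g593, n_u]

theorem tt_c28_K_ok : okE 276 tt_c28_K = true := (okE_cons.2 ⟨g591_ok, (okE_cons.2 ⟨g592_ok, (okE_cons.2 ⟨g593_ok, (okE_cons.2 ⟨n_u_ok, (okE_nil 276)⟩)⟩)⟩)⟩)

noncomputable def tt_c28_cnt_EG : List Net := [g124, g125, g126, g127, n_k3, n_t, g414, g419, g420, g417, n_u, n_y, g575]

theorem tt_c28_cnt_EG_ok : okE 276 tt_c28_cnt_EG = true := (okE_cons.2 ⟨g124_ok, (okE_cons.2 ⟨g125_ok, (okE_cons.2 ⟨g126_ok, (okE_cons.2 ⟨g127_ok, (okE_cons.2 ⟨n_k3_ok, (okE_cons.2 ⟨n_t_ok, (okE_cons.2 ⟨g414_ok, (okE_cons.2 ⟨g419_ok, (okE_cons.2 ⟨g420_ok, (okE_cons.2 ⟨g417_ok, (okE_cons.2 ⟨n_u_ok, (okE_cons.2 ⟨n_y_ok, (okE_cons.2 ⟨g575_ok, (okE_nil 276)⟩)⟩)⟩)⟩)⟩)⟩)⟩)⟩)⟩)⟩)⟩)⟩)⟩)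

noncomputable def g595 : Net := (Net.cons (nat_lit 1) (nat_lit 0x540441151441551451505110501441050010440554105414105505554055401110504) (Net.cons (nat_lit 2) (nat_lit 0x321031213110232311331202031301001033020031020203122102211100122102000) (Net.cons (nat_lit 4) (nat_lit 0xa0d03030b0e0b06030501090b0b00000d02050d0003050f02080e0b020c040a0109) (Net.cons (nat_lit 8) (nat_lit 0x49008500ba007700bf00e50086009b001a000c0007008d0045008b00da00190000) (Net.cons (nat_lit 16) (nat_lit 0xe0000c6bc000075910000b88e00005de500000574000001000000272000002420) (Net.cons (nat_lit 32) (nat_lit 0x45da9d000000002443ae64000000006144895a0000000000018881) (Net.cons (nat_lit 64) (nat_lit 0x5ee0130ac15cec8a000000000000000000000000000c913a) (Net.cons (nat_lit 128) (nat_lit 0x63b89da38e7ed96c3c5926d951817ead) (Net.cons (nat_lit 256) (nat_lit 917503) (Net.cons (nat_lit 128) (nat_lit 220415) (Net.cons (nat_lit 64) (nat_lit 0x8990ddb96321b1ef00000000000000006d55490dbeb7c25f) (Net.cons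 (nat_lit 32) (nat_lit 0x11e31b690000000036371fb5000000009572fa4b0000000034ace01e) (Net.cons (nat_lit 16) (nat_lit 0x40000e25200002dab00004b8f00004d20000067ec0000afda0000b71d00003e65) (Net.cons (nat_lit 8) (nat_lit 0xaf003800430054008900860069009a00f400320039005400b900aa00ee00d40069) (Net.cons (nat_lit 4) (nat_lit 0x503090e030d0004030f030f040e070e08020b09040c00090f09080c090208000f02) (Net.cons (nat_lit 2) (nat_lit 0x100310302000303323102332101213120201310220000112102201211302331221212) (Net.cons (nat_lit 1) (nat_lit 0x511050411451010105451051541005040105451550504145545015515455454414450) Net.nil)))))))))))))))))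

theorem g595_ok : Net.ok 276 g595 = true := by decide +kernel

noncomputable def g596 : Net := (Net.cons (nat_lit 1) (nat_lit 0x444400555145450104511040145415000041544504110445110511001040450100544) (Net.cons (nat_lit 2) (nat_lit 0x110110023203032222321233233213031033301222222332001322001010223310010) (Net.cons (nat_lit 4) (nat_lit 0x10d0e080d0d04010d000405030c0f03060706010d0e080a0c0e0a040802090e0f02) (Net.cons (nat_lit 8) (nat_lit 0x7d00a600c1003800f000da0063005b00a3004d00400053006000a800280046000b) (Net.cons (nat_lit 16) (nat_lit 0xed0a000012710000edbc0000b08000007f59000006480000398900008b20) (Net.cons (nat_lit 32) (nat_lit 0xf08c734000000000016e194200000000cbeaf125000000000009ea12) (Net.cons (nat_lit 64) (nat_lit 0x1a2548b0a452062a000000000000000000000000000bb53c) (Net.cons (nat_lit 128) (nat_lit 0x14fda022ee5cb9266ac0ca97110706c6) (Net.cons (nat_lit 256) (nat_lit 0xfffff) (Net.cons (nat_lit 128) (nat_lit 788894) (Net.cons (nat_lit 64) (nat_lit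 0x90d287869483944900000000000000000a0b6c6dc9b39c4c) (Net.cons (nat_lit 32) (nat_lit 0x8fa258780000000079fedc5b000000001cf971ca000000004ef17f51) (Net.cons (nat_lit 16) (nat_lit 0x10000d1900000ccb90000e7370000bdb900001ca800006b2200009c91000063b7) (Net.cons (nat_lit 8) (nat_lit 0x8200dc000d004f0070001d0030006b004900fc004f000f00f30056006100b50083) (Net.cons (nat_lit 4) (nat_lit 0x302000e01060907060905040b020c0b060e020d0203020a0e000803020e090c0708) (Net.cons (nat_lit 2) (nat_lit 0x20032200232032222111302011321320302331120233313213131131001311112202) (Net.cons (nat_lit 1) (nat_lit 0x44445501115410510141145501145404514404441444405110540144441150111544) Net.nil)))))))))))))))))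

theorem g596_ok : Net.ok 276 g596 = true := by decide +kernel

noncomputable def g597 : Net := (Net.cons (nat_lit 1) (nat_lit 0x555550155000544400004554500555511400410504111044045441041054514504404) (Net.cons (nat_lit 2) (nat_lit 0x32331001333211320130213201322322231333332220202303321231013332301100) (Net.cons (nat_lit 4) (nat_lit 0x9060a0601070b06090d0a0f0104060d03050d090c050e0e05080c0c0d010c040900) (Net.cons (nat_lit 8) (nat_lit 0x6d009a008c004500b800f10002009d00e800a80051001800c900b3006700600004) (Net.cons (nat_lit 16) (nat_lit 0x3000060100000945a00006b8b0000585200005682000066c10000845200003070) (Net.cons (nat_lit 32) (nat_lit 0x76c1a1e800000000a227c34800000000219e523a000000000000013b) (Net.cons (nat_lit 64) (nat_lit 0x5c0284ea20f06159000000000000000000000000000914c8) (Net.cons (nat_lit 128) (nat_lit 0x107ffeed976800116f592303e19623c1) (Net.cons (nat_lit 256) (nat_lit 997375) (Net.cons (nat_lit 128) (nat_lit 354857) (Net.cons (nat_lit 64) (nat_lit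 0x89f24d81ace242970000000000000000a4002fd09cbdeb47) (Net.cons (nat_lit 32) (nat_lit 0xf63eb2900000000b6382ac60000000005e539f6000000009757d71e) (Net.cons (nat_lit 16) (nat_lit 0xc00009bac0000fdc50000fe560000d7df0000602800006b2700004d870000efb9) (Net.cons (nat_lit 8) (nat_lit 0xee007f00e5008e0067009c0053005a00e000be004c00b5001500f600f7008e000f) (Net.cons (nat_lit 4) (nat_lit 0xf0d08020c03010e0f05010602000e070008010d06050a0d0401040103080f0f0e0c) (Net.cons (nat_lit 2) (nat_lit 0x221031120110233332211230111312320210123323312311322221332001230230111) (Net.cons (nat_lit 1) (nat_lit 0x541451145054104010004511040004141014504554441044501041055010105141150) Net.nil)))))))))))))))))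

theorem g597_ok : Net.ok 276 g597 = true := by decide +kernel

noncomputable def g598 : Net := (Net.cons (nat_lit 1) (nat_lit 0x451405040445000100055441001015405514011000145041414051044411110551144) (Net.cons (nat_lit 2) (nat_lit 0x313320233113023010312230030330322010233332012223132031220312300102130) (Net.cons (nat_lit 4) (nat_lit 0x509070a0b0a0c0509040b0f000301020b080707090103060c0c0801050607000000) (Net.cons (nat_lit 8) (nat_lit 0x2900fb00a900da00de006d00e6009400c000a700b1004700af009e0013000e0000) (Net.cons (nat_lit 16) (nat_lit 0x20000bc2e00000541000008650000c18a000088060000da720000825400003800) (Net.cons (nat_lit 32) (nat_lit 0x50c7dd2400000000d445a08d000000004494b0860000000000094859) (Net.cons (nat_lit 64) (nat_lit 0x6b1014a40a60834900000000000000000000000000009225) (Net.cons (nat_lit 128) (nat_lit 0xf5505a7e432c51bf1e68a4d82854b22b) (Net.cons (nat_lit 256) (nat_lit 0xffb7f) (Net.cons (nat_lit 128) (nat_lit 874735) (Net.cons (nat_lit 64)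 (nat_lit 0x2918e497ecef7a690000000000000000494d7bcc18de853c) (Net.cons (nat_lit 32) (nat_lit 0xe8bad060000000062a5e8de0000000037901be70000000007d79af1) (Net.cons (nat_lit 16) (nat_lit 0x3000000e80000e941000059300000e480000028760000fe24000056f000007351) (Net.cons (nat_lit 8) (nat_lit 0x62005b000b005b00b600ec008100e200cf002d001c000600b500d7001700020090) (Net.cons (nat_lit 4) (nat_lit 0xe03090d09000d0a040607020a000c06010305000c0b050f0004020907000e0200) (Net.cons (nat_lit 2) (nat_lit 0x11321133212223110120312301220310131021102123232220331332001110310221) (Net.cons (nat_lit 1) (nat_lit 0x405544401404100141454400040055451555111000454445014501450554011054414) Net.nil)))))))))))))))))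

theorem g598_ok : Net.ok 276 g598 = true := by decide +kernel

noncomputable def tt_c29_K : List Net := [g595, g596, g597, g598, n_u]

theorem tt_c29_K_ok : okE 276 tt_c29_K = true := (okE_cons.2 ⟨g595_ok, (okE_cons.2 ⟨g596_ok, (okE_cons.2 ⟨g597_ok, (okE_cons.2 ⟨g598_ok, (okE_cons.2 ⟨n_u_ok, (okE_nil 276)⟩)⟩)⟩)⟩)⟩)

noncomputable def tt_c29_cnt_EG : List Net := [g124, g125, g126, g127, n_k3, n_t, g419, g420, g417, n_u, g414]

theorem tt_c29_cnt_EG_ok : okE 276 tt_c29_cnt_EG = true := (okE_cons.2 ⟨g124_ok, (okE_cons.2 ⟨g125_ok, (okE_cons.2 ⟨g126_ok, (okE_cons.2 ⟨g127_ok, (okE_cons.2 ⟨n_k3_ok, (okE_cons.2 ⟨n_t_ok, (okE_cons.2 ⟨g419_ok, (okE_cons.2 ⟨g420_ok, (okE_cons.2 ⟨g417_ok, (okE_cons.2 ⟨n_u_ok, (okE_cons.2 ⟨g414_ok, (okE_nil 276)⟩)⟩)⟩)⟩)⟩)⟩)⟩)⟩)⟩)⟩)⟩)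

noncomputable def g600 : Net := (Net.cons (nat_lit 1) (nat_lit 0x110444400540541005515505451414044144514405100141511100550544515100540) (Net.cons (nat_lit 2) (nat_lit 0x232120011312112113223022300301100133012012112220011320120300323203120) (Net.cons (nat_lit 4) (nat_lit 0x802010e0406000005000e080d0e0c0f0406080c000e0a0c000f0706060408040b00) (Net.cons (nat_lit 8) (nat_lit 0xdc008a00c50096003300a400fa006b000900ef000700cf003e003a006300400003) (Net.cons (nat_lit 16) (nat_lit 0xf6f00000758000002ec80000a0fc0000208000002d6100002748000008d0) (Net.cons (nat_lit 32) (nat_lit 0xdad554f3000000003194af0900000000889541e200000000000060e1) (Net.cons (nat_lit 64) (nat_lit 0xd92a1200a6694c2000000000000000000000000000a11c1) (Net.cons (nat_lit 128) (nat_lit 0xf42a7d414e2eb1722bb898a17448061e) (Net.cons (nat_lit 256) (nat_lit 0xf7fff) (Net.cons (nat_lit 128) (nat_lit 601500) (Net.cons (nat_lit 64) (nat_lit 0xa9e7c4741d8e576f000000000000000065ddd0028e029885) (Net.cons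 (nat_lit 32) (nat_lit 0x5c45203d000000009731d5e900000000f1f399a300000000d6f43660) (Net.cons (nat_lit 16) (nat_lit 0xe00007bcb0000836000009dd30000199800001c45000018a600003f0400002b28) (Net.cons (nat_lit 8) (nat_lit 0x360049004f00e100e700b100c4005800be008900720043004c00e0003800e30002) (Net.cons (nat_lit 4) (nat_lit 0x6040907080b0a0200060806070f04000d070b0603070f0c050f010e060e060d0704) (Net.cons (nat_lit 2) (nat_lit 0x23130131003100121211231312133203000001233102110231322003133332233022) (Net.cons (nat_lit 1) (nat_lit 0x144455145401050504151511514515000540041410014545140140445045101451415) Net.nil)))))))))))))))))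

theorem g600_ok : Net.ok 276 g600 = true := by decide +kernel

noncomputable def g601 : Net := (Net.cons (nat_lit 1) (nat_lit 0x151010411500041450014000405445111540041454440541045504444545044505000) (Net.cons (nat_lit 2) (nat_lit 0x131112023111301321011303110212300020112032312211223300312322012001200) (Net.cons (nat_lit 4) (nat_lit 0x50c000c090b010802080c0f080a0e04050a08030602000f04070008000106060100) (Net.cons (nat_lit 8) (nat_lit 0x3b004400f0004d0052004e006e001700cd001f00e4000700aa005b0052004b000b) (Net.cons (nat_lit 16) (nat_lit 0x5000067cc00004ca800008aa90000cc26000043180000e7610000ad000000d4b0) (Net.cons (nat_lit 32) (nat_lit 0x701cb129000000000d812de60000000051cf5ad50000000000090a52) (Net.cons (nat_lit 64) (nat_lit 0x2c005c31c37d4d130000000000000000000000000004ede8) (Net.cons (nat_lit 128) (nat_lit 0x7e38bdaeb71b7617112ae29948ea093b) (Net.cons (nat_lit 256) (nat_lit 0xffffb) (Net.cons (nat_lit 128) (nat_lit 921671) (Net.cons (nat_lit 64)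 (nat_lit 0x6920f4f53fffc620000000000000000028b985b4ba442007) (Net.cons (nat_lit 32) (nat_lit 0xe5708c1500000000d30211f300000000a13771fb000000006491d25f) (Net.cons (nat_lit 16) (nat_lit 0x700002b8200002e34000025fe00001d8b0000974400003e1900009d1b00004ecb) (Net.cons (nat_lit 8) (nat_lit 0x9d0057009100bd006c00d60041009c00e800ce00e0005300b3006a008b00f9005c) (Net.cons (nat_lit 4) (nat_lit 0xc010301000f080d01090c0b0000050c0d0d0c0204050e050f03090109000c0c0d01) (Net.cons (nat_lit 2) (nat_lit 0x321000101303111002230212332203211130023102002112321110010313033002030) (Net.cons (nat_lit 1) (nat_lit 0x544051540444105041545515051454154105151101001544555414150510001504041) Net.nil)))))))))))))))))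

theorem g601_ok : Net.ok 276 g601 = true := by decide +kernel

noncomputable def g602 : Net := (Net.cons (nat_lit 1) (nat_lit 0x14155544411040050155540105011541450100440440114444150515514440401044) (Net.cons (nat_lit 2) (nat_lit 0x133032131300100330203201021031021010013301111023032320322021031230000) (Net.cons (nat_lit 4) (nat_lit 0x70401080b0505080f05090902050b09020d030b0800030f07030e010a0f0b0c0402) (Net.cons (nat_lit 8) (nat_lit 0x9400b4008800000098000f00630001008800d200f100fc00b8002700c200640004) (Net.cons (nat_lit 16) (nat_lit 0x10000c61b000047270000681b00000cc60000c80000005f08000008700000c470) (Net.cons (nat_lit 32) (nat_lit 0xe19381a000000009486414900000000412a28760000000000080280) (Net.cons (nat_lit 64) (nat_lit 0x85a59214840e0d020000000000000000000000000004c190) (Net.cons (nat_lit 128) (nat_lit 0x91add993dc432bd666104fae511e1fa1) (Net.cons (nat_lit 256) (nat_lit 983029) (Net.cons (nat_lit 128) (nat_lit 145792) (Net.cons (nat_lit 64) (nat_lit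 0x549437839e6f98c9000000000000000090008b4d18331d28) (Net.cons (nat_lit 32) (nat_lit 0x3bdca63f000000006fd7e40d00000000543329ae0000000009b26c76) (Net.cons (nat_lit 16) (nat_lit 0x30000cfa20000eeee00008f1400002e85000023a30000b0cc000047030000156d) (Net.cons (nat_lit 8) (nat_lit 0x610044007700bd00ea008000d8002700a200600019004e00ab00590088008600dd) (Net.cons (nat_lit 4) (nat_lit 0x502090006080800070b0a000a0b010b0a0e0b030a0b080001050d0b0005020b060c) (Net.cons (nat_lit 2) (nat_lit 0x113320110020021031121100113113223312230331122331033213013202132033111) (Net.cons (nat_lit 1) (nat_lit 0x544455440110045410411114055504100454141114004414404450104550450444554) Net.nil)))))))))))))))))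

theorem g602_ok : Net.ok 276 g602 = true := by decide +kernel

noncomputable def tt_c30_K : List Net := [g600, g601, g602, n_t]

theorem tt_c30_K_ok : okE 276 tt_c30_K = true := (okE_cons.2 ⟨g600_ok, (okE_cons.2 ⟨g601_ok, (okE_cons.2 ⟨g602_ok, (okE_cons.2 ⟨n_t_ok, (okE_nil 276)⟩)⟩)⟩)⟩)

noncomputable def tt_c30_cnt_EG : List Net := [g124, g125, g126, g127, n_k3, n_t, g585, g584]

theorem tt_c30_cnt_EG_ok : okE 276 tt_c30_cnt_EG = true := (okE_cons.2 ⟨g124_ok, (okE_cons.2 ⟨g125_ok, (okE_cons.2 ⟨g126_ok, (okE_cons.2 ⟨g127_ok, (okE_cons.2 ⟨n_k3_ok, (okE_cons.2 ⟨n_t_ok, (okE_cons.2 ⟨g585_ok, (okE_cons.2 ⟨g584_ok, (okE_nil 276)⟩)⟩)⟩)⟩)⟩)⟩)⟩)⟩)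

noncomputable def g604 : Net := (Net.cons (nat_lit 1) (nat_lit 0x515400544100054401040450141544115554055040501400410554051504514100514) (Net.cons (nat_lit 2) (nat_lit 0x102201313032323033232322101313212123321003211111131201030201220321000) (Net.cons (nat_lit 4) (nat_lit 0xd0d08000e060e000f0603020d0a0f0e05090800020e060d0900020c0f0e0401040a) (Net.cons (nat_lit 8) (nat_lit 0x550031001000a3005b008500c50011005100b90094003e00fc00f8000000800002) (Net.cons (nat_lit 16) (nat_lit 0xf00001a8400001c7500009e910000762a0000c4c20000f1900000a2cd00009080) (Net.cons (nat_lit 32) (nat_lit 0xe040494000000004b5e3c1700000000700acbc80000000000022900) (Net.cons (nat_lit 64) (nat_lit 0x4c4495900128d80e0000000000000000000000000002aa73) (Net.cons (nat_lit 128) (nat_lit 0x318ed461c5ced523ec496991d63c4201) (Net.cons (nat_lit 256) (nat_lit 983035) (Net.cons (nat_lit 128) (nat_lit 469069) (Net.cons (nat_lit 64) (nat_lit 0xbf1ee4574d973f160000000000000000c50efcba46e84974) (Net.cons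 (nat_lit 32) (nat_lit 0xebb6dfc500000000e83d8d9c000000006ef44ada00000000b36cf082) (Net.cons (nat_lit 16) (nat_lit 0x500006c3d00006fa50000d63d00005110000032d80000738d0000849800009aed) (Net.cons (nat_lit 8) (nat_lit 0xd700d8007500d3009d00bc003000f400c200fd00ee005800b200980083002f0033) (Net.cons (nat_lit 4) (nat_lit 0x808030b0e00030508010b080d0c07090104000c04040b0a0f0709000c0c050a030c) (Net.cons (nat_lit 2) (nat_lit 0x232200000203131033121132001221003213120211210102211021223022333013231) (Net.cons (nat_lit 1) (nat_lit 0x145004115110145154045101404115011451400040104440455151511155444015101) Net.nil)))))))))))))))))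

theorem g604_ok : Net.ok 276 g604 = true := by decide +kernel

noncomputable def g605 : Net := (Net.cons (nat_lit 1) (nat_lit 0x441541455100041554510144015110141155051150551510015044540105050441140) (Net.cons (nat_lit 2) (nat_lit 0x300131120210300211301202013333321112100031310012323232121010220012100) (Net.cons (nat_lit 4) (nat_lit 0xd0d030a0e030202050e0600080600000a0c030c0c0b06090f07040f060c06000601) (Net.cons (nat_lit 8) (nat_lit 0x2b00e700f800fc004400fb00d3009500f600b000b200c1007e00a200e8000d0000) (Net.cons (nat_lit 16) (nat_lit 0x10000ac080000d9ce00008153000024a70000ab130000b2440000153b000050f0) (Net.cons (nat_lit 32) (nat_lit 0xc802648000000007182db25000000000019479a0000000000011970) (Net.cons (nat_lit 64) (nat_lit 0x702d110285794b4a0000000000000000000000000000179e) (Net.cons (nat_lit 128) (nat_lit 0x8009b861a9b5909572f6c1165649d060) (Net.cons (nat_lit 256) (nat_lit 778239) (Net.cons (nat_lit 128) (nat_lit 842587) (Net.cons (nat_lit 64) (nat_lit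 0xea6c5198ae931499000000000000000082289eb65415e65c) (Net.cons (nat_lit 32) (nat_lit 0x9614283500000000416ec34c00000000c11dfe8d00000000c0b833a7) (Net.cons (nat_lit 16) (nat_lit 0x2000067e00000217c0000167b0000748b0000e31b000060680000e57c0000f2d0) (Net.cons (nat_lit 8) (nat_lit 0xdb002900fa000d0053005000e6000d00860085007b0004001c005c00840065005a) (Net.cons (nat_lit 4) (nat_lit 0xf020602040508030b0b070a0c080f0e0407060d0a03030d0b050a08080b02060601) (Net.cons (nat_lit 2) (nat_lit 0x302232200130113233123230313020201332110230201120310100013133200132123) (Net.cons (nat_lit 1) (nat_lit 0x55450101511055055401501050154500544145551155404015104151411000151145) Net.nil)))))))))))))))))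

theorem g605_ok : Net.ok 276 g605 = true := by decide +kernel

noncomputable def tt_c31_K : List Net := [g604, g605, n_k5, g432, n_t]

theorem tt_c31_K_ok : okE 276 tt_c31_K = true := (okE_cons.2 ⟨g604_ok, (okE_cons.2 ⟨g605_ok, (okE_cons.2 ⟨n_k5_ok, (okE_cons.2 ⟨g432_ok, (okE_cons.2 ⟨n_t_ok, (okE_nil 276)⟩)⟩)⟩)⟩)⟩)

noncomputable def V607 : List Net := []

theorem V607_ok : okE 276 V607 = true := (okE_nil 276)

noncomputable def tt_c31_cnt_EG : List Net := [g125, g126, g127, n_k3, n_t, g124]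

theorem tt_c31_cnt_EG_ok : okE 276 tt_c31_cnt_EG = true := (okE_cons.2 ⟨g125_ok, (okE_cons.2 ⟨g126_ok, (okE_cons.2 ⟨g127_ok, (okE_cons.2 ⟨n_k3_ok, (okE_cons.2 ⟨n_t_ok, (okE_cons.2 ⟨g124_ok, (okE_nil 276)⟩)⟩)⟩)⟩)⟩)⟩)

noncomputable def g609 : Net := (Net.cons (nat_lit 1) (nat_lit 0x401501051051441044544511055500110504501040151114010100515550440444400) (Net.cons (nat_lit 2) (nat_lit 0x333023200113122123031022020223113011330301021102022022233120233110230) (Net.cons (nat_lit 4) (nat_lit 0x1070d0403040b0b0407000a01080b0e090c0b000c0107090a06050f05090b020a0a) (Net.cons (nat_lit 8) (nat_lit 0xdd00b90082005300550089008700830056008f008f002000d00033006e008e0006) (Net.cons (nat_lit 16) (nat_lit 0xf0000a9de000043260000e0070000d9ca000083a20000ee820000567800009130) (Net.cons (nat_lit 32) (nat_lit 0x66aa2f8a00000000d23b34d900000000c33f0f200000000000020a03) (Net.cons (nat_lit 64) (nat_lit 0x414b080c00e6930500000000000000000000000000031e30) (Net.cons (nat_lit 128)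 (nat_lit 0xcab245a2bd56b15135fdcbaf9ca9522c) (Net.cons (nat_lit 256) (nat_lit 786431) (Net.cons (nat_lit 128) (nat_lit 547862) (Net.cons (nat_lit 64) (nat_lit 0xefab8b8248d46ac800000000000000001f984c85cd831669) (Net.cons (nat_lit 32) (nat_lit 0xd785437000000005f35e4d7000000006574435700000000e8f070c4) (Net.cons (nat_lit 16) (nat_lit 0xe000017420000b3a200004ae800003ca000002f5c00003bf20000f0e400003ef7) (Net.cons (nat_lit 8) (nat_lit 0x7900280059007700cc0028006a00b800a4000e0047006c00c80008003000ad0095) (Net.cons (nat_lit 4) (nat_lit 0xe04060d0d0a000f020c06070b090602000c0f0d030a030d0d0b0a00090201080303) (Net.cons (nat_lit 2) (nat_lit 0x121200003310103213131231113301222110113023132210232321130331331122223) (Net.cons (nat_lit 1) (nat_lit 0x101054145445004141110450140041115554055450000541054545454541041501050) Net.nil)))))))))))))))))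

theorem g609_ok : Net.ok 276 g609 = true := by decide +kernel

noncomputable def g610 : Net := (Net.cons (nat_lit 1) (nat_lit 0x415440411511150004100001040014105140404401401110541051415140011544510) (Net.cons (nat_lit 2) (nat_lit 0x31113230122003022223303200322323013320000120121330100031000020103300) (Net.cons (nat_lit 4) (nat_lit 0x5060e0f05010f05030f07070500030c05020f06070d07020b0500030d00060600) (Net.cons (nat_lit 8) (nat_lit 0xa900a9005d005e000c00dc00a4007600b500210034008000f100b6002f00c60009) (Net.cons (nat_lit 16) (nat_lit 0x4000001c100001f050000731d0000bd7300001300000001d80000c3840000bc40) (Net.cons (nat_lit 32) (nat_lit 0xca3411850000000052d665d70000000002067f42000000000002e83d) (Net.cons (nat_lit 64) (nat_lit 0x421e80a4b020f6a600000000000000000000000000020182) (Net.cons (nat_lit 128) (nat_lit 0x81828eee40d3db2bf2fd7353f6747eb4) (Net.cons (nat_lit 256) (nat_lit 0xfffff) (Net.cons (nat_lit 128) (nat_lit 328792) (Net.cons (nat_lit 64) (nat_lit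 0x32739196ed6a7b6600000000000000008be73f8fb10092fe) (Net.cons (nat_lit 32) (nat_lit 0x1b6cfb99000000005dddf90d000000004acadae300000000e3e7274a) (Net.cons (nat_lit 16) (nat_lit 0xe000048ec0000535f0000b2bd0000385e0000fc710000c1ca0000c3d000009153) (Net.cons (nat_lit 8) (nat_lit 0x6f0037000b0005009e006500a000ce008b0001004000e000c000e3007a006600d1) (Net.cons (nat_lit 4) (nat_lit 0xb000b080c0b0c040109050202020307000c000f0c010b000f09020a0107040b0b0b) (Net.cons (nat_lit 2) (nat_lit 0x203121323123103131333022000112023231131131023110013023303120201212131) (Net.cons (nat_lit 1) (nat_lit 0x154050410015405104455105544445004150015154105015415410550454051115444) Net.nil)))))))))))))))))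

theorem g610_ok : Net.ok 276 g610 = true := by decide +kernel

noncomputable def g611 : Net := (Net.cons (nat_lit 1) (nat_lit 0x441455554554404144454045041115054511105440055455150401541004014015140) (Net.cons (nat_lit 2) (nat_lit 0x300030220113323033002200311222222323030103231112320113202231032100000) (Net.cons (nat_lit 4) (nat_lit 0x6050f040401000008060002020e0f0000010a0e070e0806040e0d0a07000501070c) (Net.cons (nat_lit 8) (nat_lit 0xed00800016001800cb002a00a900ad0071004200590038002600c3008800010001) (Net.cons (nat_lit 16) (nat_lit 0x1000072e2000090500000375f00007108000077c100008a26000051e100000900) (Net.cons (nat_lit 32) (nat_lit 0xae930cc6000000009cdec1a0000000002640707700000000000003a4) (Net.cons (nat_lit 64) (nat_lit 0xa0034012896282c0000000000000000000000000001020b) (Net.cons (nat_lit 128) (nat_lit 0xc73eae51b07f02244d2193809ac87766) (Net.cons (nat_lit 256) (nat_lit 753663) (Net.cons (nat_lit 128) (nat_lit 12137) (Net.cons (nat_lit 64) (nat_lit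 0x77356053ae3a98c50000000000000000967712ed29a04412) (Net.cons (nat_lit 32) (nat_lit 0x4a5bd9cd00000000ac885dc2000000004724c146000000003a2a26fc) (Net.cons (nat_lit 16) (nat_lit 0xd0000f7370000747500006acf0000b21d00007fff0000d8ac00005ac6000098d3) (Net.cons (nat_lit 8) (nat_lit 0x63003500b8009800ac0008005700bb008700740016002b00f800380029002f0034) (Net.cons (nat_lit 4) (nat_lit 0x9020d0e0c05060907050f0902030f03020905090f0b0800080a0c060c0703030c0b) (Net.cons (nat_lit 2) (nat_lit 0x12121011133003222103100110013303210121101031131212030012200222113002) (Net.cons (nat_lit 1) (nat_lit 0x44101110441105551041144015050444114105054415501550441454514100551000) Net.nil)))))))))))))))))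

theorem g611_ok : Net.ok 276 g611 = true := by decide +kernel

noncomputable def tt_c32_K : List Net := [g609, g610, g611, n_u]

theorem tt_c32_K_ok : okE 276 tt_c32_K = true := (okE_cons.2 ⟨g609_ok, (okE_cons.2 ⟨g610_ok, (okE_cons.2 ⟨g611_ok, (okE_cons.2 ⟨n_u_ok, (okE_nil 276)⟩)⟩)⟩)⟩)

noncomputable def tt_c32_cnt_EG : List Net := [g124, g125, g126, g127, n_k3, n_t, g414, g419, g420, g417, n_u, n_y, g575]

theorem tt_c32_cnt_EG_ok : okE 276 tt_c32_cnt_EG = true := (okE_cons.2 ⟨g124_ok, (okE_cons.2 ⟨g125_ok, (okE_cons.2 ⟨g126_ok, (okE_cons.2 ⟨g127_ok, (okE_cons.2 ⟨n_k3_ok, (okE_cons.2 ⟨n_t_ok, (okE_cons.2 ⟨g414_ok, (okE_cons.2 ⟨g419_ok, (okE_cons.2 ⟨g420_ok, (okE_cons.2 ⟨g417_ok, (okE_cons.2 ⟨n_u_ok, (okE_cons.2 ⟨n_y_ok, (okE_cons.2 ⟨g575_ok, (okE_nil 276)⟩)⟩)⟩)⟩)⟩)⟩)⟩)⟩)⟩)⟩)⟩)⟩)⟩)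

noncomputable def g613 : Net := (Net.cons (nat_lit 1) (nat_lit 0x41444051441155544551110154555144141140505111401511145001145000101140) (Net.cons (nat_lit 2) (nat_lit 0x100133332222121323131312132210023111212321113330002002222023202123100) (Net.cons (nat_lit 4) (nat_lit 0x80a01000301040200090c010d0b08010a020c040d08030b070d0f020e0e0d060e02) (Net.cons (nat_lit 8) (nat_lit 0x890096001f0016004f006c00d7006100030038009c006a00aa0043008b007a0008) (Net.cons (nat_lit 16) (nat_lit 0x347e00005df700000c9900008cdb00009e210000eb42000021c800005900) (Net.cons (nat_lit 32) (nat_lit 0x6242483d00000000119b389d000000002e90dc2400000000000096a5) (Net.cons (nat_lit 64) (nat_lit 0x73a08a044bab48d30000000000000000000000000002b544) (Net.cons (nat_lit 128) (nat_lit 0xb7d2b380fd15bcf3c43e686606ec4809) (Net.cons (nat_lit 256) (nat_lit 0xfffff) (Net.cons (nat_lit 128) (nat_lit 952868) (Net.cons (nat_lit 64) (nat_lit 0x3c840eb483fc54990000000000000000515ed9387eba8099) (Net.cons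 (nat_lit 32) (nat_lit 0x4760682f00000000909330fc0000000038b5d10000000000e65006d7) (Net.cons (nat_lit 16) (nat_lit 0xc00001335000094980000285d0000b74b0000395d0000244800008fb30000bd02) (Net.cons (nat_lit 8) (nat_lit 0x7600340000009900dc00c600cc007e004600e4000500ae00ef00a900a000da0087) (Net.cons (nat_lit 4) (nat_lit 0x5020b030108000f0004000c04070b0705020e000604020d0400010a030500090c0f) (Net.cons (nat_lit 2) (nat_lit 0x222213023230132123003132010020213231002223003010230300011133001230033) (Net.cons (nat_lit 1) (nat_lit 0x545441504501150514450044055005040500055541410050500545505055514051511) Net.nil)))))))))))))))))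

theorem g613_ok : Net.ok 276 g613 = true := by decide +kernel

noncomputable def g614 : Net := (Net.cons (nat_lit 1) (nat_lit 0x514111154040500554404550441055010150451004155041455444044141110444040) (Net.cons (nat_lit 2) (nat_lit 0x313031010112111112112301012221113211232222001321001212220223231031100) (Net.cons (nat_lit 4) (nat_lit 0x400020e050e0c0306060f020a0c0e04040f0007020a040b0f0f0b05030f0d080606) (Net.cons (nat_lit 8) (nat_lit 0x2e005000c000740037009a001e0078004f004800c3004e009300380058008a0001) (Net.cons (nat_lit 16) (nat_lit 0xc00003f8200000e2200003c9000009d020000c0dd0000390600005c2000000d20) (Net.cons (nat_lit 32) (nat_lit 0x402bd73200000000cc9b0995000000000830d4060000000000001422) (Net.cons (nat_lit 64) (nat_lit 0x52e4945b01c22c6200000000000000000000000000018910) (Net.cons (nat_lit 128) (nat_lit 0xef6c692df8734c021498f6d6afaa3230) (Net.cons (nat_lit 256) (nat_lit 0xfbf3f) (Net.cons (nat_lit 128) (nat_lit 738120) (Net.cons (nat_lit 64)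 (nat_lit 0x41686d931bca92e00000000000000000c2ee98445f344858) (Net.cons (nat_lit 32) (nat_lit 0xd19528b400000000266b72b900000000624fd6e6000000006b7db2d8) (Net.cons (nat_lit 16) (nat_lit 0x8000038180000bbe40000814100001cab0000110c00002261000013cc00000dae) (Net.cons (nat_lit 8) (nat_lit 0x24001a009e00f5002a0002007400d1007f004d000400c40065003f00aa00bb007b) (Net.cons (nat_lit 4) (nat_lit 0xf03040d09080f050b060f0e0902070505010c04010f030207050f0108010f0f0b0c) (Net.cons (nat_lit 2) (nat_lit 0x3201031100131132202301013011030231201013133203233010120203003302102) (Net.cons (nat_lit 1) (nat_lit 0x144155504115451015104041155000014510411055414101551010045411545400411) Net.nil)))))))))))))))))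

theorem g614_ok : Net.ok 276 g614 = true := by decide +kernel

noncomputable def tt_c33_K : List Net := [g613, g614, n_tu, n_u]

theorem tt_c33_K_ok : okE 276 tt_c33_K = true := (okE_cons.2 ⟨g613_ok, (okE_cons.2 ⟨g614_ok, (okE_cons.2 ⟨n_tu_ok, (okE_cons.2 ⟨n_u_ok, (okE_nil 276)⟩)⟩)⟩)⟩)

noncomputable def tt_c33_cnt_EG : List Net := [g468, g469, g470, n_t, n_u, g124, g125, g126, g127, n_k3, g489, n_b, g490, g340, g491]

theorem tt_c33_cnt_EG_ok : okE 276 tt_c33_cnt_EG = true := (okE_cons.2 ⟨g468_ok, (okE_cons.2 ⟨g469_ok, (okE_cons.2 ⟨g470_ok, (okE_cons.2 ⟨n_t_ok, (okE_cons.2 ⟨n_u_ok, (okE_cons.2 ⟨g124_ok, (okE_cons.2 ⟨g125_ok, (okE_cons.2 ⟨g126_ok, (okE_cons.2 ⟨g127_ok, (okE_cons.2 ⟨n_k3_ok, (okE_cons.2 ⟨g489_ok, (okE_cons.2 ⟨n_b_ok, (okE_cons.2 ⟨g490_ok, (okE_cons.2 ⟨g340_ok, (okE_cons.2 ⟨g491_ok, (okE_nil 276)⟩)⟩)⟩)⟩)⟩)⟩)⟩)⟩)⟩)⟩)⟩)⟩)⟩)⟩)⟩)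

noncomputable def g616 : Net := (Net.cons (nat_lit 1) (nat_lit 0x411404404141100144041405145545105504144114411155505000114004415555040) (Net.cons (nat_lit 2) (nat_lit 0x333020111200302100233130030323200121331210220321120211102130103010000) (Net.cons (nat_lit 4) (nat_lit 0xc0a0303000b0f0509090d000c0b050e01020e030e09020f0702070e050300050308) (Net.cons (nat_lit 8) (nat_lit 0x13001300a300db007100150039004100a400c600b1005000a50063003500ad0002) (Net.cons (nat_lit 16) (nat_lit 0x8000002eb000000e300007171000019e00000739c0000327d0000c0c900001080) (Net.cons (nat_lit 32) (nat_lit 0x8185836d000000002506009200000000ac88a45400000000000061a9) (Net.cons (nat_lit 64) (nat_lit 0x9a8010b5264303ca00000000000000000000000000002688) (Net.cons (nat_lit 128) (nat_lit 0xf65b8db9d2458e2c09d3b8463d905a82) (Net.cons (nat_lit 256) (nat_lit 753659) (Net.cons (nat_lit 128) (nat_lit 964449) (Net.cons (nat_lit 64) (nat_lit 0x8d5ee74b1489622f0000000000000000b62464cd7ddcea9d) (Net.cons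 (nat_lit 32) (nat_lit 0xb00078c700000000a3511a51000000001426d576000000008331fba8) (Net.cons (nat_lit 16) (nat_lit 0x9000043e10000be1500000c680000d6e40000d2860000ff93000099ed0000b760) (Net.cons (nat_lit 8) (nat_lit 0x3800b80018009200d7009d000800b0008100350008001d0030002d001900dc00f4) (Net.cons (nat_lit 4) (nat_lit 0x70b05010a030b03060f0f0b0d060a0f0c010c040908060d030f010b0d000a09050a) (Net.cons (nat_lit 2) (nat_lit 0x320100130203111231100331132002131302303233132111302211302113121300022) (Net.cons (nat_lit 1) (nat_lit 0x404415454400514010540451510500014111555551115010545444055405441445140) Net.nil)))))))))))))))))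

theorem g616_ok : Net.ok 276 g616 = true := by decide +kernel

noncomputable def g617 : Net := (Net.cons (nat_lit 1) (nat_lit 0x440050445501105544410451515451511550140155004114454005504141541440440) (Net.cons (nat_lit 2) (nat_lit 0x230020302332131203313002011132201202302112221332233110032132310301020) (Net.cons (nat_lit 4) (nat_lit 0x6090e0e0105060d0c0902070a0d0c0909020605030f00060f0d0c050609060e0200) (Net.cons (nat_lit 8) (nat_lit 0xc90032000000ac007c005400e0001d00a00070000b0097002d005000b10074000c) (Net.cons (nat_lit 16) (nat_lit 0x20000336300006a2500009f5f000072180000910a0000b8550000b49a00005420) (Net.cons (nat_lit 32) (nat_lit 0x86166539000000007d484024000000004844c8300000000000004267) (Net.cons (nat_lit 64) (nat_lit 0xa6b59280703817500000000000000000000000000000081d) (Net.cons (nat_lit 128) (nat_lit 0xbd2b305a958d43d202dccbb568b81712) (Net.cons (nat_lit 256) (nat_lit 876543) (Net.cons (nat_lit 128) (nat_lit 790800) (Net.cons (nat_lit 64)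 (nat_lit 0x6094312a73523bd50000000000000000cb79e4df96aa0fe7) (Net.cons (nat_lit 32) (nat_lit 0xd06bba400000000464e0eec00000000de8cb7840000000063e5f56c) (Net.cons (nat_lit 16) (nat_lit 0xc000078480000974d00001a0800000c4a0000a09b00007f200000f65100004b6c) (Net.cons (nat_lit 8) (nat_lit 0xde00d9009400c7008a00f00024008200fc00e100f900e10089004c00490084005e) (Net.cons (nat_lit 4) (nat_lit 0x20e070f030506040d0a0402020c07000104010b090d0103000204020e08010a000e) (Net.cons (nat_lit 2) (nat_lit 0x31133121101100230000222112121022323132003023122012021312113332300330) (Net.cons (nat_lit 1) (nat_lit 0x514054401014405054140401144100545410110501040151114454040510145144450) Net.nil)))))))))))))))))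

theorem g617_ok : Net.ok 276 g617 = true := by decide +kernel

noncomputable def tt_c34_K : List Net := [g616, g617, n_u, n_t]

theorem tt_c34_K_ok : okE 276 tt_c34_K = true := (okE_cons.2 ⟨g616_ok, (okE_cons.2 ⟨g617_ok, (okE_cons.2 ⟨n_u_ok, (okE_cons.2 ⟨n_t_ok, (okE_nil 276)⟩)⟩)⟩)⟩)

noncomputable def V619 : List Net := [n_t]

theorem V619_ok : okE 276 V619 = true := (okE_cons.2 ⟨n_t_ok, (okE_nil 276)⟩)

noncomputable def V621 : List Net := []

theorem V621_ok : okE 276 V621 = true := (okE_nil 276)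

noncomputable def tt_c34_cnt_EG : List Net := [g468, g469, g470, n_t, n_u, g124, g125, g126, g127, n_k3, g489, n_b, g490, g340, g491]

theorem tt_c34_cnt_EG_ok : okE 276 tt_c34_cnt_EG = true := (okE_cons.2 ⟨g468_ok, (okE_cons.2 ⟨g469_ok, (okE_cons.2 ⟨g470_ok, (okE_cons.2 ⟨n_t_ok, (okE_cons.2 ⟨n_u_ok, (okE_cons.2 ⟨g124_ok, (okE_cons.2 ⟨g125_ok, (okE_cons.2 ⟨g126_ok, (okE_cons.2 ⟨g127_ok, (okE_cons.2 ⟨n_k3_ok, (okE_cons.2 ⟨g489_ok, (okE_cons.2 ⟨n_b_ok, (okE_cons.2 ⟨g490_ok, (okE_cons.2 ⟨g340_ok, (okE_cons.2 ⟨g491_ok, (okE_nil 276)⟩)⟩)⟩)⟩)⟩)⟩)⟩)⟩)⟩)⟩)⟩)⟩)⟩)⟩)⟩)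

noncomputable def g622 : Net := (Net.cons (nat_lit 1) (nat_lit 0x405044415040055451044040141411054450111541144105551050051114405045450) (Net.cons (nat_lit 2) (nat_lit 0x221222003102003111012122221011311212320233201131131232213031010000300) (Net.cons (nat_lit 4) (nat_lit 0x50b090602030b0e090d020409010c07090c0d0f000a0e000c04090c0c03000b0208) (Net.cons (nat_lit 8) (nat_lit 0x76004a006700b300ac003e0093007600b000e3001e0010002a0004000100ca0008) (Net.cons (nat_lit 16) (nat_lit 0x600003b4600008c8c00003856000042b500003aa80000c0820000d81c00005090) (Net.cons (nat_lit 32) (nat_lit 0xa00251fa000000003910005e00000000b4ce3c13000000000000d597) (Net.cons (nat_lit 64) (nat_lit 0x606d109802004e000000000000000000000000000089c49) (Net.cons (nat_lit 128) (nat_lit 0xb6dd2d3f4c8e152c70fbf8e29fb72014) (Net.cons (nat_lit 256) (nat_lit 0xffdff) (Net.cons (nat_lit 128) (nat_lit 0xf70c0) (Net.cons (nat_lit 64) (nat_lit 0xcada8ed89d542bd40000000000000000de0b0b7eecd24028) (Net.cons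 (nat_lit 32) (nat_lit 0x403b061600000000856934a900000000a7c7c73b00000000ff96ef6c) (Net.cons (nat_lit 16) (nat_lit 0xb0000b7e60000692f0000059600007f4e0000d7310000f16d0000e96100004f2a) (Net.cons (nat_lit 8) (nat_lit 0x2a0055005700a200a400cf004400f80086007000e90050001500ca00d9004c00b1) (Net.cons (nat_lit 4) (nat_lit 0x10d0f02060704060c0c010c0c070f080400050a0204040c0e020f04080509090b0e) (Net.cons (nat_lit 2) (nat_lit 0x12033320323032013320200332301033201133301310203121213131331020301312) (Net.cons (nat_lit 1) (nat_lit 0x441415010001411040141040151414510400541501044504541440554450411410011) Net.nil)))))))))))))))))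

theorem g622_ok : Net.ok 276 g622 = true := by decide +kernel

noncomputable def g623 : Net := (Net.cons (nat_lit 1) (nat_lit 0x550505540104551050515004540154445011415505000104511115500401510145450) (Net.cons (nat_lit 2) (nat_lit 0x31131232002021300303320222023133112321322311203020212011220213012000) (Net.cons (nat_lit 4) (nat_lit 0x70c05090f0d0405060a0409070d0207010907040f0000060301000301000a070800) (Net.cons (nat_lit 8) (nat_lit 0x5600f900bb00740088000200700066006d00de000100720062004400aa0021000c) (Net.cons (nat_lit 16) (nat_lit 0x9000060a2000099340000eb0f000040f4000068fb0000616f0000c816000000c0) (Net.cons (nat_lit 32) (nat_lit 0x671d44f200000000a36a327100000000316479410000000000008046) (Net.cons (nat_lit 64) (nat_lit 0x78a839a0cd9510460000000000000000000000000000580b) (Net.cons (nat_lit 128) (nat_lit 0xb1937e0b67d31b1b4c3e87e6aa0c03d0) (Net.cons (nat_lit 256) (nat_lit 973823) (Net.cons (nat_lit 128) (nat_lit 18428) (Net.cons (nat_lit 64) (nat_lit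 0xf65681f24a9a0260000000000000000611b2945fcf7d40d) (Net.cons (nat_lit 32) (nat_lit 0xc1fb1a7300000000c00b503300000000468e6cda000000000c719177) (Net.cons (nat_lit 16) (nat_lit 0xa2be0000197900007f310000a7da0000f4440000c4350000113900006c9d) (Net.cons (nat_lit 8) (nat_lit 0xb0005b000f00e2004a00a200bb005500c1007c005b004900e400f4007e002a0051) (Net.cons (nat_lit 4) (nat_lit 0x60c090e060204010d09040a020a0e0c000503090007020a0a010d0800050f090d0f) (Net.cons (nat_lit 2) (nat_lit 0x220232220321301330012032100201313003011111031231302100210312302033220) (Net.cons (nat_lit 1) (nat_lit 0x444400011440455500541005515455000045040415404555155501144141515450051) Net.nil)))))))))))))))))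

theorem g623_ok : Net.ok 276 g623 = true := by decide +kernel

noncomputable def tt_c35_K : List Net := [g622, g623, n_tu, n_u]

theorem tt_c35_K_ok : okE 276 tt_c35_K = true := (okE_cons.2 ⟨g622_ok, (okE_cons.2 ⟨g623_ok, (okE_cons.2 ⟨n_tu_ok, (okE_cons.2 ⟨n_u_ok, (okE_nil 276)⟩)⟩)⟩)⟩)

noncomputable def tt_c35_cnt_EG : List Net := [g468, g469, g470, n_t, n_u, g124, g125, g126, g127, n_k3, g489, n_b, g490, g340, g491]

theorem tt_c35_cnt_EG_ok : okE 276 tt_c35_cnt_EG = true := (okE_cons.2 ⟨g468_ok, (okE_cons.2 ⟨g469_ok, (okE_cons.2 ⟨g470_ok, (okE_cons.2 ⟨n_t_ok, (okE_cons.2 ⟨n_u_ok, (okE_cons.2 ⟨g124_ok, (okE_cons.2 ⟨g125_ok, (okE_cons.2 ⟨g126_ok, (okE_cons.2 ⟨g127_ok, (okE_cons.2 ⟨n_k3_ok, (okE_cons.2 ⟨g489_ok, (okE_cons.2 ⟨n_b_ok, (okE_cons.2 ⟨g490_ok, (okE_cons.2 ⟨g340_ok, (okE_cons.2 ⟨g491_ok, (okE_nil 276)⟩)⟩)⟩)⟩)⟩)⟩)⟩)⟩)⟩)⟩)⟩)⟩)⟩)⟩)⟩)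

noncomputable def g625 : Net := (Net.cons (nat_lit 1) (nat_lit 0x405001400550011455115055541155010041510111451500414055554041010555440) (Net.cons (nat_lit 2) (nat_lit 0x202313321023210001130020202012023302220032332220013202000101033320000) (Net.cons (nat_lit 4) (nat_lit 0x40d0700050301020009060f0d08040f0b07040a01050d08080f01020e0900040502) (Net.cons (nat_lit 8) (nat_lit 0x800880018008e00d5005b00a6009d00ef001e0010003000000048001000880004) (Net.cons (nat_lit 16) (nat_lit 0x20000f9c30000f77d0000c7a10000428f0000b45000009d530000841300000040) (Net.cons (nat_lit 32) (nat_lit 0x50b2545800000000065104d4000000000a015e160000000000080200) (Net.cons (nat_lit 64) (nat_lit 0x84231b0164135d280000000000000000000000000004081c) (Net.cons (nat_lit 128) (nat_lit 0x3beb9070696267038dd0eb8d8e36dce2) (Net.cons (nat_lit 256) (nat_lit 974590) (Net.cons (nat_lit 128) (nat_lit 124617) (Net.cons (nat_lit 64) (nat_lit 0xa2931adf1c7ad1e000000000000000009d24b903c118a5c6) (Net.cons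 (nat_lit 32) (nat_lit 0xb055c01800000000e8177f060000000004928ebd0000000007faa5a1) (Net.cons (nat_lit 16) (nat_lit 0xa0000d31f000028df0000dd2e0000df700000d9190000d4cb0000c2c20000fa43) (Net.cons (nat_lit 8) (nat_lit 0x45002800b000bc00b000fd00fb008200660010006e00b7002c00d600180081003c) (Net.cons (nat_lit 4) (nat_lit 0xa0c0c060f090e0f0f09000d080205040e08050a05010c010e0b020d0b0007030a02) (Net.cons (nat_lit 2) (nat_lit 0x321113311103033131030313131013222010023003020121102023200033110010) (Net.cons (nat_lit 1) (nat_lit 0x445544554155054000504445505111144410545000540105151514445515104410110) Net.nil)))))))))))))))))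

theorem g625_ok : Net.ok 276 g625 = true := by decide +kernel

noncomputable def g626 : Net := (Net.cons (nat_lit 1) (nat_lit 0x115410100044454510150554155451505410045444510450100115510445515000050) (Net.cons (nat_lit 2) (nat_lit 0x123302031312033230011302120201323310030030203313330221310030200211110) (Net.cons (nat_lit 4) (nat_lit 0x80b040a020f010c0f0d030604090e09060105030905080d0f060f0108040b020908) (Net.cons (nat_lit 8) (nat_lit 0xe4002f00c300010093007a0051000300dd00d8002100f3005e00aa000300010000) (Net.cons (nat_lit 16) (nat_lit 0x909100008314000017b600004e580000885c0000716000000c8900002b20) (Net.cons (nat_lit 32) (nat_lit 0x7b81cc4b0000000058a5850a00000000542084650000000000082a80) (Net.cons (nat_lit 64) (nat_lit 0x8c0088e811a1931a00000000000000000000000000008a40) (Net.cons (nat_lit 128) (nat_lit 0x72bce09330ed602ebcd96c6ec11185e0) (Net.cons (nat_lit 256) (nat_lit 913393) (Net.cons (nat_lit 128) (nat_lit 0xf7e95) (Net.cons (nat_lit 64) (nat_lit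 0xf6e4c17ca205c7a90000000000000000489326bc6cf37b11) (Net.cons (nat_lit 32) (nat_lit 0x8de6ed7b0000000029b18d98000000009437b1f300000000cd488355) (Net.cons (nat_lit 16) (nat_lit 0x80000b286000039df00002ef300009df90000660e0000dc77000092e90000c0e6) (Net.cons (nat_lit 8) (nat_lit 0x56002c00be00500020006b005900f500f700b8000c0066000d008600cc00b30037) (Net.cons (nat_lit 4) (nat_lit 0x30503060d07050b0f0d070b0d01050f050c0a01070304000f08080c070a0b05070b) (Net.cons (nat_lit 2) (nat_lit 0x1322100320333032311310002320233231311301203021333201211221231221321) (Net.cons (nat_lit 1) (nat_lit 0x144505141105004015544514055450404510014154445500515145041401005454000) Net.nil)))))))))))))))))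

theorem g626_ok : Net.ok 276 g626 = true := by decide +kernel

noncomputable def tt_c36_K : List Net := [g625, n_c2, g626, n_t]

theorem tt_c36_K_ok : okE 276 tt_c36_K = true := (okE_cons.2 ⟨g625_ok, (okE_cons.2 ⟨n_c2_ok, (okE_cons.2 ⟨g626_ok, (okE_cons.2 ⟨n_t_ok, (okE_nil 276)⟩)⟩)⟩)⟩)

noncomputable def tt_c36_cnt_EG : List Net := [g124, g125, g126, g127, n_k3, n_t]

theorem tt_c36_cnt_EG_ok : okE 276 tt_c36_cnt_EG = true := (okE_cons.2 ⟨g124_ok, (okE_cons.2 ⟨g125_ok, (okE_cons.2 ⟨g126_ok, (okE_cons.2 ⟨g127_ok, (okE_cons.2 ⟨n_k3_ok, (okE_cons.2 ⟨n_t_ok, (okE_nil 276)⟩)⟩)⟩)⟩)⟩)⟩)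

noncomputable def g628 : Net := (Net.cons (nat_lit 1) (nat_lit 0x501100404000111001444405140444150001505541440140050005445014041144500) (Net.cons (nat_lit 2) (nat_lit 0x330121102310031130031300211322001122311333101213311323201110220310100) (Net.cons (nat_lit 4) (nat_lit 0x30f010a0e010b0e0d05060f0d01050a060c00010a030d040d0f07040e0003050306) (Net.cons (nat_lit 8) (nat_lit 0xfe0081003d00ce002a0037006a007f005100190077008d00560003004700420002) (Net.cons (nat_lit 16) (nat_lit 0x3000080910000d7dd00006fcb0000f24c0000a7900000532c00002a43000020c0) (Net.cons (nat_lit 32) (nat_lit 0x8b01979d000000007a002712000000000001b9590000000000028283) (Net.cons (nat_lit 64) (nat_lit 0xf128040391c5446800000000000000000000000000043140) (Net.cons (nat_lit 128) (nat_lit 0xb90e02188b116fdfa390dda33769c2a) (Net.cons (nat_lit 256) (nat_lit 524267) (Net.cons (nat_lit 128) (nat_lit 554633) (Net.cons (nat_lit 64) (nat_lit 0xdd0722b9ec15efaa000000000000000010b85d618eae15ee) (Net.cons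 (nat_lit 32) (nat_lit 0x4466bb880000000072365478000000001f5a4df800000000a56dc67e) (Net.cons (nat_lit 16) (nat_lit 0xf000077550000ca510000beb600005baf0000222b0000714100002fc90000ae1c) (Net.cons (nat_lit 8) (nat_lit 0xd000bc006e0049002300450026005c00b200a300e6005300c600ec00da0062008e) (Net.cons (nat_lit 4) (nat_lit 0x5000001030f090006040f0b0a040f090004020a020905050a0100070a0a0e0b0703) (Net.cons (nat_lit 2) (nat_lit 0x22311330221031133101321331001023202011330111330210033001212210130232) (Net.cons (nat_lit 1) (nat_lit 0x541150115114000110515444114104440155404405400541450451500141140444401) Net.nil)))))))))))))))))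

theorem g628_ok : Net.ok 276 g628 = true := by decide +kernel

noncomputable def g629 : Net := (Net.cons (nat_lit 1) (nat_lit 0x105014015554555045154111555011505411545151541444115410454101150110504) (Net.cons (nat_lit 2) (nat_lit 0x210030220021321320233002020311300323122212011231023100210120123030220) (Net.cons (nat_lit 4) (nat_lit 0xc0b0a0a090a030f08060c060400080807040d020907090d0f0000030c0103010200) (Net.cons (nat_lit 8) (nat_lit 0xc00063005f002900f7003100d1001200130029006b00bd00ab00e5001c00630003) (Net.cons (nat_lit 16) (nat_lit 0xe0000a3420000282d00007a7c0000ca510000f877000060f80000836e00004220) (Net.cons (nat_lit 32) (nat_lit 0x71111ad70000000058bf6e3100000000a72293d800000000000491ad) (Net.cons (nat_lit 64) (nat_lit 0x412a84228221a0cc000000000000000000000000000a1855) (Net.cons (nat_lit 128) (nat_lit 0xc82555ff32426e66b39a8b08d16d86a5) (Net.cons (nat_lit 256) (nat_lit 0xfdfff) (Net.cons (nat_lit 128) (nat_lit 98830) (Net.cons (nat_lit 64)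 (nat_lit 0xfb008957701069c90000000000000000e609b8885b2a3790) (Net.cons (nat_lit 32) (nat_lit 0xef1c569500000000801951490000000058b4ab9e0000000007aebb48) (Net.cons (nat_lit 16) (nat_lit 0x70000abb200001248000062bb0000fbae0000db49000091a300003b4c00009173) (Net.cons (nat_lit 8) (nat_lit 0xd300700095004000fe0053001a00f9000600dc00c6002f00b300ca00b8007a00da) (Net.cons (nat_lit 4) (nat_lit 0x90b0c04060603070d0d0c0d08030d060a030d030b01060b0e01050a0e00040e0809) (Net.cons (nat_lit 2) (nat_lit 0x211220021021303223201132022312120132003121331110221030203320122000333) (Net.cons (nat_lit 1) (nat_lit 0x104440140145445000404410400401545415504141444151401411140510041011100) Net.nil)))))))))))))))))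

theorem g629_ok : Net.ok 276 g629 = true := by decide +kernel

noncomputable def tt_c37_K : List Net := [g628, g629, n_u]

theorem tt_c37_K_ok : okE 276 tt_c37_K = true := (okE_cons.2 ⟨g628_ok, (okE_cons.2 ⟨g629_ok, (okE_cons.2 ⟨n_u_ok, (okE_nil 276)⟩)⟩)⟩)

noncomputable def g631 : Net := (Net.cons (nat_lit 1) (nat_lit 0x411544145155100005144144444154514510101415004105051450404554541111154) (Net.cons (nat_lit 2) (nat_lit 0x302111323301113303132121302302220312002122303130031032132302320301000) (Net.cons (nat_lit 4) (nat_lit 0xe0f0e0f020e0b0e0308010504060e020d0a000b0e0f0e0701020f010a0005010106) (Net.cons (nat_lit 8) (nat_lit 0x9c00da00d8003500d500b900d900f00042003700bf005b006f0047008900140005) (Net.cons (nat_lit 16) (nat_lit 0xd000038e50000336d0000cfd4000082a3000005e60000380a0000c48800003040) (Net.cons (nat_lit 32) (nat_lit 0xc431624000000009315c90800000000b62758800000000000008c80) (Net.cons (nat_lit 64) (nat_lit 0x9284808e420833040000000000000000000000000002d571)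 (Net.cons (nat_lit 128) (nat_lit 0x5abb1cedc0349147a157d6529e2587cc) (Net.cons (nat_lit 256) (nat_lit 0xfffff) (Net.cons (nat_lit 128) (nat_lit 0xfabde) (Net.cons (nat_lit 64) (nat_lit 0x9486ad1f72fcc70200000000000000009963de6a34dabaec) (Net.cons (nat_lit 32) (nat_lit 0xa79f5bd5000000001bc4b52d0000000039762e9200000000695a4313) (Net.cons (nat_lit 16) (nat_lit 0x8000052da0000d5290000aad800004e68000051bf000084f1000019970000fb52) (Net.cons (nat_lit 8) (nat_lit 0x3a00ff005f00e500b700af0089004c00e800ae002c00dd007d00aa00c1007400c1) (Net.cons (nat_lit 4) (nat_lit 0x8070b0d050207050c020003030a0e0f080e0c0f0f0f090306030b060a0a0c00050a) (Net.cons (nat_lit 2) (nat_lit 0x210032113001101320110301321003131320300212222300010212333001021023331) (Net.cons (nat_lit 1) (nat_lit 0x55500050454454400000450441455401505550010110014114401100554544151404) Net.nil)))))))))))))))))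

theorem g631_ok : Net.ok 276 g631 = true := by decide +kernel

noncomputable def V632 : List Net := [g491, g631, n_u]

theorem V632_ok : okE 276 V632 = true := (okE_cons.2 ⟨g491_ok, (okE_cons.2 ⟨g631_ok, (okE_cons.2 ⟨n_u_ok, (okE_nil 276)⟩)⟩)⟩)

noncomputable def V634 : List Net := [n_u]

theorem V634_ok : okE 276 V634 = true := (okE_cons.2 ⟨n_u_ok, (okE_nil 276)⟩)

noncomputable def V635 : List Net := []

theorem V635_ok : okE 276 V635 = true := (okE_nil 276)

noncomputable def tt_c37_cnt_EG : List Net := [g124, g125, g126, g127, n_k3, n_t, g468, g469, g470, n_u, g489, n_b, g490, g340, g491, g631]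

theorem tt_c37_cnt_EG_ok : okE 276 tt_c37_cnt_EG = true := (okE_cons.2 ⟨g124_ok, (okE_cons.2 ⟨g125_ok, (okE_cons.2 ⟨g126_ok, (okE_cons.2 ⟨g127_ok, (okE_cons.2 ⟨n_k3_ok, (okE_cons.2 ⟨n_t_ok, (okE_cons.2 ⟨g468_ok, (okE_cons.2 ⟨g469_ok, (okE_cons.2 ⟨g470_ok, (okE_cons.2 ⟨n_u_ok, (okE_cons.2 ⟨g489_ok, (okE_cons.2 ⟨n_b_ok, (okE_cons.2 ⟨g490_ok, (okE_cons.2 ⟨g340_ok, (okE_cons.2 ⟨g491_ok, (okE_cons.2 ⟨g631_ok, (okE_nil 276)⟩)⟩)⟩)⟩)⟩)⟩)⟩)⟩)⟩)⟩)⟩)⟩)⟩)⟩)⟩)⟩)

noncomputable def g636 : Net := (Net.cons (nat_lit 1) (nat_lit 0x155504140045100415554400410544505414141054140154500055001545110145410) (Net.cons (nat_lit 2) (nat_lit 0x312221311211011002323011212132233201122333010213011021312301010202000) (Net.cons (nat_lit 4) (nat_lit 0xc00000b060a000007060e0201040e0601070e0f0d0c090b0602000c070f020c0400) (Net.cons (nat_lit 8) (nat_lit 0x1700e500e6000a0003001100e4002000ea00dc002e009b00a700080044000d0004) (Net.cons (nat_lit 16) (nat_lit 0x200006b4600007da00000dbc9000007dd000007900000b04c00000d6400000e00)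 (Net.cons (nat_lit 32) (nat_lit 0x2c0f5d4000000004d14105b0000000001601f00000000000002611d) (Net.cons (nat_lit 64) (nat_lit 0x489e3d4532181000000000000000000000000000055c00) (Net.cons (nat_lit 128) (nat_lit 0xb01b7948e7c4699fbbf3877500f03009) (Net.cons (nat_lit 256) (nat_lit 524157) (Net.cons (nat_lit 128) (nat_lit 196783) (Net.cons (nat_lit 64) (nat_lit 0xbb297bee61ce96280000000000000000f770ae0acd574d83) (Net.cons (nat_lit 32) (nat_lit 0x2cad04c1000000003ea21f33000000003c59cc85000000005e6926b0) (Net.cons (nat_lit 16) (nat_lit 0x10000b65f000001c90000dbbf0000cb760000e4920000d489000046e100008343) (Net.cons (nat_lit 8) (nat_lit 0xf600a800e200ab008b003700e8001000b800df004c007800dc00f00070002200c7) (Net.cons (nat_lit 4) (nat_lit 0x2090a08090f04000f0e000e070f0a050401010a0d090804060f010f040505070b0c) (Net.cons (nat_lit 2) (nat_lit 0x201210023113211021202100020211212203020031011030120121032101020120031) (Net.cons (nat_lit 1) (nat_lit 0x110155051154511105515145014015150440455100410451444100000045011504411)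 Net.nil)))))))))))))))))

theorem g636_ok : Net.ok 276 g636 = true := by decide +kernel

noncomputable def g637 : Net := (Net.cons (nat_lit 1) (nat_lit 0x114510141505544150000554451540145401111101051401414515500041114114150) (Net.cons (nat_lit 2) (nat_lit 0x13213110301031100002233322110130033233202330102011200023212030312230) (Net.cons (nat_lit 4) (nat_lit 0x50909010708090a07050b0705090d090d0e060507010802090c07010106080f0c00) (Net.cons (nat_lit 8) (nat_lit 0x690034000a00560056003d008600c7002000e8008400b0005000de00d000310002) (Net.cons (nat_lit 16) (nat_lit 0x1000059600000a05b00009c010000129d00000006000069920000211600008800) (Net.cons (nat_lit 32) (nat_lit 0x683f29b400000000949f203c00000000b0f41899000000000000111a) (Net.cons (nat_lit 64) (nat_lit 0x94790480926040b00000000000000000000000000000344c) (Net.cons (nat_lit 128) (nat_lit 0x11dfff45a7b847c3c62618b234d1e1b4) (Net.cons (nat_lit 256) (nat_lit 523775) (Net.cons (nat_lit 128) (nat_lit 283145)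 (Net.cons (nat_lit 64) (nat_lit 0xbf1944bd56e74c86000000000000000042587ad114b7bd05) (Net.cons (nat_lit 32) (nat_lit 0x6489fdfd00000000677ae6a500000000fc521ea600000000bd9cc87c) (Net.cons (nat_lit 16) (nat_lit 0x80000ea690000286b0000120000006fef00003cdb0000917b0000636b0000dc36) (Net.cons (nat_lit 8) (nat_lit 0x4400ea006100e10019008c001f007f00a0002b00d100b30017003b00d500b30019) (Net.cons (nat_lit 4) (nat_lit 0x1010a0c020c0403040c080e070302080b04030c0409040d0e03060b050b0f0c0b0f) (Net.cons (nat_lit 2) (nat_lit 0x223211121133002321231313323011211033301212112023101300011233110020233) (Net.cons (nat_lit 1) (nat_lit 0x501101040105150151044104454500155500401011440554451005441104051440001) Net.nil)))))))))))))))))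

theorem g637_ok : Net.ok 276 g637 = true := by decide +kernel

noncomputable def tt_c38_K : List Net := [g636, g637, n_u]

theorem tt_c38_K_ok : okE 276 tt_c38_K = true := (okE_cons.2 ⟨g636_ok, (okE_cons.2 ⟨g637_ok, (okE_cons.2 ⟨n_u_ok, (okE_nil 276)⟩)⟩)⟩)

noncomputable def tt_c38_cnt_EG : List Net := [g124, g125, g126, g127, n_k3, n_t, g468, g469, g470, n_u, g489, n_b, g490, g340, g491, g631]

theorem tt_c38_cnt_EG_ok : okE 276 tt_c38_cnt_EG = true := (okE_cons.2 ⟨g124_ok, (okE_cons.2 ⟨g125_ok, (okE_cons.2 ⟨g126_ok, (okE_cons.2 ⟨g127_ok, (okE_cons.2 ⟨n_k3_ok, (okE_cons.2 ⟨n_t_ok, (okE_cons.2 ⟨g468_ok, (okE_cons.2 ⟨g469_ok, (okE_cons.2 ⟨g470_ok, (okE_cons.2 ⟨n_u_ok, (okE_cons.2 ⟨g489_ok, (okE_cons.2 ⟨n_b_ok, (okE_cons.2 ⟨g490_ok, (okE_cons.2 ⟨g340_ok, (okE_cons.2 ⟨g491_ok, (okE_cons.2 ⟨g631_ok, (okE_nil 276)⟩)⟩)⟩)⟩)⟩)⟩)⟩)⟩)⟩)⟩)⟩)⟩)⟩)⟩)⟩)⟩)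

noncomputable def g639 : Net := (Net.cons (nat_lit 1) (nat_lit 0x501454101045104550005014554115000445504540514155111550044155050544044) (Net.cons (nat_lit 2) (nat_lit 0x300302300111221333120122023301231002200322110322000123311233301300000) (Net.cons (nat_lit 4) (nat_lit 0xd0f0c080d05080907040e08070507030d0f0500030b08040307020c0c080304020a) (Net.cons (nat_lit 8) (nat_lit 0xf00073002100a100c7002700a9001d0043007a00e100ad008500df004800440006) (Net.cons (nat_lit 16) (nat_lit 0x100004c8c0000754d000014870000ae090000e312000008440000040100003000) (Net.cons (nat_lit 32) (nat_lit 0x4db44227000000007426522800000000092151ec0000000000020080) (Net.cons (nat_lit 64) (nat_lit 0xd72402229178901600000000000000000000000000095067) (Net.cons (nat_lit 128) (nat_lit 0xfbede822f0540055048032512b2c1185) (Net.cons (nat_lit 256) (nat_lit 0xf71ef) (Net.cons (nat_lit 128) (nat_lit 443471) (Net.cons (nat_lit 64) (nat_lit 0xc01694be8933002a0000000000000000ed764e85de774b5f) (Net.cons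 (nat_lit 32) (nat_lit 0x6aab0f3900000000e1856073000000009b4468750000000083572f57) (Net.cons (nat_lit 16) (nat_lit 0x800006a320000d98b0000e73d00006b9c0000d79c0000c301000086330000ac2c) (Net.cons (nat_lit 8) (nat_lit 0xd900a800930011008a00e4007f002a002a001a00d3002e00ef004c00680063009f) (Net.cons (nat_lit 4) (nat_lit 0x30f0d0006070b0d0e090f050a02090708030f0b0e0f0708090d07050f0d040c0a03) (Net.cons (nat_lit 2) (nat_lit 0x2100022122120201221020021111331201032112003221220313012202012332222) (Net.cons (nat_lit 1) (nat_lit 0x50141004401510514154011515445140041440115450455141414515150011051) Net.nil)))))))))))))))))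

theorem g639_ok : Net.ok 276 g639 = true := by decide +kernel

noncomputable def g640 : Net := (Net.cons (nat_lit 1) (nat_lit 0x505000515551401100544400000114445411104450001504141451151504110510144) (Net.cons (nat_lit 2) (nat_lit 0x30322022013312233333230203313120013013222213113021131112220112130000) (Net.cons (nat_lit 4) (nat_lit 0x60208090a0505080f0104040c04070b0d010a060e070104000a0c090803080a0504) (Net.cons (nat_lit 8) (nat_lit 0xfc0017000c00cb00cc0072002900300018003600fb004c00650031008700a80004) (Net.cons (nat_lit 16) (nat_lit 0x6000093a6000060cf0000816d0000379100005b2e0000ee790000f45000001a00) (Net.cons (nat_lit 32) (nat_lit 0x11a04902000000005118890a00000000020a4c090000000000025a0f) (Net.cons (nat_lit 64) (nat_lit 0x48221a02002a40a9000000000000000000000000000a2853) (Net.cons (nat_lit 128) (nat_lit 0xf1bec891441cbbab3d05928e687a4ed2) (Net.cons (nat_lit 256) (nat_lit 720607) (Net.cons (nat_lit 128) (nat_lit 540422) (Net.cons (nat_lit 64) (nat_lit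 0xb3e3340b760bf16b00000000000000002d94f8600a2d5454) (Net.cons (nat_lit 32) (nat_lit 0x629b62d3000000009651f5cb00000000bdfcca79000000002d66ca13) (Net.cons (nat_lit 16) (nat_lit 0x60000f229000031820000dbf800004c650000afec0000d52b00000d2c000037d8) (Net.cons (nat_lit 8) (nat_lit 0x3e008d003c00f1005800af00bd00c5004b008d00c4009b00b600e4008a00b10010) (Net.cons (nat_lit 4) (nat_lit 0xc00090c030b0e0b05090d010c08040002080507090b010e050403050303040b060c) (Net.cons (nat_lit 2) (nat_lit 0x300201222303322022002313101323333030003102022010002132231121221120331) (Net.cons (nat_lit 1) (nat_lit 0x44140555000551101501501414450000414051000110110154145015140115510414) Net.nil)))))))))))))))))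

theorem g640_ok : Net.ok 276 g640 = true := by decide +kernel

noncomputable def tt_c39_K : List Net := [g639, g640, n_u]

theorem tt_c39_K_ok : okE 276 tt_c39_K = true := (okE_cons.2 ⟨g639_ok, (okE_cons.2 ⟨g640_ok, (okE_cons.2 ⟨n_u_ok, (okE_nil 276)⟩)⟩)⟩)

noncomputable def tt_c39_cnt_EG : List Net := [g124, g125, g126, g127, n_k3, n_t, g468, g469, g470, n_u, g489, n_b, g490, g340, g491, g631]

theorem tt_c39_cnt_EG_ok : okE 276 tt_c39_cnt_EG = true := (okE_cons.2 ⟨g124_ok, (okE_cons.2 ⟨g125_ok, (okE_cons.2 ⟨g126_ok, (okE_cons.2 ⟨g127_ok, (okE_cons.2 ⟨n_k3_ok, (okE_cons.2 ⟨n_t_ok, (okE_cons.2 ⟨g468_ok, (okE_cons.2 ⟨g469_ok, (okE_cons.2 ⟨g470_ok, (okE_cons.2 ⟨n_u_ok, (okE_cons.2 ⟨g489_ok, (okE_cons.2 ⟨n_b_ok, (okE_cons.2 ⟨g490_ok, (okE_cons.2 ⟨g340_ok, (okE_cons.2 ⟨g491_ok, (okE_cons.2 ⟨g631_ok, (okE_nil 276)⟩)⟩)⟩)⟩)⟩)⟩)⟩)⟩)⟩)⟩)⟩)⟩)⟩)⟩)⟩)⟩)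

noncomputable def g642 : Net := (Net.cons (nat_lit 1) (nat_lit 0x55015150041011544045040145050045445504015444054454414054000115511050) (Net.cons (nat_lit 2) (nat_lit 0x332003321323230203130001233313123200130003210030020222023121110110020) (Net.cons (nat_lit 4) (nat_lit 0x60a09060f0b050109000c050a0b040b0509080c040b060d0906020d0105080e0e00) (Net.cons (nat_lit 8) (nat_lit 0xa2003f00b2009c007c004900a6001400ad008800c60041001500b200e800180008) (Net.cons (nat_lit 16) (nat_lit 0xb00000bdd0000558e00008b970000452b00005b83000040710000482000003580) (Net.cons (nat_lit 32) (nat_lit 0x7138665400000000d422d1950000000001115883000000000000e139) (Net.cons (nat_lit 64) (nat_lit 0x4f52736446f280a400000000000000000000000000084c02) (Net.cons (nat_lit 128) (nat_lit 0xe21c458dad0450929dcbbe7b72f133dc) (Net.cons (nat_lit 256) (nat_lit 786431) (Net.cons (nat_lit 128) (nat_lit 237605) (Net.cons (nat_lit 64) (nat_lit 0x1893146a2d94c9d700000000000000002dcd7c0bd532c656) (Net.cons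 (nat_lit 32) (nat_lit 0xa51e97b4000000002018dab0000000001eecbedf000000002cb7dd3d) (Net.cons (nat_lit 16) (nat_lit 0x73120000fcf00000379700007fd600003b490000fc180000a6700000fda4) (Net.cons (nat_lit 8) (nat_lit 0x35001900d90026001f000100b600510091004100b3008f003c004800db003d0097) (Net.cons (nat_lit 4) (nat_lit 0x50d0207050e090b010a06070d0403080b0b040d010106070c0a0d0b090302080608) (Net.cons (nat_lit 2) (nat_lit 0x101020203002321010301310013023130000121120111303331230112223331311202) (Net.cons (nat_lit 1) (nat_lit 0x451540450555544115154450415111100051405004044115555440045501041141010) Net.nil)))))))))))))))))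

theorem g642_ok : Net.ok 276 g642 = true := by decide +kernel

noncomputable def g643 : Net := (Net.cons (nat_lit 1) (nat_lit 0x505140504150151510110551444114114515141145555050544140141040154454514) (Net.cons (nat_lit 2) (nat_lit 0x103322211120330120323031111221313021310203233001031203230230331213310) (Net.cons (nat_lit 4) (nat_lit 0xd0d0f0a0104010f07090e0500040c080209000c030b0b010006080f0c0a02030001) (Net.cons (nat_lit 8) (nat_lit 0x7006a004800d300fc00ec00b5001c00d000010090001400b0009200e900030001) (Net.cons (nat_lit 16) (nat_lit 0x3000035ea0000f1480000609f0000e5080000dbb900001db80000840000006340) (Net.cons (nat_lit 32) (nat_lit 0xa58a4746000000000602209f00000000880461a70000000000084a56) (Net.cons (nat_lit 64) (nat_lit 0x408612138c7f019f000000000000000000000000000150a1) (Net.cons (nat_lit 128) (nat_lit 0x8215182b7952e5c86acbaa1cf5a69118) (Net.cons (nat_lit 256) (nat_lit 0xfffff) (Net.cons (nat_lit 128) (nat_lit 0xfa517) (Net.cons (nat_lit 64)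 (nat_lit 0x11c1a5610e86ce30000000000000000e6e27012d367c0f4) (Net.cons (nat_lit 32) (nat_lit 0x25f5b2dc0000000057850c1600000000e458576d00000000e3eb9c33) (Net.cons (nat_lit 16) (nat_lit 0x200000ae3000043fb0000f82800000118000093bb0000cf8100000a9f000039a4) (Net.cons (nat_lit 8) (nat_lit 0xa6006300fe00b9008c00ad005d0003006600800011002900ae000800f300df00d9) (Net.cons (nat_lit 4) (nat_lit 0x10d0201010e0d020c0b060606040f070c0202070e0d07040e0c0b030903010f0602) (Net.cons (nat_lit 2) (nat_lit 0x131333222003322023101033310220301223231133301222302323110121131321100) (Net.cons (nat_lit 1) (nat_lit 0x14151545045015010150550540145551005505554005105044441404455155445000) Net.nil)))))))))))))))))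

theorem g643_ok : Net.ok 276 g643 = true := by decide +kernel

noncomputable def g644 : Net := (Net.cons (nat_lit 1) (nat_lit 0x541140144015114044515441404454045515405405544155014154145040514010550) (Net.cons (nat_lit 2) (nat_lit 0x330321232231310221111312211102200320113020211201032330013210322020110) (Net.cons (nat_lit 4) (nat_lit 0xd0e02000804040a06050f080d06080b090409020c0a0f02080d070405010c0b0402) (Net.cons (nat_lit 8) (nat_lit 0x3800e600190000002500af00af00b90034004800c10084008f002c004000080008) (Net.cons (nat_lit 16) (nat_lit 0xb0000a0eb0000b82a000054e80000b0c50000d4f8000048b50000116500003800) (Net.cons (nat_lit 32) (nat_lit 0x4546a6e70000000053a792da00000000622364c00000000000060e00) (Net.cons (nat_lit 64) (nat_lit 0x902e8554865255ac000000000000000000000000000a8448) (Net.cons (nat_lit 128) (nat_lit 0xfbe2443eb40b4efd294cd9c13ada408b) (Net.cons (nat_lit 256) (nat_lit 0xfffdb) (Net.cons (nat_lit 128) (nat_lit 777099) (Net.cons (nat_lit 64)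 (nat_lit 0xfb5213948338eda90000000000000000411a22a60d391691) (Net.cons (nat_lit 32) (nat_lit 0xfcde2f6100000000d405401f000000000d4a387700000000f9255be3) (Net.cons (nat_lit 16) (nat_lit 0xe00000d9e0000af2800009d2b00003c14000002440000d70d00007df500005d48) (Net.cons (nat_lit 8) (nat_lit 0x7e00d50030000600a500470017005e00540081007500e0003500e900e6000200d2) (Net.cons (nat_lit 4) (nat_lit 0x9060d0b0807030809030c0301070302080a0c090b0e0c0e030d000207030a080d0e) (Net.cons (nat_lit 2) (nat_lit 0x231203210110002320221123032330201103000010221022000210210101332331031) (Net.cons (nat_lit 1) (nat_lit 0x514041441551000450145054141054114045005511445010144051111400544101115) Net.nil)))))))))))))))))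

theorem g644_ok : Net.ok 276 g644 = true := by decide +kernel

noncomputable def tt_c40_K : List Net := [g642, g643, g644]

theorem tt_c40_K_ok : okE 276 tt_c40_K = true := (okE_cons.2 ⟨g642_ok, (okE_cons.2 ⟨g643_ok, (okE_cons.2 ⟨g644_ok, (okE_nil 276)⟩)⟩)⟩)

noncomputable def g646 : Net := (Net.cons (nat_lit 1) (nat_lit 0x1140444155545440554411450114445500144505410000104051105501451041010) (Net.cons (nat_lit 2) (nat_lit 0x10202202230201000112112220103201011030012100131300032331321110221100) (Net.cons (nat_lit 4) (nat_lit 0x60d0701070a07090e0e0d02090f020e0a0e0705050e0d030c080802040e080f040d) (Net.cons (nat_lit 8) (nat_lit 0xd9002c00b500aa00e0005900c700d80032005c0068004c002200e5000c00a60000) (Net.cons (nat_lit 16) (nat_lit 0xa0000765300008f5f00008bc600008b1b000052730000127a000060160000c500) (Net.cons (nat_lit 32) (nat_lit 0x1cdb591a000000006d8aa0e000000000020caad90000000000020040) (Net.cons (nat_lit 64) (nat_lit 0x8008216937a6481c000000000000000000000000000fd880)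 (Net.cons (nat_lit 128) (nat_lit 0x1ff5216678b3730e8f6d488987086916) (Net.cons (nat_lit 256) (nat_lit 0xffdf7) (Net.cons (nat_lit 128) (nat_lit 385318) (Net.cons (nat_lit 64) (nat_lit 0xc61bb353340691bb0000000000000000b696eeffef63a124) (Net.cons (nat_lit 32) (nat_lit 0x13ce73e9000000003647895900000000cd6dbe700000000008456c99) (Net.cons (nat_lit 16) (nat_lit 0x40000377c0000800d0000702f000066e9000060950000c3cc0000d89000000f08) (Net.cons (nat_lit 8) (nat_lit 0x140071003700a200de001000c00074004e00ba00df004100fd00af00be00e80034) (Net.cons (nat_lit 4) (nat_lit 0xc0c0702050102060601050c0f0402010204070703080e0c0e070b0d0c0b0802030c) (Net.cons (nat_lit 2) (nat_lit 0x210310313310231310213233030012111010011003033113101311103021013223201) (Net.cons (nat_lit 1) (nat_lit 0x110555500155141000055141055444444011100055411401111114515000045000044) Net.nil)))))))))))))))))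

theorem g646_ok : Net.ok 276 g646 = true := by decide +kernel

noncomputable def V647 : List Net := [g646]

theorem V647_ok : okE 276 V647 = true := (okE_cons.2 ⟨g646_ok, (okE_nil 276)⟩)

noncomputable def V649 : List Net := []

theorem V649_ok : okE 276 V649 = true := (okE_nil 276)

noncomputable def tt_c40_cnt_EG : List Net := [g124, g125, g126, g127, n_k3, n_t, g468, g469, g470, n_u, g489, n_b, g490, g340, g491, g646, g631]

theorem tt_c40_cnt_EG_ok : okE 276 tt_c40_cnt_EG = true := (okE_cons.2 ⟨g124_ok, (okE_cons.2 ⟨g125_ok, (okE_cons.2 ⟨g126_ok, (okE_cons.2 ⟨g127_ok, (okE_cons.2 ⟨n_k3_ok, (okE_cons.2 ⟨n_t_ok, (okE_cons.2 ⟨g468_ok, (okE_cons.2 ⟨g469_ok, (okE_cons.2 ⟨g470_ok, (okE_cons.2 ⟨n_u_ok, (okE_cons.2 ⟨g489_ok, (okE_cons.2 ⟨n_b_ok, (okE_cons.2 ⟨g490_ok, (okE_cons.2 ⟨g340_ok, (okE_cons.2 ⟨g491_ok, (okE_cons.2 ⟨g646_ok, (okE_cons.2 ⟨g631_ok, (okE_nil 276)⟩)⟩)⟩)⟩)⟩)⟩)⟩)⟩)⟩)⟩)⟩)⟩)⟩)⟩)⟩)⟩)⟩)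

noncomputable def g650 : Net := (Net.cons (nat_lit 1) (nat_lit 0x111041450114051455411444540401115150140415004154501040411445045105010) (Net.cons (nat_lit 2) (nat_lit 0x232231101223330331321111021232000001020213132103030010303001001310200) (Net.cons (nat_lit 4) (nat_lit 0x60101020201030e010a0006080b01080d0c000a0d02040a0c0a070509010c0a0300) (Net.cons (nat_lit 8) (nat_lit 0xb10065002500be005500c0001000b800630053004300e400280046002500100002) (Net.cons (nat_lit 16) (nat_lit 0xe00008ded0000287500001dc90000f9d5000008ff0000301c0000e12300004270) (Net.cons (nat_lit 32) (nat_lit 0x7b0242400000000021780c570000000000158d5500000000000088e1) (Net.cons (nat_lit 64) (nat_lit 0x5317080cec21c0d500000000000000000000000000070a40) (Net.cons (nat_lit 128) (nat_lit 0xcd3ef640c1f7119ff0c37eae3b09589) (Net.cons (nat_lit 256) (nat_lit 516095) (Net.cons (nat_lit 128) (nat_lit 144964) (Net.cons (nat_lit 64) (nat_lit 0x8ef81bf67da3d05600000000000000008ba6c1097c80a71f) (Net.cons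 (nat_lit 32) (nat_lit 0x823a85b500000000a78a4b53000000002a291c2d0000000042874386) (Net.cons (nat_lit 16) (nat_lit 0x9000050ea00002ba50000005b0000b51f00003dc10000ff750000624800009b50) (Net.cons (nat_lit 8) (nat_lit 0x4100d30054009c002300f6004c00a000f00033009200cd00b100f300f6005200c3) (Net.cons (nat_lit 4) (nat_lit 0x8050c0402030c0d0d0c0b090b0f020a0a020a0e08050f0f0b030d050f0609070300) (Net.cons (nat_lit 2) (nat_lit 0x101320220202311323222323020322102231002232111100330331231022123233122) (Net.cons (nat_lit 1) (nat_lit 0x15441444441054041141041541015045101115101110455455155044145010051010) Net.nil)))))))))))))))))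

theorem g650_ok : Net.ok 276 g650 = true := by decide +kernel

noncomputable def g651 : Net := (Net.cons (nat_lit 1) (nat_lit 0x101054050155005011501111001445415551501000551455441540544144005101140) (Net.cons (nat_lit 2) (nat_lit 0x1313312021102100300321133032322201312331310033303130212313331001330) (Net.cons (nat_lit 4) (nat_lit 0x60b0a000e07030c070d03060f0c09090a0008000e030d09070a00090e0b03000d00) (Net.cons (nat_lit 8) (nat_lit 0xcb000700bf00a4002a002f00c1007b0083007100070098000700ea0064002c0009) (Net.cons (nat_lit 16) (nat_lit 0x20000e15a0000d20f00000336000081840000a1fd0000a3a400004a3400002a10) (Net.cons (nat_lit 32) (nat_lit 0x40407a1800000000c59dee13000000002c75305000000000000bd00c) (Net.cons (nat_lit 64) (nat_lit 0xf80f26d5419282c100000000000000000000000000041811) (Net.cons (nat_lit 128) (nat_lit 0xbc679994519ce6734548af632a6c23d8) (Net.cons (nat_lit 256) (nat_lit 0xffbfd) (Net.cons (nat_lit 128) (nat_lit 995348) (Net.cons (nat_lit 64) (nat_lit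 0xb97c20ecbf286853000000000000000089329b9203c2d4ee) (Net.cons (nat_lit 32) (nat_lit 0x437687e9000000007645b6fa000000003816e04c00000000e2eb6a45) (Net.cons (nat_lit 16) (nat_lit 0xb0000340800004c3d0000d75d00004ecd0000b1c800004f400000c7b100000d38) (Net.cons (nat_lit 8) (nat_lit 0xaa001f002000bc0035005d0009000b00c600f500770056006d004a0005005a008c) (Net.cons (nat_lit 4) (nat_lit 0x50f0107040d000208020d0200040808000b070a02000e000e0c040e000e0b05070b) (Net.cons (nat_lit 2) (nat_lit 0x123011121011220200233011212313121210221131220220211202012130101032311) (Net.cons (nat_lit 1) (nat_lit 0x154545400455455400004140515544545444551451050454541040141501540010054) Net.nil)))))))))))))))))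

theorem g651_ok : Net.ok 276 g651 = true := by decide +kernel

noncomputable def tt_c41_K : List Net := [g650, n_tu, g651]

theorem tt_c41_K_ok : okE 276 tt_c41_K = true := (okE_cons.2 ⟨g650_ok, (okE_cons.2 ⟨n_tu_ok, (okE_cons.2 ⟨g651_ok, (okE_nil 276)⟩)⟩)⟩)

noncomputable def tt_c41_cnt_EG : List Net := [g124, g125, g126, g127, n_k3, n_t, g468, g469, g470, n_u, g489, n_b, g490, g340, g491, g646, g631]

theorem tt_c41_cnt_EG_ok : okE 276 tt_c41_cnt_EG = true := (okE_cons.2 ⟨g124_ok, (okE_cons.2 ⟨g125_ok, (okE_cons.2 ⟨g126_ok, (okE_cons.2 ⟨g127_ok, (okE_cons.2 ⟨n_k3_ok, (okE_cons.2 ⟨n_t_ok, (okE_cons.2 ⟨g468_ok, (okE_cons.2 ⟨g469_ok, (okE_cons.2 ⟨g470_ok, (okE_cons.2 ⟨n_u_ok, (okE_cons.2 ⟨g489_ok, (okE_cons.2 ⟨n_b_ok, (okE_cons.2 ⟨g490_ok, (okE_cons.2 ⟨g340_ok, (okE_cons.2 ⟨g491_ok, (okE_cons.2 ⟨g646_ok, (okE_cons.2 ⟨g631_ok, (okE_nil 276)⟩)⟩)⟩)⟩)⟩)⟩)⟩)⟩)⟩)⟩)⟩)⟩)⟩)⟩)⟩)⟩)⟩)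

noncomputable def g653 : Net := (Net.cons (nat_lit 1) (nat_lit 0x501505510014454554544405545541115015105104411055004550405450055500504) (Net.cons (nat_lit 2) (nat_lit 0x12212331302122203230100322310122112022313032031021331200233000103100) (Net.cons (nat_lit 4) (nat_lit 0x60d060f02020c0b02030e0203070508020b0d070800030202050b0f0208090a0c0c) (Net.cons (nat_lit 8) (nat_lit 0x60002d00db009700d70013000b00490018006d00940094005c00e1000000030004) (Net.cons (nat_lit 16) (nat_lit 0xb4940000c3100000123700001bfd00002421000089a5000002a500000020) (Net.cons (nat_lit 32) (nat_lit 0xb9ce8979000000003a1c04870000000084306983000000000003c498) (Net.cons (nat_lit 64) (nat_lit 0x30d8029152202640000000000000000000000000000153a3) (Net.cons (nat_lit 128) (nat_lit 0x59e02609dd4a05e7a51efcba8fbc0440) (Net.cons (nat_lit 256) (nat_lit 0xff7ff) (Net.cons (nat_lit 128) (nat_lit 227013) (Net.cons (nat_lit 64) (nat_lit 0x19e2c5e084be2fe500000000000000001fc66970a6d493ca) (Net.cons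 (nat_lit 32) (nat_lit 0x4c41097d00000000b7598e0f0000000029d5320100000000b0070fb7) (Net.cons (nat_lit 16) (nat_lit 0xa0000f78400002ce50000336900000e3c0000edaa0000e8a500005a4c0000ea43) (Net.cons (nat_lit 8) (nat_lit 0xb900f90060007b000800dc0076005a00ae00ce00ad00f80016009200f600f5) (Net.cons (nat_lit 4) (nat_lit 0xe010c090506080f04090909060f0d0401090f0d06010b0e080d03030506090e0d0d) (Net.cons (nat_lit 2) (nat_lit 0x132320001111123012033212312021003313333201100011120301003232201233133) (Net.cons (nat_lit 1) (nat_lit 0x500100504004455455144415141554011505451405155550444444505510154511145) Net.nil)))))))))))))))))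

theorem g653_ok : Net.ok 276 g653 = true := by decide +kernel

noncomputable def tt_c42_K : List Net := [g653, n_u]

theorem tt_c42_K_ok : okE 276 tt_c42_K = true := (okE_cons.2 ⟨g653_ok, (okE_cons.2 ⟨n_u_ok, (okE_nil 276)⟩)⟩)

noncomputable def V655 : List Net := [g502, n_u]

theorem V655_ok : okE 276 V655 = true := (okE_cons.2 ⟨g502_ok, (okE_cons.2 ⟨n_u_ok, (okE_nil 276)⟩)⟩)

noncomputable def V657 : List Net := [n_u]

theorem V657_ok : okE 276 V657 = true := (okE_cons.2 ⟨n_u_ok, (okE_nil 276)⟩)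

noncomputable def V658 : List Net := []

theorem V658_ok : okE 276 V658 = true := (okE_nil 276)

noncomputable def tt_c42_cnt_EG : List Net := [g124, g125, g126, g127, n_k3, n_t, g419, g420, g417, n_u, g414, g502]

theorem tt_c42_cnt_EG_ok : okE 276 tt_c42_cnt_EG = true := (okE_cons.2 ⟨g124_ok, (okE_cons.2 ⟨g125_ok, (okE_cons.2 ⟨g126_ok, (okE_cons.2 ⟨g127_ok, (okE_cons.2 ⟨n_k3_ok, (okE_cons.2 ⟨n_t_ok, (okE_cons.2 ⟨g419_ok, (okE_cons.2 ⟨g420_ok, (okE_cons.2 ⟨g417_ok, (okE_cons.2 ⟨n_u_ok, (okE_cons.2 ⟨g414_ok, (okE_cons.2 ⟨g502_ok, (okE_nil 276)⟩)⟩)⟩)⟩)⟩)⟩)⟩)⟩)⟩)⟩)⟩)⟩)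

noncomputable def g659 : Net := (Net.cons (nat_lit 1) (nat_lit 0x40414150104540040551451015154145454151551451540405151504404145510404) (Net.cons (nat_lit 2) (nat_lit 0x11123121031323002311311000323222201132012022223312331210022113213210) (Net.cons (nat_lit 4) (nat_lit 0xf0c0b01080d0f080e070e020b0904070208060c0505080a00020a07000805000900) (Net.cons (nat_lit 8) (nat_lit 0x300054003300b00010005f0098008e007e0069008300ac0024006d00d800060002) (Net.cons (nat_lit 16) (nat_lit 0x30000ce2800006f3e0000a5bd0000c276000002010000a3e0000009e300003610) (Net.cons (nat_lit 32) (nat_lit 0xc24d08500000000016e7680000000000449556ab0000000000019a28) (Net.cons (nat_lit 64) (nat_lit 0x806c10c253853507000000000000000000000000000bd112) (Net.cons (nat_lit 128) (nat_lit 0x5789f5f30a6d94628b66473979e2b72d) (Net.cons (nat_lit 256) (nat_lit 0xfff7f) (Net.cons (nat_lit 128) (nat_lit 39657) (Net.cons (nat_lit 64) (nat_lit 0x9a4ecc6e547a110a000000000000000004db57c621c80cea) (Net.cons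 (nat_lit 32) (nat_lit 0x8ad3ab0500000000c1cae8490000000024bcf3610000000083059f4b) (Net.cons (nat_lit 16) (nat_lit 0xd0000107500007af60000c54c00006e5c00005c4c00000c30000048bf00004edd) (Net.cons (nat_lit 8) (nat_lit 0x7f00ac00e7004100d100f10064007d00e9007400c100a900ca00dd0053008b000a) (Net.cons (nat_lit 4) (nat_lit 0x90a0706070f0c0309020a01000c09080a050e04060801050a080e09000f02030103) (Net.cons (nat_lit 2) (nat_lit 0x113321132100210033101310031132000112213130210100111211131021231012021) (Net.cons (nat_lit 1) (nat_lit 0x114055540044104050115450154540541405144141055411054055551445140454000) Net.nil)))))))))))))))))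

theorem g659_ok : Net.ok 276 g659 = true := by decide +kernel

noncomputable def g660 : Net := (Net.cons (nat_lit 1) (nat_lit 0x14140405415150454400511414455154000111450554505054040505000014500000) (Net.cons (nat_lit 2) (nat_lit 0x11030122322103033131013232120022330003012223012122001310201002010000) (Net.cons (nat_lit 4) (nat_lit 0xa09000301080d0804060a090605070e0b090b0d020d020405090a060e000b010501) (Net.cons (nat_lit 8) (nat_lit 0xdc00ea00e500f0007800db004200f600a9001500ad004e00ad0051004e0079000c) (Net.cons (nat_lit 16) (nat_lit 0xc000065880000f54600004abc0000ec7100002509000051980000a29800000b50) (Net.cons (nat_lit 32) (nat_lit 0x1b640c8800000000eb32c208000000001874f24100000000000e0062) (Net.cons (nat_lit 64) (nat_lit 0x484d16300257a1410000000000000000000000000000fd5c) (Net.cons (nat_lit 128) (nat_lit 0xd402fddb888b84bc11d71a1e6f720bb) (Net.cons (nat_lit 256) (nat_lit 0xfffff) (Net.cons (nat_lit 128) (nat_lit 864650) (Net.cons (nat_lit 64) (nat_lit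 0x9a40aa9a42b4482900000000000000008ee717d251123909) (Net.cons (nat_lit 32) (nat_lit 0x4ee1d1c800000000eb490c6a000000007dc5eb94000000007d8d362f) (Net.cons (nat_lit 16) (nat_lit 0xc0000e59d0000fe1d0000823f0000fc51000046630000973b0000e23b0000d48d) (Net.cons (nat_lit 8) (nat_lit 0xe3003000b9005000f80017005400700092005d005c001200a200d200ea0016009c) (Net.cons (nat_lit 4) (nat_lit 0x8030f0c0709060c00030a00000c0e010a04060a090c010a0704010c050d030c0101) (Net.cons (nat_lit 2) (nat_lit 0x212222300100220100010123113313313202213101020111102222212123113301011) (Net.cons (nat_lit 1) (nat_lit 0x544555145045154500451150445555504005100500505404054055105145405000540) Net.nil)))))))))))))))))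

theorem g660_ok : Net.ok 276 g660 = true := by decide +kernel

noncomputable def tt_c43_K : List Net := [g660, g659, g513, n_t]

theorem tt_c43_K_ok : okE 276 tt_c43_K = true := (okE_cons.2 ⟨g660_ok, (okE_cons.2 ⟨g659_ok, (okE_cons.2 ⟨g513_ok, (okE_cons.2 ⟨n_t_ok, (okE_nil 276)⟩)⟩)⟩)⟩)

noncomputable def tt_c43_cnt_EG : List Net := [g124, g125, g126, g127, n_k3, n_t]

theorem tt_c43_cnt_EG_ok : okE 276 tt_c43_cnt_EG = true := (okE_cons.2 ⟨g124_ok, (okE_cons.2 ⟨g125_ok, (okE_cons.2 ⟨g126_ok, (okE_cons.2 ⟨g127_ok, (okE_cons.2 ⟨n_k3_ok, (okE_cons.2 ⟨n_t_ok, (okE_nil 276)⟩)⟩)⟩)⟩)⟩)⟩)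

noncomputable def g662 : Net := (Net.cons (nat_lit 1) (nat_lit 0x144550541514154054440415155011550051501444014401114455145410001501140) (Net.cons (nat_lit 2) (nat_lit 0x10333311003232001302300201033333233300031201020230131303330130332000) (Net.cons (nat_lit 4) (nat_lit 0x80e0a00090f040701040e0d000e060000070d0502030a07030501070e0f0a0f0702) (Net.cons (nat_lit 8) (nat_lit 0x2b006200e50089008c008e00470085003f000e00e200e90094006c00eb000c0005) (Net.cons (nat_lit 16) (nat_lit 0x20000b6cc00009dda0000f5b40000cb360000be5f0000200a00000c9c00007120) (Net.cons (nat_lit 32) (nat_lit 0x71e7155d0000000092c2d4bf0000000003271068000000000001070b) (Net.cons (nat_lit 64) (nat_lit 0xa0500049068353000000000000000000000000000211b8) (Net.cons (nat_lit 128) (nat_lit 0x697f20161aa5a478aac17a86459c8fcd) (Net.cons (nat_lit 256) (nat_lit 0xfffff) (Net.cons (nat_lit 128) (nat_lit 987758) (Net.cons (nat_lit 64) (nat_lit 0x84d57b407df06b1e000000000000000000c2d7b2aefb89d6) (Net.cons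 (nat_lit 32) (nat_lit 0xa67be9380000000005a7a2830000000025859276000000002f845086) (Net.cons (nat_lit 16) (nat_lit 0xd00009c1f0000a1730000e8240000046a0000e651000007590000cc4100000267) (Net.cons (nat_lit 8) (nat_lit 0xc30022003c00bc000300130072001000ac000e005d0006008800f5007d00af0080) (Net.cons (nat_lit 4) (nat_lit 0x40400040c0703070f0004070e040f0c07000607050c030b0c020109010c030d0c0c) (Net.cons (nat_lit 2) (nat_lit 0x322331322103221012132013201111001012212011112113003130223112021300033) (Net.cons (nat_lit 1) (nat_lit 0x10004014551540055415411455145545505141010051014511511050505545411544) Net.nil)))))))))))))))))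

theorem g662_ok : Net.ok 276 g662 = true := by decide +kernel

noncomputable def tt_c44_K : List Net := [g417, g662]

theorem tt_c44_K_ok : okE 276 tt_c44_K = true := (okE_cons.2 ⟨g417_ok, (okE_cons.2 ⟨g662_ok, (okE_nil 276)⟩)⟩)

noncomputable def V664 : List Net := []

theorem V664_ok : okE 276 V664 = true := (okE_nil 276)

noncomputable def tt_c44_cnt_EG : List Net := [g414, g419, g420, g417, n_u, g124, g125, g126, g127, n_k3, n_t, g458, g459]

theorem tt_c44_cnt_EG_ok : okE 276 tt_c44_cnt_EG = true := (okE_cons.2 ⟨g414_ok, (okE_cons.2 ⟨g419_ok, (okE_cons.2 ⟨g420_ok, (okE_cons.2 ⟨g417_ok, (okE_cons.2 ⟨n_u_ok, (okE_cons.2 ⟨g124_ok, (okE_cons.2 ⟨g125_ok, (okE_cons.2 ⟨g126_ok, (okE_cons.2 ⟨g127_ok, (okE_cons.2 ⟨n_k3_ok, (okE_cons.2 ⟨n_t_ok, (okE_cons.2 ⟨g458_ok, (okE_cons.2 ⟨g459_ok, (okE_nil 276)⟩)⟩)⟩)⟩)⟩)⟩)⟩)⟩)⟩)⟩)⟩)⟩)⟩)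

noncomputable def g666 : Net := (Net.cons (nat_lit 1) (nat_lit 0x154054410144411500141005450141141441151414100450415115045454005141440) (Net.cons (nat_lit 2) (nat_lit 0x332012012022310100300231021003102203331302031331231311101312101112100) (Net.cons (nat_lit 4) (nat_lit 0x805070d050908010506040b0c0f0e0e0c03080a0f0e0b0f05070209090c050e0808) (Net.cons (nat_lit 8) (nat_lit 0x94008c00550015005200eb00d300a100e400160002008e0009000100270026000a) (Net.cons (nat_lit 16) (nat_lit 0xa2730000176a000011e40000243a00005c9c000047cc0000529400003950) (Net.cons (nat_lit 32) (nat_lit 0x45988beb000000006394161e00000000020a38d400000000000c6034) (Net.cons (nat_lit 64) (nat_lit 0x201081c0617ac824000000000000000000000000000b7010) (Net.cons (nat_lit 128) (nat_lit 0xade3997a02370e6fc61714b9e3465a65) (Net.cons (nat_lit 256) (nat_lit 0xffb7f) (Net.cons (nat_lit 128) (nat_lit 0xf80a3) (Net.cons (nat_lit 64) (nat_lit 0x29c26c453747408e00000000000000007ccb816e12c91084) (Net.cons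 (nat_lit 32) (nat_lit 0x6deab65d00000000b17d32d7000000006adb2b2f00000000ba76ef61) (Net.cons (nat_lit 16) (nat_lit 0xc000086710000ba4c00007a0d0000be3400001b740000d2fb0000a2b500001922) (Net.cons (nat_lit 8) (nat_lit 0xde005c00dd001c007900bc000400d3007e002400cc00540041006d006e00b1008a) (Net.cons (nat_lit 4) (nat_lit 0x803090e0f0103040b0c010d07020b02000a0a000b0b0f01050c08090d030c060c01) (Net.cons (nat_lit 2) (nat_lit 0x202211332230303030302112333210312111121130111312101231322232022332010) (Net.cons (nat_lit 1) (nat_lit 0x104004141415504050545440115511440445004400150504141454445141510041544) Net.nil)))))))))))))))))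

theorem g666_ok : Net.ok 276 g666 = true := by decide +kernel

noncomputable def g667 : Net := (Net.cons (nat_lit 1) (nat_lit 0x415110054010041401550440540444055000015404441144510155554115545405050) (Net.cons (nat_lit 2) (nat_lit 0x233010013223322122211222123201200211313222010103211103022013301010230) (Net.cons (nat_lit 4) (nat_lit 0xe0804020e0309080e070908010e0c000f0c0d090d0c030204090006010609090402) (Net.cons (nat_lit 8) (nat_lit 0xe3004900600021006d00ef00a5006500c100ab00eb0061004d00a2009500180001) (Net.cons (nat_lit 16) (nat_lit 0x600004a8400009be100001f3800005d090000b0280000f0cc0000e33600003050) (Net.cons (nat_lit 32) (nat_lit 0x90697c3c000000007ea9b0d300000000138034130000000000041251) (Net.cons (nat_lit 64) (nat_lit 0x20404220ca4f384000000000000000000000000000ab112) (Net.cons (nat_lit 128) (nat_lit 0xaa44ed1061af879b588a1bfe6f09977c) (Net.cons (nat_lit 256) (nat_lit 0xfbf7f) (Net.cons (nat_lit 128) (nat_lit 648530) (Net.cons (nat_lit 64)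 (nat_lit 0x5c7f8b866f2e9c050000000000000000b731cf10c74ecd23) (Net.cons (nat_lit 32) (nat_lit 0xb265c1ba000000004c693787000000003b4786190000000039482b52) (Net.cons (nat_lit 16) (nat_lit 0xb8db00007d63000018bc00000eab0000258700003de200009db500006014) (Net.cons (nat_lit 8) (nat_lit 0x3a0046002d00c7000f008900b700270099002e007b00120020002a00380014001a) (Net.cons (nat_lit 4) (nat_lit 0x704030b050d0c030c0a0104090006040f0a060b0f0208070c0803010f0d0a0e0202) (Net.cons (nat_lit 2) (nat_lit 0x201101022122332310301021120310022213023020102120332132230033121321322) (Net.cons (nat_lit 1) (nat_lit 0x414500410451154401040400140555015041441545140145511440041415145001511) Net.nil)))))))))))))))))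

theorem g667_ok : Net.ok 276 g667 = true := by decide +kernel

noncomputable def tt_c45_K : List Net := [g666, g667, n_t]

theorem tt_c45_K_ok : okE 276 tt_c45_K = true := (okE_cons.2 ⟨g666_ok, (okE_cons.2 ⟨g667_ok, (okE_cons.2 ⟨n_t_ok, (okE_nil 276)⟩)⟩)⟩)

noncomputable def tt_c45_cnt_EG : List Net := [g125, g126, g127, n_k3, n_t, g124]

theorem tt_c45_cnt_EG_ok : okE 276 tt_c45_cnt_EG = true := (okE_cons.2 ⟨g125_ok, (okE_cons.2 ⟨g126_ok, (okE_cons.2 ⟨g127_ok, (okE_cons.2 ⟨n_k3_ok, (okE_cons.2 ⟨n_t_ok, (okE_cons.2 ⟨g124_ok, (okE_nil 276)⟩)⟩)⟩)⟩)⟩)⟩)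

noncomputable def g669 : Net := (Net.cons (nat_lit 1) (nat_lit 0x500055151101154441100050140414411104450401050400501145545511451511140) (Net.cons (nat_lit 2) (nat_lit 0x32103220310012003030102131132000311020323313110303102203323212030100) (Net.cons (nat_lit 4) (nat_lit 0xc0201090e0e0c0108070c05040707060c0400040d030f0e050f0b0108000a080304) (Net.cons (nat_lit 8) (nat_lit 0xfa008d002b00b9007800bc008a00c60028001100c90028009e007c00d0000b0003) (Net.cons (nat_lit 16) (nat_lit 0x80000d41700000b1300006a1e00000f8400001610000098c000000c8000008200) (Net.cons (nat_lit 32) (nat_lit 0xc1513a0600000000aa3a232d0000000004c120040000000000051844) (Net.cons (nat_lit 64) (nat_lit 0x178532144964d7210000000000000000000000000005228c) (Net.cons (nat_lit 128) (nat_lit 0x87396e2a0352b4f8b8f41515cea0627d) (Net.cons (nat_lit 256) (nat_lit 523007) (Net.cons (nat_lit 128) (nat_lit 926027) (Net.cons (nat_lit 64) (nat_lit 0x137fa20585ffe0000000000000000055061366bcf88081) (Net.cons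 (nat_lit 32) (nat_lit 0x49765eef00000000c27aaece00000000a09084ba0000000042a89cab) (Net.cons (nat_lit 16) (nat_lit 0xb0000aca2000080f30000b8260000c62d0000e425000042a10000e21d0000ae60) (Net.cons (nat_lit 8) (nat_lit 0x6b00ac00e3003100f50020009100150078004000cc007500d100a00027004800d7) (Net.cons (nat_lit 4) (nat_lit 0x90a00060f08030b00030d0b0a0d010a03030d0e0c08040f0003030a0203090e0f0e) (Net.cons (nat_lit 2) (nat_lit 0x130021022003030003012201331233021323101103222122032210031210011321330) (Net.cons (nat_lit 1) (nat_lit 0x501004001514141504015540105011150114414011505445440544554540105001011) Net.nil)))))))))))))))))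

theorem g669_ok : Net.ok 276 g669 = true := by decide +kernel

noncomputable def tt_c46_K : List Net := [g669, n_u]

theorem tt_c46_K_ok : okE 276 tt_c46_K = true := (okE_cons.2 ⟨g669_ok, (okE_cons.2 ⟨n_u_ok, (okE_nil 276)⟩)⟩)

noncomputable def tt_c46_cnt_EG : List Net := [g124, g125, g126, g127, n_k3, n_t, g414, g419, g420, g417, n_u, g575, n_y]

theorem tt_c46_cnt_EG_ok : okE 276 tt_c46_cnt_EG = true := (okE_cons.2 ⟨g124_ok, (okE_cons.2 ⟨g125_ok, (okE_cons.2 ⟨g126_ok, (okE_cons.2 ⟨g127_ok, (okE_cons.2 ⟨n_k3_ok, (okE_cons.2 ⟨n_t_ok, (okE_cons.2 ⟨g414_ok, (okE_cons.2 ⟨g419_ok, (okE_cons.2 ⟨g420_ok, (okE_cons.2 ⟨g417_ok, (okE_cons.2 ⟨n_u_ok, (okE_cons.2 ⟨g575_ok, (okE_cons.2 ⟨n_y_ok, (okE_nil 276)⟩)⟩)⟩)⟩)⟩)⟩)⟩)⟩)⟩)⟩)⟩)⟩)⟩)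

noncomputable def g671 : Net := (Net.cons (nat_lit 1) (nat_lit 0x515504415040104040100051044051415540554005445141404445441504111000440) (Net.cons (nat_lit 2) (nat_lit 0x12121021110321003323003210310201210202012330211123130201101111121020) (Net.cons (nat_lit 4) (nat_lit 0x60e060b0f020f070f0f0a080a0901000d0e080004090d0d0f0c0300010901010600) (Net.cons (nat_lit 8) (nat_lit 0x6700ea00e600cc00d5009e00aa00a600ff00e900f00004006100c0009f00620008) (Net.cons (nat_lit 16) (nat_lit 0xf0000b08800008e69000027120000680f0000071b0000c21f000022a600000460) (Net.cons (nat_lit 32) (nat_lit 0xa0787c3d00000000283373ac0000000005562202000000000001a347) (Net.cons (nat_lit 64) (nat_lit 0x6490848a30020a07000000000000000000000000000d8201) (Net.cons (nat_lit 128) (nat_lit 0xcc95c41639edb069ba422be9463a3403) (Net.cons (nat_lit 256) (nat_lit 0xff77f) (Net.cons (nat_lit 128) (nat_lit 863975) (Net.cons (nat_lit 64) (nat_lit 0xf760d7824beabc10000000000000000086ed61025f8f3930) (Net.cons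 (nat_lit 32) (nat_lit 0x40c6725700000000e6da3567000000000e30271200000000f200667e) (Net.cons (nat_lit 16) (nat_lit 0xa0000fd83000002f50000513800002c90000021450000e57300009af50000e5df) (Net.cons (nat_lit 8) (nat_lit 0x6100af000200d000130012004500b1007a00d40083006c00f20051000b00ba0013) (Net.cons (nat_lit 4) (nat_lit 0xf0d0c0b040d0101070b0e090c000e0f0d02070c0c010a0709080e0b0e060608000e) (Net.cons (nat_lit 2) (nat_lit 0x120222013022233231300300200230012320301111312030300001312223112300202) (Net.cons (nat_lit 1) (nat_lit 0x540550051554050445051411505011055145040014405150410151110041100111) Net.nil)))))))))))))))))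

theorem g671_ok : Net.ok 276 g671 = true := by decide +kernel

noncomputable def tt_c47_K : List Net := [g671, g447, n_u]

theorem tt_c47_K_ok : okE 276 tt_c47_K = true := (okE_cons.2 ⟨g671_ok, (okE_cons.2 ⟨g447_ok, (okE_cons.2 ⟨n_u_ok, (okE_nil 276)⟩)⟩)⟩)

noncomputable def tt_c47_cnt_EG : List Net := [g419, g420, g417, n_u, g414, g124, g125, g126, g127, n_k3, n_t]

theorem tt_c47_cnt_EG_ok : okE 276 tt_c47_cnt_EG = true := (okE_cons.2 ⟨g419_ok, (okE_cons.2 ⟨g420_ok, (okE_cons.2 ⟨g417_ok, (okE_cons.2 ⟨n_u_ok, (okE_cons.2 ⟨g414_ok, (okE_cons.2 ⟨g124_ok, (okE_cons.2 ⟨g125_ok, (okE_cons.2 ⟨g126_ok, (okE_cons.2 ⟨g127_ok, (okE_cons.2 ⟨n_k3_ok, (okE_cons.2 ⟨n_t_ok, (okE_nil 276)⟩)⟩)⟩)⟩)⟩)⟩)⟩)⟩)⟩)⟩)⟩)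

noncomputable def g673 : Net := (Net.cons (nat_lit 1) (nat_lit 0x51051155550045100001514445510514455011501501445504404040104014105540) (Net.cons (nat_lit 2) (nat_lit 0x112112121003300031210111012100213302022230331312132021223120131232210) (Net.cons (nat_lit 4) (nat_lit 0xf09060f030d040e040900020f07020009010e010c000a0108010b090100080a030e) (Net.cons (nat_lit 8) (nat_lit 0x6b009900d600e70095006c0054009400110087002b004d000300ad008e008c0004) (Net.cons (nat_lit 16) (nat_lit 0x5b450000276200009e250000be290000ce70000031a200000c1000008800) (Net.cons (nat_lit 32) (nat_lit 0xd43a6180000000008faa982300000000e41b4d930000000000088f86) (Net.cons (nat_lit 64) (nat_lit 0xc14e408905d00100000000000000000000000000008902) (Net.cons (nat_lit 128) (nat_lit 0xea885ab20f439f2cd07b255fc404a531) (Net.cons (nat_lit 256) (nat_lit 962559) (Net.cons (nat_lit 128) (nat_lit 312259) (Net.cons (nat_lit 64) (nat_lit 0x96b71c406cc368bd0000000000000000ab761903dc6913ac) (Net.cons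 (nat_lit 32) (nat_lit 0x992709d700000000ab2600360000000078318ccb00000000f761d7a6) (Net.cons (nat_lit 16) (nat_lit 0xc00001148000056a3000036d00000fa590000fe4d0000ce6b0000c5f600009cbc) (Net.cons (nat_lit 8) (nat_lit 0x9c00340016002f00f5004f00c100d900ee00f800cc00a500ba0094004e00450076) (Net.cons (nat_lit 4) (nat_lit 0xc0205090b010e04070f040c07010c060a050e0e0a07050d040b0c0e040c060a0201) (Net.cons (nat_lit 2) (nat_lit 0x100322212130213330220232301230020102212030232213233231232210002303013) (Net.cons (nat_lit 1) (nat_lit 0x54155101111450541155115044044141051051450411000544115105444155155545) Net.nil)))))))))))))))))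

theorem g673_ok : Net.ok 276 g673 = true := by decide +kernel

noncomputable def tt_c48_K : List Net := [g673, n_u]

theorem tt_c48_K_ok : okE 276 tt_c48_K = true := (okE_cons.2 ⟨g673_ok, (okE_cons.2 ⟨n_u_ok, (okE_nil 276)⟩)⟩)

noncomputable def tt_c48_cnt_EG : List Net := [g124, g125, g126, g127, n_k3, n_t, g414, g419, g420, g417, n_u, n_y, g575]

theorem tt_c48_cnt_EG_ok : okE 276 tt_c48_cnt_EG = true := (okE_cons.2 ⟨g124_ok, (okE_cons.2 ⟨g125_ok, (okE_cons.2 ⟨g126_ok, (okE_cons.2 ⟨g127_ok, (okE_cons.2 ⟨n_k3_ok, (okE_cons.2 ⟨n_t_ok, (okE_cons.2 ⟨g414_ok, (okE_cons.2 ⟨g419_ok, (okE_cons.2 ⟨g420_ok, (okE_cons.2 ⟨g417_ok, (okE_cons.2 ⟨n_u_ok, (okE_cons.2 ⟨n_y_ok, (okE_cons.2 ⟨g575_ok, (okE_nil 276)⟩)⟩)⟩)⟩)⟩)⟩)⟩)⟩)⟩)⟩)⟩)⟩)⟩)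

noncomputable def g675 : Net := (Net.cons (nat_lit 1) (nat_lit 0x140550455440100000404111015504001051011100541400415154001004551500504) (Net.cons (nat_lit 2) (nat_lit 0x201330122223321100300132022100102103113103232030133023223132233110310) (Net.cons (nat_lit 4) (nat_lit 0x3010a060a09040b060c090004030f040b04000b0d0e04070c0c00020f0e0204050c) (Net.cons (nat_lit 8) (nat_lit 0xc50001009d00bd004e003f008000d90050008e00e00082001a00ea005200220002) (Net.cons (nat_lit 16) (nat_lit 0x900006fc600001c0e0000a71b000045c40000c4850000d1d2000097670000f040) (Net.cons (nat_lit 32) (nat_lit 0x391bbc3b00000000018bc599000000000d4921b40000000000016754) (Net.cons (nat_lit 64) (nat_lit 0x10c801204b719a000000000000000000000000000431cd) (Net.cons (nat_lit 128) (nat_lit 0xefd18f3a2110de55fbeb413fca60b0ab) (Net.cons (nat_lit 256) (nat_lit 522239) (Net.cons (nat_lit 128) (nat_lit 988999) (Net.cons (nat_lit 64) (nat_lit 0x25ee5cddde1170ed00000000000000008b9ae40144306003) (Net.cons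 (nat_lit 32) (nat_lit 0x42d6f8ff000000009b4d702b00000000838ee38d000000000aa46929) (Net.cons (nat_lit 16) (nat_lit 0x900004fc00000c1c00000f54b000034510000e60b0000c03800003d96000007e7) (Net.cons (nat_lit 8) (nat_lit 0xa90032006b0085008200ae008e007900f50090006500a500f600c6001b00c8002c) (Net.cons (nat_lit 4) (nat_lit 0x80f0b050c01020d04080b0309070d0c04030a010b0b090e0605000204000b060c06) (Net.cons (nat_lit 2) (nat_lit 0x232233202332202202112122220332100002321213323213020033121113130131211) (Net.cons (nat_lit 1) (nat_lit 0x114144051554055001110010411155400500050151051145045540045140115415) Net.nil)))))))))))))))))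

theorem g675_ok : Net.ok 276 g675 = true := by decide +kernel

noncomputable def tt_c49_K : List Net := [g675, n_u]

theorem tt_c49_K_ok : okE 276 tt_c49_K = true := (okE_cons.2 ⟨g675_ok, (okE_cons.2 ⟨n_u_ok, (okE_nil 276)⟩)⟩)

noncomputable def tt_c49_cnt_EG : List Net := [g124, g125, g126, g127, n_k3, n_t, g414, g419, g420, g417, n_u, g575, n_y]

theorem tt_c49_cnt_EG_ok : okE 276 tt_c49_cnt_EG = true := (okE_cons.2 ⟨g124_ok, (okE_cons.2 ⟨g125_ok, (okE_cons.2 ⟨g126_ok, (okE_cons.2 ⟨g127_ok, (okE_cons.2 ⟨n_k3_ok, (okE_cons.2 ⟨n_t_ok, (okE_cons.2 ⟨g414_ok, (okE_cons.2 ⟨g419_ok, (okE_cons.2 ⟨g420_ok, (okE_cons.2 ⟨g417_ok, (okE_cons.2 ⟨n_u_ok, (okE_cons.2 ⟨g575_ok, (okE_cons.2 ⟨n_y_ok, (okE_nil 276)⟩)⟩)⟩)⟩)⟩)⟩)⟩)⟩)⟩)⟩)⟩)⟩)⟩)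

noncomputable def g677 : Net := (Net.cons (nat_lit 1) (nat_lit 0x51104511404410011515145141145051414001150151505555104005401410105114) (Net.cons (nat_lit 2) (nat_lit 0x120101232230000202103220303220321001333230310333311131031120331230110) (Net.cons (nat_lit 4) (nat_lit 0x8000f03080a050d080a010600050f080b0a0102080f0f050a0c0906040e00000c0b) (Net.cons (nat_lit 8) (nat_lit 0xb200010007004b00ef002700a500a700db00c200c3004e000200a400740089000a) (Net.cons (nat_lit 16) (nat_lit 0x279300008b3b0000910300003d190000d1100000031100009960000088d0) (Net.cons (nat_lit 32) (nat_lit 0xa357a40e0000000068b6711100000000020c23ab0000000000090574) (Net.cons (nat_lit 64) (nat_lit 0x8c1ab188aa222d04000000000000000000000000000e904c) (Net.cons (nat_lit 128) (nat_lit 0xcdba369e34dd5c2452858377cf22dd00) (Net.cons (nat_lit 256) (nat_lit 0xfdffd) (Net.cons (nat_lit 128) (nat_lit 359416) (Net.cons (nat_lit 64) (nat_lit 0x7a8c9927f55892850000000000000000827a4e10c4c73549) (Net.cons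 (nat_lit 32) (nat_lit 0xe523c574000000006077240100000000f41064dd0000000090a71dc6) (Net.cons (nat_lit 16) (nat_lit 0x5000094eb00001e590000a9a400001db5000016eb00000a840000ef4a000005b7) (Net.cons (nat_lit 8) (nat_lit 0x9f007f002200b2007f0011002b004a00fd00ef00a000a9003b008000b400d8004b) (Net.cons (nat_lit 4) (nat_lit 0xf0009060106050b020801080601080e0900090f0b0d060a050305080804050b010a) (Net.cons (nat_lit 2) (nat_lit 0x313300133111322123022112200103001000102111010333030021023100321031013) (Net.cons (nat_lit 1) (nat_lit 0x500155050455015145110540140455055544140104155515014100044501115144050) Net.nil)))))))))))))))))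

theorem g677_ok : Net.ok 276 g677 = true := by decide +kernel

noncomputable def tt_c50_K : List Net := [g677, n_t]

theorem tt_c50_K_ok : okE 276 tt_c50_K = true := (okE_cons.2 ⟨g677_ok, (okE_cons.2 ⟨n_t_ok, (okE_nil 276)⟩)⟩)

noncomputable def V679 : List Net := [g570, n_t]

theorem V679_ok : okE 276 V679 = true := (okE_cons.2 ⟨g570_ok, (okE_cons.2 ⟨n_t_ok, (okE_nil 276)⟩)⟩)

noncomputable def V681 : List Net := [n_t]

theorem V681_ok : okE 276 V681 = true := (okE_cons.2 ⟨n_t_ok, (okE_nil 276)⟩)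

noncomputable def V682 : List Net := []

theorem V682_ok : okE 276 V682 = true := (okE_nil 276)

noncomputable def tt_c50_cnt_EG : List Net := [g124, g125, g126, g127, n_k3, n_t, g570]

theorem tt_c50_cnt_EG_ok : okE 276 tt_c50_cnt_EG = true := (okE_cons.2 ⟨g124_ok, (okE_cons.2 ⟨g125_ok, (okE_cons.2 ⟨g126_ok, (okE_cons.2 ⟨g127_ok, (okE_cons.2 ⟨n_k3_ok, (okE_cons.2 ⟨n_t_ok, (okE_cons.2 ⟨g570_ok, (okE_nil 276)⟩)⟩)⟩)⟩)⟩)⟩)⟩)

noncomputable def tt_nc2_1_cnt_EG : List Net := []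

theorem tt_nc2_1_cnt_EG_ok : okE 276 tt_nc2_1_cnt_EG = true := (okE_nil 276)

noncomputable def tt_nc3_1_cnt_EG : List Net := []

theorem tt_nc3_1_cnt_EG_ok : okE 276 tt_nc3_1_cnt_EG = true := (okE_nil 276)

noncomputable def tt_nc3_2_cnt_EG : List Net := []

theorem tt_nc3_2_cnt_EG_ok : okE 276 tt_nc3_2_cnt_EG = true := (okE_nil 276)

noncomputable def tt_nc8_7_cnt_EG : List Net := []

theorem tt_nc8_7_cnt_EG_ok : okE 276 tt_nc8_7_cnt_EG = true := (okE_nil 276)

noncomputable def tt_nc9_7_cnt_EG : List Net := []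

theorem tt_nc9_7_cnt_EG_ok : okE 276 tt_nc9_7_cnt_EG = true := (okE_nil 276)

noncomputable def tt_nc9_8_cnt_EG : List Net := []

theorem tt_nc9_8_cnt_EG_ok : okE 276 tt_nc9_8_cnt_EG = true := (okE_nil 276)

noncomputable def tt_nc13_11_cnt_EG : List Net := []

theorem tt_nc13_11_cnt_EG_ok : okE 276 tt_nc13_11_cnt_EG = true := (okE_nil 276)

noncomputable def tt_nc14_11_cnt_EG : List Net := []

theorem tt_nc14_11_cnt_EG_ok : okE 276 tt_nc14_11_cnt_EG = true := (okE_nil 276)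

noncomputable def tt_nc14_13_cnt_EG : List Net := []

theorem tt_nc14_13_cnt_EG_ok : okE 276 tt_nc14_13_cnt_EG = true := (okE_nil 276)

noncomputable def tt_nc15_12_cnt_EG : List Net := []

theorem tt_nc15_12_cnt_EG_ok : okE 276 tt_nc15_12_cnt_EG = true := (okE_nil 276)

noncomputable def tt_nc16_12_cnt_EG : List Net := []

theorem tt_nc16_12_cnt_EG_ok : okE 276 tt_nc16_12_cnt_EG = true := (okE_nil 276)

noncomputable def tt_nc16_15_cnt_EG : List Net := []

theorem tt_nc16_15_cnt_EG_ok : okE 276 tt_nc16_15_cnt_EG = true := (okE_nil 276)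

noncomputable def tt_nc18_17_cnt_EG : List Net := []

theorem tt_nc18_17_cnt_EG_ok : okE 276 tt_nc18_17_cnt_EG = true := (okE_nil 276)

noncomputable def tt_nc19_17_cnt_EG : List Net := []

theorem tt_nc19_17_cnt_EG_ok : okE 276 tt_nc19_17_cnt_EG = true := (okE_nil 276)

noncomputable def tt_nc19_18_cnt_EG : List Net := []

theorem tt_nc19_18_cnt_EG_ok : okE 276 tt_nc19_18_cnt_EG = true := (okE_nil 276)

noncomputable def tt_nc22_21_cnt_EG : List Net := []

theorem tt_nc22_21_cnt_EG_ok : okE 276 tt_nc22_21_cnt_EG = true := (okE_nil 276)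

noncomputable def tt_nc23_21_cnt_EG : List Net := []

theorem tt_nc23_21_cnt_EG_ok : okE 276 tt_nc23_21_cnt_EG = true := (okE_nil 276)

noncomputable def tt_nc23_22_cnt_EG : List Net := []

theorem tt_nc23_22_cnt_EG_ok : okE 276 tt_nc23_22_cnt_EG = true := (okE_nil 276)

noncomputable def tt_nc25_24_cnt_EG : List Net := []

theorem tt_nc25_24_cnt_EG_ok : okE 276 tt_nc25_24_cnt_EG = true := (okE_nil 276)

noncomputable def tt_nc27_24_cnt_EG : List Net := []

theorem tt_nc27_24_cnt_EG_ok : okE 276 tt_nc27_24_cnt_EG = true := (okE_nil 276)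

noncomputable def tt_nc27_25_cnt_EG : List Net := []

theorem tt_nc27_25_cnt_EG_ok : okE 276 tt_nc27_25_cnt_EG = true := (okE_nil 276)

noncomputable def tt_nc28_26_cnt_EG : List Net := []

theorem tt_nc28_26_cnt_EG_ok : okE 276 tt_nc28_26_cnt_EG = true := (okE_nil 276)

noncomputable def tt_nc29_24_cnt_EG : List Net := []

theorem tt_nc29_24_cnt_EG_ok : okE 276 tt_nc29_24_cnt_EG = true := (okE_nil 276)

noncomputable def tt_nc29_25_cnt_EG : List Net := []

theorem tt_nc29_25_cnt_EG_ok : okE 276 tt_nc29_25_cnt_EG = true := (okE_nil 276)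

noncomputable def tt_nc29_27_cnt_EG : List Net := []

theorem tt_nc29_27_cnt_EG_ok : okE 276 tt_nc29_27_cnt_EG = true := (okE_nil 276)

noncomputable def tt_nc30_26_cnt_EG : List Net := []

theorem tt_nc30_26_cnt_EG_ok : okE 276 tt_nc30_26_cnt_EG = true := (okE_nil 276)

noncomputable def tt_nc30_28_cnt_EG : List Net := []

theorem tt_nc30_28_cnt_EG_ok : okE 276 tt_nc30_28_cnt_EG = true := (okE_nil 276)

noncomputable def tt_nc31_24_cnt_EG : List Net := []

theorem tt_nc31_24_cnt_EG_ok : okE 276 tt_nc31_24_cnt_EG = true := (okE_nil 276)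

noncomputable def tt_nc31_25_cnt_EG : List Net := []

theorem tt_nc31_25_cnt_EG_ok : okE 276 tt_nc31_25_cnt_EG = true := (okE_nil 276)

noncomputable def tt_nc31_27_cnt_EG : List Net := []

theorem tt_nc31_27_cnt_EG_ok : okE 276 tt_nc31_27_cnt_EG = true := (okE_nil 276)

noncomputable def tt_nc31_29_cnt_EG : List Net := []

theorem tt_nc31_29_cnt_EG_ok : okE 276 tt_nc31_29_cnt_EG = true := (okE_nil 276)

noncomputable def tt_nc32_24_cnt_EG : List Net := []

theorem tt_nc32_24_cnt_EG_ok : okE 276 tt_nc32_24_cnt_EG = true := (okE_nil 276)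

noncomputable def tt_nc32_25_cnt_EG : List Net := []

theorem tt_nc32_25_cnt_EG_ok : okE 276 tt_nc32_25_cnt_EG = true := (okE_nil 276)

noncomputable def tt_nc32_27_cnt_EG : List Net := []

theorem tt_nc32_27_cnt_EG_ok : okE 276 tt_nc32_27_cnt_EG = true := (okE_nil 276)

noncomputable def tt_nc32_29_cnt_EG : List Net := []

theorem tt_nc32_29_cnt_EG_ok : okE 276 tt_nc32_29_cnt_EG = true := (okE_nil 276)

noncomputable def tt_nc32_31_cnt_EG : List Net := []

theorem tt_nc32_31_cnt_EG_ok : okE 276 tt_nc32_31_cnt_EG = true := (okE_nil 276)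

noncomputable def tt_nc34_33_cnt_EG : List Net := []

theorem tt_nc34_33_cnt_EG_ok : okE 276 tt_nc34_33_cnt_EG = true := (okE_nil 276)

noncomputable def tt_nc35_33_cnt_EG : List Net := []

theorem tt_nc35_33_cnt_EG_ok : okE 276 tt_nc35_33_cnt_EG = true := (okE_nil 276)

noncomputable def tt_nc35_34_cnt_EG : List Net := []

theorem tt_nc35_34_cnt_EG_ok : okE 276 tt_nc35_34_cnt_EG = true := (okE_nil 276)

noncomputable def tt_nc38_36_cnt_EG : List Net := []

theorem tt_nc38_36_cnt_EG_ok : okE 276 tt_nc38_36_cnt_EG = true := (okE_nil 276)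

noncomputable def tt_nc39_37_cnt_EG : List Net := []

theorem tt_nc39_37_cnt_EG_ok : okE 276 tt_nc39_37_cnt_EG = true := (okE_nil 276)

noncomputable def tt_nc40_36_cnt_EG : List Net := []

theorem tt_nc40_36_cnt_EG_ok : okE 276 tt_nc40_36_cnt_EG = true := (okE_nil 276)

noncomputable def tt_nc40_38_cnt_EG : List Net := []

theorem tt_nc40_38_cnt_EG_ok : okE 276 tt_nc40_38_cnt_EG = true := (okE_nil 276)

noncomputable def tt_nc41_37_cnt_EG : List Net := []

theorem tt_nc41_37_cnt_EG_ok : okE 276 tt_nc41_37_cnt_EG = true := (okE_nil 276)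

noncomputable def tt_nc41_39_cnt_EG : List Net := []

theorem tt_nc41_39_cnt_EG_ok : okE 276 tt_nc41_39_cnt_EG = true := (okE_nil 276)

noncomputable def tt_nc43_42_cnt_EG : List Net := []

theorem tt_nc43_42_cnt_EG_ok : okE 276 tt_nc43_42_cnt_EG = true := (okE_nil 276)

noncomputable def tt_nc44_42_cnt_EG : List Net := []

theorem tt_nc44_42_cnt_EG_ok : okE 276 tt_nc44_42_cnt_EG = true := (okE_nil 276)

noncomputable def tt_nc44_43_cnt_EG : List Net := []

theorem tt_nc44_43_cnt_EG_ok : okE 276 tt_nc44_43_cnt_EG = true := (okE_nil 276)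

noncomputable def tt_nc47_45_cnt_EG : List Net := []

theorem tt_nc47_45_cnt_EG_ok : okE 276 tt_nc47_45_cnt_EG = true := (okE_nil 276)

noncomputable def tt_nc48_46_cnt_EG : List Net := []

theorem tt_nc48_46_cnt_EG_ok : okE 276 tt_nc48_46_cnt_EG = true := (okE_nil 276)

noncomputable def tt_nc49_45_cnt_EG : List Net := []

theorem tt_nc49_45_cnt_EG_ok : okE 276 tt_nc49_45_cnt_EG = true := (okE_nil 276)

noncomputable def tt_nc49_47_cnt_EG : List Net := []

theorem tt_nc49_47_cnt_EG_ok : okE 276 tt_nc49_47_cnt_EG = true := (okE_nil 276)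

noncomputable def tt_nc50_46_cnt_EG : List Net := []

theorem tt_nc50_46_cnt_EG_ok : okE 276 tt_nc50_46_cnt_EG = true := (okE_nil 276)

noncomputable def tt_nc50_48_cnt_EG : List Net := []

theorem tt_nc50_48_cnt_EG_ok : okE 276 tt_nc50_48_cnt_EG = true := (okE_nil 276)

noncomputable def n_tw : Net := (Net.cons (nat_lit 1) (nat_lit 0x144001155041011500444151010504414051415501105505440105055105501050000) (Net.cons (nat_lit 2) (nat_lit 0x222023220200203100112321321022101303232020132223002221200200011022000) (Net.cons (nat_lit 4) (nat_lit 0x1080004060d0c0e0c0b0c0f090e0304030b070708010208090b0308010104090804) (Net.cons (nat_lit 8) (nat_lit 0xf400d4006300de001200380048009b00a000500050006a0088004600c600200000) (Net.cons (nat_lit 16) (nat_lit 0x20000042900002825000005050000e1ab000005b40000dc5e000000cd00006240) (Net.cons (nat_lit 32) (nat_lit 0xce4256ba00000000520d848000000000440510c600000000000c0104) (Net.cons (nat_lit 64) (nat_lit 0x184f41040411452200000000000000000000000000001262)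 (Net.cons (nat_lit 128) (nat_lit 0x4c397745af3407be35660c00612cc222) (Net.cons (nat_lit 256) (nat_lit 848742) (Net.cons (nat_lit 128) (nat_lit 887479) (Net.cons (nat_lit 64) (nat_lit 0x12abc1415cb32067000000000000000082658292142a9137) (Net.cons (nat_lit 32) (nat_lit 0x87f25daf000000007eecc1cc0000000048b517c30000000028fc4749) (Net.cons (nat_lit 16) (nat_lit 0x20000047800003969000043460000e5be000084f300009d1b000084cc00002600) (Net.cons (nat_lit 8) (nat_lit 0xa500910062009a0006003d0008009e00a40075004d003f00f8004200a600240044) (Net.cons (nat_lit 4) (nat_lit 0xc0901040608090f0d0b0c0e090e0704030f070708000208080b0708010104090c05) (Net.cons (nat_lit 2) (nat_lit 0x222122220210202110112321321032000302332021122323013231201300001022010) (Net.cons (nat_lit 1) (nat_lit 0x144001155041011500444151010504414051415501105505440105055105501050000) Net.nil)))))))))))))))))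

theorem n_tw_ok : Net.ok 276 n_tw = true := by decide +kernel

noncomputable def g683 : Net := (Net.cons (nat_lit 1) (nat_lit 0x501414051504541041111404054011450414444045104055450114450051451411404) (Net.cons (nat_lit 2) (nat_lit 0x303300312120322213202223013101100302301232320001220031112010331113320) (Net.cons (nat_lit 4) (nat_lit 0x50d0c0a03060d020e0000010d0503080104060d08080a04060a0c08070e000b0400) (Net.cons (nat_lit 8) (nat_lit 0x20029001400a80013006f00be0034008700e700e7007a0027009b001200420005) (Net.cons (nat_lit 16) (nat_lit 0xb0000644b00004e9c0000212a00006e3700009f7e0000003400003866000080c0) (Net.cons (nat_lit 32) (nat_lit 0xe11cf78a00000000ab06089600000000ab49a13100000000000f3817) (Net.cons (nat_lit 64) (nat_lit 0xc2722416b81540500000000000000000000000000082941) (Net.cons (nat_lit 128) (nat_lit 0xbd2b65da06623d1e4f5981ecfb5bc46) (Net.cons (nat_lit 256) (nat_lit 0xffdd7) (Net.cons (nat_lit 128) (nat_lit 0xff346) (Net.cons (nat_lit 64) (nat_lit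 0x678b89a4afe15a1e0000000000000000e997fe9a79f6432b) (Net.cons (nat_lit 32) (nat_lit 0xbfc5a36500000000cfa6cfde00000000a256c07c000000000f80cf7d) (Net.cons (nat_lit 16) (nat_lit 0xa0000e4630000607000008f360000c3fe000087dc0000e5370000f2590000c561) (Net.cons (nat_lit 8) (nat_lit 0x4f004200d100dc008a008f003800fe002400cd00b500dd008f00960002002f00c3) (Net.cons (nat_lit 4) (nat_lit 0x201010d010f06060c000d0f0709000b0c0f0409010f00010d06070e02010d0f04) (Net.cons (nat_lit 2) (nat_lit 0x231201010000123311121200310102001321002233122100131300131201002221232) (Net.cons (nat_lit 1) (nat_lit 0x145450055451545044510405451155410050144451044004400110410015411040401) Net.nil)))))))))))))))))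

theorem g683_ok : Net.ok 276 g683 = true := by decide +kernel

noncomputable def g684 : Net := (Net.cons (nat_lit 1) (nat_lit 0x104550014040554055544504050415545500504455150001415551015501050105110) (Net.cons (nat_lit 2) (nat_lit 0x123133033223211210032221230321220231323300312020010012203022112011200) (Net.cons (nat_lit 4) (nat_lit 0xc0504020e020601020f0f06000e0408030f0a070b08070405080c03040208020003) (Net.cons (nat_lit 8) (nat_lit 0x4200950043003d000000c4003d00ec00ed00d90059007e00070058002c00110001) (Net.cons (nat_lit 16) (nat_lit 0x70000f1e500005d90000030860000b53b0000635d0000500a00009a0800001740) (Net.cons (nat_lit 32) (nat_lit 0x2f2f3bda000000006a3487b1000000002d1c25f700000000000b3873) (Net.cons (nat_lit 64) (nat_lit 0x20087245c04bb7100000000000000000000000000000592) (Net.cons (nat_lit 128) (nat_lit 0x4a3628351f7bff69c4dae752e244f3a1) (Net.cons (nat_lit 256) (nat_lit 0xffffb) (Net.cons (nat_lit 128) (nat_lit 91934) (Net.cons (nat_lit 64) (nat_lit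 0x1260c7fcab133e5b0000000000000000eaaba9da53517ff6) (Net.cons (nat_lit 32) (nat_lit 0x1240df3800000000535dd16a00000000ef6221cc00000000cd1434f6) (Net.cons (nat_lit 16) (nat_lit 0x7000040440000d4b7000040cb00006f3e0000e9b10000734600003af90000fa17) (Net.cons (nat_lit 8) (nat_lit 0x6a00d0009700f800b400e700bd008a0001008f005c00a900340030005b005a0001) (Net.cons (nat_lit 4) (nat_lit 0x50d0b0b0402030f080800070a0e000a090b03000e01020c0301020703080401010e) (Net.cons (nat_lit 2) (nat_lit 0x111223300012000111232323301330002220321202120102212121211301322001321) (Net.cons (nat_lit 1) (nat_lit 0x144144101401055054055515414015155550110154040450445004451411410011454) Net.nil)))))))))))))))))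

theorem g684_ok : Net.ok 276 g684 = true := by decide +kernel

noncomputable def g685 : Net := (Net.cons (nat_lit 1) (nat_lit 0x40444015104001154454004101405110000054141144044510441100014510000540) (Net.cons (nat_lit 2) (nat_lit 0x233230022221222021001122301012222233200233322233200222302101330110010) (Net.cons (nat_lit 4) (nat_lit 0x80305030e050b0f0a080205090409000106020f0f090c090d070a0f0609080400) (Net.cons (nat_lit 8) (nat_lit 0xf000a200d300a000e500b60088009f002800d50050006000030016006b0066000c) (Net.cons (nat_lit 16) (nat_lit 0xdc380000dae4000054b1000083d90000260e0000e9300000005800001000) (Net.cons (nat_lit 32) (nat_lit 0xf0f800b9000000002617a24500000000be14814f000000000000802a) (Net.cons (nat_lit 64) (nat_lit 0x2410c80561112a3e0000000000000000000000000003024b) (Net.cons (nat_lit 128) (nat_lit 0xe238e2bad9630e0c8e0d2d4fb857d239) (Net.cons (nat_lit 256) (nat_lit 0xfd37b) (Net.cons (nat_lit 128) (nat_lit 521914) (Net.cons (nat_lit 64) (nat_lit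 0x40a649ddf91803c0000000000000000fdf216f61914fb52) (Net.cons (nat_lit 32) (nat_lit 0x942e153b000000001f8e2373000000005d2e3b7d00000000a165f852) (Net.cons (nat_lit 16) (nat_lit 0x38fa0000d8740000dba900002a970000b91f00001eb10000792c00003932) (Net.cons (nat_lit 8) (nat_lit 0xf30063009b004a008d003e005900c700a000ab00ed0059004a001b00b300660065) (Net.cons (nat_lit 4) (nat_lit 0x8080b05030c0d090d0608000f010209080101070f0c0d0e010d080a0306040c0603) (Net.cons (nat_lit 2) (nat_lit 0x233310022221220021021123201022022333303332332223302223202100331130010) (Net.cons (nat_lit 1) (nat_lit 0x44444011105041154454004501405114000054541144004510041104015510004540) Net.nil)))))))))))))))))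

theorem g685_ok : Net.ok 276 g685 = true := by decide +kernel

noncomputable def ct_c1_K : List Net := [g683, g684, g685, g526, n_u]

theorem ct_c1_K_ok : okE 276 ct_c1_K = true := (okE_cons.2 ⟨g683_ok, (okE_cons.2 ⟨g684_ok, (okE_cons.2 ⟨g685_ok, (okE_cons.2 ⟨g526_ok, (okE_cons.2 ⟨n_u_ok, (okE_nil 276)⟩)⟩)⟩)⟩)⟩)

noncomputable def V687 : List Net := [g445, g446, g447, n_u]

theorem V687_ok : okE 276 V687 = true := (okE_cons.2 ⟨g445_ok, (okE_cons.2 ⟨g446_ok, (okE_cons.2 ⟨g447_ok, (okE_cons.2 ⟨n_u_ok, (okE_nil 276)⟩)⟩)⟩)⟩)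

noncomputable def V688 : List Net := [g446, g447, n_u]

theorem V688_ok : okE 276 V688 = true := (okE_cons.2 ⟨g446_ok, (okE_cons.2 ⟨g447_ok, (okE_cons.2 ⟨n_u_ok, (okE_nil 276)⟩)⟩)⟩)

noncomputable def V689 : List Net := [g447, n_u]

theorem V689_ok : okE 276 V689 = true := (okE_cons.2 ⟨g447_ok, (okE_cons.2 ⟨n_u_ok, (okE_nil 276)⟩)⟩)

noncomputable def V690 : List Net := [n_u]

theorem V690_ok : okE 276 V690 = true := (okE_cons.2 ⟨n_u_ok, (okE_nil 276)⟩)

noncomputable def V691 : List Net := []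

theorem V691_ok : okE 276 V691 = true := (okE_nil 276)

noncomputable def ct_c1_cnt_EG : List Net := [g444, g445, g446, g447, n_u]

theorem ct_c1_cnt_EG_ok : okE 276 ct_c1_cnt_EG = true := (okE_cons.2 ⟨g444_ok, (okE_cons.2 ⟨g445_ok, (okE_cons.2 ⟨g446_ok, (okE_cons.2 ⟨g447_ok, (okE_cons.2 ⟨n_u_ok, (okE_nil 276)⟩)⟩)⟩)⟩)⟩)

noncomputable def g692 : Net := (Net.cons (nat_lit 1) (nat_lit 0x551010510115454115015005140454051011055015551551041155001105055400404) (Net.cons (nat_lit 2) (nat_lit 0x20110210130001231012331033301003302132330312203032331131220320102200) (Net.cons (nat_lit 4) (nat_lit 0x8050a0007010401050506060d0b070e010b0e05080b000004040e060c090e0c0008) (Net.cons (nat_lit 8) (nat_lit 0x6e008700ef00e4003c000100ac00e800d7002900060007008300be00d300610000) (Net.cons (nat_lit 16) (nat_lit 0x3000047650000ddd50000415c000040c300002c1000000033000091a700008180) (Net.cons (nat_lit 32) (nat_lit 0xa0540c60000000065080830000000002100e21000000000000ca271)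 (Net.cons (nat_lit 64) (nat_lit 0xcb04480a001b205f000000000000000000000000000e80a2) (Net.cons (nat_lit 128) (nat_lit 0xc5913ffbb04241f41acfc485301aa107) (Net.cons (nat_lit 256) (nat_lit 978935) (Net.cons (nat_lit 128) (nat_lit 211501) (Net.cons (nat_lit 64) (nat_lit 0x634be8aff6d8ca3800000000000000004f58e7fc66a25067) (Net.cons (nat_lit 32) (nat_lit 0x490f3d300000000029c9b55b00000000b1771aef00000000b98c3711) (Net.cons (nat_lit 16) (nat_lit 0x900006b3c000012cb0000b6660000fc9a00002e140000d84700001ae900009901) (Net.cons (nat_lit 8) (nat_lit 0xb900070074006e00ef00e800be00a9007d00d400c900d5007800f500bc001a00e9) (Net.cons (nat_lit 4) (nat_lit 0x60d050e04050d0608080d03070606070e09030a000d0d06030d05090d0c0e0a01) (Net.cons (nat_lit 2) (nat_lit 0x2300210132202313030102223200020121332010132211333230012230033122220) (Net.cons (nat_lit 1) (nat_lit 0x51101100515015155044145151105051114115504010050005411445115555040114) Net.nil)))))))))))))))))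

theorem g692_ok : Net.ok 276 g692 = true := by decide +kernel

noncomputable def g693 : Net := (Net.cons (nat_lit 1) (nat_lit 0x1001100411110504115001404104401110411411544055414444115010151410000) (Net.cons (nat_lit 2) (nat_lit 0x11330000103203300220121231323001001200210310222301120003130010300000) (Net.cons (nat_lit 4) (nat_lit 0xc020a0f0b0b0007010b050a0a000d05090000030c080c0b00080d0b06030a010500) (Net.cons (nat_lit 8) (nat_lit 0xf00f600860009006900e60053003c00af000200b00022008900090066004a0000) (Net.cons (nat_lit 16) (nat_lit 0xd000064a60000d0dc0000346600004c54000034e6000054d10000460000001100) (Net.cons (nat_lit 32) (nat_lit 0x229852e0000000006a24038000000000020242b800000000000d114c) (Net.cons (nat_lit 64) (nat_lit 0x8222c074212798d800000000000000000000000000008858) (Net.cons (nat_lit 128) (nat_lit 0xb0dd175a126ea87c1f7ae12ef35198b0) (Net.cons (nat_lit 256) (nat_lit 891900) (Net.cons (nat_lit 128) (nat_lit 130706) (Net.cons (nat_lit 64) (nat_lit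 0x932aa69c1ce5d9fa0000000000000000f44266cabcaf9a10) (Net.cons (nat_lit 32) (nat_lit 0xc7f474a1000000004f7ab16a00000000e62aaeb700000000e5d535cf) (Net.cons (nat_lit 16) (nat_lit 0x500004abe0000f6ba0000bacd00008c11000012a800005773000046c80000b7c8) (Net.cons (nat_lit 8) (nat_lit 0x4b00b600c0004b002d00a600db003800ed00ea00f20002008f000f0006000a0024) (Net.cons (nat_lit 4) (nat_lit 0xa040c090d0d020d070d0f08040e03030f060e0d0a0a0a0d060e0b0d04050c030306) (Net.cons (nat_lit 2) (nat_lit 0x11330000103203300220121231323001001200210310222301120003130010300000) (Net.cons (nat_lit 1) (nat_lit 0x1001100411110544115001404004401150411411544055414444115010151410000) Net.nil)))))))))))))))))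

theorem g693_ok : Net.ok 276 g693 = true := by decide +kernel

noncomputable def g694 : Net := (Net.cons (nat_lit 1) (nat_lit 0x114041540011155101150514404550045054510110155540141114110441401400554) (Net.cons (nat_lit 2) (nat_lit 0x212320001322302101101200010220232302032110311302220110112223323010100) (Net.cons (nat_lit 4) (nat_lit 0xb000b0b02080304010f0c050d0105090704040c00060d060e02050101070f010a09) (Net.cons (nat_lit 8) (nat_lit 0x2a004800e00013004f00d0004100490009007400f800a000ca00d80039008a0005) (Net.cons (nat_lit 16) (nat_lit 0xe0000821800009c860000f2950000c8040000dc8a00002a30000090ba000081e0) (Net.cons (nat_lit 32) (nat_lit 0x84348d4a00000000c4a8f2260000000010ad871000000000000a09f3) (Net.cons (nat_lit 64) (nat_lit 0xaa508c0880681c1e0000000000000000000000000007cc0a) (Net.cons (nat_lit 128) (nat_lit 0xa6104663b73591dd59e08bef225c4816) (Net.cons (nat_lit 256) (nat_lit 0xfdfff) (Net.cons (nat_lit 128) (nat_lit 336929) (Net.cons (nat_lit 64)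 (nat_lit 0xb795e9c92b14a893000000000000000033056207c5dc587f) (Net.cons (nat_lit 32) (nat_lit 0x9f407173000000004daf49f200000000be861778000000006bca390e) (Net.cons (nat_lit 16) (nat_lit 0x50000211400008377000016250000e7c20000c935000090970000941c000099a1) (Net.cons (nat_lit 8) (nat_lit 0xb000c3002800a9000f008d00b0006e00e60036008700ad002200af009b00630049) (Net.cons (nat_lit 4) (nat_lit 0x60f090101060d0c090903010e070d02070104090d000106050302090f05030f0f00) (Net.cons (nat_lit 2) (nat_lit 0x320332211030113300001202311021010330323311031222301122023321330111300) (Net.cons (nat_lit 1) (nat_lit 0x14510511555540041145401411505405404404515440040550554504045414515514) Net.nil)))))))))))))))))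

theorem g694_ok : Net.ok 276 g694 = true := by decide +kernel

noncomputable def g695 : Net := (Net.cons (nat_lit 1) (nat_lit 0x505555505155505001414550450055155410401455011015151054150501015555140) (Net.cons (nat_lit 2) (nat_lit 0x133112313330231233001210311302033003300002233310203200311000323101200) (Net.cons (nat_lit 4) (nat_lit 0x104010e0b0e080303080c0f040b070e0d030f000101070b00000401030900060000) (Net.cons (nat_lit 8) (nat_lit 0x7400c500bc00f400a50021005000770078008b00ed009900a0007f006800080000) (Net.cons (nat_lit 16) (nat_lit 0x100003a2400000ce80000121d00006c120000a28f000011b0000027a50000a000) (Net.cons (nat_lit 32) (nat_lit 0xcd2197580000000007208bab0000000002c3156600000000000a4200) (Net.cons (nat_lit 64) (nat_lit 0xa20d4902014f25ea000000000000000000000000000a1901) (Net.cons (nat_lit 128) (nat_lit 0xe1857f9ad62489081f0a24f1f7e824ef) (Net.cons (nat_lit 256) (nat_lit 786415) (Net.cons (nat_lit 128) (nat_lit 200812) (Net.cons (nat_lit 64)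 (nat_lit 0x7d8c4f6f974ef41d0000000000000000a86e585fd42369a1) (Net.cons (nat_lit 32) (nat_lit 0xce759ac80000000070b4fc6900000000c1793ece000000004c66aba2) (Net.cons (nat_lit 16) (nat_lit 0x100001737000098f900007a4e0000565b00002b170000719900008bb000002ca5) (Net.cons (nat_lit 8) (nat_lit 0x740026003100f500d80030007000e300f200c3008a0055008a00db000d00c60084) (Net.cons (nat_lit 4) (nat_lit 0x403020c0d080c0a0e020308040a0e0e0100090a0901010c02070f07010f07080608) (Net.cons (nat_lit 2) (nat_lit 0x133203021021123133130223220332113021020011320102101101230203223311200) (Net.cons (nat_lit 1) (nat_lit 0x504104444440445410100541044004544010111510150100404154051145415514504) Net.nil)))))))))))))))))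

theorem g695_ok : Net.ok 276 g695 = true := by decide +kernel

noncomputable def ct_c2_K : List Net := [g692, g693, g694, g695, g548]

theorem ct_c2_K_ok : okE 276 ct_c2_K = true := (okE_cons.2 ⟨g692_ok, (okE_cons.2 ⟨g693_ok, (okE_cons.2 ⟨g694_ok, (okE_cons.2 ⟨g695_ok, (okE_cons.2 ⟨g548_ok, (okE_nil 276)⟩)⟩)⟩)⟩)⟩)

noncomputable def g697 : Net := (Net.cons (nat_lit 1) (nat_lit 0x500555541001455145100451040555005454415014444151511100145110404551000) (Net.cons (nat_lit 2) (nat_lit 0x230032131220311232011121002102133233111200013213100001000101103022010) (Net.cons (nat_lit 4) (nat_lit 0x50e020001010406070d01020d010a080008080e01070c030a090c04020204090c04) (Net.cons (nat_lit 8) (nat_lit 0x1a008300b400aa0017001100a200240033002100f50086004100b0008c00260000) (Net.cons (nat_lit 16) (nat_lit 0x80000e0dc0000861d000005450000dd490000fe010000a2810000c32a00002000) (Net.cons (nat_lit 32) (nat_lit 0x601ae35e00000000c8016e1300000000dc49225400000000000e2901) (Net.cons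 (nat_lit 64) (nat_lit 0xa49800010002014300000000000000000000000000097a00) (Net.cons (nat_lit 128) (nat_lit 0xc9d6a0b45e4223ea6e4efcad00c81645) (Net.cons (nat_lit 256) (nat_lit 0xf7f65) (Net.cons (nat_lit 128) (nat_lit 331345) (Net.cons (nat_lit 64) (nat_lit 0x6cd509e38133c1c200000000000000005400604e8ed9cdf0) (Net.cons (nat_lit 32) (nat_lit 0xee565dfa0000000055c957ba000000006aa4892800000000144219fd) (Net.cons (nat_lit 16) (nat_lit 0xd0000c2fa00000d1800000cc8000054c500001ce50000182d000092770000cabc) (Net.cons (nat_lit 8) (nat_lit 0xb3003b00dc00fa001f0039009b006d00db00c9008c00ff007800e800dc001f0030) (Net.cons (nat_lit 4) (nat_lit 0x50f020001010c06070d01020d010b080008090e01070c030a090d04030a04090c04) (Net.cons (nat_lit 2) (nat_lit 0x230032331220311232111121002102133233111200013213100201200101103022010) (Net.cons (nat_lit 1) (nat_lit 0x501555541001455145100451040555005454415014444151511100145110404551000) Net.nil)))))))))))))))))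

theorem g697_ok : Net.ok 276 g697 = true := by decide +kernel

noncomputable def g698 : Net := (Net.cons (nat_lit 1) (nat_lit 0x504104444440445410100541044004544010111510150100404154051145415514504) (Net.cons (nat_lit 2) (nat_lit 0x333023021021123313130223220332113001020011320120101101230223203111200) (Net.cons (nat_lit 4) (nat_lit 0x403080e070a060a040008020c080c050a0803090b0b0304080c050e0b0505020c02) (Net.cons (nat_lit 8) (nat_lit 0x3200ec0058001300b60070001a0064000200890024003d00a00090000a00080002) (Net.cons (nat_lit 16) (nat_lit 0x60000970800005a5a00005d7400005025000006e100003d41000005830000a720) (Net.cons (nat_lit 32) (nat_lit 0xd4afa1400000000b10cf472000000000203e68a0000000000080063) (Net.cons (nat_lit 64) (nat_lit 0x50a190c6290a1c980000000000000000000000000000a3c1) (Net.cons (nat_lit 128) (nat_lit 0x83ba4cc9354f2b11d259f62e1ca17c08) (Net.cons (nat_lit 256) (nat_lit 0xfffeb) (Net.cons (nat_lit 128) (nat_lit 353966) (Net.cons (nat_lit 64)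 (nat_lit 0xc1f4be511846e2fb00000000000000008d2af48bd68c7ba4) (Net.cons (nat_lit 32) (nat_lit 0xc817790100000000845b8353000000008e8a173800000000c3e6126e) (Net.cons (nat_lit 16) (nat_lit 0xd000015a600006a3400009c480000089000000c7a0000b683000006940000a001) (Net.cons (nat_lit 8) (nat_lit 0x9a000d0041007c004500cb006c003c00bc00c200e100d100240015008f0042000c) (Net.cons (nat_lit 4) (nat_lit 0x9060b040004000b090a060c0f0805040601050b09030d01020a06010b03020c0a0a) (Net.cons (nat_lit 2) (nat_lit 0x333112313130233213023210311302033201300002231312203200311020323101200) (Net.cons (nat_lit 1) (nat_lit 0x505555505155505001414550450055155410401455011015151054150501015555140) Net.nil)))))))))))))))))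

theorem g698_ok : Net.ok 276 g698 = true := by decide +kernel

noncomputable def V699 : List Net := [g697, g444, g698, g548]

theorem V699_ok : okE 276 V699 = true := (okE_cons.2 ⟨g697_ok, (okE_cons.2 ⟨g444_ok, (okE_cons.2 ⟨g698_ok, (okE_cons.2 ⟨g548_ok, (okE_nil 276)⟩)⟩)⟩)⟩)

noncomputable def V701 : List Net := [g444, g698, g548]

theorem V701_ok : okE 276 V701 = true := (okE_cons.2 ⟨g444_ok, (okE_cons.2 ⟨g698_ok, (okE_cons.2 ⟨g548_ok, (okE_nil 276)⟩)⟩)⟩)

noncomputable def V702 : List Net := [g698, g548]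

theorem V702_ok : okE 276 V702 = true := (okE_cons.2 ⟨g698_ok, (okE_cons.2 ⟨g548_ok, (okE_nil 276)⟩)⟩)

noncomputable def V703 : List Net := [g548]

theorem V703_ok : okE 276 V703 = true := (okE_cons.2 ⟨g548_ok, (okE_nil 276)⟩)

noncomputable def V704 : List Net := []

theorem V704_ok : okE 276 V704 = true := (okE_nil 276)

noncomputable def ct_c2_cnt_EG : List Net := [g444, g445, g446, g447, n_u, g697, g698, g548]

theorem ct_c2_cnt_EG_ok : okE 276 ct_c2_cnt_EG = true := (okE_cons.2 ⟨g444_ok, (okE_cons.2 ⟨g445_ok, (okE_cons.2 ⟨g446_ok, (okE_cons.2 ⟨g447_ok, (okE_cons.2 ⟨n_u_ok, (okE_cons.2 ⟨g697_ok, (okE_cons.2 ⟨g698_ok, (okE_cons.2 ⟨g548_ok, (okE_nil 276)⟩)⟩)⟩)⟩)⟩)⟩)⟩)⟩)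

noncomputable def g705 : Net := (Net.cons (nat_lit 1) (nat_lit 0x505555504441005040015440415514155105104450450450540100055111115541044) (Net.cons (nat_lit 2) (nat_lit 0x1033220012031101131110133210233202203210331030302323333201102222230) (Net.cons (nat_lit 4) (nat_lit 0xf0503040907070008050303060d0b0d0109040706050006040b0005090008000201) (Net.cons (nat_lit 8) (nat_lit 0xa5006100cb0000004100c700830007004700cb0093000c0091000b004400aa000b) (Net.cons (nat_lit 16) (nat_lit 0x20000934d000092530000ba7b00000c0b0000995c0000a10f00002fc900001000) (Net.cons (nat_lit 32) (nat_lit 0x25f0d9e10000000012cc60c900000000220879c50000000000000198) (Net.cons (nat_lit 64) (nat_lit 0x182211b086660b59000000000000000000000000000a7b25) (Net.cons (nat_lit 128) (nat_lit 0x11319166b381a36b68074cde6ce6014c) (Net.cons (nat_lit 256) (nat_lit 0xffbff) (Net.cons (nat_lit 128) (nat_lit 862514) (Net.cons (nat_lit 64) (nat_lit 0xb6471de08046d8ba0000000000000000d5ed832fa2686589) (Net.cons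 (nat_lit 32) (nat_lit 0xfa819e500000000240b8618000000004a0d3a4f000000007d81f963) (Net.cons (nat_lit 16) (nat_lit 0x9c810000030e0000aac5000078620000f8320000352d000043930000ff23) (Net.cons (nat_lit 8) (nat_lit 0xcf008b0088000000f8006e001a00d100ca0060009f00a7001d00c900a000e900db) (Net.cons (nat_lit 4) (nat_lit 0x50903010107020e01080d04050d060f0c08030804070a020605030f0c040f0b0e03) (Net.cons (nat_lit 2) (nat_lit 0x322001011110310000323002103030332211001012330100001313121300312310032) (Net.cons (nat_lit 1) (nat_lit 0x140144144040054044040110451100054540505115545154044515105054015555511) Net.nil)))))))))))))))))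

theorem g705_ok : Net.ok 276 g705 = true := by decide +kernel

noncomputable def g706 : Net := (Net.cons (nat_lit 1) (nat_lit 0x54501444541100501550054145044000101515101145155151444101114500451500) (Net.cons (nat_lit 2) (nat_lit 0x202311300222033221122201222012210311130311131131121300311323010202000) (Net.cons (nat_lit 4) (nat_lit 0x7090109080f080d040c07060f00020b010c07040d0b0e010609060e050705040002) (Net.cons (nat_lit 8) (nat_lit 0xe1003300cd00ee009d0017006c00c900c2000000e300820049000900c800c20000) (Net.cons (nat_lit 16) (nat_lit 0x1000021b0000009b2000043240000e4b50000d51f0000a54d0000f1ea0000c800) (Net.cons (nat_lit 32) (nat_lit 0x69a328800000000e63b5f1d0000000004a000130000000000008521) (Net.cons (nat_lit 64) (nat_lit 0x9380bb2e1809917e00000000000000000000000000010901) (Net.cons (nat_lit 128) (nat_lit 0x8e934b8c05af9b613530f0f3d8058b3f) (Net.cons (nat_lit 256) (nat_lit 511999) (Net.cons (nat_lit 128) (nat_lit 372539) (Net.cons (nat_lit 64) (nat_lit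 0x71104ec594b6cdcb000000000000000066d3fdac4958b01a) (Net.cons (nat_lit 32) (nat_lit 0xfd3163b000000000914c8ebe0000000040a918b300000000fba93a06) (Net.cons (nat_lit 16) (nat_lit 0x400008aaa00007c9f00002f4a00003c31000031350000aecf000053ea00004b20) (Net.cons (nat_lit 8) (nat_lit 0xd400a800b400ea00b4005a00c2007a005c009f003c00150047006300e600fb0037) (Net.cons (nat_lit 4) (nat_lit 0x708040e090509030c0f040b0b03010e0b0f07040804050006040a0e0e060c0f0600) (Net.cons (nat_lit 2) (nat_lit 0x210111220200212233132001133033232312312112331111131211131321210220200) (Net.cons (nat_lit 1) (nat_lit 0x55101444441100511510454105044054101515105145155151444101114500455500) Net.nil)))))))))))))))))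

theorem g706_ok : Net.ok 276 g706 = true := by decide +kernel

noncomputable def ct_c3_K : List Net := [g705, g684, g706, g526, n_u]

theorem ct_c3_K_ok : okE 276 ct_c3_K = true := (okE_cons.2 ⟨g705_ok, (okE_cons.2 ⟨g684_ok, (okE_cons.2 ⟨g706_ok, (okE_cons.2 ⟨g526_ok, (okE_cons.2 ⟨n_u_ok, (okE_nil 276)⟩)⟩)⟩)⟩)⟩)

noncomputable def ct_c3_cnt_EG : List Net := [g444, g445, g446, g447, n_u]

theorem ct_c3_cnt_EG_ok : okE 276 ct_c3_cnt_EG = true := (okE_cons.2 ⟨g444_ok, (okE_cons.2 ⟨g445_ok, (okE_cons.2 ⟨g446_ok, (okE_cons.2 ⟨g447_ok, (okE_cons.2 ⟨n_u_ok, (okE_nil 276)⟩)⟩)⟩)⟩)⟩)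

noncomputable def g708 : Net := (Net.cons (nat_lit 1) (nat_lit 0x400511515410545450040540011545504500014545140404144555045541014511150) (Net.cons (nat_lit 2) (nat_lit 0x200311321303010310303001211112020202132000130123020030202201132001310) (Net.cons (nat_lit 4) (nat_lit 0xd0c06020a0402060409070b0d0a0503010a0d0d070402040e070c0c090701010300) (Net.cons (nat_lit 8) (nat_lit 0xcb0042003b00a400730046005400b800270089001000cc005d0030001000520002) (Net.cons (nat_lit 16) (nat_lit 0xf00001d1b00006c8c0000fcb70000e7660000ec3d0000c0c10000140900003bd0) (Net.cons (nat_lit 32) (nat_lit 0x560d82e00000000540e8a3700000000e32a82a2000000000008ab49) (Net.cons (nat_lit 64) (nat_lit 0x9e015384247d78e2000000000000000000000000000918c3) (Net.cons (nat_lit 128) (nat_lit 0xa6134a91118fc8ba3904157476f5629c) (Net.cons (nat_lit 256) (nat_lit 917471) (Net.cons (nat_lit 128) (nat_lit 512713) (Net.cons (nat_lit 64) (nat_lit 0xac2d1b9fd9c7b9c7000000000000000047ba3880a408020c) (Net.cons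 (nat_lit 32) (nat_lit 0x19abe87c00000000d0bbe9ee00000000adf860ee00000000bdab3529) (Net.cons (nat_lit 16) (nat_lit 0x600008d6d0000b8010000648200006c6400004678000033b100009689000031ca) (Net.cons (nat_lit 8) (nat_lit 0xec0047003700f8001f0022002200b500020028008400bd003f00b8008000c1005a) (Net.cons (nat_lit 4) (nat_lit 0x40b020807010e070f04070b0c090e0f080a050a03050a09060e0a0d080301090506) (Net.cons (nat_lit 2) (nat_lit 0x212201210112100001032231031312110320230100212201233213102011123003020) (Net.cons (nat_lit 1) (nat_lit 0x101550155454541545401551545055100140510445451051551450015401441515414) Net.nil)))))))))))))))))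

theorem g708_ok : Net.ok 276 g708 = true := by decide +kernel

noncomputable def g709 : Net := (Net.cons (nat_lit 1) (nat_lit 0x145101510101114111041010510514104041101450450115150500054055455541000) (Net.cons (nat_lit 2) (nat_lit 0x110003102011212212302003033111003001200302312130022001201113010010000) (Net.cons (nat_lit 4) (nat_lit 0x60100090d04000d07000a000d0c0107090b080a0b010c090e030f070703000e0003) (Net.cons (nat_lit 8) (nat_lit 0xb0009600ca002b006b002200b3004b0084002200210029008900cc00c500200000) (Net.cons (nat_lit 16) (nat_lit 0xb000081e80000a7c20000188f000075e70000c8280000c51b00002e2800000920) (Net.cons (nat_lit 32) (nat_lit 0xb5e3ba200000000b2723ea40000000041065c430000000000032452) (Net.cons (nat_lit 64) (nat_lit 0x4000c220802c92cf0000000000000000000000000001449f) (Net.cons (nat_lit 128) (nat_lit 0x94da7c13c8cd0fcf48d18b6936b21245) (Net.cons (nat_lit 256) (nat_lit 491519) (Net.cons (nat_lit 128) (nat_lit 180805) (Net.cons (nat_lit 64) (nat_lit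 0x593be747fef14b550000000000000000fd5f25de7e01d95f) (Net.cons (nat_lit 32) (nat_lit 0xc5d9e7a8000000009be35ef400000000edb28556000000007053f059) (Net.cons (nat_lit 16) (nat_lit 0xb000029af0000d3860000fdb6000051a90000b63c000040c80000ad6f00006da0) (Net.cons (nat_lit 8) (nat_lit 0xa000d4000a00780089003800fa006b0051007e00f0007e00c200ce000200eb008c) (Net.cons (nat_lit 4) (nat_lit 0xb0c090005090c080f0d0301040c080608060a0f06080d00030e06060f0b0907040e) (Net.cons (nat_lit 2) (nat_lit 0x101003103000202212002003133123202000210312212121032301200003001011011) (Net.cons (nat_lit 1) (nat_lit 0x145100510101154111401411510150004041105410450111110540055055455541110) Net.nil)))))))))))))))))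

theorem g709_ok : Net.ok 276 g709 = true := by decide +kernel

noncomputable def g710 : Net := (Net.cons (nat_lit 1) (nat_lit 0x111111004005515145514114551441554454045500005405140010015040104411000) (Net.cons (nat_lit 2) (nat_lit 0x111332201002033002012212302133123313211130202300222211011132013311320) (Net.cons (nat_lit 4) (nat_lit 0x90d030a0e030601040106060007070808040a0f0408030d0f0b0e0f050b090e0908) (Net.cons (nat_lit 8) (nat_lit 0x4600d3003500c1002000c70088009a001b009300830006001b001a009e00a50009) (Net.cons (nat_lit 16) (nat_lit 0xfca7000030430000474f00000d07000047ce00001c110000046c00000000) (Net.cons (nat_lit 32) (nat_lit 0x9fa3a13000000000cf9221790000000014085942000000000009a409) (Net.cons (nat_lit 64) (nat_lit 0x21d2200ea78c3a8c00000000000000000000000000040828) (Net.cons (nat_lit 128) (nat_lit 0xc7e0c253924fb12c7a1b26fd2db55119) (Net.cons (nat_lit 256) (nat_lit 917305) (Net.cons (nat_lit 128) (nat_lit 462522) (Net.cons (nat_lit 64) (nat_lit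 0xb36064b8abd9ad4f0000000000000000a579e1f37c3171ce) (Net.cons (nat_lit 32) (nat_lit 0xd746de4400000000cfeceb1f0000000087315a0c000000007005c3e9) (Net.cons (nat_lit 16) (nat_lit 0x10000cc7a00006ac7000031460000d91a0000c78f000064940000248400005200) (Net.cons (nat_lit 8) (nat_lit 0xe4008600620063003300830089009e008700d900aa00d80009003800f100b90040) (Net.cons (nat_lit 4) (nat_lit 0xf010a0807000f0b01080702000506050b0a080808090c0b060a0d0f0d0300070204) (Net.cons (nat_lit 2) (nat_lit 0x133213211203300032323210123111010320011311112201003331213200223321321) (Net.cons (nat_lit 1) (nat_lit 0x111515040050451151105505414554554551001454454100550401011510500054105) Net.nil)))))))))))))))))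

theorem g710_ok : Net.ok 276 g710 = true := by decide +kernel

noncomputable def ct_c4_K : List Net := [g708, g709, g710, g698, g548]

theorem ct_c4_K_ok : okE 276 ct_c4_K = true := (okE_cons.2 ⟨g708_ok, (okE_cons.2 ⟨g709_ok, (okE_cons.2 ⟨g710_ok, (okE_cons.2 ⟨g698_ok, (okE_cons.2 ⟨g548_ok, (okE_nil 276)⟩)⟩)⟩)⟩)⟩)

noncomputable def ct_c4_cnt_EG : List Net := [g444, g445, g446, g447, n_u, g697, g698, g548]

theorem ct_c4_cnt_EG_ok : okE 276 ct_c4_cnt_EG = true := (okE_cons.2 ⟨g444_ok, (okE_cons.2 ⟨g445_ok, (okE_cons.2 ⟨g446_ok, (okE_cons.2 ⟨g447_ok, (okE_cons.2 ⟨n_u_ok, (okE_cons.2 ⟨g697_ok, (okE_cons.2 ⟨g698_ok, (okE_cons.2 ⟨g548_ok, (okE_nil 276)⟩)⟩)⟩)⟩)⟩)⟩)⟩)⟩)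

noncomputable def g712 : Net := (Net.cons (nat_lit 1) (nat_lit 0x415515115404150451455500115505410511511001504141454455105551404010400) (Net.cons (nat_lit 2) (nat_lit 0x220233130033001013333012013022003300121101001121200111213213330102120) (Net.cons (nat_lit 4) (nat_lit 0x70f02070c07050e0d07060300030b000c090e0801060f010c0101040d0f03090001) (Net.cons (nat_lit 8) (nat_lit 0x900ab00250008008a000400e400c70009000100940040007800c0005e00540000) (Net.cons (nat_lit 16) (nat_lit 0xb0000649c00000d5a00005aac000036e10000017e0000469100000f0000000260) (Net.cons (nat_lit 32) (nat_lit 0x180aac3100000000230bc8c1000000004501ae110000000000006e2b) (Net.cons (nat_lit 64) (nat_lit 0x906811b9400baa8b00000000000000000000000000084336) (Net.cons (nat_lit 128) (nat_lit 0xc249bbe68439f3413f348c1b5c2b2cb2) (Net.cons (nat_lit 256) (nat_lit 753663) (Net.cons (nat_lit 128) (nat_lit 793932) (Net.cons (nat_lit 64) (nat_lit 0x11786e32ed419af30000000000000000ec0a2093d156240b) (Net.cons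 (nat_lit 32) (nat_lit 0x9cd18fff0000000008b60c990000000011c32f5500000000514508a0) (Net.cons (nat_lit 16) (nat_lit 0xa00009f4f00004b320000888300001a6d000076f6000074ab0000f83c0000cb63) (Net.cons (nat_lit 8) (nat_lit 0x7a0089002f00d300bf00110045001700b8009200de0076003500d80044000a00fc) (Net.cons (nat_lit 4) (nat_lit 0x2090f0a060c0f020a0103050f0e0c04060c090c010e09030b0e00010d05030f000a) (Net.cons (nat_lit 2) (nat_lit 0x32111131233103101133002231333031131112010011121301320220210320332120) (Net.cons (nat_lit 1) (nat_lit 0x511011145411450415141400150055405555514545554100115514004055100400140) Net.nil)))))))))))))))))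

theorem g712_ok : Net.ok 276 g712 = true := by decide +kernel

noncomputable def g713 : Net := (Net.cons (nat_lit 1) (nat_lit 0x14005445055410055001454015054010445540444140404500515140001044410000) (Net.cons (nat_lit 2) (nat_lit 0x1020223113101330003121201200312201203013001032002321023200110323320) (Net.cons (nat_lit 4) (nat_lit 0xe0c0e0e0f01000f06020a0b080f03050d0b0b0b060e0309000202000f000c0f0e0c) (Net.cons (nat_lit 8) (nat_lit 0x18005c003c0049000700fd003500c3002000b800b100b9005200840050007b0004) (Net.cons (nat_lit 16) (nat_lit 0x8312000096b80000091c0000fab30000a68e000008a900003b3000000100) (Net.cons (nat_lit 32) (nat_lit 0x182b518200000000551a51200000000083899304000000000002102a) (Net.cons (nat_lit 64) (nat_lit 0x182658ab532144b90000000000000000000000000000908e) (Net.cons (nat_lit 128) (nat_lit 0x4007ea15983b89e41d29b2ee631a0760) (Net.cons (nat_lit 256) (nat_lit 956398) (Net.cons (nat_lit 128) (nat_lit 676925) (Net.cons (nat_lit 64) (nat_lit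 0xef2dd8a052f0c76300000000000000002b18283fa882ebee) (Net.cons (nat_lit 32) (nat_lit 0x4d2cc092000000006f9fd1a200000000903eac63000000000690fa0e) (Net.cons (nat_lit 16) (nat_lit 0x2a30000007bd00005f9300001c3a000079e30000230a0000753c00004d13) (Net.cons (nat_lit 8) (nat_lit 0x890099001700db001000f5002c00720093008400ff004400f6000b00c400ab001c) (Net.cons (nat_lit 4) (nat_lit 0x7090d04030e01020f0b01080a07030600060b0403030a020e060b0906040906090d) (Net.cons (nat_lit 2) (nat_lit 0x221002111331303232023313020002220233202231231220220022201200033113312) (Net.cons (nat_lit 1) (nat_lit 0x11005044451410455001004014045401005544444450454100504050001444414400) Net.nil)))))))))))))))))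

theorem g713_ok : Net.ok 276 g713 = true := by decide +kernel

noncomputable def g714 : Net := (Net.cons (nat_lit 1) (nat_lit 0x51414100144545400540450551404045154055141145001440405405054541505050) (Net.cons (nat_lit 2) (nat_lit 0x3300111121120021200212013021231330121122202311311123211211320002210) (Net.cons (nat_lit 4) (nat_lit 0xb0a080a0b0006000c04060b0b0f020f080500080d03000c0905030e080901090d0e) (Net.cons (nat_lit 8) (nat_lit 0x1f00f000e30094002900a600ac008600ca00b900e100c000240001001800150008) (Net.cons (nat_lit 16) (nat_lit 0x50000d1e300001e87000084180000ea2c00009af900009a6b0000126a00004010) (Net.cons (nat_lit 32) (nat_lit 0x62423700000000f65274ae00000000183a51a20000000000046800) (Net.cons (nat_lit 64) (nat_lit 0x508aca4aa02a69c0000000000000000000000000000a87a8) (Net.cons (nat_lit 128) (nat_lit 0x94de4be156e08250e515801aeb48206e) (Net.cons (nat_lit 256) (nat_lit 0xfeffe) (Net.cons (nat_lit 128) (nat_lit 417746) (Net.cons (nat_lit 64) (nat_lit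 0xb552f09b4607fe850000000000000000955795e8c8b96976) (Net.cons (nat_lit 32) (nat_lit 0xdbe5503500000000556e63c600000000060d10ca00000000ef612d9e) (Net.cons (nat_lit 16) (nat_lit 0xf0000111700006d0d0000aada000059200000295b00009155000095a10000e18b) (Net.cons (nat_lit 8) (nat_lit 0xd0000600ab001d00e3008f003800f30035007300fb00f000fb0024009d001c0082) (Net.cons (nat_lit 4) (nat_lit 0x403000b0e020e080e04040d0c08030903050100020203050a06080a050c0306050e) (Net.cons (nat_lit 2) (nat_lit 0x23311222130201133013233203120322312320133232322131333330113232210010) (Net.cons (nat_lit 1) (nat_lit 0x44044151540400015554410455115051505544551405411441110510504515014004) Net.nil)))))))))))))))))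

theorem g714_ok : Net.ok 276 g714 = true := by decide +kernel

noncomputable def ct_c5_K : List Net := [g712, g713, g714, g445, g548]

theorem ct_c5_K_ok : okE 276 ct_c5_K = true := (okE_cons.2 ⟨g712_ok, (okE_cons.2 ⟨g713_ok, (okE_cons.2 ⟨g714_ok, (okE_cons.2 ⟨g445_ok, (okE_cons.2 ⟨g548_ok, (okE_nil 276)⟩)⟩)⟩)⟩)⟩)

noncomputable def g716 : Net := (Net.cons (nat_lit 1) (nat_lit 0x144140140045405045154404455111551405144411401041441110510500415014004) (Net.cons (nat_lit 2) (nat_lit 0x33320100020123133313122300233333323131113312100321220310013130000010) (Net.cons (nat_lit 4) (nat_lit 0xd0804000409090403090f0a0f0c0b020f070a090109090607050c0b0509040d0405) (Net.cons (nat_lit 8) (nat_lit 0x440083009300f6009500bd00f500bf008c003e002e00e30083000c00b1008a0004) (Net.cons (nat_lit 16) (nat_lit 0x4000024950000c3a10000cf39000098bb000052200000d10800002158000018d0) (Net.cons (nat_lit 32) (nat_lit 0x425758a00000000003c29963000000001810445d00000000000c4a00) (Net.cons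 (nat_lit 64) (nat_lit 0x4940248e8cb901b0000000000000000000000000004620c) (Net.cons (nat_lit 128) (nat_lit 0x99087915ab8a30f87fb55a4a4069d173) (Net.cons (nat_lit 256) (nat_lit 916479) (Net.cons (nat_lit 128) (nat_lit 598214) (Net.cons (nat_lit 64) (nat_lit 0xd0bfcf082da2fe520000000000000000d8a1b62f557a5ba0) (Net.cons (nat_lit 32) (nat_lit 0x19e01cac00000000292981970000000015131cf500000000b3488f29) (Net.cons (nat_lit 16) (nat_lit 0x90000b15200004b120000e0530000c17b00000ff90000ea42000073a700007818) (Net.cons (nat_lit 8) (nat_lit 0xa500e7004500ec00ac009600d4004700550096009f004c0087001c00ce0014008c) (Net.cons (nat_lit 4) (nat_lit 0xd0703060f0a03040d050f0a0803090001090c0f0c04050d02050a0d0f020a060b0d) (Net.cons (nat_lit 2) (nat_lit 0x12210303021021112112332021013121330332320322003300002221001323120301) (Net.cons (nat_lit 1) (nat_lit 0x151454100104545400141450551510155115414041441101544414445414541405150) Net.nil)))))))))))))))))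

theorem g716_ok : Net.ok 276 g716 = true := by decide +kernel

noncomputable def g717 : Net := (Net.cons (nat_lit 1) (nat_lit 0x450145540010401551050001404155400010051510014005411444450540551040044) (Net.cons (nat_lit 2) (nat_lit 0x203131311323201003213222312133101003313233311212121303232032100203030) (Net.cons (nat_lit 4) (nat_lit 0x20d05090104040607010509090c0d0f0e05070701040c03060902020c010a03050c) (Net.cons (nat_lit 8) (nat_lit 0x3f0028003e001400100021008e000f0074009d00c60047002500200071000d0007) (Net.cons (nat_lit 16) (nat_lit 0x90000921c000019da0000a9510000e2610000483d0000e75c0000b0c30000c7e0) (Net.cons (nat_lit 32) (nat_lit 0x8102355f000000002ce03b060000000001e75d11000000000000c01e) (Net.cons (nat_lit 64) (nat_lit 0x21420b012d393048000000000000000000000000000d0935) (Net.cons (nat_lit 128) (nat_lit 0x503024afef448059a1fb1b86c0702d43) (Net.cons (nat_lit 256) (nat_lit 0xfffff) (Net.cons (nat_lit 128) (nat_lit 856707) (Net.cons (nat_lit 64)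 (nat_lit 0x8a5a974281b8834d0000000000000000c3f66da07120b325) (Net.cons (nat_lit 32) (nat_lit 0x6c69f5a000000001c3da8a800000000448ccbee00000000086b3176) (Net.cons (nat_lit 16) (nat_lit 0x400009d0500002779000099ba000062700000fabc0000fbfe0000abb3000047ef) (Net.cons (nat_lit 8) (nat_lit 0x7800bd0006001e007200240021009300290017000800dc006d0046008100b600f7) (Net.cons (nat_lit 4) (nat_lit 0xf03020a020b0c0104040a0e03010c000004050004040e09020f09080e0b060c010c) (Net.cons (nat_lit 2) (nat_lit 0x1231320013322000111000320102101222011311003213030333201130330110331) (Net.cons (nat_lit 1) (nat_lit 0x404045011010541545045440114145415444141041444014511415001010150110000) Net.nil)))))))))))))))))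

theorem g717_ok : Net.ok 276 g717 = true := by decide +kernel

noncomputable def V718 : List Net := [g716, g717, g548]

theorem V718_ok : okE 276 V718 = true := (okE_cons.2 ⟨g716_ok, (okE_cons.2 ⟨g717_ok, (okE_cons.2 ⟨g548_ok, (okE_nil 276)⟩)⟩)⟩)

noncomputable def V720 : List Net := [g717, g548]

theorem V720_ok : okE 276 V720 = true := (okE_cons.2 ⟨g717_ok, (okE_cons.2 ⟨g548_ok, (okE_nil 276)⟩)⟩)

noncomputable def V721 : List Net := [g548]

theorem V721_ok : okE 276 V721 = true := (okE_cons.2 ⟨g548_ok, (okE_nil 276)⟩)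

noncomputable def V722 : List Net := []

theorem V722_ok : okE 276 V722 = true := (okE_nil 276)

noncomputable def ct_c5_cnt_EG : List Net := [g444, g445, g446, g447, n_u, g716, g717, g548]

theorem ct_c5_cnt_EG_ok : okE 276 ct_c5_cnt_EG = true := (okE_cons.2 ⟨g444_ok, (okE_cons.2 ⟨g445_ok, (okE_cons.2 ⟨g446_ok, (okE_cons.2 ⟨g447_ok, (okE_cons.2 ⟨n_u_ok, (okE_cons.2 ⟨g716_ok, (okE_cons.2 ⟨g717_ok, (okE_cons.2 ⟨g548_ok, (okE_nil 276)⟩)⟩)⟩)⟩)⟩)⟩)⟩)⟩)

noncomputable def g723 : Net := (Net.cons (nat_lit 1) (nat_lit 0x400111015114511000050151014055111414411405111405051010105100054514010) (Net.cons (nat_lit 2) (nat_lit 0x331331210113223022111313302111131131323021010220313021131002110020010) (Net.cons (nat_lit 4) (nat_lit 0x80c0d0f060605000b0d0b0004030308010d000f0f0d0c080f0b020e000e0c0208) (Net.cons (nat_lit 8) (nat_lit 0xec009b00270067003a000800d100ab00bd005300fa00f100bd003500320028000d) (Net.cons (nat_lit 16) (nat_lit 0x300000823000041e100007ff60000b8d90000888d00006850000064200000f280)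 (Net.cons (nat_lit 32) (nat_lit 0x1b92007700000000e36c250600000000a201616000000000000b4c04) (Net.cons (nat_lit 64) (nat_lit 0x1600d345712b84a000000000000000000000000000008bc) (Net.cons (nat_lit 128) (nat_lit 0x91f29cb9ba72df199400014d658a3548) (Net.cons (nat_lit 256) (nat_lit 0xffffc) (Net.cons (nat_lit 128) (nat_lit 487439) (Net.cons (nat_lit 64) (nat_lit 0xe24561947678f6cd00000000000000003422343cc3755dc1) (Net.cons (nat_lit 32) (nat_lit 0x104e3b5b0000000090ed3648000000003a43ccb80000000072158b64) (Net.cons (nat_lit 16) (nat_lit 0x200007b8000006cd900007fd80000e02f0000feb1000010450000d1780000ecf2) (Net.cons (nat_lit 8) (nat_lit 0x7d00c000b500df0058005500f60043003900e700bc0030005c00f60043007100b6) (Net.cons (nat_lit 4) (nat_lit 0xd0c0508030f020602010d0d06060d070901030703020c0805070d0203030609090a) (Net.cons (nat_lit 2) (nat_lit 0x301333310131330223210311023002121011030102022230132010331112101131112) (Net.cons (nat_lit 1) (nat_lit 0x505010140015155014450040050010041001414400400104410010010114045114014)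 Net.nil)))))))))))))))))

theorem g723_ok : Net.ok 276 g723 = true := by decide +kernel

noncomputable def g724 : Net := (Net.cons (nat_lit 1) (nat_lit 0x50140111010004405551414111111414440405154104114151051540041451411110) (Net.cons (nat_lit 2) (nat_lit 0x203332321232031213322131121000111332122032030133323023020130300001010) (Net.cons (nat_lit 4) (nat_lit 0xf080c060f090a0f0602020c0f000b050f030c030d010f050c000d0005090b020602) (Net.cons (nat_lit 8) (nat_lit 0xfa000a0042000d00c3009a00330032006c00a100ec005800300022002400890002) (Net.cons (nat_lit 16) (nat_lit 0x50000e8310000d9dc000064000000c5100000a7700000d0e100008042000048f0) (Net.cons (nat_lit 32) (nat_lit 0xb15e0bb00000000064c60770000000000bca01680000000000058e24) (Net.cons (nat_lit 64) (nat_lit 0x7cc1981000e184100000000000000000000000000004800) (Net.cons (nat_lit 128) (nat_lit 0x7d42a392949995e05a8e987921f40cd0) (Net.cons (nat_lit 256) (nat_lit 388860) (Net.cons (nat_lit 128) (nat_lit 492899)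 (Net.cons (nat_lit 64) (nat_lit 0x6b0d8945758a7ee50000000000000000612d9999f710c521) (Net.cons (nat_lit 32) (nat_lit 0xb4661fa100000000d34b861a000000001f308634000000002104579f) (Net.cons (nat_lit 16) (nat_lit 0x70000f5a000005a5a0000f81b0000ddc40000b2890000fa130000911b000050f9) (Net.cons (nat_lit 8) (nat_lit 0x67005f00d6009f0055003700170022007b00b600cc00e30092008f008c0025008e) (Net.cons (nat_lit 4) (nat_lit 0x609040e0b080a07030b0b0406040b0c01060d0305010e0d0c08050905040b0b0603) (Net.cons (nat_lit 2) (nat_lit 0x201332323312031312323331101300131301033032030033323123030333202033010) (Net.cons (nat_lit 1) (nat_lit 0x50151111010005545541404111011404045444154110114111051440041551455110) Net.nil)))))))))))))))))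

theorem g724_ok : Net.ok 276 g724 = true := by decide +kernel

noncomputable def g725 : Net := (Net.cons (nat_lit 1) (nat_lit 0x11514451544055504150050504401045454401504104051540515041405401544100) (Net.cons (nat_lit 2) (nat_lit 0x32321020233223101022223123210330113030302332021320013302001110102200) (Net.cons (nat_lit 4) (nat_lit 0x20f09060a020c0d01040a0c0a030b0c060a02080c08050707070e07080a0f000b08) (Net.cons (nat_lit 8) (nat_lit 0xb2005f004400ba007600a600eb004d003400c8004a00360074006b00bf00930000) (Net.cons (nat_lit 16) (nat_lit 0x30000949900009b3f00005309000045de0000031400001aa40000e6fa000000f0) (Net.cons (nat_lit 32) (nat_lit 0x3639c6820000000051342888000000008035019800000000000402c5) (Net.cons (nat_lit 64) (nat_lit 0x44314d60448746a6000000000000000000000000000114e5) (Net.cons (nat_lit 128) (nat_lit 0x2b1407d5ce4ff494f4694a35a1c8268c) (Net.cons (nat_lit 256) (nat_lit 997117) (Net.cons (nat_lit 128) (nat_lit 44990) (Net.cons (nat_lit 64) (nat_lit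 0xd9181a8547d7e71f00000000000000006ad7534924e87173) (Net.cons (nat_lit 32) (nat_lit 0xf650bc2000000000e634718400000000949da86f00000000041dfe6d) (Net.cons (nat_lit 16) (nat_lit 0xf000018a20000d7d6000011cb00009b7c0000dcce00006aea0000e7bc0000e4a2) (Net.cons (nat_lit 8) (nat_lit 0x520084004a009b005e00be00ba00df0052001c007a00e30074002c00e300b00085) (Net.cons (nat_lit 4) (nat_lit 0x80c040f010b030809060c0004000e010509020600080b020c0b0501000f080a060b) (Net.cons (nat_lit 2) (nat_lit 0x122033322230301200110301210221133021313310303311303322132001002321222) (Net.cons (nat_lit 1) (nat_lit 0x4405444555510115154011514455555144141105045501145150444141510541104) Net.nil)))))))))))))))))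

theorem g725_ok : Net.ok 276 g725 = true := by decide +kernel

noncomputable def ct_c6_K : List Net := [g723, g724, g725, g705, g491]

theorem ct_c6_K_ok : okE 276 ct_c6_K = true := (okE_cons.2 ⟨g723_ok, (okE_cons.2 ⟨g724_ok, (okE_cons.2 ⟨g725_ok, (okE_cons.2 ⟨g705_ok, (okE_cons.2 ⟨g491_ok, (okE_nil 276)⟩)⟩)⟩)⟩)⟩)

noncomputable def V727 : List Net := [g706, g524, g705, g491]

theorem V727_ok : okE 276 V727 = true := (okE_cons.2 ⟨g706_ok, (okE_cons.2 ⟨g524_ok, (okE_cons.2 ⟨g705_ok, (okE_cons.2 ⟨g491_ok, (okE_nil 276)⟩)⟩)⟩)⟩)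

noncomputable def V729 : List Net := [g524, g705, g491]

theorem V729_ok : okE 276 V729 = true := (okE_cons.2 ⟨g524_ok, (okE_cons.2 ⟨g705_ok, (okE_cons.2 ⟨g491_ok, (okE_nil 276)⟩)⟩)⟩)

noncomputable def V730 : List Net := [g705, g491]

theorem V730_ok : okE 276 V730 = true := (okE_cons.2 ⟨g705_ok, (okE_cons.2 ⟨g491_ok, (okE_nil 276)⟩)⟩)

noncomputable def V731 : List Net := [g491]

theorem V731_ok : okE 276 V731 = true := (okE_cons.2 ⟨g491_ok, (okE_nil 276)⟩)

noncomputable def V732 : List Net := []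

theorem V732_ok : okE 276 V732 = true := (okE_nil 276)

noncomputable def ct_c6_cnt_EG : List Net := [g444, g445, g446, g447, n_u, g524, g705, g491, g706]

theorem ct_c6_cnt_EG_ok : okE 276 ct_c6_cnt_EG = true := (okE_cons.2 ⟨g444_ok, (okE_cons.2 ⟨g445_ok, (okE_cons.2 ⟨g446_ok, (okE_cons.2 ⟨g447_ok, (okE_cons.2 ⟨n_u_ok, (okE_cons.2 ⟨g524_ok, (okE_cons.2 ⟨g705_ok, (okE_cons.2 ⟨g491_ok, (okE_cons.2 ⟨g706_ok, (okE_nil 276)⟩)⟩)⟩)⟩)⟩)⟩)⟩)⟩)⟩)

noncomputable def g733 : Net := (Net.cons (nat_lit 1) (nat_lit 0x41441104115455145540115440544545101014541141055041440441150554515450) (Net.cons (nat_lit 2) (nat_lit 0x320310123123313131320013032200123031313121110332122331100211301132010) (Net.cons (nat_lit 4) (nat_lit 0xf05000f03080806010302070e0a07030f08080101030b030d0e09030200040b0003) (Net.cons (nat_lit 8) (nat_lit 0xf7000900d000f800e40098005400ab008400bc0027008400870075003c00080008) (Net.cons (nat_lit 16) (nat_lit 0xa0000e6850000caa200009cc80000bf020000b4c400000cd000008201000097f0)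 (Net.cons (nat_lit 32) (nat_lit 0x38558dfb00000000de5714810000000062ca51e80000000000044431) (Net.cons (nat_lit 64) (nat_lit 0xd104983015404f9d0000000000000000000000000008900e) (Net.cons (nat_lit 128) (nat_lit 0x355632c306e7003dc27ae9799b3c44e7) (Net.cons (nat_lit 256) (nat_lit 0xfd7ff) (Net.cons (nat_lit 128) (nat_lit 359269) (Net.cons (nat_lit 64) (nat_lit 0x46bbca51e8d543040000000000000000a574301c4feb7f86) (Net.cons (nat_lit 32) (nat_lit 0x4c6a3a43000000004a1800c500000000067c3f7200000000a7b3fe37) (Net.cons (nat_lit 16) (nat_lit 0x80000fa9600004c51000053210000970a00005f40000048d90000fc4c0000c65d) (Net.cons (nat_lit 8) (nat_lit 0x99005a007700f800a4004f00d400a0008600b7001600d700eb006a007900f30054) (Net.cons (nat_lit 4) (nat_lit 0x60d0d030703010d04090e01080302000d0d070008000c02010e0f0f02090d0a0d06) (Net.cons (nat_lit 2) (nat_lit 0x201032211220232333213312113000131020130230033103212311320203100102121) (Net.cons (nat_lit 1) (nat_lit 0x554501455554514140154054044511404400050015440551440000404514055005150)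 Net.nil)))))))))))))))))

theorem g733_ok : Net.ok 276 g733 = true := by decide +kernel

noncomputable def g734 : Net := (Net.cons (nat_lit 1) (nat_lit 0x411550514514000045550051140040555114144441410555551511445550144514454) (Net.cons (nat_lit 2) (nat_lit 0x220203113230332313131012320233011233311103203302130112222213323312200) (Net.cons (nat_lit 4) (nat_lit 0x308070e010c0806030c09030b0f0c0c0b0e000a02050000010d05050e0c08080402) (Net.cons (nat_lit 8) (nat_lit 0x2c005800f3001c00540089007200fa0072006600d40037000d00d3001000330000) (Net.cons (nat_lit 16) (nat_lit 0xc0000611000009498000022480000b45e0000437e000022af000028f200004e00) (Net.cons (nat_lit 32) (nat_lit 0x519203d100000000802104df00000000509fa0b1000000000008a60c) (Net.cons (nat_lit 64) (nat_lit 0xfc9540008551937000000000000000000000000000066ac9) (Net.cons (nat_lit 128) (nat_lit 0xf28a841b7217606c0e1d7da3dde9445c) (Net.cons (nat_lit 256) (nat_lit 0xfeedd) (Net.cons (nat_lit 128) (nat_lit 917337)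 (Net.cons (nat_lit 64) (nat_lit 0xe48031ab15dba5050000000000000000e01739dcc5b06047) (Net.cons (nat_lit 32) (nat_lit 0xea2c1a460000000042173c1e00000000bdd369ce00000000584c6899) (Net.cons (nat_lit 16) (nat_lit 0x8000046e8000020240000fed30000c6170000b0db00000ff50000cb5c0000ead0) (Net.cons (nat_lit 8) (nat_lit 0xe7005c0003003a00be00c80060003200e3009b007800e5003a008800dd00b4008d) (Net.cons (nat_lit 4) (nat_lit 0x90808060e00000b0e0b000a0b0c0c0502080d090700000c0601030b0b09060c0a02) (Net.cons (nat_lit 2) (nat_lit 0x10001032203310213303313322213033312321322023110312202012101002111311) (Net.cons (nat_lit 1) (nat_lit 0x544540515500001550041151145450554415100045405411054401504550414150404) Net.nil)))))))))))))))))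

theorem g734_ok : Net.ok 276 g734 = true := by decide +kernel

noncomputable def g735 : Net := (Net.cons (nat_lit 1) (nat_lit 0x140140100040055040054011040014000051044550555440555005050411040011040) (Net.cons (nat_lit 2) (nat_lit 0x102123300232030313332301123110220332131310303302223202302021011200320) (Net.cons (nat_lit 4) (nat_lit 0x50e080e010607090a0a030c0c0904060d0d0505030b05040a080f00090f0c070300) (Net.cons (nat_lit 8) (nat_lit 0xe1001e00e10007005600a7006a00fc003d006700640052001600d000b2000a0008) (Net.cons (nat_lit 16) (nat_lit 0x3000032c400005c370000ce6300001e100000d75e000001e00000db1900008610) (Net.cons (nat_lit 32) (nat_lit 0x20a6507f000000002d4efbd30000000032800a94000000000000f04d) (Net.cons (nat_lit 64) (nat_lit 0x80054a44457a638f0000000000000000000000000000a98f) (Net.cons (nat_lit 128) (nat_lit 0xc7999d456acf0fbd03f477183f3842db) (Net.cons (nat_lit 256) (nat_lit 786431) (Net.cons (nat_lit 128) (nat_lit 321209) (Net.cons (nat_lit 64)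 (nat_lit 0x86f25d0975472ebd0000000000000000d0929bbf86318582) (Net.cons (nat_lit 32) (nat_lit 0x4eb02f5800000000d26daf2600000000a719b98f00000000737a392c) (Net.cons (nat_lit 16) (nat_lit 0x966a000054500000d2e000008d630000631d0000c2e00000af6d00002710) (Net.cons (nat_lit 8) (nat_lit 0x30006e00a30045008e0034007e00de004b00da0025002400f00089005d006b0099) (Net.cons (nat_lit 4) (nat_lit 0x3040b030c05010b030b0e0f0604070d0a0c03020a040001020b0e0d010c0c0a0705) (Net.cons (nat_lit 2) (nat_lit 0x323031232032131310012233011120210130101221013302030300331231110233300) (Net.cons (nat_lit 1) (nat_lit 0x105150154100514154444401110404005050140405511401550401051541041105504) Net.nil)))))))))))))))))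

theorem g735_ok : Net.ok 276 g735 = true := by decide +kernel

noncomputable def ct_c7_K : List Net := [g733, g685, g734, g735, g548]

theorem ct_c7_K_ok : okE 276 ct_c7_K = true := (okE_cons.2 ⟨g733_ok, (okE_cons.2 ⟨g685_ok, (okE_cons.2 ⟨g734_ok, (okE_cons.2 ⟨g735_ok, (okE_cons.2 ⟨g548_ok, (okE_nil 276)⟩)⟩)⟩)⟩)⟩)

noncomputable def V737 : List Net := [g684, g548]

theorem V737_ok : okE 276 V737 = true := (okE_cons.2 ⟨g684_ok, (okE_cons.2 ⟨g548_ok, (okE_nil 276)⟩)⟩)

noncomputable def V739 : List Net := [g548]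

theorem V739_ok : okE 276 V739 = true := (okE_cons.2 ⟨g548_ok, (okE_nil 276)⟩)

noncomputable def V740 : List Net := []

theorem V740_ok : okE 276 V740 = true := (okE_nil 276)

noncomputable def ct_c7_cnt_EG : List Net := [g444, g445, g446, g447, n_u, g716, g717, g548, g684]

theorem ct_c7_cnt_EG_ok : okE 276 ct_c7_cnt_EG = true := (okE_cons.2 ⟨g444_ok, (okE_cons.2 ⟨g445_ok, (okE_cons.2 ⟨g446_ok, (okE_cons.2 ⟨g447_ok, (okE_cons.2 ⟨n_u_ok, (okE_cons.2 ⟨g716_ok, (okE_cons.2 ⟨g717_ok, (okE_cons.2 ⟨g548_ok, (okE_cons.2 ⟨g684_ok, (okE_nil 276)⟩)⟩)⟩)⟩)⟩)⟩)⟩)⟩)⟩)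

noncomputable def ct_c8_K : List Net := [n_x, n_t, n_u, g548]

theorem ct_c8_K_ok : okE 276 ct_c8_K = true := (okE_cons.2 ⟨n_x_ok, (okE_cons.2 ⟨n_t_ok, (okE_cons.2 ⟨n_u_ok, (okE_cons.2 ⟨g548_ok, (okE_nil 276)⟩)⟩)⟩)⟩)

noncomputable def ct_c8_cnt_EG : List Net := [g445, g446, g447, n_u, g444, g716, g717, g548]

theorem ct_c8_cnt_EG_ok : okE 276 ct_c8_cnt_EG = true := (okE_cons.2 ⟨g445_ok, (okE_cons.2 ⟨g446_ok, (okE_cons.2 ⟨g447_ok, (okE_cons.2 ⟨n_u_ok, (okE_cons.2 ⟨g444_ok, (okE_cons.2 ⟨g716_ok, (okE_cons.2 ⟨g717_ok, (okE_cons.2 ⟨g548_ok, (okE_nil 276)⟩)⟩)⟩)⟩)⟩)⟩)⟩)⟩)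

noncomputable def g742 : Net := (Net.cons (nat_lit 1) (nat_lit 0x50105005015451505040111405001440445444501141101540151111050001045000) (Net.cons (nat_lit 2) (nat_lit 0x213232231301331210032031122023312001130200222223032012311132111230100) (Net.cons (nat_lit 4) (nat_lit 0x900040d02060801050c07030305010b040c080909000c050408060b070402080908) (Net.cons (nat_lit 8) (nat_lit 0xa0014005e0090002c003500500051005100b70010001500c6000600b800210008) (Net.cons (nat_lit 16) (nat_lit 0xc000045110000d13b000046c5000057620000106200000a710000182200007850) (Net.cons (nat_lit 32) (nat_lit 0xd2234712000000001578f75400000000104efe830000000000071ad3) (Net.cons (nat_lit 64) (nat_lit 0xd012c3002069125b000000000000000000000000000a85e8) (Net.cons (nat_lit 128) (nat_lit 0x72f1b5256174b3ed800a622545033a4d) (Net.cons (nat_lit 256) (nat_lit 0xfffff) (Net.cons (nat_lit 128) (nat_lit 606843) (Net.cons (nat_lit 64) (nat_lit 0xd14ab2f7b8a54cde0000000000000000051060c51645a9fa) (Net.cons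 (nat_lit 32) (nat_lit 0xb64e7706000000007116a57100000000dc028f9a00000000ac2fdaef) (Net.cons (nat_lit 16) (nat_lit 0xb00000d010000711e000046d10000755c00003c5d00006a570000aa8400009c78) (Net.cons (nat_lit 8) (nat_lit 0x310037007c00a00004005700bd0063007f009f003e007d00ae007e004900890069) (Net.cons (nat_lit 4) (nat_lit 0xd00000d0a060901010407030305010e04000c0908000805010806030f040f000908) (Net.cons (nat_lit 2) (nat_lit 0x203222231301221210032131122033302001131201322323023012311132111230100) (Net.cons (nat_lit 1) (nat_lit 0x450105005015451505040111405001440445444505141001140155115051001145000) Net.nil)))))))))))))))))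

theorem g742_ok : Net.ok 276 g742 = true := by decide +kernel

noncomputable def g743 : Net := (Net.cons (nat_lit 1) (nat_lit 0x11044404511400111041405515144414514114415044041101001141145140515000) (Net.cons (nat_lit 2) (nat_lit 0x3222031322112201210201111001210311132212231003311121010310000001000) (Net.cons (nat_lit 4) (nat_lit 0xa070a0a0a030307050807010f040a040a0c05090406090a0300060d0c040a000800) (Net.cons (nat_lit 8) (nat_lit 0x3f009b00a900100029004800240011000c0005009a00ac0085002800a500060000) (Net.cons (nat_lit 16) (nat_lit 0xd4d0000d5c40000024c000010900000000a000009b40000706c0000b400) (Net.cons (nat_lit 32) (nat_lit 0x34f4403100000000465e869c0000000028061d99000000000009870e) (Net.cons (nat_lit 64) (nat_lit 0xe040015405928b2000000000000000000000000000329a9) (Net.cons (nat_lit 128) (nat_lit 0x8da1118a6503c8fca24e12371ddc8652) (Net.cons (nat_lit 256) (nat_lit 0xfffff) (Net.cons (nat_lit 128) (nat_lit 401991) (Net.cons (nat_lit 64) (nat_lit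 0xd1e169c5032158600000000000000003c18554d857f8bfe) (Net.cons (nat_lit 32) (nat_lit 0xf50c6f550000000062dd3687000000003a990a3d00000000f7102fa0) (Net.cons (nat_lit 16) (nat_lit 0x100002b00000054a50000a17e000079b60000158f000039f70000f6cc00003e51) (Net.cons (nat_lit 8) (nat_lit 0x9a003f008800a1008000c700b4001b00a500f1003c008900000087008d00890098) (Net.cons (nat_lit 4) (nat_lit 0xb050b0b0a0a080d050805020c010b0d0b040408050401080a000607070c02000301) (Net.cons (nat_lit 2) (nat_lit 0x200020111102031031030221313133230112312210011203133101232132222123222) (Net.cons (nat_lit 1) (nat_lit 0x11044404511400111041405515144414514114415044041101001141145140515000) Net.nil)))))))))))))))))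

theorem g743_ok : Net.ok 276 g743 = true := by decide +kernel

noncomputable def g744 : Net := (Net.cons (nat_lit 1) (nat_lit 0x454510044150411440005455510104454450110554505054441454554100405100500) (Net.cons (nat_lit 2) (nat_lit 0x31322221232330321123011030213033330000121103320131220233233311230310) (Net.cons (nat_lit 4) (nat_lit 0x10b09040a08070907090903040b080b0903060a0e0807080207080f00060a0d0102) (Net.cons (nat_lit 8) (nat_lit 0xb1005d00a100f3008d00c800a800bc007500f200e900ec005d0023007700900005) (Net.cons (nat_lit 16) (nat_lit 0xf000044ac0000030a0000d2b0000017880000c740000049d800007fc000004040) (Net.cons (nat_lit 32) (nat_lit 0xe524bb03000000008e1a883700000000c1134d65000000000001329c) (Net.cons (nat_lit 64) (nat_lit 0x82850005480387a80000000000000000000000000000a8e4) (Net.cons (nat_lit 128) (nat_lit 0xfbc99eabdd4a78b87d46fd86243a8fdb) (Net.cons (nat_lit 256) (nat_lit 0xfffff) (Net.cons (nat_lit 128) (nat_lit 0xf699b) (Net.cons (nat_lit 64)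 (nat_lit 0x50cd08df932adfe5000000000000000001229ad6f412830e) (Net.cons (nat_lit 32) (nat_lit 0x55454ecc000000003f9d101e0000000030252b8c00000000b2077855) (Net.cons (nat_lit 16) (nat_lit 0xf0000337b0000620b0000ba3100005fef0000a9ab00006dcd00009ff80000e4e0) (Net.cons (nat_lit 8) (nat_lit 0x34005f00cb00da005d004400b000a000cd006e00890058002f004a005f0001008f) (Net.cons (nat_lit 4) (nat_lit 0xf07090e0007000b0b000507000f0c050d0606030d0807010e0204020a020e0d050a) (Net.cons (nat_lit 2) (nat_lit 0x201202112110221021032001231012010030302312001321023310303313011230210) (Net.cons (nat_lit 1) (nat_lit 0x514550440150451500005055110004054110110054545454041414541400405500500) Net.nil)))))))))))))))))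

theorem g744_ok : Net.ok 276 g744 = true := by decide +kernel

noncomputable def ct_c9_K : List Net := [g742, g743, n_r1, g744]

theorem ct_c9_K_ok : okE 276 ct_c9_K = true := (okE_cons.2 ⟨g742_ok, (okE_cons.2 ⟨g743_ok, (okE_cons.2 ⟨n_r1_ok, (okE_cons.2 ⟨g744_ok, (okE_nil 276)⟩)⟩)⟩)⟩)

noncomputable def V746 : List Net := [g446]

theorem V746_ok : okE 276 V746 = true := (okE_cons.2 ⟨g446_ok, (okE_nil 276)⟩)

noncomputable def V748 : List Net := []

theorem V748_ok : okE 276 V748 = true := (okE_nil 276)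

noncomputable def ct_c9_cnt_EG : List Net := [g445, g446, g447, n_u, g444]

theorem ct_c9_cnt_EG_ok : okE 276 ct_c9_cnt_EG = true := (okE_cons.2 ⟨g445_ok, (okE_cons.2 ⟨g446_ok, (okE_cons.2 ⟨g447_ok, (okE_cons.2 ⟨n_u_ok, (okE_cons.2 ⟨g444_ok, (okE_nil 276)⟩)⟩)⟩)⟩)⟩)

noncomputable def g749 : Net := (Net.cons (nat_lit 1) (nat_lit 0x455111001455510110104144101044014544401101041045150005404110511010000) (Net.cons (nat_lit 2) (nat_lit 0x123022211123032003022100022200022302320113211220201023232000030120) (Net.cons (nat_lit 4) (nat_lit 0xd0a020e0b0f0d0d0a0904050706000b010b0c0d01050b0d000200000b06040200) (Net.cons (nat_lit 8) (nat_lit 0x76000900c9001200fe00f7005f00c60086008800d8004400c70035002900480001) (Net.cons (nat_lit 16) (nat_lit 0x900004bf100007d0d0000803200002a74000048ef0000f0af000005e900006420) (Net.cons (nat_lit 32) (nat_lit 0x3dc57ee000000000f188e98600000000e12118800000000000087669) (Net.cons (nat_lit 64) (nat_lit 0xb00271a15888a36500000000000000000000000000043004)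 (Net.cons (nat_lit 128) (nat_lit 0x523fa566edd8cecea73850cb366c4229) (Net.cons (nat_lit 256) (nat_lit 816749) (Net.cons (nat_lit 128) (nat_lit 552841) (Net.cons (nat_lit 64) (nat_lit 0x5defbece3ec42b090000000000000000df45d0c91734dea9) (Net.cons (nat_lit 32) (nat_lit 0x69cfaa540000000032a56a3b00000000b208dd14000000003a2dbf74) (Net.cons (nat_lit 16) (nat_lit 0x50000efa50000ee85000032350000a9bd000000c8000072eb0000ca6e00001b2d) (Net.cons (nat_lit 8) (nat_lit 0x52007c005300a2006b00d200d200470051003600dd007500c600180029001900c0) (Net.cons (nat_lit 4) (nat_lit 0xd0d0e0a04000f0d09080b04070f07080901080c0d0b05030f00020e000900060d0c) (Net.cons (nat_lit 2) (nat_lit 0x123022211123032003022100022200022302320313211020201021232200030120) (Net.cons (nat_lit 1) (nat_lit 0x455111001454510110104144101044014544401101051045150005404510511010000) Net.nil)))))))))))))))))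

theorem g749_ok : Net.ok 276 g749 = true := by decide +kernel

noncomputable def ct_c10_K : List Net := [g749, g548, n_u, g706]

theorem ct_c10_K_ok : okE 276 ct_c10_K = true := (okE_cons.2 ⟨g749_ok, (okE_cons.2 ⟨g548_ok, (okE_cons.2 ⟨n_u_ok, (okE_cons.2 ⟨g706_ok, (okE_nil 276)⟩)⟩)⟩)⟩)

noncomputable def ct_c10_cnt_EG : List Net := [g444, g445, g446, g447, n_u]

theorem ct_c10_cnt_EG_ok : okE 276 ct_c10_cnt_EG = true := (okE_cons.2 ⟨g444_ok, (okE_cons.2 ⟨g445_ok, (okE_cons.2 ⟨g446_ok, (okE_cons.2 ⟨g447_ok, (okE_cons.2 ⟨n_u_ok, (okE_nil 276)⟩)⟩)⟩)⟩)⟩)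

noncomputable def g751 : Net := (Net.cons (nat_lit 1) (nat_lit 0x414514404510441514505400515045141555050105414540110114010115444140100) (Net.cons (nat_lit 2) (nat_lit 0x311110110020131001020313300233112033103023203333010132302112022100200) (Net.cons (nat_lit 4) (nat_lit 0x90c0103030502030d0f0004050c0c0d030c0400080007010c0d0f070007080a0001) (Net.cons (nat_lit 8) (nat_lit 0xd50060009200d5008700a8004200d300d70019008100a7008900d0005c00410000) (Net.cons (nat_lit 16) (nat_lit 0x637f000042700000b30c000050f6000015c00000282c000069860000f430) (Net.cons (nat_lit 32) (nat_lit 0x6b1e61d2000000001208c37800000000a0ca63ba00000000000050e4) (Net.cons (nat_lit 64) (nat_lit 0xc2061004024450e600000000000000000000000000095504) (Net.cons (nat_lit 128) (nat_lit 0x32d63aa94f8d858e1cad7159ea85ca3) (Net.cons (nat_lit 256) (nat_lit 785911) (Net.cons (nat_lit 128) (nat_lit 840367) (Net.cons (nat_lit 64) (nat_lit 0xf8aef7505166d4da00000000000000009e7e61d2fdd5d72c) (Net.cons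 (nat_lit 32) (nat_lit 0xed52c3c400000000945d47c800000000263a7329000000002addd640) (Net.cons (nat_lit 16) (nat_lit 0x6feb0000e0d30000b70a000056d200005b660000acba000045b80000f894) (Net.cons (nat_lit 8) (nat_lit 0x5b0067001600510001002c006700df007b003f002700a10007007e00d300450084) (Net.cons (nat_lit 4) (nat_lit 0x10e0101030500050d0d0304050e0c0503040602020007010c0d0f0500050a0e0801) (Net.cons (nat_lit 2) (nat_lit 0x333310130022331201022111320233130011301001023331012332110110201122020) (Net.cons (nat_lit 1) (nat_lit 0x414514404510441514505400515045141555050105414540110114010115444140100) Net.nil)))))))))))))))))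

theorem g751_ok : Net.ok 276 g751 = true := by decide +kernel

noncomputable def ct_c11_K : List Net := [g751, n_u, g548, g713]

theorem ct_c11_K_ok : okE 276 ct_c11_K = true := (okE_cons.2 ⟨g751_ok, (okE_cons.2 ⟨n_u_ok, (okE_cons.2 ⟨g548_ok, (okE_cons.2 ⟨g713_ok, (okE_nil 276)⟩)⟩)⟩)⟩)

noncomputable def V753 : List Net := [n_r1, g713]

theorem V753_ok : okE 276 V753 = true := (okE_cons.2 ⟨n_r1_ok, (okE_cons.2 ⟨g713_ok, (okE_nil 276)⟩)⟩)

noncomputable def V755 : List Net := [g713]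

theorem V755_ok : okE 276 V755 = true := (okE_cons.2 ⟨g713_ok, (okE_nil 276)⟩)

noncomputable def V756 : List Net := []

theorem V756_ok : okE 276 V756 = true := (okE_nil 276)

noncomputable def ct_c11_cnt_EG : List Net := [g445, g446, g447, n_u, g444, n_r1, g713]

theorem ct_c11_cnt_EG_ok : okE 276 ct_c11_cnt_EG = true := (okE_cons.2 ⟨g445_ok, (okE_cons.2 ⟨g446_ok, (okE_cons.2 ⟨g447_ok, (okE_cons.2 ⟨n_u_ok, (okE_cons.2 ⟨g444_ok, (okE_cons.2 ⟨n_r1_ok, (okE_cons.2 ⟨g713_ok, (okE_nil 276)⟩)⟩)⟩)⟩)⟩)⟩)⟩)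

noncomputable def g757 : Net := (Net.cons (nat_lit 1) (nat_lit 0x45114444040544140055401040114040544151514415511111401541155144114400) (Net.cons (nat_lit 2) (nat_lit 0x1103203120000000303022132302102022011310012020102210110303200131100) (Net.cons (nat_lit 4) (nat_lit 0xd0b06040b060804020605090e0306070b0107000002010e060f0e0900010f020c04) (Net.cons (nat_lit 8) (nat_lit 0xa6007000b000a20007009f00e3003600d900ca0066002c0054009500ba00140000) (Net.cons (nat_lit 16) (nat_lit 0x900005a1100007053000018ae0000af4f00007abe00009dbf00000455000022c0) (Net.cons (nat_lit 32) (nat_lit 0xcded1650000000004db901140000000002ce050f000000000008f04c) (Net.cons (nat_lit 64) (nat_lit 0xa118c911542c182a000000000000000000000000000401ab) (Net.cons (nat_lit 128) (nat_lit 0x832ea79cdbe76b6f66d65eedaf85d83c) (Net.cons (nat_lit 256) (nat_lit 917503) (Net.cons (nat_lit 128) (nat_lit 954493) (Net.cons (nat_lit 64) (nat_lit 0xce0c0158e9e3c43e000000000000000051519a1fd1d301ef) (Net.cons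 (nat_lit 32) (nat_lit 0xbab85f170000000060b4382900000000265f0726000000007c64e878) (Net.cons (nat_lit 16) (nat_lit 0xc000010fd00007ad70000033b00006e020000b87b000096b20000de0000006385) (Net.cons (nat_lit 8) (nat_lit 0xff00a1006100e30056004f00ba006e0088009300bf007c000400cc00e2004d0051) (Net.cons (nat_lit 4) (nat_lit 0xd030e0c0b0e080c0a060d09060b0e070b090f080002010e0e070e0908010702040c) (Net.cons (nat_lit 2) (nat_lit 0x1103203120000000303023132302102022011310012120102210110303200131100) (Net.cons (nat_lit 1) (nat_lit 0x45114444040544140055401040114040544151514415511111401541155144114400) Net.nil)))))))))))))))))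

theorem g757_ok : Net.ok 276 g757 = true := by decide +kernel

noncomputable def g758 : Net := (Net.cons (nat_lit 1) (nat_lit 0x454444554501544501045105441000115104414445010445450051040100010451040) (Net.cons (nat_lit 2) (nat_lit 0x13322032122000221202230112200023310013302112301302202133103220312020) (Net.cons (nat_lit 4) (nat_lit 0x406070f030e0c0b0c0f0c0d000c0f0206000f0b0a080a070600050b020d00030b00) (Net.cons (nat_lit 8) (nat_lit 0xb900ff00dc00ca00db001d00c40087003f00c3003600c200d400710087000e0008) (Net.cons (nat_lit 16) (nat_lit 0x500003c94000096060000ccd4000017ca0000d645000006000000fe200000d8d0) (Net.cons (nat_lit 32) (nat_lit 0x1b5c440f00000000229847c50000000035068283000000000002dd82) (Net.cons (nat_lit 64) (nat_lit 0x288108281ad426720000000000000000000000000006a061) (Net.cons (nat_lit 128) (nat_lit 0x79db78b14650e3524728c69d1da802e0) (Net.cons (nat_lit 256) (nat_lit 0xffffb) (Net.cons (nat_lit 128) (nat_lit 263365) (Net.cons (nat_lit 64)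 (nat_lit 0xfac78a291744bf74000000000000000015b11fe575c45e02) (Net.cons (nat_lit 32) (nat_lit 0x49aca8b000000003df8c0c3000000005456d7fb00000000ff7d5ffe) (Net.cons (nat_lit 16) (nat_lit 0x60000f22d00009a820000b1e500001c490000df35000090b600008cba0000de20) (Net.cons (nat_lit 8) (nat_lit 0xa3003d00ce008a00dd0047001400c600b5009100a600a800d50021000f00940080) (Net.cons (nat_lit 4) (nat_lit 0x406030a05060e0f0c0b0d0901090f0a0f0f0a0f0c0d0f050702040b0805020b0505) (Net.cons (nat_lit 2) (nat_lit 0x211000023120000222212221103220222110030232012331300212131303020201021) (Net.cons (nat_lit 1) (nat_lit 0x541140554441544114041004445011115401444011110405451455510101100011014) Net.nil)))))))))))))))))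

theorem g758_ok : Net.ok 276 g758 = true := by decide +kernel

noncomputable def g759 : Net := (Net.cons (nat_lit 1) (nat_lit 0x14544404015405411145451554451500501114401044150051004045454445401010) (Net.cons (nat_lit 2) (nat_lit 0x330023101000000032030112232012001100301203331001231031300102200100) (Net.cons (nat_lit 4) (nat_lit 0xa0a04050f09050b050f0d050e0606060d010601090001050f04080105070d050408) (Net.cons (nat_lit 8) (nat_lit 0xd60077006f00a4001800ef00f6009d00570098005a000300660085006c005c0000) (Net.cons (nat_lit 16) (nat_lit 0x9000051000000433b0000b9930000b0910000ba0800001a850000328100000100) (Net.cons (nat_lit 32) (nat_lit 0x7266cfc80000000085041da90000000040831792000000000000c021) (Net.cons (nat_lit 64) (nat_lit 0x900001781974880000000000000000000000000000c236) (Net.cons (nat_lit 128) (nat_lit 0x46cfd8ba1bd2747cf77aa1df62c4448d) (Net.cons (nat_lit 256) (nat_lit 321535) (Net.cons (nat_lit 128) (nat_lit 871565) (Net.cons (nat_lit 64) (nat_lit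 0xf9b5f30e461cc9800000000000000001f072a38817dfb8b) (Net.cons (nat_lit 32) (nat_lit 0x7a6ec6e900000000ac4d41810000000011ca5b96000000001004fd00) (Net.cons (nat_lit 16) (nat_lit 0x900004115000033470000a9fb0000c5ca00008e7400004f88000043990000101d) (Net.cons (nat_lit 8) (nat_lit 0xfe00fe006e00d5003d008f009700d4003600e9007e0052004b00e400ad005d0021) (Net.cons (nat_lit 4) (nat_lit 0xb0b04050f0b050b010b0d050e0206020d0102050c0400050f00080105070c050408) (Net.cons (nat_lit 2) (nat_lit 0x330023101001000033030112332012001010300203321111231131300102220100) (Net.cons (nat_lit 1) (nat_lit 0x14544404015405411145451554451500501114401044150051004045454445401110) Net.nil)))))))))))))))))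

theorem g759_ok : Net.ok 276 g759 = true := by decide +kernel

noncomputable def ct_c12_K : List Net := [g757, g758, g759, g548]

theorem ct_c12_K_ok : okE 276 ct_c12_K = true := (okE_cons.2 ⟨g757_ok, (okE_cons.2 ⟨g758_ok, (okE_cons.2 ⟨g759_ok, (okE_cons.2 ⟨g548_ok, (okE_nil 276)⟩)⟩)⟩)⟩)

noncomputable def V761 : List Net := [g445]

theorem V761_ok : okE 276 V761 = true := (okE_cons.2 ⟨g445_ok, (okE_nil 276)⟩)

noncomputable def V763 : List Net := []

theorem V763_ok : okE 276 V763 = true := (okE_nil 276)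

noncomputable def ct_c12_cnt_EG : List Net := [n_r1, g713, g445, g446, g447, n_u, g444]

theorem ct_c12_cnt_EG_ok : okE 276 ct_c12_cnt_EG = true := (okE_cons.2 ⟨n_r1_ok, (okE_cons.2 ⟨g713_ok, (okE_cons.2 ⟨g445_ok, (okE_cons.2 ⟨g446_ok, (okE_cons.2 ⟨g447_ok, (okE_cons.2 ⟨n_u_ok, (okE_cons.2 ⟨g444_ok, (okE_nil 276)⟩)⟩)⟩)⟩)⟩)⟩)⟩)

noncomputable def g764 : Net := (Net.cons (nat_lit 1) (nat_lit 0x111041405111055001545001551040551000114555411440050404155405004040010) (Net.cons (nat_lit 2) (nat_lit 0x323021223313001313022330011222221200122211020031021033230130300211100) (Net.cons (nat_lit 4) (nat_lit 0x70b0d0b0e030a0105040d09000c08080f0d04030d03000b0e08010c0a0f03030800) (Net.cons (nat_lit 8) (nat_lit 0xb200d6009400b100650076004300ec007500570084005e0048009600ec00660001) (Net.cons (nat_lit 16) (nat_lit 0x30000bc3c0000a83b0000d1d100009ffa000084c300001600000076c000003120) (Net.cons (nat_lit 32) (nat_lit 0x7379344f000000004c8fb40d000000000140d3270000000000026c0b)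 (Net.cons (nat_lit 64) (nat_lit 0x508481f61182ca700000000000000000000000000053270) (Net.cons (nat_lit 128) (nat_lit 0xd2221e74c1f527b3ad4ad32b360fe08a) (Net.cons (nat_lit 256) (nat_lit 0xfffff) (Net.cons (nat_lit 128) (nat_lit 0xfa80e) (Net.cons (nat_lit 64) (nat_lit 0xc9af3b3203437c000000000000000000de9857717927bda4) (Net.cons (nat_lit 32) (nat_lit 0xd797d66000000004e8d8a8a0000000031ba38b7000000003a4db3c9) (Net.cons (nat_lit 16) (nat_lit 0x90000d6420000c5e30000ac97000095fa0000cd560000da0400001f2800006f0a) (Net.cons (nat_lit 8) (nat_lit 0xfc00f300ad00c300b5006e00490042007100fd00c2001b009e00830036002500aa) (Net.cons (nat_lit 4) (nat_lit 0x20d0f0809000f00050b0d0001050d040e0a0b020d060a070e0c0f0f000b01090109) (Net.cons (nat_lit 2) (nat_lit 0x312120312302100221112222101323321210110220230011320122111232311131231) (Net.cons (nat_lit 1) (nat_lit 0x11540045101011410445505455150550400110105411541150414045441004040110) Net.nil)))))))))))))))))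

theorem g764_ok : Net.ok 276 g764 = true := by decide +kernel

noncomputable def g765 : Net := (Net.cons (nat_lit 1) (nat_lit 0x144104515155555104554045550511114011100100044505504140154541045111010) (Net.cons (nat_lit 2) (nat_lit 0x330022011013200001210131302202122312211021022331021113211230000102300) (Net.cons (nat_lit 4) (nat_lit 0xd0807030d03080008010f070f000d060106030500030a000d000a040c0d000005) (Net.cons (nat_lit 8) (nat_lit 0xb4009c006b00d300d9006f0060007300b100a0002100db00f9006f008900100000) (Net.cons (nat_lit 16) (nat_lit 0x700009c040000342e000020a100004f55000044410000156d0000522000008410) (Net.cons (nat_lit 32) (nat_lit 0x537a1f43000000001d9da89800000000068096c20000000000014277) (Net.cons (nat_lit 64) (nat_lit 0x660014c3c124e15700000000000000000000000000073549) (Net.cons (nat_lit 128) (nat_lit 0xe555401d3a2ae8b3931e94cec581a1ba) (Net.cons (nat_lit 256) (nat_lit 524287) (Net.cons (nat_lit 128) (nat_lit 436452) (Net.cons (nat_lit 64) (nat_lit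 0x37358d2a5df763c9000000000000000091b4d6f80104e513) (Net.cons (nat_lit 32) (nat_lit 0x62a5f57000000008f06a81c00000000839e2794000000005d239e83) (Net.cons (nat_lit 16) (nat_lit 0x35860000343e0000f12800001e4700004173000051360000a352000010a4) (Net.cons (nat_lit 8) (nat_lit 0x790014003b005b005f00f600ab00e3006400a400b000830020007a0011008400c9) (Net.cons (nat_lit 4) (nat_lit 0x10804020f01020c050d080a0e0e040006050b0a0001030200010d0b08040b050409) (Net.cons (nat_lit 2) (nat_lit 0x221133100012311100310130203312132303201120333221120012300331100013301) (Net.cons (nat_lit 1) (nat_lit 0x144104515155555104554045550511114011100100044505504140154541045111010) Net.nil)))))))))))))))))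

theorem g765_ok : Net.ok 276 g765 = true := by decide +kernel

noncomputable def ct_c13_K : List Net := [g764, n_tw, g491, g765]

theorem ct_c13_K_ok : okE 276 ct_c13_K = true := (okE_cons.2 ⟨g764_ok, (okE_cons.2 ⟨n_tw_ok, (okE_cons.2 ⟨g491_ok, (okE_cons.2 ⟨g765_ok, (okE_nil 276)⟩)⟩)⟩)⟩)

noncomputable def V767 : List Net := [g705, g765]

theorem V767_ok : okE 276 V767 = true := (okE_cons.2 ⟨g705_ok, (okE_cons.2 ⟨g765_ok, (okE_nil 276)⟩)⟩)

noncomputable def V769 : List Net := [g765]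

theorem V769_ok : okE 276 V769 = true := (okE_cons.2 ⟨g765_ok, (okE_nil 276)⟩)

noncomputable def V770 : List Net := []

theorem V770_ok : okE 276 V770 = true := (okE_nil 276)

noncomputable def ct_c13_cnt_EG : List Net := [g706, g524, g705, g491, g444, g445, g446, g447, n_u, g765]

theorem ct_c13_cnt_EG_ok : okE 276 ct_c13_cnt_EG = true := (okE_cons.2 ⟨g706_ok, (okE_cons.2 ⟨g524_ok, (okE_cons.2 ⟨g705_ok, (okE_cons.2 ⟨g491_ok, (okE_cons.2 ⟨g444_ok, (okE_cons.2 ⟨g445_ok, (okE_cons.2 ⟨g446_ok, (okE_cons.2 ⟨g447_ok, (okE_cons.2 ⟨n_u_ok, (okE_cons.2 ⟨g765_ok, (okE_nil 276)⟩)⟩)⟩)⟩)⟩)⟩)⟩)⟩)⟩)⟩)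

noncomputable def g771 : Net := (Net.cons (nat_lit 1) (nat_lit 0x44415544414011015440410054515401155051551501154451545551400111101000) (Net.cons (nat_lit 2) (nat_lit 0x302122113201200222310113232123011030203001020113232222302102212022300) (Net.cons (nat_lit 4) (nat_lit 0x709050e0f060b0c0a000c0505010707010101090b08080c0a0a0309000e00090607) (Net.cons (nat_lit 8) (nat_lit 0x200c100e1005b00cc009d002d00e200b1006d003000c9005600ea00c600900002) (Net.cons (nat_lit 16) (nat_lit 0x40000261b000000a0000016eb0000a2340000d0040000229d0000032800008480) (Net.cons (nat_lit 32) (nat_lit 0x39b59358000000009185b8cc00000000a088dd280000000000037184) (Net.cons (nat_lit 64) (nat_lit 0x2c261341388102a2000000000000000000000000000042b3) (Net.cons (nat_lit 128) (nat_lit 0x385e386b854c95f594292f22b99591e2) (Net.cons (nat_lit 256) (nat_lit 0xff7f7) (Net.cons (nat_lit 128) (nat_lit 37629) (Net.cons (nat_lit 64) (nat_lit 0x9aa2d78c24ef62ab0000000000000000ae30172844a1ad30) (Net.cons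 (nat_lit 32) (nat_lit 0xfc81741900000000f4a0ced400000000591c1e5100000000d4161e82) (Net.cons (nat_lit 16) (nat_lit 0x1000023aa000080e0000033fe00008ffd00001c240000e5de0000cbcc000058c5) (Net.cons (nat_lit 8) (nat_lit 0x1800690061004f007e002c0009007b0013004d000800d30074005300560083009b) (Net.cons (nat_lit 4) (nat_lit 0x9040f0f07030d0200050f04080607000809040b08020d0b0b03000a0e05090d06) (Net.cons (nat_lit 2) (nat_lit 0x302120113201203222310111222123013020203201220113230202202122212032300) (Net.cons (nat_lit 1) (nat_lit 0x44415544414011015440410054515401155051551501154451545551400111101000) Net.nil)))))))))))))))))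

theorem g771_ok : Net.ok 276 g771 = true := by decide +kernel

noncomputable def g772 : Net := (Net.cons (nat_lit 1) (nat_lit 0x551050415555150550441145445540511510045545454040415100041140100510000) (Net.cons (nat_lit 2) (nat_lit 0x12032321230203230130023132131002222130201332011221010132220022023200) (Net.cons (nat_lit 4) (nat_lit 0x20303010205020406050c0b020d0a030c0d08060206090905040600070a000c0508) (Net.cons (nat_lit 8) (nat_lit 0x82008c008c005f0021000e0048001b0023000b00070033001500b4008400920005) (Net.cons (nat_lit 16) (nat_lit 0xf0000470c000069820000920700008a930000dd350000168100009a9000008380) (Net.cons (nat_lit 32) (nat_lit 0x103104c200000000420817c300000000603914060000000000032318) (Net.cons (nat_lit 64) (nat_lit 0x2056129ac6e72d9500000000000000000000000000010201) (Net.cons (nat_lit 128) (nat_lit 0xd0f057f033ca934aa08f442ed42a9ebd) (Net.cons (nat_lit 256) (nat_lit 0xfbfbd) (Net.cons (nat_lit 128) (nat_lit 0xffe9a) (Net.cons (nat_lit 64)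 (nat_lit 0xea1db5245c378d72000000000000000049878d21d8d34ed4) (Net.cons (nat_lit 32) (nat_lit 0x4600c6e50000000011231e0d000000002653bcac00000000002db9b6) (Net.cons (nat_lit 16) (nat_lit 0x2000007560000ab6f000016df0000da9b00005cf90000862c00009adc000083c9) (Net.cons (nat_lit 8) (nat_lit 0x62001f004e00bf00e100ce00e900dd00c200cb00d500f300d700340024005600c5) (Net.cons (nat_lit 4) (nat_lit 0x203020205000b0204050c0a010e0b030d0e080103050a0b050f0000070a050f0708) (Net.cons (nat_lit 2) (nat_lit 0x112033321230203330130023132131002222130301233011221010033220032123200) (Net.cons (nat_lit 1) (nat_lit 0x551050415555150550441145445540511510045545454040415100041140100510000) Net.nil)))))))))))))))))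

theorem g772_ok : Net.ok 276 g772 = true := by decide +kernel

noncomputable def g773 : Net := (Net.cons (nat_lit 1) (nat_lit 0x144014050004505011110540001411444115005555104401044105110411145041010) (Net.cons (nat_lit 2) (nat_lit 0x120323223301220300200101022203010000300132011303320003100102210002000) (Net.cons (nat_lit 4) (nat_lit 0xe08050a030906080c0906000f0208060c0c0d000501000d040608000b01030a0008) (Net.cons (nat_lit 8) (nat_lit 0xd8000f00200003004400ae00b900c000b0004d009e004d00d00028003100820000) (Net.cons (nat_lit 16) (nat_lit 0x400000e0100000e0100000c0f0000459b0000916d000024c70000020000004410) (Net.cons (nat_lit 32) (nat_lit 0x454436e1000000002484a0cf00000000210812190000000000005480) (Net.cons (nat_lit 64) (nat_lit 0xca6c811c80a1c51000000000000000000000000000080890) (Net.cons (nat_lit 128) (nat_lit 0x289a9b1debd160d2d6f534802a345033) (Net.cons (nat_lit 256) (nat_lit 0xf5ef3) (Net.cons (nat_lit 128) (nat_lit 177521) (Net.cons (nat_lit 64)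 (nat_lit 0xea68a53d9624295c0000000000000000e5e3a396f4ca988c) (Net.cons (nat_lit 32) (nat_lit 0x221352a70000000065e2e69d0000000040fc352a00000000404618d1) (Net.cons (nat_lit 16) (nat_lit 0x600002d2a0000ac820000a8c90000e7da000071ae0000cb000000a50e0000a6d0) (Net.cons (nat_lit 8) (nat_lit 0x16008c007500c20080006a007e00020076008800db008b009500ad007500c000c6) (Net.cons (nat_lit 4) (nat_lit 0x600050809090608040906000f0208060c0c0d00070300070c060a020b01030a0008) (Net.cons (nat_lit 2) (nat_lit 0x120323223301220300200101222203010000300132011303320003100102210002000) (Net.cons (nat_lit 1) (nat_lit 0x145014050004505011110540001411444115005555104401044105110411145041010) Net.nil)))))))))))))))))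

theorem g773_ok : Net.ok 276 g773 = true := by decide +kernel

noncomputable def ct_c14_K : List Net := [g771, g772, g773, g724]

theorem ct_c14_K_ok : okE 276 ct_c14_K = true := (okE_cons.2 ⟨g771_ok, (okE_cons.2 ⟨g772_ok, (okE_cons.2 ⟨g773_ok, (okE_cons.2 ⟨g724_ok, (okE_nil 276)⟩)⟩)⟩)⟩)

noncomputable def V775 : List Net := [g709, g771]

theorem V775_ok : okE 276 V775 = true := (okE_cons.2 ⟨g709_ok, (okE_cons.2 ⟨g771_ok, (okE_nil 276)⟩)⟩)

noncomputable def V777 : List Net := [g771]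

theorem V777_ok : okE 276 V777 = true := (okE_cons.2 ⟨g771_ok, (okE_nil 276)⟩)

noncomputable def V778 : List Net := []

theorem V778_ok : okE 276 V778 = true := (okE_nil 276)

noncomputable def ct_c14_cnt_EG : List Net := [g697, g444, g698, g548, g445, g446, g447, n_u, g709, g771]

theorem ct_c14_cnt_EG_ok : okE 276 ct_c14_cnt_EG = true := (okE_cons.2 ⟨g697_ok, (okE_cons.2 ⟨g444_ok, (okE_cons.2 ⟨g698_ok, (okE_cons.2 ⟨g548_ok, (okE_cons.2 ⟨g445_ok, (okE_cons.2 ⟨g446_ok, (okE_cons.2 ⟨g447_ok, (okE_cons.2 ⟨n_u_ok, (okE_cons.2 ⟨g709_ok, (okE_cons.2 ⟨g771_ok, (okE_nil 276)⟩)⟩)⟩)⟩)⟩)⟩)⟩)⟩)⟩)⟩)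

noncomputable def g779 : Net := (Net.cons (nat_lit 1) (nat_lit 0x400554441114415540101054445550154010451011554015450451410114514445400) (Net.cons (nat_lit 2) (nat_lit 0x23210101022310321330100302113013013023301200023122203301021200201000) (Net.cons (nat_lit 4) (nat_lit 0x5080104070e09070600010e06040e080c090a070105040b0105070e0609000104) (Net.cons (nat_lit 8) (nat_lit 0xec00af0060004700610089004500550082001b00ab00a100a40080008e00200001) (Net.cons (nat_lit 16) (nat_lit 0xd000040f60000898300004dbd000080f500002fa00000391100001683000001a0) (Net.cons (nat_lit 32) (nat_lit 0x87ac4e000000009c32574c00000000900de14500000000000da38f) (Net.cons (nat_lit 64) (nat_lit 0x68700c20d90c7192000000000000000000000000000c1585) (Net.cons (nat_lit 128) (nat_lit 0x24fa880ae0e9b00bc802c6aa19817dd8) (Net.cons (nat_lit 256) (nat_lit 917503) (Net.cons (nat_lit 128) (nat_lit 383100) (Net.cons (nat_lit 64) (nat_lit 0x1092fc1f3d670a720000000000000000fe82e5ffc20b0d05) (Net.cons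 (nat_lit 32) (nat_lit 0x82f2812b00000000dc52574800000000b6e91791000000004285c3a2) (Net.cons (nat_lit 16) (nat_lit 0xc00009c9b0000688e0000bcbd00003d3100007e040000dd5d0000b30e00006188) (Net.cons (nat_lit 8) (nat_lit 0x1900cf00c5006e0090002c00bc0075001200bf001a003100250090002e008400e4) (Net.cons (nat_lit 4) (nat_lit 0x40d080900030601030301050f07010602090c0b030c00000b070d070a0309010408) (Net.cons (nat_lit 2) (nat_lit 0x133211301022310321320110302113013113122301201023122203301021300201000) (Net.cons (nat_lit 1) (nat_lit 0x400554441114415540101054445550154010451011554015450451411114514445400) Net.nil)))))))))))))))))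

theorem g779_ok : Net.ok 276 g779 = true := by decide +kernel

noncomputable def g780 : Net := (Net.cons (nat_lit 1) (nat_lit 0x155155045445001040055451441110401000041045445055144110111011450040040) (Net.cons (nat_lit 2) (nat_lit 0x131233020310321011131313330023032221013122130120301103312200003220100) (Net.cons (nat_lit 4) (nat_lit 0x20a0c0a000a030a030808070003000609040b0502010e010e0807010f0f0e0c0108) (Net.cons (nat_lit 8) (nat_lit 0x5400ff00a40015000b000600f300bb000300640086004800a9007a0022006d0008) (Net.cons (nat_lit 16) (nat_lit 0x600002c6900006f7100001ce800002d810000065200002c04000022c400009000) (Net.cons (nat_lit 32) (nat_lit 0x15988c000000000061af6d2b00000000000191c600000000000d2200) (Net.cons (nat_lit 64) (nat_lit 0x22009606d80a1af8000000000000000000000000000b5042) (Net.cons (nat_lit 128) (nat_lit 0xee5b392a4389bace001ee6859da312a1) (Net.cons (nat_lit 256) (nat_lit 0xff2e3) (Net.cons (nat_lit 128) (nat_lit 71347) (Net.cons (nat_lit 64)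 (nat_lit 0x479fc820d99a07ab0000000000000000d5f956b699ab47e7) (Net.cons (nat_lit 32) (nat_lit 0xf2a6a0480000000071cf378c00000000c332a37b00000000de3e29fb) (Net.cons (nat_lit 16) (nat_lit 0x500002d560000032e0000bac90000e9f3000063600000366400002ef60000c962) (Net.cons (nat_lit 8) (nat_lit 0x5c009b00c20059006f005b00b500ff003b006500c9005e00b4002b00700023005c) (Net.cons (nat_lit 4) (nat_lit 0x30b0f09050b020a020b0d02040301060a010a0401040d040f0306040e0e0d0d0009) (Net.cons (nat_lit 2) (nat_lit 0x131231020310321011131313330023032221013122130120301323312000023220100) (Net.cons (nat_lit 1) (nat_lit 0x155155045445001040055451441110401000041045445055144110111011450040040) Net.nil)))))))))))))))))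

theorem g780_ok : Net.ok 276 g780 = true := by decide +kernel

noncomputable def g781 : Net := (Net.cons (nat_lit 1) (nat_lit 0x4544404455451100541005040115404501514441445040101540401114045040440) (Net.cons (nat_lit 2) (nat_lit 0x22130022000103202133002033112130030332001223020102210203101033300000) (Net.cons (nat_lit 4) (nat_lit 0x901070e040c0f0903030b02000c09050e0d0b0b030a0c0e0b0f0e060202090a0004) (Net.cons (nat_lit 8) (nat_lit 0xe002900e0008c00220051008d004b00b6001c001f00390016007d0070005c0001) (Net.cons (nat_lit 16) (nat_lit 0x412f0000b84e00003d4b000044490000d51400002fea0000141a00000b80) (Net.cons (nat_lit 32) (nat_lit 0x579cb2a800000000c26f4b14000000009349608800000000000d5f97) (Net.cons (nat_lit 64) (nat_lit 0x94402c20aae39e7a000000000000000000000000000dc649) (Net.cons (nat_lit 128) (nat_lit 0x6a18659dc95fbd7fb448483b67b16c33) (Net.cons (nat_lit 256) (nat_lit 0xfffff) (Net.cons (nat_lit 128) (nat_lit 77365) (Net.cons (nat_lit 64) (nat_lit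 0x3ca13a262db71f70000000000000000072e55f09861d0eca) (Net.cons (nat_lit 32) (nat_lit 0x2892a02b00000000c96f011600000000dd092d0c00000000ff54d350) (Net.cons (nat_lit 16) (nat_lit 0x80000ce270000ea020000b62a000097950000d01e0000b973000014560000cbc9) (Net.cons (nat_lit 8) (nat_lit 0x8c006600e400ce00f7001c008d001b00ec0018009e00ab00ee003800e600cc0067) (Net.cons (nat_lit 4) (nat_lit 0xd01020b0c0c0a090b0303070c050f010b010f0f030a0c070f0b06020207080a0405) (Net.cons (nat_lit 2) (nat_lit 0x22120022100102202022003133102020120332001233030103210302101033300011) (Net.cons (nat_lit 1) (nat_lit 0x4544004455451100541445040155404101514441445040101544401114045140440) Net.nil)))))))))))))))))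

theorem g781_ok : Net.ok 276 g781 = true := by decide +kernel

noncomputable def ct_c15_K : List Net := [g779, g780, g709, g781]

theorem ct_c15_K_ok : okE 276 ct_c15_K = true := (okE_cons.2 ⟨g779_ok, (okE_cons.2 ⟨g780_ok, (okE_cons.2 ⟨g709_ok, (okE_cons.2 ⟨g781_ok, (okE_nil 276)⟩)⟩)⟩)⟩)

noncomputable def V783 : List Net := [g781]

theorem V783_ok : okE 276 V783 = true := (okE_cons.2 ⟨g781_ok, (okE_nil 276)⟩)

noncomputable def V785 : List Net := []

theorem V785_ok : okE 276 V785 = true := (okE_nil 276)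

noncomputable def ct_c15_cnt_EG : List Net := [g697, g444, g698, g548, g445, g446, g447, n_u, g709, g771, g781]

theorem ct_c15_cnt_EG_ok : okE 276 ct_c15_cnt_EG = true := (okE_cons.2 ⟨g697_ok, (okE_cons.2 ⟨g444_ok, (okE_cons.2 ⟨g698_ok, (okE_cons.2 ⟨g548_ok, (okE_cons.2 ⟨g445_ok, (okE_cons.2 ⟨g446_ok, (okE_cons.2 ⟨g447_ok, (okE_cons.2 ⟨n_u_ok, (okE_cons.2 ⟨g709_ok, (okE_cons.2 ⟨g771_ok, (okE_cons.2 ⟨g781_ok, (okE_nil 276)⟩)⟩)⟩)⟩)⟩)⟩)⟩)⟩)⟩)⟩)⟩)

noncomputable def ct_c16_K : List Net := [g705, g447, g735, g548]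

theorem ct_c16_K_ok : okE 276 ct_c16_K = true := (okE_cons.2 ⟨g705_ok, (okE_cons.2 ⟨g447_ok, (okE_cons.2 ⟨g735_ok, (okE_cons.2 ⟨g548_ok, (okE_nil 276)⟩)⟩)⟩)⟩)

noncomputable def ct_c16_cnt_EG : List Net := [g445, g446, g447, n_u, g444, g716, g717, g548, g684]

theorem ct_c16_cnt_EG_ok : okE 276 ct_c16_cnt_EG = true := (okE_cons.2 ⟨g445_ok, (okE_cons.2 ⟨g446_ok, (okE_cons.2 ⟨g447_ok, (okE_cons.2 ⟨n_u_ok, (okE_cons.2 ⟨g444_ok, (okE_cons.2 ⟨g716_ok, (okE_cons.2 ⟨g717_ok, (okE_cons.2 ⟨g548_ok, (okE_cons.2 ⟨g684_ok, (okE_nil 276)⟩)⟩)⟩)⟩)⟩)⟩)⟩)⟩)⟩)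

noncomputable def ct_c17_K : List Net := [g127, g714, g735, g548]

theorem ct_c17_K_ok : okE 276 ct_c17_K = true := (okE_cons.2 ⟨g127_ok, (okE_cons.2 ⟨g714_ok, (okE_cons.2 ⟨g735_ok, (okE_cons.2 ⟨g548_ok, (okE_nil 276)⟩)⟩)⟩)⟩)

noncomputable def ct_c17_cnt_EG : List Net := [g445, g446, g447, n_u, g444, g716, g717, g548, g684]

theorem ct_c17_cnt_EG_ok : okE 276 ct_c17_cnt_EG = true := (okE_cons.2 ⟨g445_ok, (okE_cons.2 ⟨g446_ok, (okE_cons.2 ⟨g447_ok, (okE_cons.2 ⟨n_u_ok, (okE_cons.2 ⟨g444_ok, (okE_cons.2 ⟨g716_ok, (okE_cons.2 ⟨g717_ok, (okE_cons.2 ⟨g548_ok, (okE_cons.2 ⟨g684_ok, (okE_nil 276)⟩)⟩)⟩)⟩)⟩)⟩)⟩)⟩)⟩)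

noncomputable def ct_c18_K : List Net := [g712, g692, g735, g548]

theorem ct_c18_K_ok : okE 276 ct_c18_K = true := (okE_cons.2 ⟨g712_ok, (okE_cons.2 ⟨g692_ok, (okE_cons.2 ⟨g735_ok, (okE_cons.2 ⟨g548_ok, (okE_nil 276)⟩)⟩)⟩)⟩)

noncomputable def ct_c18_cnt_EG : List Net := [g445, g446, g447, n_u, g444, g716, g717, g548, g684]

theorem ct_c18_cnt_EG_ok : okE 276 ct_c18_cnt_EG = true := (okE_cons.2 ⟨g445_ok, (okE_cons.2 ⟨g446_ok, (okE_cons.2 ⟨g447_ok, (okE_cons.2 ⟨n_u_ok, (okE_cons.2 ⟨g444_ok, (okE_cons.2 ⟨g716_ok, (okE_cons.2 ⟨g717_ok, (okE_cons.2 ⟨g548_ok, (okE_cons.2 ⟨g684_ok, (okE_nil 276)⟩)⟩)⟩)⟩)⟩)⟩)⟩)⟩)⟩)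

noncomputable def ct_c19_K : List Net := [g717, g447, g705, g491]

theorem ct_c19_K_ok : okE 276 ct_c19_K = true := (okE_cons.2 ⟨g717_ok, (okE_cons.2 ⟨g447_ok, (okE_cons.2 ⟨g705_ok, (okE_cons.2 ⟨g491_ok, (okE_nil 276)⟩)⟩)⟩)⟩)

noncomputable def ct_c19_cnt_EG : List Net := [g524, g705, g491, g706, g444, g445, g446, g447, n_u]

theorem ct_c19_cnt_EG_ok : okE 276 ct_c19_cnt_EG = true := (okE_cons.2 ⟨g524_ok, (okE_cons.2 ⟨g705_ok, (okE_cons.2 ⟨g491_ok, (okE_cons.2 ⟨g706_ok, (okE_cons.2 ⟨g444_ok, (okE_cons.2 ⟨g445_ok, (okE_cons.2 ⟨g446_ok, (okE_cons.2 ⟨g447_ok, (okE_cons.2 ⟨n_u_ok, (okE_nil 276)⟩)⟩)⟩)⟩)⟩)⟩)⟩)⟩)⟩)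

noncomputable def g790 : Net := (Net.cons (nat_lit 1) (nat_lit 0x51015001441150044505154505015015044401545555055515050515054155014440) (Net.cons (nat_lit 2) (nat_lit 0x111130021301312201232122032203300302030230121000103302000311113321010) (Net.cons (nat_lit 4) (nat_lit 0xe000e0e05050c0104070500010d0d0b020a02020302070e020909010d0309080800) (Net.cons (nat_lit 8) (nat_lit 0x6b005e000c007800ea007a00040044001000b4005600d000730097000d0010000c) (Net.cons (nat_lit 16) (nat_lit 0x400003e1e000021410000a68b00000b1600006e7c0000c1ca00006c930000a090) (Net.cons (nat_lit 32) (nat_lit 0xb33b880900000000608d86300000000029928893000000000002a28d) (Net.cons (nat_lit 64) (nat_lit 0x220317c009431b100000000000000000000000000062291) (Net.cons (nat_lit 128) (nat_lit 0xfc20bc64d1fb0312f3c485980e697318) (Net.cons (nat_lit 256) (nat_lit 0xff39d) (Net.cons (nat_lit 128) (nat_lit 394935) (Net.cons (nat_lit 64) (nat_lit 0x28c0977ad94b29750000000000000000585573a283037c6a) (Net.cons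 (nat_lit 32) (nat_lit 0x408c90a300000000f6bfca6500000000c28ec4c400000000a548bfc8) (Net.cons (nat_lit 16) (nat_lit 0x7000027b6000074d4000060790000dc460000527c0000f29e00005a6400007d99) (Net.cons (nat_lit 8) (nat_lit 0xe600cb00380000006c00af000d006600470053004c00f300c700cf000600fb00b6) (Net.cons (nat_lit 4) (nat_lit 0x40901070707030d000b000f00000e0f070c0d090e06040b0a040800080d0b0c0106) (Net.cons (nat_lit 2) (nat_lit 0x213012130202031121020233022103002313311121133012111030033012112032111) (Net.cons (nat_lit 1) (nat_lit 0x40441054440154505104151404045411504051551540454015004404114114410504) Net.nil)))))))))))))))))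

theorem g790_ok : Net.ok 276 g790 = true := by decide +kernel

noncomputable def ct_c20_K : List Net := [g790, g444, g698, g548]

theorem ct_c20_K_ok : okE 276 ct_c20_K = true := (okE_cons.2 ⟨g790_ok, (okE_cons.2 ⟨g444_ok, (okE_cons.2 ⟨g698_ok, (okE_cons.2 ⟨g548_ok, (okE_nil 276)⟩)⟩)⟩)⟩)

noncomputable def ct_c20_cnt_EG : List Net := [g444, g445, g446, g447, n_u, g697, g698, g548]

theorem ct_c20_cnt_EG_ok : okE 276 ct_c20_cnt_EG = true := (okE_cons.2 ⟨g444_ok, (okE_cons.2 ⟨g445_ok, (okE_cons.2 ⟨g446_ok, (okE_cons.2 ⟨g447_ok, (okE_cons.2 ⟨n_u_ok, (okE_cons.2 ⟨g697_ok, (okE_cons.2 ⟨g698_ok, (okE_cons.2 ⟨g548_ok, (okE_nil 276)⟩)⟩)⟩)⟩)⟩)⟩)⟩)⟩)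

noncomputable def g792 : Net := (Net.cons (nat_lit 1) (nat_lit 0x400444100445001155140544145101441541101540444141144555450001510041110) (Net.cons (nat_lit 2) (nat_lit 0x21223331010113311000012231300111121210110101011111233312222120310310) (Net.cons (nat_lit 4) (nat_lit 0x20904020a090705070402060b06060f00080b0a01080d000801060204070c030508) (Net.cons (nat_lit 8) (nat_lit 0x1c001200910058002000da006e007300b100f90077009b0004000100860021000d) (Net.cons (nat_lit 16) (nat_lit 0x20000a1b900000bd1000040990000aa02000093d5000004890000133400001050) (Net.cons (nat_lit 32) (nat_lit 0xb56010280000000090138d0400000000b00898140000000000004080) (Net.cons (nat_lit 64) (nat_lit 0x810044a7c0ce5a00000000000000000000000000000f850c) (Net.cons (nat_lit 128) (nat_lit 0xdc895029d7c7d9aa0abf3b541965850) (Net.cons (nat_lit 256) (nat_lit 0xfdddc) (Net.cons (nat_lit 128) (nat_lit 275015) (Net.cons (nat_lit 64) (nat_lit 0x499ff970b6d1aafd000000000000000074b4da3709532c2f) (Net.cons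 (nat_lit 32) (nat_lit 0x7b09d8330000000062136d24000000005e335679000000003778efd0) (Net.cons (nat_lit 16) (nat_lit 0xa000095520000a22c000022680000ab160000876500004d340000516b00006481) (Net.cons (nat_lit 8) (nat_lit 0xf900590035003000f500f800fc00b600120065004a0094004a00d8003100d00016) (Net.cons (nat_lit 4) (nat_lit 0xc08070b0005060b0f0c090f070f0d0300020e000c040b00050f0a0e070d050b0000) (Net.cons (nat_lit 2) (nat_lit 0x113201310120230113011032213103011222331000313221121022133302310223011) (Net.cons (nat_lit 1) (nat_lit 0x44410501100140045155001151544045001054515404441104004040050145144441) Net.nil)))))))))))))))))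

theorem g792_ok : Net.ok 276 g792 = true := by decide +kernel

noncomputable def ct_c21_K : List Net := [g792, g716, g717, g548]

theorem ct_c21_K_ok : okE 276 ct_c21_K = true := (okE_cons.2 ⟨g792_ok, (okE_cons.2 ⟨g716_ok, (okE_cons.2 ⟨g717_ok, (okE_cons.2 ⟨g548_ok, (okE_nil 276)⟩)⟩)⟩)⟩)

noncomputable def ct_c21_cnt_EG : List Net := [g445, g446, g447, n_u, g444, g716, g717, g548]

theorem ct_c21_cnt_EG_ok : okE 276 ct_c21_cnt_EG = true := (okE_cons.2 ⟨g445_ok, (okE_cons.2 ⟨g446_ok, (okE_cons.2 ⟨g447_ok, (okE_cons.2 ⟨n_u_ok, (okE_cons.2 ⟨g444_ok, (okE_cons.2 ⟨g716_ok, (okE_cons.2 ⟨g717_ok, (okE_cons.2 ⟨g548_ok, (okE_nil 276)⟩)⟩)⟩)⟩)⟩)⟩)⟩)⟩)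

noncomputable def g794 : Net := (Net.cons (nat_lit 1) (nat_lit 0x501010404045005055454045411410151145411504415504000041440551040104410) (Net.cons (nat_lit 2) (nat_lit 0x331110110300003232002222000221111120001210021032322120022323013131200) (Net.cons (nat_lit 4) (nat_lit 0x4070a09000d000e0c01010e000409040e000c03080f070401010d000a06070f0204) (Net.cons (nat_lit 8) (nat_lit 0xbc002f00e800d900a100e100b7000a008b005300090011000a002a009e00100004) (Net.cons (nat_lit 16) (nat_lit 0xf0000d26c0000fbfb00009cc90000951f000022b60000198e00006b9400003660) (Net.cons (nat_lit 32) (nat_lit 0x92dc9d0b00000000907f086d0000000011813cc100000000000013f1) (Net.cons (nat_lit 64) (nat_lit 0x40045d1007938828000000000000000000000000000360ac) (Net.cons (nat_lit 128) (nat_lit 0x6db08704509c8e6f817478335f028a69) (Net.cons (nat_lit 256) (nat_lit 786429) (Net.cons (nat_lit 128) (nat_lit 384042) (Net.cons (nat_lit 64) (nat_lit 0x4823f6f993cfca36000000000000000017c159b7544a60b2) (Net.cons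 (nat_lit 32) (nat_lit 0x3c785a500000000049bdd68900000000078402c300000000a8e15851) (Net.cons (nat_lit 16) (nat_lit 0x3000015a30000734b000034c90000b3bb0000937a0000434000009a710000b3dc) (Net.cons (nat_lit 8) (nat_lit 0x600690052008200ac00e800f7007200ed007300ab005e009100d9000d00a00084) (Net.cons (nat_lit 4) (nat_lit 0x50d0e040a050208020a0c0c0c070a020a0605080b070204070c0b0a0c060a07090a) (Net.cons (nat_lit 2) (nat_lit 0x210022211232000002203333020203002033030010320122310021211201111011213) (Net.cons (nat_lit 1) (nat_lit 0x441001011544550501050150451551115440014005101015141450401501051505441) Net.nil)))))))))))))))))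

theorem g794_ok : Net.ok 276 g794 = true := by decide +kernel

noncomputable def g795 : Net := (Net.cons (nat_lit 1) (nat_lit 0x500514445010005445004145000001545411154544515550110445541054410444040) (Net.cons (nat_lit 2) (nat_lit 0x330302022022220101003020010132200022132000032111121130311200333003200) (Net.cons (nat_lit 4) (nat_lit 0x503090c0c0506070d060700040b0d0a04080a0e0200050306060a07050d0b010208) (Net.cons (nat_lit 8) (nat_lit 0x8d004b00a500b60004006f005000a4006a0042003000fe00f50039000900410008) (Net.cons (nat_lit 16) (nat_lit 0xc0000adc0000032a1000031c60000988e000028140000224900002ca000000c60) (Net.cons (nat_lit 32) (nat_lit 0xc15a0a6000000000bc4348860000000008054031000000000008f00d) (Net.cons (nat_lit 64) (nat_lit 0x3230ba890110bd4200000000000000000000000000046800) (Net.cons (nat_lit 128) (nat_lit 0x69dc07f010a1240792a7fc297f7218f0) (Net.cons (nat_lit 256) (nat_lit 982525) (Net.cons (nat_lit 128) (nat_lit 37756) (Net.cons (nat_lit 64) (nat_lit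 0xee17b1b92fcd795e000000000000000094f9063fde561069) (Net.cons (nat_lit 32) (nat_lit 0x7cfbe3e200000000c5d72c47000000006679db0a000000009df906b0) (Net.cons (nat_lit 16) (nat_lit 0x10000505400001bec0000eb5d0000331d0000cbb0000066680000706c00009701) (Net.cons (nat_lit 8) (nat_lit 0x3300f600280031000c0038004e00ad008f008100ec001200d1005e00a000b60084) (Net.cons (nat_lit 4) (nat_lit 0xb070e030d00000b090c0a0604080d09090d090f07010506010e000401010b030401) (Net.cons (nat_lit 2) (nat_lit 0x102300000033220200022032231112220100122302003120022131110300020013220) (Net.cons (nat_lit 1) (nat_lit 0x44445451400440045104154140540555444014511510015051114454401155514414) Net.nil)))))))))))))))))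

theorem g795_ok : Net.ok 276 g795 = true := by decide +kernel

noncomputable def ct_c22_K : List Net := [g794, g795, g445, g548]

theorem ct_c22_K_ok : okE 276 ct_c22_K = true := (okE_cons.2 ⟨g794_ok, (okE_cons.2 ⟨g795_ok, (okE_cons.2 ⟨g445_ok, (okE_cons.2 ⟨g548_ok, (okE_nil 276)⟩)⟩)⟩)⟩)

noncomputable def ct_c22_cnt_EG : List Net := [g445, g446, g447, n_u, g444, g716, g717, g548]

theorem ct_c22_cnt_EG_ok : okE 276 ct_c22_cnt_EG = true := (okE_cons.2 ⟨g445_ok, (okE_cons.2 ⟨g446_ok, (okE_cons.2 ⟨g447_ok, (okE_cons.2 ⟨n_u_ok, (okE_cons.2 ⟨g444_ok, (okE_cons.2 ⟨g716_ok, (okE_cons.2 ⟨g717_ok, (okE_cons.2 ⟨g548_ok, (okE_nil 276)⟩)⟩)⟩)⟩)⟩)⟩)⟩)⟩)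

noncomputable def g797 : Net := (Net.cons (nat_lit 1) (nat_lit 0x554105145540405051114101541505151411451444545555400550105401114415400) (Net.cons (nat_lit 2) (nat_lit 0x311000123021103030003103313021233203132101222321013120020111203330100) (Net.cons (nat_lit 4) (nat_lit 0xd0003020f04090e060f02080d0f0e0a0f0a07020a0e0109030a04090f050d050904) (Net.cons (nat_lit 8) (nat_lit 0x9800b3000f00b9003400b9000300fd009900c700a6000b00c5006b00f80028000e) (Net.cons (nat_lit 16) (nat_lit 0x800009062000010320000e5aa000014b800009380000047450000278100001080) (Net.cons (nat_lit 32) (nat_lit 0xa4233fd0000000007658742000000000138a81a700000000000c00a2) (Net.cons (nat_lit 64) (nat_lit 0x40d9188dc86211b00000000000000000000000000062114) (Net.cons (nat_lit 128) (nat_lit 0xb1ba23cbc462ae023e2798103984005e) (Net.cons (nat_lit 256) (nat_lit 995838) (Net.cons (nat_lit 128) (nat_lit 575457) (Net.cons (nat_lit 64) (nat_lit 0x290925ced75680c10000000000000000a7061218c46168bd) (Net.cons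 (nat_lit 32) (nat_lit 0x2d178bb6000000006b12108e00000000f03a14ad000000003011ded3) (Net.cons (nat_lit 16) (nat_lit 0xe0000a6560000b06b000065ed00005a200000bab40000a0860000faac000007e9) (Net.cons (nat_lit 8) (nat_lit 0xbd008e008b003f002a00d500a100ad008b00d0006100450093006e006900f800d6) (Net.cons (nat_lit 4) (nat_lit 0x802000c0b020f06060e020301070d0a0d0a09000e0701050d050f0106050b070006) (Net.cons (nat_lit 2) (nat_lit 0x10012031113021013003102231011000231103112101301102200031321001011120) (Net.cons (nat_lit 1) (nat_lit 0x511105101555510045140445051551455050054544100515441415514450141504445) Net.nil)))))))))))))))))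

theorem g797_ok : Net.ok 276 g797 = true := by decide +kernel

noncomputable def ct_c23_K : List Net := [g797, g526, g445, g548]

theorem ct_c23_K_ok : okE 276 ct_c23_K = true := (okE_cons.2 ⟨g797_ok, (okE_cons.2 ⟨g526_ok, (okE_cons.2 ⟨g445_ok, (okE_cons.2 ⟨g548_ok, (okE_nil 276)⟩)⟩)⟩)⟩)

noncomputable def ct_c23_cnt_EG : List Net := [g445, g446, g447, n_u, g444, g716, g717, g548]

theorem ct_c23_cnt_EG_ok : okE 276 ct_c23_cnt_EG = true := (okE_cons.2 ⟨g445_ok, (okE_cons.2 ⟨g446_ok, (okE_cons.2 ⟨g447_ok, (okE_cons.2 ⟨n_u_ok, (okE_cons.2 ⟨g444_ok, (okE_cons.2 ⟨g716_ok, (okE_cons.2 ⟨g717_ok, (okE_cons.2 ⟨g548_ok, (okE_nil 276)⟩)⟩)⟩)⟩)⟩)⟩)⟩)⟩)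

noncomputable def g799 : Net := (Net.cons (nat_lit 1) (nat_lit 0x111111154451440545151500550101415551514001040550451100110540410505000) (Net.cons (nat_lit 2) (nat_lit 0x201100213001110023113021210002320210113303201010031003112202313101020) (Net.cons (nat_lit 4) (nat_lit 0xa0100040e09040a060a000d08050d07050606030e0a0d0702020f010a0104030a01) (Net.cons (nat_lit 8) (nat_lit 0x200e700ba00d8003c00af008e0043009e0060008e0017001b0040006600220006) (Net.cons (nat_lit 16) (nat_lit 0x20000e4800000b95e00004e09000035910000229100000cfa00003254000000e0) (Net.cons (nat_lit 32) (nat_lit 0xc4ee1e8a0000000014039c2f00000000830103690000000000020407) (Net.cons (nat_lit 64) (nat_lit 0x858070e153efe0d0000000000000000000000000005a95f) (Net.cons (nat_lit 128) (nat_lit 0x40df6d029b5707522b00fa4c2463d61b) (Net.cons (nat_lit 256) (nat_lit 524287) (Net.cons (nat_lit 128) (nat_lit 600310) (Net.cons (nat_lit 64) (nat_lit 0x3e01a9b1afdb740d0000000000000000fc9c763e77c4b100) (Net.cons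 (nat_lit 32) (nat_lit 0x6fd61c83000000001409654800000000714376d0000000002b4b5eb8) (Net.cons (nat_lit 16) (nat_lit 0x20000574f000012d6000042cd0000abb90000750b000010a8000082aa00004aad) (Net.cons (nat_lit 8) (nat_lit 0xe000cc00b00012003d0020003a00c800ec004000cf00f900e2004700660009005d) (Net.cons (nat_lit 4) (nat_lit 0xb0f070f01030700020e0c030d0d03010f090e0d0c0a0c050b010d0a040e070c0e08) (Net.cons (nat_lit 2) (nat_lit 0x220100331331332213102132313003302323121213200222112120210000000020123) (Net.cons (nat_lit 1) (nat_lit 0x555051005100415550105540551504115455141551010510550504415441504414555) Net.nil)))))))))))))))))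

theorem g799_ok : Net.ok 276 g799 = true := by decide +kernel

noncomputable def ct_c24_K : List Net := [g799, g667, g695, g548]

theorem ct_c24_K_ok : okE 276 ct_c24_K = true := (okE_cons.2 ⟨g799_ok, (okE_cons.2 ⟨g667_ok, (okE_cons.2 ⟨g695_ok, (okE_cons.2 ⟨g548_ok, (okE_nil 276)⟩)⟩)⟩)⟩)

noncomputable def ct_c24_cnt_EG : List Net := [g444, g445, g446, g447, n_u, g697, g698, g548]

theorem ct_c24_cnt_EG_ok : okE 276 ct_c24_cnt_EG = true := (okE_cons.2 ⟨g444_ok, (okE_cons.2 ⟨g445_ok, (okE_cons.2 ⟨g446_ok, (okE_cons.2 ⟨g447_ok, (okE_cons.2 ⟨n_u_ok, (okE_cons.2 ⟨g697_ok, (okE_cons.2 ⟨g698_ok, (okE_cons.2 ⟨g548_ok, (okE_nil 276)⟩)⟩)⟩)⟩)⟩)⟩)⟩)⟩)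

noncomputable def ct_c25_K : List Net := [g735, g447, g705, g491]

theorem ct_c25_K_ok : okE 276 ct_c25_K = true := (okE_cons.2 ⟨g735_ok, (okE_cons.2 ⟨g447_ok, (okE_cons.2 ⟨g705_ok, (okE_cons.2 ⟨g491_ok, (okE_nil 276)⟩)⟩)⟩)⟩)

noncomputable def ct_c25_cnt_EG : List Net := [g524, g705, g491, g706, g444, g445, g446, g447, n_u]

theorem ct_c25_cnt_EG_ok : okE 276 ct_c25_cnt_EG = true := (okE_cons.2 ⟨g524_ok, (okE_cons.2 ⟨g705_ok, (okE_cons.2 ⟨g491_ok, (okE_cons.2 ⟨g706_ok, (okE_cons.2 ⟨g444_ok, (okE_cons.2 ⟨g445_ok, (okE_cons.2 ⟨g446_ok, (okE_cons.2 ⟨g447_ok, (okE_cons.2 ⟨n_u_ok, (okE_nil 276)⟩)⟩)⟩)⟩)⟩)⟩)⟩)⟩)⟩)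

noncomputable def ct_c26_K : List Net := [g795, g710, g698, g548]

theorem ct_c26_K_ok : okE 276 ct_c26_K = true := (okE_cons.2 ⟨g795_ok, (okE_cons.2 ⟨g710_ok, (okE_cons.2 ⟨g698_ok, (okE_cons.2 ⟨g548_ok, (okE_nil 276)⟩)⟩)⟩)⟩)

noncomputable def ct_c26_cnt_EG : List Net := [g444, g445, g446, g447, n_u, g697, g698, g548]

theorem ct_c26_cnt_EG_ok : okE 276 ct_c26_cnt_EG = true := (okE_cons.2 ⟨g444_ok, (okE_cons.2 ⟨g445_ok, (okE_cons.2 ⟨g446_ok, (okE_cons.2 ⟨g447_ok, (okE_cons.2 ⟨n_u_ok, (okE_cons.2 ⟨g697_ok, (okE_cons.2 ⟨g698_ok, (okE_cons.2 ⟨g548_ok, (okE_nil 276)⟩)⟩)⟩)⟩)⟩)⟩)⟩)⟩)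

noncomputable def ct_c27_K : List Net := [g524, g692, g717, g548]

theorem ct_c27_K_ok : okE 276 ct_c27_K = true := (okE_cons.2 ⟨g524_ok, (okE_cons.2 ⟨g692_ok, (okE_cons.2 ⟨g717_ok, (okE_cons.2 ⟨g548_ok, (okE_nil 276)⟩)⟩)⟩)⟩)

noncomputable def ct_c27_cnt_EG : List Net := [g445, g446, g447, n_u, g444, g716, g717, g548]

theorem ct_c27_cnt_EG_ok : okE 276 ct_c27_cnt_EG = true := (okE_cons.2 ⟨g445_ok, (okE_cons.2 ⟨g446_ok, (okE_cons.2 ⟨g447_ok, (okE_cons.2 ⟨n_u_ok, (okE_cons.2 ⟨g444_ok, (okE_cons.2 ⟨g716_ok, (okE_cons.2 ⟨g717_ok, (okE_cons.2 ⟨g548_ok, (okE_nil 276)⟩)⟩)⟩)⟩)⟩)⟩)⟩)⟩)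

noncomputable def g804 : Net := (Net.cons (nat_lit 1) (nat_lit 0x400000500440401450054140151150551115501155415400104001551111045151440) (Net.cons (nat_lit 2) (nat_lit 0x213202223210123113001102201233221020322101113332121133003000223121320) (Net.cons (nat_lit 4) (nat_lit 0x304050f050008030b0e0a060205030407000c0a040e070c07040001000f070a0005) (Net.cons (nat_lit 8) (nat_lit 0x3400ed003e005900e100aa007e00d900f700e7005900600083001800150030000b) (Net.cons (nat_lit 16) (nat_lit 0x48a900003082000001f8000091b1000090b1000038eb00008a6400001820) (Net.cons (nat_lit 32) (nat_lit 0x86a1550c00000000a0dad1390000000028337888000000000000867b) (Net.cons (nat_lit 64) (nat_lit 0x24a814840865a006000000000000000000000000000a5900) (Net.cons (nat_lit 128) (nat_lit 0x6526f86f92ac6e9f8ec7b7ac351809f) (Net.cons (nat_lit 256) (nat_lit 0xfffff) (Net.cons (nat_lit 128) (nat_lit 794779) (Net.cons (nat_lit 64) (nat_lit 0x9dc953a217fe742f00000000000000002d98826ea33df78f) (Net.cons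 (nat_lit 32) (nat_lit 0x6d473870000000048aac43b00000000a36764ae0000000046d11412) (Net.cons (nat_lit 16) (nat_lit 0xf0000032600001231000087890000a543000084b30000440f0000df0a00007880) (Net.cons (nat_lit 8) (nat_lit 0x32003c001600f100be001e00060079006500db005400db003100c7004000500043) (Net.cons (nat_lit 4) (nat_lit 0x2070d06050c0706030b0d0a000d040f0c00040a090c090005000301010e0a040b05) (Net.cons (nat_lit 2) (nat_lit 0x31121303233313002211221113303222111210230303112000321110111323111102) (Net.cons (nat_lit 1) (nat_lit 0x504145554445550001411044145001151151441545445144105001115101015454141) Net.nil)))))))))))))))))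

theorem g804_ok : Net.ok 276 g804 = true := by decide +kernel

noncomputable def ct_c28_K : List Net := [g804, g714, g735, g548]

theorem ct_c28_K_ok : okE 276 ct_c28_K = true := (okE_cons.2 ⟨g804_ok, (okE_cons.2 ⟨g714_ok, (okE_cons.2 ⟨g735_ok, (okE_cons.2 ⟨g548_ok, (okE_nil 276)⟩)⟩)⟩)⟩)

noncomputable def ct_c28_cnt_EG : List Net := [g445, g446, g447, n_u, g444, g716, g717, g548, g684]

theorem ct_c28_cnt_EG_ok : okE 276 ct_c28_cnt_EG = true := (okE_cons.2 ⟨g445_ok, (okE_cons.2 ⟨g446_ok, (okE_cons.2 ⟨g447_ok, (okE_cons.2 ⟨n_u_ok, (okE_cons.2 ⟨g444_ok, (okE_cons.2 ⟨g716_ok, (okE_cons.2 ⟨g717_ok, (okE_cons.2 ⟨g548_ok, (okE_cons.2 ⟨g684_ok, (okE_nil 276)⟩)⟩)⟩)⟩)⟩)⟩)⟩)⟩)⟩)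

noncomputable def ct_c29_K : List Net := [g546, g714, g684, g548]

theorem ct_c29_K_ok : okE 276 ct_c29_K = true := (okE_cons.2 ⟨g546_ok, (okE_cons.2 ⟨g714_ok, (okE_cons.2 ⟨g684_ok, (okE_cons.2 ⟨g548_ok, (okE_nil 276)⟩)⟩)⟩)⟩)

noncomputable def ct_c29_cnt_EG : List Net := [g445, g446, g447, n_u, g444, g716, g717, g548, g684]

theorem ct_c29_cnt_EG_ok : okE 276 ct_c29_cnt_EG = true := (okE_cons.2 ⟨g445_ok, (okE_cons.2 ⟨g446_ok, (okE_cons.2 ⟨g447_ok, (okE_cons.2 ⟨n_u_ok, (okE_cons.2 ⟨g444_ok, (okE_cons.2 ⟨g716_ok, (okE_cons.2 ⟨g717_ok, (okE_cons.2 ⟨g548_ok, (okE_cons.2 ⟨g684_ok, (okE_nil 276)⟩)⟩)⟩)⟩)⟩)⟩)⟩)⟩)⟩)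

noncomputable def g807 : Net := (Net.cons (nat_lit 1) (nat_lit 0x400101110055000504401410441004004101545500545405440115551455011151100) (Net.cons (nat_lit 2) (nat_lit 0x132131301201320030323011302330203330002333220101022303123121322203100) (Net.cons (nat_lit 4) (nat_lit 0x708040b0b0c03090b0d08050d090a010806010406090a010704000a08030c010000) (Net.cons (nat_lit 8) (nat_lit 0x1b006700bf003e00ea00e100e000bd000d0046000100a900de00660048000b0002) (Net.cons (nat_lit 16) (nat_lit 0x10000bcaa0000a09600007b290000480a0000d9a5000012bc000042c600001160) (Net.cons (nat_lit 32) (nat_lit 0xb0f8f63400000000817b14ca00000000042c269a0000000000002c01) (Net.cons (nat_lit 64) (nat_lit 0x58110ea8c002ac20000000000000000000000000000256c0) (Net.cons (nat_lit 128) (nat_lit 0xbda2a0a6d3423b7ac53fff4c145a0d62) (Net.cons (nat_lit 256) (nat_lit 753635) (Net.cons (nat_lit 128) (nat_lit 772940) (Net.cons (nat_lit 64) (nat_lit 0x929b9324df22e69e0000000000000000bfa4c1f3fb39e440) (Net.cons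 (nat_lit 32) (nat_lit 0xc74cbdcd00000000892b55b000000000dc76cfbc00000000e8811ea1) (Net.cons (nat_lit 16) (nat_lit 0x28cb00005c3c0000b4d00000a6340000b04700008779000026c600005da8) (Net.cons (nat_lit 8) (nat_lit 0x2d00ac00b800a8002700880085008100c700a3005900b2006b00870089003b0083) (Net.cons (nat_lit 4) (nat_lit 0x80d0f0501020805080400020f0004040f06070c00020b08020f040a06030c020800) (Net.cons (nat_lit 2) (nat_lit 0x323322102000023220210012320011023301122110130221032013002203222312200) (Net.cons (nat_lit 1) (nat_lit 0x404540504110111500514445410045040145515554504551415015000511040054145) Net.nil)))))))))))))))))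

theorem g807_ok : Net.ok 276 g807 = true := by decide +kernel

noncomputable def ct_c30_K : List Net := [g522, g807, g695, g548]

theorem ct_c30_K_ok : okE 276 ct_c30_K = true := (okE_cons.2 ⟨g522_ok, (okE_cons.2 ⟨g807_ok, (okE_cons.2 ⟨g695_ok, (okE_cons.2 ⟨g548_ok, (okE_nil 276)⟩)⟩)⟩)⟩)

noncomputable def ct_c30_cnt_EG : List Net := [g444, g445, g446, g447, n_u, g697, g698, g548]

theorem ct_c30_cnt_EG_ok : okE 276 ct_c30_cnt_EG = true := (okE_cons.2 ⟨g444_ok, (okE_cons.2 ⟨g445_ok, (okE_cons.2 ⟨g446_ok, (okE_cons.2 ⟨g447_ok, (okE_cons.2 ⟨n_u_ok, (okE_cons.2 ⟨g697_ok, (okE_cons.2 ⟨g698_ok, (okE_cons.2 ⟨g548_ok, (okE_nil 276)⟩)⟩)⟩)⟩)⟩)⟩)⟩)⟩)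

noncomputable def g809 : Net := (Net.cons (nat_lit 1) (nat_lit 0x554501455554514140154054044511404400050015440551440000404514055005150) (Net.cons (nat_lit 2) (nat_lit 0x310123300331323222302203002111020131021321122012303200231312011013030) (Net.cons (nat_lit 4) (nat_lit 0xf0b0d0601040e0f070e0f080e0006000b0d090204000904060d0b0b0408030c0b01) (Net.cons (nat_lit 8) (nat_lit 0x95002d002000ca00d0002c00c600b500d0001e0056008000810001000100e10006) (Net.cons (nat_lit 16) (nat_lit 0x300008e760000389d0000461c0000c2c70000798e00005ab0000098970000d090) (Net.cons (nat_lit 32) (nat_lit 0x94301c2e00000000879770480000000092035c000000000000008c90) (Net.cons (nat_lit 64) (nat_lit 0x8c1d8a948004055b00000000000000000000000000034a81) (Net.cons (nat_lit 128) (nat_lit 0x74ee77a2846a668fbb51995610645177) (Net.cons (nat_lit 256) (nat_lit 0xfdff7) (Net.cons (nat_lit 128) (nat_lit 227761) (Net.cons (nat_lit 64) (nat_lit 0x725e8e0a679d491e0000000000000000412930c1d79bc491) (Net.cons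 (nat_lit 32) (nat_lit 0xf2add843000000007594410b00000000f7bb769d00000000ee0201b5) (Net.cons (nat_lit 16) (nat_lit 0x10000ec5a0000aa140000fe050000cfef0000f44f000012310000c1c8000092ea) (Net.cons (nat_lit 8) (nat_lit 0xa8003f000300ed00c600bc004e00fb009000dc007400be00ba000a005c00790059) (Net.cons (nat_lit 4) (nat_lit 0xb0106010e0c0e05040606050d080d020d0e0a0a06020806010d0a080402050e0606) (Net.cons (nat_lit 2) (nat_lit 0x231201032032202020231102123311032120202030001223033220011300210023101) (Net.cons (nat_lit 1) (nat_lit 0x41441104115455145540115440544545101014541141055041440441150554515450) Net.nil)))))))))))))))))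

theorem g809_ok : Net.ok 276 g809 = true := by decide +kernel

noncomputable def ct_c31_K : List Net := [g698, g809, g705, g491]

theorem ct_c31_K_ok : okE 276 ct_c31_K = true := (okE_cons.2 ⟨g698_ok, (okE_cons.2 ⟨g809_ok, (okE_cons.2 ⟨g705_ok, (okE_cons.2 ⟨g491_ok, (okE_nil 276)⟩)⟩)⟩)⟩)

noncomputable def ct_c31_cnt_EG : List Net := [g524, g705, g491, g706, g444, g445, g446, g447, n_u]

theorem ct_c31_cnt_EG_ok : okE 276 ct_c31_cnt_EG = true := (okE_cons.2 ⟨g524_ok, (okE_cons.2 ⟨g705_ok, (okE_cons.2 ⟨g491_ok, (okE_cons.2 ⟨g706_ok, (okE_cons.2 ⟨g444_ok, (okE_cons.2 ⟨g445_ok, (okE_cons.2 ⟨g446_ok, (okE_cons.2 ⟨g447_ok, (okE_cons.2 ⟨n_u_ok, (okE_nil 276)⟩)⟩)⟩)⟩)⟩)⟩)⟩)⟩)⟩)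

noncomputable def g811 : Net := (Net.cons (nat_lit 1) (nat_lit 0x544540515500001550041151145450554415100045405411054401504550414150404) (Net.cons (nat_lit 2) (nat_lit 0x101110123312201302212202233302122203230233132001203313103010113000200) (Net.cons (nat_lit 4) (nat_lit 0xc0808030b00000e0b0e000a0e09010502080d0c07000009020406060e0403090a02) (Net.cons (nat_lit 8) (nat_lit 0x32008900c200ea006f001800e000a20032004e00f80071008e0008001900610009) (Net.cons (nat_lit 16) (nat_lit 0x80000f7380000b8390000ffd20000d3030000208e0000432500000205000082c0) (Net.cons (nat_lit 32) (nat_lit 0x40891211000000000e1f09cf00000000c1de08410000000000099040) (Net.cons (nat_lit 64) (nat_lit 0x910b403808ae658000000000000000000000000000003009) (Net.cons (nat_lit 128) (nat_lit 0xe641e18c5faf942f738a39f2105d3fd8) (Net.cons (nat_lit 256) (nat_lit 0xfbfd9) (Net.cons (nat_lit 128) (nat_lit 807261) (Net.cons (nat_lit 64) (nat_lit 0x9146a0505c24caf400000000000000007493c007bdebbe47) (Net.cons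 (nat_lit 32) (nat_lit 0xf86abe5e00000000ccb4a9df000000008a43f4f40000000068404793) (Net.cons (nat_lit 16) (nat_lit 0x90000ec440000d5d80000fe080000e1db00005a2f0000c2330000ac2a0000abd0) (Net.cons (nat_lit 8) (nat_lit 0xad00dc007600c90091006c00e7003a00f600f3001500a700cd005200c400e60094) (Net.cons (nat_lit 4) (nat_lit 0x608070b0409080306090c060e0f0901060b000b02050000040d05050b0908080902) (Net.cons (nat_lit 2) (nat_lit 0x331312002321223202020103231322100322200012312213021003333302232203311) (Net.cons (nat_lit 1) (nat_lit 0x411550514514000045550051140040555114144441410555551511445550144514454) Net.nil)))))))))))))))))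

theorem g811_ok : Net.ok 276 g811 = true := by decide +kernel

noncomputable def ct_c32_K : List Net := [g545, g811, g445, g548]

theorem ct_c32_K_ok : okE 276 ct_c32_K = true := (okE_cons.2 ⟨g545_ok, (okE_cons.2 ⟨g811_ok, (okE_cons.2 ⟨g445_ok, (okE_cons.2 ⟨g548_ok, (okE_nil 276)⟩)⟩)⟩)⟩)

noncomputable def ct_c32_cnt_EG : List Net := [g445, g446, g447, n_u, g444, g716, g717, g548]

theorem ct_c32_cnt_EG_ok : okE 276 ct_c32_cnt_EG = true := (okE_cons.2 ⟨g445_ok, (okE_cons.2 ⟨g446_ok, (okE_cons.2 ⟨g447_ok, (okE_cons.2 ⟨n_u_ok, (okE_cons.2 ⟨g444_ok, (okE_cons.2 ⟨g716_ok, (okE_cons.2 ⟨g717_ok, (okE_cons.2 ⟨g548_ok, (okE_nil 276)⟩)⟩)⟩)⟩)⟩)⟩)⟩)⟩)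

noncomputable def ct_c33_K : List Net := [g544, g733, g705, g491]

theorem ct_c33_K_ok : okE 276 ct_c33_K = true := (okE_cons.2 ⟨g544_ok, (okE_cons.2 ⟨g733_ok, (okE_cons.2 ⟨g705_ok, (okE_cons.2 ⟨g491_ok, (okE_nil 276)⟩)⟩)⟩)⟩)

noncomputable def ct_c33_cnt_EG : List Net := [g524, g705, g491, g706, g444, g445, g446, g447, n_u]

theorem ct_c33_cnt_EG_ok : okE 276 ct_c33_cnt_EG = true := (okE_cons.2 ⟨g524_ok, (okE_cons.2 ⟨g705_ok, (okE_cons.2 ⟨g491_ok, (okE_cons.2 ⟨g706_ok, (okE_cons.2 ⟨g444_ok, (okE_cons.2 ⟨g445_ok, (okE_cons.2 ⟨g446_ok, (okE_cons.2 ⟨g447_ok, (okE_cons.2 ⟨n_u_ok, (okE_nil 276)⟩)⟩)⟩)⟩)⟩)⟩)⟩)⟩)⟩)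

noncomputable def ct_c34_K : List Net := [g444, g526, g735, g548]

theorem ct_c34_K_ok : okE 276 ct_c34_K = true := (okE_cons.2 ⟨g444_ok, (okE_cons.2 ⟨g526_ok, (okE_cons.2 ⟨g735_ok, (okE_cons.2 ⟨g548_ok, (okE_nil 276)⟩)⟩)⟩)⟩)

noncomputable def ct_c34_cnt_EG : List Net := [g445, g446, g447, n_u, g444, g716, g717, g548, g684]

theorem ct_c34_cnt_EG_ok : okE 276 ct_c34_cnt_EG = true := (okE_cons.2 ⟨g445_ok, (okE_cons.2 ⟨g446_ok, (okE_cons.2 ⟨g447_ok, (okE_cons.2 ⟨n_u_ok, (okE_cons.2 ⟨g444_ok, (okE_cons.2 ⟨g716_ok, (okE_cons.2 ⟨g717_ok, (okE_cons.2 ⟨g548_ok, (okE_cons.2 ⟨g684_ok, (okE_nil 276)⟩)⟩)⟩)⟩)⟩)⟩)⟩)⟩)⟩)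

noncomputable def ct_c35_K : List Net := [g526, g667, g695, g548]

theorem ct_c35_K_ok : okE 276 ct_c35_K = true := (okE_cons.2 ⟨g526_ok, (okE_cons.2 ⟨g667_ok, (okE_cons.2 ⟨g695_ok, (okE_cons.2 ⟨g548_ok, (okE_nil 276)⟩)⟩)⟩)⟩)

noncomputable def ct_c35_cnt_EG : List Net := [g444, g445, g446, g447, n_u, g697, g698, g548]

theorem ct_c35_cnt_EG_ok : okE 276 ct_c35_cnt_EG = true := (okE_cons.2 ⟨g444_ok, (okE_cons.2 ⟨g445_ok, (okE_cons.2 ⟨g446_ok, (okE_cons.2 ⟨g447_ok, (okE_cons.2 ⟨n_u_ok, (okE_cons.2 ⟨g697_ok, (okE_cons.2 ⟨g698_ok, (okE_cons.2 ⟨g548_ok, (okE_nil 276)⟩)⟩)⟩)⟩)⟩)⟩)⟩)⟩)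

noncomputable def ct_c36_K : List Net := [g733, g734, g445, g548]

theorem ct_c36_K_ok : okE 276 ct_c36_K = true := (okE_cons.2 ⟨g733_ok, (okE_cons.2 ⟨g734_ok, (okE_cons.2 ⟨g445_ok, (okE_cons.2 ⟨g548_ok, (okE_nil 276)⟩)⟩)⟩)⟩)

noncomputable def ct_c36_cnt_EG : List Net := [g445, g446, g447, n_u, g444, g716, g717, g548]

theorem ct_c36_cnt_EG_ok : okE 276 ct_c36_cnt_EG = true := (okE_cons.2 ⟨g445_ok, (okE_cons.2 ⟨g446_ok, (okE_cons.2 ⟨g447_ok, (okE_cons.2 ⟨n_u_ok, (okE_cons.2 ⟨g444_ok, (okE_cons.2 ⟨g716_ok, (okE_cons.2 ⟨g717_ok, (okE_cons.2 ⟨g548_ok, (okE_nil 276)⟩)⟩)⟩)⟩)⟩)⟩)⟩)⟩)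

noncomputable def g817 : Net := (Net.cons (nat_lit 1) (nat_lit 0x141040545140114451401550505555045040105145415041550511410111501115404) (Net.cons (nat_lit 2) (nat_lit 0x13030221033012011231202330220200211321232211130210101112203022221000) (Net.cons (nat_lit 4) (nat_lit 0x604070301000c030a0c0d0006050607020008000b0808080c030d0d000b02030804) (Net.cons (nat_lit 8) (nat_lit 0x4e007800cc003c00bf008800420062005f003d002f001b00900085007f00450001) (Net.cons (nat_lit 16) (nat_lit 0xa0000fd10000062420000ffcd000034090000187200008a220000c5040000a840) (Net.cons (nat_lit 32) (nat_lit 0x581ac7850000000026ef10840000000095a13bc6000000000004e8d0) (Net.cons (nat_lit 64) (nat_lit 0x1e82086dcc10afca00000000000000000000000000012384) (Net.cons (nat_lit 128) (nat_lit 0x68e72260d6036a8ad6416d0d2b11b9e2) (Net.cons (nat_lit 256) (nat_lit 916479) (Net.cons (nat_lit 128) (nat_lit 0xf7c84) (Net.cons (nat_lit 64) (nat_lit 0x39f08f48771d4fc00000000000000006164c2dea28cb1ba) (Net.cons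 (nat_lit 32) (nat_lit 0x50886a8000000002f162998000000002510640a000000001bbdba50) (Net.cons (nat_lit 16) (nat_lit 0x60000d445000077e80000cdeb00005e0b0000057400007f6a0000d59c0000c0f8) (Net.cons (nat_lit 8) (nat_lit 0x90006a00cd00460099005e0085007f0074007c00b1000400ae00b8007d003d00db) (Net.cons (nat_lit 4) (nat_lit 0x20b020007040e0e01090d070f020b01040c0907070509060e0b0609000a0c02000e) (Net.cons (nat_lit 2) (nat_lit 0x21300310322132311031200221123112013220212023020000302033323223321202) (Net.cons (nat_lit 1) (nat_lit 0x511515541504510440140411111055044100045445140445440505010141504515144) Net.nil)))))))))))))))))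

theorem g817_ok : Net.ok 276 g817 = true := by decide +kernel

noncomputable def ct_c37_K : List Net := [g817, g127, g695, g548]

theorem ct_c37_K_ok : okE 276 ct_c37_K = true := (okE_cons.2 ⟨g817_ok, (okE_cons.2 ⟨g127_ok, (okE_cons.2 ⟨g695_ok, (okE_cons.2 ⟨g548_ok, (okE_nil 276)⟩)⟩)⟩)⟩)

noncomputable def ct_c37_cnt_EG : List Net := [g444, g445, g446, g447, n_u, g697, g698, g548]

theorem ct_c37_cnt_EG_ok : okE 276 ct_c37_cnt_EG = true := (okE_cons.2 ⟨g444_ok, (okE_cons.2 ⟨g445_ok, (okE_cons.2 ⟨g446_ok, (okE_cons.2 ⟨g447_ok, (okE_cons.2 ⟨n_u_ok, (okE_cons.2 ⟨g697_ok, (okE_cons.2 ⟨g698_ok, (okE_cons.2 ⟨g548_ok, (okE_nil 276)⟩)⟩)⟩)⟩)⟩)⟩)⟩)⟩)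

noncomputable def ct_c38_K : List Net := [g811, g444, g695, g548]

theorem ct_c38_K_ok : okE 276 ct_c38_K = true := (okE_cons.2 ⟨g811_ok, (okE_cons.2 ⟨g444_ok, (okE_cons.2 ⟨g695_ok, (okE_cons.2 ⟨g548_ok, (okE_nil 276)⟩)⟩)⟩)⟩)

noncomputable def ct_c38_cnt_EG : List Net := [g444, g445, g446, g447, n_u, g697, g698, g548]

theorem ct_c38_cnt_EG_ok : okE 276 ct_c38_cnt_EG = true := (okE_cons.2 ⟨g444_ok, (okE_cons.2 ⟨g445_ok, (okE_cons.2 ⟨g446_ok, (okE_cons.2 ⟨g447_ok, (okE_cons.2 ⟨n_u_ok, (okE_cons.2 ⟨g697_ok, (okE_cons.2 ⟨g698_ok, (okE_cons.2 ⟨g548_ok, (okE_nil 276)⟩)⟩)⟩)⟩)⟩)⟩)⟩)⟩)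

noncomputable def g820 : Net := (Net.cons (nat_lit 1) (nat_lit 0x15145000010054105004054141154111101541154544451154444555411141150044) (Net.cons (nat_lit 2) (nat_lit 0x111112001121112313023203033231112213133112000221101310000011212010020) (Net.cons (nat_lit 4) (nat_lit 0xf0b04020d0600030b060d0d0f070c0a040b090b020d060e0c0608070a0d08080a08) (Net.cons (nat_lit 8) (nat_lit 0x9c0066001900ba005d009d00cd008b000b0056001f001a009800a7005900080005) (Net.cons (nat_lit 16) (nat_lit 0xc0000222d00006354000031a1000045d90000f051000086570000da100000c000) (Net.cons (nat_lit 32) (nat_lit 0x667d109100000000f006062b0000000084dd0f670000000000011334) (Net.cons (nat_lit 64) (nat_lit 0xc01dc464a11a552400000000000000000000000000000ccf) (Net.cons (nat_lit 128) (nat_lit 0xa3ae31e034d210f35433ec04c5cc8429) (Net.cons (nat_lit 256) (nat_lit 917503) (Net.cons (nat_lit 128) (nat_lit 117639) (Net.cons (nat_lit 64) (nat_lit 0x444dabf8b0be660b0000000000000000352a87805087cd3c) (Net.cons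 (nat_lit 32) (nat_lit 0xe78b60be00000000b20da8d400000000ab4450fd00000000b472488b) (Net.cons (nat_lit 16) (nat_lit 0xd000033eb0000d53a000097270000e58700002db400000af8000001660000a4ec) (Net.cons (nat_lit 8) (nat_lit 0xfa006c005500aa0086005600e1000f001d001e0037003600c90033000100db0083) (Net.cons (nat_lit 4) (nat_lit 0xa0905020d0408030300040e0103090f0c0804090106010a010b03060101040e0706) (Net.cons (nat_lit 2) (nat_lit 0x30202323022221103001101100032012122230023112232313012200110012132031) (Net.cons (nat_lit 1) (nat_lit 0x451114041000454510501415155501000514044515044510154041554110155000000) Net.nil)))))))))))))))))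

theorem g820_ok : Net.ok 276 g820 = true := by decide +kernel

noncomputable def ct_c39_K : List Net := [g820, g795, g717, g548]

theorem ct_c39_K_ok : okE 276 ct_c39_K = true := (okE_cons.2 ⟨g820_ok, (okE_cons.2 ⟨g795_ok, (okE_cons.2 ⟨g717_ok, (okE_cons.2 ⟨g548_ok, (okE_nil 276)⟩)⟩)⟩)⟩)

noncomputable def ct_c39_cnt_EG : List Net := [g445, g446, g447, n_u, g444, g716, g717, g548]

theorem ct_c39_cnt_EG_ok : okE 276 ct_c39_cnt_EG = true := (okE_cons.2 ⟨g445_ok, (okE_cons.2 ⟨g446_ok, (okE_cons.2 ⟨g447_ok, (okE_cons.2 ⟨n_u_ok, (okE_cons.2 ⟨g444_ok, (okE_cons.2 ⟨g716_ok, (okE_cons.2 ⟨g717_ok, (okE_cons.2 ⟨g548_ok, (okE_nil 276)⟩)⟩)⟩)⟩)⟩)⟩)⟩)⟩)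

noncomputable def g822 : Net := (Net.cons (nat_lit 1) (nat_lit 0x441505455410044100451545114445114450541051115014500054155415111150000) (Net.cons (nat_lit 2) (nat_lit 0x322010221221000213033323123323001323133232210023012022032332120002000) (Net.cons (nat_lit 4) (nat_lit 0x70e090301050a0b060e0701060103060e0a06080907030a0009080303040c0e0a01) (Net.cons (nat_lit 8) (nat_lit 0xb9000b00f500680061003d000e005800ee00ac0022000f009a0006000b00b00008) (Net.cons (nat_lit 16) (nat_lit 0x800006035000024d200009a480000593100003112000084e4000024ec00008c40) (Net.cons (nat_lit 32) (nat_lit 0x49d1a4f0000000015e637d1000000008807a86300000000000082e4) (Net.cons (nat_lit 64) (nat_lit 0xdb8030e089ec5c0000000000000000000000000003b118) (Net.cons (nat_lit 128) (nat_lit 0x29010539a2ce2904defaa0c85951565f) (Net.cons (nat_lit 256) (nat_lit 786431) (Net.cons (nat_lit 128) (nat_lit 426341) (Net.cons (nat_lit 64) (nat_lit 0x8b9ab54344558cf0000000000000000706ea0fd8967bb12) (Net.cons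 (nat_lit 32) (nat_lit 0x8529cb0c0000000020f267de000000007d1d21de00000000f87b73b5) (Net.cons (nat_lit 16) (nat_lit 0x10000dc7e0000069a0000d362000065360000d9b70000b7c6000020340000c26d) (Net.cons (nat_lit 8) (nat_lit 0x6e00d400d00016009c004c0020006100b1009100b4008900a300e70042006100e3) (Net.cons (nat_lit 4) (nat_lit 0x8000d0d0101070b070e050d03030407010c0e0905060004000604090d04050e0803) (Net.cons (nat_lit 2) (nat_lit 0x332032210330000211320303311323110023220222322231132221223030230032012) (Net.cons (nat_lit 1) (nat_lit 0x44555551000410110500145154011405551000410555545501145115504155044145) Net.nil)))))))))))))))))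

theorem g822_ok : Net.ok 276 g822 = true := by decide +kernel

noncomputable def ct_c40_K : List Net := [g822, g692, g717, g548]

theorem ct_c40_K_ok : okE 276 ct_c40_K = true := (okE_cons.2 ⟨g822_ok, (okE_cons.2 ⟨g692_ok, (okE_cons.2 ⟨g717_ok, (okE_cons.2 ⟨g548_ok, (okE_nil 276)⟩)⟩)⟩)⟩)

noncomputable def ct_c40_cnt_EG : List Net := [g445, g446, g447, n_u, g444, g716, g717, g548]

theorem ct_c40_cnt_EG_ok : okE 276 ct_c40_cnt_EG = true := (okE_cons.2 ⟨g445_ok, (okE_cons.2 ⟨g446_ok, (okE_cons.2 ⟨g447_ok, (okE_cons.2 ⟨n_u_ok, (okE_cons.2 ⟨g444_ok, (okE_cons.2 ⟨g716_ok, (okE_cons.2 ⟨g717_ok, (okE_cons.2 ⟨g548_ok, (okE_nil 276)⟩)⟩)⟩)⟩)⟩)⟩)⟩)⟩)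

noncomputable def ct_c41_K : List Net := [g716, g804, g695, g548]

theorem ct_c41_K_ok : okE 276 ct_c41_K = true := (okE_cons.2 ⟨g716_ok, (okE_cons.2 ⟨g804_ok, (okE_cons.2 ⟨g695_ok, (okE_cons.2 ⟨g548_ok, (okE_nil 276)⟩)⟩)⟩)⟩)

noncomputable def ct_c41_cnt_EG : List Net := [g444, g445, g446, g447, n_u, g697, g698, g548]

theorem ct_c41_cnt_EG_ok : okE 276 ct_c41_cnt_EG = true := (okE_cons.2 ⟨g444_ok, (okE_cons.2 ⟨g445_ok, (okE_cons.2 ⟨g446_ok, (okE_cons.2 ⟨g447_ok, (okE_cons.2 ⟨n_u_ok, (okE_cons.2 ⟨g697_ok, (okE_cons.2 ⟨g698_ok, (okE_cons.2 ⟨g548_ok, (okE_nil 276)⟩)⟩)⟩)⟩)⟩)⟩)⟩)⟩)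

noncomputable def ct_c42_K : List Net := [g807, g716, g684, g548]

theorem ct_c42_K_ok : okE 276 ct_c42_K = true := (okE_cons.2 ⟨g807_ok, (okE_cons.2 ⟨g716_ok, (okE_cons.2 ⟨g684_ok, (okE_cons.2 ⟨g548_ok, (okE_nil 276)⟩)⟩)⟩)⟩)

noncomputable def ct_c42_cnt_EG : List Net := [g445, g446, g447, n_u, g444, g716, g717, g548, g684]

theorem ct_c42_cnt_EG_ok : okE 276 ct_c42_cnt_EG = true := (okE_cons.2 ⟨g445_ok, (okE_cons.2 ⟨g446_ok, (okE_cons.2 ⟨g447_ok, (okE_cons.2 ⟨n_u_ok, (okE_cons.2 ⟨g444_ok, (okE_cons.2 ⟨g716_ok, (okE_cons.2 ⟨g717_ok, (okE_cons.2 ⟨g548_ok, (okE_cons.2 ⟨g684_ok, (okE_nil 276)⟩)⟩)⟩)⟩)⟩)⟩)⟩)⟩)⟩)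

noncomputable def ct_c43_K : List Net := [g537, g447, g684, g548]

theorem ct_c43_K_ok : okE 276 ct_c43_K = true := (okE_cons.2 ⟨g537_ok, (okE_cons.2 ⟨g447_ok, (okE_cons.2 ⟨g684_ok, (okE_cons.2 ⟨g548_ok, (okE_nil 276)⟩)⟩)⟩)⟩)

noncomputable def ct_c43_cnt_EG : List Net := [g445, g446, g447, n_u, g444, g716, g717, g548, g684]

theorem ct_c43_cnt_EG_ok : okE 276 ct_c43_cnt_EG = true := (okE_cons.2 ⟨g445_ok, (okE_cons.2 ⟨g446_ok, (okE_cons.2 ⟨g447_ok, (okE_cons.2 ⟨n_u_ok, (okE_cons.2 ⟨g444_ok, (okE_cons.2 ⟨g716_ok, (okE_cons.2 ⟨g717_ok, (okE_cons.2 ⟨g548_ok, (okE_cons.2 ⟨g684_ok, (okE_nil 276)⟩)⟩)⟩)⟩)⟩)⟩)⟩)⟩)⟩)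

noncomputable def ct_nc2_1_cnt_EG : List Net := []

theorem ct_nc2_1_cnt_EG_ok : okE 276 ct_nc2_1_cnt_EG = true := (okE_nil 276)

noncomputable def ct_nc3_1_cnt_EG : List Net := []

theorem ct_nc3_1_cnt_EG_ok : okE 276 ct_nc3_1_cnt_EG = true := (okE_nil 276)

noncomputable def ct_nc3_2_cnt_EG : List Net := []

theorem ct_nc3_2_cnt_EG_ok : okE 276 ct_nc3_2_cnt_EG = true := (okE_nil 276)

noncomputable def ct_nc4_1_cnt_EG : List Net := []

theorem ct_nc4_1_cnt_EG_ok : okE 276 ct_nc4_1_cnt_EG = true := (okE_nil 276)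

noncomputable def ct_nc4_2_cnt_EG : List Net := []

theorem ct_nc4_2_cnt_EG_ok : okE 276 ct_nc4_2_cnt_EG = true := (okE_nil 276)

noncomputable def ct_nc4_3_cnt_EG : List Net := []

theorem ct_nc4_3_cnt_EG_ok : okE 276 ct_nc4_3_cnt_EG = true := (okE_nil 276)

noncomputable def ct_nc5_1_cnt_EG : List Net := []

theorem ct_nc5_1_cnt_EG_ok : okE 276 ct_nc5_1_cnt_EG = true := (okE_nil 276)

noncomputable def ct_nc5_2_cnt_EG : List Net := []

theorem ct_nc5_2_cnt_EG_ok : okE 276 ct_nc5_2_cnt_EG = true := (okE_nil 276)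

noncomputable def ct_nc5_3_cnt_EG : List Net := []

theorem ct_nc5_3_cnt_EG_ok : okE 276 ct_nc5_3_cnt_EG = true := (okE_nil 276)

noncomputable def ct_nc5_4_cnt_EG : List Net := []

theorem ct_nc5_4_cnt_EG_ok : okE 276 ct_nc5_4_cnt_EG = true := (okE_nil 276)

noncomputable def ct_nc6_1_cnt_EG : List Net := []

theorem ct_nc6_1_cnt_EG_ok : okE 276 ct_nc6_1_cnt_EG = true := (okE_nil 276)

noncomputable def ct_nc6_2_cnt_EG : List Net := []

theorem ct_nc6_2_cnt_EG_ok : okE 276 ct_nc6_2_cnt_EG = true := (okE_nil 276)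

noncomputable def ct_nc6_3_cnt_EG : List Net := []

theorem ct_nc6_3_cnt_EG_ok : okE 276 ct_nc6_3_cnt_EG = true := (okE_nil 276)

noncomputable def ct_nc6_4_cnt_EG : List Net := []

theorem ct_nc6_4_cnt_EG_ok : okE 276 ct_nc6_4_cnt_EG = true := (okE_nil 276)

noncomputable def ct_nc6_5_cnt_EG : List Net := []

theorem ct_nc6_5_cnt_EG_ok : okE 276 ct_nc6_5_cnt_EG = true := (okE_nil 276)

noncomputable def ct_nc7_1_cnt_EG : List Net := []

theorem ct_nc7_1_cnt_EG_ok : okE 276 ct_nc7_1_cnt_EG = true := (okE_nil 276)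

noncomputable def ct_nc7_2_cnt_EG : List Net := []

theorem ct_nc7_2_cnt_EG_ok : okE 276 ct_nc7_2_cnt_EG = true := (okE_nil 276)

noncomputable def ct_nc7_3_cnt_EG : List Net := []

theorem ct_nc7_3_cnt_EG_ok : okE 276 ct_nc7_3_cnt_EG = true := (okE_nil 276)

noncomputable def ct_nc7_4_cnt_EG : List Net := []

theorem ct_nc7_4_cnt_EG_ok : okE 276 ct_nc7_4_cnt_EG = true := (okE_nil 276)

noncomputable def ct_nc7_5_cnt_EG : List Net := []

theorem ct_nc7_5_cnt_EG_ok : okE 276 ct_nc7_5_cnt_EG = true := (okE_nil 276)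

noncomputable def ct_nc7_6_cnt_EG : List Net := []

theorem ct_nc7_6_cnt_EG_ok : okE 276 ct_nc7_6_cnt_EG = true := (okE_nil 276)

noncomputable def ct_nc10_9_cnt_EG : List Net := []

theorem ct_nc10_9_cnt_EG_ok : okE 276 ct_nc10_9_cnt_EG = true := (okE_nil 276)

noncomputable def ct_nc11_9_cnt_EG : List Net := []

theorem ct_nc11_9_cnt_EG_ok : okE 276 ct_nc11_9_cnt_EG = true := (okE_nil 276)

noncomputable def ct_nc11_10_cnt_EG : List Net := []

theorem ct_nc11_10_cnt_EG_ok : okE 276 ct_nc11_10_cnt_EG = true := (okE_nil 276)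

noncomputable def ct_nc12_9_cnt_EG : List Net := []

theorem ct_nc12_9_cnt_EG_ok : okE 276 ct_nc12_9_cnt_EG = true := (okE_nil 276)

noncomputable def ct_nc12_10_cnt_EG : List Net := []

theorem ct_nc12_10_cnt_EG_ok : okE 276 ct_nc12_10_cnt_EG = true := (okE_nil 276)

noncomputable def ct_nc12_11_cnt_EG : List Net := []

theorem ct_nc12_11_cnt_EG_ok : okE 276 ct_nc12_11_cnt_EG = true := (okE_nil 276)

noncomputable def ct_nc13_9_cnt_EG : List Net := []

theorem ct_nc13_9_cnt_EG_ok : okE 276 ct_nc13_9_cnt_EG = true := (okE_nil 276)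

noncomputable def ct_nc13_10_cnt_EG : List Net := []

theorem ct_nc13_10_cnt_EG_ok : okE 276 ct_nc13_10_cnt_EG = true := (okE_nil 276)

noncomputable def ct_nc13_11_cnt_EG : List Net := []

theorem ct_nc13_11_cnt_EG_ok : okE 276 ct_nc13_11_cnt_EG = true := (okE_nil 276)

noncomputable def ct_nc13_12_cnt_EG : List Net := []

theorem ct_nc13_12_cnt_EG_ok : okE 276 ct_nc13_12_cnt_EG = true := (okE_nil 276)

noncomputable def ct_nc14_9_cnt_EG : List Net := []

theorem ct_nc14_9_cnt_EG_ok : okE 276 ct_nc14_9_cnt_EG = true := (okE_nil 276)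

noncomputable def ct_nc14_10_cnt_EG : List Net := []

theorem ct_nc14_10_cnt_EG_ok : okE 276 ct_nc14_10_cnt_EG = true := (okE_nil 276)

noncomputable def ct_nc14_11_cnt_EG : List Net := []

theorem ct_nc14_11_cnt_EG_ok : okE 276 ct_nc14_11_cnt_EG = true := (okE_nil 276)

noncomputable def ct_nc14_12_cnt_EG : List Net := []

theorem ct_nc14_12_cnt_EG_ok : okE 276 ct_nc14_12_cnt_EG = true := (okE_nil 276)

noncomputable def ct_nc14_13_cnt_EG : List Net := []

theorem ct_nc14_13_cnt_EG_ok : okE 276 ct_nc14_13_cnt_EG = true := (okE_nil 276)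

noncomputable def ct_nc15_9_cnt_EG : List Net := []

theorem ct_nc15_9_cnt_EG_ok : okE 276 ct_nc15_9_cnt_EG = true := (okE_nil 276)

noncomputable def ct_nc15_10_cnt_EG : List Net := []

theorem ct_nc15_10_cnt_EG_ok : okE 276 ct_nc15_10_cnt_EG = true := (okE_nil 276)

noncomputable def ct_nc15_11_cnt_EG : List Net := []

theorem ct_nc15_11_cnt_EG_ok : okE 276 ct_nc15_11_cnt_EG = true := (okE_nil 276)

noncomputable def ct_nc15_12_cnt_EG : List Net := []

theorem ct_nc15_12_cnt_EG_ok : okE 276 ct_nc15_12_cnt_EG = true := (okE_nil 276)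

noncomputable def ct_nc15_13_cnt_EG : List Net := []

theorem ct_nc15_13_cnt_EG_ok : okE 276 ct_nc15_13_cnt_EG = true := (okE_nil 276)

noncomputable def ct_nc15_14_cnt_EG : List Net := []

theorem ct_nc15_14_cnt_EG_ok : okE 276 ct_nc15_14_cnt_EG = true := (okE_nil 276)

noncomputable def ct_nc17_16_cnt_EG : List Net := []

theorem ct_nc17_16_cnt_EG_ok : okE 276 ct_nc17_16_cnt_EG = true := (okE_nil 276)

noncomputable def ct_nc19_16_cnt_EG : List Net := []

theorem ct_nc19_16_cnt_EG_ok : okE 276 ct_nc19_16_cnt_EG = true := (okE_nil 276)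

noncomputable def ct_nc19_17_cnt_EG : List Net := []

theorem ct_nc19_17_cnt_EG_ok : okE 276 ct_nc19_17_cnt_EG = true := (okE_nil 276)

noncomputable def ct_nc20_16_cnt_EG : List Net := []

theorem ct_nc20_16_cnt_EG_ok : okE 276 ct_nc20_16_cnt_EG = true := (okE_nil 276)

noncomputable def ct_nc20_17_cnt_EG : List Net := []

theorem ct_nc20_17_cnt_EG_ok : okE 276 ct_nc20_17_cnt_EG = true := (okE_nil 276)

noncomputable def ct_nc20_19_cnt_EG : List Net := []

theorem ct_nc20_19_cnt_EG_ok : okE 276 ct_nc20_19_cnt_EG = true := (okE_nil 276)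

noncomputable def ct_nc21_16_cnt_EG : List Net := []

theorem ct_nc21_16_cnt_EG_ok : okE 276 ct_nc21_16_cnt_EG = true := (okE_nil 276)

noncomputable def ct_nc21_17_cnt_EG : List Net := []

theorem ct_nc21_17_cnt_EG_ok : okE 276 ct_nc21_17_cnt_EG = true := (okE_nil 276)

noncomputable def ct_nc21_19_cnt_EG : List Net := []

theorem ct_nc21_19_cnt_EG_ok : okE 276 ct_nc21_19_cnt_EG = true := (okE_nil 276)

noncomputable def ct_nc21_20_cnt_EG : List Net := []

theorem ct_nc21_20_cnt_EG_ok : okE 276 ct_nc21_20_cnt_EG = true := (okE_nil 276)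

noncomputable def ct_nc22_18_cnt_EG : List Net := []

theorem ct_nc22_18_cnt_EG_ok : okE 276 ct_nc22_18_cnt_EG = true := (okE_nil 276)

noncomputable def ct_nc23_18_cnt_EG : List Net := []

theorem ct_nc23_18_cnt_EG_ok : okE 276 ct_nc23_18_cnt_EG = true := (okE_nil 276)

noncomputable def ct_nc23_22_cnt_EG : List Net := []

theorem ct_nc23_22_cnt_EG_ok : okE 276 ct_nc23_22_cnt_EG = true := (okE_nil 276)

noncomputable def ct_nc24_16_cnt_EG : List Net := []

theorem ct_nc24_16_cnt_EG_ok : okE 276 ct_nc24_16_cnt_EG = true := (okE_nil 276)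

noncomputable def ct_nc24_17_cnt_EG : List Net := []

theorem ct_nc24_17_cnt_EG_ok : okE 276 ct_nc24_17_cnt_EG = true := (okE_nil 276)

noncomputable def ct_nc24_19_cnt_EG : List Net := []

theorem ct_nc24_19_cnt_EG_ok : okE 276 ct_nc24_19_cnt_EG = true := (okE_nil 276)

noncomputable def ct_nc24_20_cnt_EG : List Net := []

theorem ct_nc24_20_cnt_EG_ok : okE 276 ct_nc24_20_cnt_EG = true := (okE_nil 276)

noncomputable def ct_nc24_21_cnt_EG : List Net := []

theorem ct_nc24_21_cnt_EG_ok : okE 276 ct_nc24_21_cnt_EG = true := (okE_nil 276)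

noncomputable def ct_nc25_16_cnt_EG : List Net := []

theorem ct_nc25_16_cnt_EG_ok : okE 276 ct_nc25_16_cnt_EG = true := (okE_nil 276)

noncomputable def ct_nc25_17_cnt_EG : List Net := []

theorem ct_nc25_17_cnt_EG_ok : okE 276 ct_nc25_17_cnt_EG = true := (okE_nil 276)

noncomputable def ct_nc25_19_cnt_EG : List Net := []

theorem ct_nc25_19_cnt_EG_ok : okE 276 ct_nc25_19_cnt_EG = true := (okE_nil 276)

noncomputable def ct_nc25_20_cnt_EG : List Net := []

theorem ct_nc25_20_cnt_EG_ok : okE 276 ct_nc25_20_cnt_EG = true := (okE_nil 276)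

noncomputable def ct_nc25_21_cnt_EG : List Net := []

theorem ct_nc25_21_cnt_EG_ok : okE 276 ct_nc25_21_cnt_EG = true := (okE_nil 276)

noncomputable def ct_nc25_24_cnt_EG : List Net := []

theorem ct_nc25_24_cnt_EG_ok : okE 276 ct_nc25_24_cnt_EG = true := (okE_nil 276)

noncomputable def ct_nc26_16_cnt_EG : List Net := []

theorem ct_nc26_16_cnt_EG_ok : okE 276 ct_nc26_16_cnt_EG = true := (okE_nil 276)

noncomputable def ct_nc26_17_cnt_EG : List Net := []

theorem ct_nc26_17_cnt_EG_ok : okE 276 ct_nc26_17_cnt_EG = true := (okE_nil 276)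

noncomputable def ct_nc26_19_cnt_EG : List Net := []

theorem ct_nc26_19_cnt_EG_ok : okE 276 ct_nc26_19_cnt_EG = true := (okE_nil 276)

noncomputable def ct_nc26_20_cnt_EG : List Net := []

theorem ct_nc26_20_cnt_EG_ok : okE 276 ct_nc26_20_cnt_EG = true := (okE_nil 276)

noncomputable def ct_nc26_21_cnt_EG : List Net := []

theorem ct_nc26_21_cnt_EG_ok : okE 276 ct_nc26_21_cnt_EG = true := (okE_nil 276)

noncomputable def ct_nc26_24_cnt_EG : List Net := []

theorem ct_nc26_24_cnt_EG_ok : okE 276 ct_nc26_24_cnt_EG = true := (okE_nil 276)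

noncomputable def ct_nc26_25_cnt_EG : List Net := []

theorem ct_nc26_25_cnt_EG_ok : okE 276 ct_nc26_25_cnt_EG = true := (okE_nil 276)

noncomputable def ct_nc27_16_cnt_EG : List Net := []

theorem ct_nc27_16_cnt_EG_ok : okE 276 ct_nc27_16_cnt_EG = true := (okE_nil 276)

noncomputable def ct_nc27_17_cnt_EG : List Net := []

theorem ct_nc27_17_cnt_EG_ok : okE 276 ct_nc27_17_cnt_EG = true := (okE_nil 276)

noncomputable def ct_nc27_19_cnt_EG : List Net := []

theorem ct_nc27_19_cnt_EG_ok : okE 276 ct_nc27_19_cnt_EG = true := (okE_nil 276)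

noncomputable def ct_nc27_20_cnt_EG : List Net := []

theorem ct_nc27_20_cnt_EG_ok : okE 276 ct_nc27_20_cnt_EG = true := (okE_nil 276)

noncomputable def ct_nc27_21_cnt_EG : List Net := []

theorem ct_nc27_21_cnt_EG_ok : okE 276 ct_nc27_21_cnt_EG = true := (okE_nil 276)

noncomputable def ct_nc27_24_cnt_EG : List Net := []

theorem ct_nc27_24_cnt_EG_ok : okE 276 ct_nc27_24_cnt_EG = true := (okE_nil 276)

noncomputable def ct_nc27_25_cnt_EG : List Net := []

theorem ct_nc27_25_cnt_EG_ok : okE 276 ct_nc27_25_cnt_EG = true := (okE_nil 276)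

noncomputable def ct_nc27_26_cnt_EG : List Net := []

theorem ct_nc27_26_cnt_EG_ok : okE 276 ct_nc27_26_cnt_EG = true := (okE_nil 276)

noncomputable def ct_nc28_16_cnt_EG : List Net := []

theorem ct_nc28_16_cnt_EG_ok : okE 276 ct_nc28_16_cnt_EG = true := (okE_nil 276)

noncomputable def ct_nc28_17_cnt_EG : List Net := []

theorem ct_nc28_17_cnt_EG_ok : okE 276 ct_nc28_17_cnt_EG = true := (okE_nil 276)

noncomputable def ct_nc28_19_cnt_EG : List Net := []

theorem ct_nc28_19_cnt_EG_ok : okE 276 ct_nc28_19_cnt_EG = true := (okE_nil 276)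

noncomputable def ct_nc28_20_cnt_EG : List Net := []

theorem ct_nc28_20_cnt_EG_ok : okE 276 ct_nc28_20_cnt_EG = true := (okE_nil 276)

noncomputable def ct_nc28_21_cnt_EG : List Net := []

theorem ct_nc28_21_cnt_EG_ok : okE 276 ct_nc28_21_cnt_EG = true := (okE_nil 276)

noncomputable def ct_nc28_24_cnt_EG : List Net := []

theorem ct_nc28_24_cnt_EG_ok : okE 276 ct_nc28_24_cnt_EG = true := (okE_nil 276)

noncomputable def ct_nc28_25_cnt_EG : List Net := []

theorem ct_nc28_25_cnt_EG_ok : okE 276 ct_nc28_25_cnt_EG = true := (okE_nil 276)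

noncomputable def ct_nc28_26_cnt_EG : List Net := []

theorem ct_nc28_26_cnt_EG_ok : okE 276 ct_nc28_26_cnt_EG = true := (okE_nil 276)

noncomputable def ct_nc28_27_cnt_EG : List Net := []

theorem ct_nc28_27_cnt_EG_ok : okE 276 ct_nc28_27_cnt_EG = true := (okE_nil 276)

noncomputable def ct_nc29_16_cnt_EG : List Net := []

theorem ct_nc29_16_cnt_EG_ok : okE 276 ct_nc29_16_cnt_EG = true := (okE_nil 276)

noncomputable def ct_nc29_17_cnt_EG : List Net := []

theorem ct_nc29_17_cnt_EG_ok : okE 276 ct_nc29_17_cnt_EG = true := (okE_nil 276)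

noncomputable def ct_nc29_19_cnt_EG : List Net := []

theorem ct_nc29_19_cnt_EG_ok : okE 276 ct_nc29_19_cnt_EG = true := (okE_nil 276)

noncomputable def ct_nc29_20_cnt_EG : List Net := []

theorem ct_nc29_20_cnt_EG_ok : okE 276 ct_nc29_20_cnt_EG = true := (okE_nil 276)

noncomputable def ct_nc29_21_cnt_EG : List Net := []

theorem ct_nc29_21_cnt_EG_ok : okE 276 ct_nc29_21_cnt_EG = true := (okE_nil 276)

noncomputable def ct_nc29_24_cnt_EG : List Net := []

theorem ct_nc29_24_cnt_EG_ok : okE 276 ct_nc29_24_cnt_EG = true := (okE_nil 276)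

noncomputable def ct_nc29_25_cnt_EG : List Net := []

theorem ct_nc29_25_cnt_EG_ok : okE 276 ct_nc29_25_cnt_EG = true := (okE_nil 276)

noncomputable def ct_nc29_26_cnt_EG : List Net := []

theorem ct_nc29_26_cnt_EG_ok : okE 276 ct_nc29_26_cnt_EG = true := (okE_nil 276)

noncomputable def ct_nc29_27_cnt_EG : List Net := []

theorem ct_nc29_27_cnt_EG_ok : okE 276 ct_nc29_27_cnt_EG = true := (okE_nil 276)

noncomputable def ct_nc29_28_cnt_EG : List Net := []

theorem ct_nc29_28_cnt_EG_ok : okE 276 ct_nc29_28_cnt_EG = true := (okE_nil 276)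

noncomputable def ct_nc30_18_cnt_EG : List Net := []

theorem ct_nc30_18_cnt_EG_ok : okE 276 ct_nc30_18_cnt_EG = true := (okE_nil 276)

noncomputable def ct_nc30_22_cnt_EG : List Net := []

theorem ct_nc30_22_cnt_EG_ok : okE 276 ct_nc30_22_cnt_EG = true := (okE_nil 276)

noncomputable def ct_nc30_23_cnt_EG : List Net := []

theorem ct_nc30_23_cnt_EG_ok : okE 276 ct_nc30_23_cnt_EG = true := (okE_nil 276)

noncomputable def ct_nc31_16_cnt_EG : List Net := []

theorem ct_nc31_16_cnt_EG_ok : okE 276 ct_nc31_16_cnt_EG = true := (okE_nil 276)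

noncomputable def ct_nc31_17_cnt_EG : List Net := []

theorem ct_nc31_17_cnt_EG_ok : okE 276 ct_nc31_17_cnt_EG = true := (okE_nil 276)

noncomputable def ct_nc31_19_cnt_EG : List Net := []

theorem ct_nc31_19_cnt_EG_ok : okE 276 ct_nc31_19_cnt_EG = true := (okE_nil 276)

noncomputable def ct_nc31_20_cnt_EG : List Net := []

theorem ct_nc31_20_cnt_EG_ok : okE 276 ct_nc31_20_cnt_EG = true := (okE_nil 276)

noncomputable def ct_nc31_21_cnt_EG : List Net := []

theorem ct_nc31_21_cnt_EG_ok : okE 276 ct_nc31_21_cnt_EG = true := (okE_nil 276)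

noncomputable def ct_nc31_24_cnt_EG : List Net := []

theorem ct_nc31_24_cnt_EG_ok : okE 276 ct_nc31_24_cnt_EG = true := (okE_nil 276)

noncomputable def ct_nc31_25_cnt_EG : List Net := []

theorem ct_nc31_25_cnt_EG_ok : okE 276 ct_nc31_25_cnt_EG = true := (okE_nil 276)

noncomputable def ct_nc31_26_cnt_EG : List Net := []

theorem ct_nc31_26_cnt_EG_ok : okE 276 ct_nc31_26_cnt_EG = true := (okE_nil 276)

noncomputable def ct_nc31_27_cnt_EG : List Net := []

theorem ct_nc31_27_cnt_EG_ok : okE 276 ct_nc31_27_cnt_EG = true := (okE_nil 276)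

noncomputable def ct_nc31_28_cnt_EG : List Net := []

theorem ct_nc31_28_cnt_EG_ok : okE 276 ct_nc31_28_cnt_EG = true := (okE_nil 276)

noncomputable def ct_nc31_29_cnt_EG : List Net := []

theorem ct_nc31_29_cnt_EG_ok : okE 276 ct_nc31_29_cnt_EG = true := (okE_nil 276)

noncomputable def ct_nc32_16_cnt_EG : List Net := []

theorem ct_nc32_16_cnt_EG_ok : okE 276 ct_nc32_16_cnt_EG = true := (okE_nil 276)

noncomputable def ct_nc32_17_cnt_EG : List Net := []

theorem ct_nc32_17_cnt_EG_ok : okE 276 ct_nc32_17_cnt_EG = true := (okE_nil 276)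

noncomputable def ct_nc32_19_cnt_EG : List Net := []

theorem ct_nc32_19_cnt_EG_ok : okE 276 ct_nc32_19_cnt_EG = true := (okE_nil 276)

noncomputable def ct_nc32_20_cnt_EG : List Net := []

theorem ct_nc32_20_cnt_EG_ok : okE 276 ct_nc32_20_cnt_EG = true := (okE_nil 276)

noncomputable def ct_nc32_21_cnt_EG : List Net := []

theorem ct_nc32_21_cnt_EG_ok : okE 276 ct_nc32_21_cnt_EG = true := (okE_nil 276)

noncomputable def ct_nc32_24_cnt_EG : List Net := []

theorem ct_nc32_24_cnt_EG_ok : okE 276 ct_nc32_24_cnt_EG = true := (okE_nil 276)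

noncomputable def ct_nc32_25_cnt_EG : List Net := []

theorem ct_nc32_25_cnt_EG_ok : okE 276 ct_nc32_25_cnt_EG = true := (okE_nil 276)

noncomputable def ct_nc32_26_cnt_EG : List Net := []

theorem ct_nc32_26_cnt_EG_ok : okE 276 ct_nc32_26_cnt_EG = true := (okE_nil 276)

noncomputable def ct_nc32_27_cnt_EG : List Net := []

theorem ct_nc32_27_cnt_EG_ok : okE 276 ct_nc32_27_cnt_EG = true := (okE_nil 276)

noncomputable def ct_nc32_28_cnt_EG : List Net := []

theorem ct_nc32_28_cnt_EG_ok : okE 276 ct_nc32_28_cnt_EG = true := (okE_nil 276)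

noncomputable def ct_nc32_29_cnt_EG : List Net := []

theorem ct_nc32_29_cnt_EG_ok : okE 276 ct_nc32_29_cnt_EG = true := (okE_nil 276)

noncomputable def ct_nc32_31_cnt_EG : List Net := []

theorem ct_nc32_31_cnt_EG_ok : okE 276 ct_nc32_31_cnt_EG = true := (okE_nil 276)

noncomputable def ct_nc33_18_cnt_EG : List Net := []

theorem ct_nc33_18_cnt_EG_ok : okE 276 ct_nc33_18_cnt_EG = true := (okE_nil 276)

noncomputable def ct_nc33_22_cnt_EG : List Net := []

theorem ct_nc33_22_cnt_EG_ok : okE 276 ct_nc33_22_cnt_EG = true := (okE_nil 276)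

noncomputable def ct_nc33_23_cnt_EG : List Net := []

theorem ct_nc33_23_cnt_EG_ok : okE 276 ct_nc33_23_cnt_EG = true := (okE_nil 276)

noncomputable def ct_nc33_30_cnt_EG : List Net := []

theorem ct_nc33_30_cnt_EG_ok : okE 276 ct_nc33_30_cnt_EG = true := (okE_nil 276)

noncomputable def ct_nc34_16_cnt_EG : List Net := []

theorem ct_nc34_16_cnt_EG_ok : okE 276 ct_nc34_16_cnt_EG = true := (okE_nil 276)

noncomputable def ct_nc34_17_cnt_EG : List Net := []

theorem ct_nc34_17_cnt_EG_ok : okE 276 ct_nc34_17_cnt_EG = true := (okE_nil 276)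

noncomputable def ct_nc34_19_cnt_EG : List Net := []

theorem ct_nc34_19_cnt_EG_ok : okE 276 ct_nc34_19_cnt_EG = true := (okE_nil 276)

noncomputable def ct_nc34_20_cnt_EG : List Net := []

theorem ct_nc34_20_cnt_EG_ok : okE 276 ct_nc34_20_cnt_EG = true := (okE_nil 276)

noncomputable def ct_nc34_21_cnt_EG : List Net := []

theorem ct_nc34_21_cnt_EG_ok : okE 276 ct_nc34_21_cnt_EG = true := (okE_nil 276)

noncomputable def ct_nc34_24_cnt_EG : List Net := []

theorem ct_nc34_24_cnt_EG_ok : okE 276 ct_nc34_24_cnt_EG = true := (okE_nil 276)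

noncomputable def ct_nc34_25_cnt_EG : List Net := []

theorem ct_nc34_25_cnt_EG_ok : okE 276 ct_nc34_25_cnt_EG = true := (okE_nil 276)

noncomputable def ct_nc34_26_cnt_EG : List Net := []

theorem ct_nc34_26_cnt_EG_ok : okE 276 ct_nc34_26_cnt_EG = true := (okE_nil 276)

noncomputable def ct_nc34_27_cnt_EG : List Net := []

theorem ct_nc34_27_cnt_EG_ok : okE 276 ct_nc34_27_cnt_EG = true := (okE_nil 276)

noncomputable def ct_nc34_28_cnt_EG : List Net := []

theorem ct_nc34_28_cnt_EG_ok : okE 276 ct_nc34_28_cnt_EG = true := (okE_nil 276)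

noncomputable def ct_nc34_29_cnt_EG : List Net := []

theorem ct_nc34_29_cnt_EG_ok : okE 276 ct_nc34_29_cnt_EG = true := (okE_nil 276)

noncomputable def ct_nc34_31_cnt_EG : List Net := []

theorem ct_nc34_31_cnt_EG_ok : okE 276 ct_nc34_31_cnt_EG = true := (okE_nil 276)

noncomputable def ct_nc34_32_cnt_EG : List Net := []

theorem ct_nc34_32_cnt_EG_ok : okE 276 ct_nc34_32_cnt_EG = true := (okE_nil 276)

noncomputable def ct_nc35_16_cnt_EG : List Net := []

theorem ct_nc35_16_cnt_EG_ok : okE 276 ct_nc35_16_cnt_EG = true := (okE_nil 276)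

noncomputable def ct_nc35_17_cnt_EG : List Net := []

theorem ct_nc35_17_cnt_EG_ok : okE 276 ct_nc35_17_cnt_EG = true := (okE_nil 276)

noncomputable def ct_nc35_19_cnt_EG : List Net := []

theorem ct_nc35_19_cnt_EG_ok : okE 276 ct_nc35_19_cnt_EG = true := (okE_nil 276)

noncomputable def ct_nc35_20_cnt_EG : List Net := []

theorem ct_nc35_20_cnt_EG_ok : okE 276 ct_nc35_20_cnt_EG = true := (okE_nil 276)

noncomputable def ct_nc35_21_cnt_EG : List Net := []

theorem ct_nc35_21_cnt_EG_ok : okE 276 ct_nc35_21_cnt_EG = true := (okE_nil 276)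

noncomputable def ct_nc35_24_cnt_EG : List Net := []

theorem ct_nc35_24_cnt_EG_ok : okE 276 ct_nc35_24_cnt_EG = true := (okE_nil 276)

noncomputable def ct_nc35_25_cnt_EG : List Net := []

theorem ct_nc35_25_cnt_EG_ok : okE 276 ct_nc35_25_cnt_EG = true := (okE_nil 276)

noncomputable def ct_nc35_26_cnt_EG : List Net := []

theorem ct_nc35_26_cnt_EG_ok : okE 276 ct_nc35_26_cnt_EG = true := (okE_nil 276)

noncomputable def ct_nc35_27_cnt_EG : List Net := []

theorem ct_nc35_27_cnt_EG_ok : okE 276 ct_nc35_27_cnt_EG = true := (okE_nil 276)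

noncomputable def ct_nc35_28_cnt_EG : List Net := []

theorem ct_nc35_28_cnt_EG_ok : okE 276 ct_nc35_28_cnt_EG = true := (okE_nil 276)

noncomputable def ct_nc35_29_cnt_EG : List Net := []

theorem ct_nc35_29_cnt_EG_ok : okE 276 ct_nc35_29_cnt_EG = true := (okE_nil 276)

noncomputable def ct_nc35_31_cnt_EG : List Net := []

theorem ct_nc35_31_cnt_EG_ok : okE 276 ct_nc35_31_cnt_EG = true := (okE_nil 276)

noncomputable def ct_nc35_32_cnt_EG : List Net := []

theorem ct_nc35_32_cnt_EG_ok : okE 276 ct_nc35_32_cnt_EG = true := (okE_nil 276)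

noncomputable def ct_nc35_34_cnt_EG : List Net := []

theorem ct_nc35_34_cnt_EG_ok : okE 276 ct_nc35_34_cnt_EG = true := (okE_nil 276)

noncomputable def ct_nc36_16_cnt_EG : List Net := []

theorem ct_nc36_16_cnt_EG_ok : okE 276 ct_nc36_16_cnt_EG = true := (okE_nil 276)

noncomputable def ct_nc36_17_cnt_EG : List Net := []

theorem ct_nc36_17_cnt_EG_ok : okE 276 ct_nc36_17_cnt_EG = true := (okE_nil 276)

noncomputable def ct_nc36_19_cnt_EG : List Net := []

theorem ct_nc36_19_cnt_EG_ok : okE 276 ct_nc36_19_cnt_EG = true := (okE_nil 276)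

noncomputable def ct_nc36_20_cnt_EG : List Net := []

theorem ct_nc36_20_cnt_EG_ok : okE 276 ct_nc36_20_cnt_EG = true := (okE_nil 276)

noncomputable def ct_nc36_21_cnt_EG : List Net := []

theorem ct_nc36_21_cnt_EG_ok : okE 276 ct_nc36_21_cnt_EG = true := (okE_nil 276)

noncomputable def ct_nc36_24_cnt_EG : List Net := []

theorem ct_nc36_24_cnt_EG_ok : okE 276 ct_nc36_24_cnt_EG = true := (okE_nil 276)

noncomputable def ct_nc36_25_cnt_EG : List Net := []

theorem ct_nc36_25_cnt_EG_ok : okE 276 ct_nc36_25_cnt_EG = true := (okE_nil 276)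

noncomputable def ct_nc36_26_cnt_EG : List Net := []

theorem ct_nc36_26_cnt_EG_ok : okE 276 ct_nc36_26_cnt_EG = true := (okE_nil 276)

noncomputable def ct_nc36_27_cnt_EG : List Net := []

theorem ct_nc36_27_cnt_EG_ok : okE 276 ct_nc36_27_cnt_EG = true := (okE_nil 276)

noncomputable def ct_nc36_28_cnt_EG : List Net := []

theorem ct_nc36_28_cnt_EG_ok : okE 276 ct_nc36_28_cnt_EG = true := (okE_nil 276)

noncomputable def ct_nc36_29_cnt_EG : List Net := []

theorem ct_nc36_29_cnt_EG_ok : okE 276 ct_nc36_29_cnt_EG = true := (okE_nil 276)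

noncomputable def ct_nc36_31_cnt_EG : List Net := []

theorem ct_nc36_31_cnt_EG_ok : okE 276 ct_nc36_31_cnt_EG = true := (okE_nil 276)

noncomputable def ct_nc36_32_cnt_EG : List Net := []

theorem ct_nc36_32_cnt_EG_ok : okE 276 ct_nc36_32_cnt_EG = true := (okE_nil 276)

noncomputable def ct_nc36_34_cnt_EG : List Net := []

theorem ct_nc36_34_cnt_EG_ok : okE 276 ct_nc36_34_cnt_EG = true := (okE_nil 276)

noncomputable def ct_nc36_35_cnt_EG : List Net := []

theorem ct_nc36_35_cnt_EG_ok : okE 276 ct_nc36_35_cnt_EG = true := (okE_nil 276)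

noncomputable def ct_nc37_18_cnt_EG : List Net := []

theorem ct_nc37_18_cnt_EG_ok : okE 276 ct_nc37_18_cnt_EG = true := (okE_nil 276)

noncomputable def ct_nc37_22_cnt_EG : List Net := []

theorem ct_nc37_22_cnt_EG_ok : okE 276 ct_nc37_22_cnt_EG = true := (okE_nil 276)

noncomputable def ct_nc37_23_cnt_EG : List Net := []

theorem ct_nc37_23_cnt_EG_ok : okE 276 ct_nc37_23_cnt_EG = true := (okE_nil 276)

noncomputable def ct_nc37_30_cnt_EG : List Net := []

theorem ct_nc37_30_cnt_EG_ok : okE 276 ct_nc37_30_cnt_EG = true := (okE_nil 276)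

noncomputable def ct_nc37_33_cnt_EG : List Net := []

theorem ct_nc37_33_cnt_EG_ok : okE 276 ct_nc37_33_cnt_EG = true := (okE_nil 276)

noncomputable def ct_nc38_16_cnt_EG : List Net := []

theorem ct_nc38_16_cnt_EG_ok : okE 276 ct_nc38_16_cnt_EG = true := (okE_nil 276)

noncomputable def ct_nc38_17_cnt_EG : List Net := []

theorem ct_nc38_17_cnt_EG_ok : okE 276 ct_nc38_17_cnt_EG = true := (okE_nil 276)

noncomputable def ct_nc38_19_cnt_EG : List Net := []

theorem ct_nc38_19_cnt_EG_ok : okE 276 ct_nc38_19_cnt_EG = true := (okE_nil 276)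

noncomputable def ct_nc38_20_cnt_EG : List Net := []

theorem ct_nc38_20_cnt_EG_ok : okE 276 ct_nc38_20_cnt_EG = true := (okE_nil 276)

noncomputable def ct_nc38_21_cnt_EG : List Net := []

theorem ct_nc38_21_cnt_EG_ok : okE 276 ct_nc38_21_cnt_EG = true := (okE_nil 276)

noncomputable def ct_nc38_24_cnt_EG : List Net := []

theorem ct_nc38_24_cnt_EG_ok : okE 276 ct_nc38_24_cnt_EG = true := (okE_nil 276)

noncomputable def ct_nc38_25_cnt_EG : List Net := []

theorem ct_nc38_25_cnt_EG_ok : okE 276 ct_nc38_25_cnt_EG = true := (okE_nil 276)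

noncomputable def ct_nc38_26_cnt_EG : List Net := []

theorem ct_nc38_26_cnt_EG_ok : okE 276 ct_nc38_26_cnt_EG = true := (okE_nil 276)

noncomputable def ct_nc38_27_cnt_EG : List Net := []

theorem ct_nc38_27_cnt_EG_ok : okE 276 ct_nc38_27_cnt_EG = true := (okE_nil 276)

noncomputable def ct_nc38_28_cnt_EG : List Net := []

theorem ct_nc38_28_cnt_EG_ok : okE 276 ct_nc38_28_cnt_EG = true := (okE_nil 276)

noncomputable def ct_nc38_29_cnt_EG : List Net := []

theorem ct_nc38_29_cnt_EG_ok : okE 276 ct_nc38_29_cnt_EG = true := (okE_nil 276)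

noncomputable def ct_nc38_31_cnt_EG : List Net := []

theorem ct_nc38_31_cnt_EG_ok : okE 276 ct_nc38_31_cnt_EG = true := (okE_nil 276)

noncomputable def ct_nc38_32_cnt_EG : List Net := []

theorem ct_nc38_32_cnt_EG_ok : okE 276 ct_nc38_32_cnt_EG = true := (okE_nil 276)

noncomputable def ct_nc38_34_cnt_EG : List Net := []

theorem ct_nc38_34_cnt_EG_ok : okE 276 ct_nc38_34_cnt_EG = true := (okE_nil 276)

noncomputable def ct_nc38_35_cnt_EG : List Net := []

theorem ct_nc38_35_cnt_EG_ok : okE 276 ct_nc38_35_cnt_EG = true := (okE_nil 276)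

noncomputable def ct_nc38_36_cnt_EG : List Net := []

theorem ct_nc38_36_cnt_EG_ok : okE 276 ct_nc38_36_cnt_EG = true := (okE_nil 276)

noncomputable def ct_nc39_16_cnt_EG : List Net := []

theorem ct_nc39_16_cnt_EG_ok : okE 276 ct_nc39_16_cnt_EG = true := (okE_nil 276)

noncomputable def ct_nc39_17_cnt_EG : List Net := []

theorem ct_nc39_17_cnt_EG_ok : okE 276 ct_nc39_17_cnt_EG = true := (okE_nil 276)

noncomputable def ct_nc39_19_cnt_EG : List Net := []

theorem ct_nc39_19_cnt_EG_ok : okE 276 ct_nc39_19_cnt_EG = true := (okE_nil 276)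

noncomputable def ct_nc39_20_cnt_EG : List Net := []

theorem ct_nc39_20_cnt_EG_ok : okE 276 ct_nc39_20_cnt_EG = true := (okE_nil 276)

noncomputable def ct_nc39_21_cnt_EG : List Net := []

theorem ct_nc39_21_cnt_EG_ok : okE 276 ct_nc39_21_cnt_EG = true := (okE_nil 276)

noncomputable def ct_nc39_24_cnt_EG : List Net := []

theorem ct_nc39_24_cnt_EG_ok : okE 276 ct_nc39_24_cnt_EG = true := (okE_nil 276)

noncomputable def ct_nc39_25_cnt_EG : List Net := []

theorem ct_nc39_25_cnt_EG_ok : okE 276 ct_nc39_25_cnt_EG = true := (okE_nil 276)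

noncomputable def ct_nc39_26_cnt_EG : List Net := []

theorem ct_nc39_26_cnt_EG_ok : okE 276 ct_nc39_26_cnt_EG = true := (okE_nil 276)

noncomputable def ct_nc39_27_cnt_EG : List Net := []

theorem ct_nc39_27_cnt_EG_ok : okE 276 ct_nc39_27_cnt_EG = true := (okE_nil 276)

noncomputable def ct_nc39_28_cnt_EG : List Net := []

theorem ct_nc39_28_cnt_EG_ok : okE 276 ct_nc39_28_cnt_EG = true := (okE_nil 276)

noncomputable def ct_nc39_29_cnt_EG : List Net := []

theorem ct_nc39_29_cnt_EG_ok : okE 276 ct_nc39_29_cnt_EG = true := (okE_nil 276)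

noncomputable def ct_nc39_31_cnt_EG : List Net := []

theorem ct_nc39_31_cnt_EG_ok : okE 276 ct_nc39_31_cnt_EG = true := (okE_nil 276)

noncomputable def ct_nc39_32_cnt_EG : List Net := []

theorem ct_nc39_32_cnt_EG_ok : okE 276 ct_nc39_32_cnt_EG = true := (okE_nil 276)

noncomputable def ct_nc39_34_cnt_EG : List Net := []

theorem ct_nc39_34_cnt_EG_ok : okE 276 ct_nc39_34_cnt_EG = true := (okE_nil 276)

noncomputable def ct_nc39_35_cnt_EG : List Net := []

theorem ct_nc39_35_cnt_EG_ok : okE 276 ct_nc39_35_cnt_EG = true := (okE_nil 276)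

noncomputable def ct_nc39_36_cnt_EG : List Net := []

theorem ct_nc39_36_cnt_EG_ok : okE 276 ct_nc39_36_cnt_EG = true := (okE_nil 276)

noncomputable def ct_nc39_38_cnt_EG : List Net := []

theorem ct_nc39_38_cnt_EG_ok : okE 276 ct_nc39_38_cnt_EG = true := (okE_nil 276)

noncomputable def ct_nc40_16_cnt_EG : List Net := []

theorem ct_nc40_16_cnt_EG_ok : okE 276 ct_nc40_16_cnt_EG = true := (okE_nil 276)

noncomputable def ct_nc40_17_cnt_EG : List Net := []

theorem ct_nc40_17_cnt_EG_ok : okE 276 ct_nc40_17_cnt_EG = true := (okE_nil 276)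

noncomputable def ct_nc40_19_cnt_EG : List Net := []

theorem ct_nc40_19_cnt_EG_ok : okE 276 ct_nc40_19_cnt_EG = true := (okE_nil 276)

noncomputable def ct_nc40_20_cnt_EG : List Net := []

theorem ct_nc40_20_cnt_EG_ok : okE 276 ct_nc40_20_cnt_EG = true := (okE_nil 276)

noncomputable def ct_nc40_21_cnt_EG : List Net := []

theorem ct_nc40_21_cnt_EG_ok : okE 276 ct_nc40_21_cnt_EG = true := (okE_nil 276)

noncomputable def ct_nc40_24_cnt_EG : List Net := []

theorem ct_nc40_24_cnt_EG_ok : okE 276 ct_nc40_24_cnt_EG = true := (okE_nil 276)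

noncomputable def ct_nc40_25_cnt_EG : List Net := []

theorem ct_nc40_25_cnt_EG_ok : okE 276 ct_nc40_25_cnt_EG = true := (okE_nil 276)

noncomputable def ct_nc40_26_cnt_EG : List Net := []

theorem ct_nc40_26_cnt_EG_ok : okE 276 ct_nc40_26_cnt_EG = true := (okE_nil 276)

noncomputable def ct_nc40_27_cnt_EG : List Net := []

theorem ct_nc40_27_cnt_EG_ok : okE 276 ct_nc40_27_cnt_EG = true := (okE_nil 276)

noncomputable def ct_nc40_28_cnt_EG : List Net := []

theorem ct_nc40_28_cnt_EG_ok : okE 276 ct_nc40_28_cnt_EG = true := (okE_nil 276)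

noncomputable def ct_nc40_29_cnt_EG : List Net := []

theorem ct_nc40_29_cnt_EG_ok : okE 276 ct_nc40_29_cnt_EG = true := (okE_nil 276)

noncomputable def ct_nc40_31_cnt_EG : List Net := []

theorem ct_nc40_31_cnt_EG_ok : okE 276 ct_nc40_31_cnt_EG = true := (okE_nil 276)

noncomputable def ct_nc40_32_cnt_EG : List Net := []

theorem ct_nc40_32_cnt_EG_ok : okE 276 ct_nc40_32_cnt_EG = true := (okE_nil 276)

noncomputable def ct_nc40_34_cnt_EG : List Net := []

theorem ct_nc40_34_cnt_EG_ok : okE 276 ct_nc40_34_cnt_EG = true := (okE_nil 276)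

noncomputable def ct_nc40_35_cnt_EG : List Net := []

theorem ct_nc40_35_cnt_EG_ok : okE 276 ct_nc40_35_cnt_EG = true := (okE_nil 276)

noncomputable def ct_nc40_36_cnt_EG : List Net := []

theorem ct_nc40_36_cnt_EG_ok : okE 276 ct_nc40_36_cnt_EG = true := (okE_nil 276)

noncomputable def ct_nc40_38_cnt_EG : List Net := []

theorem ct_nc40_38_cnt_EG_ok : okE 276 ct_nc40_38_cnt_EG = true := (okE_nil 276)

noncomputable def ct_nc40_39_cnt_EG : List Net := []

theorem ct_nc40_39_cnt_EG_ok : okE 276 ct_nc40_39_cnt_EG = true := (okE_nil 276)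

noncomputable def ct_nc41_16_cnt_EG : List Net := []

theorem ct_nc41_16_cnt_EG_ok : okE 276 ct_nc41_16_cnt_EG = true := (okE_nil 276)

noncomputable def ct_nc41_17_cnt_EG : List Net := []

theorem ct_nc41_17_cnt_EG_ok : okE 276 ct_nc41_17_cnt_EG = true := (okE_nil 276)

noncomputable def ct_nc41_19_cnt_EG : List Net := []

theorem ct_nc41_19_cnt_EG_ok : okE 276 ct_nc41_19_cnt_EG = true := (okE_nil 276)

noncomputable def ct_nc41_20_cnt_EG : List Net := []

theorem ct_nc41_20_cnt_EG_ok : okE 276 ct_nc41_20_cnt_EG = true := (okE_nil 276)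

noncomputable def ct_nc41_21_cnt_EG : List Net := []

theorem ct_nc41_21_cnt_EG_ok : okE 276 ct_nc41_21_cnt_EG = true := (okE_nil 276)

noncomputable def ct_nc41_24_cnt_EG : List Net := []

theorem ct_nc41_24_cnt_EG_ok : okE 276 ct_nc41_24_cnt_EG = true := (okE_nil 276)

noncomputable def ct_nc41_25_cnt_EG : List Net := []

theorem ct_nc41_25_cnt_EG_ok : okE 276 ct_nc41_25_cnt_EG = true := (okE_nil 276)

noncomputable def ct_nc41_26_cnt_EG : List Net := []

theorem ct_nc41_26_cnt_EG_ok : okE 276 ct_nc41_26_cnt_EG = true := (okE_nil 276)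

noncomputable def ct_nc41_27_cnt_EG : List Net := []

theorem ct_nc41_27_cnt_EG_ok : okE 276 ct_nc41_27_cnt_EG = true := (okE_nil 276)

noncomputable def ct_nc41_28_cnt_EG : List Net := []

theorem ct_nc41_28_cnt_EG_ok : okE 276 ct_nc41_28_cnt_EG = true := (okE_nil 276)

noncomputable def ct_nc41_29_cnt_EG : List Net := []

theorem ct_nc41_29_cnt_EG_ok : okE 276 ct_nc41_29_cnt_EG = true := (okE_nil 276)

noncomputable def ct_nc41_31_cnt_EG : List Net := []

theorem ct_nc41_31_cnt_EG_ok : okE 276 ct_nc41_31_cnt_EG = true := (okE_nil 276)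

noncomputable def ct_nc41_32_cnt_EG : List Net := []

theorem ct_nc41_32_cnt_EG_ok : okE 276 ct_nc41_32_cnt_EG = true := (okE_nil 276)

noncomputable def ct_nc41_34_cnt_EG : List Net := []

theorem ct_nc41_34_cnt_EG_ok : okE 276 ct_nc41_34_cnt_EG = true := (okE_nil 276)

noncomputable def ct_nc41_35_cnt_EG : List Net := []

theorem ct_nc41_35_cnt_EG_ok : okE 276 ct_nc41_35_cnt_EG = true := (okE_nil 276)

noncomputable def ct_nc41_36_cnt_EG : List Net := []

theorem ct_nc41_36_cnt_EG_ok : okE 276 ct_nc41_36_cnt_EG = true := (okE_nil 276)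

noncomputable def ct_nc41_38_cnt_EG : List Net := []

theorem ct_nc41_38_cnt_EG_ok : okE 276 ct_nc41_38_cnt_EG = true := (okE_nil 276)

noncomputable def ct_nc41_39_cnt_EG : List Net := []

theorem ct_nc41_39_cnt_EG_ok : okE 276 ct_nc41_39_cnt_EG = true := (okE_nil 276)

noncomputable def ct_nc41_40_cnt_EG : List Net := []

theorem ct_nc41_40_cnt_EG_ok : okE 276 ct_nc41_40_cnt_EG = true := (okE_nil 276)

noncomputable def ct_nc42_16_cnt_EG : List Net := []

theorem ct_nc42_16_cnt_EG_ok : okE 276 ct_nc42_16_cnt_EG = true := (okE_nil 276)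

noncomputable def ct_nc42_17_cnt_EG : List Net := []

theorem ct_nc42_17_cnt_EG_ok : okE 276 ct_nc42_17_cnt_EG = true := (okE_nil 276)

noncomputable def ct_nc42_19_cnt_EG : List Net := []

theorem ct_nc42_19_cnt_EG_ok : okE 276 ct_nc42_19_cnt_EG = true := (okE_nil 276)

noncomputable def ct_nc42_20_cnt_EG : List Net := []

theorem ct_nc42_20_cnt_EG_ok : okE 276 ct_nc42_20_cnt_EG = true := (okE_nil 276)

noncomputable def ct_nc42_21_cnt_EG : List Net := []

theorem ct_nc42_21_cnt_EG_ok : okE 276 ct_nc42_21_cnt_EG = true := (okE_nil 276)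

noncomputable def ct_nc42_24_cnt_EG : List Net := []

theorem ct_nc42_24_cnt_EG_ok : okE 276 ct_nc42_24_cnt_EG = true := (okE_nil 276)

noncomputable def ct_nc42_25_cnt_EG : List Net := []

theorem ct_nc42_25_cnt_EG_ok : okE 276 ct_nc42_25_cnt_EG = true := (okE_nil 276)

noncomputable def ct_nc42_26_cnt_EG : List Net := []

theorem ct_nc42_26_cnt_EG_ok : okE 276 ct_nc42_26_cnt_EG = true := (okE_nil 276)

noncomputable def ct_nc42_27_cnt_EG : List Net := []

theorem ct_nc42_27_cnt_EG_ok : okE 276 ct_nc42_27_cnt_EG = true := (okE_nil 276)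

noncomputable def ct_nc42_28_cnt_EG : List Net := []

theorem ct_nc42_28_cnt_EG_ok : okE 276 ct_nc42_28_cnt_EG = true := (okE_nil 276)

noncomputable def ct_nc42_29_cnt_EG : List Net := []

theorem ct_nc42_29_cnt_EG_ok : okE 276 ct_nc42_29_cnt_EG = true := (okE_nil 276)

noncomputable def ct_nc42_31_cnt_EG : List Net := []

theorem ct_nc42_31_cnt_EG_ok : okE 276 ct_nc42_31_cnt_EG = true := (okE_nil 276)

noncomputable def ct_nc42_32_cnt_EG : List Net := []

theorem ct_nc42_32_cnt_EG_ok : okE 276 ct_nc42_32_cnt_EG = true := (okE_nil 276)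

noncomputable def ct_nc42_34_cnt_EG : List Net := []

theorem ct_nc42_34_cnt_EG_ok : okE 276 ct_nc42_34_cnt_EG = true := (okE_nil 276)

noncomputable def ct_nc42_35_cnt_EG : List Net := []

theorem ct_nc42_35_cnt_EG_ok : okE 276 ct_nc42_35_cnt_EG = true := (okE_nil 276)

noncomputable def ct_nc42_36_cnt_EG : List Net := []

theorem ct_nc42_36_cnt_EG_ok : okE 276 ct_nc42_36_cnt_EG = true := (okE_nil 276)

noncomputable def ct_nc42_38_cnt_EG : List Net := []

theorem ct_nc42_38_cnt_EG_ok : okE 276 ct_nc42_38_cnt_EG = true := (okE_nil 276)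

noncomputable def ct_nc42_39_cnt_EG : List Net := []

theorem ct_nc42_39_cnt_EG_ok : okE 276 ct_nc42_39_cnt_EG = true := (okE_nil 276)

noncomputable def ct_nc42_40_cnt_EG : List Net := []

theorem ct_nc42_40_cnt_EG_ok : okE 276 ct_nc42_40_cnt_EG = true := (okE_nil 276)

noncomputable def ct_nc42_41_cnt_EG : List Net := []

theorem ct_nc42_41_cnt_EG_ok : okE 276 ct_nc42_41_cnt_EG = true := (okE_nil 276)

noncomputable def ct_nc43_18_cnt_EG : List Net := []

theorem ct_nc43_18_cnt_EG_ok : okE 276 ct_nc43_18_cnt_EG = true := (okE_nil 276)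

noncomputable def ct_nc43_22_cnt_EG : List Net := []

theorem ct_nc43_22_cnt_EG_ok : okE 276 ct_nc43_22_cnt_EG = true := (okE_nil 276)

noncomputable def ct_nc43_23_cnt_EG : List Net := []

theorem ct_nc43_23_cnt_EG_ok : okE 276 ct_nc43_23_cnt_EG = true := (okE_nil 276)

noncomputable def ct_nc43_30_cnt_EG : List Net := []

theorem ct_nc43_30_cnt_EG_ok : okE 276 ct_nc43_30_cnt_EG = true := (okE_nil 276)

noncomputable def ct_nc43_33_cnt_EG : List Net := []

theorem ct_nc43_33_cnt_EG_ok : okE 276 ct_nc43_33_cnt_EG = true := (okE_nil 276)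

noncomputable def ct_nc43_37_cnt_EG : List Net := []

theorem ct_nc43_37_cnt_EG_ok : okE 276 ct_nc43_37_cnt_EG = true := (okE_nil 276)

noncomputable def EV : List Net := [n_t, n_u, n_w, n_x]

theorem EV_ok : okE 276 EV = true := (okE_cons.2 ⟨n_t_ok, (okE_cons.2 ⟨n_u_ok, (okE_cons.2 ⟨n_w_ok, (okE_cons.2 ⟨n_x_ok, (okE_nil 276)⟩)⟩)⟩)⟩)

noncomputable def EM : List Net := [n_b1, n_b2, n_b3, n_s1, n_s2]

theorem EM_ok : okE 276 EM = true := (okE_cons.2 ⟨n_b1_ok, (okE_cons.2 ⟨n_b2_ok, (okE_cons.2 ⟨n_b3_ok, (okE_cons.2 ⟨n_s1_ok, (okE_cons.2 ⟨n_s2_ok, (okE_nil 276)⟩)⟩)⟩)⟩)⟩)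

noncomputable def V827 : List Net := [n_s1]

theorem V827_ok : okE 276 V827 = true := (okE_cons.2 ⟨n_s1_ok, (okE_nil 276)⟩)

noncomputable def g829 : Net := (Net.cons (nat_lit 1) (nat_lit 0x511445501155151110514444140555440100441414111054000055111455110511410) (Net.cons (nat_lit 2) (nat_lit 0x223211020011012230333200333322203302220102301113012231003021020103110) (Net.cons (nat_lit 4) (nat_lit 0x30806000c070804050d090b0c060f0004090b0a060100010b050a020f000602010c) (Net.cons (nat_lit 8) (nat_lit 0xa4002200670060003e00db001b00a900ae00b80012006c00f5003c004c00a80008) (Net.cons (nat_lit 16) (nat_lit 0xd0000d352000075df0000184500003da10000b69d00004e8900001a610000f010) (Net.cons (nat_lit 32) (nat_lit 0x22a488c50000000064ae219d00000000a6503c3400000000000303e4) (Net.cons (nat_lit 64) (nat_lit 0x6f4152a0220f602700000000000000000000000000000d15) (Net.cons (nat_lit 128) (nat_lit 0x61122ce647e3ddcf9ef972553162724d) (Net.cons (nat_lit 256) (nat_lit 262141) (Net.cons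 (nat_lit 128) (nat_lit 946021) (Net.cons (nat_lit 64) (nat_lit 0x4e07ddccd0800260000000000000000a944075253720e20) (Net.cons (nat_lit 32) (nat_lit 0xe78c393d000000005e820feb000000009090aa8f0000000002abbd19) (Net.cons (nat_lit 16) (nat_lit 0x900007f6a000074020000e71700009db60000fce20000d1bf00006316000095d7) (Net.cons (nat_lit 8) (nat_lit 0xe0008600a1007900a60078008700330083006a00450080001e00680064007a0026) (Net.cons (nat_lit 4) (nat_lit 0x904000c0409040e050c0b0d0e0a07070e0b0d020a03070b0d0200030c0d0c09050d) (Net.cons (nat_lit 2) (nat_lit 0x132320200112113201213031313131003213121300211122001133323110020233013) (Net.cons (nat_lit 1) (nat_lit 0x444105404450441000414000105544441000050054050405151445451044540555410) Net.nil)))))))))))))))))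

theorem g829_ok : Net.ok 276 g829 = true := by decide +kernel

noncomputable def g830 : Net := (Net.cons (nat_lit 1) (nat_lit 0x155050441110055511504441515550505411404000411045504010505555001050140) (Net.cons (nat_lit 2) (nat_lit 0x120002011300121101100301020033211120023110231230022310202313013110210) (Net.cons (nat_lit 4) (nat_lit 0x50308060404040401000b0008060e040101060e050d070c0e090207080b03000002) (Net.cons (nat_lit 8) (nat_lit 0x42001e00980053005700160046006f00eb003d0010001000830000003400830002) (Net.cons (nat_lit 16) (nat_lit 0x400000c8400000450000060c30000e62e00003da800001c4d00000ac400005300) (Net.cons (nat_lit 32) (nat_lit 0xd823d05c00000000266c42700000000048d445e5000000000003510e) (Net.cons (nat_lit 64) (nat_lit 0x28942241010af87600000000000000000000000000038d41) (Net.cons (nat_lit 128) (nat_lit 0x92564c2971f5f6c66ec12bec4a9b986c) (Net.cons (nat_lit 256) (nat_lit 786287) (Net.cons (nat_lit 128) (nat_lit 884829) (Net.cons (nat_lit 64)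 (nat_lit 0xccd3e19d132788940000000000000000fe189562e0505de5) (Net.cons (nat_lit 32) (nat_lit 0xef2849f2000000008d87c3bc0000000086817e7800000000e57e95b3) (Net.cons (nat_lit 16) (nat_lit 0x6000019a7000026bf00009f5c00008a2a0000aecf00000bdb0000a52700005afe) (Net.cons (nat_lit 8) (nat_lit 0xa7002400c7001900a000bb005500c1006300d5008500c8001d006a001b00870029) (Net.cons (nat_lit 4) (nat_lit 0x80806020c09090f0f0d08010f080f0a0a0c0a0d0f0e0b0c000f0207040d0a060008) (Net.cons (nat_lit 2) (nat_lit 0x233101033101130332320030023132010011111331031123330013322211222020123) (Net.cons (nat_lit 1) (nat_lit 0x100544404045051551540451414401501005550510540514551054050510151100404) Net.nil)))))))))))))))))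

theorem g830_ok : Net.ok 276 g830 = true := by decide +kernel

noncomputable def V831 : List Net := [g829, g830]

theorem V831_ok : okE 276 V831 = true := (okE_cons.2 ⟨g829_ok, (okE_cons.2 ⟨g830_ok, (okE_nil 276)⟩)⟩)

noncomputable def g833 : Net := (Net.cons (nat_lit 1) (nat_lit 0x554001154110010011550445014401055500400100515410150455451540115555000) (Net.cons (nat_lit 2) (nat_lit 0x221110330113210101033301212303311323332132310313203321211131123222200) (Net.cons (nat_lit 4) (nat_lit 0x50a030c010a090a080c000a08040d05010102000a0b0b0808040302020f0c020408) (Net.cons (nat_lit 8) (nat_lit 0xa80032006c00dd009400fa00320000000a001e005400450088004a003400050000) (Net.cons (nat_lit 16) (nat_lit 0xc3fc0000eb480000a0f40000c9a10000467e00000b4d0000e068000011a0) (Net.cons (nat_lit 32) (nat_lit 0xa9058d7c0000000046088bec00000000b21451520000000000008154) (Net.cons (nat_lit 64) (nat_lit 0xa20be058096a121600000000000000000000000000043173) (Net.cons (nat_lit 128)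 (nat_lit 0x1874f18d4e124f2efbfb04f0a76b2422) (Net.cons (nat_lit 256) (nat_lit 0xfb5ff) (Net.cons (nat_lit 128) (nat_lit 728371) (Net.cons (nat_lit 64) (nat_lit 0xff8743ac0dde15230000000000000000e455160041c3c51d) (Net.cons (nat_lit 32) (nat_lit 0xb502307f00000000b1c4c96800000000936fdeaf00000000b7becaaf) (Net.cons (nat_lit 16) (nat_lit 0x40000de0c0000289700001e3f0000f05a000093a700007ebf000080560000389e) (Net.cons (nat_lit 8) (nat_lit 0x5f00030094006100fe00da009d005100cf00f300f300d1000700dd009300740065) (Net.cons (nat_lit 4) (nat_lit 0xb0705070b0d00010a0409000b02060a07010a0007080b0d06070105020f0f07000d) (Net.cons (nat_lit 2) (nat_lit 0x103321220021012311333001323320022211110322013103331000331322330003223) (Net.cons (nat_lit 1) (nat_lit 0x451041140115144504015540554105505011501105140055550440400410551455154) Net.nil)))))))))))))))))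

theorem g833_ok : Net.ok 276 g833 = true := by decide +kernel

noncomputable def V834 : List Net := [g833]

theorem V834_ok : okE 276 V834 = true := (okE_cons.2 ⟨g833_ok, (okE_nil 276)⟩)

noncomputable def g836 : Net := (Net.cons (nat_lit 1) (nat_lit 0x540551510104400504114554440550515151150414511055441044104004105110404) (Net.cons (nat_lit 2) (nat_lit 0x102203232113211303120323212012231331102221201221201323112010100101130) (Net.cons (nat_lit 4) (nat_lit 0xa000e04070105040704080c0f0d0d0e070a0f0f0e0609000205060f0200010d0804) (Net.cons (nat_lit 8) (nat_lit 0xc1003900c200a500210068008200890045002d002400fa00100065002c00ab0005) (Net.cons (nat_lit 16) (nat_lit 0xc0000a1310000d8720000f6b8000024470000cb9800005d0000008e5e00001030) (Net.cons (nat_lit 32) (nat_lit 0xa2b646b000000000844bc1f000000000182a1c00000000000026e00) (Net.cons (nat_lit 64) (nat_lit 0x44e0b080d4c08b220000000000000000000000000002d920) (Net.cons (nat_lit 128) (nat_lit 0xd1943e00ef4164eeb56789b83884216f)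 (Net.cons (nat_lit 256) (nat_lit 458751) (Net.cons (nat_lit 128) (nat_lit 449067) (Net.cons (nat_lit 64) (nat_lit 0xc43c7a260107df5d00000000000000001068223d7aaf2670) (Net.cons (nat_lit 32) (nat_lit 0xf704ac27000000006da0fcc50000000020ef79de00000000ee094174) (Net.cons (nat_lit 16) (nat_lit 0xf000081320000158900000c2f0000204c0000dea40000008600008f0f00009e87) (Net.cons (nat_lit 8) (nat_lit 0x970057002d007100d10002004500c9008200c400110055009e009700a300b50000) (Net.cons (nat_lit 4) (nat_lit 0xa00030d0f0c080c090b0e050f0c08040a0e0a0a0f080d07070d0e07060a020d080d) (Net.cons (nat_lit 2) (nat_lit 0x320100300013330231133231220131213020102011333120030302022212210121001) (Net.cons (nat_lit 1) (nat_lit 0x40144040405010404501454504144415145450014401514410054154405100004104) Net.nil)))))))))))))))))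

theorem g836_ok : Net.ok 276 g836 = true := by decide +kernel

noncomputable def g837 : Net := (Net.cons (nat_lit 1) (nat_lit 0x144411100555451540045540151004014104445450115401555045004100144400000) (Net.cons (nat_lit 2) (nat_lit 0x333300132212133312123202210022132233330120021133031031022011321100210) (Net.cons (nat_lit 4) (nat_lit 0x20d0b0d0f0d0e020200080d0e0f05080a050d050e040d02010f0b050403060e0e09) (Net.cons (nat_lit 8) (nat_lit 0xf500c500cd00750086001000da00a900660016006a001500460099006800840003) (Net.cons (nat_lit 16) (nat_lit 0x30000bb4d0000953b0000584c0000be960000cbbd00009cd40000028400009060) (Net.cons (nat_lit 32) (nat_lit 0xbec559a3000000009483ca9000000000128fc02e0000000000052414) (Net.cons (nat_lit 64) (nat_lit 0x5f8ba0314a4e5402000000000000000000000000000220c6) (Net.cons (nat_lit 128) (nat_lit 0xc572245d3ecbbb5cbacd9de4413a1639) (Net.cons (nat_lit 256) (nat_lit 0xfb7ff) (Net.cons (nat_lit 128) (nat_lit 445167) (Net.cons (nat_lit 64)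 (nat_lit 0xf0662d849c18b00e00000000000000002295450ec9830ea2) (Net.cons (nat_lit 32) (nat_lit 0x1e89919500000000c9d1fc6b000000000e410175000000000f6b4b10) (Net.cons (nat_lit 16) (nat_lit 0x6000081d40000c30a00007aeb000083720000d3f40000431a000001b900003303) (Net.cons (nat_lit 8) (nat_lit 0x52004800de002d009d00d900ec006b0013003900e50011005200390071003000c3) (Net.cons (nat_lit 4) (nat_lit 0x80c0e030d0108080f040d0f080e080109020d0205080f000206070b0a0704070208) (Net.cons (nat_lit 2) (nat_lit 0x223200321002032221133033213123231123211102202302201111020200312230000) (Net.cons (nat_lit 1) (nat_lit 0x41404140040040010150401404415511004041014445414451114441105510500444) Net.nil)))))))))))))))))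

theorem g837_ok : Net.ok 276 g837 = true := by decide +kernel

noncomputable def V838 : List Net := [g836, g837]

theorem V838_ok : okE 276 V838 = true := (okE_cons.2 ⟨g836_ok, (okE_cons.2 ⟨g837_ok, (okE_nil 276)⟩)⟩)

noncomputable def g840 : Net := (Net.cons (nat_lit 1) (nat_lit 0x10410514441111550444414410404054015501415540545014445140150550404404) (Net.cons (nat_lit 2) (nat_lit 0x112320103000112223200221120210003220022313133010132212310332230222210) (Net.cons (nat_lit 4) (nat_lit 0x2080c0d05080901040f060d02090f0b010c070c0f0d0009070f0d070a04010109) (Net.cons (nat_lit 8) (nat_lit 0x3001300a20005001600f300ee005400cd00ad0005007700560019008900920009) (Net.cons (nat_lit 16) (nat_lit 0x50000eac7000025960000ab3a0000db1b00001908000030630000c7a200004000) (Net.cons (nat_lit 32) (nat_lit 0x812eda2500000000192ed1b2000000008ac2b4950000000000000010) (Net.cons (nat_lit 64) (nat_lit 0x52084c0c040667ab00000000000000000000000000081c65) (Net.cons (nat_lit 128)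 (nat_lit 0xfb364ce2241bef1800fca1afca21e9d1) (Net.cons (nat_lit 256) (nat_lit 654847) (Net.cons (nat_lit 128) (nat_lit 825782) (Net.cons (nat_lit 64) (nat_lit 0x7a0c2a9f43afff630000000000000000d10d3c1e43fe7e45) (Net.cons (nat_lit 32) (nat_lit 0x7b2a9b7a0000000007fd441700000000cdc66c32000000008db0eb2e) (Net.cons (nat_lit 16) (nat_lit 0xc00005253000005250000709300005200000051730000391c000099fc0000bb54) (Net.cons (nat_lit 8) (nat_lit 0x6b0037007300970022007b006600b000c700ef000b003c004200e000e00076005d) (Net.cons (nat_lit 4) (nat_lit 0x40a09010d09060c0909030b000a01000a0f0805040502030804090b0604030c0301) (Net.cons (nat_lit 2) (nat_lit 0x20102123012220132301333232220320330132301110023322000021012133120310) (Net.cons (nat_lit 1) (nat_lit 0x545414405441145140100514115115105444101004054505554111045045005554141) Net.nil)))))))))))))))))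

theorem g840_ok : Net.ok 276 g840 = true := by decide +kernel

noncomputable def V841 : List Net := [g840]

theorem V841_ok : okE 276 V841 = true := (okE_cons.2 ⟨g840_ok, (okE_nil 276)⟩)

noncomputable def g843 : Net := (Net.cons (nat_lit 1) (nat_lit 0x550051041115501554010151411010044410010540001401540441444454115410004) (Net.cons (nat_lit 2) (nat_lit 0x310202311320033333133103023131220203312002011023200002331331122133320) (Net.cons (nat_lit 4) (nat_lit 0x40303020d0009020509020f0a060f050e0207040f0d090d0e0e0c000c000d000404) (Net.cons (nat_lit 8) (nat_lit 0x5600b200b800de0014002e009b0085000d009700b80030006b003e00d500280007) (Net.cons (nat_lit 16) (nat_lit 0x80000d04400004f350000a9c1000099290000df00000003260000b2e200004820) (Net.cons (nat_lit 32) (nat_lit 0x45e2851c000000004b91560800000000166962110000000000001661) (Net.cons (nat_lit 64) (nat_lit 0xb404680f428256e800000000000000000000000000021510) (Net.cons (nat_lit 128) (nat_lit 0x3f6fc0f19961274fe1287406323769f)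 (Net.cons (nat_lit 256) (nat_lit 524287) (Net.cons (nat_lit 128) (nat_lit 684437) (Net.cons (nat_lit 64) (nat_lit 0xb18de5ba53942e390000000000000000a944895b36abf172) (Net.cons (nat_lit 32) (nat_lit 0xe3d42d7f00000000a8e368d5000000005efc31dd00000000fdec0a13) (Net.cons (nat_lit 16) (nat_lit 0xb000074c30000177d00007c2f00006828000075bc000017760000babc00001309) (Net.cons (nat_lit 8) (nat_lit 0xc400ff003500400052006d001f008a00e700b700a5002d00b900b4009400a000a7) (Net.cons (nat_lit 4) (nat_lit 0xe02030d030a010e090103030903050d010c0c0b040f090c0a08070b0e0e0901050a) (Net.cons (nat_lit 2) (nat_lit 0x23303302220033003032331212033032112200130313330011030110312111221033) (Net.cons (nat_lit 1) (nat_lit 0x115541551414444004114515141045010150414505010000141511041001451404150) Net.nil)))))))))))))))))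

theorem g843_ok : Net.ok 276 g843 = true := by decide +kernel

noncomputable def g844 : Net := (Net.cons (nat_lit 1) (nat_lit 0x540551515411001054004450514445140440544104451444405455404515440404040) (Net.cons (nat_lit 2) (nat_lit 0x310333311310130322212132303110110000113021110121031232230321220310220) (Net.cons (nat_lit 4) (nat_lit 0xa090d0308090f0f0505060006000c040f000c0a080e09040e010409080e0100030c) (Net.cons (nat_lit 8) (nat_lit 0xb9005100c60065004a002f0073008100700025001b00440063001a001d008d0003) (Net.cons (nat_lit 16) (nat_lit 0x1000083fc00007012000041d20000325d00003ebf000070040000214b00004000) (Net.cons (nat_lit 32) (nat_lit 0x83302a20000000004a88b3500000000034895f2800000000000064a0) (Net.cons (nat_lit 64) (nat_lit 0xa32791876cd85048000000000000000000000000000000a9) (Net.cons (nat_lit 128) (nat_lit 0x32b0c77e8537c94acdc71cd1fac9f240) (Net.cons (nat_lit 256) (nat_lit 784361) (Net.cons (nat_lit 128) (nat_lit 921986) (Net.cons (nat_lit 64)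 (nat_lit 0x39c082f5c144f5980000000000000000c2d011f2fe2ca97b) (Net.cons (nat_lit 32) (nat_lit 0x89267e660000000074afef1400000000ecd35a9f0000000003d3a85a) (Net.cons (nat_lit 16) (nat_lit 0x50000ff4a00007a81000076a600005f6500006c8c000006e10000289900009628) (Net.cons (nat_lit 8) (nat_lit 0xb9004a003500b1001e007800e200d7004b00370043008f007f005f00d400e800af) (Net.cons (nat_lit 4) (nat_lit 0xc080900040d0d0e02020f0006070a0208060e00010d0e010b06030d080a07030f09) (Net.cons (nat_lit 2) (nat_lit 0x213232312100132331012303033311301132231300121200100113122221220312332) (Net.cons (nat_lit 1) (nat_lit 0x154540504100541540541144411544550050040105001055500501015515011104554) Net.nil)))))))))))))))))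

theorem g844_ok : Net.ok 276 g844 = true := by decide +kernel

noncomputable def V845 : List Net := [g843, g844]

theorem V845_ok : okE 276 V845 = true := (okE_cons.2 ⟨g843_ok, (okE_cons.2 ⟨g844_ok, (okE_nil 276)⟩)⟩)

noncomputable def g847 : Net := (Net.cons (nat_lit 1) (nat_lit 0x4414511005115410454451004414104505550454551004445504440501005111550) (Net.cons (nat_lit 2) (nat_lit 0x100323112112001113312121001113311320020310231330031202032121133313210) (Net.cons (nat_lit 4) (nat_lit 0x7080d030206040c0305070f04090d01030800020805080d0505020e0e0109080e00) (Net.cons (nat_lit 8) (nat_lit 0x9e0022009200a800810029002600a9008c00de0026008100d0005800580008) (Net.cons (nat_lit 16) (nat_lit 0xd2c20000ac13000008a000006a0200005e2e00002849000023a2000088b0) (Net.cons (nat_lit 32) (nat_lit 0xfc682d8c000000005a088257000000002b12de0900000000000aa600) (Net.cons (nat_lit 64) (nat_lit 0x475a0406d4cc14d400000000000000000000000000029112) (Net.cons (nat_lit 128) (nat_lit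 0x7709bbf91890d48488d3f56fe6610659) (Net.cons (nat_lit 256) (nat_lit 786427) (Net.cons (nat_lit 128) (nat_lit 863593) (Net.cons (nat_lit 64) (nat_lit 0x7caebeb5784a81f40000000000000000779c3e9b4acc6e84) (Net.cons (nat_lit 32) (nat_lit 0xaa94cafd00000000ce4e6911000000002b7ed5dd0000000050b6bb65) (Net.cons (nat_lit 16) (nat_lit 0xb000064c80000b3f400006a3500009ffb00000e1400003f1a0000a2e5000027c7) (Net.cons (nat_lit 8) (nat_lit 0x320018001b006a008a002b009400a000ca002b00d8003b001e001300f600af00c9) (Net.cons (nat_lit 4) (nat_lit 0x5030c060107070a0700090d0b0c0e050501050b0a09080809040e0504040a0e0c08) (Net.cons (nat_lit 2) (nat_lit 0x2220300122203120212212020202133103310030202032122202003021222213221) (Net.cons (nat_lit 1) (nat_lit 0x10000111045100445445405145154544555545415114101040545501110400055005) Net.nil)))))))))))))))))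

theorem g847_ok : Net.ok 276 g847 = true := by decide +kernel

noncomputable def V848 : List Net := [g847]

theorem V848_ok : okE 276 V848 = true := (okE_cons.2 ⟨g847_ok, (okE_nil 276)⟩)

noncomputable def g850 : Net := (Net.cons (nat_lit 1) (nat_lit 0x445551051055011515500145511054115544100415505014045501141050445441050) (Net.cons (nat_lit 2) (nat_lit 0x1122313121200220031103033223011003213211313230030132121120203221210) (Net.cons (nat_lit 4) (nat_lit 0xd0c0f03060f020f00030f0b05030d080d0e050905020000050e08060c03040c030e) (Net.cons (nat_lit 8) (nat_lit 0xd9006b00d200e6004f005a00e10030008100f2005400c600e9003300b400620004) (Net.cons (nat_lit 16) (nat_lit 0x6000034150000c3b100004330000095170000b00d000073290000502600002280) (Net.cons (nat_lit 32) (nat_lit 0xcca7349a000000007482d2c30000000006230696000000000008809a) (Net.cons (nat_lit 64) (nat_lit 0xa63183a4583ed6b5000000000000000000000000000106b4) (Net.cons (nat_lit 128) (nat_lit 0xad28814d9e84eb8b4a9f16a865b8f182)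 (Net.cons (nat_lit 256) (nat_lit 915390) (Net.cons (nat_lit 128) (nat_lit 687286) (Net.cons (nat_lit 64) (nat_lit 0xe4813828a3b2416a000000000000000067a236ace440a5a3) (Net.cons (nat_lit 32) (nat_lit 0x5d778c3000000000be3b4093000000009080d8f800000000a9b90291) (Net.cons (nat_lit 16) (nat_lit 0x2000003bb0000ffba000028a20000df4c000061a60000470000009ab20000fb87) (Net.cons (nat_lit 8) (nat_lit 0x74007f00b4004400d0007d00a200e1003a00b500f400e3008100c900b600d500fc) (Net.cons (nat_lit 4) (nat_lit 0x90c000c07090c0501090f0c0f0101030d08020007090803020a0f0f020607020309) (Net.cons (nat_lit 2) (nat_lit 0x132023210331000123301200102122233310313303312231010303223101323030120) (Net.cons (nat_lit 1) (nat_lit 0x114044045145004011400541405404015154455401044055550505510511005115044) Net.nil)))))))))))))))))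

theorem g850_ok : Net.ok 276 g850 = true := by decide +kernel

noncomputable def g851 : Net := (Net.cons (nat_lit 1) (nat_lit 0x110110041004005040555105411110141000144551440500415500541445441440014) (Net.cons (nat_lit 2) (nat_lit 0x220010120330030111020000320330223223222101311021011310121011030230000) (Net.cons (nat_lit 4) (nat_lit 0xe0505050c070f020506020a0000030c0508020a0d0f0609010804070a0b0a0a0c0b) (Net.cons (nat_lit 8) (nat_lit 0xf400fc00b500dd0090000300d4006f0025002a001400e0001000f0001600cd0008) (Net.cons (nat_lit 16) (nat_lit 0x80000853300004a1c000049110000fc900000a00d000018580000ac6400000920) (Net.cons (nat_lit 32) (nat_lit 0xbea16d420000000060631b8200000000184edfb5000000000008c51e) (Net.cons (nat_lit 64) (nat_lit 0xbf30e42529758c170000000000000000000000000006e370) (Net.cons (nat_lit 128) (nat_lit 0x102f54405ba75a1defdbb02722d2c8c6) (Net.cons (nat_lit 256) (nat_lit 0xfefff) (Net.cons (nat_lit 128) (nat_lit 681728) (Net.cons (nat_lit 64)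 (nat_lit 0x1bb5e3f8a04db2af000000000000000033093968cffb87e4) (Net.cons (nat_lit 32) (nat_lit 0x8f63e3e0000000004c1f6a37000000005ffaab440000000024190d3d) (Net.cons (nat_lit 16) (nat_lit 0xa0000a5ad0000e55e00001904000045170000e335000023b20000843a0000e3e5) (Net.cons (nat_lit 8) (nat_lit 0xd500de00c5005600f2004300a4000a005b00ca000e002300480073001500680085) (Net.cons (nat_lit 4) (nat_lit 0x50f0d0004050a03050c040904080404060e06070d03010d0001090d0a0e08000a09) (Net.cons (nat_lit 2) (nat_lit 0x212012220210102311010111222320013221033310331133111302232220102202330) (Net.cons (nat_lit 1) (nat_lit 0x4014450104455445101515015400104000050501550415001401141050404404010) Net.nil)))))))))))))))))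

theorem g851_ok : Net.ok 276 g851 = true := by decide +kernel

noncomputable def g852 : Net := (Net.cons (nat_lit 1) (nat_lit 0x441114544510055541155401500415445154045040011511104054014000510151040) (Net.cons (nat_lit 2) (nat_lit 0x323002313101333122113021101002122023220300211230222230201222301231000) (Net.cons (nat_lit 4) (nat_lit 0xf02040d090d03090b0700000502000d0a0301010d0808090f070a0c0402080b0a04) (Net.cons (nat_lit 8) (nat_lit 0x920061009800a6003100e7004f009d0066001d008c008e00740062007f00480000) (Net.cons (nat_lit 16) (nat_lit 0x10000fc630000005a0000d74900006bea0000289400002cbc000051650000d080) (Net.cons (nat_lit 32) (nat_lit 0x8bea3ed0000000000a23814c00000000000604a000000000000435c8) (Net.cons (nat_lit 64) (nat_lit 0x10a28f98f3fe5cc400000000000000000000000000068520) (Net.cons (nat_lit 128) (nat_lit 0x3d25ad7420cd4630658e6288db3e7281) (Net.cons (nat_lit 256) (nat_lit 980987) (Net.cons (nat_lit 128) (nat_lit 805615) (Net.cons (nat_lit 64)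 (nat_lit 0x34d06c44e16b597e00000000000000001b4c585a555438e0) (Net.cons (nat_lit 32) (nat_lit 0xeb1763dc000000008a5bf9f40000000076be682a00000000fc2ef1cd) (Net.cons (nat_lit 16) (nat_lit 0x800002e5700003bcc0000537b0000cc3e0000880800003ef00000f3b900003d80) (Net.cons (nat_lit 8) (nat_lit 0xaa00e1001b00c20013008700d70059003400360078006200ee00c000d700fb0050) (Net.cons (nat_lit 4) (nat_lit 0x4020a00000f050c0b0700020f0b000f0c0d030c0d00020c0f05010f030c0c020f0b) (Net.cons (nat_lit 2) (nat_lit 0x130302103201111130030021001332101331212012223310220213200302112310320) (Net.cons (nat_lit 1) (nat_lit 0x405515445110514445110541405151115045144044100001150010041455451505405) Net.nil)))))))))))))))))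

theorem g852_ok : Net.ok 276 g852 = true := by decide +kernel

noncomputable def V853 : List Net := [g850, g851, g852]

theorem V853_ok : okE 276 V853 = true := (okE_cons.2 ⟨g850_ok, (okE_cons.2 ⟨g851_ok, (okE_cons.2 ⟨g852_ok, (okE_nil 276)⟩)⟩)⟩)

noncomputable def V855 : List Net := [g850]

theorem V855_ok : okE 276 V855 = true := (okE_cons.2 ⟨g850_ok, (okE_nil 276)⟩)

noncomputable def g857 : Net := (Net.cons (nat_lit 1) (nat_lit 0x540000444010551010505545041151404154511044040554410004144145444404414) (Net.cons (nat_lit 2) (nat_lit 0x211131212320000020020331112210311221021111331212322331100010122203300) (Net.cons (nat_lit 4) (nat_lit 0xb0f0d0b0f03080a0a00000b0a050202090505070207070a04040e0000080f0b0107) (Net.cons (nat_lit 8) (nat_lit 0x230087009e002d003b003a0068008c0020006500710086007100d9003700f30000) (Net.cons (nat_lit 16) (nat_lit 0x80000f85e0000471e00005d0400005072000090050000d2b00000cd9a00000f00) (Net.cons (nat_lit 32) (nat_lit 0xce060be800000000e65e02c700000000050685e70000000000008449)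 (Net.cons (nat_lit 64) (nat_lit 0x209158433137ab8100000000000000000000000000070023) (Net.cons (nat_lit 128) (nat_lit 0x6d688c0032e889a5c6bff0cb85d7bdc0) (Net.cons (nat_lit 256) (nat_lit 0xfbfef) (Net.cons (nat_lit 128) (nat_lit 41940) (Net.cons (nat_lit 64) (nat_lit 0xec134a0d210c871500000000000000001767aaa3f98539d7) (Net.cons (nat_lit 32) (nat_lit 0xbffcdd9400000000bc4d97e900000000bd4a390800000000450b9937) (Net.cons (nat_lit 16) (nat_lit 0x10000cfdf000003320000fe9e0000d89b0000abdc0000f7b100000b0600002a1b) (Net.cons (nat_lit 8) (nat_lit 0xe6007800cf00e3002f00b0007f00a600b3008b0023009a00240012001600330033) (Net.cons (nat_lit 4) (nat_lit 0xb03030402030c020e0508050c04020602040a02020a0d0f070e0f0b04040f070902) (Net.cons (nat_lit 2) (nat_lit 0x220033300000110020220133320000100301223112132232112120203111000313103) (Net.cons (nat_lit 1) (nat_lit 0x151114455510554050105114010541455144104514101415004011405440401144500) Net.nil)))))))))))))))))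

theorem g857_ok : Net.ok 276 g857 = true := by decide +kernel

noncomputable def g858 : Net := (Net.cons (nat_lit 1) (nat_lit 0x14154150401040000551040100545105105014100441111454144441015411415404) (Net.cons (nat_lit 2) (nat_lit 0x111210130312332222203100002310313011221103223133000231321221323231100) (Net.cons (nat_lit 4) (nat_lit 0x303080c0607000009010d020605040c01090809020507030908070a010705060e04) (Net.cons (nat_lit 8) (nat_lit 0xa2003d00ff006c0024006b006b00a6002400f9001200ae000900e9004000a30007) (Net.cons (nat_lit 16) (nat_lit 0x70000fc250000d8b2000035db00005d2000007a3100001a33000005c400002530) (Net.cons (nat_lit 32) (nat_lit 0xc65555320000000044f88a4c00000000be1d9cc1000000000002d886) (Net.cons (nat_lit 64) (nat_lit 0x21e2317c8c0646ee00000000000000000000000000008c61) (Net.cons (nat_lit 128) (nat_lit 0x9360cd1235db21e70ddffadce665b22) (Net.cons (nat_lit 256) (nat_lit 458743) (Net.cons (nat_lit 128) (nat_lit 267728) (Net.cons (nat_lit 64) (nat_lit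 0x6854116da82951ef0000000000000000b92be0f16f3c88ef) (Net.cons (nat_lit 32) (nat_lit 0x65f3d4b8000000000d701d8a00000000323b404400000000425f467f) (Net.cons (nat_lit 16) (nat_lit 0x8d0700007c1b0000282200006a0e00006af9000016150000af8200008748) (Net.cons (nat_lit 8) (nat_lit 0xa6002d00de00e8000e007500d1003900c50022000e00c9005500f30052008f008f) (Net.cons (nat_lit 4) (nat_lit 0xb03040a0d0b05030f0d0a01020b060201040f0e06030d080101080e020905000306) (Net.cons (nat_lit 2) (nat_lit 0x12210011033331233231312230032330330322123201311010112222001121120013) (Net.cons (nat_lit 1) (nat_lit 0x41041551041150044141054541545515051504101141014514041000015410015445) Net.nil)))))))))))))))))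

theorem g858_ok : Net.ok 276 g858 = true := by decide +kernel

noncomputable def V859 : List Net := [g857, n_tu, g858]

theorem V859_ok : okE 276 V859 = true := (okE_cons.2 ⟨g857_ok, (okE_cons.2 ⟨n_tu_ok, (okE_cons.2 ⟨g858_ok, (okE_nil 276)⟩)⟩)⟩)

noncomputable def g861 : Net := (Net.cons (nat_lit 1) (nat_lit 0x50114405140155140104101015504444404145540050410404001405511401010000) (Net.cons (nat_lit 2) (nat_lit 0x201003231231103331203002220130030101321110113330202311303101201202100) (Net.cons (nat_lit 4) (nat_lit 0x7070e0b000a0b0e03050603020d060f070c0201090a040d0f0105070e0804000004) (Net.cons (nat_lit 8) (nat_lit 0xd300d8004100cc007a003700d4000d006300db002c005200900015000b002b0000) (Net.cons (nat_lit 16) (nat_lit 0x49d0000044410000d19a000043fe00009e8400002068000099a200001000) (Net.cons (nat_lit 32) (nat_lit 0xa95ec25700000000e0cf9e01000000001820315000000000000889e1) (Net.cons (nat_lit 64) (nat_lit 0x43808ca34f9e04140000000000000000000000000000992a)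 (Net.cons (nat_lit 128) (nat_lit 0x283e527f1cb8a7e45452b84ae5b2c10) (Net.cons (nat_lit 256) (nat_lit 0xfbffb) (Net.cons (nat_lit 128) (nat_lit 441611) (Net.cons (nat_lit 64) (nat_lit 0x6468ad25655e899f000000000000000098de9d120128edc4) (Net.cons (nat_lit 32) (nat_lit 0xb1ee1a370000000096340409000000005a1aaaf400000000ec788ca4) (Net.cons (nat_lit 16) (nat_lit 0xb0000f7b6000045820000193f00006a17000041310000e578000001fe0000ff0c) (Net.cons (nat_lit 8) (nat_lit 0x6c009b003700c8007200b70031001f000500ec00560073000f00240017006a002b) (Net.cons (nat_lit 4) (nat_lit 0x4060702070c040f0b0c04060e01040d05050d050f030f040d0b010e0e02090b0a0c) (Net.cons (nat_lit 2) (nat_lit 0x131123202330310322003021233200011332022001203212222122001321023200211) (Net.cons (nat_lit 1) (nat_lit 0x1111045010151545504154041144400140505514451150010504544004405544414) Net.nil)))))))))))))))))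

theorem g861_ok : Net.ok 276 g861 = true := by decide +kernel

noncomputable def V862 : List Net := [g861]

theorem V862_ok : okE 276 V862 = true := (okE_cons.2 ⟨g861_ok, (okE_nil 276)⟩)

noncomputable def g864 : Net := (Net.cons (nat_lit 1) (nat_lit 0x540050051110500005100140054511011111545501401051504050000051501000000) (Net.cons (nat_lit 2) (nat_lit 0x332111313130110301001231220132131310222131011120230332001011121101000) (Net.cons (nat_lit 4) (nat_lit 0x7090f0a030e02040400000300040808030b0f060c0407060100060e000903080000) (Net.cons (nat_lit 8) (nat_lit 0xa002d000a0001002f008a004b0037008300c4003500020030000a001000020000) (Net.cons (nat_lit 16) (nat_lit 0x80000bf4f000079560000b325000058b20000144500008f1200009d0400006020) (Net.cons (nat_lit 32) (nat_lit 0x99eaf58000000004a041329000000008004785a0000000000020d00) (Net.cons (nat_lit 64) (nat_lit 0x82031022098301070000000000000000000000000000204a) (Net.cons (nat_lit 128) (nat_lit 0x9f0c72bd980badc3406f408281a42014)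 (Net.cons (nat_lit 256) (nat_lit 421246) (Net.cons (nat_lit 128) (nat_lit 828052) (Net.cons (nat_lit 64) (nat_lit 0xe2938322398bd36f000000000000000001998e012114b25a) (Net.cons (nat_lit 32) (nat_lit 0x3af6ad58000000006f4d1d6c00000000913c7a5a00000000175a0f4c) (Net.cons (nat_lit 16) (nat_lit 0x80000af4e000079560000b76600004cf30000345400009f5300009d4500006070) (Net.cons (nat_lit 8) (nat_lit 0xa006d000b0001002f008a005b003700cb00d5007500020034004a001000020010) (Net.cons (nat_lit 4) (nat_lit 0xf090f0b030e02040400000300040808030b0f060c0407060300060e000903080000) (Net.cons (nat_lit 2) (nat_lit 0x332111313131111301101231220132131310222131011120230332001011121101000) (Net.cons (nat_lit 1) (nat_lit 0x540050051110500005100140054511011111545501401051504050000051501000000) Net.nil)))))))))))))))))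

theorem g864_ok : Net.ok 276 g864 = true := by decide +kernel

noncomputable def V865 : List Net := [n_u, g864, n_tu, g491]

theorem V865_ok : okE 276 V865 = true := (okE_cons.2 ⟨n_u_ok, (okE_cons.2 ⟨g864_ok, (okE_cons.2 ⟨n_tu_ok, (okE_cons.2 ⟨g491_ok, (okE_nil 276)⟩)⟩)⟩)⟩)

noncomputable def g867 : Net := (Net.cons (nat_lit 1) (nat_lit 0x504010515411540054455504144001455050501114451440105050004000140000000) (Net.cons (nat_lit 2) (nat_lit 0x323233122310020120323020301201102313031321131130211002001200203000000) (Net.cons (nat_lit 4) (nat_lit 0xb050f0a030600090a03080e05070c070a0c070004010e0f05010401080404000200) (Net.cons (nat_lit 8) (nat_lit 0xeb00f600210043004100650074002200a5003e00f3008100cc00a0004000000008) (Net.cons (nat_lit 16) (nat_lit 0x900002d22000057a80000c36e0000f41200002c290000ac420000b00000000a80) (Net.cons (nat_lit 32) (nat_lit 0xf6b2170300000000001212a400000000360b2900000000000001aa48) (Net.cons (nat_lit 64) (nat_lit 0x7100c202170cc7c7000000000000000000000000000943c2)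 (Net.cons (nat_lit 128) (nat_lit 0xc408e56070b6e7c6b13002428706d389) (Net.cons (nat_lit 256) (nat_lit 0xffbeb) (Net.cons (nat_lit 128) (nat_lit 947073) (Net.cons (nat_lit 64) (nat_lit 0x63c0960b5744e3af00000000000000006e4f090c2d4923ca) (Net.cons (nat_lit 32) (nat_lit 0xd3fb1b1b000000004557d6f8000000005a03ed89000000006d01ea11) (Net.cons (nat_lit 16) (nat_lit 0x100007d2e000056a80000a36a0000bebe00006f350000ed460000f18c00004a80) (Net.cons (nat_lit 8) (nat_lit 0xef00f600210043004100650074002200a5003e00f7008100dc00a400400000008c) (Net.cons (nat_lit 4) (nat_lit 0xb050f0a0b0600090a03080f05070c070a0c070004010e0f05010401080504020201) (Net.cons (nat_lit 2) (nat_lit 0x323033122310020121123120301201102313031321131130211002021300203000000) (Net.cons (nat_lit 1) (nat_lit 0x504010515411540054455504144001455050501114451440105050004000140000000) Net.nil)))))))))))))))))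

theorem g867_ok : Net.ok 276 g867 = true := by decide +kernel

noncomputable def g868 : Net := (Net.cons (nat_lit 1) (nat_lit 0x140104044005015150050410044001511004515151441000154411404001040014000) (Net.cons (nat_lit 2) (nat_lit 0x310003212030211002030001213133021311113213103330303031333320210200010) (Net.cons (nat_lit 4) (nat_lit 0x80b0d0c0c0601080702020006090e080a02040a0305080d00020a0c030409000702) (Net.cons (nat_lit 8) (nat_lit 0x9e00fa002300b30060000c008600530002000d00ec00a3003800470048000c000d) (Net.cons (nat_lit 16) (nat_lit 0x500004d81000026a200002af40000b81a0000b0da0000e5ed0000600000004080) (Net.cons (nat_lit 32) (nat_lit 0x90092800000000000760070d00000000462ee4c80000000000000010) (Net.cons (nat_lit 64) (nat_lit 0xc8e019a1880e170100000000000000000000000000024098) (Net.cons (nat_lit 128) (nat_lit 0x43b4872982916224ab5418c25c6c0009) (Net.cons (nat_lit 256) (nat_lit 0xfc29d) (Net.cons (nat_lit 128) (nat_lit 144805) (Net.cons (nat_lit 64)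 (nat_lit 0xf72053a0045e91a600000000000000005f926015e908c9f4) (Net.cons (nat_lit 32) (nat_lit 0xb8d8b380000000006732bda5000000000e7df6e900000000214a30d0) (Net.cons (nat_lit 16) (nat_lit 0x90000c48000002a2700000e74000098920000bcd9000044640000418300006584) (Net.cons (nat_lit 8) (nat_lit 0x1e00ca00eb00b300e1004d000600d3004600cd00e4002b00b90046002b0084004d) (Net.cons (nat_lit 4) (nat_lit 0x20b04050e0e09080f0402080e010700060f0c0a0b05000d08020a05010e05080f02) (Net.cons (nat_lit 2) (nat_lit 0x110003232030211002030001233133221311113013121330303033333320010200030) (Net.cons (nat_lit 1) (nat_lit 0x540100004005055150051410044401511004515151441000154411404001040014000) Net.nil)))))))))))))))))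

theorem g868_ok : Net.ok 276 g868 = true := by decide +kernel

noncomputable def V869 : List Net := [g867, g868, n_t, g548]

theorem V869_ok : okE 276 V869 = true := (okE_cons.2 ⟨g867_ok, (okE_cons.2 ⟨g868_ok, (okE_cons.2 ⟨n_t_ok, (okE_cons.2 ⟨g548_ok, (okE_nil 276)⟩)⟩)⟩)⟩)

noncomputable def mo_E7 : List Net := []

theorem mo_E7_ok : okE 276 mo_E7 = true := (okE_nil 276)

noncomputable def mo_G6 : List Net := [g867, g868, n_t, g548]

theorem mo_G6_ok : okE 276 mo_G6 = true := (okE_cons.2 ⟨g867_ok, (okE_cons.2 ⟨g868_ok, (okE_cons.2 ⟨n_t_ok, (okE_cons.2 ⟨g548_ok, (okE_nil 276)⟩)⟩)⟩)⟩)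

noncomputable def mo_E6 : List Net := [g867, g868, n_t, g548, n_u, g864, n_tu, g491]

theorem mo_E6_ok : okE 276 mo_E6 = true := (okE_cons.2 ⟨g867_ok, (okE_cons.2 ⟨g868_ok, (okE_cons.2 ⟨n_t_ok, (okE_cons.2 ⟨g548_ok, (okE_cons.2 ⟨n_u_ok, (okE_cons.2 ⟨g864_ok, (okE_cons.2 ⟨n_tu_ok, (okE_cons.2 ⟨g491_ok, (okE_nil 276)⟩)⟩)⟩)⟩)⟩)⟩)⟩)⟩)

noncomputable def mo_G5 : List Net := [g861, g867, g868, n_t, g548, n_u, g864, n_tu, g491]

theorem mo_G5_ok : okE 276 mo_G5 = true := (okE_cons.2 ⟨g861_ok, (okE_cons.2 ⟨g867_ok, (okE_cons.2 ⟨g868_ok, (okE_cons.2 ⟨n_t_ok, (okE_cons.2 ⟨g548_ok, (okE_cons.2 ⟨n_u_ok, (okE_cons.2 ⟨g864_ok, (okE_cons.2 ⟨n_tu_ok, (okE_cons.2 ⟨g491_ok, (okE_nil 276)⟩)⟩)⟩)⟩)⟩)⟩)⟩)⟩)⟩)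

noncomputable def mo_E5 : List Net := [g861, g857, g858, g867, g868, n_t, g548, n_u, g864, n_tu, g491]

theorem mo_E5_ok : okE 276 mo_E5 = true := (okE_cons.2 ⟨g861_ok, (okE_cons.2 ⟨g857_ok, (okE_cons.2 ⟨g858_ok, (okE_cons.2 ⟨g867_ok, (okE_cons.2 ⟨g868_ok, (okE_cons.2 ⟨n_t_ok, (okE_cons.2 ⟨g548_ok, (okE_cons.2 ⟨n_u_ok, (okE_cons.2 ⟨g864_ok, (okE_cons.2 ⟨n_tu_ok, (okE_cons.2 ⟨g491_ok, (okE_nil 276)⟩)⟩)⟩)⟩)⟩)⟩)⟩)⟩)⟩)⟩)⟩)

noncomputable def mo_G4 : List Net := [g850, g861, g857, g858, g867, g868, n_t, g548, n_u, g864, n_tu, g491]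

theorem mo_G4_ok : okE 276 mo_G4 = true := (okE_cons.2 ⟨g850_ok, (okE_cons.2 ⟨g861_ok, (okE_cons.2 ⟨g857_ok, (okE_cons.2 ⟨g858_ok, (okE_cons.2 ⟨g867_ok, (okE_cons.2 ⟨g868_ok, (okE_cons.2 ⟨n_t_ok, (okE_cons.2 ⟨g548_ok, (okE_cons.2 ⟨n_u_ok, (okE_cons.2 ⟨g864_ok, (okE_cons.2 ⟨n_tu_ok, (okE_cons.2 ⟨g491_ok, (okE_nil 276)⟩)⟩)⟩)⟩)⟩)⟩)⟩)⟩)⟩)⟩)⟩)⟩)

noncomputable def mo_E4 : List Net := [g850, g851, g852, g861, g857, g858, g867, g868, n_t, g548, n_u, g864, n_tu, g491]

theorem mo_E4_ok : okE 276 mo_E4 = true := (okE_cons.2 ⟨g850_ok, (okE_cons.2 ⟨g851_ok, (okE_cons.2 ⟨g852_ok, (okE_cons.2 ⟨g861_ok, (okE_cons.2 ⟨g857_ok, (okE_cons.2 ⟨g858_ok, (okE_cons.2 ⟨g867_ok, (okE_cons.2 ⟨g868_ok, (okE_cons.2 ⟨n_t_ok, (okE_cons.2 ⟨g548_ok, (okE_cons.2 ⟨n_u_ok, (okE_cons.2 ⟨g864_ok, (okE_cons.2 ⟨n_tu_ok, (okE_cons.2 ⟨g491_ok, (okE_nil 276)⟩)⟩)⟩)⟩)⟩)⟩)⟩)⟩)⟩)⟩)⟩)⟩)⟩)⟩)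

noncomputable def mo_G3 : List Net := [g847, g850, g851, g852, g861, g857, g858, g867, g868, n_t, g548, n_u, g864, n_tu, g491]

theorem mo_G3_ok : okE 276 mo_G3 = true := (okE_cons.2 ⟨g847_ok, (okE_cons.2 ⟨g850_ok, (okE_cons.2 ⟨g851_ok, (okE_cons.2 ⟨g852_ok, (okE_cons.2 ⟨g861_ok, (okE_cons.2 ⟨g857_ok, (okE_cons.2 ⟨g858_ok, (okE_cons.2 ⟨g867_ok, (okE_cons.2 ⟨g868_ok, (okE_cons.2 ⟨n_t_ok, (okE_cons.2 ⟨g548_ok, (okE_cons.2 ⟨n_u_ok, (okE_cons.2 ⟨g864_ok, (okE_cons.2 ⟨n_tu_ok, (okE_cons.2 ⟨g491_ok, (okE_nil 276)⟩)⟩)⟩)⟩)⟩)⟩)⟩)⟩)⟩)⟩)⟩)⟩)⟩)⟩)⟩)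

noncomputable def mo_E3 : List Net := [g847, g843, g844, g850, g851, g852, g861, g857, g858, g867, g868, n_t, g548, n_u, g864, n_tu, g491]

theorem mo_E3_ok : okE 276 mo_E3 = true := (okE_cons.2 ⟨g847_ok, (okE_cons.2 ⟨g843_ok, (okE_cons.2 ⟨g844_ok, (okE_cons.2 ⟨g850_ok, (okE_cons.2 ⟨g851_ok, (okE_cons.2 ⟨g852_ok, (okE_cons.2 ⟨g861_ok, (okE_cons.2 ⟨g857_ok, (okE_cons.2 ⟨g858_ok, (okE_cons.2 ⟨g867_ok, (okE_cons.2 ⟨g868_ok, (okE_cons.2 ⟨n_t_ok, (okE_cons.2 ⟨g548_ok, (okE_cons.2 ⟨n_u_ok, (okE_cons.2 ⟨g864_ok, (okE_cons.2 ⟨n_tu_ok, (okE_cons.2 ⟨g491_ok, (okE_nil 276)⟩)⟩)⟩)⟩)⟩)⟩)⟩)⟩)⟩)⟩)⟩)⟩)⟩)⟩)⟩)⟩)⟩)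

noncomputable def mo_G2 : List Net := [g840, g847, g843, g844, g850, g851, g852, g861, g857, g858, g867, g868, n_t, g548, n_u, g864, n_tu, g491]

theorem mo_G2_ok : okE 276 mo_G2 = true := (okE_cons.2 ⟨g840_ok, (okE_cons.2 ⟨g847_ok, (okE_cons.2 ⟨g843_ok, (okE_cons.2 ⟨g844_ok, (okE_cons.2 ⟨g850_ok, (okE_cons.2 ⟨g851_ok, (okE_cons.2 ⟨g852_ok, (okE_cons.2 ⟨g861_ok, (okE_cons.2 ⟨g857_ok, (okE_cons.2 ⟨g858_ok, (okE_cons.2 ⟨g867_ok, (okE_cons.2 ⟨g868_ok, (okE_cons.2 ⟨n_t_ok, (okE_cons.2 ⟨g548_ok, (okE_cons.2 ⟨n_u_ok, (okE_cons.2 ⟨g864_ok, (okE_cons.2 ⟨n_tu_ok, (okE_cons.2 ⟨g491_ok, (okE_nil 276)⟩)⟩)⟩)⟩)⟩)⟩)⟩)⟩)⟩)⟩)⟩)⟩)⟩)⟩)⟩)⟩)⟩)⟩)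

noncomputable def mo_E2 : List Net := [g840, g836, g837, g847, g843, g844, g850, g851, g852, g861, g857, g858, g867, g868, n_t, g548, n_u, g864, n_tu, g491]

theorem mo_E2_ok : okE 276 mo_E2 = true := (okE_cons.2 ⟨g840_ok, (okE_cons.2 ⟨g836_ok, (okE_cons.2 ⟨g837_ok, (okE_cons.2 ⟨g847_ok, (okE_cons.2 ⟨g843_ok, (okE_cons.2 ⟨g844_ok, (okE_cons.2 ⟨g850_ok, (okE_cons.2 ⟨g851_ok, (okE_cons.2 ⟨g852_ok, (okE_cons.2 ⟨g861_ok, (okE_cons.2 ⟨g857_ok, (okE_cons.2 ⟨g858_ok, (okE_cons.2 ⟨g867_ok, (okE_cons.2 ⟨g868_ok, (okE_cons.2 ⟨n_t_ok, (okE_cons.2 ⟨g548_ok, (okE_cons.2 ⟨n_u_ok, (okE_cons.2 ⟨g864_ok, (okE_cons.2 ⟨n_tu_ok, (okE_cons.2 ⟨g491_ok, (okE_nil 276)⟩)⟩)⟩)⟩)⟩)⟩)⟩)⟩)⟩)⟩)⟩)⟩)⟩)⟩)⟩)⟩)⟩)⟩)⟩)⟩)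

noncomputable def mo_G1 : List Net := [g833, g840, g836, g837, g847, g843, g844, g850, g851, g852, g861, g857, g858, g867, g868, n_t, g548, n_u, g864, n_tu, g491]

theorem mo_G1_ok : okE 276 mo_G1 = true := (okE_cons.2 ⟨g833_ok, (okE_cons.2 ⟨g840_ok, (okE_cons.2 ⟨g836_ok, (okE_cons.2 ⟨g837_ok, (okE_cons.2 ⟨g847_ok, (okE_cons.2 ⟨g843_ok, (okE_cons.2 ⟨g844_ok, (okE_cons.2 ⟨g850_ok, (okE_cons.2 ⟨g851_ok, (okE_cons.2 ⟨g852_ok, (okE_cons.2 ⟨g861_ok, (okE_cons.2 ⟨g857_ok, (okE_cons.2 ⟨g858_ok, (okE_cons.2 ⟨g867_ok, (okE_cons.2 ⟨g868_ok, (okE_cons.2 ⟨n_t_ok, (okE_cons.2 ⟨g548_ok, (okE_cons.2 ⟨n_u_ok, (okE_cons.2 ⟨g864_ok, (okE_cons.2 ⟨n_tu_ok, (okE_cons.2 ⟨g491_ok, (okE_nil 276)⟩)⟩)⟩)⟩)⟩)⟩)⟩)⟩)⟩)⟩)⟩)⟩)⟩)⟩)⟩)⟩)⟩)⟩)⟩)⟩)⟩)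

noncomputable def mo_E1 : List Net := [g833, g829, g830, g840, g836, g837, g847, g843, g844, g850, g851, g852, g861, g857, g858, g867, g868, n_t, g548, n_u, g864, n_tu, g491]

theorem mo_E1_ok : okE 276 mo_E1 = true := (okE_cons.2 ⟨g833_ok, (okE_cons.2 ⟨g829_ok, (okE_cons.2 ⟨g830_ok, (okE_cons.2 ⟨g840_ok, (okE_cons.2 ⟨g836_ok, (okE_cons.2 ⟨g837_ok, (okE_cons.2 ⟨g847_ok, (okE_cons.2 ⟨g843_ok, (okE_cons.2 ⟨g844_ok, (okE_cons.2 ⟨g850_ok, (okE_cons.2 ⟨g851_ok, (okE_cons.2 ⟨g852_ok, (okE_cons.2 ⟨g861_ok, (okE_cons.2 ⟨g857_ok, (okE_cons.2 ⟨g858_ok, (okE_cons.2 ⟨g867_ok, (okE_cons.2 ⟨g868_ok, (okE_cons.2 ⟨n_t_ok, (okE_cons.2 ⟨g548_ok, (okE_cons.2 ⟨n_u_ok, (okE_cons.2 ⟨g864_ok, (okE_cons.2 ⟨n_tu_ok, (okE_cons.2 ⟨g491_ok, (okE_nil 276)⟩)⟩)⟩)⟩)⟩)⟩)⟩)⟩)⟩)⟩)⟩)⟩)⟩)⟩)⟩)⟩)⟩)⟩)⟩)⟩)⟩)⟩)⟩)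

noncomputable def mo_G0 : List Net := [n_s1, g833, g829, g830, g840, g836, g837, g847, g843, g844, g850, g851, g852, g861, g857, g858, g867, g868, n_t, g548, n_u, g864, n_tu, g491]

theorem mo_G0_ok : okE 276 mo_G0 = true := (okE_cons.2 ⟨n_s1_ok, (okE_cons.2 ⟨g833_ok, (okE_cons.2 ⟨g829_ok, (okE_cons.2 ⟨g830_ok, (okE_cons.2 ⟨g840_ok, (okE_cons.2 ⟨g836_ok, (okE_cons.2 ⟨g837_ok, (okE_cons.2 ⟨g847_ok, (okE_cons.2 ⟨g843_ok, (okE_cons.2 ⟨g844_ok, (okE_cons.2 ⟨g850_ok, (okE_cons.2 ⟨g851_ok, (okE_cons.2 ⟨g852_ok, (okE_cons.2 ⟨g861_ok, (okE_cons.2 ⟨g857_ok, (okE_cons.2 ⟨g858_ok, (okE_cons.2 ⟨g867_ok, (okE_cons.2 ⟨g868_ok, (okE_cons.2 ⟨n_t_ok, (okE_cons.2 ⟨g548_ok, (okE_cons.2 ⟨n_u_ok, (okE_cons.2 ⟨g864_ok, (okE_cons.2 ⟨n_tu_ok, (okE_cons.2 ⟨g491_ok, (okE_nil 276)⟩)⟩)⟩)⟩)⟩)⟩)⟩)⟩)⟩)⟩)⟩)⟩)⟩)⟩)⟩)⟩)⟩)⟩)⟩)⟩)⟩)⟩)⟩)⟩)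

noncomputable def mo_E0 : List Net := [n_s1, n_b1, n_b2, n_b3, n_s2, g833, g829, g830, g840, g836, g837, g847, g843, g844, g850, g851, g852, g861, g857, g858, g867, g868, n_t, g548, n_u, g864, n_tu, g491]

theorem mo_E0_ok : okE 276 mo_E0 = true := (okE_cons.2 ⟨n_s1_ok, (okE_cons.2 ⟨n_b1_ok, (okE_cons.2 ⟨n_b2_ok, (okE_cons.2 ⟨n_b3_ok, (okE_cons.2 ⟨n_s2_ok, (okE_cons.2 ⟨g833_ok, (okE_cons.2 ⟨g829_ok, (okE_cons.2 ⟨g830_ok, (okE_cons.2 ⟨g840_ok, (okE_cons.2 ⟨g836_ok, (okE_cons.2 ⟨g837_ok, (okE_cons.2 ⟨g847_ok, (okE_cons.2 ⟨g843_ok, (okE_cons.2 ⟨g844_ok, (okE_cons.2 ⟨g850_ok, (okE_cons.2 ⟨g851_ok, (okE_cons.2 ⟨g852_ok, (okE_cons.2 ⟨g861_ok, (okE_cons.2 ⟨g857_ok, (okE_cons.2 ⟨g858_ok, (okE_cons.2 ⟨g867_ok, (okE_cons.2 ⟨g868_ok, (okE_cons.2 ⟨n_t_ok, (okE_cons.2 ⟨g548_ok, (okE_cons.2 ⟨n_u_ok, (okE_cons.2 ⟨g864_ok, (okE_cons.2 ⟨n_tu_ok, (okE_cons.2 ⟨g491_ok, (okE_nil 276)⟩)⟩)⟩)⟩)⟩)⟩)⟩)⟩)⟩)⟩)⟩)⟩)⟩)⟩)⟩)⟩)⟩)⟩)⟩)⟩)⟩)⟩)⟩)⟩)⟩)⟩)⟩)⟩)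

noncomputable def g886 : Net := (Net.cons (nat_lit 1) (nat_lit 0x500041101555454010051101001011554540010144141404010110114551415400500) (Net.cons (nat_lit 2) (nat_lit 0x213131321303323010012322102200131222333330011310212030102300022231010) (Net.cons (nat_lit 4) (nat_lit 0xf06080a0d0806030f0f0c0f0504080d0b070c020d0b0003040a0c0b0f0e0e030101) (Net.cons (nat_lit 8) (nat_lit 0xd200bf00b3008800d1006d00140054001800d800be004f002e00d8008a008a0004) (Net.cons (nat_lit 16) (nat_lit 0x40000bb090000ea1b00009c42000094a8000029da0000224d0000134900001800) (Net.cons (nat_lit 32) (nat_lit 0xe430a9000000000298dd069000000006846f13e000000000000052d) (Net.cons (nat_lit 64) (nat_lit 0x4891071c20012c220000000000000000000000000000808b) (Net.cons (nat_lit 128) (nat_lit 0x408e39e51ff10a649e5b6eb8ffc93066) (Net.cons (nat_lit 256) (nat_lit 0xfbfef) (Net.cons (nat_lit 128) (nat_lit 169720) (Net.cons (nat_lit 64) (nat_lit 0x74fd355efeb35ca10000000000000000c699ec6a37e539ba) (Net.cons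 (nat_lit 32) (nat_lit 0xf3ed6810000000008f7ac006000000005b22afed0000000083ac3f65) (Net.cons (nat_lit 16) (nat_lit 0xc0000b17d0000503a0000f2a400005e2400007abb000085000000cb0e0000a87b) (Net.cons (nat_lit 8) (nat_lit 0x9800f00020005b007d00fe00b00030009a00300074004f003f0087008f00b300a2) (Net.cons (nat_lit 4) (nat_lit 0x205060a030d0c0b030a040709030b0e0f020c0404010108080c0f0d0809050e000d) (Net.cons (nat_lit 2) (nat_lit 0x313012333132021003021123031110113333202231132321130010211320223231122) (Net.cons (nat_lit 1) (nat_lit 0x115415004555014504405450555144440551550410100105511415415400010554141) Net.nil)))))))))))))))))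

theorem g886_ok : Net.ok 276 g886 = true := by decide +kernel

noncomputable def g887 : Net := (Net.cons (nat_lit 1) (nat_lit 0x51405415411404515401550554545545041054411114014415114141104004014450) (Net.cons (nat_lit 2) (nat_lit 0x303011311031110320020023033213013110003313220000210220230021010103220) (Net.cons (nat_lit 4) (nat_lit 0xb0c0d02030504080c030a05030c06090a070407060e0f010107090b0a0002030007) (Net.cons (nat_lit 8) (nat_lit 0x6b006e002f00c9008000b9000d00d700d4007600cc003c00090062001600390004) (Net.cons (nat_lit 16) (nat_lit 0x800008c84000012480000c1c00000eb4e000093e400002b10000028060000b880) (Net.cons (nat_lit 32) (nat_lit 0xe1792c58000000008cac4b5a00000000e3819a2e0000000000042302) (Net.cons (nat_lit 64) (nat_lit 0x431da0578570f97000000000000000000000000000ebc28) (Net.cons (nat_lit 128) (nat_lit 0x8efa0d1d35a72bf23b0bf638cdf22d97) (Net.cons (nat_lit 256) (nat_lit 0xfffff) (Net.cons (nat_lit 128) (nat_lit 719344) (Net.cons (nat_lit 64) (nat_lit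 0x5808c4ac85bf0238000000000000000061ea287a23f0a576) (Net.cons (nat_lit 32) (nat_lit 0xfb4fb0a100000000795f75a3000000003646ad2d0000000077fd9e11) (Net.cons (nat_lit 16) (nat_lit 0x70000f60e0000243d0000257c00003e9c0000e6a70000b0040000997c000086db) (Net.cons (nat_lit 8) (nat_lit 0x5000dd0060004300260010008a009b001c00b1005100dd0061006f00f8002300da) (Net.cons (nat_lit 4) (nat_lit 0xb0f0e0d0e0c000e0b0a0b000b010f0f0a0d0e08080e0307020c000c0103080f000f) (Net.cons (nat_lit 2) (nat_lit 0x100001100303122122020101020122133233011121320323020111001201112323211) (Net.cons (nat_lit 1) (nat_lit 0x400415055551514014414040150155440040545001505500410504155450515401055) Net.nil)))))))))))))))))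

theorem g887_ok : Net.ok 276 g887 = true := by decide +kernel

noncomputable def g888 : Net := (Net.cons (nat_lit 1) (nat_lit 0x105451054104011145104550501444140445550440001015404054100555450551040) (Net.cons (nat_lit 2) (nat_lit 0x101112100020220211032303232312212012320001011110300222011233012120300) (Net.cons (nat_lit 4) (nat_lit 0x70209040805030e09090d0b0a0606000b000a0401000e020c0e06070f0f07080003) (Net.cons (nat_lit 8) (nat_lit 0x3e00f1008700b9002800d900a1000e005a00aa003600e7002000a1000c00600005) (Net.cons (nat_lit 16) (nat_lit 0x60000268c00009ad40000880f000055040000993c0000b8270000d2fb00002160) (Net.cons (nat_lit 32) (nat_lit 0xd2313086000000006c0281ff000000004815ac2400000000000c1870) (Net.cons (nat_lit 64) (nat_lit 0x361f0cc0e15e45200000000000000000000000000011c60) (Net.cons (nat_lit 128) (nat_lit 0x37c357e1d981f93d28baa40e57bda1cf) (Net.cons (nat_lit 256) (nat_lit 901119) (Net.cons (nat_lit 128) (nat_lit 724262) (Net.cons (nat_lit 64) (nat_lit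 0x7b0f2edf919395820000000000000000d2377d1ac4e05013) (Net.cons (nat_lit 32) (nat_lit 0xd00210990000000037f04cc500000000b023e4bb00000000dd057570) (Net.cons (nat_lit 16) (nat_lit 0xb0000c145000048130000f9d5000077af0000c1d900009ab4000092cd00002166) (Net.cons (nat_lit 8) (nat_lit 0xed00ee003b0079007000040023002f008c00f600c2000d00dc000200eb00440048) (Net.cons (nat_lit 4) (nat_lit 0xe06090b07050e0a020508020a060a09000c04000e05080d010f0c0f020a0b0e0803) (Net.cons (nat_lit 2) (nat_lit 0x221211010102320100332003023321022111010233031103012231022212000101122) (Net.cons (nat_lit 1) (nat_lit 0x504405554501154001054410114401515010511100541001110404511115415045511) Net.nil)))))))))))))))))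

theorem g888_ok : Net.ok 276 g888 = true := by decide +kernel

noncomputable def g889 : Net := (Net.cons (nat_lit 1) (nat_lit 0x500501415140054454541554004514454154451555105010415451445004414140040) (Net.cons (nat_lit 2) (nat_lit 0x102220013020020213320202123222033110032310100103320332003003012102300) (Net.cons (nat_lit 4) (nat_lit 0x60408000a0d060c080b070105000f05060304010a08060204010701020a0e090008) (Net.cons (nat_lit 8) (nat_lit 0x6c0065008c009800c800d50000000000ef002300d900b5009c00000015003a0005) (Net.cons (nat_lit 16) (nat_lit 0x70000938c0000909e0000eb9e000018020000a26e0000617000006af500001840) (Net.cons (nat_lit 32) (nat_lit 0x941fd0d400000000c8020317000000000a4d6a000000000000023120) (Net.cons (nat_lit 64) (nat_lit 0x2b01d0010443ed6b000000000000000000000000000772c2) (Net.cons (nat_lit 128) (nat_lit 0x7cf97aa48e45f7dac74688312218d7c3) (Net.cons (nat_lit 256) (nat_lit 0xffff7) (Net.cons (nat_lit 128) (nat_lit 940775) (Net.cons (nat_lit 64)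 (nat_lit 0x52426968ee32d8500000000000000006b8fbfa303a2a221) (Net.cons (nat_lit 32) (nat_lit 0x493236a100000000dede64b600000000a965fa8400000000299473fe) (Net.cons (nat_lit 16) (nat_lit 0x1000065d60000ca9d0000ec6700004d620000eaab000092b6000032bb000014e7) (Net.cons (nat_lit 8) (nat_lit 0xce00dd00a3000b00e0008b00d50080000a0093001c005b006f00cb00f500140046) (Net.cons (nat_lit 4) (nat_lit 0xd04040d070f03050502020506040d05080e0b040c0004000703040600040c020a03) (Net.cons (nat_lit 2) (nat_lit 0x330321132302221312332022121222112201310312211112123122311111211330202) (Net.cons (nat_lit 1) (nat_lit 0x44144111454154015515100414504515444050055140450514045141044551514440) Net.nil)))))))))))))))))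

theorem g889_ok : Net.ok 276 g889 = true := by decide +kernel

noncomputable def g890 : Net := (Net.cons (nat_lit 1) (nat_lit 0x500440440445110145140040501041500415544004545515105555100511155111444) (Net.cons (nat_lit 2) (nat_lit 0x210130203112012102301121300323013121033133021113030312212232111110230) (Net.cons (nat_lit 4) (nat_lit 0x303080a0c060006030c040f020d0a040b000d0f0103090c0a03060d070f000b0004) (Net.cons (nat_lit 8) (nat_lit 0x400bf004d0060004700bc00db004b00580094004500f000cd0060009a000e0005) (Net.cons (nat_lit 16) (nat_lit 0x30000b10f000029bb00002c1c00000b3a00003a0300001c180000c2a500004000) (Net.cons (nat_lit 32) (nat_lit 0x737464ee000000004fae3c690000000086a376340000000000028147) (Net.cons (nat_lit 64) (nat_lit 0x34228cd80007c270000000000000000000000000002007c) (Net.cons (nat_lit 128) (nat_lit 0x1723b3bbf3166ca6acc18f7472776e2f) (Net.cons (nat_lit 256) (nat_lit 520063) (Net.cons (nat_lit 128) (nat_lit 0xf7be6) (Net.cons (nat_lit 64) (nat_lit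 0xca92318785e792e50000000000000000173f7a42aee51251) (Net.cons (nat_lit 32) (nat_lit 0x9a4e71ea0000000021852b27000000002123f39d000000005ee2c688) (Net.cons (nat_lit 16) (nat_lit 0xd000053db00006f300000b15f0000de83000093080000847a000003e400001209) (Net.cons (nat_lit 8) (nat_lit 0x9d00bd004b00fb000d00df005900b900d8009f00f1001600ba0004005200300091) (Net.cons (nat_lit 4) (nat_lit 0xd03080407050403050a0008080700010706060c06050f030f09060d0f0d0c070402) (Net.cons (nat_lit 2) (nat_lit 0x22101232102233011003113122220122113231032200133013211101312200311313) (Net.cons (nat_lit 1) (nat_lit 0x405101441450144444451101015151014105544001104155141550150111045005005) Net.nil)))))))))))))))))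

theorem g890_ok : Net.ok 276 g890 = true := by decide +kernel

noncomputable def g891 : Net := (Net.cons (nat_lit 1) (nat_lit 0x40014451114550511555001101001515100544544104141011445004441510000144) (Net.cons (nat_lit 2) (nat_lit 0x203203121020200333313113302303031130200001311023003020000131001300100) (Net.cons (nat_lit 4) (nat_lit 0xc01090e0f0b080d0205060404090a02070a03050a0a07060405060e0b0907020406) (Net.cons (nat_lit 8) (nat_lit 0x2b00b300e6009300f800e100d20000009400840046003000970086000000860008) (Net.cons (nat_lit 16) (nat_lit 0x2000047e70000e38c0000671d0000a60800006746000089290000946200002000) (Net.cons (nat_lit 32) (nat_lit 0x8a20270e00000000640ce1c4000000008019316700000000000da200) (Net.cons (nat_lit 64) (nat_lit 0x8232040000268371000000000000000000000000000a0129) (Net.cons (nat_lit 128) (nat_lit 0x8fdbe3e1b32d63be0c28ae804219a52a) (Net.cons (nat_lit 256) (nat_lit 0xfa72b) (Net.cons (nat_lit 128) (nat_lit 714089) (Net.cons (nat_lit 64)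 (nat_lit 0xa62040144e85e3020000000000000000c022b207048b446b) (Net.cons (nat_lit 32) (nat_lit 0x8d024d8f00000000e04f9a4000000000837fddac000000003d4d2311) (Net.cons (nat_lit 16) (nat_lit 0x1000055b6000095bc0000640c0000240b0000650700000f6a0000144800004604) (Net.cons (nat_lit 8) (nat_lit 0x4b00b300c700a7008800cc00b70000009100850052002500b600a6008900860069) (Net.cons (nat_lit 4) (nat_lit 0xe01090e0d0a080c020506060c090b000f0803030a0a06020505040603010702000e) (Net.cons (nat_lit 2) (nat_lit 0x203202121020100332323133112303031120100001311022002020202133003302000) (Net.cons (nat_lit 1) (nat_lit 0x40014451014150111405000101001515100444544004541101545044451510000144) Net.nil)))))))))))))))))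

theorem g891_ok : Net.ok 276 g891 = true := by decide +kernel

noncomputable def p_K : List Net := [g886, g887, g888, g889, g890, n_t, g372, g891, g864]

theorem p_K_ok : okE 276 p_K = true := (okE_cons.2 ⟨g886_ok, (okE_cons.2 ⟨g887_ok, (okE_cons.2 ⟨g888_ok, (okE_cons.2 ⟨g889_ok, (okE_cons.2 ⟨g890_ok, (okE_cons.2 ⟨n_t_ok, (okE_cons.2 ⟨g372_ok, (okE_cons.2 ⟨g891_ok, (okE_cons.2 ⟨g864_ok, (okE_nil 276)⟩)⟩)⟩)⟩)⟩)⟩)⟩)⟩)⟩)

noncomputable def V893 : List Net := [g833, g829, g830, g840, g836, g837, g847, g843, g844, g850, g851, g852, g861, g857, g858, g867, g868, n_t, g548, n_u, g864, n_tu, g491]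

theorem V893_ok : okE 276 V893 = true := (okE_cons.2 ⟨g833_ok, (okE_cons.2 ⟨g829_ok, (okE_cons.2 ⟨g830_ok, (okE_cons.2 ⟨g840_ok, (okE_cons.2 ⟨g836_ok, (okE_cons.2 ⟨g837_ok, (okE_cons.2 ⟨g847_ok, (okE_cons.2 ⟨g843_ok, (okE_cons.2 ⟨g844_ok, (okE_cons.2 ⟨g850_ok, (okE_cons.2 ⟨g851_ok, (okE_cons.2 ⟨g852_ok, (okE_cons.2 ⟨g861_ok, (okE_cons.2 ⟨g857_ok, (okE_cons.2 ⟨g858_ok, (okE_cons.2 ⟨g867_ok, (okE_cons.2 ⟨g868_ok, (okE_cons.2 ⟨n_t_ok, (okE_cons.2 ⟨g548_ok, (okE_cons.2 ⟨n_u_ok, (okE_cons.2 ⟨g864_ok, (okE_cons.2 ⟨n_tu_ok, (okE_cons.2 ⟨g491_ok, (okE_nil 276)⟩)⟩)⟩)⟩)⟩)⟩)⟩)⟩)⟩)⟩)⟩)⟩)⟩)⟩)⟩)⟩)⟩)⟩)⟩)⟩)⟩)⟩)⟩)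

noncomputable def V894 : List Net := [g840, g836, g837, g847, g843, g844, g850, g851, g852, g861, g857, g858, g867, g868, n_t, g548, n_u, g864, n_tu, g491]

theorem V894_ok : okE 276 V894 = true := (okE_cons.2 ⟨g840_ok, (okE_cons.2 ⟨g836_ok, (okE_cons.2 ⟨g837_ok, (okE_cons.2 ⟨g847_ok, (okE_cons.2 ⟨g843_ok, (okE_cons.2 ⟨g844_ok, (okE_cons.2 ⟨g850_ok, (okE_cons.2 ⟨g851_ok, (okE_cons.2 ⟨g852_ok, (okE_cons.2 ⟨g861_ok, (okE_cons.2 ⟨g857_ok, (okE_cons.2 ⟨g858_ok, (okE_cons.2 ⟨g867_ok, (okE_cons.2 ⟨g868_ok, (okE_cons.2 ⟨n_t_ok, (okE_cons.2 ⟨g548_ok, (okE_cons.2 ⟨n_u_ok, (okE_cons.2 ⟨g864_ok, (okE_cons.2 ⟨n_tu_ok, (okE_cons.2 ⟨g491_ok, (okE_nil 276)⟩)⟩)⟩)⟩)⟩)⟩)⟩)⟩)⟩)⟩)⟩)⟩)⟩)⟩)⟩)⟩)⟩)⟩)⟩)⟩)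

noncomputable def V895 : List Net := [g847, g843, g844, g850, g851, g852, g861, g857, g858, g867, g868, n_t, g548, n_u, g864, n_tu, g491]

theorem V895_ok : okE 276 V895 = true := (okE_cons.2 ⟨g847_ok, (okE_cons.2 ⟨g843_ok, (okE_cons.2 ⟨g844_ok, (okE_cons.2 ⟨g850_ok, (okE_cons.2 ⟨g851_ok, (okE_cons.2 ⟨g852_ok, (okE_cons.2 ⟨g861_ok, (okE_cons.2 ⟨g857_ok, (okE_cons.2 ⟨g858_ok, (okE_cons.2 ⟨g867_ok, (okE_cons.2 ⟨g868_ok, (okE_cons.2 ⟨n_t_ok, (okE_cons.2 ⟨g548_ok, (okE_cons.2 ⟨n_u_ok, (okE_cons.2 ⟨g864_ok, (okE_cons.2 ⟨n_tu_ok, (okE_cons.2 ⟨g491_ok, (okE_nil 276)⟩)⟩)⟩)⟩)⟩)⟩)⟩)⟩)⟩)⟩)⟩)⟩)⟩)⟩)⟩)⟩)⟩)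

noncomputable def V896 : List Net := [g850, g851, g852, g861, g857, g858, g867, g868, n_t, g548, n_u, g864, n_tu, g491]

theorem V896_ok : okE 276 V896 = true := (okE_cons.2 ⟨g850_ok, (okE_cons.2 ⟨g851_ok, (okE_cons.2 ⟨g852_ok, (okE_cons.2 ⟨g861_ok, (okE_cons.2 ⟨g857_ok, (okE_cons.2 ⟨g858_ok, (okE_cons.2 ⟨g867_ok, (okE_cons.2 ⟨g868_ok, (okE_cons.2 ⟨n_t_ok, (okE_cons.2 ⟨g548_ok, (okE_cons.2 ⟨n_u_ok, (okE_cons.2 ⟨g864_ok, (okE_cons.2 ⟨n_tu_ok, (okE_cons.2 ⟨g491_ok, (okE_nil 276)⟩)⟩)⟩)⟩)⟩)⟩)⟩)⟩)⟩)⟩)⟩)⟩)⟩)⟩)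

noncomputable def V897 : List Net := [g861, g857, g858, g867, g868, n_t, g548, n_u, g864, n_tu, g491]

theorem V897_ok : okE 276 V897 = true := (okE_cons.2 ⟨g861_ok, (okE_cons.2 ⟨g857_ok, (okE_cons.2 ⟨g858_ok, (okE_cons.2 ⟨g867_ok, (okE_cons.2 ⟨g868_ok, (okE_cons.2 ⟨n_t_ok, (okE_cons.2 ⟨g548_ok, (okE_cons.2 ⟨n_u_ok, (okE_cons.2 ⟨g864_ok, (okE_cons.2 ⟨n_tu_ok, (okE_cons.2 ⟨g491_ok, (okE_nil 276)⟩)⟩)⟩)⟩)⟩)⟩)⟩)⟩)⟩)⟩)⟩)

noncomputable def V898 : List Net := [g867, g868, n_t, g548, n_u, g864, n_tu, g491]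

theorem V898_ok : okE 276 V898 = true := (okE_cons.2 ⟨g867_ok, (okE_cons.2 ⟨g868_ok, (okE_cons.2 ⟨n_t_ok, (okE_cons.2 ⟨g548_ok, (okE_cons.2 ⟨n_u_ok, (okE_cons.2 ⟨g864_ok, (okE_cons.2 ⟨n_tu_ok, (okE_cons.2 ⟨g491_ok, (okE_nil 276)⟩)⟩)⟩)⟩)⟩)⟩)⟩)⟩)

noncomputable def g899 : Net := (Net.cons (nat_lit 1) (nat_lit 0x105411550405115045444414145544411404111455145550555401100004140404400) (Net.cons (nat_lit 2) (nat_lit 0x100311211010100100033330002323103121103103102301100110221100120001020) (Net.cons (nat_lit 4) (nat_lit 0x808060804030d0a050d0c070401050c09080e0e05060b0f080c0409050905010808) (Net.cons (nat_lit 8) (nat_lit 0xe40098009a0019004f001c00d100d60044008500c0000000180024009900440000) (Net.cons (nat_lit 16) (nat_lit 0x5020000af140000cc8400002026000085bc0000c3100000dc8800008080) (Net.cons (nat_lit 32) (nat_lit 0x810961280000000041216e510000000011068760000000000006e04c) (Net.cons (nat_lit 64) (nat_lit 0x1851481280f24405000000000000000000000000000880c0)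 (Net.cons (nat_lit 128) (nat_lit 0x615b4006726535559a08181dea964c44) (Net.cons (nat_lit 256) (nat_lit 978124) (Net.cons (nat_lit 128) (nat_lit 481254) (Net.cons (nat_lit 64) (nat_lit 0xd80960b62d2f095c0000000000000000157cb2e4241ad840) (Net.cons (nat_lit 32) (nat_lit 0x44d8abbd00000000d633aed100000000ddd69628000000008f17f418) (Net.cons (nat_lit 16) (nat_lit 0x40000189b0000b7c10000d8c5000028ae000096a8000012c10000c4c800008800) (Net.cons (nat_lit 8) (nat_lit 0xa200cb009e0049005e001900c10086000000d1005000d000890035008900c50010) (Net.cons (nat_lit 4) (nat_lit 0x40c0608010309020109080e0801040c0c0c0e0b04020b0f0804050905090d03090c) (Net.cons (nat_lit 2) (nat_lit 0x100310201012002100033330012323113121103103002201110110321100021001030) (Net.cons (nat_lit 1) (nat_lit 0x105411550405115045444414145544411404111455145550555401100004140404400) Net.nil)))))))))))))))))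

theorem g899_ok : Net.ok 276 g899 = true := by decide +kernel

noncomputable def V900 : List Net := [g899, n_tw]

theorem V900_ok : okE 276 V900 = true := (okE_cons.2 ⟨g899_ok, (okE_cons.2 ⟨n_tw_ok, (okE_nil 276)⟩)⟩)

noncomputable def V902 : List Net := [n_tw]

theorem V902_ok : okE 276 V902 = true := (okE_cons.2 ⟨n_tw_ok, (okE_nil 276)⟩)

noncomputable def V903 : List Net := []

theorem V903_ok : okE 276 V903 = true := (okE_nil 276)

noncomputable def p_cnt_EG : List Net := [n_s1, n_b1, n_b2, n_b3, n_s2, g833, g829, g830, g840, g836, g837, g847, g843, g844, g850, g851, g852, g861, g857, g858, g867, g868, n_t, g548, n_u, g864, n_tu, g491, g899, n_tw]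

theorem p_cnt_EG_ok : okE 276 p_cnt_EG = true := (okE_cons.2 ⟨n_s1_ok, (okE_cons.2 ⟨n_b1_ok, (okE_cons.2 ⟨n_b2_ok, (okE_cons.2 ⟨n_b3_ok, (okE_cons.2 ⟨n_s2_ok, (okE_cons.2 ⟨g833_ok, (okE_cons.2 ⟨g829_ok, (okE_cons.2 ⟨g830_ok, (okE_cons.2 ⟨g840_ok, (okE_cons.2 ⟨g836_ok, (okE_cons.2 ⟨g837_ok, (okE_cons.2 ⟨g847_ok, (okE_cons.2 ⟨g843_ok, (okE_cons.2 ⟨g844_ok, (okE_cons.2 ⟨g850_ok, (okE_cons.2 ⟨g851_ok, (okE_cons.2 ⟨g852_ok, (okE_cons.2 ⟨g861_ok, (okE_cons.2 ⟨g857_ok, (okE_cons.2 ⟨g858_ok, (okE_cons.2 ⟨g867_ok, (okE_cons.2 ⟨g868_ok, (okE_cons.2 ⟨n_t_ok, (okE_cons.2 ⟨g548_ok, (okE_cons.2 ⟨n_u_ok, (okE_cons.2 ⟨g864_ok, (okE_cons.2 ⟨n_tu_ok, (okE_cons.2 ⟨g491_ok, (okE_cons.2 ⟨g899_ok, (okE_cons.2 ⟨n_tw_ok, (okE_nil 276)⟩)⟩)⟩)⟩)⟩)⟩)⟩)⟩)⟩)⟩)⟩)⟩)⟩)⟩)⟩)⟩)⟩)⟩)⟩)⟩)⟩)⟩)⟩)⟩)⟩)⟩)⟩)⟩)⟩)⟩)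

noncomputable def EP : List Net := [n_p1, n_p2]

theorem EP_ok : okE 276 EP = true := (okE_cons.2 ⟨n_p1_ok, (okE_cons.2 ⟨n_p2_ok, (okE_nil 276)⟩)⟩)

noncomputable def EMO : List Net := [n_t, n_u, n_w, n_x, n_p1, n_p2, n_c1, n_c2, n_q1, n_q2, n_q3, n_r1, n_r2, n_r3]

theorem EMO_ok : okE 276 EMO = true := (okE_cons.2 ⟨n_t_ok, (okE_cons.2 ⟨n_u_ok, (okE_cons.2 ⟨n_w_ok, (okE_cons.2 ⟨n_x_ok, (okE_cons.2 ⟨n_p1_ok, (okE_cons.2 ⟨n_p2_ok, (okE_cons.2 ⟨n_c1_ok, (okE_cons.2 ⟨n_c2_ok, (okE_cons.2 ⟨n_q1_ok, (okE_cons.2 ⟨n_q2_ok, (okE_cons.2 ⟨n_q3_ok, (okE_cons.2 ⟨n_r1_ok, (okE_cons.2 ⟨n_r2_ok, (okE_cons.2 ⟨n_r3_ok, (okE_nil 276)⟩)⟩)⟩)⟩)⟩)⟩)⟩)⟩)⟩)⟩)⟩)⟩)⟩)⟩)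

noncomputable def ET : List Net := [n_c1, n_c2, n_y]

theorem ET_ok : okE 276 ET = true := (okE_cons.2 ⟨n_c1_ok, (okE_cons.2 ⟨n_c2_ok, (okE_cons.2 ⟨n_y_ok, (okE_nil 276)⟩)⟩)⟩)

noncomputable def EQ : List Net := [n_q1, n_q2, n_q3]

theorem EQ_ok : okE 276 EQ = true := (okE_cons.2 ⟨n_q1_ok, (okE_cons.2 ⟨n_q2_ok, (okE_cons.2 ⟨n_q3_ok, (okE_nil 276)⟩)⟩)⟩)

noncomputable def cq : List Net := [n_tu, n_u]

theorem cq_ok : okE 276 cq = true := (okE_cons.2 ⟨n_tu_ok, (okE_cons.2 ⟨n_u_ok, (okE_nil 276)⟩)⟩)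

noncomputable def cq_cnt_EG : List Net := [g173, g174, g175, g176, g177, g35, g36, g37, g38, g39, g40, g41, g42, g214, g215, g216, g217]

theorem cq_cnt_EG_ok : okE 276 cq_cnt_EG = true := (okE_cons.2 ⟨g173_ok, (okE_cons.2 ⟨g174_ok, (okE_cons.2 ⟨g175_ok, (okE_cons.2 ⟨g176_ok, (okE_cons.2 ⟨g177_ok, (okE_cons.2 ⟨g35_ok, (okE_cons.2 ⟨g36_ok, (okE_cons.2 ⟨g37_ok, (okE_cons.2 ⟨g38_ok, (okE_cons.2 ⟨g39_ok, (okE_cons.2 ⟨g40_ok, (okE_cons.2 ⟨g41_ok, (okE_cons.2 ⟨g42_ok, (okE_cons.2 ⟨g214_ok, (okE_cons.2 ⟨g215_ok, (okE_cons.2 ⟨g216_ok, (okE_cons.2 ⟨g217_ok, (okE_nil 276)⟩)⟩)⟩)⟩)⟩)⟩)⟩)⟩)⟩)⟩)⟩)⟩)⟩)⟩)⟩)⟩)⟩)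

noncomputable def EU : List Net := [n_t, n_u]

theorem EU_ok : okE 276 EU = true := (okE_cons.2 ⟨n_t_ok, (okE_cons.2 ⟨n_u_ok, (okE_nil 276)⟩)⟩)

theorem TG_s0 : Stab 276 (grp 276 Co3M.E) [] Co3M.lb_E 495766656000 :=
  Stab.root' Co3M.lb_E_ok Co3M.eq_lb Co3M.card_grp

theorem le1 : grp 276 EL ≤ grp 276 Co3M.lb_E :=
  grp_le_of_memB hn hk Co3M.lb_E_ok EL_ok (ws := [nat_lit 0x191113120d101019090d0a080b030910, nat_lit 0x1711150d1113090b09070d011215, nat_lit 0x1819150d100d180911060c13011707, nat_lit 0x171117120d15130a0d05051008020312, nat_lit 0x191317110d120d0a17050f07010c05, nat_lit 0x181111150d12120c10050719030806]) (by decide +kernel)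

theorem EL_le : grp 276 EL ≤ grp 276 Co3M.E :=
  (le1.trans TG_s0.le)

theorem le5 : grp 276 V4 ≤ grp 276 EL :=
  grp_le_of_memB hn hk EL_ok V4_ok (ws := [nat_lit 0x907090504080b02040204020a, nat_lit 0x4010c0401010c06090c080206]) (by decide +kernel)

theorem le9 : grp 276 V8 ≤ grp 276 V4 :=
  grp_le_of_memB hn hk V4_ok V8_ok (ws := [nat_lit 0x3030301040402, nat_lit 0x1010101040401030103030104]) (by decide +kernel)

theorem le13 : grp 276 V12 ≤ grp 276 V8 :=
  grp_le_of_memB hn hk V8_ok V12_ok (ws := [nat_lit 262403, nat_lit 0x301030103010401]) (by decide +kernel)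

theorem le17 : grp 276 V16 ≤ grp 276 V12 :=
  grp_le_of_memB hn hk V12_ok V16_ok (ws := [nat_lit 0x404010302020203030202, nat_lit 0x20204020404010301]) (by decide +kernel)

theorem le22 : grp 276 V21 ≤ grp 276 V16 :=
  grp_le_of_memB hn hk V16_ok V21_ok (ws := [nat_lit 0x202040402040104, nat_lit 0x40103020402, nat_lit 0x2030302]) (by decide +kernel)

theorem le26 : grp 276 V25 ≤ grp 276 V21 :=
  grp_le_of_memB hn hk V21_ok V25_ok (ws := [nat_lit 0x505040603020203050204, nat_lit 0x40606060105]) (by decide +kernel)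

theorem le31 : grp 276 V30 ≤ grp 276 V25 :=
  grp_le_of_memB hn hk V25_ok V30_ok (ws := [nat_lit 0x20303020303030204, nat_lit 0x1040204, nat_lit 0x30104040401]) (by decide +kernel)

theorem le34 : grp 276 V33 ≤ grp 276 V30 :=
  grp_le_of_memB hn hk V30_ok V33_ok (ws := [nat_lit 0x303020406, nat_lit 0x40206060601]) (by decide +kernel)

theorem ELb_le : grp 276 ELb_E ≤ grp 276 EL :=
  (grp_cons_le ((le_refl (grp 276 EL)) (toPerm_mem_grp (E := EL) (by simp [EL]))) (grp_cons_le ((le_refl (grp 276 EL)) (toPerm_mem_grp (E := EL) (by simp [EL]))) (grp_cons_le ((le_refl (grp 276 EL)) (toPerm_mem_grp (E := EL) (by simp [EL]))) (grp_cons_le ((le_refl (grp 276 EL)) (toPerm_mem_grp (E := EL) (by simp [EL]))) (grp_cons_le ((le_refl (grp 276 EL)) (toPerm_mem_grp (E := EL) (by simp [EL]))) (grp_cons_le ((le_refl (grp 276 EL)) (toPerm_mem_grp (E := EL) (by simp [EL]))) (grp_cons_le ((le5.trans (le_refl (grp 276 EL))) (toPerm_mem_grp (E := V4) (by simp [V4])))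 (grp_cons_le ((le5.trans (le_refl (grp 276 EL))) (toPerm_mem_grp (E := V4) (by simp [V4]))) (grp_cons_le ((le9.trans (le5.trans (le_refl (grp 276 EL)))) (toPerm_mem_grp (E := V8) (by simp [V8]))) (grp_cons_le ((le9.trans (le5.trans (le_refl (grp 276 EL)))) (toPerm_mem_grp (E := V8) (by simp [V8]))) (grp_cons_le ((le13.trans (le9.trans (le5.trans (le_refl (grp 276 EL))))) (toPerm_mem_grp (E := V12) (by simp [V12]))) (grp_cons_le ((le13.trans (le9.trans (le5.trans (le_refl (grp 276 EL))))) (toPerm_mem_grp (E := V12) (by simp [V12]))) (grp_cons_le ((le17.trans (le13.trans (le9.trans (le5.trans (le_refl (grp 276 EL)))))) (toPerm_mem_grp (E := V16) (by simp [V16]))) (grp_cons_le ((le17.trans (le13.trans (le9.trans (le5.trans (le_refl (grp 276 EL)))))) (toPerm_mem_grp (E := V16) (by simp [V16]))) (grp_cons_le ((le22.trans (le17.trans (le13.trans (le9.trans (le5.trans (le_refl (grp 276 EL))))))) (toPerm_mem_grp (E := V21) (by simp [V21]))) (grp_cons_le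 ((le22.trans (le17.trans (le13.trans (le9.trans (le5.trans (le_refl (grp 276 EL))))))) (toPerm_mem_grp (E := V21) (by simp [V21]))) (grp_cons_le ((le22.trans (le17.trans (le13.trans (le9.trans (le5.trans (le_refl (grp 276 EL))))))) (toPerm_mem_grp (E := V21) (by simp [V21]))) (grp_cons_le ((le26.trans (le22.trans (le17.trans (le13.trans (le9.trans (le5.trans (le_refl (grp 276 EL)))))))) (toPerm_mem_grp (E := V25) (by simp [V25]))) (grp_cons_le ((le26.trans (le22.trans (le17.trans (le13.trans (le9.trans (le5.trans (le_refl (grp 276 EL)))))))) (toPerm_mem_grp (E := V25) (by simp [V25]))) (grp_cons_le ((le31.trans (le26.trans (le22.trans (le17.trans (le13.trans (le9.trans (le5.trans (le_refl (grp 276 EL))))))))) (toPerm_mem_grp (E := V30) (by simp [V30]))) (grp_cons_le ((le31.trans (le26.trans (le22.trans (le17.trans (le13.trans (le9.trans (le5.trans (le_refl (grp 276 EL))))))))) (toPerm_mem_grp (E := V30) (by simp [V30]))) (grp_cons_le ((le31.trans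 (le26.trans (le22.trans (le17.trans (le13.trans (le9.trans (le5.trans (le_refl (grp 276 EL))))))))) (toPerm_mem_grp (E := V30) (by simp [V30]))) (grp_cons_le ((le34.trans (le31.trans (le26.trans (le22.trans (le17.trans (le13.trans (le9.trans (le5.trans (le_refl (grp 276 EL)))))))))) (toPerm_mem_grp (E := V33) (by simp [V33]))) (grp_cons_le ((le34.trans (le31.trans (le26.trans (le22.trans (le17.trans (le13.trans (le9.trans (le5.trans (le_refl (grp 276 EL)))))))))) (toPerm_mem_grp (E := V33) (by simp [V33]))) (grp_nil_le _)))))))))))))))))))))))))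

noncomputable def ELb_ch : Ch := (Ch.cons (nat_lit 0) [nat_lit 1, nat_lit 3, nat_lit 5, nat_lit 7, nat_lit 9, nat_lit 11] (Ch.cons (nat_lit 1) [nat_lit 13, nat_lit 15] (Ch.cons (nat_lit 2) [nat_lit 17, nat_lit 19] (Ch.cons (nat_lit 5) [nat_lit 21, nat_lit 23] (Ch.cons (nat_lit 68) [nat_lit 25, nat_lit 27] (Ch.cons (nat_lit 3) [nat_lit 29, nat_lit 31, nat_lit 33] (Ch.cons (nat_lit 58) [nat_lit 35, nat_lit 37] (Ch.cons (nat_lit 4) [nat_lit 39, nat_lit 41, nat_lit 43] (Ch.cons (nat_lit 6) [nat_lit 45, nat_lit 47] Ch.nil)))))))))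

theorem ELb_chk : Ch.chk 276 9 (lab 276 9) ELb_E ELb_ch 495766656000 = true :=
  by decide +kernel

theorem ELb_ge : 495766656000 ≤ Nat.card (grp 276 EL) :=
  (Ch.le_card_grp hn ELb_E_ok ELb_chk).trans (Subgroup.card_le_of_le ELb_le)

theorem le43 : grp 276 h_K ≤ grp 276 Co3M.lb_E :=
  grp_le_of_memB hn hk Co3M.lb_E_ok h_K_ok (ws := [nat_lit 0x1811130f190b051011010c0f, nat_lit 0x181911130d17120d090d0c050818040f, nat_lit 0x171915120d17091812060f07010613, nat_lit 0x181317190d11181309091805050a110212, nat_lit 0x18121315110d110f1805170a041105, nat_lit 0x19111115130c12050c1002150b, nat_lit 0x181913150d13150a0b170619, nat_lit 0x191115120d110d0c17]) (by decide +kernel)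

theorem h_le : grp 276 h_K ≤ (grp 276 Co3M.E) :=
  (le43.trans TG_s0.le)

theorem h_mem : Net.toPerm 276 n_t ∈ (grp 276 Co3M.E) :=
  h_le (mem_grp_of_memB hn hk h_K_ok n_t_ok (w := (nat_lit 2315)) (by decide +kernel))

theorem h_sym : Sym 276 (grp 276 Co3M.E) [n_t] h_K 0 :=
  Sym.of_lab hn hk (okE_cons.2 ⟨n_t_ok, okE_nil _⟩) h_K_ok h_le (kT := 0) (by decide +kernel)

theorem TG_s1 : Stab 276 (grp 276 Co3M.E) [nat_lit 0] V44 1796256000 :=
  Stab.step (k := 9) (L := (lab 276 9)) hn TG_s0 V44_ok (grp_mono (List.subset_append_right [Co3M.g1, Co3M.g2] _)) (c := (Ch.cons (nat_lit 1) [nat_lit 1, nat_lit 3] (Ch.cons (nat_lit 6) [nat_lit 5, nat_lit 7] (Ch.cons (nat_lit 11) [nat_lit 9, nat_lit 11] (Ch.cons (nat_lit 16) [nat_lit 13, nat_lit 15, nat_lit 17] (Ch.cons (nat_lit 3) [nat_lit 19, nat_lit 21] Ch.nil)))))) (by decide +kernel)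

theorem TG_s2 : Stab 276 (grp 276 Co3M.E) [nat_lit 1, nat_lit 0] V45 6531840 :=
  Stab.step (k := 9) (L := (lab 276 9)) hn TG_s1 V45_ok (grp_mono (List.subset_append_right [Co3M.g3, Co3M.g4] _)) (c := (Ch.cons (nat_lit 6) [nat_lit 1, nat_lit 3] (Ch.cons (nat_lit 11) [nat_lit 5, nat_lit 7] (Ch.cons (nat_lit 16) [nat_lit 9, nat_lit 11, nat_lit 13] (Ch.cons (nat_lit 3) [nat_lit 15, nat_lit 17] Ch.nil))))) (by decide +kernel)

theorem TG_s3 : Stab 276 (grp 276 Co3M.E) [nat_lit 6, nat_lit 1, nat_lit 0] V46 40320 :=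
  Stab.step (k := 9) (L := (lab 276 9)) hn TG_s2 V46_ok (grp_mono (List.subset_append_right [Co3M.g7, Co3M.g8] _)) (c := (Ch.cons (nat_lit 11) [nat_lit 1, nat_lit 3] (Ch.cons (nat_lit 16) [nat_lit 5, nat_lit 7, nat_lit 9] (Ch.cons (nat_lit 3) [nat_lit 11, nat_lit 13] Ch.nil)))) (by decide +kernel)

theorem TG_s4 : Stab 276 (grp 276 Co3M.E) [nat_lit 11, nat_lit 6, nat_lit 1, nat_lit 0] V47 384 :=
  Stab.step (k := 9) (L := (lab 276 9)) hn TG_s3 V47_ok (grp_mono (List.subset_append_right [Co3M.g11, Co3M.g12] _)) (c := (Ch.cons (nat_lit 16) [nat_lit 1, nat_lit 3, nat_lit 5] (Ch.cons (nat_lit 3) [nat_lit 7, nat_lit 9] Ch.nil))) (by decide +kernel)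

theorem le54 : grp 276 V53 ≤ grp 276 V47 :=
  grp_le_of_memB hn hk V47_ok V53_ok (ws := [nat_lit 67586, nat_lit 460040, nat_lit 0x9030101, nat_lit 0x8030701, nat_lit 0x80902030501]) (by decide +kernel)

theorem TG_s5 : Stab 276 (grp 276 Co3M.E) [nat_lit 98, nat_lit 11, nat_lit 6, nat_lit 1, nat_lit 0] V53 48 :=
  Stab.step (k := 9) (L := (lab 276 9)) hn TG_s4 V53_ok le54 (c := (Ch.cons (nat_lit 89) [nat_lit 1] (Ch.cons (nat_lit 169) [nat_lit 3, nat_lit 5] (Ch.cons (nat_lit 41) [nat_lit 7, nat_lit 9] Ch.nil)))) (by decide +kernel)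

theorem TG_s6 : Stab 276 (grp 276 Co3M.E) [nat_lit 89, nat_lit 98, nat_lit 11, nat_lit 6, nat_lit 1, nat_lit 0] V55 16 :=
  Stab.step (k := 9) (L := (lab 276 9)) hn TG_s5 V55_ok (grp_mono (List.subset_append_right [g48] _)) (c := (Ch.cons (nat_lit 169) [nat_lit 1, nat_lit 3] (Ch.cons (nat_lit 41) [nat_lit 5, nat_lit 7] Ch.nil))) (by decide +kernel)

theorem TG_s7 : Stab 276 (grp 276 Co3M.E) [nat_lit 169, nat_lit 89, nat_lit 98, nat_lit 11, nat_lit 6, nat_lit 1, nat_lit 0] V56 4 :=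
  Stab.step (k := 9) (L := (lab 276 9)) hn TG_s6 V56_ok (grp_mono (List.subset_append_right [g49, g50] _)) (c := (Ch.cons (nat_lit 41) [nat_lit 1, nat_lit 3] Ch.nil)) (by decide +kernel)

theorem TG_s8 : Stab 276 (grp 276 Co3M.E) [nat_lit 41, nat_lit 169, nat_lit 89, nat_lit 98, nat_lit 11, nat_lit 6, nat_lit 1, nat_lit 0] V57 1 :=
  Stab.step (k := 9) (L := (lab 276 9)) hn TG_s7 V57_ok (grp_mono (List.subset_append_right [g51, g52] _)) (c := Ch.nil) (by decide +kernel)

theorem Co3M.g3_TG : Net.toPerm 276 Co3M.g3 ∈ (grp 276 Co3M.E) :=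
  TG_s1.le (toPerm_mem_grp (E := V44) (List.Mem.head _))

theorem Co3M.g4_TG : Net.toPerm 276 Co3M.g4 ∈ (grp 276 Co3M.E) :=
  TG_s1.le (toPerm_mem_grp (E := V44) (List.Mem.tail _ (List.Mem.head _)))

theorem Co3M.g7_TG : Net.toPerm 276 Co3M.g7 ∈ (grp 276 Co3M.E) :=
  TG_s1.le (toPerm_mem_grp (E := V44) (List.Mem.tail _ (List.Mem.tail _ (List.Mem.head _))))

theorem Co3M.g8_TG : Net.toPerm 276 Co3M.g8 ∈ (grp 276 Co3M.E) :=
  TG_s1.le (toPerm_mem_grp (E := V44) (List.Mem.tail _ (List.Mem.tail _ (List.Mem.tail _ (List.Mem.head _)))))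

theorem Co3M.g11_TG : Net.toPerm 276 Co3M.g11 ∈ (grp 276 Co3M.E) :=
  TG_s1.le (toPerm_mem_grp (E := V44) (List.Mem.tail _ (List.Mem.tail _ (List.Mem.tail _ (List.Mem.tail _ (List.Mem.head _))))))

theorem Co3M.g12_TG : Net.toPerm 276 Co3M.g12 ∈ (grp 276 Co3M.E) :=
  TG_s1.le (toPerm_mem_grp (E := V44) (List.Mem.tail _ (List.Mem.tail _ (List.Mem.tail _ (List.Mem.tail _ (List.Mem.tail _ (List.Mem.head _)))))))

theorem Co3M.g15_TG : Net.toPerm 276 Co3M.g15 ∈ (grp 276 Co3M.E) :=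
  TG_s1.le (toPerm_mem_grp (E := V44) (List.Mem.tail _ (List.Mem.tail _ (List.Mem.tail _ (List.Mem.tail _ (List.Mem.tail _ (List.Mem.tail _ (List.Mem.head _))))))))

theorem Co3M.g16_TG : Net.toPerm 276 Co3M.g16 ∈ (grp 276 Co3M.E) :=
  TG_s1.le (toPerm_mem_grp (E := V44) (List.Mem.tail _ (List.Mem.tail _ (List.Mem.tail _ (List.Mem.tail _ (List.Mem.tail _ (List.Mem.tail _ (List.Mem.tail _ (List.Mem.head _)))))))))

theorem Co3M.g17_TG : Net.toPerm 276 Co3M.g17 ∈ (grp 276 Co3M.E) :=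
  TG_s1.le (toPerm_mem_grp (E := V44) (List.Mem.tail _ (List.Mem.tail _ (List.Mem.tail _ (List.Mem.tail _ (List.Mem.tail _ (List.Mem.tail _ (List.Mem.tail _ (List.Mem.tail _ (List.Mem.head _))))))))))

theorem Co3M.g20_TG : Net.toPerm 276 Co3M.g20 ∈ (grp 276 Co3M.E) :=
  TG_s1.le (toPerm_mem_grp (E := V44) (List.Mem.tail _ (List.Mem.tail _ (List.Mem.tail _ (List.Mem.tail _ (List.Mem.tail _ (List.Mem.tail _ (List.Mem.tail _ (List.Mem.tail _ (List.Mem.tail _ (List.Mem.head _)))))))))))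

theorem Co3M.g21_TG : Net.toPerm 276 Co3M.g21 ∈ (grp 276 Co3M.E) :=
  TG_s1.le (toPerm_mem_grp (E := V44) (List.Mem.tail _ (List.Mem.tail _ (List.Mem.tail _ (List.Mem.tail _ (List.Mem.tail _ (List.Mem.tail _ (List.Mem.tail _ (List.Mem.tail _ (List.Mem.tail _ (List.Mem.tail _ (List.Mem.head _))))))))))))

theorem Co3M.g1_TG : Net.toPerm 276 Co3M.g1 ∈ (grp 276 Co3M.E) :=
  TG_s0.le (toPerm_mem_grp (E := Co3M.lb_E) (List.Mem.head _))

theorem Co3M.g2_TG : Net.toPerm 276 Co3M.g2 ∈ (grp 276 Co3M.E) :=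
  TG_s0.le (toPerm_mem_grp (E := Co3M.lb_E) (List.Mem.tail _ (List.Mem.head _)))

theorem g48_TG : Net.toPerm 276 g48 ∈ (grp 276 Co3M.E) :=
  TG_s5.le (toPerm_mem_grp (E := V53) (List.Mem.head _))

theorem g49_TG : Net.toPerm 276 g49 ∈ (grp 276 Co3M.E) :=
  TG_s5.le (toPerm_mem_grp (E := V53) (List.Mem.tail _ (List.Mem.head _)))

theorem g50_TG : Net.toPerm 276 g50 ∈ (grp 276 Co3M.E) :=
  TG_s5.le (toPerm_mem_grp (E := V53) (List.Mem.tail _ (List.Mem.tail _ (List.Mem.head _))))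

theorem g51_TG : Net.toPerm 276 g51 ∈ (grp 276 Co3M.E) :=
  TG_s5.le (toPerm_mem_grp (E := V53) (List.Mem.tail _ (List.Mem.tail _ (List.Mem.tail _ (List.Mem.head _)))))

theorem g52_TG : Net.toPerm 276 g52 ∈ (grp 276 Co3M.E) :=
  TG_s5.le (toPerm_mem_grp (E := V53) (List.Mem.tail _ (List.Mem.tail _ (List.Mem.tail _ (List.Mem.tail _ (List.Mem.head _))))))

noncomputable def TG_s8_O : ℕ := (nat_lit 0x9993333366666ccccc99999b3333666664ccccd9999b3333266666ccccd9999933332c1f07c1f07c1f07c0f83e0f83e0f83e0f81f07c1f07c1f07c1f03e0f83e0f83e0f83e7319cc63398ce7319cc63398ce7319ce63398c67319ce63398c67319ce63398c6731826d926c93649b24db26d936c9b649b24d926d936c9b64db24d926c93649b64db26d92000000000000000000000000000000000000000000000000000000000000000000001000000000000000000000000000000000000000000000000000000000000000000002000000000000000000000000000000000000000000000000000000000000000000040000000000000000000000000000000000000000000000000000000000000000000800000000000000000000000000000000000000000000004000000000000000000000000000000000000000000000000000000000000000000000020000000000000000000000000000000000000000000000002000000000000000000000000000000000000000000000000000000000000000000000000000000000000000000000000000020000000000)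

theorem TG_s8_F : Frame 276 (grp 276 Co3M.E) 8 12 TG_s8_O 1 1 :=
  IsBase.frame TG_s8.isBase (by decide +kernel)

noncomputable def TG_s6_O : ℕ := (nat_lit 0x42085a02814181810a80aa500001a8400584210000202c060a3000000000000000000b182010020104858007c04809872108a0022000a081090802002184c8e38236e08000d3030a0890d14ec0802406b00c009883f0920808001880cb2000004c8e3c8800077b01cb1c14912bca975cd959927b94a67f28382359f1bbab94141054fbf9584756007600412b5b617c8f2f42853bb88f147163c31e28287563fd93967fc8a9be7221238d47180bbe855d303e0e345843803158b9426dd4c520920fe1f3753fd2b65f9e357e24b92520000000000000000000000000000000000000000000000000000000000000000000001000000000000000000000000000000000000000000000000000000000000000000002000000000000000000000000000000000000000000000000000000000000000000040000000000000000000000000000000000000000000000000000000000000000000800000000000000000000000000000000000000000000004000000000000000000000000000000000000000000000000000000000000000000000020000000000000000000000)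

theorem TG_s6_F : Frame 276 (grp 276 Co3M.E) 6 12 TG_s6_O 0 1 :=
  Stab.frame hn TG_s6 (by decide +kernel)

noncomputable def TG_s5_O : ℕ := (nat_lit 0x8000000000002200000000000000000000002000000004000000000021000000000000000000000000000000000000000000000000000000000000000880000000000000010000000000080000000000000000000000000000000000000400000000000000080000000000010000000000008000000000000000000000001000000004000000000000000000080000000000000000040000000000000000000000000000000000010400000000000000000000000000800000001000000000881000000000000000880080000000040020000820000008000000000000400000000020000000000100000048000021000000000020000008000000000082800200000020000000800080810000000000008808000001000000200000020000000000020000000004000000001080240004000002040000400000000000000101000000000000800050000a0000810000800000000800000000020000000800000000000080000000020000000000000000800000800000010000200000000000080410000000400040208004000100000020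0002000020000000200001002008000000000020000000020000040010000010100100004000010000004000000100000000000100000000000000020000508080000002010040000000000000000000401000000000040000200040001080000002000000008000000000000202000010000a00000000000000c020000000000080000210002000410000200004000005000002000000000002000100410001b0000000000000000000000000c000001011002000041000200001501800000000000021000000000000080000000220000400000100010004100000000010020000000144010100400000000000000000000000000000000000000000800002060050210140820006001000100000000420040000100030004000400000000001c2000000000000000000000000102000c000000000000000000000000000000000000000000000000000000000000000000001000000000000000000000000000000000000000000000000000000000000000000002000000000000000000000000000000000000000000000000000000000000000000040000000000000000000000000000000000000000000000000000000000000000000800000000000000000000000000000000000000000000004000000000000000000000000)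

theorem TG_s5_F : Frame 276 (grp 276 Co3M.E) 5 26 TG_s5_O 0 1 :=
  Stab.frame hn TG_s5 (by decide +kernel)

noncomputable def TG_s4_O : ℕ := (nat_lit 0x40000000000000008000800000001040220000000800000000000000001010010000c00001800000410000210000000000090410000000400042208054808100000221004200002000000020000140300800000004002020004002108004001200002000800000010000024a000031000a00000020000008c02000000082808200021002a810410040200004008a1580000200040020000a200100490001b00000004000000200000008000808108800000000088080900012060052a10140a2000600100030000058000a0002b10004800401000900041000020008100a0000000144018500400002000000460040000110832404040504020400005c2000000000000101800000001102800c000000000000000000000000000000000000000000000000000000000000000000001000000000000000000000000000000000000000000000000000000000000000000002000000000000000000000000000000000000000000000000000000000000000000040000000000000000000000000000000000000000000000000000000000000000000800)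

theorem TG_s4_F : Frame 276 (grp 276 Co3M.E) 4 12 TG_s4_O 0 1 :=
  Stab.frame hn TG_s4 (by decide +kernel)

noncomputable def TG_s3_O : ℕ := (nat_lit 0x2001010090008c81089800000410880a190001206005ba51140a20046005220b05480d9000a0223b14204802401000920041140320808100a0400202144418710c004021200006600c00001118324064e050433040a005c2020000008c02101800082809302821c000000000000000000000000000000000000000000000000000000000000000000001000000000000000000000000000000000000000000000000000000000000000000002000000000000000000000000000000000000000000000000000000000000000000040)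

theorem TG_s3_F : Frame 276 (grp 276 Co3M.E) 3 6 TG_s3_O 0 1 :=
  Stab.frame hn TG_s3 (by decide +kernel)

noncomputable def TG_s2_O : ℕ := (nat_lit 0xd9066a0e23b1531cb26465e059633451e037ca0a100a048c22315c418f38c9342a33c000000000000000000000000000000000000000000000000000000000000000000001000000000000000000000000000000000000000000000000000000000000000000002)

theorem TG_s2_F : Frame 276 (grp 276 Co3M.E) 2 3 TG_s2_O 0 1 :=
  Stab.frame hn TG_s2 (by decide +kernel)

noncomputable def h_cnt_L : List ℕ := [2, 3, TG_s2_O, 0, 0, 3, 6, TG_s3_O, 0, 0, 4, 12, TG_s4_O, 0, 0, 5, 26, TG_s5_O, 0, 0, 6, 12, TG_s6_O, 0, 0, 8, 12, TG_s8_O, 1, 0]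

theorem h_cnt_P : Prob 276 9 (grp 276 Co3M.E) h_cnt_EG [n_t] [n_t] h_K h_cnt_L 0 0 :=
  Sym.prob hn hk h_sym h_cnt_EG_ok (grp_cons_le Co3M.g3_TG (grp_cons_le Co3M.g4_TG (grp_cons_le Co3M.g7_TG (grp_cons_le Co3M.g8_TG (grp_cons_le Co3M.g11_TG (grp_cons_le Co3M.g12_TG (grp_cons_le Co3M.g15_TG (grp_cons_le Co3M.g16_TG (grp_cons_le Co3M.g17_TG (grp_cons_le Co3M.g20_TG (grp_cons_le Co3M.g21_TG (grp_cons_le Co3M.g1_TG (grp_cons_le Co3M.g2_TG (grp_cons_le g48_TG (grp_cons_le g49_TG (grp_cons_le g50_TG (grp_cons_le g51_TG (grp_cons_le g52_TG (grp_nil_le _))))))))))))))))))) (Frames.cons TG_s2_F (Frames.cons TG_s3_F (Frames.cons TG_s4_F (Frames.cons TG_s5_F (Frames.cons TG_s6_F (Frames.cons TG_s8_F Frames.nil)))))) (okE_cons.2 ⟨n_t_ok, okE_nil _⟩) _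

noncomputable def h_cnt_t : BT := (BT.fix (nat_lit 1) (BT.br (nat_lit 0) (nat_lit 272) [nat_lit 1, nat_lit 3] (BT.kid (nat_lit 272) (nat_lit 80640) (BT.dif (nat_lit 1) (nat_lit 0) (BT.br (nat_lit 0) (nat_lit 4) [nat_lit 3, nat_lit 5] (BT.kid (nat_lit 4) (nat_lit 2304) (BT.frm (nat_lit 0) (nat_lit 0x108171a0d) (nat_lit 0x108171a0d) [nat_lit 0, nat_lit 2] (BT.pln (nat_lit 0) (nat_lit 2) (BT.dif (nat_lit 5) (nat_lit 0) (BT.dif (nat_lit 0) (nat_lit 5) (BT.dif (nat_lit 0) (nat_lit 4) (BT.br (nat_lit 0) (nat_lit 124) [nat_lit 5, nat_lit 7] (BT.kid (nat_lit 124) (nat_lit 128) (BT.frm (nat_lit 1) (nat_lit 0x5050d0108171a0d) (nat_lit 0x5050d0108171a0d) [nat_lit 0, nat_lit 6, nat_lit 8] (BT.pln (nat_lit 0) (nat_lit 5) (BT.dif (nat_lit 5) (nat_lit 0) (BT.dif (nat_lit 0) (nat_lit 11) (BT.dif (nat_lit 0) (nat_lit 10) (BT.dif (nat_lit 0) (nat_lit 5) (BT.br (nat_lit 0) (nat_lit 163) [nat_lit 7, nat_lit 9] (BT.dead (nat_lit 52) (BT.frm (nat_lit 2) (nat_lit 0x90c090c05050d0108171a0d)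 (nat_lit 0x90c130905050d0108171a0d) [nat_lit 0, nat_lit 7, nat_lit 13, nat_lit 15] (BT.pln (nat_lit 0) (nat_lit 4) (BT.and (nat_lit 0) (nat_lit 18) (BT.cnt (nat_lit 0))))) (BT.kid (nat_lit 163) (nat_lit 16) (BT.dif (nat_lit 19) (nat_lit 11) (BT.dif (nat_lit 0) (nat_lit 6) (BT.frm (nat_lit 2) (nat_lit 0x90c090c05050d0108171a0d) (nat_lit 0x90c090c05050d0108171a0d) [nat_lit 2, nat_lit 9, nat_lit 15, nat_lit 17] (BT.pln (nat_lit 0) (nat_lit 11) (BT.and (nat_lit 2) (nat_lit 0) (BT.dif (nat_lit 0) (nat_lit 21) (BT.br (nat_lit 0) (nat_lit 270) [nat_lit 9, nat_lit 11] (BT.kid (nat_lit 270) (nat_lit 4) (BT.frm (nat_lit 3) (nat_lit 0x13090c090c05050d0108171a0d) (nat_lit 0x13090c090c05050d0108171a0d) [nat_lit 0, nat_lit 7, nat_lit 14, nat_lit 20, nat_lit 22] (BT.pln (nat_lit 0) (nat_lit 13) (BT.and (nat_lit 20) (nat_lit 0) (BT.dif (nat_lit 0) (nat_lit 26) (BT.img (nat_lit 1) (nat_lit 4) (BT.frm (nat_lit 4) (nat_lit 0x13090c090c05050d0108171a0d) (nat_lit 0x13090c090c05050d0108171a0d)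 [nat_lit 0, nat_lit 5, nat_lit 12, nat_lit 19, nat_lit 25, nat_lit 27] (BT.pln (nat_lit 0) (nat_lit 6) (BT.dif (nat_lit 3) (nat_lit 0) (BT.br (nat_lit 0) (nat_lit 176) [nat_lit 13] (BT.kid (nat_lit 176) (nat_lit 2) (BT.dif (nat_lit 27) (nat_lit 2) (BT.pln (nat_lit 4) (nat_lit 7) (BT.and (nat_lit 1) (nat_lit 0) (BT.pln (nat_lit 6) (nat_lit 9) (BT.and (nat_lit 1) (nat_lit 0) (BT.pln (nat_lit 8) (nat_lit 10) (BT.and (nat_lit 1) (nat_lit 0) (BT.dif (nat_lit 0) (nat_lit 39) (BT.br (nat_lit 0) (nat_lit 187) [nat_lit 15] (BT.kid (nat_lit 187) (nat_lit 1) (BT.one (nat_lit 5) (nat_lit 0x212313090c090c05050d0108171a0d) (nat_lit 0x212313090c090c05050d0108171a0d) [nat_lit 0, nat_lit 9, nat_lit 13, nat_lit 18, nat_lit 25, nat_lit 32, nat_lit 38, nat_lit 40]) BT.nil)))))))))) BT.nil)))))))))) BT.nil)))))))) BT.nil))))))))) BT.nil))))))) BT.nil))) BT.nil)))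

theorem h_cnt : Cnt 276 (grp 276 Co3M.E) [n_t] [n_t] 0 0 0 0 2903040 :=
  BT.sound h_cnt_P Known.nil (t := h_cnt_t) (d := 0) (by decide +kernel)

theorem h_ge : 2903040 ≤ Nat.card (grp 276 h_K) :=
  Ch.le_card_grp (k := 9) (L := (lab 276 9)) hn h_K_ok (c := (Ch.cons (nat_lit 272) [nat_lit 1] (Ch.cons (nat_lit 4) [nat_lit 3] (Ch.cons (nat_lit 124) [nat_lit 5] (Ch.cons (nat_lit 163) [nat_lit 7] (Ch.cons (nat_lit 270) [nat_lit 9, nat_lit 11] (Ch.cons (nat_lit 176) [nat_lit 13] (Ch.cons (nat_lit 187) [nat_lit 15] Ch.nil)))))))) (by decide +kernel)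

theorem h_eq : (grp 276 Co3M.E) ⊓ Subgroup.centralizer {Net.toPerm 276 n_t} = grp 276 h_K :=
  cent_eq h_sym h_cnt h_ge

theorem h_card : Nat.card ↥((grp 276 Co3M.E) ⊓ Subgroup.centralizer {Net.toPerm 276 n_t}) = 2903040 :=
  card_cent h_sym h_cnt h_ge

theorem h_card2 : Nat.card (grp 276 h_K) = 2903040 :=
  h_eq ▸ h_card

theorem TH_s0 : Stab 276 (grp 276 h_K) [] h_K 2903040 :=
  Stab.root h_K_ok h_card2

theorem EH_le : grp 276 EH ≤ grp 276 h_K :=
  grp_le_of_memB hn hk h_K_ok EH_ok (ws := [nat_lit 0xf0d0907090608040604070209, nat_lit 0xf090b07070504050305010306, nat_lit 0x7090705080405030209, nat_lit 0xf0d070508040505020d, nat_lit 0xf0d090709080608040504010505]) (by decide +kernel)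

theorem le61 : grp 276 V60 ≤ grp 276 EH :=
  grp_le_of_memB hn hk EH_ok V60_ok (ws := [nat_lit 0x9020302080a0302040204, nat_lit 0x901060a01010902]) (by decide +kernel)

theorem le65 : grp 276 V64 ≤ grp 276 V60 :=
  grp_le_of_memB hn hk V60_ok V64_ok (ws := [nat_lit 0x2040104010101, nat_lit 0x2020401010301030104010401]) (by decide +kernel)

theorem le69 : grp 276 V68 ≤ grp 276 V64 :=
  grp_le_of_memB hn hk V64_ok V68_ok (ws := [nat_lit 196865, nat_lit 0x401010104010103]) (by decide +kernel)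

theorem le73 : grp 276 V72 ≤ grp 276 V68 :=
  grp_le_of_memB hn hk V68_ok V72_ok (ws := [nat_lit 0x404020202020302, nat_lit 0x30202020302]) (by decide +kernel)

theorem le76 : grp 276 V75 ≤ grp 276 V72 :=
  grp_le_of_memB hn hk V72_ok V75_ok (ws := [nat_lit 0x301010402, nat_lit 0x10401040404]) (by decide +kernel)

theorem le80 : grp 276 V79 ≤ grp 276 V75 :=
  grp_le_of_memB hn hk V75_ok V79_ok (ws := [nat_lit 260, nat_lit 0x20301030204]) (by decide +kernel)

theorem le82 : grp 276 V81 ≤ grp 276 V79 :=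
  grp_le_of_memB hn hk V79_ok V81_ok (ws := [nat_lit 0x103010104020204, nat_lit 0x4010301]) (by decide +kernel)

theorem EHb_le : grp 276 EHb_E ≤ grp 276 EH :=
  (grp_cons_le ((le_refl (grp 276 EH)) (toPerm_mem_grp (E := EH) (by simp [EH]))) (grp_cons_le ((le_refl (grp 276 EH)) (toPerm_mem_grp (E := EH) (by simp [EH]))) (grp_cons_le ((le_refl (grp 276 EH)) (toPerm_mem_grp (E := EH) (by simp [EH]))) (grp_cons_le ((le_refl (grp 276 EH)) (toPerm_mem_grp (E := EH) (by simp [EH]))) (grp_cons_le ((le_refl (grp 276 EH)) (toPerm_mem_grp (E := EH) (by simp [EH]))) (grp_cons_le ((le61.trans (le_refl (grp 276 EH))) (toPerm_mem_grp (E := V60) (by simp [V60]))) (grp_cons_le ((le61.trans (le_refl (grp 276 EH))) (toPerm_mem_grp (E := V60) (by simp [V60]))) (grp_cons_le ((le65.trans (le61.trans (le_refl (grp 276 EH)))) (toPerm_mem_grp (E := V64) (by simp [V64]))) (grp_cons_le ((le65.trans (le61.trans (le_refl (grp 276 EH)))) (toPerm_mem_grp (E := V64) (by simp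 [V64]))) (grp_cons_le ((le69.trans (le65.trans (le61.trans (le_refl (grp 276 EH))))) (toPerm_mem_grp (E := V68) (by simp [V68]))) (grp_cons_le ((le69.trans (le65.trans (le61.trans (le_refl (grp 276 EH))))) (toPerm_mem_grp (E := V68) (by simp [V68]))) (grp_cons_le ((le73.trans (le69.trans (le65.trans (le61.trans (le_refl (grp 276 EH)))))) (toPerm_mem_grp (E := V72) (by simp [V72]))) (grp_cons_le ((le73.trans (le69.trans (le65.trans (le61.trans (le_refl (grp 276 EH)))))) (toPerm_mem_grp (E := V72) (by simp [V72]))) (grp_cons_le ((le76.trans (le73.trans (le69.trans (le65.trans (le61.trans (le_refl (grp 276 EH))))))) (toPerm_mem_grp (E := V75) (by simp [V75]))) (grp_cons_le ((le76.trans (le73.trans (le69.trans (le65.trans (le61.trans (le_refl (grp 276 EH))))))) (toPerm_mem_grp (E := V75) (by simp [V75]))) (grp_cons_le ((le80.trans (le76.trans (le73.trans (le69.trans (le65.trans (le61.trans (le_refl (grp 276 EH)))))))) (toPerm_mem_grp (E := V79) (by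 simp [V79]))) (grp_cons_le ((le80.trans (le76.trans (le73.trans (le69.trans (le65.trans (le61.trans (le_refl (grp 276 EH)))))))) (toPerm_mem_grp (E := V79) (by simp [V79]))) (grp_cons_le ((le82.trans (le80.trans (le76.trans (le73.trans (le69.trans (le65.trans (le61.trans (le_refl (grp 276 EH))))))))) (toPerm_mem_grp (E := V81) (by simp [V81]))) (grp_cons_le ((le82.trans (le80.trans (le76.trans (le73.trans (le69.trans (le65.trans (le61.trans (le_refl (grp 276 EH))))))))) (toPerm_mem_grp (E := V81) (by simp [V81]))) (grp_nil_le _))))))))))))))))))))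

noncomputable def EHb_ch : Ch := (Ch.cons (nat_lit 4) [nat_lit 1, nat_lit 3, nat_lit 5, nat_lit 7, nat_lit 9] (Ch.cons (nat_lit 12) [nat_lit 11, nat_lit 13] (Ch.cons (nat_lit 28) [nat_lit 15, nat_lit 17] (Ch.cons (nat_lit 104) [nat_lit 19, nat_lit 21] (Ch.cons (nat_lit 190) [nat_lit 23, nat_lit 25] (Ch.cons (nat_lit 33) [nat_lit 27, nat_lit 29] (Ch.cons (nat_lit 38) [nat_lit 31, nat_lit 33] (Ch.cons (nat_lit 0) [nat_lit 35, nat_lit 37] Ch.nil))))))))

theorem EHb_chk : Ch.chk 276 9 (lab 276 9) EHb_E EHb_ch 2903040 = true :=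
  by decide +kernel

theorem EHb_ge : 2903040 ≤ Nat.card (grp 276 EH) :=
  (Ch.le_card_grp hn EHb_E_ok EHb_chk).trans (Subgroup.card_le_of_le EHb_le)

theorem EK_le : grp 276 EK ≤ grp 276 h_K :=
  grp_le_of_memB hn hk h_K_ok EK_ok (ws := [nat_lit 0xf090b070905050804010108, nat_lit 0xd0b0706040604, nat_lit 0xf0d070908050405030f010306, nat_lit 0x9070705070d0305040202, nat_lit 0xf090b07090306070209, nat_lit 0xd0b0604060408, nat_lit 0xf0d090709060704050306]) (by decide +kernel)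

theorem le87 : grp 276 V86 ≤ grp 276 EK :=
  grp_le_of_memB hn hk EK_ok V86_ok (ws := [nat_lit 0x8040a0e0b04, nat_lit 0xe0e040c0a010e0b050e04, nat_lit 0x105030b0d070e020a020e0a02]) (by decide +kernel)

theorem le91 : grp 276 V90 ≤ grp 276 V86 :=
  grp_le_of_memB hn hk V86_ok V90_ok (ws := [nat_lit 0x504010606060601, nat_lit 0x5050505040202060104]) (by decide +kernel)

theorem le95 : grp 276 V94 ≤ grp 276 V90 :=
  grp_le_of_memB hn hk V90_ok V94_ok (ws := [nat_lit 0x101030302, nat_lit 0x104020404020202]) (by decide +kernel)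

theorem le99 : grp 276 V98 ≤ grp 276 V94 :=
  grp_le_of_memB hn hk V94_ok V98_ok (ws := [nat_lit 1026, nat_lit 0x4010402]) (by decide +kernel)

theorem le103 : grp 276 V102 ≤ grp 276 V98 :=
  grp_le_of_memB hn hk V98_ok V102_ok (ws := [nat_lit 0x3030101, nat_lit 515]) (by decide +kernel)

theorem le105 : grp 276 V104 ≤ grp 276 V102 :=
  grp_le_of_memB hn hk V102_ok V104_ok (ws := [nat_lit 0x3030302, nat_lit 0x1040402]) (by decide +kernel)

theorem le107 : grp 276 V106 ≤ grp 276 V104 :=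
  grp_le_of_memB hn hk V104_ok V106_ok (ws := [nat_lit 0x3020204040202, nat_lit 0x301030302]) (by decide +kernel)

theorem EKb_le : grp 276 EKb_E ≤ grp 276 EK :=
  (grp_cons_le ((le_refl (grp 276 EK)) (toPerm_mem_grp (E := EK) (by simp [EK]))) (grp_cons_le ((le_refl (grp 276 EK)) (toPerm_mem_grp (E := EK) (by simp [EK]))) (grp_cons_le ((le_refl (grp 276 EK)) (toPerm_mem_grp (E := EK) (by simp [EK]))) (grp_cons_le ((le_refl (grp 276 EK)) (toPerm_mem_grp (E := EK) (by simp [EK]))) (grp_cons_le ((le_refl (grp 276 EK)) (toPerm_mem_grp (E := EK) (by simp [EK]))) (grp_cons_le ((le_refl (grp 276 EK)) (toPerm_mem_grp (E := EK) (by simp [EK]))) (grp_cons_le ((le_refl (grp 276 EK)) (toPerm_mem_grp (E := EK) (by simp [EK]))) (grp_cons_le ((le87.trans (le_refl (grp 276 EK))) (toPerm_mem_grp (E := V86) (by simp [V86]))) (grp_cons_le ((le87.trans (le_refl (grp 276 EK))) (toPerm_mem_grp (E := V86) (by simp [V86]))) (grp_cons_le ((le87.trans (le_refl (grp 276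 EK))) (toPerm_mem_grp (E := V86) (by simp [V86]))) (grp_cons_le ((le91.trans (le87.trans (le_refl (grp 276 EK)))) (toPerm_mem_grp (E := V90) (by simp [V90]))) (grp_cons_le ((le91.trans (le87.trans (le_refl (grp 276 EK)))) (toPerm_mem_grp (E := V90) (by simp [V90]))) (grp_cons_le ((le95.trans (le91.trans (le87.trans (le_refl (grp 276 EK))))) (toPerm_mem_grp (E := V94) (by simp [V94]))) (grp_cons_le ((le95.trans (le91.trans (le87.trans (le_refl (grp 276 EK))))) (toPerm_mem_grp (E := V94) (by simp [V94]))) (grp_cons_le ((le99.trans (le95.trans (le91.trans (le87.trans (le_refl (grp 276 EK)))))) (toPerm_mem_grp (E := V98) (by simp [V98]))) (grp_cons_le ((le99.trans (le95.trans (le91.trans (le87.trans (le_refl (grp 276 EK)))))) (toPerm_mem_grp (E := V98) (by simp [V98]))) (grp_cons_le ((le103.trans (le99.trans (le95.trans (le91.trans (le87.trans (le_refl (grp 276 EK))))))) (toPerm_mem_grp (E := V102) (by simp [V102]))) (grp_cons_le ((le103.trans (le99.trans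 (le95.trans (le91.trans (le87.trans (le_refl (grp 276 EK))))))) (toPerm_mem_grp (E := V102) (by simp [V102]))) (grp_cons_le ((le105.trans (le103.trans (le99.trans (le95.trans (le91.trans (le87.trans (le_refl (grp 276 EK)))))))) (toPerm_mem_grp (E := V104) (by simp [V104]))) (grp_cons_le ((le105.trans (le103.trans (le99.trans (le95.trans (le91.trans (le87.trans (le_refl (grp 276 EK)))))))) (toPerm_mem_grp (E := V104) (by simp [V104]))) (grp_cons_le ((le107.trans (le105.trans (le103.trans (le99.trans (le95.trans (le91.trans (le87.trans (le_refl (grp 276 EK))))))))) (toPerm_mem_grp (E := V106) (by simp [V106]))) (grp_cons_le ((le107.trans (le105.trans (le103.trans (le99.trans (le95.trans (le91.trans (le87.trans (le_refl (grp 276 EK))))))))) (toPerm_mem_grp (E := V106) (by simp [V106]))) (grp_nil_le _)))))))))))))))))))))))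

noncomputable def EKb_ch : Ch := (Ch.cons (nat_lit 4) [nat_lit 1, nat_lit 3, nat_lit 5, nat_lit 7, nat_lit 9, nat_lit 11, nat_lit 13] (Ch.cons (nat_lit 12) [nat_lit 15, nat_lit 17, nat_lit 19] (Ch.cons (nat_lit 28) [nat_lit 21, nat_lit 23] (Ch.cons (nat_lit 104) [nat_lit 25, nat_lit 27] (Ch.cons (nat_lit 190) [nat_lit 29, nat_lit 31] (Ch.cons (nat_lit 33) [nat_lit 33, nat_lit 35] (Ch.cons (nat_lit 38) [nat_lit 37, nat_lit 39] (Ch.cons (nat_lit 0) [nat_lit 41, nat_lit 43] Ch.nil))))))))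

theorem EKb_chk : Ch.chk 276 9 (lab 276 9) EKb_E EKb_ch 2903040 = true :=
  by decide +kernel

theorem EKb_ge : 2903040 ≤ Nat.card (grp 276 EK) :=
  (Ch.le_card_grp hn EKb_E_ok EKb_chk).trans (Subgroup.card_le_of_le EKb_le)

theorem EO_le : grp 276 EO ≤ grp 276 h_K :=
  grp_le_of_memB hn hk h_K_ok EO_ok (ws := [nat_lit 2315, nat_lit 0xf090709050508040607, nat_lit 0xd090505050306070209, nat_lit 0xf0d070905050d040503050103, nat_lit 0xf0d07050504050306, nat_lit 0xf0d0b08050508040505, nat_lit 0xf0d0b070d05070d0306070209, nat_lit 0xd0b07090507040d03010103, nat_lit 0xf0b0805080504060408010104, nat_lit 0xf0d070705070703050302, nat_lit 0xd090505080405010f]) (by decide +kernel)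

theorem le116 : grp 276 ht_c1_K ≤ grp 276 h_K :=
  grp_le_of_memB hn hk h_K_ok ht_c1_K_ok (ws := [nat_lit 0xb070907050406020205, nat_lit 0xb080507040d, nat_lit 854790, nat_lit 854280, nat_lit 461064, nat_lit 0xd0b070907, nat_lit 0x90b070908, nat_lit 0xd090707]) (by decide +kernel)

theorem ht_c1_le : grp 276 ht_c1_K ≤ (grp 276 h_K) :=
  (le116.trans TH_s0.le)

theorem ht_c1_mem : Net.toPerm 276 n_t ∈ (grp 276 h_K) :=
  ht_c1_le (mem_grp_of_memB hn hk ht_c1_K_ok n_t_ok (w := (nat_lit 3337)) (by decide +kernel))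

theorem ht_c1_sym : Sym 276 (grp 276 h_K) [n_t] ht_c1_K 0 :=
  Sym.of_lab hn hk (okE_cons.2 ⟨n_t_ok, okE_nil _⟩) ht_c1_K_ok ht_c1_le (kT := 0) (by decide +kernel)

theorem TH_s1 : Stab 276 (grp 276 h_K) [nat_lit 272] V117 80640 :=
  Stab.step (k := 9) (L := (lab 276 9)) hn TH_s0 V117_ok (grp_mono (List.subset_append_right [g35] _)) (c := (Ch.cons (nat_lit 4) [nat_lit 1] (Ch.cons (nat_lit 124) [nat_lit 3] (Ch.cons (nat_lit 163) [nat_lit 5] (Ch.cons (nat_lit 270) [nat_lit 7, nat_lit 9] (Ch.cons (nat_lit 176) [nat_lit 11] (Ch.cons (nat_lit 187) [nat_lit 13] Ch.nil))))))) (by decide +kernel)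

theorem TH_s2 : Stab 276 (grp 276 h_K) [nat_lit 4, nat_lit 272] V118 2304 :=
  Stab.step (k := 9) (L := (lab 276 9)) hn TH_s1 V118_ok (grp_mono (List.subset_append_right [g36] _)) (c := (Ch.cons (nat_lit 124) [nat_lit 1] (Ch.cons (nat_lit 163) [nat_lit 3] (Ch.cons (nat_lit 270) [nat_lit 5, nat_lit 7] (Ch.cons (nat_lit 176) [nat_lit 9] (Ch.cons (nat_lit 187) [nat_lit 11] Ch.nil)))))) (by decide +kernel)

theorem TH_s3 : Stab 276 (grp 276 h_K) [nat_lit 124, nat_lit 4, nat_lit 272] V119 128 :=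
  Stab.step (k := 9) (L := (lab 276 9)) hn TH_s2 V119_ok (grp_mono (List.subset_append_right [g37] _)) (c := (Ch.cons (nat_lit 163) [nat_lit 1] (Ch.cons (nat_lit 270) [nat_lit 3, nat_lit 5] (Ch.cons (nat_lit 176) [nat_lit 7] (Ch.cons (nat_lit 187) [nat_lit 9] Ch.nil))))) (by decide +kernel)

theorem TH_s4 : Stab 276 (grp 276 h_K) [nat_lit 163, nat_lit 124, nat_lit 4, nat_lit 272] V120 16 :=
  Stab.step (k := 9) (L := (lab 276 9)) hn TH_s3 V120_ok (grp_mono (List.subset_append_right [g38] _)) (c := (Ch.cons (nat_lit 270) [nat_lit 1, nat_lit 3] (Ch.cons (nat_lit 176) [nat_lit 5] (Ch.cons (nat_lit 187) [nat_lit 7] Ch.nil)))) (by decide +kernel)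

theorem TH_s5 : Stab 276 (grp 276 h_K) [nat_lit 270, nat_lit 163, nat_lit 124, nat_lit 4, nat_lit 272] V121 4 :=
  Stab.step (k := 9) (L := (lab 276 9)) hn TH_s4 V121_ok (grp_mono (List.subset_append_right [g39, g40] _)) (c := (Ch.cons (nat_lit 176) [nat_lit 1] (Ch.cons (nat_lit 187) [nat_lit 3] Ch.nil))) (by decide +kernel)

theorem TH_s6 : Stab 276 (grp 276 h_K) [nat_lit 176, nat_lit 270, nat_lit 163, nat_lit 124, nat_lit 4, nat_lit 272] V122 2 :=
  Stab.step (k := 9) (L := (lab 276 9)) hn TH_s5 V122_ok (grp_mono (List.subset_append_right [g41] _)) (c := (Ch.cons (nat_lit 187) [nat_lit 1] Ch.nil)) (by decide +kernel)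

theorem TH_s7 : Stab 276 (grp 276 h_K) [nat_lit 187, nat_lit 176, nat_lit 270, nat_lit 163, nat_lit 124, nat_lit 4, nat_lit 272] V123 1 :=
  Stab.step (k := 9) (L := (lab 276 9)) hn TH_s6 V123_ok (grp_mono (List.subset_append_right [g42] _)) (c := Ch.nil) (by decide +kernel)

theorem g36_TH : Net.toPerm 276 g36 ∈ (grp 276 h_K) :=
  TH_s1.le (toPerm_mem_grp (E := V117) (List.Mem.head _))

theorem g37_TH : Net.toPerm 276 g37 ∈ (grp 276 h_K) :=
  TH_s1.le (toPerm_mem_grp (E := V117) (List.Mem.tail _ (List.Mem.head _)))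

theorem g38_TH : Net.toPerm 276 g38 ∈ (grp 276 h_K) :=
  TH_s1.le (toPerm_mem_grp (E := V117) (List.Mem.tail _ (List.Mem.tail _ (List.Mem.head _))))

theorem g39_TH : Net.toPerm 276 g39 ∈ (grp 276 h_K) :=
  TH_s1.le (toPerm_mem_grp (E := V117) (List.Mem.tail _ (List.Mem.tail _ (List.Mem.tail _ (List.Mem.head _)))))

theorem g40_TH : Net.toPerm 276 g40 ∈ (grp 276 h_K) :=
  TH_s1.le (toPerm_mem_grp (E := V117) (List.Mem.tail _ (List.Mem.tail _ (List.Mem.tail _ (List.Mem.tail _ (List.Mem.head _))))))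

theorem g41_TH : Net.toPerm 276 g41 ∈ (grp 276 h_K) :=
  TH_s1.le (toPerm_mem_grp (E := V117) (List.Mem.tail _ (List.Mem.tail _ (List.Mem.tail _ (List.Mem.tail _ (List.Mem.tail _ (List.Mem.head _)))))))

theorem g42_TH : Net.toPerm 276 g42 ∈ (grp 276 h_K) :=
  TH_s1.le (toPerm_mem_grp (E := V117) (List.Mem.tail _ (List.Mem.tail _ (List.Mem.tail _ (List.Mem.tail _ (List.Mem.tail _ (List.Mem.tail _ (List.Mem.head _))))))))

theorem g35_TH : Net.toPerm 276 g35 ∈ (grp 276 h_K) :=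
  TH_s0.le (toPerm_mem_grp (E := h_K) (List.Mem.head _))

noncomputable def TH_s7_O : ℕ := (nat_lit 0x9993333366666ccccc99999b3333666664ccccd9999b3333266666ccccd9999933332c1f07c1f07c1f07c0f83e0f83e0f83e0f81f07c1f07c1f07c1f03e0f83e0f83e0f83e7319cc63398ce7319cc63398ce7319ce63398c67319ce63398c67319ce63398c6731826d926c93649b24db26d936c9b649b24d926d936c9b64db24d926c93649b64db26d92100000000000000000000000000000000000000000000000000000000000000000000000000000000000000000000000000000000000000000000000000000000000000010000000000000000000000000000000000000010000000000000000000000000000000000000000000000000000000000080000000000000000000000000000000000000000040000000000000000000000000000000000000000000000000000000000000000000000000000000000000000000100000000000000000000000000000000000000000000000000000000000000000080000000000000000000000000000000000000000000000)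

theorem TH_s7_F : Frame 276 (grp 276 h_K) 7 11 TH_s7_O 1 1 :=
  IsBase.frame TH_s7.isBase (by decide +kernel)

noncomputable def TH_s5_O : ℕ := (nat_lit 0x1e1100012601024010448901204040c1885000c12c08668140000010200000000001e000656cc89a63427c18970b883911f244025641e51d0805c8b52340a1043388000026b2e00313b2c1c94966704744507674200700019080240020b73abfffb75fbfc0000342fc41a58947feaa6f5867178e1840d81fffb2b75f1211820131fbfcf0ca0401bf800484b7f1629532661de423fa58b2919bb5a5cc408086fedd62039b83b0f3efc01b878181a29dc58f6f63088017be27c603706fd591becc2447b23b89789fe74d2f81e1666606090227ebbee9af0dac8daa6549d22a82d517c38f1447f3130eb97949b2a6559d5548100000000000000000000000000000000000000000000000000000000000000000000000000000000000000000000000000000000000000000000000000000000000000010000000000000000000000000000000000000010000000000000000000000000000000000000000000000000000000000080000000000000000000000000000000000000000040000000000000000000000000000000000000000000000000000000000000000000)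

theorem TH_s5_F : Frame 276 (grp 276 h_K) 5 12 TH_s5_O 0 1 :=
  Stab.frame hn TH_s5 (by decide +kernel)

noncomputable def TH_s4_O : ℕ := (nat_lit 0x1a140049272022221040392182400180c831004029804441400000102000000000006a4e10200808040014024c000301014610240001184082280831334aa15eb98900000467cd8a40e62960c00800f100a81041db12420a90840900800310309a74002000722bc83a1cd0f804cdba277ad45a471433275fca36f47f15d189c277209f1414dc549f2008063b5a4dc1e2359d88b56abc4be3aa6e58474c7512f9e6ec8764ba6aaa5a1f0068a860d1c732ed0ca8a4976149ffde033556dd55383212417458726de4d49ba5736c45d62100000000000000000000000000000000000000000000000000000000000000000000000000000000000000000000000000000000000000000000000000000000000000010000000000000000000000000000000000000010000000000000000000000000000000000000000000000000000000000080000000000000000000000000000000000000000)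

theorem TH_s4_F : Frame 276 (grp 276 h_K) 4 10 TH_s4_O 0 1 :=
  Stab.frame hn TH_s4 (by decide +kernel)

noncomputable def TH_s3_O : ℕ := (nat_lit 0x1000000000000002240000000000000000001000008000002000000000000000000000024000000000000004000000000000000410008000012000000001000000000000000000400000000000000000000800023000000000000000000200000010000000000000000021000000000101000000080000000040000000000000000200000800000100000000000000100040020000800000000402000202000100140010000000000000012002000090000000000000000080000000080000000800004200000000000022808201000000a0081000080000880006600004000000000000040980000000000000000000000004000200002220088001020000ca00360084010010000084100100a4040001200001811004004000002100004400024200001482000000004002080201248001810400034020000408980000041022211000000000000840004000001942804000034502008840080000000445400c0001800010300880010021812200000000008a000800040000400008b1082002801100000000000000000000000000000000000000000000000000000000000000000000000000000000000000000000000000000000000000000000000000000000000000010000000000000000000000000000000000000010000000000000000000000000000000)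

theorem TH_s3_F : Frame 276 (grp 276 h_K) 3 15 TH_s3_O 0 1 :=
  Stab.frame hn TH_s3 (by decide +kernel)

noncomputable def TH_s2_O : ℕ := (nat_lit 0x101000000880023000040000000000000200200010800000100000000021000100002244000000000000000411008008012002001001000000000000001024400000000040cb0232b9000ca007e208c6128501043dd538140a4076783a29b41a910ad08544548100000000000000000000000000000000000000000000000000000000000000000000000000000000000000000000000000000000000000000000000000000000000000010)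

theorem TH_s2_F : Frame 276 (grp 276 h_K) 2 5 TH_s2_O 0 1 :=
  Stab.frame hn TH_s2 (by decide +kernel)

noncomputable def TH_s0_O : ℕ := (nat_lit 0x123450000008800230004510080080120022012010108000001000010244210001010)

theorem TH_s0_F : Frame 276 (grp 276 h_K) 0 1 TH_s0_O 0 1 :=
  Stab.frame hn TH_s0 (by decide +kernel)

noncomputable def ht_c1_cnt_L : List ℕ := [0, 1, TH_s0_O, 0, 0, 2, 5, TH_s2_O, 0, 0, 3, 15, TH_s3_O, 0, 0, 4, 10, TH_s4_O, 0, 0, 5, 12, TH_s5_O, 0, 0, 7, 11, TH_s7_O, 1, 0]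

theorem ht_c1_cnt_P : Prob 276 9 (grp 276 h_K) ht_c1_cnt_EG [n_t] [n_t] ht_c1_K ht_c1_cnt_L 0 0 :=
  Sym.prob hn hk ht_c1_sym ht_c1_cnt_EG_ok (grp_cons_le g36_TH (grp_cons_le g37_TH (grp_cons_le g38_TH (grp_cons_le g39_TH (grp_cons_le g40_TH (grp_cons_le g41_TH (grp_cons_le g42_TH (grp_cons_le g35_TH (grp_nil_le _))))))))) (Frames.cons TH_s0_F (Frames.cons TH_s2_F (Frames.cons TH_s3_F (Frames.cons TH_s4_F (Frames.cons TH_s5_F (Frames.cons TH_s7_F Frames.nil)))))) (okE_cons.2 ⟨n_t_ok, okE_nil _⟩) _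

noncomputable def ht_c1_cnt_t : BT := (BT.frm (nat_lit 0) (nat_lit 0) (nat_lit 0) [] (BT.pln (nat_lit 0) (nat_lit 0) (BT.br (nat_lit 0) (nat_lit 272) [nat_lit 1, nat_lit 3] (BT.kid (nat_lit 272) (nat_lit 80640) (BT.dif (nat_lit 1) (nat_lit 0) (BT.br (nat_lit 0) (nat_lit 4) [nat_lit 3, nat_lit 5] (BT.kid (nat_lit 4) (nat_lit 2304) (BT.frm (nat_lit 1) (nat_lit 0) (nat_lit 0) [nat_lit 0, nat_lit 2] (BT.pln (nat_lit 0) (nat_lit 3) (BT.and (nat_lit 5) (nat_lit 0) (BT.br (nat_lit 0) (nat_lit 52) [nat_lit 5, nat_lit 7, nat_lit 9] (BT.kid (nat_lit 52) (nat_lit 128) (BT.frm (nat_lit 2) (nat_lit 198147) (nat_lit 198147) [nat_lit 0, nat_lit 4, nat_lit 6] (BT.pln (nat_lit 0) (nat_lit 13) (BT.and (nat_lit 4) (nat_lit 0) (BT.br (nat_lit 0) (nat_lit 262) [nat_lit 7, nat_lit 9, nat_lit 11] (BT.kid (nat_lit 262) (nat_lit 16) (BT.pln (nat_lit 3) (nat_lit 3) (BT.frm (nat_lit 3) (nat_lit 0x505030603) (nat_lit 0x505030603) [nat_lit 1, nat_lit 5, nat_lit 9, nat_lit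 11] (BT.pln (nat_lit 0) (nat_lit 5) (BT.dif (nat_lit 2) (nat_lit 0) (BT.pln (nat_lit 2) (nat_lit 6) (BT.dif (nat_lit 1) (nat_lit 0) (BT.br (nat_lit 0) (nat_lit 91) [nat_lit 9, nat_lit 11] (BT.kid (nat_lit 91) (nat_lit 4) (BT.dif (nat_lit 22) (nat_lit 4) (BT.pln (nat_lit 6) (nat_lit 9) (BT.and (nat_lit 1) (nat_lit 0) (BT.pln (nat_lit 8) (nat_lit 4) (BT.and (nat_lit 1) (nat_lit 0) (BT.dif (nat_lit 0) (nat_lit 23) (BT.dif (nat_lit 0) (nat_lit 8) (BT.frm (nat_lit 4) (nat_lit 0x7090505030603) (nat_lit 0x7090505030603) [nat_lit 7, nat_lit 14, nat_lit 18, nat_lit 22, nat_lit 24] (BT.pln (nat_lit 0) (nat_lit 6) (BT.dif (nat_lit 2) (nat_lit 0) (BT.br (nat_lit 0) (nat_lit 241) [nat_lit 13] (BT.kid (nat_lit 241) (nat_lit 2) (BT.and (nat_lit 9) (nat_lit 7) (BT.and (nat_lit 0) (nat_lit 16) (BT.dif (nat_lit 0) (nat_lit 15) (BT.dif (nat_lit 0) (nat_lit 32) (BT.pln (nat_lit 7) (nat_lit 5) (BT.and (nat_lit 1) (nat_lit 0) (BT.br (nat_lit 0) (nat_lit 71) [nat_lit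 15] (BT.kid (nat_lit 71) (nat_lit 1) (BT.one (nat_lit 5) (nat_lit 0xd07090505030603) (nat_lit 0xd07090505030603) [nat_lit 0, nat_lit 7, nat_lit 18, nat_lit 25, nat_lit 29, nat_lit 33, nat_lit 35]) BT.nil)))))))) BT.nil)))))))))))) BT.nil)))))))) BT.nil))))) BT.nil))))) BT.nil))) BT.nil))))

theorem ht_c1_cnt : Cnt 276 (grp 276 h_K) [n_t] [n_t] 0 0 0 0 2903040 :=
  BT.sound ht_c1_cnt_P Known.nil (t := ht_c1_cnt_t) (d := 0) (by decide +kernel)

theorem ht_c1_ge : 2903040 ≤ Nat.card (grp 276 ht_c1_K) :=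
  Ch.le_card_grp (k := 9) (L := (lab 276 9)) hn ht_c1_K_ok (c := (Ch.cons (nat_lit 272) [nat_lit 1] (Ch.cons (nat_lit 4) [nat_lit 3] (Ch.cons (nat_lit 52) [nat_lit 5] (Ch.cons (nat_lit 262) [nat_lit 7] (Ch.cons (nat_lit 91) [nat_lit 9, nat_lit 11] (Ch.cons (nat_lit 241) [nat_lit 13] (Ch.cons (nat_lit 71) [nat_lit 15] Ch.nil)))))))) (by decide +kernel)

theorem ht_c1_eq : (grp 276 h_K) ⊓ Subgroup.centralizer {Net.toPerm 276 n_t} = grp 276 ht_c1_K :=
  cent_eq ht_c1_sym ht_c1_cnt ht_c1_ge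

theorem ht_c1_card : Nat.card ↥((grp 276 h_K) ⊓ Subgroup.centralizer {Net.toPerm 276 n_t}) = 2903040 :=
  card_cent ht_c1_sym ht_c1_cnt ht_c1_ge

theorem ht_c1_ord : orderOf (Net.toPerm 276 n_t) = 2 :=
  orderOf_net hn hk n_t_ok (by decide) (ps := [2]) (by set_option linter.unusedSimpArgs false in simp [Nat.primeFactorsList_ofNat]) (by decide +kernel)

theorem le128 : grp 276 ht_c2_K ≤ grp 276 h_K :=
  grp_le_of_memB hn hk h_K_ok ht_c2_K_ok (ws := [nat_lit 0xf0d090b0709070305030d010406, nat_lit 0xf09070905050803010108, nat_lit 0xf0d0b0709050507040608010406, nat_lit 0x90b070705070405030209, nat_lit 0xf0d070908050405030f010306, nat_lit 2315]) (by decide +kernel)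

theorem ht_c2_le : grp 276 ht_c2_K ≤ (grp 276 h_K) :=
  (le128.trans TH_s0.le)

theorem ht_c2_mem : Net.toPerm 276 n_u ∈ (grp 276 h_K) :=
  ht_c2_le (mem_grp_of_memB hn hk ht_c2_K_ok n_u_ok (w := (nat_lit 0xb010101)) (by decide +kernel))

theorem ht_c2_sym : Sym 276 (grp 276 h_K) [n_u] ht_c2_K 0 :=
  Sym.of_lab hn hk (okE_cons.2 ⟨n_u_ok, okE_nil _⟩) ht_c2_K_ok ht_c2_le (kT := 0) (by decide +kernel)

theorem le133 : grp 276 V132 ≤ grp 276 V119 :=
  grp_le_of_memB hn hk V119_ok V132_ok (ws := [nat_lit 0x90703050107, nat_lit 196871, nat_lit 460033, nat_lit 773]) (by decide +kernel)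

theorem TH_s8 : Stab 276 (grp 276 h_K) [nat_lit 152, nat_lit 124, nat_lit 4, nat_lit 272] V132 16 :=
  Stab.step (k := 9) (L := (lab 276 9)) hn TH_s3 V132_ok le133 (c := (Ch.cons (nat_lit 38) [nat_lit 1] (Ch.cons (nat_lit 104) [nat_lit 3] (Ch.cons (nat_lit 256) [nat_lit 5] (Ch.cons (nat_lit 235) [nat_lit 7] Ch.nil))))) (by decide +kernel)

theorem TH_s9 : Stab 276 (grp 276 h_K) [nat_lit 38, nat_lit 152, nat_lit 124, nat_lit 4, nat_lit 272] V134 8 :=
  Stab.step (k := 9) (L := (lab 276 9)) hn TH_s8 V134_ok (grp_mono (List.subset_append_right [g129] _)) (c := (Ch.cons (nat_lit 104) [nat_lit 1] (Ch.cons (nat_lit 256) [nat_lit 3] (Ch.cons (nat_lit 235) [nat_lit 5] Ch.nil)))) (by decide +kernel)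

theorem TH_s10 : Stab 276 (grp 276 h_K) [nat_lit 104, nat_lit 38, nat_lit 152, nat_lit 124, nat_lit 4, nat_lit 272] V135 4 :=
  Stab.step (k := 9) (L := (lab 276 9)) hn TH_s9 V135_ok (grp_mono (List.subset_append_right [g130] _)) (c := (Ch.cons (nat_lit 256) [nat_lit 1] (Ch.cons (nat_lit 235) [nat_lit 3] Ch.nil))) (by decide +kernel)

theorem TH_s11 : Stab 276 (grp 276 h_K) [nat_lit 256, nat_lit 104, nat_lit 38, nat_lit 152, nat_lit 124, nat_lit 4, nat_lit 272] V136 2 :=
  Stab.step (k := 9) (L := (lab 276 9)) hn TH_s10 V136_ok (grp_mono (List.subset_append_right [g131] _)) (c := (Ch.cons (nat_lit 235) [nat_lit 1] Ch.nil)) (by decide +kernel)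

theorem TH_s12 : Stab 276 (grp 276 h_K) [nat_lit 235, nat_lit 256, nat_lit 104, nat_lit 38, nat_lit 152, nat_lit 124, nat_lit 4, nat_lit 272] V137 1 :=
  Stab.step (k := 9) (L := (lab 276 9)) hn TH_s11 V137_ok (grp_mono (List.subset_append_right [n_t] _)) (c := Ch.nil) (by decide +kernel)

theorem g129_TH : Net.toPerm 276 g129 ∈ (grp 276 h_K) :=
  TH_s8.le (toPerm_mem_grp (E := V132) (List.Mem.head _))

theorem g130_TH : Net.toPerm 276 g130 ∈ (grp 276 h_K) :=
  TH_s8.le (toPerm_mem_grp (E := V132) (List.Mem.tail _ (List.Mem.head _)))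

theorem g131_TH : Net.toPerm 276 g131 ∈ (grp 276 h_K) :=
  TH_s8.le (toPerm_mem_grp (E := V132) (List.Mem.tail _ (List.Mem.tail _ (List.Mem.head _))))

theorem n_t_TH : Net.toPerm 276 n_t ∈ (grp 276 h_K) :=
  TH_s8.le (toPerm_mem_grp (E := V132) (List.Mem.tail _ (List.Mem.tail _ (List.Mem.tail _ (List.Mem.head _)))))

noncomputable def TH_s12_O : ℕ := (nat_lit 0x9993333366666ccccc99999b3333666664ccccd9999b3333266666ccccd9999933332c1f07c1f07c1f07c0f83e0f83e0f83e0f81f07c1f07c1f07c1f03e0f83e0f83e0f83e7319cc63398ce7319cc63398ce7319ce63398c67319ce63398c67319ce63398c6731826d926c93649b24db26d936c9b649b24d926d936c9b64db24d926c93649b64db26d92100000000000000000000000000000000000000000000000000000000000000000000000000000000000000000000000000000000000000000000000000000000000000010000000000000000000000000000000000000010000000000000000000000000000000000000000000000000000000000000100000000000000000000000000000000000000000000000000000000000000000000000000000000000000000000000004000000000000000000000000000000000000000000000000000100000000000000000000000000000010000000000000000000000000000000000000000000000000000000000000000000000000080000000000000000000000000000000000000000000000000000000000)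

theorem TH_s12_F : Frame 276 (grp 276 h_K) 8 12 TH_s12_O 1 1 :=
  IsBase.frame TH_s12.isBase (by decide +kernel)

noncomputable def TH_s11_O : ℕ := (nat_lit 0x23440000008800230004510080080020022002010000000000000000000000000000cdc1a6f4de7347f98f61b2eb23e75ba82f913a5eefeecd5e001000010240210001000c84aa4af66e70349c77d3a6cf3ca396d780404010001a021fff7cffff74021000100026f4e6f3d4e66e0d007e80079414420455d9361eec018221fdf7f0010afbfbfd81000c9880b149099a8b67a17f76633492040459136d103cef0a1ff183df90ad9ff027fa0087c3862dd56ca072a61312fd4c1ff906c695440f83e1afc1e0fc1d87caa984f2785e0e47204a5fb1feb38d098529a7e0e126815e2fccc632cbe3998db3e6630c870ce6618cad64a323851b2f639a9c945171aa8e6567342a2b4aaa9b9556aa8b55acf349a954d4a100000000000000000000000000000000000000000000000000000000000000000000000000000000000000000000000000000000000000000000000000000000000000010000000000000000000000000000000000000010000000000000000000000000000000000000000000000000000000000000100000000000000000000000000000000000000000000000000000000000000000000000000000000000000000000000004000000000000000000000000000000000000000000000000000100000000000000000000000000000010000000000000000000000000000000000000000000000000000000000000000)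

theorem TH_s11_F : Frame 276 (grp 276 h_K) 7 15 TH_s11_O 0 1 :=
  Stab.frame hn TH_s11 (by decide +kernel)

noncomputable def TH_s9_O : ℕ := (nat_lit 0x1050000008800230004500080000020002002010108000001000010000210001000e2ae0299a0972ff84f72b8d6764dcb205c711654cb4e4401f3c1283e53e0d06c000008f7c137e00854170486573bde1f4da60623808dfe7a61db46d40d36d624a0413be80043a70240b169cc943506089e2294f181bdbf7065ada5ece22e1d3792b74ad213f05e0036624e7699c254b398a631204c8aae47b2efc004c9b133acbef9ad2b2eaa5e1cc18c22ad88153f8b0fb221f1ee2924f8566c2b8526f2cb24eb6d8ba81c59930a64db6b74a100000000000000000000000000000000000000000000000000000000000000000000000000000000000000000000000000000000000000000000000000000000000000010000000000000000000000000000000000000010000000000000000000000000000000000000000000000000000000000000100000000000000000000000000000000000000000000000000000000000000000000000000000000000000000000000004000000000)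

theorem TH_s9_F : Frame 276 (grp 276 h_K) 5 11 TH_s9_O 0 1 :=
  Stab.frame hn TH_s9 (by decide +kernel)

noncomputable def TH_s8_O : ℕ := (nat_lit 0x423e5090a018a42a356245120a0081021c2210301a1880000211201b12e4b12001000037450620981c1100085613128e0c226212c28c3f58412bc0d389301a24e0081d6108a1c8007e000e4ae27a74df48509138c0624b4a3126f3d9b35c4493ed610e651fbd0808193764971088c83730b19ef5cbd100239dfb4861cf06c64ba9b1e36f10ae157e254462a5ca04be6a4e8627958ee51aa5054faed102a73840e7ed3e203551170a768d1b66a100000000000000000000000000000000000000000000000000000000000000000000000000000000000000000000000000000000000000000000000000000000000000010000000000000000000000000000000000000010000000000000000000000000000000000000000000000000000000000000100000000000000000000000000000000000000)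

theorem TH_s8_F : Frame 276 (grp 276 h_K) 4 9 TH_s8_O 0 1 :=
  Stab.frame hn TH_s8 (by decide +kernel)

noncomputable def ht_c2_cnt_L : List ℕ := [0, 1, TH_s0_O, 0, 0, 2, 5, TH_s2_O, 0, 0, 3, 15, TH_s3_O, 0, 0, 4, 9, TH_s8_O, 0, 0, 5, 11, TH_s9_O, 0, 0, 7, 15, TH_s11_O, 0, 0, 8, 12, TH_s12_O, 1, 0]

theorem ht_c2_cnt_P : Prob 276 9 (grp 276 h_K) ht_c2_cnt_EG [n_u] [n_u] ht_c2_K ht_c2_cnt_L 0 0 :=
  Sym.prob hn hk ht_c2_sym ht_c2_cnt_EG_ok (grp_cons_le g36_TH (grp_cons_le g37_TH (grp_cons_le g38_TH (grp_cons_le g39_TH (grp_cons_le g40_TH (grp_cons_le g41_TH (grp_cons_le g42_TH (grp_cons_le g35_TH (grp_cons_le g129_TH (grp_cons_le g130_TH (grp_cons_le g131_TH (grp_cons_le n_t_TH (grp_nil_le _))))))))))))) (Frames.cons TH_s0_F (Frames.cons TH_s2_F (Frames.cons TH_s3_F (Frames.cons TH_s8_F (Frames.cons TH_s9_F (Frames.cons TH_s11_F (Frames.cons TH_s12_F Frames.nil))))))) (okE_cons.2 ⟨n_u_ok, okE_nil _⟩) _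

noncomputable def ht_c2_cnt_t : BT := (BT.frm (nat_lit 0) (nat_lit 0) (nat_lit 0) [] (BT.pln (nat_lit 0) (nat_lit 0) (BT.fix (nat_lit 1) (BT.dif (nat_lit 1) (nat_lit 0) (BT.br (nat_lit 0) (nat_lit 33) [nat_lit 1, nat_lit 3] (BT.kid (nat_lit 33) (nat_lit 192) (BT.img (nat_lit 1) (nat_lit 0) (BT.frm (nat_lit 1) (nat_lit 0x103060f0110) (nat_lit 0x103060f0110) [nat_lit 0, nat_lit 1] (BT.pln (nat_lit 0) (nat_lit 3) (BT.and (nat_lit 4) (nat_lit 0) (BT.br (nat_lit 0) (nat_lit 175) [nat_lit 3, nat_lit 5] (BT.kid (nat_lit 175) (nat_lit 32) (BT.dif (nat_lit 2) (nat_lit 7) (BT.dif (nat_lit 0) (nat_lit 1) (BT.img (nat_lit 1) (nat_lit 2) (BT.dif (nat_lit 1) (nat_lit 0) (BT.br (nat_lit 0) (nat_lit 137) [nat_lit 5] (BT.kid (nat_lit 137) (nat_lit 8) (BT.dif (nat_lit 4) (nat_lit 0) (BT.dif (nat_lit 0) (nat_lit 6) (BT.dif (nat_lit 0) (nat_lit 4) (BT.img (nat_lit 1) (nat_lit 3) (BT.dif (nat_lit 1) (nat_lit 0) (BT.br (nat_lit 0) (nat_lit 152) [] (BT.dead (nat_lit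 4) (BT.frm (nat_lit 4) (nat_lit 0x11050303060103060f0110) (nat_lit 0x50303060103060f0110) [nat_lit 0, nat_lit 6, nat_lit 11, nat_lit 15, nat_lit 16] (BT.pln (nat_lit 0) (nat_lit 5) (BT.and (nat_lit 0) (nat_lit 20) (BT.cnt (nat_lit 0))))) (BT.kid (nat_lit 152) (nat_lit 8) (BT.dif (nat_lit 19) (nat_lit 13) (BT.frm (nat_lit 2) (nat_lit 0x303060103060f0110) (nat_lit 0x303060103060f0110) [nat_lit 12, nat_lit 16, nat_lit 17] (BT.pln (nat_lit 0) (nat_lit 11) (BT.and (nat_lit 2) (nat_lit 0) (BT.frm (nat_lit 3) (nat_lit 0x50303060103060f0110) (nat_lit 0x50303060103060f0110) [nat_lit 10, nat_lit 15, nat_lit 19, nat_lit 20] (BT.pln (nat_lit 0) (nat_lit 4) (BT.dif (nat_lit 2) (nat_lit 0) (BT.frm (nat_lit 4) (nat_lit 0x11050303060103060f0110) (nat_lit 0x11050303060103060f0110) [nat_lit 7, nat_lit 13, nat_lit 18, nat_lit 22, nat_lit 23] (BT.pln (nat_lit 0) (nat_lit 7) (BT.dif (nat_lit 2) (nat_lit 0) (BT.br (nat_lit 0) (nat_lit 265) [nat_lit 7] (BT.kid (nat_lit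 265) (nat_lit 4) (BT.dif (nat_lit 10) (nat_lit 8) (BT.dif (nat_lit 0) (nat_lit 6) (BT.pln (nat_lit 27) (nat_lit 4) (BT.and (nat_lit 1) (nat_lit 0) (BT.dif (nat_lit 0) (nat_lit 6) (BT.br (nat_lit 0) (nat_lit 194) [nat_lit 9] (BT.kid (nat_lit 194) (nat_lit 2) (BT.dif (nat_lit 40) (nat_lit 11) (BT.pln (nat_lit 13) (nat_lit 7) (BT.and (nat_lit 1) (nat_lit 0) (BT.dif (nat_lit 0) (nat_lit 11) (BT.pln (nat_lit 13) (nat_lit 9) (BT.and (nat_lit 1) (nat_lit 0) (BT.frm (nat_lit 5) (nat_lit 0x151311050303060103060f0110) (nat_lit 0x151311050303060103060f0110) [nat_lit 6, nat_lit 12, nat_lit 23, nat_lit 29, nat_lit 34, nat_lit 38, nat_lit 39] (BT.pln (nat_lit 0) (nat_lit 13) (BT.dif (nat_lit 2) (nat_lit 0) (BT.br (nat_lit 0) (nat_lit 237) [nat_lit 11] (BT.kid (nat_lit 237) (nat_lit 1) (BT.one (nat_lit 6) (nat_lit 0x17151311050303060103060f0110) (nat_lit 0x17151311050303060103060f0110) [nat_lit 0, nat_lit 10, nat_lit 16, nat_lit 27, nat_lit 33, nat_lit 38, nat_lit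 42, nat_lit 43]) BT.nil))))))))))) BT.nil))))))) BT.nil)))))))))))) BT.nil)))))))) BT.nil)))))) BT.nil)))))) BT.nil))))))

theorem ht_c2_cnt : Cnt 276 (grp 276 h_K) [n_u] [n_u] 0 0 0 0 4608 :=
  BT.sound ht_c2_cnt_P Known.nil (t := ht_c2_cnt_t) (d := 0) (by decide +kernel)

theorem ht_c2_ge : 4608 ≤ Nat.card (grp 276 ht_c2_K) :=
  Ch.le_card_grp (k := 9) (L := (lab 276 9)) hn ht_c2_K_ok (c := (Ch.cons (nat_lit 33) [nat_lit 1] (Ch.cons (nat_lit 175) [nat_lit 3] (Ch.cons (nat_lit 137) [nat_lit 5] (Ch.cons (nat_lit 265) [nat_lit 7] (Ch.cons (nat_lit 194) [nat_lit 9] (Ch.cons (nat_lit 237) [nat_lit 11] Ch.nil))))))) (by decide +kernel)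

theorem ht_c2_eq : (grp 276 h_K) ⊓ Subgroup.centralizer {Net.toPerm 276 n_u} = grp 276 ht_c2_K :=
  cent_eq ht_c2_sym ht_c2_cnt ht_c2_ge

theorem ht_c2_card : Nat.card ↥((grp 276 h_K) ⊓ Subgroup.centralizer {Net.toPerm 276 n_u}) = 4608 :=
  card_cent ht_c2_sym ht_c2_cnt ht_c2_ge

theorem ht_c2_ord : orderOf (Net.toPerm 276 n_u) = 2 :=
  orderOf_net hn hk n_u_ok (by decide) (ps := [2]) (by set_option linter.unusedSimpArgs false in simp [Nat.primeFactorsList_ofNat]) (by decide +kernel)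

theorem le143 : grp 276 ht_c3_K ≤ grp 276 h_K :=
  grp_le_of_memB hn hk h_K_ok ht_c3_K_ok (ws := [nat_lit 0xf0d0705080406040702, nat_lit 0xd0908050707040607, nat_lit 11, nat_lit 0xf0d0b07090805070305030d, nat_lit 0xf090b0709070606040607, nat_lit 0xf08050703050307, nat_lit 2315]) (by decide +kernel)

theorem ht_c3_le : grp 276 ht_c3_K ≤ (grp 276 h_K) :=
  (le143.trans TH_s0.le)

theorem ht_c3_mem : Net.toPerm 276 n_v ∈ (grp 276 h_K) :=
  ht_c3_le (mem_grp_of_memB hn hk ht_c3_K_ok n_v_ok (w := (nat_lit 2315)) (by decide +kernel))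

theorem ht_c3_sym : Sym 276 (grp 276 h_K) [n_v] ht_c3_K 0 :=
  Sym.of_lab hn hk (okE_cons.2 ⟨n_v_ok, okE_nil _⟩) ht_c3_K_ok ht_c3_le (kT := 0) (by decide +kernel)

theorem le146 : grp 276 V145 ≤ grp 276 V120 :=
  grp_le_of_memB hn hk V120_ok V145_ok (ws := [nat_lit 1793, nat_lit 259]) (by decide +kernel)

theorem TH_s13 : Stab 276 (grp 276 h_K) [nat_lit 269, nat_lit 163, nat_lit 124, nat_lit 4, nat_lit 272] V145 4 :=
  Stab.step (k := 9) (L := (lab 276 9)) hn TH_s4 V145_ok le146 (c := (Ch.cons (nat_lit 167) [nat_lit 1, nat_lit 3] Ch.nil)) (by decide +kernel)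

theorem TH_s14 : Stab 276 (grp 276 h_K) [nat_lit 167, nat_lit 269, nat_lit 163, nat_lit 124, nat_lit 4, nat_lit 272] V147 1 :=
  Stab.step (k := 9) (L := (lab 276 9)) hn TH_s13 V147_ok (grp_mono (List.subset_append_right [g144, n_t] _)) (c := Ch.nil) (by decide +kernel)

theorem g144_TH : Net.toPerm 276 g144 ∈ (grp 276 h_K) :=
  TH_s13.le (toPerm_mem_grp (E := V145) (List.Mem.head _))

noncomputable def TH_s14_O : ℕ := (nat_lit 0x9993333366666ccccc99999b3333666664ccccd9999b3333266666ccccd9999933332c1f07c1f07c1f07c0f83e0f83e0f83e0f81f07c1f07c1f07c1f03e0f83e0f83e0f83e7319cc63398ce7319cc63398ce7319ce63398c67319ce63398c67319ce63398c6731826d926c93649b24db26d936c9b649b24d926d936c9b64db24d926c93649b64db26d92100000000000000000000000000000000000000000000000000000000000000000000000000000000000000000000000000000000000000000000000000000000000000010000000000000000000000000000000000000010000000000000000000000000000000000000000000000000000000000080000000000000000000000000000000000000000020000000000000000000000000000000000000000000000000000000000000000000000000000000000000000000000800000000000000000000000000000000000000000)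

theorem TH_s14_F : Frame 276 (grp 276 h_K) 6 10 TH_s14_O 1 1 :=
  IsBase.frame TH_s14.isBase (by decide +kernel)

noncomputable def TH_s13_O : ℕ := (nat_lit 0x4024d0008e688002340005120a80011e24221020101080280830000102400000000008193080410970374898ef280b0664e21da810244c38e074455437002040eb3810122a087ebe3064682c0552e34c79450934019034001308612a0002053fbfb7fefbe10122a606e6677d20347f56d12c3106a9c6b793ede0654ef276981828dbcfe840c961ef8000619363843113e38b44650ba23a3d637311f93ca5f0f97e5494051fe33fcb219d87900682bca973ef68e38036262c60bfc00c8f9b074f50b2c3e6eebc98f5b3014e99a666e08085cd5ece8b0ae01f887aca7c59798f1d61f41196635cca932fab946f07715554a8c100000000000000000000000000000000000000000000000000000000000000000000000000000000000000000000000000000000000000000000000000000000000000010000000000000000000000000000000000000010000000000000000000000000000000000000000000000000000000000080000000000000000000000000000000000000000020000000000000000000000000000000000000000000000000000000000000000000)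

theorem TH_s13_F : Frame 276 (grp 276 h_K) 5 12 TH_s13_O 0 1 :=
  Stab.frame hn TH_s13 (by decide +kernel)

noncomputable def ht_c3_cnt_L : List ℕ := [0, 1, TH_s0_O, 0, 0, 2, 5, TH_s2_O, 0, 0, 3, 15, TH_s3_O, 0, 0, 5, 12, TH_s13_O, 0, 0, 6, 10, TH_s14_O, 1, 0]

theorem ht_c3_cnt_P : Prob 276 9 (grp 276 h_K) ht_c3_cnt_EG [n_v] [n_v] ht_c3_K ht_c3_cnt_L 0 0 :=
  Sym.prob hn hk ht_c3_sym ht_c3_cnt_EG_ok (grp_cons_le g36_TH (grp_cons_le g37_TH (grp_cons_le g38_TH (grp_cons_le g39_TH (grp_cons_le g40_TH (grp_cons_le g41_TH (grp_cons_le g42_TH (grp_cons_le g35_TH (grp_cons_le g144_TH (grp_cons_le n_t_TH (grp_nil_le _))))))))))) (Frames.cons TH_s0_F (Frames.cons TH_s2_F (Frames.cons TH_s3_F (Frames.cons TH_s13_F (Frames.cons TH_s14_F Frames.nil))))) (okE_cons.2 ⟨n_v_ok, okE_nil _⟩) _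

noncomputable def ht_c3_cnt_t : BT := (BT.frm (nat_lit 0) (nat_lit 0) (nat_lit 0) [] (BT.pln (nat_lit 0) (nat_lit 0) (BT.fix (nat_lit 1) (BT.and (nat_lit 1) (nat_lit 0) (BT.br (nat_lit 0) (nat_lit 272) [nat_lit 1, nat_lit 3] (BT.kid (nat_lit 272) (nat_lit 96) (BT.and (nat_lit 2) (nat_lit 3) (BT.dif (nat_lit 0) (nat_lit 1) (BT.br (nat_lit 0) (nat_lit 163) [nat_lit 3] (BT.kid (nat_lit 163) (nat_lit 32) (BT.frm (nat_lit 1) (nat_lit 259) (nat_lit 259) [nat_lit 0, nat_lit 3] (BT.pln (nat_lit 0) (nat_lit 3) (BT.and (nat_lit 4) (nat_lit 0) (BT.br (nat_lit 0) (nat_lit 258) [nat_lit 5] (BT.kid (nat_lit 258) (nat_lit 16) (BT.frm (nat_lit 2) (nat_lit 0x3030103) (nat_lit 0x3030103) [nat_lit 0, nat_lit 4, nat_lit 7] (BT.pln (nat_lit 0) (nat_lit 13) (BT.and (nat_lit 4) (nat_lit 0) (BT.br (nat_lit 0) (nat_lit 175) [nat_lit 7, nat_lit 9, nat_lit 11] (BT.kid (nat_lit 175) (nat_lit 2) (BT.dif (nat_lit 18) (nat_lit 14) (BT.pln (nat_lit 8) (nat_lit 2) (BT.dif (nat_lit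 1) (nat_lit 0) (BT.img (nat_lit 1) (nat_lit 3) (BT.frm (nat_lit 3) (nat_lit 0x5070503030103) (nat_lit 0x5070503030103) [nat_lit 0, nat_lit 4, nat_lit 8, nat_lit 12, nat_lit 15] (BT.pln (nat_lit 0) (nat_lit 9) (BT.and (nat_lit 3) (nat_lit 0) (BT.pln (nat_lit 2) (nat_lit 6) (BT.and (nat_lit 1) (nat_lit 0) (BT.pln (nat_lit 4) (nat_lit 8) (BT.and (nat_lit 1) (nat_lit 0) (BT.dif (nat_lit 0) (nat_lit 24) (BT.br (nat_lit 0) (nat_lit 50) [nat_lit 13] (BT.kid (nat_lit 50) (nat_lit 1) (BT.one (nat_lit 4) (nat_lit 0x1305070503030103) (nat_lit 0x1305070503030103) [nat_lit 0, nat_lit 9, nat_lit 13, nat_lit 17, nat_lit 21, nat_lit 24]) BT.nil)))))))))))))) BT.nil))))) BT.nil))))) BT.nil)))) BT.nil))))))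

theorem ht_c3_cnt : Cnt 276 (grp 276 h_K) [n_v] [n_v] 0 0 0 0 384 :=
  BT.sound ht_c3_cnt_P Known.nil (t := ht_c3_cnt_t) (d := 0) (by decide +kernel)

theorem ht_c3_ge : 384 ≤ Nat.card (grp 276 ht_c3_K) :=
  Ch.le_card_grp (k := 9) (L := (lab 276 9)) hn ht_c3_K_ok (c := (Ch.cons (nat_lit 272) [nat_lit 1] (Ch.cons (nat_lit 163) [nat_lit 3] (Ch.cons (nat_lit 258) [nat_lit 5] (Ch.cons (nat_lit 175) [nat_lit 7, nat_lit 9, nat_lit 11] (Ch.cons (nat_lit 50) [nat_lit 13] Ch.nil)))))) (by decide +kernel)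

theorem ht_c3_eq : (grp 276 h_K) ⊓ Subgroup.centralizer {Net.toPerm 276 n_v} = grp 276 ht_c3_K :=
  cent_eq ht_c3_sym ht_c3_cnt ht_c3_ge

theorem ht_c3_card : Nat.card ↥((grp 276 h_K) ⊓ Subgroup.centralizer {Net.toPerm 276 n_v}) = 384 :=
  card_cent ht_c3_sym ht_c3_cnt ht_c3_ge

theorem ht_c3_ord : orderOf (Net.toPerm 276 n_v) = 2 :=
  orderOf_net hn hk n_v_ok (by decide) (ps := [2]) (by set_option linter.unusedSimpArgs false in simp [Nat.primeFactorsList_ofNat]) (by decide +kernel)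

theorem le154 : grp 276 ht_c4_K ≤ grp 276 h_K :=
  grp_le_of_memB hn hk h_K_ok ht_c4_K_ok (ws := [nat_lit 0xf09070505090305040501010d, nat_lit 0x90b070908050704060407010103, nat_lit 0xf0b0607040d03010306, nat_lit 0xf0d070706030601090f, nat_lit 0xf0d0b070907040503, nat_lit 2315]) (by decide +kernel)

theorem ht_c4_le : grp 276 ht_c4_K ≤ (grp 276 h_K) :=
  (le154.trans TH_s0.le)

theorem ht_c4_mem : Net.toPerm 276 g148 ∈ (grp 276 h_K) :=
  ht_c4_le (mem_grp_of_memB hn hk ht_c4_K_ok g148_ok (w := (nat_lit 0xb08060806)) (by decide +kernel))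

theorem ht_c4_sym : Sym 276 (grp 276 h_K) [g148] ht_c4_K 0 :=
  Sym.of_lab hn hk (okE_cons.2 ⟨g148_ok, okE_nil _⟩) ht_c4_K_ok ht_c4_le (kT := 0) (by decide +kernel)

theorem le159 : grp 276 V158 ≤ grp 276 V118 :=
  grp_le_of_memB hn hk V118_ok V158_ok (ws := [nat_lit 0x9050703030104, nat_lit 0xb07030204, nat_lit 0x905010105, nat_lit 328457, nat_lit 1287]) (by decide +kernel)

theorem TH_s15 : Stab 276 (grp 276 h_K) [nat_lit 264, nat_lit 4, nat_lit 272] V158 144 :=
  Stab.step (k := 9) (L := (lab 276 9)) hn TH_s2 V158_ok le159 (c := (Ch.cons (nat_lit 231) [nat_lit 1] (Ch.cons (nat_lit 190) [nat_lit 3] (Ch.cons (nat_lit 256) [nat_lit 5] (Ch.cons (nat_lit 33) [nat_lit 7] (Ch.cons (nat_lit 224) [nat_lit 9] Ch.nil)))))) (by decide +kernel)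

theorem TH_s16 : Stab 276 (grp 276 h_K) [nat_lit 231, nat_lit 264, nat_lit 4, nat_lit 272] V160 24 :=
  Stab.step (k := 9) (L := (lab 276 9)) hn TH_s15 V160_ok (grp_mono (List.subset_append_right [g155] _)) (c := (Ch.cons (nat_lit 190) [nat_lit 1] (Ch.cons (nat_lit 256) [nat_lit 3] (Ch.cons (nat_lit 33) [nat_lit 5] (Ch.cons (nat_lit 224) [nat_lit 7] Ch.nil))))) (by decide +kernel)

theorem TH_s17 : Stab 276 (grp 276 h_K) [nat_lit 190, nat_lit 231, nat_lit 264, nat_lit 4, nat_lit 272] V161 12 :=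
  Stab.step (k := 9) (L := (lab 276 9)) hn TH_s16 V161_ok (grp_mono (List.subset_append_right [g156] _)) (c := (Ch.cons (nat_lit 256) [nat_lit 1] (Ch.cons (nat_lit 33) [nat_lit 3] (Ch.cons (nat_lit 224) [nat_lit 5] Ch.nil)))) (by decide +kernel)

theorem TH_s18 : Stab 276 (grp 276 h_K) [nat_lit 256, nat_lit 190, nat_lit 231, nat_lit 264, nat_lit 4, nat_lit 272] V162 4 :=
  Stab.step (k := 9) (L := (lab 276 9)) hn TH_s17 V162_ok (grp_mono (List.subset_append_right [g157] _)) (c := (Ch.cons (nat_lit 33) [nat_lit 1] (Ch.cons (nat_lit 224) [nat_lit 3] Ch.nil))) (by decide +kernel)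

theorem TH_s19 : Stab 276 (grp 276 h_K) [nat_lit 33, nat_lit 256, nat_lit 190, nat_lit 231, nat_lit 264, nat_lit 4, nat_lit 272] V163 2 :=
  Stab.step (k := 9) (L := (lab 276 9)) hn TH_s18 V163_ok (grp_mono (List.subset_append_right [g130] _)) (c := (Ch.cons (nat_lit 224) [nat_lit 1] Ch.nil)) (by decide +kernel)

theorem TH_s20 : Stab 276 (grp 276 h_K) [nat_lit 224, nat_lit 33, nat_lit 256, nat_lit 190, nat_lit 231, nat_lit 264, nat_lit 4, nat_lit 272] V164 1 :=
  Stab.step (k := 9) (L := (lab 276 9)) hn TH_s19 V164_ok (grp_mono (List.subset_append_right [n_t] _)) (c := Ch.nil) (by decide +kernel)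

theorem g155_TH : Net.toPerm 276 g155 ∈ (grp 276 h_K) :=
  TH_s15.le (toPerm_mem_grp (E := V158) (List.Mem.head _))

theorem g156_TH : Net.toPerm 276 g156 ∈ (grp 276 h_K) :=
  TH_s15.le (toPerm_mem_grp (E := V158) (List.Mem.tail _ (List.Mem.head _)))

theorem g157_TH : Net.toPerm 276 g157 ∈ (grp 276 h_K) :=
  TH_s15.le (toPerm_mem_grp (E := V158) (List.Mem.tail _ (List.Mem.tail _ (List.Mem.head _))))

noncomputable def TH_s20_O : ℕ := (nat_lit 0x9993333366666ccccc99999b3333666664ccccd9999b3333266666ccccd9999933332c1f07c1f07c1f07c0f83e0f83e0f83e0f81f07c1f07c1f07c1f03e0f83e0f83e0f83e7319cc63398ce7319cc63398ce7319ce63398c67319ce63398c67319ce63398c6731826d926c93649b24db26d936c9b649b24d926d936c9b64db24d926c93649b64db26d92100000000000000000000000000000000000000000000000000000000000000000000000000000000000000000000000000000000000000000000000000000000000000010001000000000000000000000000000000000000000000000000000000000000000000000000000008000000000000000000000000000000000000000000000000000000000000000000000000000000400000000000000000000000000000000000000000000000000010000000000000000000000000000000000000000000000000000000000000000000000000000000000000000000000000000000000000000000000000000200000000000000000000100000000000000000000000000000000000000000000000000000000)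

theorem TH_s20_F : Frame 276 (grp 276 h_K) 8 12 TH_s20_O 1 1 :=
  IsBase.frame TH_s20.isBase (by decide +kernel)

noncomputable def TH_s19_O : ℕ := (nat_lit 0x22440000000800230004110080080120022012010100000000000000000000000000cdc1a6f4de7347f98f61b2eb23e75ba82f913a5eefeecd5e001000010244010001000c84aa4af66e70349c77d3a6cf3ca396d780404010001a021fff7cffff74401000100026e4e6f3d4e6ee0d007e80079414420455d9361eec018221fdf7f0010affdbfd81000c9880b14909128b67a17f3763b49a040459136d103cef0a1ff183df90adddf027fa0087c3862dd5642072b61352ed441f7916c6b7440f83e1afc1e0fc1d87caa984f2785e0e46604a5fb176b3ae098139a760e127a15c0fdec632cbe3998db3e6630cc50ce6618cad60e32385132f639a9c914179aa0e7567342b0b5aaa9b9556aa8b55acf349a954d4a100000000000000000000000000000000000000000000000000000000000000000000000000000000000000000000000000000000000000000000000000000000000000010001000000000000000000000000000000000000000000000000000000000000000000000000000008000000000000000000000000000000000000000000000000000000000000000000000000000000400000000000000000000000000000000000000000000000000010000000000000000000000000000000000000000000000000000000000000000000000000000000000000000000000000000000000000000000000000000200000000)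

theorem TH_s19_F : Frame 276 (grp 276 h_K) 7 15 TH_s19_O 0 1 :=
  Stab.frame hn TH_s19 (by decide +kernel)

noncomputable def TH_s17_O : ℕ := (nat_lit 0x432452402000c022356041940a84e1522a320165b6958500201411c11a5d290001000a2e7c4a646e4a58c380cb3095870123e104b0b225822faf41f7386172282069fbc000846d90b09713271a02135072f81182bc04ee599859782a731a20661ca0e6b1b5835c0c14086686ff1c814778f78fb7279d10d89763ce3a5ec8e9c953a0924d564c2b672128a525fc4d467746375879d23ce49c549ba000c6edafaea863aac25d35446a267b2a2a6100000000000000000000000000000000000000000000000000000000000000000000000000000000000000000000000000000000000000000000000000000000000000010001000000000000000000000000000000000000000000000000000000000000000000000000000008000000000000000000000000000000000000000000000000000000000000000000000000000000400000000000000000000000000000000000000000000000)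

theorem TH_s17_F : Frame 276 (grp 276 h_K) 5 10 TH_s17_O 0 1 :=
  Stab.frame hn TH_s17 (by decide +kernel)

noncomputable def TH_s16_O : ℕ := (nat_lit 0x4000000000000020000000000000000000000000000000000000000000008000200000000000000000000000000000000010000000000000000000000000000000000000040100000000000000000000000000000000000400000000000000000000000000000000000000800000200000000000000000000000040000000000000100000000002000000000000000000000000000000000000000000002000000000024400000000000000000000000001200000000000000000000000100000000000000200000000000000000001000800000000000100100000000000000002000000000000000000000000000100000000000000000000020001080000000000000000100010000041002000000400000000001000000400400800080022701a2004100002008500000000004004060000400080008000030400200000000010100000600c008110a02200000100004000804000000420010060400000000043a484008405000100000000001000000820002000000a00060000400840000300100040200500020019002000800000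40000000008000112118000100202000022000080080410800000000020020a00020820000008001091000000020200420001000004841010004000000000200880009000005400400000800020200401000008008008180004408000000038000482044000000000a040000200280008000580088002000100091020000000040800080000110040004000820002805000400010800820004000400000082000002000000c000000000044808206100000000000000000000000000000000000000000000000000000000000000000000000000000000000000000000000000000000000000000000000000000000000000010001000000000000000000000000000000000000000000000000000000000000000000000000000008000000000000000000000000000000000000000000000000000000000)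

theorem TH_s16_F : Frame 276 (grp 276 h_K) 4 21 TH_s16_O 0 1 :=
  Stab.frame hn TH_s16 (by decide +kernel)

noncomputable def TH_s15_O : ℕ := (nat_lit 0x1000000800020000040000000000000200000000000000000000000020000000000244000000000000000401000000012000000000000000000000001004000000000002000000000000000000010008008000002001001000000000000000020400000000000000000000080003000000000000000000000200010800000100000000001000100000080010910000000202004200010000048410100040000000002008800090000054040c3022228000ca005e0088412840104395128040a0076783a299412110a40854400821002c4540e44005080ca2090460744002008243a487018405c601c008110e4a38206100000000000000000000000000000000000000000000000000000000000000000000000000000000000000000000000000000000000000000000000000000000000000010001000000000000000000000000000000000000000000000000000000000000000000)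

theorem TH_s15_F : Frame 276 (grp 276 h_K) 3 10 TH_s15_O 0 1 :=
  Stab.frame hn TH_s15 (by decide +kernel)

noncomputable def ht_c4_cnt_L : List ℕ := [0, 1, TH_s0_O, 0, 0, 2, 5, TH_s2_O, 0, 0, 3, 10, TH_s15_O, 0, 0, 4, 21, TH_s16_O, 0, 0, 5, 10, TH_s17_O, 0, 0, 7, 15, TH_s19_O, 0, 0, 8, 12, TH_s20_O, 1, 0]

theorem ht_c4_cnt_P : Prob 276 9 (grp 276 h_K) ht_c4_cnt_EG [g148] [g148] ht_c4_K ht_c4_cnt_L 0 0 :=
  Sym.prob hn hk ht_c4_sym ht_c4_cnt_EG_ok (grp_cons_le g36_TH (grp_cons_le g37_TH (grp_cons_le g38_TH (grp_cons_le g39_TH (grp_cons_le g40_TH (grp_cons_le g41_TH (grp_cons_le g42_TH (grp_cons_le g35_TH (grp_cons_le g155_TH (grp_cons_le g156_TH (grp_cons_le g157_TH (grp_cons_le g130_TH (grp_cons_le n_t_TH (grp_nil_le _)))))))))))))) (Frames.cons TH_s0_F (Frames.cons TH_s2_F (Frames.cons TH_s15_F (Frames.cons TH_s16_F (Frames.cons TH_s17_F (Frames.cons TH_s19_F (Frames.cons TH_s20_F Frames.nil))))))) (okE_cons.2 ⟨g148_ok, okE_nil _⟩) _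

noncomputable def ht_c4_cnt_t : BT := (BT.frm (nat_lit 0) (nat_lit 0) (nat_lit 0) [] (BT.pln (nat_lit 0) (nat_lit 0) (BT.fix (nat_lit 1) (BT.and (nat_lit 1) (nat_lit 0) (BT.br (nat_lit 0) (nat_lit 262) [nat_lit 1] (BT.kid (nat_lit 262) (nat_lit 720) (BT.dif (nat_lit 2) (nat_lit 0) (BT.br (nat_lit 0) (nat_lit 42) [nat_lit 3, nat_lit 7] (BT.kid (nat_lit 42) (nat_lit 144) (BT.frm (nat_lit 1) (nat_lit 0x10301030f0203) (nat_lit 0x10301030f0203) [nat_lit 0, nat_lit 2] (BT.pln (nat_lit 0) (nat_lit 4) (BT.and (nat_lit 7) (nat_lit 0) (BT.dif (nat_lit 0) (nat_lit 7) (BT.br (nat_lit 0) (nat_lit 188) [nat_lit 5, nat_lit 7] (BT.kid (nat_lit 188) (nat_lit 12) (BT.img (nat_lit 1) (nat_lit 0) (BT.frm (nat_lit 3) (nat_lit 0x1111010301030f0203) (nat_lit 0x1111010301030f0203) [nat_lit 0, nat_lit 1, nat_lit 6, nat_lit 8] (BT.pln (nat_lit 0) (nat_lit 16) (BT.and (nat_lit 6) (nat_lit 0) (BT.br (nat_lit 0) (nat_lit 208) [nat_lit 7] (BT.kid (nat_lit 208) (nat_lit 4)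 (BT.dif (nat_lit 2) (nat_lit 0) (BT.br (nat_lit 0) (nat_lit 258) [nat_lit 9] (BT.kid (nat_lit 258) (nat_lit 2) (BT.frm (nat_lit 2) (nat_lit 0x10301030f0203) (nat_lit 0x10301030f0203) [nat_lit 7, nat_lit 12, nat_lit 14] (BT.pln (nat_lit 0) (nat_lit 3) (BT.img (nat_lit 1) (nat_lit 0) (BT.dif (nat_lit 0) (nat_lit 1) (BT.img (nat_lit 1) (nat_lit 10) (BT.frm (nat_lit 4) (nat_lit 0x1111010301030f0203) (nat_lit 0x1111010301030f0203) [nat_lit 0, nat_lit 11, nat_lit 12, nat_lit 17, nat_lit 19] (BT.pln (nat_lit 0) (nat_lit 7) (BT.dif (nat_lit 3) (nat_lit 0) (BT.frm (nat_lit 5) (nat_lit 0x17151111010301030f0203) (nat_lit 0x17151111010301030f0203) [nat_lit 8, nat_lit 10, nat_lit 3, nat_lit 14, nat_lit 15, nat_lit 20, nat_lit 22] (BT.pln (nat_lit 0) (nat_lit 7) (BT.dif (nat_lit 2) (nat_lit 0) (BT.br (nat_lit 0) (nat_lit 210) [nat_lit 11] (BT.kid (nat_lit 210) (nat_lit 1) (BT.one (nat_lit 6) (nat_lit 0x1917151111010301030f0203) (nat_lit 0x1917151111010301030f0203)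 [nat_lit 0, nat_lit 12, nat_lit 14, nat_lit 7, nat_lit 18, nat_lit 19, nat_lit 24, nat_lit 26]) BT.nil))))))))))))) BT.nil))) BT.nil)))))) BT.nil)))))) BT.nil))) BT.nil))))))

theorem ht_c4_cnt : Cnt 276 (grp 276 h_K) [g148] [g148] 0 0 0 0 4320 :=
  BT.sound ht_c4_cnt_P Known.nil (t := ht_c4_cnt_t) (d := 0) (by decide +kernel)

theorem ht_c4_ge : 4320 ≤ Nat.card (grp 276 ht_c4_K) :=
  Ch.le_card_grp (k := 9) (L := (lab 276 9)) hn ht_c4_K_ok (c := (Ch.cons (nat_lit 262) [nat_lit 1] (Ch.cons (nat_lit 42) [nat_lit 3] (Ch.cons (nat_lit 188) [nat_lit 5] (Ch.cons (nat_lit 208) [nat_lit 7] (Ch.cons (nat_lit 258) [nat_lit 9] (Ch.cons (nat_lit 210) [nat_lit 11] Ch.nil))))))) (by decide +kernel)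

theorem ht_c4_eq : (grp 276 h_K) ⊓ Subgroup.centralizer {Net.toPerm 276 g148} = grp 276 ht_c4_K :=
  cent_eq ht_c4_sym ht_c4_cnt ht_c4_ge

theorem ht_c4_card : Nat.card ↥((grp 276 h_K) ⊓ Subgroup.centralizer {Net.toPerm 276 g148}) = 4320 :=
  card_cent ht_c4_sym ht_c4_cnt ht_c4_ge

theorem ht_c4_ord : orderOf (Net.toPerm 276 g148) = 3 :=
  orderOf_net hn hk g148_ok (by decide) (ps := [3]) (by set_option linter.unusedSimpArgs false in simp [Nat.primeFactorsList_ofNat]) (by decide +kernel)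

theorem le172 : grp 276 ht_c5_K ≤ grp 276 h_K :=
  grp_le_of_memB hn hk h_K_ok ht_c5_K_ok (ws := [nat_lit 0xd09080508060406040702, nat_lit 0xd090b070d05050d040503010f, nat_lit 0x90b070905050d040d03010405, nat_lit 329475, nat_lit 0xd07070508050305080104, nat_lit 0xb070508040d0104]) (by decide +kernel)

theorem ht_c5_le : grp 276 ht_c5_K ≤ (grp 276 h_K) :=
  (le172.trans TH_s0.le)

theorem ht_c5_mem : Net.toPerm 276 g165 ∈ (grp 276 h_K) :=
  ht_c5_le (mem_grp_of_memB hn hk ht_c5_K_ok g165_ok (w := (nat_lit 0xc070c07)) (by decide +kernel))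

theorem ht_c5_sym : Sym 276 (grp 276 h_K) [g165] ht_c5_K 0 :=
  Sym.of_lab hn hk (okE_cons.2 ⟨g165_ok, okE_nil _⟩) ht_c5_K_ok ht_c5_le (kT := 0) (by decide +kernel)

theorem le179 : grp 276 V178 ≤ grp 276 h_K :=
  grp_le_of_memB hn hk h_K_ok V178_ok (ws := [nat_lit 0x90709050505040603010505, nat_lit 0xf090b0707060604050305010f, nat_lit 0x70d0508050306070106, nat_lit 0xf0b070508040101, nat_lit 0xd07070504050306010104]) (by decide +kernel)

theorem TH_s21 : Stab 276 (grp 276 h_K) [nat_lit 228] V178 12096 :=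
  Stab.step (k := 9) (L := (lab 276 9)) hn TH_s0 V178_ok le179 (c := (Ch.cons (nat_lit 39) [nat_lit 1] (Ch.cons (nat_lit 257) [nat_lit 3] (Ch.cons (nat_lit 12) [nat_lit 5] (Ch.cons (nat_lit 121) [nat_lit 7, nat_lit 9] Ch.nil))))) (by decide +kernel)

theorem TH_s22 : Stab 276 (grp 276 h_K) [nat_lit 39, nat_lit 228] V180 108 :=
  Stab.step (k := 9) (L := (lab 276 9)) hn TH_s21 V180_ok (grp_mono (List.subset_append_right [g173] _)) (c := (Ch.cons (nat_lit 257) [nat_lit 1] (Ch.cons (nat_lit 12) [nat_lit 3] (Ch.cons (nat_lit 121) [nat_lit 5, nat_lit 7] Ch.nil)))) (by decide +kernel)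

theorem TH_s23 : Stab 276 (grp 276 h_K) [nat_lit 257, nat_lit 39, nat_lit 228] V181 54 :=
  Stab.step (k := 9) (L := (lab 276 9)) hn TH_s22 V181_ok (grp_mono (List.subset_append_right [g174] _)) (c := (Ch.cons (nat_lit 12) [nat_lit 1] (Ch.cons (nat_lit 121) [nat_lit 3, nat_lit 5] Ch.nil))) (by decide +kernel)

theorem TH_s24 : Stab 276 (grp 276 h_K) [nat_lit 12, nat_lit 257, nat_lit 39, nat_lit 228] V182 6 :=
  Stab.step (k := 9) (L := (lab 276 9)) hn TH_s23 V182_ok (grp_mono (List.subset_append_right [g175] _)) (c := (Ch.cons (nat_lit 121) [nat_lit 1, nat_lit 3] Ch.nil)) (by decide +kernel)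

theorem TH_s25 : Stab 276 (grp 276 h_K) [nat_lit 121, nat_lit 12, nat_lit 257, nat_lit 39, nat_lit 228] V183 1 :=
  Stab.step (k := 9) (L := (lab 276 9)) hn TH_s24 V183_ok (grp_mono (List.subset_append_right [g176, g177] _)) (c := Ch.nil) (by decide +kernel)

theorem g173_TH : Net.toPerm 276 g173 ∈ (grp 276 h_K) :=
  TH_s21.le (toPerm_mem_grp (E := V178) (List.Mem.head _))

theorem g174_TH : Net.toPerm 276 g174 ∈ (grp 276 h_K) :=
  TH_s21.le (toPerm_mem_grp (E := V178) (List.Mem.tail _ (List.Mem.head _)))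

theorem g175_TH : Net.toPerm 276 g175 ∈ (grp 276 h_K) :=
  TH_s21.le (toPerm_mem_grp (E := V178) (List.Mem.tail _ (List.Mem.tail _ (List.Mem.head _))))

theorem g176_TH : Net.toPerm 276 g176 ∈ (grp 276 h_K) :=
  TH_s21.le (toPerm_mem_grp (E := V178) (List.Mem.tail _ (List.Mem.tail _ (List.Mem.tail _ (List.Mem.head _)))))

theorem g177_TH : Net.toPerm 276 g177 ∈ (grp 276 h_K) :=
  TH_s21.le (toPerm_mem_grp (E := V178) (List.Mem.tail _ (List.Mem.tail _ (List.Mem.tail _ (List.Mem.tail _ (List.Mem.head _))))))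

noncomputable def TH_s25_O : ℕ := (nat_lit 0x9993333366666ccccc99999b3333666664ccccd9999b3333266666ccccd9999933332c1f07c1f07c1f07c0f83e0f83e0f83e0f81f07c1f07c1f07c1f03e0f83e0f83e0f83e7319cc63398ce7319cc63398ce7319ce63398c67319ce63398c67319ce63398c6731826d926c93649b24db26d936c9b649b24d926d936c9b64db24d926c93649b64db26d92000000000001000000000000000000000000000000000000000000000000000000000000000000000000000000000000000000000000000000000000000000008000000000000020000000000000000000000000000000000000000000000000000000000000000000000000000000000000000000000000000000000000000000000000000000001000000000000000000000000000000000000000002000000000000000000000000000000)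

theorem TH_s25_F : Frame 276 (grp 276 h_K) 5 9 TH_s25_O 1 1 :=
  IsBase.frame TH_s25.isBase (by decide +kernel)

noncomputable def TH_s24_O : ℕ := (nat_lit 0x20000000000000000000000000000000000000000000000000000000000000000000b03650860814052950c8d798ec04d23640020044da1c84284872f027024430480000009e44f38ecbc8d5b38edef9071496e284267036df5e77b99b5051b84759001b000018ecdc05ffc9c2025185e6a020f5df39c128a157400bad8c7d4fdbde6cc00388076e018b1840ac302e624dd8f3f6bb2aac6cb3fb4790b13074a64a0554c35db2fc6840750f18e11f1557f97e860f333906e188280047de6a1bf60e74ab3b12b72cca36013386a8cf8b59d91509648efc27c1e4f3c70352d451c330df1e2df80137c95e787a162e96534a92000000000001000000000000000000000000000000000000000000000000000000000000000000000000000000000000000000000000000000000000000000008000000000000020000000000000000000000000000000000000000000000000000000000000000000000000000000000000000000000000000000000000000000000000000000001000)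

theorem TH_s24_F : Frame 276 (grp 276 h_K) 4 11 TH_s24_O 0 1 :=
  Stab.frame hn TH_s24 (by decide +kernel)

noncomputable def TH_s23_O : ℕ := (nat_lit 0x100000000000000000000000000000000000000000000000000000000000000000000000000000200000000000000000000000000000000000000000000000000000000000000000000000000000000000000000000000010000000000000000001000000000000000004110080000020000000000008000001000000200000000000102050000000000000000000000000000000000010100000000000010040200000000020400000008800220000000000000000000002000000000000000000000010001000000000000000000010000400000080100022010000000000000000000004000000010008004006000004000040000000808000201000000200b0004000800100000800000008400028000000000c02080001000100000000010002000000000100410280010000000000000080000040200004140000000800800420004000800000004000002008046000000000008010108000200000c200002100a00001000000010800000000000040005000801d0805002000000002000004261480000040000041100c10400000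0000420000050000020400080000c0800080100404000004002040002030042082a0000820040000000000100260108011100800004000014400810c4082000400000480400000200800a0000a04000000000000000206001088008040000a0040c400020030088004000210040010000130024a040081208002000000010108000000002020000000001004818280000000000001000000000000000000000000000000000000000000000000000000000000000000000000000000000000000000000000000000000000000000008000000000000020000000000000000000000000000000000000000000000000000000000000000)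

theorem TH_s23_F : Frame 276 (grp 276 h_K) 3 19 TH_s23_O 0 1 :=
  Stab.frame hn TH_s23 (by decide +kernel)

noncomputable def TH_s22_O : ℕ := (nat_lit 0x200000000000000000000000000000000000000000000000000000000000000000000000000000000000000000000000010000000000000000000020000000000100000000000000000000000000000000000000000000000000000122450000008800220000000000000000000002010100000000000010040210001000001000000000000010004510080080120022010000008000001000000204000000010000801d0805002000000002000004261480000040000041100c104000000000420000050000020400080000c0800080100404000004002040002030042082a0000820040000000000100260108011100800004000014400810c40820004000004804000002008000002800000004000002000041001200000040208008110008820c200003050100000a008004006800004402040041400808008209004200240b0804000804100002808046008400028008010108c02280001c201002100a00101020000010801004102800140005000000000001000000000000000000000000000000000000000000000000000000000000000000000000000000000000000000000000000000000000000000008000000000)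

theorem TH_s22_F : Frame 276 (grp 276 h_K) 2 13 TH_s22_O 0 1 :=
  Stab.frame hn TH_s22 (by decide +kernel)

noncomputable def TH_s21_O : ℕ := (nat_lit 0x200000000000000000000000000000000000000000000123450000008800230004510080080120022012010108000001000010244210001010e503aa0617006ca140e8920e9631348c009456882ac150e6ba26f2b2a8b95c781e38a000000000001000000000000000000000000000000000000000000000000000000000)

theorem TH_s21_F : Frame 276 (grp 276 h_K) 1 4 TH_s21_O 0 1 :=
  Stab.frame hn TH_s21 (by decide +kernel)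

noncomputable def ht_c5_cnt_L : List ℕ := [0, 1, TH_s0_O, 0, 0, 1, 4, TH_s21_O, 0, 0, 2, 13, TH_s22_O, 0, 0, 3, 19, TH_s23_O, 0, 0, 4, 11, TH_s24_O, 0, 0, 5, 9, TH_s25_O, 1, 0]

theorem ht_c5_cnt_P : Prob 276 9 (grp 276 h_K) ht_c5_cnt_EG [g165] [g165] ht_c5_K ht_c5_cnt_L 0 0 :=
  Sym.prob hn hk ht_c5_sym ht_c5_cnt_EG_ok (grp_cons_le g35_TH (grp_cons_le g36_TH (grp_cons_le g37_TH (grp_cons_le g38_TH (grp_cons_le g39_TH (grp_cons_le g40_TH (grp_cons_le g41_TH (grp_cons_le g42_TH (grp_cons_le g173_TH (grp_cons_le g174_TH (grp_cons_le g175_TH (grp_cons_le g176_TH (grp_cons_le g177_TH (grp_nil_le _)))))))))))))) (Frames.cons TH_s0_F (Frames.cons TH_s21_F (Frames.cons TH_s22_F (Frames.cons TH_s23_F (Frames.cons TH_s24_F (Frames.cons TH_s25_F Frames.nil)))))) (okE_cons.2 ⟨g165_ok, okE_nil _⟩) _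

noncomputable def ht_c5_cnt_t : BT := (BT.fix (nat_lit 1) (BT.br (nat_lit 0) (nat_lit 245) [nat_lit 1] (BT.kid (nat_lit 245) (nat_lit 216) (BT.frm (nat_lit 1) (nat_lit 67076) (nat_lit 67076) [nat_lit 0] (BT.pln (nat_lit 0) (nat_lit 1) (BT.and (nat_lit 3) (nat_lit 0) (BT.br (nat_lit 0) (nat_lit 101) [nat_lit 3, nat_lit 5] (BT.dead (nat_lit 51) (BT.frm (nat_lit 2) (nat_lit 0x11111113010604) (nat_lit 0x11141117010604) [nat_lit 0, nat_lit 4] (BT.pln (nat_lit 0) (nat_lit 10) (BT.and (nat_lit 7) (nat_lit 0) (BT.br (nat_lit 0) (nat_lit 51) [nat_lit 788227] (BT.dead (nat_lit 101) (BT.frm (nat_lit 0) (nat_lit 0) (nat_lit 0) [] (BT.pln (nat_lit 0) (nat_lit 0) (BT.frm (nat_lit 3) (nat_lit 0x11111113010604) (nat_lit 0x11141117010604) [nat_lit 2, nat_lit 6, nat_lit 10] (BT.pln (nat_lit 0) (nat_lit 13) (BT.and (nat_lit 2) (nat_lit 0) (BT.br (nat_lit 0) (nat_lit 227) [nat_lit 12, nat_lit 0x90c070b] (BT.dead (nat_lit 163) (BT.frm (nat_lit 4) (nat_lit 0x11111113010604)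 (nat_lit 0x1611141117010604) [nat_lit 0, nat_lit 6, nat_lit 10, nat_lit 14] (BT.pln (nat_lit 0) (nat_lit 4) (BT.img (nat_lit 1) (nat_lit 2) (BT.and (nat_lit 1) (nat_lit 0) (BT.cnt (nat_lit 0)))))) BT.nil))))))) BT.nil))))) (BT.kid (nat_lit 101) (nat_lit 108) (BT.frm (nat_lit 2) (nat_lit 0x11111113010604) (nat_lit 0x11111113010604) [nat_lit 0, nat_lit 4] (BT.pln (nat_lit 0) (nat_lit 10) (BT.and (nat_lit 7) (nat_lit 0) (BT.br (nat_lit 0) (nat_lit 51) [nat_lit 5] (BT.kid (nat_lit 51) (nat_lit 54) (BT.frm (nat_lit 0) (nat_lit 0) (nat_lit 0) [] (BT.pln (nat_lit 0) (nat_lit 0) (BT.frm (nat_lit 3) (nat_lit 0x11111113010604) (nat_lit 0x11111113010604) [nat_lit 2, nat_lit 6, nat_lit 10] (BT.pln (nat_lit 0) (nat_lit 13) (BT.and (nat_lit 2) (nat_lit 0) (BT.br (nat_lit 0) (nat_lit 227) [nat_lit 7, nat_lit 9, nat_lit 11] (BT.kid (nat_lit 227) (nat_lit 6) (BT.dif (nat_lit 2) (nat_lit 0) (BT.img (nat_lit 1) (nat_lit 1) (BT.dif (nat_lit 1) (nat_lit 0) (BT.img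 (nat_lit 1) (nat_lit 1) (BT.dif (nat_lit 1) (nat_lit 0) (BT.br (nat_lit 0) (nat_lit 45) [nat_lit 9, nat_lit 11] (BT.kid (nat_lit 45) (nat_lit 1) (BT.one (nat_lit 5) (nat_lit 0x11111113010604) (nat_lit 0x11111113010604) [nat_lit 0, nat_lit 6, nat_lit 12, nat_lit 16, nat_lit 20]) BT.nil))))))) BT.nil))))))) BT.nil))))) BT.nil)))))) BT.nil)))

theorem ht_c5_cnt : Cnt 276 (grp 276 h_K) [g165] [g165] 0 0 0 0 1296 :=
  BT.sound ht_c5_cnt_P Known.nil (t := ht_c5_cnt_t) (d := 0) (by decide +kernel)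

theorem ht_c5_ge : 1296 ≤ Nat.card (grp 276 ht_c5_K) :=
  Ch.le_card_grp (k := 9) (L := (lab 276 9)) hn ht_c5_K_ok (c := (Ch.cons (nat_lit 245) [nat_lit 1] (Ch.cons (nat_lit 101) [nat_lit 3] (Ch.cons (nat_lit 51) [nat_lit 5] (Ch.cons (nat_lit 227) [nat_lit 7] (Ch.cons (nat_lit 45) [nat_lit 9, nat_lit 11] Ch.nil)))))) (by decide +kernel)

theorem ht_c5_eq : (grp 276 h_K) ⊓ Subgroup.centralizer {Net.toPerm 276 g165} = grp 276 ht_c5_K :=
  cent_eq ht_c5_sym ht_c5_cnt ht_c5_ge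

theorem ht_c5_card : Nat.card ↥((grp 276 h_K) ⊓ Subgroup.centralizer {Net.toPerm 276 g165}) = 1296 :=
  card_cent ht_c5_sym ht_c5_cnt ht_c5_ge

theorem ht_c5_ord : orderOf (Net.toPerm 276 g165) = 3 :=
  orderOf_net hn hk g165_ok (by decide) (ps := [3]) (by set_option linter.unusedSimpArgs false in simp [Nat.primeFactorsList_ofNat]) (by decide +kernel)

theorem le189 : grp 276 ht_c6_K ≤ grp 276 h_K :=
  grp_le_of_memB hn hk h_K_ok ht_c6_K_ok (ws := [nat_lit 0xf090b0707060406070101, nat_lit 0x90709050803050305010103, nat_lit 0xf0d05050703050405010406, nat_lit 0xf0d090707050806030606010406, nat_lit 2315]) (by decide +kernel)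

theorem ht_c6_le : grp 276 ht_c6_K ≤ (grp 276 h_K) :=
  (le189.trans TH_s0.le)

theorem ht_c6_mem : Net.toPerm 276 g184 ∈ (grp 276 h_K) :=
  ht_c6_le (mem_grp_of_memB hn hk ht_c6_K_ok g184_ok (w := (nat_lit 1285)) (by decide +kernel))

theorem ht_c6_sym : Sym 276 (grp 276 h_K) [g184] ht_c6_K 0 :=
  Sym.of_lab hn hk (okE_cons.2 ⟨g184_ok, okE_nil _⟩) ht_c6_K_ok ht_c6_le (kT := 0) (by decide +kernel)

noncomputable def ht_c6_cnt_L : List ℕ := [0, 1, TH_s0_O, 0, 0, 2, 5, TH_s2_O, 0, 0, 3, 10, TH_s15_O, 0, 0, 5, 10, TH_s17_O, 0, 0, 7, 15, TH_s19_O, 0, 0, 8, 12, TH_s20_O, 1, 0]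

theorem ht_c6_cnt_P : Prob 276 9 (grp 276 h_K) ht_c6_cnt_EG [g184] [g184] ht_c6_K ht_c6_cnt_L 0 0 :=
  Sym.prob hn hk ht_c6_sym ht_c6_cnt_EG_ok (grp_cons_le g36_TH (grp_cons_le g37_TH (grp_cons_le g38_TH (grp_cons_le g39_TH (grp_cons_le g40_TH (grp_cons_le g41_TH (grp_cons_le g42_TH (grp_cons_le g35_TH (grp_cons_le g156_TH (grp_cons_le g157_TH (grp_cons_le g130_TH (grp_cons_le n_t_TH (grp_cons_le g155_TH (grp_nil_le _)))))))))))))) (Frames.cons TH_s0_F (Frames.cons TH_s2_F (Frames.cons TH_s15_F (Frames.cons TH_s17_F (Frames.cons TH_s19_F (Frames.cons TH_s20_F Frames.nil)))))) (okE_cons.2 ⟨g184_ok, okE_nil _⟩) _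

noncomputable def ht_c6_cnt_t : BT := (BT.frm (nat_lit 0) (nat_lit 0) (nat_lit 0) [] (BT.pln (nat_lit 0) (nat_lit 0) (BT.fix (nat_lit 1) (BT.and (nat_lit 1) (nat_lit 0) (BT.br (nat_lit 0) (nat_lit 190) [nat_lit 1] (BT.kid (nat_lit 190) (nat_lit 72) (BT.and (nat_lit 2) (nat_lit 3) (BT.dif (nat_lit 0) (nat_lit 1) (BT.br (nat_lit 0) (nat_lit 72) [nat_lit 3] (BT.kid (nat_lit 72) (nat_lit 36) (BT.dif (nat_lit 4) (nat_lit 3) (BT.dif (nat_lit 0) (nat_lit 1) (BT.frm (nat_lit 2) (nat_lit 0x50701030f0303) (nat_lit 0x50701030f0303) [nat_lit 0, nat_lit 2, nat_lit 5] (BT.pln (nat_lit 0) (nat_lit 9) (BT.and (nat_lit 10) (nat_lit 0) (BT.br (nat_lit 0) (nat_lit 262) [nat_lit 5] (BT.kid (nat_lit 262) (nat_lit 6) (BT.dif (nat_lit 2) (nat_lit 0) (BT.img (nat_lit 1) (nat_lit 1) (BT.dif (nat_lit 1) (nat_lit 0) (BT.img (nat_lit 1) (nat_lit 1) (BT.dif (nat_lit 1) (nat_lit 0) (BT.br (nat_lit 0) (nat_lit 264) [nat_lit 7] (BT.kid (nat_lit 264) (nat_lit 2) (BT.dif (nat_lit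 22) (nat_lit 18) (BT.frm (nat_lit 1) (nat_lit 0x1030f0303) (nat_lit 0x1030f0303) [nat_lit 13, nat_lit 16] (BT.pln (nat_lit 0) (nat_lit 2) (BT.dif (nat_lit 2) (nat_lit 0) (BT.frm (nat_lit 3) (nat_lit 0x1a1a050701030f0303) (nat_lit 0x1a1a050701030f0303) [nat_lit 8, nat_lit 10, nat_lit 14, nat_lit 16, nat_lit 19] (BT.pln (nat_lit 0) (nat_lit 5) (BT.dif (nat_lit 2) (nat_lit 0) (BT.pln (nat_lit 2) (nat_lit 8) (BT.dif (nat_lit 1) (nat_lit 0) (BT.pln (nat_lit 4) (nat_lit 9) (BT.dif (nat_lit 1) (nat_lit 0) (BT.img (nat_lit 1) (nat_lit 11) (BT.frm (nat_lit 4) (nat_lit 0x141a1a050701030f0303) (nat_lit 0x141a1a050701030f0303) [nat_lit 0, nat_lit 12, nat_lit 16, nat_lit 18, nat_lit 22, nat_lit 24, nat_lit 27] (BT.pln (nat_lit 0) (nat_lit 7) (BT.dif (nat_lit 3) (nat_lit 0) (BT.br (nat_lit 0) (nat_lit 238) [nat_lit 9] (BT.kid (nat_lit 238) (nat_lit 1) (BT.one (nat_lit 5) (nat_lit 0x141a1a050701030f0303) (nat_lit 0x141a1a050701030f0303) [nat_lit 0, nat_lit 4,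 nat_lit 16, nat_lit 20, nat_lit 22, nat_lit 26, nat_lit 28, nat_lit 31]) BT.nil))))))))))))))))) BT.nil))))))) BT.nil))))))) BT.nil)))) BT.nil))))))

theorem ht_c6_cnt : Cnt 276 (grp 276 h_K) [g184] [g184] 0 0 0 0 216 :=
  BT.sound ht_c6_cnt_P Known.nil (t := ht_c6_cnt_t) (d := 0) (by decide +kernel)

theorem ht_c6_ge : 216 ≤ Nat.card (grp 276 ht_c6_K) :=
  Ch.le_card_grp (k := 9) (L := (lab 276 9)) hn ht_c6_K_ok (c := (Ch.cons (nat_lit 190) [nat_lit 1] (Ch.cons (nat_lit 72) [nat_lit 3] (Ch.cons (nat_lit 262) [nat_lit 5] (Ch.cons (nat_lit 264) [nat_lit 7] (Ch.cons (nat_lit 238) [nat_lit 9] Ch.nil)))))) (by decide +kernel)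

theorem ht_c6_eq : (grp 276 h_K) ⊓ Subgroup.centralizer {Net.toPerm 276 g184} = grp 276 ht_c6_K :=
  cent_eq ht_c6_sym ht_c6_cnt ht_c6_ge

theorem ht_c6_card : Nat.card ↥((grp 276 h_K) ⊓ Subgroup.centralizer {Net.toPerm 276 g184}) = 216 :=
  card_cent ht_c6_sym ht_c6_cnt ht_c6_ge

theorem ht_c6_ord : orderOf (Net.toPerm 276 g184) = 3 :=
  orderOf_net hn hk g184_ok (by decide) (ps := [3]) (by set_option linter.unusedSimpArgs false in simp [Nat.primeFactorsList_ofNat]) (by decide +kernel)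

theorem le196 : grp 276 ht_c7_K ≤ grp 276 h_K :=
  grp_le_of_memB hn hk h_K_ok ht_c7_K_ok (ws := [nat_lit 0xf0d0908050507040607010306, nat_lit 0xf0d07090705070d0405050207, nat_lit 0x90b070907050805030601010d, nat_lit 2315, nat_lit 0xf0d07070606030508010405, nat_lit 0x908050806030601010d]) (by decide +kernel)

theorem ht_c7_le : grp 276 ht_c7_K ≤ (grp 276 h_K) :=
  (le196.trans TH_s0.le)

theorem ht_c7_mem : Net.toPerm 276 g190 ∈ (grp 276 h_K) :=
  ht_c7_le (mem_grp_of_memB hn hk ht_c7_K_ok g190_ok (w := (nat_lit 0x9050b030503010902)) (by decide +kernel))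

theorem ht_c7_sym : Sym 276 (grp 276 h_K) [g190] ht_c7_K 0 :=
  Sym.of_lab hn hk (okE_cons.2 ⟨g190_ok, okE_nil _⟩) ht_c7_K_ok ht_c7_le (kT := 0) (by decide +kernel)

theorem le198 : grp 276 V197 ≤ grp 276 V121 :=
  grp_le_of_memB hn hk V121_ok V197_ok (ws := [nat_lit 1]) (by decide +kernel)

theorem TH_s26 : Stab 276 (grp 276 h_K) [nat_lit 58, nat_lit 270, nat_lit 163, nat_lit 124, nat_lit 4, nat_lit 272] V197 2 :=
  Stab.step (k := 9) (L := (lab 276 9)) hn TH_s5 V197_ok le198 (c := (Ch.cons (nat_lit 170) [nat_lit 1] Ch.nil)) (by decide +kernel)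

theorem TH_s27 : Stab 276 (grp 276 h_K) [nat_lit 170, nat_lit 58, nat_lit 270, nat_lit 163, nat_lit 124, nat_lit 4, nat_lit 272] V199 1 :=
  Stab.step (k := 9) (L := (lab 276 9)) hn TH_s26 V199_ok (grp_mono (List.subset_append_right [g41] _)) (c := Ch.nil) (by decide +kernel)

noncomputable def TH_s27_O : ℕ := (nat_lit 0x9993333366666ccccc99999b3333666664ccccd9999b3333266666ccccd9999933332c1f07c1f07c1f07c0f83e0f83e0f83e0f81f07c1f07c1f07c1f03e0f83e0f83e0f83e7319cc63398ce7319cc63398ce7319ce63398c67319ce63398c67319ce63398c6731826d926c93649b24db26d936c9b649b24d926d936c9b64db24d926c93649b64db26d92100000000000000000000000000000000000000000000000000000000000000000000000000000000000000000000000000000000000000000000000000000000000000010000000000000000000000000000000000000010000000000000000000000000000000000000000000000000000000000080000000000000000000000000000000000000000040000000000000000000000000000000000000000000000000000000000000000000000000000000000000000000000000000000000000000000000000400000000000000000000000000000000000000004000000000000000000000000000000000000000000)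

theorem TH_s27_F : Frame 276 (grp 276 h_K) 7 11 TH_s27_O 1 1 :=
  IsBase.frame TH_s27.isBase (by decide +kernel)

noncomputable def TH_s26_O : ℕ := (nat_lit 0x602000001000100000004810020500421080000c104002200800000000000000000000bdf7554e6e36fff6b1e338fa9f816b8ed5f56e0e73d9cc00001000103040088000018b0e4f3d6b772e94cc6ea709bd58769c002000130882001ff7fdabbdffc4008800001e3fe0218be3a1fea1237d46650826104ac575ee00082411ff7ff1003033ffdfd40001884043c4c595e0233740aa3dbfe70146be56a000efba600fb401ebbf033ff888bfc01628c147fe7bd64644529ba3b429e7c25ef81f41db607910f03c1a783f32b8560bc3c082a4ebf73d9b8ad9def82ef4889942e5e0d1c288e1654f0ca333a831cc2e6594b3328cbe4b5a84fa35330a23c292ad3131b378acd9247cd56c9ba92abdb28aaa5545b2aaa4100000000000000000000000000000000000000000000000000000000000000000000000000000000000000000000000000000000000000000000000000000000000000010000000000000000000000000000000000000010000000000000000000000000000000000000000000000000000000000080000000000000000000000000000000000000000040000000000000000000000000000000000000000000000000000000000000000000000000000000000000000000000000000000000000000000000000400000000000000)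

theorem TH_s26_F : Frame 276 (grp 276 h_K) 6 14 TH_s26_O 0 1 :=
  Stab.frame hn TH_s26 (by decide +kernel)

noncomputable def ht_c7_cnt_L : List ℕ := [0, 1, TH_s0_O, 0, 0, 2, 5, TH_s2_O, 0, 0, 3, 15, TH_s3_O, 0, 0, 4, 10, TH_s4_O, 0, 0, 6, 14, TH_s26_O, 0, 0, 7, 11, TH_s27_O, 1, 0]

theorem ht_c7_cnt_P : Prob 276 9 (grp 276 h_K) ht_c7_cnt_EG [g190] [g190] ht_c7_K ht_c7_cnt_L 0 0 :=
  Sym.prob hn hk ht_c7_sym ht_c7_cnt_EG_ok (grp_cons_le g36_TH (grp_cons_le g37_TH (grp_cons_le g38_TH (grp_cons_le g39_TH (grp_cons_le g40_TH (grp_cons_le g41_TH (grp_cons_le g42_TH (grp_cons_le g35_TH (grp_nil_le _))))))))) (Frames.cons TH_s0_F (Frames.cons TH_s2_F (Frames.cons TH_s3_F (Frames.cons TH_s4_F (Frames.cons TH_s26_F (Frames.cons TH_s27_F Frames.nil)))))) (okE_cons.2 ⟨g190_ok, okE_nil _⟩) _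

noncomputable def ht_c7_cnt_t : BT := (BT.frm (nat_lit 0) (nat_lit 0) (nat_lit 0) [] (BT.pln (nat_lit 0) (nat_lit 0) (BT.fix (nat_lit 1) (BT.dif (nat_lit 1) (nat_lit 0) (BT.br (nat_lit 0) (nat_lit 269) [nat_lit 1, nat_lit 3] (BT.kid (nat_lit 269) (nat_lit 1152) (BT.img (nat_lit 1) (nat_lit 0) (BT.frm (nat_lit 1) (nat_lit 0x203010d0f0f07) (nat_lit 0x203010d0f0f07) [nat_lit 0, nat_lit 1] (BT.pln (nat_lit 0) (nat_lit 3) (BT.and (nat_lit 4) (nat_lit 0) (BT.br (nat_lit 0) (nat_lit 4) [nat_lit 3, nat_lit 5] (BT.kid (nat_lit 4) (nat_lit 64) (BT.frm (nat_lit 2) (nat_lit 0x3060203010d0f0f07) (nat_lit 0x3060203010d0f0f07) [nat_lit 0, nat_lit 4, nat_lit 5] (BT.pln (nat_lit 0) (nat_lit 13) (BT.and (nat_lit 4) (nat_lit 0) (BT.br (nat_lit 0) (nat_lit 28) [nat_lit 5, nat_lit 11] (BT.kid (nat_lit 28) (nat_lit 8) (BT.pln (nat_lit 3) (nat_lit 3) (BT.frm (nat_lit 3) (nat_lit 0x3060203010d0f0f07) (nat_lit 0x3060203010d0f0f07) [nat_lit 1, nat_lit 5, nat_lit 9, nat_lit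 10] (BT.pln (nat_lit 0) (nat_lit 5) (BT.dif (nat_lit 2) (nat_lit 0) (BT.pln (nat_lit 2) (nat_lit 6) (BT.dif (nat_lit 1) (nat_lit 0) (BT.br (nat_lit 0) (nat_lit 203) [nat_lit 7, nat_lit 9] (BT.kid (nat_lit 203) (nat_lit 2) (BT.dif (nat_lit 23) (nat_lit 4) (BT.pln (nat_lit 6) (nat_lit 4) (BT.dif (nat_lit 1) (nat_lit 0) (BT.dif (nat_lit 0) (nat_lit 5) (BT.pln (nat_lit 9) (nat_lit 7) (BT.dif (nat_lit 1) (nat_lit 0) (BT.dif (nat_lit 0) (nat_lit 25) (BT.pln (nat_lit 12) (nat_lit 8) (BT.dif (nat_lit 1) (nat_lit 0) (BT.pln (nat_lit 14) (nat_lit 9) (BT.dif (nat_lit 1) (nat_lit 0) (BT.img (nat_lit 1) (nat_lit 11) (BT.frm (nat_lit 4) (nat_lit 0x903060203010d0f0f07) (nat_lit 0x903060203010d0f0f07) [nat_lit 0, nat_lit 12, nat_lit 19, nat_lit 23, nat_lit 27, nat_lit 28] (BT.pln (nat_lit 0) (nat_lit 8) (BT.dif (nat_lit 3) (nat_lit 0) (BT.pln (nat_lit 2) (nat_lit 6) (BT.dif (nat_lit 1) (nat_lit 0) (BT.br (nat_lit 0) (nat_lit 98) [nat_lit 11] (BT.kid (nat_lit 98)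 (nat_lit 1) (BT.one (nat_lit 5) (nat_lit 0x903060203010d0f0f07) (nat_lit 0x903060203010d0f0f07) [nat_lit 0, nat_lit 6, nat_lit 18, nat_lit 25, nat_lit 29, nat_lit 33, nat_lit 34]) BT.nil))))))))))))))))))) BT.nil)))))))) BT.nil))))) BT.nil)))))) BT.nil))))))

theorem ht_c7_cnt : Cnt 276 (grp 276 h_K) [g190] [g190] 0 0 0 0 23040 :=
  BT.sound ht_c7_cnt_P Known.nil (t := ht_c7_cnt_t) (d := 0) (by decide +kernel)

theorem ht_c7_ge : 23040 ≤ Nat.card (grp 276 ht_c7_K) :=
  Ch.le_card_grp (k := 9) (L := (lab 276 9)) hn ht_c7_K_ok (c := (Ch.cons (nat_lit 269) [nat_lit 1] (Ch.cons (nat_lit 4) [nat_lit 3] (Ch.cons (nat_lit 28) [nat_lit 5] (Ch.cons (nat_lit 203) [nat_lit 7, nat_lit 9] (Ch.cons (nat_lit 98) [nat_lit 11] Ch.nil)))))) (by decide +kernel)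

theorem ht_c7_eq : (grp 276 h_K) ⊓ Subgroup.centralizer {Net.toPerm 276 g190} = grp 276 ht_c7_K :=
  cent_eq ht_c7_sym ht_c7_cnt ht_c7_ge

theorem ht_c7_card : Nat.card ↥((grp 276 h_K) ⊓ Subgroup.centralizer {Net.toPerm 276 g190}) = 23040 :=
  card_cent ht_c7_sym ht_c7_cnt ht_c7_ge

theorem ht_c7_ord : orderOf (Net.toPerm 276 g190) = 4 :=
  orderOf_net hn hk g190_ok (by decide) (ps := [2]) (by set_option linter.unusedSimpArgs false in simp [Nat.primeFactorsList_ofNat]) (by decide +kernel)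

theorem le207 : grp 276 ht_c8_K ≤ grp 276 h_K :=
  grp_le_of_memB hn hk h_K_ok ht_c8_K_ok (ws := [nat_lit 0xf070d0507030503010104, nat_lit 0xd050305030d, nat_lit 0xf0d0b070907050305030d010505, nat_lit 0x90b070505070306010103, nat_lit 0xf0d0907070504050306010104, nat_lit 0xf0d0b07070504050306010104]) (by decide +kernel)

theorem ht_c8_le : grp 276 ht_c8_K ≤ (grp 276 h_K) :=
  (le207.trans TH_s0.le)

theorem ht_c8_mem : Net.toPerm 276 g200 ∈ (grp 276 h_K) :=
  ht_c8_le (mem_grp_of_memB hn hk ht_c8_K_ok g200_ok (w := (nat_lit 0x90b0505)) (by decide +kernel))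

theorem ht_c8_sym : Sym 276 (grp 276 h_K) [g200] ht_c8_K 0 :=
  Sym.of_lab hn hk (okE_cons.2 ⟨g200_ok, okE_nil _⟩) ht_c8_K_ok ht_c8_le (kT := 0) (by decide +kernel)

noncomputable def TH_s6_O : ℕ := (nat_lit 0xe0002008081004100000100000040400050009000000081020030100000000000008114fd9d97f6e7e26bfcfb43ce9c78b95ebaf6947f7dd80000000000a200230000003c319c94f56e6ab00cee617edccad62f90040084280822677e597ecfefb60230000003e8f7a1eeefa8e3b02249248e232213025ebad2d4c0802675eed79000a21ffbff00003090f00402107142c3db5cbdb8fb81d465f7f08623f6227f7c0007c78a29dff00bf80309d1a60b96b3dc375437e6d3c20670825c00de0bbc9f27f83dd87c86f61d24f0b87802927f1ff7597328e0506f3a00e355674d130c09b3398c5472e6e72e6ad18c3cce6660eba69382de60352211a4b9e068a6356a6becb4eeaa56972ca9ad49d4ca5496aad554a100000000000000000000000000000000000000000000000000000000000000000000000000000000000000000000000000000000000000000000000000000000000000010000000000000000000000000000000000000010000000000000000000000000000000000000000000000000000000000080000000000000000000000000000000000000000040000000000000000000000000000000000000000000000000000000000000000000000000000000000000000000100000000000000000000000000000000000000000000)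

theorem TH_s6_F : Frame 276 (grp 276 h_K) 6 14 TH_s6_O 0 1 :=
  Stab.frame hn TH_s6 (by decide +kernel)

noncomputable def ht_c8_cnt_L : List ℕ := [0, 1, TH_s0_O, 0, 0, 2, 5, TH_s2_O, 0, 0, 3, 15, TH_s3_O, 0, 0, 4, 10, TH_s4_O, 0, 0, 5, 12, TH_s5_O, 0, 0, 6, 14, TH_s6_O, 0, 0, 7, 11, TH_s7_O, 1, 0]

theorem ht_c8_cnt_P : Prob 276 9 (grp 276 h_K) ht_c8_cnt_EG [g200] [g200] ht_c8_K ht_c8_cnt_L 0 0 :=
  Sym.prob hn hk ht_c8_sym ht_c8_cnt_EG_ok (grp_cons_le g36_TH (grp_cons_le g37_TH (grp_cons_le g38_TH (grp_cons_le g39_TH (grp_cons_le g40_TH (grp_cons_le g41_TH (grp_cons_le g42_TH (grp_cons_le g35_TH (grp_nil_le _))))))))) (Frames.cons TH_s0_F (Frames.cons TH_s2_F (Frames.cons TH_s3_F (Frames.cons TH_s4_F (Frames.cons TH_s5_F (Frames.cons TH_s6_F (Frames.cons TH_s7_F Frames.nil))))))) (okE_cons.2 ⟨g200_ok, okE_nil _⟩) _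

noncomputable def ht_c8_cnt_t : BT := (BT.frm (nat_lit 0) (nat_lit 0) (nat_lit 0) [] (BT.pln (nat_lit 0) (nat_lit 0) (BT.fix (nat_lit 1) (BT.and (nat_lit 1) (nat_lit 0) (BT.br (nat_lit 0) (nat_lit 269) [nat_lit 1, nat_lit 3] (BT.kid (nat_lit 269) (nat_lit 192) (BT.dif (nat_lit 2) (nat_lit 0) (BT.br (nat_lit 0) (nat_lit 45) [nat_lit 3, nat_lit 5] (BT.dead (nat_lit 163) (BT.frm (nat_lit 1) (nat_lit 0x203010f0f07) (nat_lit 0x10302030f0f07) [nat_lit 0, nat_lit 2] (BT.pln (nat_lit 0) (nat_lit 3) (BT.and (nat_lit 0) (nat_lit 6) (BT.cnt (nat_lit 0))))) (BT.kid (nat_lit 45) (nat_lit 32) (BT.frm (nat_lit 1) (nat_lit 0x203010f0f07) (nat_lit 0x203010f0f07) [nat_lit 0, nat_lit 2] (BT.pln (nat_lit 0) (nat_lit 3) (BT.and (nat_lit 6) (nat_lit 0) (BT.br (nat_lit 0) (nat_lit 137) [] (BT.dead (nat_lit 163) (BT.frm (nat_lit 2) (nat_lit 0x4040203010f0f07) (nat_lit 0x306040203010f0f07) [nat_lit 0, nat_lit 4, nat_lit 6] (BT.pln (nat_lit 0) (nat_lit 10) (BT.and (nat_lit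 0) (nat_lit 10) (BT.cnt (nat_lit 0))))) (BT.kid (nat_lit 137) (nat_lit 32) (BT.frm (nat_lit 2) (nat_lit 0x4040203010f0f07) (nat_lit 0x4040203010f0f07) [nat_lit 0, nat_lit 4, nat_lit 6] (BT.pln (nat_lit 0) (nat_lit 13) (BT.and (nat_lit 4) (nat_lit 0) (BT.br (nat_lit 0) (nat_lit 42) [nat_lit 5, nat_lit 7] (BT.kid (nat_lit 42) (nat_lit 4) (BT.pln (nat_lit 3) (nat_lit 3) (BT.frm (nat_lit 3) (nat_lit 0x5070604040203010f0f07) (nat_lit 0x5070604040203010f0f07) [nat_lit 1, nat_lit 5, nat_lit 9, nat_lit 11] (BT.pln (nat_lit 0) (nat_lit 5) (BT.dif (nat_lit 2) (nat_lit 0) (BT.pln (nat_lit 2) (nat_lit 6) (BT.dif (nat_lit 1) (nat_lit 0) (BT.br (nat_lit 0) (nat_lit 228) [nat_lit 9, nat_lit 11] (BT.kid (nat_lit 228) (nat_lit 1) (BT.pln (nat_lit 10) (nat_lit 4) (BT.pln (nat_lit 6) (nat_lit 9) (BT.and (nat_lit 1) (nat_lit 0) (BT.pln (nat_lit 8) (nat_lit 4) (BT.and (nat_lit 1) (nat_lit 0) (BT.frm (nat_lit 4) (nat_lit 0x905070604040203010f0f07) (nat_lit 0x905070604040203010f0f07)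 [nat_lit 5, nat_lit 12, nat_lit 16, nat_lit 20, nat_lit 22] (BT.pln (nat_lit 0) (nat_lit 5) (BT.and (nat_lit 2) (nat_lit 0) (BT.and (nat_lit 7) (nat_lit 10) (BT.and (nat_lit 0) (nat_lit 5) (BT.img (nat_lit 1) (nat_lit 2) (BT.and (nat_lit 1) (nat_lit 0) (BT.pln (nat_lit 22) (nat_lit 6) (BT.dif (nat_lit 0) (nat_lit 15) (BT.pln (nat_lit 19) (nat_lit 7) (BT.dif (nat_lit 1) (nat_lit 0) (BT.pln (nat_lit 10) (nat_lit 6) (BT.dif (nat_lit 1) (nat_lit 0) (BT.and (nat_lit 5) (nat_lit 16) (BT.and (nat_lit 0) (nat_lit 21) (BT.and (nat_lit 0) (nat_lit 13) (BT.and (nat_lit 5) (nat_lit 4) (BT.img (nat_lit 1) (nat_lit 0) (BT.dif (nat_lit 2) (nat_lit 0) (BT.img (nat_lit 1) (nat_lit 0) (BT.and (nat_lit 7) (nat_lit 0) (BT.frm (nat_lit 5) (nat_lit 0xb0905070604040203010f0f07) (nat_lit 0xb0905070604040203010f0f07) [nat_lit 0, nat_lit 26, nat_lit 33, nat_lit 37, nat_lit 41, nat_lit 43] (BT.pln (nat_lit 0) (nat_lit 7) (BT.and (nat_lit 16) (nat_lit 0) (BT.img (nat_lit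 1) (nat_lit 0) (BT.and (nat_lit 22) (nat_lit 0) (BT.one (nat_lit 6) (nat_lit 0xd0b0905070604040203010f0f07) (nat_lit 0xd0b0905070604040203010f0f07) [nat_lit 0, nat_lit 5, nat_lit 31, nat_lit 38, nat_lit 42, nat_lit 46, nat_lit 48])))))))))))))))))))))))))))))))) BT.nil)))))))) BT.nil))))) BT.nil)))))) BT.nil)))) BT.nil))))))

theorem ht_c8_cnt : Cnt 276 (grp 276 h_K) [g200] [g200] 0 0 0 0 1536 :=
  BT.sound ht_c8_cnt_P Known.nil (t := ht_c8_cnt_t) (d := 0) (by decide +kernel)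

theorem ht_c8_ge : 1536 ≤ Nat.card (grp 276 ht_c8_K) :=
  Ch.le_card_grp (k := 9) (L := (lab 276 9)) hn ht_c8_K_ok (c := (Ch.cons (nat_lit 269) [nat_lit 1] (Ch.cons (nat_lit 45) [nat_lit 3] (Ch.cons (nat_lit 42) [nat_lit 5, nat_lit 7] (Ch.cons (nat_lit 228) [nat_lit 9, nat_lit 11] Ch.nil))))) (by decide +kernel)

theorem ht_c8_eq : (grp 276 h_K) ⊓ Subgroup.centralizer {Net.toPerm 276 g200} = grp 276 ht_c8_K :=
  cent_eq ht_c8_sym ht_c8_cnt ht_c8_ge

theorem ht_c8_card : Nat.card ↥((grp 276 h_K) ⊓ Subgroup.centralizer {Net.toPerm 276 g200}) = 1536 :=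
  card_cent ht_c8_sym ht_c8_cnt ht_c8_ge

theorem ht_c8_ord : orderOf (Net.toPerm 276 g200) = 4 :=
  orderOf_net hn hk g200_ok (by decide) (ps := [2]) (by set_option linter.unusedSimpArgs false in simp [Nat.primeFactorsList_ofNat]) (by decide +kernel)

theorem le213 : grp 276 ht_c9_K ≤ grp 276 h_K :=
  grp_le_of_memB hn hk h_K_ok ht_c9_K_ok (ws := [nat_lit 0xf0805070305040105, nat_lit 0xd0b05070305040105, nat_lit 0xf0d070905080604050306010101, nat_lit 0xf0d09070d05070d040505010101]) (by decide +kernel)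

theorem ht_c9_le : grp 276 ht_c9_K ≤ (grp 276 h_K) :=
  (le213.trans TH_s0.le)

theorem ht_c9_mem : Net.toPerm 276 g208 ∈ (grp 276 h_K) :=
  ht_c9_le (mem_grp_of_memB hn hk ht_c9_K_ok g208_ok (w := (nat_lit 0x3010301)) (by decide +kernel))

theorem ht_c9_sym : Sym 276 (grp 276 h_K) [g208] ht_c9_K 0 :=
  Sym.of_lab hn hk (okE_cons.2 ⟨g208_ok, okE_nil _⟩) ht_c9_K_ok ht_c9_le (kT := 0) (by decide +kernel)

theorem le219 : grp 276 V218 ≤ grp 276 V178 :=
  grp_le_of_memB hn hk V178_ok V218_ok (ws := [nat_lit 0x705010608, nat_lit 0x8090509010703, nat_lit 65795, nat_lit 0x50301050104]) (by decide +kernel)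

theorem TH_s28 : Stab 276 (grp 276 h_K) [nat_lit 244, nat_lit 228] V218 96 :=
  Stab.step (k := 9) (L := (lab 276 9)) hn TH_s21 V218_ok le219 (c := (Ch.cons (nat_lit 105) [nat_lit 1] (Ch.cons (nat_lit 41) [nat_lit 3] (Ch.cons (nat_lit 164) [nat_lit 5] (Ch.cons (nat_lit 167) [nat_lit 7] Ch.nil))))) (by decide +kernel)

theorem TH_s29 : Stab 276 (grp 276 h_K) [nat_lit 105, nat_lit 244, nat_lit 228] V220 8 :=
  Stab.step (k := 9) (L := (lab 276 9)) hn TH_s28 V220_ok (grp_mono (List.subset_append_right [g214] _)) (c := (Ch.cons (nat_lit 41) [nat_lit 1] (Ch.cons (nat_lit 164) [nat_lit 3] (Ch.cons (nat_lit 167) [nat_lit 5] Ch.nil)))) (by decide +kernel)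

theorem TH_s30 : Stab 276 (grp 276 h_K) [nat_lit 41, nat_lit 105, nat_lit 244, nat_lit 228] V221 4 :=
  Stab.step (k := 9) (L := (lab 276 9)) hn TH_s29 V221_ok (grp_mono (List.subset_append_right [g215] _)) (c := (Ch.cons (nat_lit 164) [nat_lit 1] (Ch.cons (nat_lit 167) [nat_lit 3] Ch.nil))) (by decide +kernel)

theorem TH_s31 : Stab 276 (grp 276 h_K) [nat_lit 164, nat_lit 41, nat_lit 105, nat_lit 244, nat_lit 228] V222 2 :=
  Stab.step (k := 9) (L := (lab 276 9)) hn TH_s30 V222_ok (grp_mono (List.subset_append_right [g216] _)) (c := (Ch.cons (nat_lit 167) [nat_lit 1] Ch.nil)) (by decide +kernel)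

theorem TH_s32 : Stab 276 (grp 276 h_K) [nat_lit 167, nat_lit 164, nat_lit 41, nat_lit 105, nat_lit 244, nat_lit 228] V223 1 :=
  Stab.step (k := 9) (L := (lab 276 9)) hn TH_s31 V223_ok (grp_mono (List.subset_append_right [g217] _)) (c := Ch.nil) (by decide +kernel)

theorem g214_TH : Net.toPerm 276 g214 ∈ (grp 276 h_K) :=
  TH_s28.le (toPerm_mem_grp (E := V218) (List.Mem.head _))

theorem g215_TH : Net.toPerm 276 g215 ∈ (grp 276 h_K) :=
  TH_s28.le (toPerm_mem_grp (E := V218) (List.Mem.tail _ (List.Mem.head _)))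

theorem g216_TH : Net.toPerm 276 g216 ∈ (grp 276 h_K) :=
  TH_s28.le (toPerm_mem_grp (E := V218) (List.Mem.tail _ (List.Mem.tail _ (List.Mem.head _))))

theorem g217_TH : Net.toPerm 276 g217 ∈ (grp 276 h_K) :=
  TH_s28.le (toPerm_mem_grp (E := V218) (List.Mem.tail _ (List.Mem.tail _ (List.Mem.tail _ (List.Mem.head _)))))

noncomputable def TH_s32_O : ℕ := (nat_lit 0x9993333366666ccccc99999b3333666664ccccd9999b3333266666ccccd9999933332c1f07c1f07c1f07c0f83e0f83e0f83e0f81f07c1f07c1f07c1f03e0f83e0f83e0f83e7319cc63398ce7319cc63398ce7319ce63398c67319ce63398c67319ce63398c6731826d926c93649b24db26d936c9b649b24d926d936c9b64db24d926c93649b64db26d92000000000001000000000000000000000000000000000000000000000000000000000000000010000000000000000000000000000000000000000000000000000000000000000000000000000000000000000000000000000000200000000000000000000000000000000000000000000000000000000000000000000000000000000000020000000000000000000000000000000000000100000000000000000000000000000000000000000000000000000000000000000000800000000000000000000000000000000000000000)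

theorem TH_s32_F : Frame 276 (grp 276 h_K) 6 10 TH_s32_O 1 1 :=
  IsBase.frame TH_s32.isBase (by decide +kernel)

noncomputable def TH_s30_O : ℕ := (nat_lit 0x40000000800a018000010a0010000002200000252480002804011000000200000055fb23b46724cd1aa34bc18454eae6ddca91a3d99104b7adcd5b1fc842100800020107f2276904562ff8fa970480f51b692b578444fb7410896c20000a024af56efddc20108a50f08e23006e4f23eaad22fb842fc3ac90f0e85483480f2ff9f0260f567d023fe103cadd652aa48a052f60cc888a73af830a334f7b8e882c04cfd200f36af9518fa3e1f015f82e2807c66e656068b571ba2ce8ee6252474ffb041c663a560cf63e934ae73198c2d410e52d56877c4b4029e13ddaf5b6f84537adaac4a3b2d94cfaab88b0a1496ab54a000000000001000000000000000000000000000000000000000000000000000000000000000010000000000000000000000000000000000000000000000000000000000000000000000000000000000000000000000000000000200000000000000000000000000000000000000000000000000000000000000000000000000000000000020000000000)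

theorem TH_s30_F : Frame 276 (grp 276 h_K) 4 11 TH_s30_O 0 1 :=
  Stab.frame hn TH_s30 (by decide +kernel)

noncomputable def TH_s29_O : ℕ := (nat_lit 0x40000000800a018000000a001000000200080024248000280401000300820020005ffa73940600280aa14b891f41f2a6cdaad7677a501031ed0c5bb4ad6f44254c0001025c9a322662699632a7bc4106ee87adf9212ba4c829e9a2fadeb0ec3c200d213fd0108d1072ecef267dda2fdc29b0b1296d847d83ca25d55d77004b10597d0f048203e0e70b2e9080661a27796228210d2568597412683dd446c5b6b41f14db72fbe723f719871c7b62a8e4b40628196f729a9c831195cc5c96c1cd2dc614a771ef51e28bd9eb19565ca000000000001000000000000000000000000000000000000000000000000000000000000000010000000000000000000000000000000000000000000000000000000000000000000000000000000000000000000000000000000200000000000000000000000000)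

theorem TH_s29_F : Frame 276 (grp 276 h_K) 3 9 TH_s29_O 0 1 :=
  Stab.frame hn TH_s29 (by decide +kernel)

noncomputable def TH_s28_O : ℕ := (nat_lit 0x2000000000000000000000000000000000000000000000000000000000000000000000000000000000000000000000080000000000000000000000000000000002200000100000000000020000001000000000000102000000000100014500000080000100001000000000000200020100000000010000000040000000000000001000000000880000010002000000400012002208000000000000000004000001220000000008000000044000800801200000100000080000000000000402100010000100a0000400080100600000800100840000000000c0100200204000003048200400000000004100020a0400002000000040000804080020040000200103008890000020820000002040241110001000800000010034010800440c23004000014c04008000c0400a400020003004400008800021220300000000600000100402800a002a00004501020040030802000000000000900c0410000800141008280000a490060280000010080810800c804408050000004020000408002614208004101000411004904000000008000041000000000001000000000000000000000000000000000000000000000000000000000000000010000000000000000000000000000000000000000000000000000000000000)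

theorem TH_s28_F : Frame 276 (grp 276 h_K) 2 14 TH_s28_O 0 1 :=
  Stab.frame hn TH_s28 (by decide +kernel)

noncomputable def ht_c9_cnt_L : List ℕ := [0, 1, TH_s0_O, 0, 0, 1, 4, TH_s21_O, 0, 0, 2, 14, TH_s28_O, 0, 0, 3, 9, TH_s29_O, 0, 0, 4, 11, TH_s30_O, 0, 0, 6, 10, TH_s32_O, 1, 0]

theorem ht_c9_cnt_P : Prob 276 9 (grp 276 h_K) ht_c9_cnt_EG [g208] [g208] ht_c9_K ht_c9_cnt_L 0 0 :=
  Sym.prob hn hk ht_c9_sym ht_c9_cnt_EG_ok (grp_cons_le g35_TH (grp_cons_le g36_TH (grp_cons_le g37_TH (grp_cons_le g38_TH (grp_cons_le g39_TH (grp_cons_le g40_TH (grp_cons_le g41_TH (grp_cons_le g42_TH (grp_cons_le g173_TH (grp_cons_le g174_TH (grp_cons_le g175_TH (grp_cons_le g176_TH (grp_cons_le g177_TH (grp_cons_le g214_TH (grp_cons_le g215_TH (grp_cons_le g216_TH (grp_cons_le g217_TH (grp_nil_le _)))))))))))))))))) (Frames.cons TH_s0_F (Frames.cons TH_s21_F (Frames.cons TH_s28_F (Frames.cons TH_s29_F (Frames.cons TH_s30_F (Frames.cons TH_s32_F Frames.nil))))))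 (okE_cons.2 ⟨g208_ok, okE_nil _⟩) _

noncomputable def ht_c9_cnt_t : BT := (BT.fix (nat_lit 257) (BT.frm (nat_lit 0) (nat_lit 0) (nat_lit 0) [] (BT.pln (nat_lit 0) (nat_lit 0) (BT.dif (nat_lit 2) (nat_lit 0) (BT.fix (nat_lit 1) (BT.dif (nat_lit 1) (nat_lit 0) (BT.br (nat_lit 0) (nat_lit 13) [nat_lit 1, nat_lit 3] (BT.kid (nat_lit 13) (nat_lit 48) (BT.frm (nat_lit 1) (nat_lit 265473) (nat_lit 265473) [nat_lit 0] (BT.pln (nat_lit 0) (nat_lit 1) (BT.dif (nat_lit 5) (nat_lit 0) (BT.dif (nat_lit 0) (nat_lit 3) (BT.pln (nat_lit 3) (nat_lit 3) (BT.dif (nat_lit 1) (nat_lit 0) (BT.br (nat_lit 0) (nat_lit 40) [nat_lit 3, nat_lit 7] (BT.kid (nat_lit 40) (nat_lit 8) (BT.frm (nat_lit 2) (nat_lit 0x1811040d01) (nat_lit 0x1811040d01) [nat_lit 0, nat_lit 7] (BT.pln (nat_lit 0) (nat_lit 9) (BT.dif (nat_lit 0) (nat_lit 15) (BT.br (nat_lit 0) (nat_lit 167) [nat_lit 5, nat_lit 7] (BT.kid (nat_lit 167) (nat_lit 1) (BT.dif (nat_lit 20) (nat_lit 9) (BT.dif (nat_lit 0)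 (nat_lit 16) (BT.frm (nat_lit 3) (nat_lit 0x1b1e1b1811040d01) (nat_lit 0x1b1e1b1811040d01) [nat_lit 2, nat_lit 6, nat_lit 13] (BT.pln (nat_lit 0) (nat_lit 6) (BT.and (nat_lit 2) (nat_lit 0) (BT.pln (nat_lit 2) (nat_lit 4) (BT.dif (nat_lit 1) (nat_lit 0) (BT.pln (nat_lit 4) (nat_lit 3) (BT.dif (nat_lit 1) (nat_lit 0) (BT.pln (nat_lit 6) (nat_lit 5) (BT.and (nat_lit 1) (nat_lit 0) (BT.dif (nat_lit 0) (nat_lit 17) (BT.pln (nat_lit 9) (nat_lit 7) (BT.and (nat_lit 11) (nat_lit 0) (BT.dif (nat_lit 0) (nat_lit 8) (BT.and (nat_lit 0) (nat_lit 11) (BT.img (nat_lit 1) (nat_lit 4) (BT.and (nat_lit 1) (nat_lit 0) (BT.img (nat_lit 1) (nat_lit 0) (BT.and (nat_lit 7) (nat_lit 0) (BT.pln (nat_lit 23) (nat_lit 7) (BT.dif (nat_lit 0) (nat_lit 13) (BT.and (nat_lit 1) (nat_lit 9) (BT.dif (nat_lit 0) (nat_lit 40) (BT.dif (nat_lit 3) (nat_lit 20) (BT.dif (nat_lit 0) (nat_lit 19) (BT.img (nat_lit 1) (nat_lit 0) (BT.and (nat_lit 3) (nat_lit 0) (BT.img (nat_lit 1) (nat_lit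 0) (BT.and (nat_lit 7) (nat_lit 0) (BT.frm (nat_lit 4) (nat_lit 0x1b1e1b1811040d01) (nat_lit 0x1b1e1b1811040d01) [nat_lit 0, nat_lit 30, nat_lit 34, nat_lit 41] (BT.pln (nat_lit 0) (nat_lit 7) (BT.dif (nat_lit 12) (nat_lit 0) (BT.and (nat_lit 12) (nat_lit 27) (BT.and (nat_lit 0) (nat_lit 24) (BT.dif (nat_lit 14) (nat_lit 52) (BT.dif (nat_lit 0) (nat_lit 26) (BT.dif (nat_lit 0) (nat_lit 31) (BT.img (nat_lit 1) (nat_lit 3) (BT.dif (nat_lit 1) (nat_lit 0) (BT.dif (nat_lit 0) (nat_lit 13) (BT.img (nat_lit 1) (nat_lit 0) (BT.dif (nat_lit 7) (nat_lit 0) (BT.one (nat_lit 5) (nat_lit 0x211f1b1e1b1811040d01) (nat_lit 0x211f1b1e1b1811040d01) [nat_lit 10, nat_lit 0, nat_lit 13, nat_lit 43, nat_lit 47, nat_lit 54])))))))))))))))))))))))))))))))))))))))))))) BT.nil))))) BT.nil)))))))) BT.nil))))))))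

theorem ht_c9_cnt : Cnt 276 (grp 276 h_K) [g208] [g208] 0 0 0 0 768 :=
  BT.sound ht_c9_cnt_P Known.nil (t := ht_c9_cnt_t) (d := 0) (by decide +kernel)

theorem ht_c9_ge : 768 ≤ Nat.card (grp 276 ht_c9_K) :=
  Ch.le_card_grp (k := 9) (L := (lab 276 9)) hn ht_c9_K_ok (c := (Ch.cons (nat_lit 13) [nat_lit 1] (Ch.cons (nat_lit 40) [nat_lit 3] (Ch.cons (nat_lit 167) [nat_lit 5, nat_lit 7] Ch.nil)))) (by decide +kernel)

theorem ht_c9_eq : (grp 276 h_K) ⊓ Subgroup.centralizer {Net.toPerm 276 g208} = grp 276 ht_c9_K :=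
  cent_eq ht_c9_sym ht_c9_cnt ht_c9_ge

theorem ht_c9_card : Nat.card ↥((grp 276 h_K) ⊓ Subgroup.centralizer {Net.toPerm 276 g208}) = 768 :=
  card_cent ht_c9_sym ht_c9_cnt ht_c9_ge

theorem ht_c9_ord : orderOf (Net.toPerm 276 g208) = 4 :=
  orderOf_net hn hk g208_ok (by decide) (ps := [2]) (by set_option linter.unusedSimpArgs false in simp [Nat.primeFactorsList_ofNat]) (by decide +kernel)

theorem le230 : grp 276 ht_c10_K ≤ grp 276 h_K :=
  grp_le_of_memB hn hk h_K_ok ht_c10_K_ok (ws := [nat_lit 0xd090b070705080503010307, nat_lit 0xf050804050501, nat_lit 0xd0907090805050503060204, nat_lit 0xf07090806080306060401090f, nat_lit 0xf090b0805070d040109]) (by decide +kernel)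

theorem ht_c10_le : grp 276 ht_c10_K ≤ (grp 276 h_K) :=
  (le230.trans TH_s0.le)

theorem ht_c10_mem : Net.toPerm 276 g224 ∈ (grp 276 h_K) :=
  ht_c10_le (mem_grp_of_memB hn hk ht_c10_K_ok g224_ok (w := (nat_lit 0x505010101)) (by decide +kernel))

theorem ht_c10_sym : Sym 276 (grp 276 h_K) [g224] ht_c10_K 0 :=
  Sym.of_lab hn hk (okE_cons.2 ⟨g224_ok, okE_nil _⟩) ht_c10_K_ok ht_c10_le (kT := 0) (by decide +kernel)

noncomputable def TH_s31_O : ℕ := (nat_lit 0x40000000800a238000010a00000000022008002524800028040000000000000000ddfa779cf526df49874de60d59b6ebfdcd98031f910db7be0000001102100820020106eabd1a8f300ef58864b7fca5f7eae002201e04048000041dd7f3fffff5008200201050cef694e74a41be37369103048855e51fd4bf7688000001dd7dbc110297fffdc20108951a52a16049c1409e566b0bf8001f75d23f0e15f8d9400fd6283ff0297fd223fe1074df776e0f6cda94c843f1dca47610ec5094072039de63e1f81f03d1f29780da3c1e0e4ff299450e22d3e496983ba14f0a4d3e8fbf4343151ab19e7183339cc065ae73198ca5b97e56d068bb602c605f078cac99a304e86afa7c4b1ad494d6aab4ab8d4c96ab54a000000000001000000000000000000000000000000000000000000000000000000000000000010000000000000000000000000000000000000000000000000000000000000000000000000000000000000000000000000000000200000000000000000000000000000000000000000000000000000000000000000000000000000000000020000000000000000000000000000000000000100000000000000000000000000000000000000000)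

theorem TH_s31_F : Frame 276 (grp 276 h_K) 5 13 TH_s31_O 0 1 :=
  Stab.frame hn TH_s31 (by decide +kernel)

noncomputable def ht_c10_cnt_L : List ℕ := [0, 1, TH_s0_O, 0, 0, 2, 14, TH_s28_O, 0, 0, 3, 9, TH_s29_O, 0, 0, 4, 11, TH_s30_O, 0, 0, 5, 13, TH_s31_O, 0, 0, 6, 10, TH_s32_O, 1, 0]

theorem ht_c10_cnt_P : Prob 276 9 (grp 276 h_K) ht_c10_cnt_EG [g224] [g224] ht_c10_K ht_c10_cnt_L 0 0 :=
  Sym.prob hn hk ht_c10_sym ht_c10_cnt_EG_ok (grp_cons_le g173_TH (grp_cons_le g174_TH (grp_cons_le g175_TH (grp_cons_le g176_TH (grp_cons_le g177_TH (grp_cons_le g35_TH (grp_cons_le g36_TH (grp_cons_le g37_TH (grp_cons_le g38_TH (grp_cons_le g39_TH (grp_cons_le g40_TH (grp_cons_le g41_TH (grp_cons_le g42_TH (grp_cons_le g214_TH (grp_cons_le g215_TH (grp_cons_le g216_TH (grp_cons_le g217_TH (grp_nil_le _)))))))))))))))))) (Frames.cons TH_s0_F (Frames.cons TH_s28_F (Frames.cons TH_s29_F (Frames.cons TH_s30_F (Frames.cons TH_s31_F (Frames.cons TH_s32_F Frames.nil))))))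 (okE_cons.2 ⟨g224_ok, okE_nil _⟩) _

noncomputable def ht_c10_cnt_t : BT := (BT.fix (nat_lit 257) (BT.frm (nat_lit 0) (nat_lit 0) (nat_lit 0) [] (BT.pln (nat_lit 0) (nat_lit 0) (BT.dif (nat_lit 2) (nat_lit 0) (BT.fix (nat_lit 1) (BT.dif (nat_lit 1) (nat_lit 0) (BT.br (nat_lit 0) (nat_lit 101) [nat_lit 1, nat_lit 3] (BT.kid (nat_lit 101) (nat_lit 96) (BT.dif (nat_lit 6) (nat_lit 2) (BT.dif (nat_lit 0) (nat_lit 5) (BT.dif (nat_lit 0) (nat_lit 2) (BT.img (nat_lit 1) (nat_lit 3) (BT.dif (nat_lit 1) (nat_lit 0) (BT.br (nat_lit 0) (nat_lit 189) [nat_lit 3, nat_lit 7] (BT.kid (nat_lit 189) (nat_lit 16) (BT.frm (nat_lit 1) (nat_lit 0x103090b0f) (nat_lit 0x103090b0f) [nat_lit 0, nat_lit 6] (BT.pln (nat_lit 0) (nat_lit 9) (BT.dif (nat_lit 0) (nat_lit 14) (BT.br (nat_lit 0) (nat_lit 156) [nat_lit 5] (BT.dead (nat_lit 70) (BT.frm (nat_lit 2) (nat_lit 0x1b0103090b0f) (nat_lit 0x1b200103090b0f) [nat_lit 0, nat_lit 4, nat_lit 10] (BT.pln (nat_lit 0) (nat_lit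 4) (BT.img (nat_lit 1) (nat_lit 2) (BT.and (nat_lit 1) (nat_lit 0) (BT.cnt (nat_lit 0)))))) (BT.kid (nat_lit 156) (nat_lit 4) (BT.pln (nat_lit 3) (nat_lit 7) (BT.frm (nat_lit 2) (nat_lit 0x1b0103090b0f) (nat_lit 0x1b0103090b0f) [nat_lit 1, nat_lit 5, nat_lit 11] (BT.pln (nat_lit 0) (nat_lit 3) (BT.dif (nat_lit 2) (nat_lit 0) (BT.br (nat_lit 0) (nat_lit 217) [nat_lit 7] (BT.kid (nat_lit 217) (nat_lit 2) (BT.dif (nat_lit 24) (nat_lit 2) (BT.pln (nat_lit 4) (nat_lit 6) (BT.and (nat_lit 1) (nat_lit 0) (BT.pln (nat_lit 6) (nat_lit 5) (BT.and (nat_lit 1) (nat_lit 0) (BT.pln (nat_lit 8) (nat_lit 4) (BT.dif (nat_lit 1) (nat_lit 0) (BT.pln (nat_lit 10) (nat_lit 7) (BT.dif (nat_lit 1) (nat_lit 0) (BT.dif (nat_lit 0) (nat_lit 30) (BT.frm (nat_lit 3) (nat_lit 0x1d1b0103090b0f) (nat_lit 0x1d1b0103090b0f) [nat_lit 10, nat_lit 15, nat_lit 19, nat_lit 25] (BT.pln (nat_lit 0) (nat_lit 7) (BT.dif (nat_lit 2) (nat_lit 0) (BT.img (nat_lit 1) (nat_lit 13) (BT.frm (nat_lit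 4) (nat_lit 0x1d1b0103090b0f) (nat_lit 0x1d1b0103090b0f) [nat_lit 0, nat_lit 14, nat_lit 19, nat_lit 23, nat_lit 29] (BT.pln (nat_lit 0) (nat_lit 5) (BT.and (nat_lit 3) (nat_lit 0) (BT.br (nat_lit 0) (nat_lit 255) [nat_lit 9] (BT.kid (nat_lit 255) (nat_lit 1) (BT.one (nat_lit 5) (nat_lit 0x1d1b0103090b0f) (nat_lit 0x1d1b0103090b0f) [nat_lit 0, nat_lit 4, nat_lit 18, nat_lit 23, nat_lit 27, nat_lit 33]) BT.nil))))))))))))))))))) BT.nil)))))) BT.nil)))))) BT.nil))))))) BT.nil))))))))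

theorem ht_c10_cnt : Cnt 276 (grp 276 h_K) [g224] [g224] 0 0 0 0 768 :=
  BT.sound ht_c10_cnt_P Known.nil (t := ht_c10_cnt_t) (d := 0) (by decide +kernel)

theorem ht_c10_ge : 768 ≤ Nat.card (grp 276 ht_c10_K) :=
  Ch.le_card_grp (k := 9) (L := (lab 276 9)) hn ht_c10_K_ok (c := (Ch.cons (nat_lit 101) [nat_lit 1] (Ch.cons (nat_lit 189) [nat_lit 3] (Ch.cons (nat_lit 156) [nat_lit 5] (Ch.cons (nat_lit 217) [nat_lit 7] (Ch.cons (nat_lit 255) [nat_lit 9] Ch.nil)))))) (by decide +kernel)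

theorem ht_c10_eq : (grp 276 h_K) ⊓ Subgroup.centralizer {Net.toPerm 276 g224} = grp 276 ht_c10_K :=
  cent_eq ht_c10_sym ht_c10_cnt ht_c10_ge

theorem ht_c10_card : Nat.card ↥((grp 276 h_K) ⊓ Subgroup.centralizer {Net.toPerm 276 g224}) = 768 :=
  card_cent ht_c10_sym ht_c10_cnt ht_c10_ge

theorem ht_c10_ord : orderOf (Net.toPerm 276 g224) = 4 :=
  orderOf_net hn hk g224_ok (by decide) (ps := [2]) (by set_option linter.unusedSimpArgs false in simp [Nat.primeFactorsList_ofNat]) (by decide +kernel)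

theorem le236 : grp 276 ht_c11_K ≤ grp 276 h_K :=
  grp_le_of_memB hn hk h_K_ok ht_c11_K_ok (ws := [nat_lit 0xf0d09080606040504, nat_lit 0xf070507070406070209, nat_lit 0xd070507070305010306, nat_lit 0xd0709050803050307010306, nat_lit 0xf05030606040106]) (by decide +kernel)

theorem ht_c11_le : grp 276 ht_c11_K ≤ (grp 276 h_K) :=
  (le236.trans TH_s0.le)

theorem ht_c11_mem : Net.toPerm 276 g231 ∈ (grp 276 h_K) :=
  ht_c11_le (toPerm_mem_grp (E := ht_c11_K) (List.Mem.tail _ (List.Mem.head _)))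

theorem ht_c11_sym : Sym 276 (grp 276 h_K) [g231] ht_c11_K 0 :=
  Sym.of_lab hn hk (okE_cons.2 ⟨g231_ok, okE_nil _⟩) ht_c11_K_ok ht_c11_le (kT := 0) (by decide +kernel)

theorem le238 : grp 276 V237 ≤ grp 276 V221 :=
  grp_le_of_memB hn hk V221_ok V237_ok (ws := []) (by decide +kernel)

theorem TH_s33 : Stab 276 (grp 276 h_K) [nat_lit 239, nat_lit 41, nat_lit 105, nat_lit 244, nat_lit 228] V237 1 :=
  Stab.step (k := 9) (L := (lab 276 9)) hn TH_s30 V237_ok le238 (c := Ch.nil) (by decide +kernel)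

noncomputable def TH_s33_O : ℕ := (nat_lit 0x9993333366666ccccc99999b3333666664ccccd9999b3333266666ccccd9999933332c1f07c1f07c1f07c0f83e0f83e0f83e0f81f07c1f07c1f07c1f03e0f83e0f83e0f83e7319cc63398ce7319cc63398ce7319ce63398c67319ce63398c67319ce63398c6731826d926c93649b24db26d936c9b649b24d926d936c9b64db24d926c93649b64db26d92000000000001000000000000000000000000000000000000000000000000000000000000000010000000000000000000000000000000000000000000000000000000000000000000000000000000000000000000000000000000200000000000000000000000000000000000000000000000000000000000000000000000000000000000020000000000000000000800000000000000000000000000000000000000000000000000000000000)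

theorem TH_s33_F : Frame 276 (grp 276 h_K) 5 9 TH_s33_O 1 1 :=
  IsBase.frame TH_s33.isBase (by decide +kernel)

noncomputable def ht_c11_cnt_L : List ℕ := [0, 1, TH_s0_O, 0, 0, 1, 4, TH_s21_O, 0, 0, 2, 14, TH_s28_O, 0, 0, 3, 9, TH_s29_O, 0, 0, 4, 11, TH_s30_O, 0, 0, 5, 9, TH_s33_O, 1, 0]

theorem ht_c11_cnt_P : Prob 276 9 (grp 276 h_K) ht_c11_cnt_EG [g231] [g231] ht_c11_K ht_c11_cnt_L 0 0 :=
  Sym.prob hn hk ht_c11_sym ht_c11_cnt_EG_ok (grp_cons_le g35_TH (grp_cons_le g36_TH (grp_cons_le g37_TH (grp_cons_le g38_TH (grp_cons_le g39_TH (grp_cons_le g40_TH (grp_cons_le g41_TH (grp_cons_le g42_TH (grp_cons_le g173_TH (grp_cons_le g174_TH (grp_cons_le g175_TH (grp_cons_le g176_TH (grp_cons_le g177_TH (grp_cons_le g214_TH (grp_cons_le g215_TH (grp_cons_le g216_TH (grp_cons_le g217_TH (grp_nil_le _)))))))))))))))))) (Frames.cons TH_s0_F (Frames.cons TH_s21_F (Frames.cons TH_s28_F (Frames.cons TH_s29_F (Frames.cons TH_s30_F (Frames.cons TH_s33_F Frames.nil))))))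 (okE_cons.2 ⟨g231_ok, okE_nil _⟩) _

noncomputable def ht_c11_cnt_t : BT := (BT.fix (nat_lit 1) (BT.frm (nat_lit 0) (nat_lit 0) (nat_lit 0) [] (BT.pln (nat_lit 0) (nat_lit 0) (BT.dif (nat_lit 2) (nat_lit 0) (BT.br (nat_lit 0) (nat_lit 32) [nat_lit 1] (BT.kid (nat_lit 32) (nat_lit 32) (BT.fix (nat_lit 257) (BT.dif (nat_lit 0) (nat_lit 3) (BT.frm (nat_lit 1) (nat_lit 770) (nat_lit 770) [nat_lit 2] (BT.pln (nat_lit 0) (nat_lit 1) (BT.dif (nat_lit 2) (nat_lit 0) (BT.dif (nat_lit 0) (nat_lit 9) (BT.br (nat_lit 0) (nat_lit 274) [nat_lit 5] (BT.kid (nat_lit 274) (nat_lit 8) (BT.dif (nat_lit 6) (nat_lit 3) (BT.dif (nat_lit 0) (nat_lit 10) (BT.dif (nat_lit 0) (nat_lit 13) (BT.frm (nat_lit 2) (nat_lit 0x1114110302) (nat_lit 0x1114110302) [nat_lit 3, nat_lit 10] (BT.pln (nat_lit 0) (nat_lit 9) (BT.and (nat_lit 2) (nat_lit 0) (BT.br (nat_lit 0) (nat_lit 167) [] (BT.dead (nat_lit 63) (BT.and (nat_lit 13) (nat_lit 10) (BT.pln (nat_lit 4) (nat_lit 6) (BT.dif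 (nat_lit 1) (nat_lit 0) (BT.frm (nat_lit 3) (nat_lit 0x1b201114110302) (nat_lit 0x1b1f1114110302) [nat_lit 3, nat_lit 10, nat_lit 17] (BT.pln (nat_lit 0) (nat_lit 3) (BT.dif (nat_lit 2) (nat_lit 0) (BT.br (nat_lit 0) (nat_lit 47) [nat_lit 7] (BT.dead (nat_lit 202) (BT.dif (nat_lit 28) (nat_lit 2) (BT.pln (nat_lit 4) (nat_lit 5) (BT.and (nat_lit 1) (nat_lit 0) (BT.pln (nat_lit 6) (nat_lit 4) (BT.dif (nat_lit 1) (nat_lit 0) (BT.pln (nat_lit 8) (nat_lit 6) (BT.dif (nat_lit 1) (nat_lit 0) (BT.dif (nat_lit 0) (nat_lit 30) (BT.frm (nat_lit 4) (nat_lit 0x1b201114110302) (nat_lit 0x1b1f1114110302) [nat_lit 8, nat_lit 15, nat_lit 22, nat_lit 29] (BT.pln (nat_lit 0) (nat_lit 5) (BT.dif (nat_lit 2) (nat_lit 0) (BT.br (nat_lit 0) (nat_lit 225) [nat_lit 10] (BT.dead (nat_lit 43) (BT.frm (nat_lit 5) (nat_lit 0x1b201114110302) (nat_lit 0x211b1f1114110302) [nat_lit 0, nat_lit 12, nat_lit 19, nat_lit 26, nat_lit 33] (BT.pln (nat_lit 0) (nat_lit 5) (BT.img (nat_lit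 1) (nat_lit 2) (BT.and (nat_lit 1) (nat_lit 0) (BT.cnt (nat_lit 0)))))) BT.nil))))))))))))) BT.nil)))))))) (BT.kid (nat_lit 167) (nat_lit 8) (BT.and (nat_lit 13) (nat_lit 10) (BT.pln (nat_lit 4) (nat_lit 6) (BT.dif (nat_lit 1) (nat_lit 0) (BT.frm (nat_lit 3) (nat_lit 0x1b201114110302) (nat_lit 0x1b201114110302) [nat_lit 3, nat_lit 10, nat_lit 17] (BT.pln (nat_lit 0) (nat_lit 3) (BT.dif (nat_lit 2) (nat_lit 0) (BT.br (nat_lit 0) (nat_lit 47) [nat_lit 7] (BT.kid (nat_lit 47) (nat_lit 4) (BT.dif (nat_lit 28) (nat_lit 2) (BT.pln (nat_lit 4) (nat_lit 5) (BT.and (nat_lit 1) (nat_lit 0) (BT.pln (nat_lit 6) (nat_lit 4) (BT.dif (nat_lit 1) (nat_lit 0) (BT.pln (nat_lit 8) (nat_lit 6) (BT.dif (nat_lit 1) (nat_lit 0) (BT.dif (nat_lit 0) (nat_lit 30) (BT.frm (nat_lit 4) (nat_lit 0x1b201114110302) (nat_lit 0x1b201114110302) [nat_lit 8, nat_lit 15, nat_lit 22, nat_lit 29] (BT.pln (nat_lit 0) (nat_lit 5) (BT.dif (nat_lit 2) (nat_lit 0) (BT.br (nat_lit 0) (nat_lit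 225) [nat_lit 9] (BT.kid (nat_lit 225) (nat_lit 1) (BT.one (nat_lit 5) (nat_lit 0x1b201114110302) (nat_lit 0x1b201114110302) [nat_lit 0, nat_lit 12, nat_lit 19, nat_lit 26, nat_lit 33]) BT.nil))))))))))))) BT.nil)))))))) BT.nil))))))))) BT.nil)))))))) BT.nil))))))

theorem ht_c11_cnt : Cnt 276 (grp 276 h_K) [g231] [g231] 0 0 0 0 128 :=
  BT.sound ht_c11_cnt_P Known.nil (t := ht_c11_cnt_t) (d := 0) (by decide +kernel)

theorem ht_c11_ge : 128 ≤ Nat.card (grp 276 ht_c11_K) :=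
  Ch.le_card_grp (k := 9) (L := (lab 276 9)) hn ht_c11_K_ok (c := (Ch.cons (nat_lit 32) [nat_lit 1] (Ch.cons (nat_lit 274) [nat_lit 3, nat_lit 5] (Ch.cons (nat_lit 47) [nat_lit 7] (Ch.cons (nat_lit 225) [nat_lit 9] Ch.nil))))) (by decide +kernel)

theorem ht_c11_eq : (grp 276 h_K) ⊓ Subgroup.centralizer {Net.toPerm 276 g231} = grp 276 ht_c11_K :=
  cent_eq ht_c11_sym ht_c11_cnt ht_c11_ge

theorem ht_c11_card : Nat.card ↥((grp 276 h_K) ⊓ Subgroup.centralizer {Net.toPerm 276 g231}) = 128 :=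
  card_cent ht_c11_sym ht_c11_cnt ht_c11_ge

theorem ht_c11_ord : orderOf (Net.toPerm 276 g231) = 4 :=
  orderOf_net hn hk g231_ok (by decide) (ps := [2]) (by set_option linter.unusedSimpArgs false in simp [Nat.primeFactorsList_ofNat]) (by decide +kernel)

theorem le242 : grp 276 ht_c12_K ≤ grp 276 h_K :=
  grp_le_of_memB hn hk h_K_ok ht_c12_K_ok (ws := [nat_lit 0x90b070907050707030606040209, nat_lit 0xd0b07050806040505010502, nat_lit 0xd0b0709070405030f, nat_lit 2315]) (by decide +kernel)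

theorem ht_c12_le : grp 276 ht_c12_K ≤ (grp 276 h_K) :=
  (le242.trans TH_s0.le)

theorem ht_c12_mem : Net.toPerm 276 g239 ∈ (grp 276 h_K) :=
  ht_c12_le (toPerm_mem_grp (E := ht_c12_K) (List.Mem.head _))

theorem ht_c12_sym : Sym 276 (grp 276 h_K) [g239] ht_c12_K 0 :=
  Sym.of_lab hn hk (okE_cons.2 ⟨g239_ok, okE_nil _⟩) ht_c12_K_ok ht_c12_le (kT := 0) (by decide +kernel)

theorem le246 : grp 276 V245 ≤ grp 276 V119 :=
  grp_le_of_memB hn hk V119_ok V245_ok (ws := [nat_lit 0x9070301, nat_lit 459521, nat_lit 773]) (by decide +kernel)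

theorem TH_s34 : Stab 276 (grp 276 h_K) [nat_lit 28, nat_lit 124, nat_lit 4, nat_lit 272] V245 16 :=
  Stab.step (k := 9) (L := (lab 276 9)) hn TH_s3 V245_ok le246 (c := (Ch.cons (nat_lit 99) [nat_lit 1] (Ch.cons (nat_lit 209) [nat_lit 3] (Ch.cons (nat_lit 168) [nat_lit 5] Ch.nil)))) (by decide +kernel)

theorem TH_s35 : Stab 276 (grp 276 h_K) [nat_lit 99, nat_lit 28, nat_lit 124, nat_lit 4, nat_lit 272] V247 4 :=
  Stab.step (k := 9) (L := (lab 276 9)) hn TH_s34 V247_ok (grp_mono (List.subset_append_right [g243] _)) (c := (Ch.cons (nat_lit 209) [nat_lit 1] (Ch.cons (nat_lit 168) [nat_lit 3] Ch.nil))) (by decide +kernel)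

theorem TH_s36 : Stab 276 (grp 276 h_K) [nat_lit 209, nat_lit 99, nat_lit 28, nat_lit 124, nat_lit 4, nat_lit 272] V248 2 :=
  Stab.step (k := 9) (L := (lab 276 9)) hn TH_s35 V248_ok (grp_mono (List.subset_append_right [g244] _)) (c := (Ch.cons (nat_lit 168) [nat_lit 1] Ch.nil)) (by decide +kernel)

theorem TH_s37 : Stab 276 (grp 276 h_K) [nat_lit 168, nat_lit 209, nat_lit 99, nat_lit 28, nat_lit 124, nat_lit 4, nat_lit 272] V249 1 :=
  Stab.step (k := 9) (L := (lab 276 9)) hn TH_s36 V249_ok (grp_mono (List.subset_append_right [n_t] _)) (c := Ch.nil) (by decide +kernel)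

theorem g243_TH : Net.toPerm 276 g243 ∈ (grp 276 h_K) :=
  TH_s34.le (toPerm_mem_grp (E := V245) (List.Mem.head _))

theorem g244_TH : Net.toPerm 276 g244 ∈ (grp 276 h_K) :=
  TH_s34.le (toPerm_mem_grp (E := V245) (List.Mem.tail _ (List.Mem.head _)))

noncomputable def TH_s37_O : ℕ := (nat_lit 0x9993333366666ccccc99999b3333666664ccccd9999b3333266666ccccd9999933332c1f07c1f07c1f07c0f83e0f83e0f83e0f81f07c1f07c1f07c1f03e0f83e0f83e0f83e7319cc63398ce7319cc63398ce7319ce63398c67319ce63398c67319ce63398c6731826d926c93649b24db26d936c9b649b24d926d936c9b64db24d926c93649b64db26d92100000000000000000000000000000000000000000000000000000000000000000000000000000000000000000000000000000000000000000000000000000000000000010000000000000000000000000000000000000010000000000000000000000000000000000000000000000000000000000000000000000000000000000000000000010000000000000000000000000000000000000000000000000008000000000000000000000000000000000000000020000000000000000000000000000000000000000000000000000000000000000000000000000001000000000000000000000000000000000000000000)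

theorem TH_s37_F : Frame 276 (grp 276 h_K) 7 11 TH_s37_O 1 1 :=
  IsBase.frame TH_s37.isBase (by decide +kernel)

noncomputable def TH_s36_O : ℕ := (nat_lit 0x23450000008800210004510080080120022002010000000000000000000000000000cdc1a6f4de7347f98f61b2eb23e75ba82f913a5eeffe4d5e001000010244200001000c84aa4af66e70349c77d3a6cf3ca396d7804040100112021fff7cffff74420000100026f4f6f3d4e66e0d007e80079414420455d9361eec110221fdf7f0010afffafd81000c9880b149099a8b65a17f77633492040459136d103de70a1ff183df90addfe027fa0087e3862dd56ca072961312ed4c1ff916c695440f83f12fc1e0fc1d87caa984f2785e0e45604a5fb1feb38c098568a7e0e926815e2fccc633c3e3998db3e6630cc50ce6618caf50e323851b2f638a9cd14179aa0e7567342a2b4aba1b9556aa8b55acf368a954d4a100000000000000000000000000000000000000000000000000000000000000000000000000000000000000000000000000000000000000000000000000000000000000010000000000000000000000000000000000000010000000000000000000000000000000000000000000000000000000000000000000000000000000000000000000010000000000000000000000000000000000000000000000000008000000000000000000000000000000000000000020000000000000000000000000000000000000000000000000000)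

theorem TH_s36_F : Frame 276 (grp 276 h_K) 6 14 TH_s36_O 0 1 :=
  Stab.frame hn TH_s36 (by decide +kernel)

noncomputable def TH_s35_O : ℕ := (nat_lit 0x23010000008800230004110080000120022002000100000001000010004200000000884e627fb08747714f6db6e6f16ceba04e901254ff06250677c2cebe7240000001000618442948813aafc8e13aeec36f7db0136590654d3ce472db801300007fadafd810004cc4eb2394976b87840ecd01a30ec17154950aafb03878b04ddbfd4187d8de027fa00823d709009f461fb496e7d080450baf0d9046451732f4aeacf4f11f883eca4f2795e0e8c6443ec99a6ba26495fa23cf6123a60745feb272795b1f852ce0a6c38470ce6618c26e343e78b0c489aa5942b9600cea78c6f35386d750457fb6ef89b92a17e48a954d4a100000000000000000000000000000000000000000000000000000000000000000000000000000000000000000000000000000000000000000000000000000000000000010000000000000000000000000000000000000010000000000000000000000000000000000000000000000000000000000000000000000000000000000000000000010000000000000000000000000000000000000000000000000008000000000000000000000000)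

theorem TH_s35_F : Frame 276 (grp 276 h_K) 5 12 TH_s35_O 0 1 :=
  Stab.frame hn TH_s35 (by decide +kernel)

noncomputable def ht_c12_cnt_L : List ℕ := [0, 1, TH_s0_O, 0, 0, 2, 5, TH_s2_O, 0, 0, 3, 15, TH_s3_O, 0, 0, 5, 12, TH_s35_O, 0, 0, 6, 14, TH_s36_O, 0, 0, 7, 11, TH_s37_O, 1, 0]

theorem ht_c12_cnt_P : Prob 276 9 (grp 276 h_K) ht_c12_cnt_EG [g239] [g239] ht_c12_K ht_c12_cnt_L 0 0 :=
  Sym.prob hn hk ht_c12_sym ht_c12_cnt_EG_ok (grp_cons_le g36_TH (grp_cons_le g37_TH (grp_cons_le g38_TH (grp_cons_le g39_TH (grp_cons_le g40_TH (grp_cons_le g41_TH (grp_cons_le g42_TH (grp_cons_le g35_TH (grp_cons_le g243_TH (grp_cons_le g244_TH (grp_cons_le n_t_TH (grp_nil_le _)))))))))))) (Frames.cons TH_s0_F (Frames.cons TH_s2_F (Frames.cons TH_s3_F (Frames.cons TH_s35_F (Frames.cons TH_s36_F (Frames.cons TH_s37_F Frames.nil)))))) (okE_cons.2 ⟨g239_ok, okE_nil _⟩) _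

noncomputable def ht_c12_cnt_t : BT := (BT.frm (nat_lit 0) (nat_lit 0) (nat_lit 0) [] (BT.pln (nat_lit 0) (nat_lit 0) (BT.fix (nat_lit 1) (BT.dif (nat_lit 1) (nat_lit 0) (BT.br (nat_lit 0) (nat_lit 99) [nat_lit 3] (BT.dead (nat_lit 33) (BT.frm (nat_lit 1) (nat_lit 0x1030104101003) (nat_lit 0x20501101003) [nat_lit 0, nat_lit 2] (BT.pln (nat_lit 0) (nat_lit 3) (BT.img (nat_lit 1) (nat_lit 2) (BT.and (nat_lit 1) (nat_lit 0) (BT.cnt (nat_lit 0)))))) (BT.dead (nat_lit 133) (BT.frm (nat_lit 1) (nat_lit 0x1030104101003) (nat_lit 0x205101003) [nat_lit 0, nat_lit 2] (BT.pln (nat_lit 0) (nat_lit 3) (BT.img (nat_lit 1) (nat_lit 2) (BT.and (nat_lit 1) (nat_lit 0) (BT.cnt (nat_lit 0)))))) (BT.kid (nat_lit 99) (nat_lit 4) (BT.img (nat_lit 1) (nat_lit 0) (BT.frm (nat_lit 2) (nat_lit 0x401030104101003) (nat_lit 0x401030104101003) [nat_lit 0, nat_lit 1, nat_lit 3] (BT.pln (nat_lit 0) (nat_lit 11) (BT.and (nat_lit 6) (nat_lit 0) (BT.img (nat_lit 1) (nat_lit 3)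 (BT.dif (nat_lit 1) (nat_lit 0) (BT.img (nat_lit 1) (nat_lit 1) (BT.frm (nat_lit 3) (nat_lit 0x5050401030104101003) (nat_lit 0x5050401030104101003) [nat_lit 0, nat_lit 2, nat_lit 6, nat_lit 7, nat_lit 9] (BT.pln (nat_lit 0) (nat_lit 5) (BT.and (nat_lit 3) (nat_lit 0) (BT.pln (nat_lit 2) (nat_lit 7) (BT.dif (nat_lit 1) (nat_lit 0) (BT.br (nat_lit 0) (nat_lit 231) [nat_lit 5] (BT.kid (nat_lit 231) (nat_lit 2) (BT.pln (nat_lit 5) (nat_lit 9) (BT.and (nat_lit 3) (nat_lit 0) (BT.dif (nat_lit 0) (nat_lit 6) (BT.pln (nat_lit 8) (nat_lit 6) (BT.dif (nat_lit 1) (nat_lit 0) (BT.pln (nat_lit 10) (nat_lit 8) (BT.dif (nat_lit 1) (nat_lit 0) (BT.pln (nat_lit 12) (nat_lit 10) (BT.dif (nat_lit 1) (nat_lit 0) (BT.frm (nat_lit 4) (nat_lit 0x5050401030104101003) (nat_lit 0x5050401030104101003) [nat_lit 9, nat_lit 15, nat_lit 17, nat_lit 21, nat_lit 22, nat_lit 24] (BT.pln (nat_lit 0) (nat_lit 7) (BT.dif (nat_lit 2) (nat_lit 0) (BT.br (nat_lit 0) (nat_lit 35) [nat_lit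 7] (BT.kid (nat_lit 35) (nat_lit 1) (BT.one (nat_lit 5) (nat_lit 0x5050401030104101003) (nat_lit 0x5050401030104101003) [nat_lit 0, nat_lit 13, nat_lit 19, nat_lit 21, nat_lit 25, nat_lit 26, nat_lit 28]) BT.nil)))))))))))))) BT.nil)))))))))))))) BT.nil))))))))

theorem ht_c12_cnt : Cnt 276 (grp 276 h_K) [g239] [g239] 0 0 0 0 60 :=
  BT.sound ht_c12_cnt_P Known.nil (t := ht_c12_cnt_t) (d := 0) (by decide +kernel)

theorem ht_c12_ge : 60 ≤ Nat.card (grp 276 ht_c12_K) :=
  Ch.le_card_grp (k := 9) (L := (lab 276 9)) hn ht_c12_K_ok (c := (Ch.cons (nat_lit 99) [nat_lit 1, nat_lit 3] (Ch.cons (nat_lit 231) [nat_lit 5] (Ch.cons (nat_lit 35) [nat_lit 7] Ch.nil)))) (by decide +kernel)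

theorem ht_c12_eq : (grp 276 h_K) ⊓ Subgroup.centralizer {Net.toPerm 276 g239} = grp 276 ht_c12_K :=
  cent_eq ht_c12_sym ht_c12_cnt ht_c12_ge

theorem ht_c12_card : Nat.card ↥((grp 276 h_K) ⊓ Subgroup.centralizer {Net.toPerm 276 g239}) = 60 :=
  card_cent ht_c12_sym ht_c12_cnt ht_c12_ge

theorem ht_c12_ord : orderOf (Net.toPerm 276 g239) = 5 :=
  orderOf_net hn hk g239_ok (by decide) (ps := [5]) (by set_option linter.unusedSimpArgs false in simp [Nat.primeFactorsList_ofNat]) (by decide +kernel)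

theorem le256 : grp 276 ht_c13_K ≤ grp 276 h_K :=
  grp_le_of_memB hn hk h_K_ok ht_c13_K_ok (ws := [nat_lit 0xf07090805040604070103, nat_lit 0xb07090606040503010502, nat_lit 0xf09070705070704050105, nat_lit 0xf0d09070907060405010505, nat_lit 0xd090b07090705050d0405010505, nat_lit 2315]) (by decide +kernel)

theorem ht_c13_le : grp 276 ht_c13_K ≤ (grp 276 h_K) :=
  (le256.trans TH_s0.le)

theorem ht_c13_mem : Net.toPerm 276 g250 ∈ (grp 276 h_K) :=
  ht_c13_le (mem_grp_of_memB hn hk ht_c13_K_ok g250_ok (w := (nat_lit 0x8050805)) (by decide +kernel))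

theorem ht_c13_sym : Sym 276 (grp 276 h_K) [g250] ht_c13_K 0 :=
  Sym.of_lab hn hk (okE_cons.2 ⟨g250_ok, okE_nil _⟩) ht_c13_K_ok ht_c13_le (kT := 0) (by decide +kernel)

noncomputable def ht_c13_cnt_L : List ℕ := [0, 1, TH_s0_O, 0, 0, 2, 5, TH_s2_O, 0, 0, 3, 10, TH_s15_O, 0, 0, 4, 21, TH_s16_O, 0, 0, 5, 10, TH_s17_O, 0, 0, 7, 15, TH_s19_O, 0, 0, 8, 12, TH_s20_O, 1, 0]

theorem ht_c13_cnt_P : Prob 276 9 (grp 276 h_K) ht_c13_cnt_EG [g250] [g250] ht_c13_K ht_c13_cnt_L 0 0 :=
  Sym.prob hn hk ht_c13_sym ht_c13_cnt_EG_ok (grp_cons_le g36_TH (grp_cons_le g37_TH (grp_cons_le g38_TH (grp_cons_le g39_TH (grp_cons_le g40_TH (grp_cons_le g41_TH (grp_cons_le g42_TH (grp_cons_le g35_TH (grp_cons_le g155_TH (grp_cons_le g156_TH (grp_cons_le g157_TH (grp_cons_le g130_TH (grp_cons_le n_t_TH (grp_nil_le _)))))))))))))) (Frames.cons TH_s0_F (Frames.cons TH_s2_F (Frames.cons TH_s15_F (Frames.cons TH_s16_F (Frames.cons TH_s17_F (Frames.cons TH_s19_F (Frames.cons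 TH_s20_F Frames.nil))))))) (okE_cons.2 ⟨g250_ok, okE_nil _⟩) _

noncomputable def ht_c13_cnt_t : BT := (BT.frm (nat_lit 0) (nat_lit 0) (nat_lit 0) [] (BT.pln (nat_lit 0) (nat_lit 0) (BT.fix (nat_lit 1) (BT.and (nat_lit 1) (nat_lit 0) (BT.br (nat_lit 0) (nat_lit 265) [nat_lit 1, nat_lit 3] (BT.kid (nat_lit 265) (nat_lit 720) (BT.dif (nat_lit 2) (nat_lit 0) (BT.br (nat_lit 0) (nat_lit 4) [nat_lit 3, nat_lit 5] (BT.kid (nat_lit 4) (nat_lit 144) (BT.frm (nat_lit 1) (nat_lit 0x1040f0f03) (nat_lit 0x1040f0f03) [nat_lit 0, nat_lit 2] (BT.pln (nat_lit 0) (nat_lit 4) (BT.and (nat_lit 7) (nat_lit 0) (BT.dif (nat_lit 0) (nat_lit 7) (BT.br (nat_lit 0) (nat_lit 152) [nat_lit 5] (BT.kid (nat_lit 152) (nat_lit 12) (BT.img (nat_lit 1) (nat_lit 0) (BT.frm (nat_lit 3) (nat_lit 0x1201040f0f03) (nat_lit 0x1201040f0f03) [nat_lit 0, nat_lit 1, nat_lit 6, nat_lit 8] (BT.pln (nat_lit 0) (nat_lit 16) (BT.and (nat_lit 6) (nat_lit 0) (BT.br (nat_lit 0) (nat_lit 104) [nat_lit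 7] (BT.kid (nat_lit 104) (nat_lit 4) (BT.dif (nat_lit 2) (nat_lit 0) (BT.br (nat_lit 0) (nat_lit 227) [nat_lit 9] (BT.kid (nat_lit 227) (nat_lit 2) (BT.frm (nat_lit 2) (nat_lit 0x1040f0f03) (nat_lit 0x1040f0f03) [nat_lit 7, nat_lit 12, nat_lit 14] (BT.pln (nat_lit 0) (nat_lit 3) (BT.img (nat_lit 1) (nat_lit 0) (BT.dif (nat_lit 0) (nat_lit 1) (BT.img (nat_lit 1) (nat_lit 10) (BT.frm (nat_lit 4) (nat_lit 0x131201040f0f03) (nat_lit 0x131201040f0f03) [nat_lit 0, nat_lit 11, nat_lit 12, nat_lit 17, nat_lit 19] (BT.pln (nat_lit 0) (nat_lit 7) (BT.dif (nat_lit 3) (nat_lit 0) (BT.frm (nat_lit 5) (nat_lit 0x131201040f0f03) (nat_lit 0x131201040f0f03) [nat_lit 8, nat_lit 10, nat_lit 3, nat_lit 14, nat_lit 15, nat_lit 20, nat_lit 22] (BT.pln (nat_lit 0) (nat_lit 7) (BT.dif (nat_lit 2) (nat_lit 0) (BT.br (nat_lit 0) (nat_lit 11) [nat_lit 11] (BT.kid (nat_lit 11) (nat_lit 1) (BT.one (nat_lit 6) (nat_lit 0x19131201040f0f03) (nat_lit 0x19131201040f0f03) [nat_lit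 0, nat_lit 12, nat_lit 14, nat_lit 7, nat_lit 18, nat_lit 19, nat_lit 24, nat_lit 26]) BT.nil))))))))))))) BT.nil))) BT.nil)))))) BT.nil)))))) BT.nil))) BT.nil))))))

theorem ht_c13_cnt : Cnt 276 (grp 276 h_K) [g250] [g250] 0 0 0 0 4320 :=
  BT.sound ht_c13_cnt_P Known.nil (t := ht_c13_cnt_t) (d := 0) (by decide +kernel)

theorem ht_c13_ge : 4320 ≤ Nat.card (grp 276 ht_c13_K) :=
  Ch.le_card_grp (k := 9) (L := (lab 276 9)) hn ht_c13_K_ok (c := (Ch.cons (nat_lit 265) [nat_lit 1] (Ch.cons (nat_lit 4) [nat_lit 3] (Ch.cons (nat_lit 152) [nat_lit 5] (Ch.cons (nat_lit 104) [nat_lit 7] (Ch.cons (nat_lit 227) [nat_lit 9] (Ch.cons (nat_lit 11) [nat_lit 11] Ch.nil))))))) (by decide +kernel)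

theorem ht_c13_eq : (grp 276 h_K) ⊓ Subgroup.centralizer {Net.toPerm 276 g250} = grp 276 ht_c13_K :=
  cent_eq ht_c13_sym ht_c13_cnt ht_c13_ge

theorem ht_c13_card : Nat.card ↥((grp 276 h_K) ⊓ Subgroup.centralizer {Net.toPerm 276 g250}) = 4320 :=
  card_cent ht_c13_sym ht_c13_cnt ht_c13_ge

theorem ht_c13_ord : orderOf (Net.toPerm 276 g250) = 6 :=
  orderOf_net hn hk g250_ok (by decide) (ps := [2, 3]) (by set_option linter.unusedSimpArgs false in simp [Nat.primeFactorsList_ofNat]) (by decide +kernel)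

theorem le264 : grp 276 ht_c14_K ≤ grp 276 h_K :=
  grp_le_of_memB hn hk h_K_ok ht_c14_K_ok (ws := [nat_lit 0xf0d0907090508030606040105, nat_lit 0xf0d09070903050307020d, nat_lit 0xb0709070507030606040209, nat_lit 0x806080306010108, nat_lit 0xf0b05050306010101, nat_lit 0xb070d05070d0305030207]) (by decide +kernel)

theorem ht_c14_le : grp 276 ht_c14_K ≤ (grp 276 h_K) :=
  (le264.trans TH_s0.le)

theorem ht_c14_mem : Net.toPerm 276 g257 ∈ (grp 276 h_K) :=
  ht_c14_le (mem_grp_of_memB hn hk ht_c14_K_ok g257_ok (w := (nat_lit 0xc090709010101)) (by decide +kernel))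

theorem ht_c14_sym : Sym 276 (grp 276 h_K) [g257] ht_c14_K 0 :=
  Sym.of_lab hn hk (okE_cons.2 ⟨g257_ok, okE_nil _⟩) ht_c14_K_ok ht_c14_le (kT := 0) (by decide +kernel)

theorem le267 : grp 276 V266 ≤ grp 276 V182 :=
  grp_le_of_memB hn hk V182_ok V266_ok (ws := [nat_lit 2]) (by decide +kernel)

theorem TH_s38 : Stab 276 (grp 276 h_K) [nat_lit 178, nat_lit 12, nat_lit 257, nat_lit 39, nat_lit 228] V266 3 :=
  Stab.step (k := 9) (L := (lab 276 9)) hn TH_s24 V266_ok le267 (c := (Ch.cons (nat_lit 157) [nat_lit 1] Ch.nil)) (by decide +kernel)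

theorem TH_s39 : Stab 276 (grp 276 h_K) [nat_lit 157, nat_lit 178, nat_lit 12, nat_lit 257, nat_lit 39, nat_lit 228] V268 1 :=
  Stab.step (k := 9) (L := (lab 276 9)) hn TH_s38 V268_ok (grp_mono (List.subset_append_right [g265] _)) (c := Ch.nil) (by decide +kernel)

theorem g265_TH : Net.toPerm 276 g265 ∈ (grp 276 h_K) :=
  TH_s38.le (toPerm_mem_grp (E := V266) (List.Mem.head _))

noncomputable def TH_s39_O : ℕ := (nat_lit 0x9993333366666ccccc99999b3333666664ccccd9999b3333266666ccccd9999933332c1f07c1f07c1f07c0f83e0f83e0f83e0f81f07c1f07c1f07c1f03e0f83e0f83e0f83e7319cc63398ce7319cc63398ce7319ce63398c67319ce63398c67319ce63398c6731826d926c93649b24db26d936c9b649b24d926d936c9b64db24d926c93649b64db26d92000000000001000000000000000000000000000000000000000000000000000000000000000000000000000000000000000000000000000000000000000000008000000000000020000000000000000000000000000000000000000000000000000000000000000000000000000000000000000000000000000000000000000000000000000000001000000000000000000000000000400000000000000000000000000000000000000000000000000000000000000000000000002000000000000000000000000000000000000000)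

theorem TH_s39_F : Frame 276 (grp 276 h_K) 6 10 TH_s39_O 1 1 :=
  IsBase.frame TH_s39.isBase (by decide +kernel)

noncomputable def ht_c14_cnt_L : List ℕ := [0, 1, TH_s0_O, 0, 0, 1, 4, TH_s21_O, 0, 0, 2, 13, TH_s22_O, 0, 0, 3, 19, TH_s23_O, 0, 0, 4, 11, TH_s24_O, 0, 0, 6, 10, TH_s39_O, 1, 0]

theorem ht_c14_cnt_P : Prob 276 9 (grp 276 h_K) ht_c14_cnt_EG [g257] [g257] ht_c14_K ht_c14_cnt_L 0 0 :=
  Sym.prob hn hk ht_c14_sym ht_c14_cnt_EG_ok (grp_cons_le g35_TH (grp_cons_le g36_TH (grp_cons_le g37_TH (grp_cons_le g38_TH (grp_cons_le g39_TH (grp_cons_le g40_TH (grp_cons_le g41_TH (grp_cons_le g42_TH (grp_cons_le g173_TH (grp_cons_le g174_TH (grp_cons_le g175_TH (grp_cons_le g176_TH (grp_cons_le g177_TH (grp_cons_le g265_TH (grp_nil_le _))))))))))))))) (Frames.cons TH_s0_F (Frames.cons TH_s21_F (Frames.cons TH_s22_F (Frames.cons TH_s23_F (Frames.cons TH_s24_F (Frames.cons TH_s39_F Frames.nil)))))) (okE_cons.2 ⟨g257_ok, okE_nil _⟩) _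

noncomputable def ht_c14_cnt_t : BT := (BT.fix (nat_lit 257) (BT.br (nat_lit 0) (nat_lit 261) [nat_lit 1] (BT.kid (nat_lit 261) (nat_lit 216) (BT.frm (nat_lit 1) (nat_lit 200450) (nat_lit 200450) [nat_lit 0] (BT.pln (nat_lit 0) (nat_lit 1) (BT.and (nat_lit 3) (nat_lit 0) (BT.br (nat_lit 0) (nat_lit 114) [nat_lit 3] (BT.dead (nat_lit 257) (BT.frm (nat_lit 2) (nat_lit 0x1114111315030f02) (nat_lit 0x111519030f02) [nat_lit 0, nat_lit 4] (BT.pln (nat_lit 0) (nat_lit 10) (BT.and (nat_lit 7) (nat_lit 0) (BT.br (nat_lit 0) (nat_lit 212) [nat_lit 0x7090c0503] (BT.dead (nat_lit 114) (BT.frm (nat_lit 0) (nat_lit 0) (nat_lit 0) [] (BT.pln (nat_lit 0) (nat_lit 0) (BT.frm (nat_lit 3) (nat_lit 0x131114111315030f02) (nat_lit 0x111519030f02) [nat_lit 2, nat_lit 6, nat_lit 10] (BT.pln (nat_lit 0) (nat_lit 13) (BT.and (nat_lit 2) (nat_lit 0) (BT.br (nat_lit 0) (nat_lit 133) [nat_lit 723207, nat_lit 12] (BT.dead (nat_lit 33) (BT.frm (nat_lit 4) (nat_lit 0x131114111315030f02)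 (nat_lit 0x1519111519030f02) [nat_lit 0, nat_lit 6, nat_lit 10, nat_lit 14] (BT.pln (nat_lit 0) (nat_lit 4) (BT.img (nat_lit 1) (nat_lit 2) (BT.and (nat_lit 1) (nat_lit 0) (BT.cnt (nat_lit 0)))))) BT.nil))))))) BT.nil))))) (BT.kid (nat_lit 114) (nat_lit 108) (BT.frm (nat_lit 2) (nat_lit 0x1114111315030f02) (nat_lit 0x1114111315030f02) [nat_lit 0, nat_lit 4] (BT.pln (nat_lit 0) (nat_lit 10) (BT.and (nat_lit 7) (nat_lit 0) (BT.br (nat_lit 0) (nat_lit 212) [nat_lit 5] (BT.kid (nat_lit 212) (nat_lit 54) (BT.frm (nat_lit 0) (nat_lit 0) (nat_lit 0) [] (BT.pln (nat_lit 0) (nat_lit 0) (BT.frm (nat_lit 3) (nat_lit 0x131114111315030f02) (nat_lit 0x131114111315030f02) [nat_lit 2, nat_lit 6, nat_lit 10] (BT.pln (nat_lit 0) (nat_lit 13) (BT.and (nat_lit 2) (nat_lit 0) (BT.br (nat_lit 0) (nat_lit 133) [nat_lit 7, nat_lit 9, nat_lit 11] (BT.kid (nat_lit 133) (nat_lit 6) (BT.dif (nat_lit 18) (nat_lit 12) (BT.pln (nat_lit 4) (nat_lit 9) (BT.and (nat_lit 1) (nat_lit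 0) (BT.frm (nat_lit 4) (nat_lit 0x131114111315030f02) (nat_lit 0x131114111315030f02) [nat_lit 3, nat_lit 9, nat_lit 13, nat_lit 17] (BT.pln (nat_lit 0) (nat_lit 5) (BT.dif (nat_lit 2) (nat_lit 0) (BT.br (nat_lit 0) (nat_lit 136) [nat_lit 9] (BT.kid (nat_lit 136) (nat_lit 3) (BT.dif (nat_lit 25) (nat_lit 2) (BT.pln (nat_lit 4) (nat_lit 9) (BT.and (nat_lit 1) (nat_lit 0) (BT.pln (nat_lit 6) (nat_lit 8) (BT.and (nat_lit 1) (nat_lit 0) (BT.pln (nat_lit 8) (nat_lit 6) (BT.and (nat_lit 1) (nat_lit 0) (BT.pln (nat_lit 10) (nat_lit 4) (BT.dif (nat_lit 1) (nat_lit 0) (BT.dif (nat_lit 0) (nat_lit 31) (BT.br (nat_lit 0) (nat_lit 233) [nat_lit 11] (BT.kid (nat_lit 233) (nat_lit 1) (BT.one (nat_lit 5) (nat_lit 0x1c131114111315030f02) (nat_lit 0x1c131114111315030f02) [nat_lit 0, nat_lit 11, nat_lit 18, nat_lit 24, nat_lit 28, nat_lit 32]) BT.nil)))))))))))) BT.nil)))))))) BT.nil))))))) BT.nil))))) BT.nil)))))) BT.nil)))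

theorem ht_c14_cnt : Cnt 276 (grp 276 h_K) [g257] [g257] 0 0 0 0 1296 :=
  BT.sound ht_c14_cnt_P Known.nil (t := ht_c14_cnt_t) (d := 0) (by decide +kernel)

theorem ht_c14_ge : 1296 ≤ Nat.card (grp 276 ht_c14_K) :=
  Ch.le_card_grp (k := 9) (L := (lab 276 9)) hn ht_c14_K_ok (c := (Ch.cons (nat_lit 261) [nat_lit 1] (Ch.cons (nat_lit 114) [nat_lit 3] (Ch.cons (nat_lit 212) [nat_lit 5] (Ch.cons (nat_lit 133) [nat_lit 7] (Ch.cons (nat_lit 136) [nat_lit 9] (Ch.cons (nat_lit 233) [nat_lit 11] Ch.nil))))))) (by decide +kernel)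

theorem ht_c14_eq : (grp 276 h_K) ⊓ Subgroup.centralizer {Net.toPerm 276 g257} = grp 276 ht_c14_K :=
  cent_eq ht_c14_sym ht_c14_cnt ht_c14_ge

theorem ht_c14_card : Nat.card ↥((grp 276 h_K) ⊓ Subgroup.centralizer {Net.toPerm 276 g257}) = 1296 :=
  card_cent ht_c14_sym ht_c14_cnt ht_c14_ge

theorem ht_c14_ord : orderOf (Net.toPerm 276 g257) = 6 :=
  orderOf_net hn hk g257_ok (by decide) (ps := [2, 3]) (by set_option linter.unusedSimpArgs false in simp [Nat.primeFactorsList_ofNat]) (by decide +kernel)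

theorem le274 : grp 276 ht_c15_K ≤ grp 276 h_K :=
  grp_le_of_memB hn hk h_K_ok ht_c15_K_ok (ws := [nat_lit 0xf0d0b08050707040505010104, nat_lit 0xf0d0905050d0305030109, nat_lit 0xf0b07050509030504050202, nat_lit 0x90b07070505050405030207, nat_lit 0xf0d090b0705030508010406]) (by decide +kernel)

theorem ht_c15_le : grp 276 ht_c15_K ≤ (grp 276 h_K) :=
  (le274.trans TH_s0.le)

theorem ht_c15_mem : Net.toPerm 276 g269 ∈ (grp 276 h_K) :=
  ht_c15_le (toPerm_mem_grp (E := ht_c15_K) (List.Mem.tail _ (List.Mem.tail _ (List.Mem.head _))))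

theorem ht_c15_sym : Sym 276 (grp 276 h_K) [g269] ht_c15_K 0 :=
  Sym.of_lab hn hk (okE_cons.2 ⟨g269_ok, okE_nil _⟩) ht_c15_K_ok ht_c15_le (kT := 0) (by decide +kernel)

theorem le278 : grp 276 V277 ≤ grp 276 V158 :=
  grp_le_of_memB hn hk V158_ok V277_ok (ws := [nat_lit 0x907050302, nat_lit 257]) (by decide +kernel)

theorem TH_s40 : Stab 276 (grp 276 h_K) [nat_lit 197, nat_lit 264, nat_lit 4, nat_lit 272] V277 6 :=
  Stab.step (k := 9) (L := (lab 276 9)) hn TH_s15 V277_ok le278 (c := (Ch.cons (nat_lit 65) [nat_lit 1] (Ch.cons (nat_lit 234) [nat_lit 3] Ch.nil))) (by decide +kernel)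

theorem TH_s41 : Stab 276 (grp 276 h_K) [nat_lit 65, nat_lit 197, nat_lit 264, nat_lit 4, nat_lit 272] V279 3 :=
  Stab.step (k := 9) (L := (lab 276 9)) hn TH_s40 V279_ok (grp_mono (List.subset_append_right [g275] _)) (c := (Ch.cons (nat_lit 234) [nat_lit 1] Ch.nil)) (by decide +kernel)

theorem TH_s42 : Stab 276 (grp 276 h_K) [nat_lit 234, nat_lit 65, nat_lit 197, nat_lit 264, nat_lit 4, nat_lit 272] V280 1 :=
  Stab.step (k := 9) (L := (lab 276 9)) hn TH_s41 V280_ok (grp_mono (List.subset_append_right [g276] _)) (c := Ch.nil) (by decide +kernel)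

theorem g276_TH : Net.toPerm 276 g276 ∈ (grp 276 h_K) :=
  TH_s41.le (toPerm_mem_grp (E := V279) (List.Mem.head _))

theorem g275_TH : Net.toPerm 276 g275 ∈ (grp 276 h_K) :=
  TH_s40.le (toPerm_mem_grp (E := V277) (List.Mem.head _))

noncomputable def TH_s42_O : ℕ := (nat_lit 0x9993333366666ccccc99999b3333666664ccccd9999b3333266666ccccd9999933332c1f07c1f07c1f07c0f83e0f83e0f83e0f81f07c1f07c1f07c1f03e0f83e0f83e0f83e7319cc63398ce7319cc63398ce7319ce63398c67319ce63398c67319ce63398c6731826d926c93649b24db26d936c9b649b24d926d936c9b64db24d926c93649b64db26d92100000000000000000000000000000000000000000000000000000000000000000000000000000000000000000000000000000000000000000000000000000000000000010001000000000000000000000000000000000000000000000000000000000000000000000000000000000000020000000000000000000000000000000000000000000000000000000000000000000000000000000000000000000000000000020000000000000000000000000040000000000000000000000000000000000000000000000000000000000)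

theorem TH_s42_F : Frame 276 (grp 276 h_K) 6 10 TH_s42_O 1 1 :=
  IsBase.frame TH_s42.isBase (by decide +kernel)

noncomputable def TH_s40_O : ℕ := (nat_lit 0x10000000000000000000000000000000000000000082ee44045af682103001db309820809e01a503201178188e1160600b8344910230000ef697023100a3f73e9ad559cabd6ba1b19f62d644bd2d650ae1926f8f480f00005000090b26205f3446b90f64b8a9052c37c0cc9d74154aefcee79cfe718c802b96c947c0064a5cdf180345d604519e1d3fc548dde0a0428c51e6d8dce60971b73e34f8669853e0ea884ae37032e88990c88b195deae69562e5edc1c5c3a9a8f5558d5e15910fc64728c2e060e77bc94d5a431e92947abd086ccbafd25626e146b3d9aaaa443d861578c6cb4a100000000000000000000000000000000000000000000000000000000000000000000000000000000000000000000000000000000000000000000000000000000000000010001000000000000000000000000000000000000000000000000000000000000000000000000000000000000020000000000000000000000000000000000000000000000000)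

theorem TH_s40_F : Frame 276 (grp 276 h_K) 4 11 TH_s40_O 0 1 :=
  Stab.frame hn TH_s40 (by decide +kernel)

noncomputable def ht_c15_cnt_L : List ℕ := [0, 1, TH_s0_O, 0, 0, 3, 10, TH_s15_O, 0, 0, 4, 11, TH_s40_O, 0, 0, 6, 10, TH_s42_O, 1, 0]

theorem ht_c15_cnt_P : Prob 276 9 (grp 276 h_K) ht_c15_cnt_EG [g269] [g269] ht_c15_K ht_c15_cnt_L 0 0 :=
  Sym.prob hn hk ht_c15_sym ht_c15_cnt_EG_ok (grp_cons_le g37_TH (grp_cons_le g38_TH (grp_cons_le g39_TH (grp_cons_le g40_TH (grp_cons_le g41_TH (grp_cons_le g42_TH (grp_cons_le g36_TH (grp_cons_le g35_TH (grp_cons_le g155_TH (grp_cons_le g156_TH (grp_cons_le g157_TH (grp_cons_le g130_TH (grp_cons_le n_t_TH (grp_cons_le g276_TH (grp_cons_le g275_TH (grp_nil_le _)))))))))))))))) (Frames.cons TH_s0_F (Frames.cons TH_s15_F (Frames.cons TH_s40_F (Frames.cons TH_s42_F Frames.nil)))) (okE_cons.2 ⟨g269_ok, okE_nil _⟩) _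

noncomputable def ht_c15_cnt_t : BT := (BT.fix (nat_lit 1) (BT.br (nat_lit 0) (nat_lit 137) [nat_lit 1] (BT.kid (nat_lit 137) (nat_lit 72) (BT.dif (nat_lit 1) (nat_lit 0) (BT.br (nat_lit 0) (nat_lit 4) [nat_lit 3] (BT.kid (nat_lit 4) (nat_lit 36) (BT.frm (nat_lit 0) (nat_lit 0) (nat_lit 0) [] (BT.pln (nat_lit 0) (nat_lit 0) (BT.and (nat_lit 0) (nat_lit 5) (BT.dif (nat_lit 0) (nat_lit 5) (BT.dif (nat_lit 0) (nat_lit 4) (BT.frm (nat_lit 1) (nat_lit 0x3090d020f0f09) (nat_lit 0x3090d020f0f09) [nat_lit 0, nat_lit 5, nat_lit 7] (BT.pln (nat_lit 0) (nat_lit 5) (BT.fix (nat_lit 257) (BT.dif (nat_lit 1) (nat_lit 0) (BT.br (nat_lit 0) (nat_lit 185) [nat_lit 5] (BT.dead (nat_lit 11) (BT.frm (nat_lit 2) (nat_lit 0x1503090d020f0f09) (nat_lit 0x111903090d020f0f09) [nat_lit 0, nat_lit 5, nat_lit 10, nat_lit 12] (BT.pln (nat_lit 0) (nat_lit 4) (BT.img (nat_lit 1) (nat_lit 2) (BT.and (nat_lit 1) (nat_lit 0) (BT.cnt (nat_lit 0)))))) (BT.kid (nat_lit 185) (nat_lit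 6) (BT.dif (nat_lit 1) (nat_lit 0) (BT.frm (nat_lit 2) (nat_lit 0x1503090d020f0f09) (nat_lit 0x1503090d020f0f09) [nat_lit 1, nat_lit 6, nat_lit 11, nat_lit 13] (BT.pln (nat_lit 0) (nat_lit 5) (BT.dif (nat_lit 2) (nat_lit 0) (BT.pln (nat_lit 2) (nat_lit 4) (BT.and (nat_lit 1) (nat_lit 0) (BT.pln (nat_lit 4) (nat_lit 6) (BT.dif (nat_lit 1) (nat_lit 0) (BT.br (nat_lit 0) (nat_lit 16) [nat_lit 7] (BT.kid (nat_lit 16) (nat_lit 3) (BT.dif (nat_lit 25) (nat_lit 4) (BT.pln (nat_lit 8) (nat_lit 9) (BT.and (nat_lit 1) (nat_lit 0) (BT.dif (nat_lit 0) (nat_lit 9) (BT.dif (nat_lit 0) (nat_lit 6) (BT.pln (nat_lit 12) (nat_lit 7) (BT.dif (nat_lit 1) (nat_lit 0) (BT.pln (nat_lit 14) (nat_lit 8) (BT.dif (nat_lit 1) (nat_lit 0) (BT.br (nat_lit 0) (nat_lit 130) [nat_lit 9] (BT.kid (nat_lit 130) (nat_lit 1) (BT.one (nat_lit 3) (nat_lit 0x1503090d020f0f09) (nat_lit 0x1503090d020f0f09) [nat_lit 0, nat_lit 10, nat_lit 19, nat_lit 24, nat_lit 29, nat_lit 31]) BT.nil)))))))))))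 BT.nil)))))))))) BT.nil)))))))))))) BT.nil))) BT.nil)))

theorem ht_c15_cnt : Cnt 276 (grp 276 h_K) [g269] [g269] 0 0 0 0 216 :=
  BT.sound ht_c15_cnt_P Known.nil (t := ht_c15_cnt_t) (d := 0) (by decide +kernel)

theorem ht_c15_ge : 216 ≤ Nat.card (grp 276 ht_c15_K) :=
  Ch.le_card_grp (k := 9) (L := (lab 276 9)) hn ht_c15_K_ok (c := (Ch.cons (nat_lit 137) [nat_lit 1] (Ch.cons (nat_lit 4) [nat_lit 3] (Ch.cons (nat_lit 185) [nat_lit 5] (Ch.cons (nat_lit 16) [nat_lit 7] (Ch.cons (nat_lit 130) [nat_lit 9] Ch.nil)))))) (by decide +kernel)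

theorem ht_c15_eq : (grp 276 h_K) ⊓ Subgroup.centralizer {Net.toPerm 276 g269} = grp 276 ht_c15_K :=
  cent_eq ht_c15_sym ht_c15_cnt ht_c15_ge

theorem ht_c15_card : Nat.card ↥((grp 276 h_K) ⊓ Subgroup.centralizer {Net.toPerm 276 g269}) = 216 :=
  card_cent ht_c15_sym ht_c15_cnt ht_c15_ge

theorem ht_c15_ord : orderOf (Net.toPerm 276 g269) = 6 :=
  orderOf_net hn hk g269_ok (by decide) (ps := [2, 3]) (by set_option linter.unusedSimpArgs false in simp [Nat.primeFactorsList_ofNat]) (by decide +kernel)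

theorem le284 : grp 276 ht_c16_K ≤ grp 276 h_K :=
  grp_le_of_memB hn hk h_K_ok ht_c16_K_ok (ws := [nat_lit 0xf0d09070705050d040505010103, nat_lit 0xd090b0805070703010108, nat_lit 0xf0d0b080505040608010306, nat_lit 2315]) (by decide +kernel)

theorem ht_c16_le : grp 276 ht_c16_K ≤ (grp 276 h_K) :=
  (le284.trans TH_s0.le)

theorem ht_c16_mem : Net.toPerm 276 g281 ∈ (grp 276 h_K) :=
  ht_c16_le (toPerm_mem_grp (E := ht_c16_K) (List.Mem.head _))

theorem ht_c16_sym : Sym 276 (grp 276 h_K) [g281] ht_c16_K 0 :=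
  Sym.of_lab hn hk (okE_cons.2 ⟨g281_ok, okE_nil _⟩) ht_c16_K_ok ht_c16_le (kT := 0) (by decide +kernel)

theorem le287 : grp 276 V286 ≤ grp 276 V161 :=
  grp_le_of_memB hn hk V161_ok V286_ok (ws := [nat_lit 769, nat_lit 5]) (by decide +kernel)

theorem TH_s43 : Stab 276 (grp 276 h_K) [nat_lit 227, nat_lit 190, nat_lit 231, nat_lit 264, nat_lit 4, nat_lit 272] V286 4 :=
  Stab.step (k := 9) (L := (lab 276 9)) hn TH_s17 V286_ok le287 (c := (Ch.cons (nat_lit 52) [nat_lit 1] (Ch.cons (nat_lit 0) [nat_lit 3] Ch.nil))) (by decide +kernel)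

theorem TH_s44 : Stab 276 (grp 276 h_K) [nat_lit 52, nat_lit 227, nat_lit 190, nat_lit 231, nat_lit 264, nat_lit 4, nat_lit 272] V288 2 :=
  Stab.step (k := 9) (L := (lab 276 9)) hn TH_s43 V288_ok (grp_mono (List.subset_append_right [g285] _)) (c := (Ch.cons (nat_lit 0) [nat_lit 1] Ch.nil)) (by decide +kernel)

theorem TH_s45 : Stab 276 (grp 276 h_K) [nat_lit 0, nat_lit 52, nat_lit 227, nat_lit 190, nat_lit 231, nat_lit 264, nat_lit 4, nat_lit 272] V289 1 :=
  Stab.step (k := 9) (L := (lab 276 9)) hn TH_s44 V289_ok (grp_mono (List.subset_append_right [n_t] _)) (c := Ch.nil) (by decide +kernel)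

theorem g285_TH : Net.toPerm 276 g285 ∈ (grp 276 h_K) :=
  TH_s43.le (toPerm_mem_grp (E := V286) (List.Mem.head _))

noncomputable def TH_s45_O : ℕ := (nat_lit 0x9993333366666ccccc99999b3333666664ccccd9999b3333266666ccccd9999933332c1f07c1f07c1f07c0f83e0f83e0f83e0f81f07c1f07c1f07c1f03e0f83e0f83e0f83e7319cc63398ce7319cc63398ce7319ce63398c67319ce63398c67319ce63398c6731826d926c93649b24db26d936c9b649b24d926d936c9b64db24d926c93649b64db26d92100000000000000000000000000000000000000000000000000000000000000000000000000000000000000000000000000000000000000000000000000000000000000010001000000000000000000000000000000000000000000000000000000000000000000000000000008000000000000000000000000000000000000000000000000000000000000000000000000000000400000000000000000000000000000000000000000000000000000000000800000000000000000000000000000000000000000000000000000000000000000000000000000000000000000000000000000000000000010000000000000000000000000000000000000000000000000000000000000000000000000000000001)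

theorem TH_s45_F : Frame 276 (grp 276 h_K) 8 12 TH_s45_O 1 1 :=
  IsBase.frame TH_s45.isBase (by decide +kernel)

noncomputable def TH_s44_O : ℕ := (nat_lit 0x22450000000000230004110080080120022012010100000000000000000000000000cdc1a6f4de7347f98f61b2eb23e75ba82f913a5eefeecd5e001000000244210001000c84aa4af66e70349c77d3a6cf3ca396d780404010001a021fff7cffef74421000100026e4f6f3d4e66e0d007e80079414420455d9361eec018221fdf7f0000afffbfd81000c9880b14909128b67a17f3763b49a040459136d103cef0a1ff183df80addff027fa0087c3862dd5642072b61352ed441f7916c6b7440f83e1afc1e0fc1d86cae984f2785e0e46604a5fb176b3ae098139a760e127a15c0fdec632cbe3998db3e66308c70ce6618cad60e32385132f639a9c914179aa0e7567342b0b5aaa9b9556aa8b54aeb749a954d4a100000000000000000000000000000000000000000000000000000000000000000000000000000000000000000000000000000000000000000000000000000000000000010001000000000000000000000000000000000000000000000000000000000000000000000000000008000000000000000000000000000000000000000000000000000000000000000000000000000000400000000000000000000000000000000000000000000000000000000000800000000000000000000000000000000000000000000000000000000000000000000000000000000000000000000000000000000000000010000000000000)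

theorem TH_s44_F : Frame 276 (grp 276 h_K) 7 15 TH_s44_O 0 1 :=
  Stab.frame hn TH_s44 (by decide +kernel)

noncomputable def ht_c16_cnt_L : List ℕ := [0, 1, TH_s0_O, 0, 0, 2, 5, TH_s2_O, 0, 0, 3, 10, TH_s15_O, 0, 0, 4, 21, TH_s16_O, 0, 0, 5, 10, TH_s17_O, 0, 0, 7, 15, TH_s44_O, 0, 0, 8, 12, TH_s45_O, 1, 0]

theorem ht_c16_cnt_P : Prob 276 9 (grp 276 h_K) ht_c16_cnt_EG [g281] [g281] ht_c16_K ht_c16_cnt_L 0 0 :=
  Sym.prob hn hk ht_c16_sym ht_c16_cnt_EG_ok (grp_cons_le g36_TH (grp_cons_le g37_TH (grp_cons_le g38_TH (grp_cons_le g39_TH (grp_cons_le g40_TH (grp_cons_le g41_TH (grp_cons_le g42_TH (grp_cons_le g35_TH (grp_cons_le g155_TH (grp_cons_le g156_TH (grp_cons_le g157_TH (grp_cons_le g130_TH (grp_cons_le n_t_TH (grp_cons_le g285_TH (grp_nil_le _))))))))))))))) (Frames.cons TH_s0_F (Frames.cons TH_s2_F (Frames.cons TH_s15_F (Frames.cons TH_s16_F (Frames.cons TH_s17_F (Frames.cons TH_s44_F (Frames.cons TH_s45_F Frames.nil))))))) (okE_cons.2 ⟨g281_ok,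 okE_nil _⟩) _

noncomputable def ht_c16_cnt_t : BT := (BT.frm (nat_lit 0) (nat_lit 0) (nat_lit 0) [] (BT.pln (nat_lit 0) (nat_lit 0) (BT.fix (nat_lit 65793) (BT.dif (nat_lit 1) (nat_lit 0) (BT.br (nat_lit 0) (nat_lit 33) [nat_lit 3, nat_lit 5] (BT.kid (nat_lit 33) (nat_lit 6) (BT.img (nat_lit 1) (nat_lit 0) (BT.img (nat_lit 1) (nat_lit 0) (BT.img (nat_lit 1) (nat_lit 0) (BT.frm (nat_lit 3) (nat_lit 0x1113030d0203010d0f0110) (nat_lit 0x1113030d0203010d0f0110) [nat_lit 0, nat_lit 1, nat_lit 2, nat_lit 3] (BT.pln (nat_lit 0) (nat_lit 19) (BT.and (nat_lit 6) (nat_lit 0) (BT.br (nat_lit 0) (nat_lit 45) [nat_lit 5] (BT.kid (nat_lit 45) (nat_lit 2) (BT.dif (nat_lit 14) (nat_lit 9) (BT.dif (nat_lit 0) (nat_lit 11) (BT.frm (nat_lit 1) (nat_lit 0x203010d0f0110) (nat_lit 0x203010d0f0110) [nat_lit 8, nat_lit 9] (BT.pln (nat_lit 0) (nat_lit 2) (BT.dif (nat_lit 2) (nat_lit 0) (BT.frm (nat_lit 2) (nat_lit 0x30d0203010d0f0110) (nat_lit 0x30d0203010d0f0110) [nat_lit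 10, nat_lit 11, nat_lit 12] (BT.pln (nat_lit 0) (nat_lit 3) (BT.dif (nat_lit 2) (nat_lit 0) (BT.img (nat_lit 1) (nat_lit 12) (BT.and (nat_lit 19) (nat_lit 0) (BT.frm (nat_lit 4) (nat_lit 0x1113030d0203010d0f0110) (nat_lit 0x1113030d0203010d0f0110) [nat_lit 0, nat_lit 14, nat_lit 15, nat_lit 16, nat_lit 17] (BT.pln (nat_lit 0) (nat_lit 5) (BT.dif (nat_lit 4) (nat_lit 0) (BT.pln (nat_lit 2) (nat_lit 7) (BT.dif (nat_lit 1) (nat_lit 0) (BT.img (nat_lit 1) (nat_lit 15) (BT.frm (nat_lit 5) (nat_lit 0x1b1113030d0203010d0f0110) (nat_lit 0x1b1113030d0203010d0f0110) [nat_lit 0, nat_lit 16, nat_lit 6, nat_lit 20, nat_lit 21, nat_lit 22, nat_lit 23] (BT.pln (nat_lit 0) (nat_lit 7) (BT.dif (nat_lit 3) (nat_lit 0) (BT.br (nat_lit 0) (nat_lit 18) [nat_lit 7] (BT.kid (nat_lit 18) (nat_lit 1) (BT.one (nat_lit 6) (nat_lit 0x191b1113030d0203010d0f0110) (nat_lit 0x191b1113030d0203010d0f0110) [nat_lit 0, nat_lit 4, nat_lit 20, nat_lit 10, nat_lit 24, nat_lit 25, nat_lit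 26, nat_lit 27]) BT.nil))))))))))))))))))))) BT.nil)))))))) BT.nil))))))

theorem ht_c16_cnt : Cnt 276 (grp 276 h_K) [g281] [g281] 0 0 0 0 144 :=
  BT.sound ht_c16_cnt_P Known.nil (t := ht_c16_cnt_t) (d := 0) (by decide +kernel)

theorem ht_c16_ge : 144 ≤ Nat.card (grp 276 ht_c16_K) :=
  Ch.le_card_grp (k := 9) (L := (lab 276 9)) hn ht_c16_K_ok (c := (Ch.cons (nat_lit 33) [nat_lit 1, nat_lit 3] (Ch.cons (nat_lit 45) [nat_lit 5] (Ch.cons (nat_lit 18) [nat_lit 7] Ch.nil)))) (by decide +kernel)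

theorem ht_c16_eq : (grp 276 h_K) ⊓ Subgroup.centralizer {Net.toPerm 276 g281} = grp 276 ht_c16_K :=
  cent_eq ht_c16_sym ht_c16_cnt ht_c16_ge

theorem ht_c16_card : Nat.card ↥((grp 276 h_K) ⊓ Subgroup.centralizer {Net.toPerm 276 g281}) = 144 :=
  card_cent ht_c16_sym ht_c16_cnt ht_c16_ge

theorem ht_c16_ord : orderOf (Net.toPerm 276 g281) = 6 :=
  orderOf_net hn hk g281_ok (by decide) (ps := [2, 3]) (by set_option linter.unusedSimpArgs false in simp [Nat.primeFactorsList_ofNat]) (by decide +kernel)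

theorem le293 : grp 276 ht_c17_K ≤ grp 276 h_K :=
  grp_le_of_memB hn hk h_K_ok ht_c17_K_ok (ws := [nat_lit 0x90709070507030503010405, nat_lit 0xf0907090805070405010502, nat_lit 0x90b07090805050804010109, nat_lit 0x90709050509, nat_lit 2315]) (by decide +kernel)

theorem ht_c17_le : grp 276 ht_c17_K ≤ (grp 276 h_K) :=
  (le293.trans TH_s0.le)

theorem ht_c17_mem : Net.toPerm 276 g290 ∈ (grp 276 h_K) :=
  ht_c17_le (toPerm_mem_grp (E := ht_c17_K) (List.Mem.head _))

theorem ht_c17_sym : Sym 276 (grp 276 h_K) [g290] ht_c17_K 0 :=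
  Sym.of_lab hn hk (okE_cons.2 ⟨g290_ok, okE_nil _⟩) ht_c17_K_ok ht_c17_le (kT := 0) (by decide +kernel)

theorem le295 : grp 276 V294 ≤ grp 276 V247 :=
  grp_le_of_memB hn hk V247_ok V294_ok (ws := [nat_lit 3]) (by decide +kernel)

theorem TH_s46 : Stab 276 (grp 276 h_K) [nat_lit 190, nat_lit 99, nat_lit 28, nat_lit 124, nat_lit 4, nat_lit 272] V294 2 :=
  Stab.step (k := 9) (L := (lab 276 9)) hn TH_s35 V294_ok le295 (c := (Ch.cons (nat_lit 19) [nat_lit 1] Ch.nil)) (by decide +kernel)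

theorem TH_s47 : Stab 276 (grp 276 h_K) [nat_lit 19, nat_lit 190, nat_lit 99, nat_lit 28, nat_lit 124, nat_lit 4, nat_lit 272] V296 1 :=
  Stab.step (k := 9) (L := (lab 276 9)) hn TH_s46 V296_ok (grp_mono (List.subset_append_right [n_t] _)) (c := Ch.nil) (by decide +kernel)

noncomputable def TH_s47_O : ℕ := (nat_lit 0x9993333366666ccccc99999b3333666664ccccd9999b3333266666ccccd9999933332c1f07c1f07c1f07c0f83e0f83e0f83e0f81f07c1f07c1f07c1f03e0f83e0f83e0f83e7319cc63398ce7319cc63398ce7319ce63398c67319ce63398c67319ce63398c6731826d926c93649b24db26d936c9b649b24d926d936c9b64db24d926c93649b64db26d92100000000000000000000000000000000000000000000000000000000000000000000000000000000000000000000000000000000000000000000000000000000000000010000000000000000000000000000000000000010000000000000000000000000000000000000000000000000000000000000000000000000000000000000000000010000000000000000000000000000000000000000000000000008000000000000000000000000000000000000000000000400000000000000000000000000000000000000000000000000000000000000000000000000000000000000000000000000000000000000080000)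

theorem TH_s47_F : Frame 276 (grp 276 h_K) 7 11 TH_s47_O 1 1 :=
  IsBase.frame TH_s47.isBase (by decide +kernel)

noncomputable def TH_s46_O : ℕ := (nat_lit 0x23450000008800230004110080080120022002010000000000000000000000000000cdc1a6f4de7347f98f61b2eb23e75ba82f913a5eeffe4d5e001000010244200001000c84aa4af66e70349c77d3a6cf3ca396d7804040100112021fff7cffff74420000100026f4f6f3d4e66e0d007e80079414420455d9361eec110221fdf7f0010afffafd81000c9880b149099a8b67a17f37633492040459136d103de70a1ff183df90addfe027fa0087e3862dd56ca072a61312ed4c1ff916c695440f83f12fc1e0fc1d87caa984f2785e0e45604a5fb1feb38d098528a7e0e926815e2fccc633c3e3998db3e6630cc50ce6618caf50e323851b2f639a9c914179aa0e7567342a2b4aba1b9556aa8b55acf368a954d4a100000000000000000000000000000000000000000000000000000000000000000000000000000000000000000000000000000000000000000000000000000000000000010000000000000000000000000000000000000010000000000000000000000000000000000000000000000000000000000000000000000000000000000000000000010000000000000000000000000000000000000000000000000008000000000000000000000000000000000000000000000400000000000000000000000000000000000000000000000)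

theorem TH_s46_F : Frame 276 (grp 276 h_K) 6 14 TH_s46_O 0 1 :=
  Stab.frame hn TH_s46 (by decide +kernel)

noncomputable def ht_c17_cnt_L : List ℕ := [0, 1, TH_s0_O, 0, 0, 2, 5, TH_s2_O, 0, 0, 5, 12, TH_s35_O, 0, 0, 6, 14, TH_s46_O, 0, 0, 7, 11, TH_s47_O, 1, 0]

theorem ht_c17_cnt_P : Prob 276 9 (grp 276 h_K) ht_c17_cnt_EG [g290] [g290] ht_c17_K ht_c17_cnt_L 0 0 :=
  Sym.prob hn hk ht_c17_sym ht_c17_cnt_EG_ok (grp_cons_le g36_TH (grp_cons_le g37_TH (grp_cons_le g38_TH (grp_cons_le g39_TH (grp_cons_le g40_TH (grp_cons_le g41_TH (grp_cons_le g42_TH (grp_cons_le g35_TH (grp_cons_le g243_TH (grp_cons_le g244_TH (grp_cons_le n_t_TH (grp_nil_le _)))))))))))) (Frames.cons TH_s0_F (Frames.cons TH_s2_F (Frames.cons TH_s35_F (Frames.cons TH_s46_F (Frames.cons TH_s47_F Frames.nil))))) (okE_cons.2 ⟨g290_ok, okE_nil _⟩) _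

noncomputable def ht_c17_cnt_t : BT := (BT.frm (nat_lit 0) (nat_lit 0) (nat_lit 0) [] (BT.pln (nat_lit 0) (nat_lit 0) (BT.fix (nat_lit 65793) (BT.dif (nat_lit 1) (nat_lit 0) (BT.fix (nat_lit 257) (BT.dif (nat_lit 1) (nat_lit 0) (BT.br (nat_lit 0) (nat_lit 133) [nat_lit 1, nat_lit 3] (BT.kid (nat_lit 133) (nat_lit 8) (BT.img (nat_lit 1) (nat_lit 0) (BT.frm (nat_lit 1) (nat_lit 0x20b0f0106) (nat_lit 0x20b0f0106) [nat_lit 0, nat_lit 1] (BT.pln (nat_lit 0) (nat_lit 4) (BT.and (nat_lit 4) (nat_lit 0) (BT.pln (nat_lit 2) (nat_lit 3) (BT.and (nat_lit 10) (nat_lit 0) (BT.dif (nat_lit 0) (nat_lit 10) (BT.dif (nat_lit 0) (nat_lit 9) (BT.img (nat_lit 1) (nat_lit 7) (BT.img (nat_lit 1) (nat_lit 0) (BT.dif (nat_lit 2) (nat_lit 0) (BT.img (nat_lit 1) (nat_lit 1) (BT.dif (nat_lit 1) (nat_lit 0) (BT.img (nat_lit 1) (nat_lit 0) (BT.and (nat_lit 10) (nat_lit 0) (BT.br (nat_lit 0) (nat_lit 231) [nat_lit 5, nat_lit 7] (BT.dead (nat_lit 72) (BT.frm (nat_lit 2) (nat_lit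 0x110704020b0f0106) (nat_lit 0x704020b0f0106) [nat_lit 0, nat_lit 7, nat_lit 6, nat_lit 15, nat_lit 16] (BT.pln (nat_lit 0) (nat_lit 5) (BT.and (nat_lit 0) (nat_lit 22) (BT.cnt (nat_lit 0))))) (BT.kid (nat_lit 231) (nat_lit 4) (BT.dif (nat_lit 13) (nat_lit 20) (BT.dif (nat_lit 0) (nat_lit 3) (BT.dif (nat_lit 0) (nat_lit 20) (BT.dif (nat_lit 0) (nat_lit 10) (BT.img (nat_lit 1) (nat_lit 4) (BT.dif (nat_lit 1) (nat_lit 0) (BT.frm (nat_lit 2) (nat_lit 0x110704020b0f0106) (nat_lit 0x110704020b0f0106) [nat_lit 6, nat_lit 13, nat_lit 12, nat_lit 21, nat_lit 22] (BT.pln (nat_lit 0) (nat_lit 9) (BT.and (nat_lit 2) (nat_lit 0) (BT.br (nat_lit 0) (nat_lit 152) [nat_lit 7] (BT.kid (nat_lit 152) (nat_lit 2) (BT.pln (nat_lit 3) (nat_lit 5) (BT.dif (nat_lit 3) (nat_lit 0) (BT.pln (nat_lit 5) (nat_lit 6) (BT.dif (nat_lit 1) (nat_lit 0) (BT.pln (nat_lit 7) (nat_lit 7) (BT.dif (nat_lit 1) (nat_lit 0) (BT.pln (nat_lit 9) (nat_lit 8) (BT.dif (nat_lit 1) (nat_lit 0)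 (BT.pln (nat_lit 11) (nat_lit 10) (BT.dif (nat_lit 1) (nat_lit 0) (BT.dif (nat_lit 0) (nat_lit 41) (BT.frm (nat_lit 3) (nat_lit 0x110704020b0f0106) (nat_lit 0x110704020b0f0106) [nat_lit 11, nat_lit 21, nat_lit 28, nat_lit 27, nat_lit 36, nat_lit 37] (BT.pln (nat_lit 0) (nat_lit 6) (BT.dif (nat_lit 2) (nat_lit 0) (BT.br (nat_lit 0) (nat_lit 75) [nat_lit 9] (BT.kid (nat_lit 75) (nat_lit 1) (BT.one (nat_lit 4) (nat_lit 0x15110704020b0f0106) (nat_lit 0x15110704020b0f0106) [nat_lit 0, nat_lit 15, nat_lit 25, nat_lit 32, nat_lit 31, nat_lit 40, nat_lit 41]) BT.nil)))))))))))))))) BT.nil))))))))))) BT.nil)))))))))))))))))) BT.nil))))))))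

theorem ht_c17_cnt : Cnt 276 (grp 276 h_K) [g290] [g290] 0 0 0 0 144 :=
  BT.sound ht_c17_cnt_P Known.nil (t := ht_c17_cnt_t) (d := 0) (by decide +kernel)

theorem ht_c17_ge : 144 ≤ Nat.card (grp 276 ht_c17_K) :=
  Ch.le_card_grp (k := 9) (L := (lab 276 9)) hn ht_c17_K_ok (c := (Ch.cons (nat_lit 133) [nat_lit 1, nat_lit 3] (Ch.cons (nat_lit 231) [nat_lit 5] (Ch.cons (nat_lit 152) [nat_lit 7] (Ch.cons (nat_lit 75) [nat_lit 9] Ch.nil))))) (by decide +kernel)

theorem ht_c17_eq : (grp 276 h_K) ⊓ Subgroup.centralizer {Net.toPerm 276 g290} = grp 276 ht_c17_K :=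
  cent_eq ht_c17_sym ht_c17_cnt ht_c17_ge

theorem ht_c17_card : Nat.card ↥((grp 276 h_K) ⊓ Subgroup.centralizer {Net.toPerm 276 g290}) = 144 :=
  card_cent ht_c17_sym ht_c17_cnt ht_c17_ge

theorem ht_c17_ord : orderOf (Net.toPerm 276 g290) = 6 :=
  orderOf_net hn hk g290_ok (by decide) (ps := [2, 3]) (by set_option linter.unusedSimpArgs false in simp [Nat.primeFactorsList_ofNat]) (by decide +kernel)

theorem le302 : grp 276 ht_c18_K ≤ grp 276 h_K :=
  grp_le_of_memB hn hk h_K_ok ht_c18_K_ok (ws := [nat_lit 0xf0d090b070d050805040601090f, nat_lit 0xf07050805010109, nat_lit 0xd070705070d030504050206, nat_lit 0xd0b07090805070305030701, nat_lit 0xf06080305030d010103]) (by decide +kernel)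

theorem ht_c18_le : grp 276 ht_c18_K ≤ (grp 276 h_K) :=
  (le302.trans TH_s0.le)

theorem ht_c18_mem : Net.toPerm 276 g297 ∈ (grp 276 h_K) :=
  ht_c18_le (toPerm_mem_grp (E := ht_c18_K) (List.Mem.head _))

theorem ht_c18_sym : Sym 276 (grp 276 h_K) [g297] ht_c18_K 0 :=
  Sym.of_lab hn hk (okE_cons.2 ⟨g297_ok, okE_nil _⟩) ht_c18_K_ok ht_c18_le (kT := 0) (by decide +kernel)

noncomputable def ht_c18_cnt_L : List ℕ := [0, 1, TH_s0_O, 0, 0, 1, 4, TH_s21_O, 0, 0, 2, 13, TH_s22_O, 0, 0, 3, 19, TH_s23_O, 0, 0, 4, 11, TH_s24_O, 0, 0, 5, 9, TH_s25_O, 1, 0]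

theorem ht_c18_cnt_P : Prob 276 9 (grp 276 h_K) ht_c18_cnt_EG [g297] [g297] ht_c18_K ht_c18_cnt_L 0 0 :=
  Sym.prob hn hk ht_c18_sym ht_c18_cnt_EG_ok (grp_cons_le g35_TH (grp_cons_le g36_TH (grp_cons_le g37_TH (grp_cons_le g38_TH (grp_cons_le g39_TH (grp_cons_le g40_TH (grp_cons_le g41_TH (grp_cons_le g42_TH (grp_cons_le g173_TH (grp_cons_le g174_TH (grp_cons_le g175_TH (grp_cons_le g176_TH (grp_cons_le g177_TH (grp_nil_le _)))))))))))))) (Frames.cons TH_s0_F (Frames.cons TH_s21_F (Frames.cons TH_s22_F (Frames.cons TH_s23_F (Frames.cons TH_s24_F (Frames.cons TH_s25_F Frames.nil)))))) (okE_cons.2 ⟨g297_ok, okE_nil _⟩) _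

noncomputable def ht_c18_cnt_t : BT := (BT.fix (nat_lit 257) (BT.br (nat_lit 0) (nat_lit 230) [nat_lit 1, nat_lit 3] (BT.kid (nat_lit 230) (nat_lit 24) (BT.frm (nat_lit 1) (nat_lit 2056) (nat_lit 2056) [nat_lit 0] (BT.pln (nat_lit 0) (nat_lit 1) (BT.and (nat_lit 3) (nat_lit 0) (BT.br (nat_lit 0) (nat_lit 46) [nat_lit 5] (BT.dead (nat_lit 193) (BT.frm (nat_lit 2) (nat_lit 0x1115130808) (nat_lit 0x11111612150808) [nat_lit 0, nat_lit 4] (BT.pln (nat_lit 0) (nat_lit 10) (BT.and (nat_lit 7) (nat_lit 0) (BT.br (nat_lit 0) (nat_lit 170) [nat_lit 591621] (BT.dead (nat_lit 46) (BT.frm (nat_lit 0) (nat_lit 0) (nat_lit 0) [] (BT.pln (nat_lit 0) (nat_lit 0) (BT.frm (nat_lit 3) (nat_lit 0x131115130808) (nat_lit 0x11111612150808) [nat_lit 2, nat_lit 6, nat_lit 10] (BT.pln (nat_lit 0) (nat_lit 13) (BT.and (nat_lit 2) (nat_lit 0) (BT.fix (nat_lit 65793) (BT.dif (nat_lit 1) (nat_lit 0) (BT.br (nat_lit 0) (nat_lit 4) [nat_lit 10] (BT.dead (nat_lit 121) (BT.frm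 (nat_lit 4) (nat_lit 0x15131115130808) (nat_lit 0x161611111612150808) [nat_lit 0, nat_lit 8, nat_lit 12, nat_lit 16] (BT.pln (nat_lit 0) (nat_lit 4) (BT.img (nat_lit 1) (nat_lit 2) (BT.img (nat_lit 1) (nat_lit 0) (BT.and (nat_lit 2) (nat_lit 0) (BT.cnt (nat_lit 0))))))) BT.nil))))))))) BT.nil))))) (BT.kid (nat_lit 46) (nat_lit 12) (BT.frm (nat_lit 2) (nat_lit 0x1115130808) (nat_lit 0x1115130808) [nat_lit 0, nat_lit 4] (BT.pln (nat_lit 0) (nat_lit 10) (BT.and (nat_lit 7) (nat_lit 0) (BT.br (nat_lit 0) (nat_lit 170) [nat_lit 7] (BT.kid (nat_lit 170) (nat_lit 6) (BT.frm (nat_lit 0) (nat_lit 0) (nat_lit 0) [] (BT.pln (nat_lit 0) (nat_lit 0) (BT.frm (nat_lit 3) (nat_lit 0x131115130808) (nat_lit 0x131115130808) [nat_lit 2, nat_lit 6, nat_lit 10] (BT.pln (nat_lit 0) (nat_lit 13) (BT.and (nat_lit 2) (nat_lit 0) (BT.fix (nat_lit 65793) (BT.dif (nat_lit 1) (nat_lit 0) (BT.br (nat_lit 0) (nat_lit 4) [nat_lit 9] (BT.kid (nat_lit 4) (nat_lit 1) (BT.img (nat_lit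 1) (nat_lit 0) (BT.one (nat_lit 5) (nat_lit 0x1915131115130808) (nat_lit 0x1915131115130808) [nat_lit 0, nat_lit 1, nat_lit 9, nat_lit 13, nat_lit 17])) BT.nil))))))))) BT.nil))))) BT.nil)))))) BT.nil)))

theorem ht_c18_cnt : Cnt 276 (grp 276 h_K) [g297] [g297] 0 0 0 0 144 :=
  BT.sound ht_c18_cnt_P Known.nil (t := ht_c18_cnt_t) (d := 0) (by decide +kernel)

theorem ht_c18_ge : 144 ≤ Nat.card (grp 276 ht_c18_K) :=
  Ch.le_card_grp (k := 9) (L := (lab 276 9)) hn ht_c18_K_ok (c := (Ch.cons (nat_lit 230) [nat_lit 1, nat_lit 3] (Ch.cons (nat_lit 46) [nat_lit 5] (Ch.cons (nat_lit 170) [nat_lit 7] (Ch.cons (nat_lit 4) [nat_lit 9] Ch.nil))))) (by decide +kernel)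

theorem ht_c18_eq : (grp 276 h_K) ⊓ Subgroup.centralizer {Net.toPerm 276 g297} = grp 276 ht_c18_K :=
  cent_eq ht_c18_sym ht_c18_cnt ht_c18_ge

theorem ht_c18_card : Nat.card ↥((grp 276 h_K) ⊓ Subgroup.centralizer {Net.toPerm 276 g297}) = 144 :=
  card_cent ht_c18_sym ht_c18_cnt ht_c18_ge

theorem ht_c18_ord : orderOf (Net.toPerm 276 g297) = 6 :=
  orderOf_net hn hk g297_ok (by decide) (ps := [2, 3]) (by set_option linter.unusedSimpArgs false in simp [Nat.primeFactorsList_ofNat]) (by decide +kernel)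

theorem le306 : grp 276 ht_c19_K ≤ grp 276 h_K :=
  grp_le_of_memB hn hk h_K_ok ht_c19_K_ok (ws := [nat_lit 0xf0b0707050505040505010302, nat_lit 0xf0908060804050209, nat_lit 0x9070908060703050405, nat_lit 2315]) (by decide +kernel)

theorem ht_c19_le : grp 276 ht_c19_K ≤ (grp 276 h_K) :=
  (le306.trans TH_s0.le)

theorem ht_c19_mem : Net.toPerm 276 g303 ∈ (grp 276 h_K) :=
  ht_c19_le (toPerm_mem_grp (E := ht_c19_K) (List.Mem.head _))

theorem ht_c19_sym : Sym 276 (grp 276 h_K) [g303] ht_c19_K 0 :=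
  Sym.of_lab hn hk (okE_cons.2 ⟨g303_ok, okE_nil _⟩) ht_c19_K_ok ht_c19_le (kT := 0) (by decide +kernel)

theorem le309 : grp 276 V308 ≤ grp 276 V134 :=
  grp_le_of_memB hn hk V134_ok V308_ok (ws := [nat_lit 1281]) (by decide +kernel)

theorem TH_s48 : Stab 276 (grp 276 h_K) [nat_lit 12, nat_lit 38, nat_lit 152, nat_lit 124, nat_lit 4, nat_lit 272] V308 4 :=
  Stab.step (k := 9) (L := (lab 276 9)) hn TH_s9 V308_ok le309 (c := (Ch.cons (nat_lit 203) [nat_lit 1] Ch.nil)) (by decide +kernel)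

theorem TH_s49 : Stab 276 (grp 276 h_K) [nat_lit 203, nat_lit 12, nat_lit 38, nat_lit 152, nat_lit 124, nat_lit 4, nat_lit 272] V310 1 :=
  Stab.step (k := 9) (L := (lab 276 9)) hn TH_s48 V310_ok (grp_mono (List.subset_append_right [g307] _)) (c := Ch.nil) (by decide +kernel)

theorem g307_TH : Net.toPerm 276 g307 ∈ (grp 276 h_K) :=
  TH_s48.le (toPerm_mem_grp (E := V308) (List.Mem.head _))

noncomputable def TH_s49_O : ℕ := (nat_lit 0x9993333366666ccccc99999b3333666664ccccd9999b3333266666ccccd9999933332c1f07c1f07c1f07c0f83e0f83e0f83e0f81f07c1f07c1f07c1f03e0f83e0f83e0f83e7319cc63398ce7319cc63398ce7319ce63398c67319ce63398c67319ce63398c6731826d926c93649b24db26d936c9b649b24d926d936c9b64db24d926c93649b64db26d92100000000000000000000000000000000000000000000000000000000000000000000000000000000000000000000000000000000000000000000000000000000000000010000000000000000000000000000000000000010000000000000000000000000000000000000000000000000000000000000100000000000000000000000000000000000000000000000000000000000000000000000000000000000000000000000004000000000000000000000000000000000000000000000000000000000000000000000000001000000000000000000000800000000000000000000000000000000000000000000000000)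

theorem TH_s49_F : Frame 276 (grp 276 h_K) 7 11 TH_s49_O 1 1 :=
  IsBase.frame TH_s49.isBase (by decide +kernel)

noncomputable def TH_s48_O : ℕ := (nat_lit 0x3450000008800030004500080080020022002010008000001000010000000000000c7cb8670468747f20e7830d5e26d6b6852110c5fefd76555e3474dde024021000000063c082e9a67129be476288d336b1432c2c511a42c7fc4e3418a030205bfbfbfd000004e10958ee68e2b6a7d7f6f3e83cc1b286d08348c42121081e54afa207bd9fd02fe800033550c931fb625e6314205c24c578c7eb8e6045a5dd23c365ac17e1f6e823e2f05e06399b65e6f674ed55d9aca922a10898c493ff2113da27e4b426a8739f340c698cc18cc6f508ad996f279e5e93166ef615b72004ef18ac4963e85932c466b4e280b656aa74a100000000000000000000000000000000000000000000000000000000000000000000000000000000000000000000000000000000000000000000000000000000000000010000000000000000000000000000000000000010000000000000000000000000000000000000000000000000000000000000100000000000000000000000000000000000000000000000000000000000000000000000000000000000000000000000004000000000000000000000000000000000000000000000000000000000000000000000000001000)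

theorem TH_s48_F : Frame 276 (grp 276 h_K) 6 13 TH_s48_O 0 1 :=
  Stab.frame hn TH_s48 (by decide +kernel)

noncomputable def ht_c19_cnt_L : List ℕ := [0, 1, TH_s0_O, 0, 0, 2, 5, TH_s2_O, 0, 0, 3, 15, TH_s3_O, 0, 0, 4, 9, TH_s8_O, 0, 0, 6, 13, TH_s48_O, 0, 0, 7, 11, TH_s49_O, 1, 0]

theorem ht_c19_cnt_P : Prob 276 9 (grp 276 h_K) ht_c19_cnt_EG [g303] [g303] ht_c19_K ht_c19_cnt_L 0 0 :=
  Sym.prob hn hk ht_c19_sym ht_c19_cnt_EG_ok (grp_cons_le g36_TH (grp_cons_le g37_TH (grp_cons_le g38_TH (grp_cons_le g39_TH (grp_cons_le g40_TH (grp_cons_le g41_TH (grp_cons_le g42_TH (grp_cons_le g35_TH (grp_cons_le g130_TH (grp_cons_le g131_TH (grp_cons_le n_t_TH (grp_cons_le g129_TH (grp_cons_le g307_TH (grp_nil_le _)))))))))))))) (Frames.cons TH_s0_F (Frames.cons TH_s2_F (Frames.cons TH_s3_F (Frames.cons TH_s8_F (Frames.cons TH_s48_F (Frames.cons TH_s49_F Frames.nil)))))) (okE_cons.2 ⟨g303_ok, okE_nil _⟩) _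

noncomputable def ht_c19_cnt_t : BT := (BT.frm (nat_lit 0) (nat_lit 0) (nat_lit 0) [] (BT.pln (nat_lit 0) (nat_lit 0) (BT.fix (nat_lit 65793) (BT.and (nat_lit 1) (nat_lit 0) (BT.fix (nat_lit 1) (BT.dif (nat_lit 1) (nat_lit 0) (BT.br (nat_lit 0) (nat_lit 33) [nat_lit 1, nat_lit 3] (BT.kid (nat_lit 33) (nat_lit 4) (BT.dif (nat_lit 5) (nat_lit 4) (BT.img (nat_lit 1) (nat_lit 1) (BT.frm (nat_lit 1) (nat_lit 0x204020b0f0110) (nat_lit 0x204020b0f0110) [nat_lit 0, nat_lit 2] (BT.pln (nat_lit 0) (nat_lit 3) (BT.and (nat_lit 3) (nat_lit 0) (BT.br (nat_lit 0) (nat_lit 269) [nat_lit 5] (BT.dead (nat_lit 256) (BT.img (nat_lit 1) (nat_lit 4) (BT.frm (nat_lit 3) (nat_lit 0x60204020b0f0110) (nat_lit 0x5050204020b0f0110) [nat_lit 1, nat_lit 0, nat_lit 5, nat_lit 7] (BT.pln (nat_lit 0) (nat_lit 4) (BT.and (nat_lit 0) (nat_lit 11) (BT.cnt (nat_lit 0)))))) (BT.dead (nat_lit 163) (BT.img (nat_lit 1) (nat_lit 4) (BT.frm (nat_lit 3) (nat_lit 0x60204020b0f0110) (nat_lit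 0xb050204020b0f0110) [nat_lit 1, nat_lit 0, nat_lit 5, nat_lit 7] (BT.pln (nat_lit 0) (nat_lit 4) (BT.and (nat_lit 0) (nat_lit 11) (BT.cnt (nat_lit 0)))))) (BT.dead (nat_lit 213) (BT.img (nat_lit 1) (nat_lit 4) (BT.frm (nat_lit 3) (nat_lit 0x60204020b0f0110) (nat_lit 0xb0204020b0f0110) [nat_lit 1, nat_lit 0, nat_lit 5, nat_lit 7] (BT.pln (nat_lit 0) (nat_lit 4) (BT.and (nat_lit 0) (nat_lit 11) (BT.cnt (nat_lit 0)))))) (BT.kid (nat_lit 269) (nat_lit 2) (BT.img (nat_lit 1) (nat_lit 4) (BT.frm (nat_lit 2) (nat_lit 0x204020b0f0110) (nat_lit 0x204020b0f0110) [nat_lit 0, nat_lit 5, nat_lit 7] (BT.pln (nat_lit 0) (nat_lit 8) (BT.dif (nat_lit 0) (nat_lit 13) (BT.frm (nat_lit 3) (nat_lit 0x60204020b0f0110) (nat_lit 0x60204020b0f0110) [nat_lit 4, nat_lit 3, nat_lit 8, nat_lit 10] (BT.pln (nat_lit 0) (nat_lit 5) (BT.dif (nat_lit 2) (nat_lit 0) (BT.img (nat_lit 1) (nat_lit 7) (BT.pln (nat_lit 6) (nat_lit 12) (BT.and (nat_lit 20) (nat_lit 0) (BT.dif (nat_lit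 0) (nat_lit 10) (BT.dif (nat_lit 0) (nat_lit 5) (BT.pln (nat_lit 10) (nat_lit 11) (BT.and (nat_lit 24) (nat_lit 0) (BT.img (nat_lit 1) (nat_lit 6) (BT.dif (nat_lit 1) (nat_lit 0) (BT.pln (nat_lit 11) (nat_lit 4) (BT.and (nat_lit 1) (nat_lit 0) (BT.pln (nat_lit 16) (nat_lit 10) (BT.and (nat_lit 30) (nat_lit 0) (BT.dif (nat_lit 0) (nat_lit 12) (BT.dif (nat_lit 0) (nat_lit 4) (BT.img (nat_lit 1) (nat_lit 7) (BT.img (nat_lit 1) (nat_lit 0) (BT.dif (nat_lit 2) (nat_lit 0) (BT.img (nat_lit 1) (nat_lit 13) (BT.and (nat_lit 1) (nat_lit 0) (BT.img (nat_lit 1) (nat_lit 0) (BT.and (nat_lit 10) (nat_lit 0) (BT.img (nat_lit 1) (nat_lit 0) (BT.and (nat_lit 18) (nat_lit 0) (BT.frm (nat_lit 4) (nat_lit 0x60204020b0f0110) (nat_lit 0x60204020b0f0110) [nat_lit 23, nat_lit 0, nat_lit 31, nat_lit 30, nat_lit 35, nat_lit 37] (BT.pln (nat_lit 0) (nat_lit 6) (BT.and (nat_lit 26) (nat_lit 0) (BT.br (nat_lit 0) (nat_lit 198) [nat_lit 7] (BT.kid (nat_lit 198) (nat_lit 1)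 (BT.one (nat_lit 5) (nat_lit 0x1a060204020b0f0110) (nat_lit 0x1a060204020b0f0110) [nat_lit 0, nat_lit 27, nat_lit 4, nat_lit 35, nat_lit 34, nat_lit 39, nat_lit 41]) BT.nil)))))))))))))))))))))))))))))))))))) BT.nil)))))))))) BT.nil))))))))

theorem ht_c19_cnt : Cnt 276 (grp 276 h_K) [g303] [g303] 0 0 0 0 36 :=
  BT.sound ht_c19_cnt_P Known.nil (t := ht_c19_cnt_t) (d := 0) (by decide +kernel)

theorem ht_c19_ge : 36 ≤ Nat.card (grp 276 ht_c19_K) :=
  Ch.le_card_grp (k := 9) (L := (lab 276 9)) hn ht_c19_K_ok (c := (Ch.cons (nat_lit 33) [nat_lit 1, nat_lit 3] (Ch.cons (nat_lit 269) [nat_lit 5] (Ch.cons (nat_lit 198) [nat_lit 7] Ch.nil)))) (by decide +kernel)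

theorem ht_c19_eq : (grp 276 h_K) ⊓ Subgroup.centralizer {Net.toPerm 276 g303} = grp 276 ht_c19_K :=
  cent_eq ht_c19_sym ht_c19_cnt ht_c19_ge

theorem ht_c19_card : Nat.card ↥((grp 276 h_K) ⊓ Subgroup.centralizer {Net.toPerm 276 g303}) = 36 :=
  card_cent ht_c19_sym ht_c19_cnt ht_c19_ge

theorem ht_c19_ord : orderOf (Net.toPerm 276 g303) = 6 :=
  orderOf_net hn hk g303_ok (by decide) (ps := [2, 3]) (by set_option linter.unusedSimpArgs false in simp [Nat.primeFactorsList_ofNat]) (by decide +kernel)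

theorem le313 : grp 276 ht_c20_K ≤ grp 276 h_K :=
  grp_le_of_memB hn hk h_K_ok ht_c20_K_ok (ws := [nat_lit 0xf0709070503050306, nat_lit 0xd090b070d060804050306, nat_lit 2315]) (by decide +kernel)

theorem ht_c20_le : grp 276 ht_c20_K ≤ (grp 276 h_K) :=
  (le313.trans TH_s0.le)

theorem ht_c20_mem : Net.toPerm 276 g311 ∈ (grp 276 h_K) :=
  ht_c20_le (toPerm_mem_grp (E := ht_c20_K) (List.Mem.head _))

theorem ht_c20_sym : Sym 276 (grp 276 h_K) [g311] ht_c20_K 0 :=
  Sym.of_lab hn hk (okE_cons.2 ⟨g311_ok, okE_nil _⟩) ht_c20_K_ok ht_c20_le (kT := 0) (by decide +kernel)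

theorem le315 : grp 276 V314 ≤ grp 276 V145 :=
  grp_le_of_memB hn hk V145_ok V314_ok (ws := [nat_lit 3]) (by decide +kernel)

theorem TH_s50 : Stab 276 (grp 276 h_K) [nat_lit 175, nat_lit 269, nat_lit 163, nat_lit 124, nat_lit 4, nat_lit 272] V314 2 :=
  Stab.step (k := 9) (L := (lab 276 9)) hn TH_s13 V314_ok le315 (c := (Ch.cons (nat_lit 193) [nat_lit 1] Ch.nil)) (by decide +kernel)

theorem TH_s51 : Stab 276 (grp 276 h_K) [nat_lit 193, nat_lit 175, nat_lit 269, nat_lit 163, nat_lit 124, nat_lit 4, nat_lit 272] V316 1 :=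
  Stab.step (k := 9) (L := (lab 276 9)) hn TH_s50 V316_ok (grp_mono (List.subset_append_right [n_t] _)) (c := Ch.nil) (by decide +kernel)

noncomputable def TH_s51_O : ℕ := (nat_lit 0x9993333366666ccccc99999b3333666664ccccd9999b3333266666ccccd9999933332c1f07c1f07c1f07c0f83e0f83e0f83e0f81f07c1f07c1f07c1f03e0f83e0f83e0f83e7319cc63398ce7319cc63398ce7319ce63398c67319ce63398c67319ce63398c6731826d926c93649b24db26d936c9b649b24d926d936c9b64db24d926c93649b64db26d92100000000000000000000000000000000000000000000000000000000000000000000000000000000000000000000000000000000000000000000000000000000000000010000000000000000000000000000000000000010000000000000000000000000000000000000000000000000000000000080000000000000000000000000000000000000000020000000000000000000000000000000000000000000000000000000000000000000000000000000000000000000080000000000000000000000000000000000000000000000000000000000000002000000000000000000000000000000000000000000000000)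

theorem TH_s51_F : Frame 276 (grp 276 h_K) 7 11 TH_s51_O 1 1 :=
  IsBase.frame TH_s51.isBase (by decide +kernel)

noncomputable def TH_s50_O : ℕ := (nat_lit 0x3450000008800230004510000000120022002010108000000000000000000000000cdc1a6f4de7347f98f61b2eb23e75ba82f913a5eefee4d5e001000010244210001000c84aa4af66e70349c77d3a6cf3ca396d7804040100012021fff7cffff74421000100024f4f6f3d4ee6e0d007e80079414420455d9361eec010221fdf7f0010afffbfd81000c9880b149091a8b67a17f77633492040459136d103ce70a1ff183df90addff027fa0085f3862dd564a072b61312ed441f7916c6b7440f83e12fc1e0fc1d87cae984f2785e0e44644a5fb17eb3ac098568a760e127a15c0fcec732c3e3998db3e67308c70ce6618cad64b3238513af61aa9cd14171aa0e7567342a2b4aba1b9556ba8b54aeb749a954d4a100000000000000000000000000000000000000000000000000000000000000000000000000000000000000000000000000000000000000000000000000000000000000010000000000000000000000000000000000000010000000000000000000000000000000000000000000000000000000000080000000000000000000000000000000000000000020000000000000000000000000000000000000000000000000000000000000000000000000000000000000000000080000000000000000000000000000000000000000000)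

theorem TH_s50_F : Frame 276 (grp 276 h_K) 6 14 TH_s50_O 0 1 :=
  Stab.frame hn TH_s50 (by decide +kernel)

noncomputable def ht_c20_cnt_L : List ℕ := [0, 1, TH_s0_O, 0, 0, 3, 15, TH_s3_O, 0, 0, 4, 10, TH_s4_O, 0, 0, 5, 12, TH_s13_O, 0, 0, 6, 14, TH_s50_O, 0, 0, 7, 11, TH_s51_O, 1, 0]

theorem ht_c20_cnt_P : Prob 276 9 (grp 276 h_K) ht_c20_cnt_EG [g311] [g311] ht_c20_K ht_c20_cnt_L 0 0 :=
  Sym.prob hn hk ht_c20_sym ht_c20_cnt_EG_ok (grp_cons_le g37_TH (grp_cons_le g38_TH (grp_cons_le g39_TH (grp_cons_le g40_TH (grp_cons_le g41_TH (grp_cons_le g42_TH (grp_cons_le g36_TH (grp_cons_le g35_TH (grp_cons_le g144_TH (grp_cons_le n_t_TH (grp_nil_le _))))))))))) (Frames.cons TH_s0_F (Frames.cons TH_s3_F (Frames.cons TH_s4_F (Frames.cons TH_s13_F (Frames.cons TH_s50_F (Frames.cons TH_s51_F Frames.nil)))))) (okE_cons.2 ⟨g311_ok, okE_nil _⟩) _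

noncomputable def ht_c20_cnt_t : BT := (BT.frm (nat_lit 0) (nat_lit 0) (nat_lit 0) [] (BT.pln (nat_lit 0) (nat_lit 0) (BT.fix (nat_lit 65793) (BT.and (nat_lit 1) (nat_lit 0) (BT.fix (nat_lit 1) (BT.dif (nat_lit 1) (nat_lit 0) (BT.br (nat_lit 0) (nat_lit 38) [nat_lit 1] (BT.kid (nat_lit 38) (nat_lit 4) (BT.img (nat_lit 1) (nat_lit 0) (BT.and (nat_lit 6) (nat_lit 3) (BT.frm (nat_lit 1) (nat_lit 0x103030e0204) (nat_lit 0x103030e0204) [nat_lit 1, nat_lit 2, nat_lit 0] (BT.pln (nat_lit 0) (nat_lit 13) (BT.and (nat_lit 9) (nat_lit 0) (BT.fix (nat_lit 257) (BT.dif (nat_lit 1) (nat_lit 0) (BT.br (nat_lit 0) (nat_lit 213) [nat_lit 3] (BT.dead (nat_lit 227) (BT.frm (nat_lit 2) (nat_lit 0x3030103030e0204) (nat_lit 0x305040103030e0204) [nat_lit 0, nat_lit 7, nat_lit 8, nat_lit 6] (BT.pln (nat_lit 0) (nat_lit 4) (BT.and (nat_lit 0) (nat_lit 4) (BT.cnt (nat_lit 0))))) (BT.dead (nat_lit 262) (BT.frm (nat_lit 2) (nat_lit 0x3030103030e0204) (nat_lit 0x3090103030e0204)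 [nat_lit 0, nat_lit 7, nat_lit 8, nat_lit 6] (BT.pln (nat_lit 0) (nat_lit 4) (BT.and (nat_lit 0) (nat_lit 4) (BT.cnt (nat_lit 0))))) (BT.kid (nat_lit 213) (nat_lit 2) (BT.dif (nat_lit 13) (nat_lit 4) (BT.pln (nat_lit 6) (nat_lit 12) (BT.and (nat_lit 1) (nat_lit 0) (BT.frm (nat_lit 2) (nat_lit 0x3030103030e0204) (nat_lit 0x3030103030e0204) [nat_lit 3, nat_lit 10, nat_lit 11, nat_lit 9] (BT.pln (nat_lit 0) (nat_lit 5) (BT.dif (nat_lit 2) (nat_lit 0) (BT.img (nat_lit 1) (nat_lit 6) (BT.frm (nat_lit 3) (nat_lit 0x503030103030e0204) (nat_lit 0x503030103030e0204) [nat_lit 0, nat_lit 7, nat_lit 14, nat_lit 15, nat_lit 13] (BT.pln (nat_lit 0) (nat_lit 5) (BT.and (nat_lit 3) (nat_lit 0) (BT.br (nat_lit 0) (nat_lit 265) [] (BT.dead (nat_lit 112) (BT.frm (nat_lit 4) (nat_lit 0x503030103030e0204) (nat_lit 0x110503030103030e0204) [nat_lit 0, nat_lit 4, nat_lit 11, nat_lit 18, nat_lit 19, nat_lit 17] (BT.pln (nat_lit 0) (nat_lit 6) (BT.and (nat_lit 0) (nat_lit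 25) (BT.and (nat_lit 0) (nat_lit 5) (BT.cnt (nat_lit 0)))))) (BT.kid (nat_lit 265) (nat_lit 2) (BT.pln (nat_lit 3) (nat_lit 10) (BT.and (nat_lit 3) (nat_lit 0) (BT.pln (nat_lit 5) (nat_lit 6) (BT.and (nat_lit 1) (nat_lit 0) (BT.dif (nat_lit 0) (nat_lit 10) (BT.pln (nat_lit 12) (nat_lit 6) (BT.dif (nat_lit 1) (nat_lit 0) (BT.frm (nat_lit 4) (nat_lit 0x503030103030e0204) (nat_lit 0x503030103030e0204) [nat_lit 7, nat_lit 11, nat_lit 18, nat_lit 25, nat_lit 26, nat_lit 24] (BT.pln (nat_lit 0) (nat_lit 10) (BT.dif (nat_lit 2) (nat_lit 0) (BT.br (nat_lit 0) (nat_lit 229) [nat_lit 5] (BT.kid (nat_lit 229) (nat_lit 1) (BT.one (nat_lit 5) (nat_lit 0x130503030103030e0204) (nat_lit 0x130503030103030e0204) [nat_lit 0, nat_lit 11, nat_lit 15, nat_lit 22, nat_lit 29, nat_lit 30, nat_lit 28]) BT.nil)))))))))))) BT.nil))))))))))))) BT.nil))))))))))) BT.nil))))))))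

theorem ht_c20_cnt : Cnt 276 (grp 276 h_K) [g311] [g311] 0 0 0 0 12 :=
  BT.sound ht_c20_cnt_P Known.nil (t := ht_c20_cnt_t) (d := 0) (by decide +kernel)

theorem ht_c20_ge : 12 ≤ Nat.card (grp 276 ht_c20_K) :=
  Ch.le_card_grp (k := 9) (L := (lab 276 9)) hn ht_c20_K_ok (c := (Ch.cons (nat_lit 38) [nat_lit 1] (Ch.cons (nat_lit 213) [nat_lit 3] (Ch.cons (nat_lit 229) [nat_lit 5] Ch.nil)))) (by decide +kernel)

theorem ht_c20_eq : (grp 276 h_K) ⊓ Subgroup.centralizer {Net.toPerm 276 g311} = grp 276 ht_c20_K :=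
  cent_eq ht_c20_sym ht_c20_cnt ht_c20_ge

theorem ht_c20_card : Nat.card ↥((grp 276 h_K) ⊓ Subgroup.centralizer {Net.toPerm 276 g311}) = 12 :=
  card_cent ht_c20_sym ht_c20_cnt ht_c20_ge

theorem ht_c20_ord : orderOf (Net.toPerm 276 g311) = 6 :=
  orderOf_net hn hk g311_ok (by decide) (ps := [2, 3]) (by set_option linter.unusedSimpArgs false in simp [Nat.primeFactorsList_ofNat]) (by decide +kernel)

theorem le319 : grp 276 ht_c21_K ≤ grp 276 h_K :=
  grp_le_of_memB hn hk h_K_ok ht_c21_K_ok (ws := [nat_lit 0xf0d0905050405030501010d, nat_lit 0xf0d0508060405050209]) (by decide +kernel)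

theorem ht_c21_le : grp 276 ht_c21_K ≤ (grp 276 h_K) :=
  (le319.trans TH_s0.le)

theorem ht_c21_mem : Net.toPerm 276 g317 ∈ (grp 276 h_K) :=
  ht_c21_le (toPerm_mem_grp (E := ht_c21_K) (List.Mem.tail _ (List.Mem.head _)))

theorem ht_c21_sym : Sym 276 (grp 276 h_K) [g317] ht_c21_K 0 :=
  Sym.of_lab hn hk (okE_cons.2 ⟨g317_ok, okE_nil _⟩) ht_c21_K_ok ht_c21_le (kT := 0) (by decide +kernel)

theorem le324 : grp 276 V323 ≤ grp 276 V117 :=
  grp_le_of_memB hn hk V117_ok V323_ok (ws := [nat_lit 0xb0903050b0205, nat_lit 0xd0b070905050306040205, nat_lit 0xb07090303010404]) (by decide +kernel)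

theorem TH_s52 : Stab 276 (grp 276 h_K) [nat_lit 24, nat_lit 272] V323 336 :=
  Stab.step (k := 9) (L := (lab 276 9)) hn TH_s1 V323_ok le324 (c := (Ch.cons (nat_lit 69) [nat_lit 1] (Ch.cons (nat_lit 191) [nat_lit 3, nat_lit 5] Ch.nil))) (by decide +kernel)

theorem TH_s53 : Stab 276 (grp 276 h_K) [nat_lit 69, nat_lit 24, nat_lit 272] V325 12 :=
  Stab.step (k := 9) (L := (lab 276 9)) hn TH_s52 V325_ok (grp_mono (List.subset_append_right [g320] _)) (c := (Ch.cons (nat_lit 191) [nat_lit 1, nat_lit 3] Ch.nil)) (by decide +kernel)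

theorem TH_s54 : Stab 276 (grp 276 h_K) [nat_lit 191, nat_lit 69, nat_lit 24, nat_lit 272] V326 1 :=
  Stab.step (k := 9) (L := (lab 276 9)) hn TH_s53 V326_ok (grp_mono (List.subset_append_right [g321, g322] _)) (c := Ch.nil) (by decide +kernel)

theorem g320_TH : Net.toPerm 276 g320 ∈ (grp 276 h_K) :=
  TH_s52.le (toPerm_mem_grp (E := V323) (List.Mem.head _))

theorem g321_TH : Net.toPerm 276 g321 ∈ (grp 276 h_K) :=
  TH_s52.le (toPerm_mem_grp (E := V323) (List.Mem.tail _ (List.Mem.head _)))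

theorem g322_TH : Net.toPerm 276 g322 ∈ (grp 276 h_K) :=
  TH_s52.le (toPerm_mem_grp (E := V323) (List.Mem.tail _ (List.Mem.tail _ (List.Mem.head _))))

noncomputable def TH_s54_O : ℕ := (nat_lit 0x9993333366666ccccc99999b3333666664ccccd9999b3333266666ccccd9999933332c1f07c1f07c1f07c0f83e0f83e0f83e0f81f07c1f07c1f07c1f03e0f83e0f83e0f83e7319cc63398ce7319cc63398ce7319ce63398c67319ce63398c67319ce63398c6731826d926c93649b24db26d936c9b649b24d926d936c9b64db24d926c93649b64db26d92100000000000000000000000000000000000000000000000000000000000000000000000000000000000000000000000000000000000000000000000000000000001000000000000000000000000000000000000000000000000000000000200000000000000000000000000000000000000800000000000000000000000000000000000000000000000)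

theorem TH_s54_F : Frame 276 (grp 276 h_K) 4 8 TH_s54_O 1 1 :=
  IsBase.frame TH_s54.isBase (by decide +kernel)

noncomputable def TH_s53_O : ℕ := (nat_lit 0x2200000800004000084020001000020800000018000080000400000204000000010641802033081862231e325442341481440fb5828025104286ab8801a1060a028910800a8cd0dc434ee723c3130ad2c904bca5c34f41d6828f8c184120010b61339d24d11886cc9ad3855e344250faea0873679610612985a93a242337c5f291d8a482982c446f4848b02c3fb523853a5f1fea89e6c70e392586805575fd012e08f09a8a5bd61a063f9346de225c33e37202cea33258fc03a1d89c93c6221bce9193347e0e2acbcae3465da2aa100000000000000000000000000000000000000000000000000000000000000000000000000000000000000000000000000000000000000000000000000000000001000000000000000000000000000000000000000000000000000000000200000000000000000)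

theorem TH_s53_F : Frame 276 (grp 276 h_K) 3 9 TH_s53_O 0 1 :=
  Stab.frame hn TH_s53 (by decide +kernel)

noncomputable def TH_s52_O : ℕ := (nat_lit 0x10000000000000000000000000000000000000000000030000000008002100000000000001200020000101000000010000000440000010000204500000080000200045100800800000200120000080000000000102002100000100000001c0100010000080a0000040020400840540004000040020000413008208018000410923200000040404800014280100100002000000324414819c00100802c004e402c8080004042440143310086e2412c0103940082808b00180b0001020003100450008410226001cb1024008c020610100400008413809284005a1200c60b48c00000902002100000000000000000000000000000000000000000000000000000000000000000000000000000000000000000000000000000000000000000000000000000000001000000)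

theorem TH_s52_F : Frame 276 (grp 276 h_K) 2 9 TH_s52_O 0 1 :=
  Stab.frame hn TH_s52 (by decide +kernel)

noncomputable def ht_c21_cnt_L : List ℕ := [0, 1, TH_s0_O, 0, 0, 2, 9, TH_s52_O, 0, 0, 3, 9, TH_s53_O, 0, 0, 4, 8, TH_s54_O, 1, 0]

theorem ht_c21_cnt_P : Prob 276 9 (grp 276 h_K) ht_c21_cnt_EG [g317] [g317] ht_c21_K ht_c21_cnt_L 0 0 :=
  Sym.prob hn hk ht_c21_sym ht_c21_cnt_EG_ok (grp_cons_le g36_TH (grp_cons_le g37_TH (grp_cons_le g38_TH (grp_cons_le g39_TH (grp_cons_le g40_TH (grp_cons_le g41_TH (grp_cons_le g42_TH (grp_cons_le g35_TH (grp_cons_le g320_TH (grp_cons_le g321_TH (grp_cons_le g322_TH (grp_nil_le _)))))))))))) (Frames.cons TH_s0_F (Frames.cons TH_s52_F (Frames.cons TH_s53_F (Frames.cons TH_s54_F Frames.nil)))) (okE_cons.2 ⟨g317_ok, okE_nil _⟩) _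

noncomputable def ht_c21_cnt_t : BT := (BT.fix (nat_lit 1) (BT.frm (nat_lit 0) (nat_lit 0) (nat_lit 0) [] (BT.pln (nat_lit 0) (nat_lit 0) (BT.dif (nat_lit 2) (nat_lit 0) (BT.br (nat_lit 0) (nat_lit 234) [nat_lit 1] (BT.kid (nat_lit 234) (nat_lit 7) (BT.and (nat_lit 2) (nat_lit 4) (BT.frm (nat_lit 1) (nat_lit 0x10505041002) (nat_lit 0x10505041002) [nat_lit 1, nat_lit 0] (BT.pln (nat_lit 0) (nat_lit 5) (BT.br (nat_lit 0) (nat_lit 3) [nat_lit 3] (BT.dead (nat_lit 92) (BT.pln (nat_lit 2) (nat_lit 2) (BT.frm (nat_lit 2) (nat_lit 0x11111311010505041002) (nat_lit 0x11111612010505041002) [nat_lit 1, nat_lit 5, nat_lit 4] (BT.pln (nat_lit 0) (nat_lit 3) (BT.dif (nat_lit 2) (nat_lit 0) (BT.pln (nat_lit 2) (nat_lit 5) (BT.dif (nat_lit 1) (nat_lit 0) (BT.pln (nat_lit 4) (nat_lit 6) (BT.dif (nat_lit 1) (nat_lit 0) (BT.pln (nat_lit 6) (nat_lit 7) (BT.and (nat_lit 1) (nat_lit 0) (BT.pln (nat_lit 8) (nat_lit 8) (BT.and (nat_lit 0) (nat_lit 8) (BT.dif (nat_lit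 0) (nat_lit 18) (BT.dif (nat_lit 0) (nat_lit 8) (BT.img (nat_lit 1) (nat_lit 0) (BT.and (nat_lit 5) (nat_lit 0) (BT.img (nat_lit 1) (nat_lit 0) (BT.and (nat_lit 0) (nat_lit 14) (BT.cnt (nat_lit 0)))))))))))))))))))) (BT.dead (nat_lit 271) (BT.pln (nat_lit 2) (nat_lit 2) (BT.frm (nat_lit 2) (nat_lit 0x11111311010505041002) (nat_lit 0x121216010505041002) [nat_lit 1, nat_lit 5, nat_lit 4] (BT.pln (nat_lit 0) (nat_lit 3) (BT.dif (nat_lit 2) (nat_lit 0) (BT.pln (nat_lit 2) (nat_lit 5) (BT.dif (nat_lit 1) (nat_lit 0) (BT.pln (nat_lit 4) (nat_lit 6) (BT.dif (nat_lit 1) (nat_lit 0) (BT.pln (nat_lit 6) (nat_lit 7) (BT.and (nat_lit 1) (nat_lit 0) (BT.pln (nat_lit 8) (nat_lit 8) (BT.and (nat_lit 0) (nat_lit 8) (BT.dif (nat_lit 0) (nat_lit 18) (BT.dif (nat_lit 0) (nat_lit 8) (BT.img (nat_lit 1) (nat_lit 0) (BT.and (nat_lit 5) (nat_lit 0) (BT.img (nat_lit 1) (nat_lit 0) (BT.and (nat_lit 0) (nat_lit 14) (BT.cnt (nat_lit 0)))))))))))))))))))) (BT.dead (nat_lit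 56) (BT.pln (nat_lit 2) (nat_lit 2) (BT.frm (nat_lit 2) (nat_lit 0x11111311010505041002) (nat_lit 0x1212010505041002) [nat_lit 1, nat_lit 5, nat_lit 4] (BT.pln (nat_lit 0) (nat_lit 3) (BT.dif (nat_lit 2) (nat_lit 0) (BT.pln (nat_lit 2) (nat_lit 5) (BT.dif (nat_lit 1) (nat_lit 0) (BT.pln (nat_lit 4) (nat_lit 6) (BT.dif (nat_lit 1) (nat_lit 0) (BT.pln (nat_lit 6) (nat_lit 7) (BT.and (nat_lit 1) (nat_lit 0) (BT.pln (nat_lit 8) (nat_lit 8) (BT.and (nat_lit 0) (nat_lit 8) (BT.dif (nat_lit 0) (nat_lit 18) (BT.dif (nat_lit 0) (nat_lit 8) (BT.img (nat_lit 1) (nat_lit 0) (BT.and (nat_lit 5) (nat_lit 0) (BT.img (nat_lit 1) (nat_lit 0) (BT.and (nat_lit 0) (nat_lit 12) (BT.cnt (nat_lit 0)))))))))))))))))))) (BT.kid (nat_lit 3) (nat_lit 1) (BT.img (nat_lit 1) (nat_lit 0) (BT.one (nat_lit 3) (nat_lit 0x1311111311010505041002) (nat_lit 0x1311111311010505041002) [nat_lit 0, nat_lit 1, nat_lit 5, nat_lit 4])) BT.nil)))))))) BT.nil))))))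

theorem ht_c21_cnt : Cnt 276 (grp 276 h_K) [g317] [g317] 0 0 0 0 14 :=
  BT.sound ht_c21_cnt_P Known.nil (t := ht_c21_cnt_t) (d := 0) (by decide +kernel)

theorem ht_c21_ge : 14 ≤ Nat.card (grp 276 ht_c21_K) :=
  Ch.le_card_grp (k := 9) (L := (lab 276 9)) hn ht_c21_K_ok (c := (Ch.cons (nat_lit 234) [nat_lit 1] (Ch.cons (nat_lit 3) [nat_lit 3] Ch.nil))) (by decide +kernel)

theorem ht_c21_eq : (grp 276 h_K) ⊓ Subgroup.centralizer {Net.toPerm 276 g317} = grp 276 ht_c21_K :=
  cent_eq ht_c21_sym ht_c21_cnt ht_c21_ge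

theorem ht_c21_card : Nat.card ↥((grp 276 h_K) ⊓ Subgroup.centralizer {Net.toPerm 276 g317}) = 14 :=
  card_cent ht_c21_sym ht_c21_cnt ht_c21_ge

theorem ht_c21_ord : orderOf (Net.toPerm 276 g317) = 7 :=
  orderOf_net hn hk g317_ok (by decide) (ps := [7]) (by set_option linter.unusedSimpArgs false in simp [Nat.primeFactorsList_ofNat]) (by decide +kernel)

theorem le331 : grp 276 ht_c22_K ≤ grp 276 h_K :=
  grp_le_of_memB hn hk h_K_ok ht_c22_K_ok (ws := [nat_lit 0xf0b070905080504060801090f, nat_lit 0xf0d0907090505080407030101, nat_lit 0xf0d090b07070603060101, nat_lit 0xf0907090805070d040503020d]) (by decide +kernel)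

theorem ht_c22_le : grp 276 ht_c22_K ≤ (grp 276 h_K) :=
  (le331.trans TH_s0.le)

theorem ht_c22_mem : Net.toPerm 276 g327 ∈ (grp 276 h_K) :=
  ht_c22_le (toPerm_mem_grp (E := ht_c22_K) (List.Mem.head _))

theorem ht_c22_sym : Sym 276 (grp 276 h_K) [g327] ht_c22_K 0 :=
  Sym.of_lab hn hk (okE_cons.2 ⟨g327_ok, okE_nil _⟩) ht_c22_K_ok ht_c22_le (kT := 0) (by decide +kernel)

theorem le334 : grp 276 V333 ≤ grp 276 V132 :=
  grp_le_of_memB hn hk V132_ok V333_ok (ws := [nat_lit 769]) (by decide +kernel)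

theorem TH_s55 : Stab 276 (grp 276 h_K) [nat_lit 156, nat_lit 152, nat_lit 124, nat_lit 4, nat_lit 272] V333 2 :=
  Stab.step (k := 9) (L := (lab 276 9)) hn TH_s8 V333_ok le334 (c := (Ch.cons (nat_lit 114) [nat_lit 1] Ch.nil)) (by decide +kernel)

theorem TH_s56 : Stab 276 (grp 276 h_K) [nat_lit 114, nat_lit 156, nat_lit 152, nat_lit 124, nat_lit 4, nat_lit 272] V335 1 :=
  Stab.step (k := 9) (L := (lab 276 9)) hn TH_s55 V335_ok (grp_mono (List.subset_append_right [g332] _)) (c := Ch.nil) (by decide +kernel)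

theorem g332_TH : Net.toPerm 276 g332 ∈ (grp 276 h_K) :=
  TH_s55.le (toPerm_mem_grp (E := V333) (List.Mem.head _))

noncomputable def TH_s56_O : ℕ := (nat_lit 0x9993333366666ccccc99999b3333666664ccccd9999b3333266666ccccd9999933332c1f07c1f07c1f07c0f83e0f83e0f83e0f81f07c1f07c1f07c1f03e0f83e0f83e0f83e7319cc63398ce7319cc63398ce7319ce63398c67319ce63398c67319ce63398c6731826d926c93649b24db26d936c9b649b24d926d936c9b64db24d926c93649b64db26d92100000000000000000000000000000000000000000000000000000000000000000000000000000000000000000000000000000000000000000000000000000000000000010000000000000000000000000000000000000010000000000000000000000000000000000000000000000000000000000000100000000000000000000000000000000000000000000000000000000000000000001000000000000000000000000000000000000000000000000000000000000000000000000000000040000000000000000000000000000)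

theorem TH_s56_F : Frame 276 (grp 276 h_K) 6 10 TH_s56_O 1 1 :=
  IsBase.frame TH_s56.isBase (by decide +kernel)

noncomputable def TH_s55_O : ℕ := (nat_lit 0x2060050090020000401012000000002002008101400009802001000000000000000068895ca094dddfdfd164aedbfeede2691fd586a7eb7f35620000001300c80000101006db05f03f65a9a3fc86a6ad8bc1bdaed20007040008008005df7cffff7dd8000101004b17ba5fcd59d58e23fc1403022208843f4ed6efe80040004df7ef1300ea7fff90100a058c08010822cb0fe992beada7038863f67eec803fe880569fc20ffe8c87f807fd00eaef3c2fb262bcf12e0d27d7464b94007cd1507f17613481598be0fb17a078786c2e0e609aed1e673275dfe10f62aa44c02c67914f434d319eb5cc86b0cd6947c66666328c45bc316bf8b8e15b5a11acaf369152a097274272a6555b35435aaab55a5355555aa4a100000000000000000000000000000000000000000000000000000000000000000000000000000000000000000000000000000000000000000000000000000000000000010000000000000000000000000000000000000010000000000000000000000000000000000000000000000000000000000000100000000000000000000000000000000000000000000000000000000000000000001000000000000000000000000000000000000000)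

theorem TH_s55_F : Frame 276 (grp 276 h_K) 5 13 TH_s55_O 0 1 :=
  Stab.frame hn TH_s55 (by decide +kernel)

noncomputable def ht_c22_cnt_L : List ℕ := [0, 1, TH_s0_O, 0, 0, 2, 5, TH_s2_O, 0, 0, 3, 15, TH_s3_O, 0, 0, 4, 9, TH_s8_O, 0, 0, 5, 13, TH_s55_O, 0, 0, 6, 10, TH_s56_O, 1, 0]

theorem ht_c22_cnt_P : Prob 276 9 (grp 276 h_K) ht_c22_cnt_EG [g327] [g327] ht_c22_K ht_c22_cnt_L 0 0 :=
  Sym.prob hn hk ht_c22_sym ht_c22_cnt_EG_ok (grp_cons_le g36_TH (grp_cons_le g37_TH (grp_cons_le g38_TH (grp_cons_le g39_TH (grp_cons_le g40_TH (grp_cons_le g41_TH (grp_cons_le g42_TH (grp_cons_le g35_TH (grp_cons_le g129_TH (grp_cons_le g130_TH (grp_cons_le g131_TH (grp_cons_le n_t_TH (grp_cons_le g332_TH (grp_nil_le _)))))))))))))) (Frames.cons TH_s0_F (Frames.cons TH_s2_F (Frames.cons TH_s3_F (Frames.cons TH_s8_F (Frames.cons TH_s55_F (Frames.cons TH_s56_F Frames.nil)))))) (okE_cons.2 ⟨g327_ok, okE_nil _⟩) _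

noncomputable def ht_c22_cnt_t : BT := (BT.frm (nat_lit 0) (nat_lit 0) (nat_lit 0) [] (BT.pln (nat_lit 0) (nat_lit 0) (BT.fix (nat_lit 257) (BT.and (nat_lit 1) (nat_lit 0) (BT.fix (nat_lit 1) (BT.dif (nat_lit 1) (nat_lit 0) (BT.br (nat_lit 0) (nat_lit 188) [nat_lit 1] (BT.kid (nat_lit 188) (nat_lit 96) (BT.dif (nat_lit 5) (nat_lit 4) (BT.dif (nat_lit 2) (nat_lit 1) (BT.frm (nat_lit 1) (nat_lit 0x103061007) (nat_lit 0x103061007) [nat_lit 0, nat_lit 2] (BT.pln (nat_lit 0) (nat_lit 3) (BT.and (nat_lit 3) (nat_lit 0) (BT.br (nat_lit 0) (nat_lit 269) [nat_lit 3] (BT.dead (nat_lit 99) (BT.frm (nat_lit 2) (nat_lit 0x305050103061007) (nat_lit 0x303030103061007) [nat_lit 0, nat_lit 4, nat_lit 6] (BT.pln (nat_lit 0) (nat_lit 9) (BT.img (nat_lit 1) (nat_lit 2) (BT.frm (nat_lit 3) (nat_lit 0xb0305050103061007) (nat_lit 0x303030103061007) [nat_lit 0, nat_lit 3, nat_lit 7, nat_lit 9] (BT.pln (nat_lit 0) (nat_lit 4) (BT.and (nat_lit 3) (nat_lit 0) (BT.br (nat_lit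 0) (nat_lit 118) [nat_lit 0x7030303, nat_lit 1539] (BT.dead (nat_lit 36) (BT.frm (nat_lit 4) (nat_lit 0x170b0305050103061007) (nat_lit 0x160303030103061007) [nat_lit 0, nat_lit 4, nat_lit 7, nat_lit 11, nat_lit 13] (BT.pln (nat_lit 0) (nat_lit 5) (BT.img (nat_lit 1) (nat_lit 2) (BT.and (nat_lit 1) (nat_lit 0) (BT.cnt (nat_lit 0)))))) BT.nil)))))))) (BT.kid (nat_lit 269) (nat_lit 16) (BT.frm (nat_lit 2) (nat_lit 0x305050103061007) (nat_lit 0x305050103061007) [nat_lit 0, nat_lit 4, nat_lit 6] (BT.pln (nat_lit 0) (nat_lit 9) (BT.img (nat_lit 1) (nat_lit 2) (BT.frm (nat_lit 3) (nat_lit 0xb0305050103061007) (nat_lit 0xb0305050103061007) [nat_lit 0, nat_lit 3, nat_lit 7, nat_lit 9] (BT.pln (nat_lit 0) (nat_lit 4) (BT.and (nat_lit 3) (nat_lit 0) (BT.br (nat_lit 0) (nat_lit 118) [nat_lit 5] (BT.kid (nat_lit 118) (nat_lit 2) (BT.dif (nat_lit 22) (nat_lit 2) (BT.pln (nat_lit 4) (nat_lit 7) (BT.and (nat_lit 1) (nat_lit 0) (BT.pln (nat_lit 6) (nat_lit 5) (BT.dif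 (nat_lit 1) (nat_lit 0) (BT.pln (nat_lit 8) (nat_lit 6) (BT.dif (nat_lit 1) (nat_lit 0) (BT.dif (nat_lit 0) (nat_lit 22) (BT.frm (nat_lit 4) (nat_lit 0x170b0305050103061007) (nat_lit 0x170b0305050103061007) [nat_lit 8, nat_lit 12, nat_lit 15, nat_lit 19, nat_lit 21] (BT.pln (nat_lit 0) (nat_lit 5) (BT.dif (nat_lit 2) (nat_lit 0) (BT.pln (nat_lit 2) (nat_lit 7) (BT.dif (nat_lit 1) (nat_lit 0) (BT.br (nat_lit 0) (nat_lit 142) [nat_lit 7] (BT.kid (nat_lit 142) (nat_lit 1) (BT.one (nat_lit 5) (nat_lit 0x170b0305050103061007) (nat_lit 0x170b0305050103061007) [nat_lit 0, nat_lit 14, nat_lit 18, nat_lit 21, nat_lit 25, nat_lit 27]) BT.nil))))))))))))))) BT.nil)))))))) BT.nil)))))))) BT.nil))))))))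

theorem ht_c22_cnt : Cnt 276 (grp 276 h_K) [g327] [g327] 0 0 0 0 192 :=
  BT.sound ht_c22_cnt_P Known.nil (t := ht_c22_cnt_t) (d := 0) (by decide +kernel)

theorem ht_c22_ge : 192 ≤ Nat.card (grp 276 ht_c22_K) :=
  Ch.le_card_grp (k := 9) (L := (lab 276 9)) hn ht_c22_K_ok (c := (Ch.cons (nat_lit 188) [nat_lit 1] (Ch.cons (nat_lit 269) [nat_lit 3] (Ch.cons (nat_lit 118) [nat_lit 5] (Ch.cons (nat_lit 142) [nat_lit 7] Ch.nil))))) (by decide +kernel)

theorem ht_c22_eq : (grp 276 h_K) ⊓ Subgroup.centralizer {Net.toPerm 276 g327} = grp 276 ht_c22_K :=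
  cent_eq ht_c22_sym ht_c22_cnt ht_c22_ge

theorem ht_c22_card : Nat.card ↥((grp 276 h_K) ⊓ Subgroup.centralizer {Net.toPerm 276 g327}) = 192 :=
  card_cent ht_c22_sym ht_c22_cnt ht_c22_ge

theorem ht_c22_ord : orderOf (Net.toPerm 276 g327) = 8 :=
  orderOf_net hn hk g327_ok (by decide) (ps := [2]) (by set_option linter.unusedSimpArgs false in simp [Nat.primeFactorsList_ofNat]) (by decide +kernel)

theorem le341 : grp 276 ht_c23_K ≤ grp 276 h_K :=
  grp_le_of_memB hn hk h_K_ok ht_c23_K_ok (ws := [nat_lit 0x8060703050307010307, nat_lit 0xf090b070d05040604070103, nat_lit 0xf090b07050707040d0209, nat_lit 0x707060407, nat_lit 0xf070d060305030103]) (by decide +kernel)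

theorem ht_c23_le : grp 276 ht_c23_K ≤ (grp 276 h_K) :=
  (le341.trans TH_s0.le)

theorem ht_c23_mem : Net.toPerm 276 g336 ∈ (grp 276 h_K) :=
  ht_c23_le (toPerm_mem_grp (E := ht_c23_K) (List.Mem.tail _ (List.Mem.head _)))

theorem ht_c23_sym : Sym 276 (grp 276 h_K) [g336] ht_c23_K 0 :=
  Sym.of_lab hn hk (okE_cons.2 ⟨g336_ok, okE_nil _⟩) ht_c23_K_ok ht_c23_le (kT := 0) (by decide +kernel)

noncomputable def ht_c23_cnt_L : List ℕ := [0, 1, TH_s0_O, 0, 0, 2, 5, TH_s2_O, 0, 0, 3, 15, TH_s3_O, 0, 0, 4, 9, TH_s8_O, 0, 0, 5, 13, TH_s55_O, 0, 0, 6, 10, TH_s56_O, 1, 0]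

theorem ht_c23_cnt_P : Prob 276 9 (grp 276 h_K) ht_c23_cnt_EG [g336] [g336] ht_c23_K ht_c23_cnt_L 0 0 :=
  Sym.prob hn hk ht_c23_sym ht_c23_cnt_EG_ok (grp_cons_le g36_TH (grp_cons_le g37_TH (grp_cons_le g38_TH (grp_cons_le g39_TH (grp_cons_le g40_TH (grp_cons_le g41_TH (grp_cons_le g42_TH (grp_cons_le g35_TH (grp_cons_le g129_TH (grp_cons_le g130_TH (grp_cons_le g131_TH (grp_cons_le n_t_TH (grp_cons_le g332_TH (grp_nil_le _)))))))))))))) (Frames.cons TH_s0_F (Frames.cons TH_s2_F (Frames.cons TH_s3_F (Frames.cons TH_s8_F (Frames.cons TH_s55_F (Frames.cons TH_s56_F Frames.nil)))))) (okE_cons.2 ⟨g336_ok, okE_nil _⟩) _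

noncomputable def ht_c23_cnt_t : BT := (BT.fix (nat_lit 1) (BT.br (nat_lit 0) (nat_lit 265) [nat_lit 1] (BT.kid (nat_lit 265) (nat_lit 96) (BT.frm (nat_lit 0) (nat_lit 0) (nat_lit 0) [] (BT.pln (nat_lit 0) (nat_lit 0) (BT.and (nat_lit 0) (nat_lit 3) (BT.dif (nat_lit 0) (nat_lit 3) (BT.frm (nat_lit 1) (nat_lit 0x2030f0f03) (nat_lit 0x2030f0f03) [nat_lit 0, nat_lit 4] (BT.pln (nat_lit 0) (nat_lit 3) (BT.and (nat_lit 4) (nat_lit 0) (BT.fix (nat_lit 257) (BT.dif (nat_lit 1) (nat_lit 0) (BT.br (nat_lit 0) (nat_lit 112) [nat_lit 3, nat_lit 5] (BT.kid (nat_lit 112) (nat_lit 8) (BT.frm (nat_lit 2) (nat_lit 0x30602030f0f03) (nat_lit 0x30602030f0f03) [nat_lit 0, nat_lit 6, nat_lit 10] (BT.pln (nat_lit 0) (nat_lit 9) (BT.img (nat_lit 1) (nat_lit 2) (BT.frm (nat_lit 3) (nat_lit 0xb05030602030f0f03) (nat_lit 0xb05030602030f0f03) [nat_lit 0, nat_lit 3, nat_lit 9, nat_lit 13] (BT.pln (nat_lit 0) (nat_lit 4) (BT.and (nat_lit 3) (nat_lit 0) (BT.br (nat_lit 0)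 (nat_lit 53) [nat_lit 7, nat_lit 9] (BT.dead (nat_lit 254) (BT.frm (nat_lit 4) (nat_lit 0x11110b05030602030f0f03) (nat_lit 0x160b05030602030f0f03) [nat_lit 0, nat_lit 4, nat_lit 7, nat_lit 13, nat_lit 17] (BT.pln (nat_lit 0) (nat_lit 5) (BT.img (nat_lit 1) (nat_lit 2) (BT.and (nat_lit 1) (nat_lit 0) (BT.cnt (nat_lit 0)))))) (BT.kid (nat_lit 53) (nat_lit 2) (BT.dif (nat_lit 21) (nat_lit 2) (BT.pln (nat_lit 4) (nat_lit 7) (BT.and (nat_lit 1) (nat_lit 0) (BT.pln (nat_lit 6) (nat_lit 5) (BT.dif (nat_lit 1) (nat_lit 0) (BT.pln (nat_lit 8) (nat_lit 6) (BT.dif (nat_lit 1) (nat_lit 0) (BT.dif (nat_lit 0) (nat_lit 16) (BT.frm (nat_lit 4) (nat_lit 0x11110b05030602030f0f03) (nat_lit 0x11110b05030602030f0f03) [nat_lit 8, nat_lit 12, nat_lit 15, nat_lit 21, nat_lit 25] (BT.pln (nat_lit 0) (nat_lit 5) (BT.dif (nat_lit 2) (nat_lit 0) (BT.pln (nat_lit 2) (nat_lit 7) (BT.dif (nat_lit 1) (nat_lit 0) (BT.br (nat_lit 0) (nat_lit 255) [nat_lit 9] (BT.kid (nat_lit 255)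 (nat_lit 1) (BT.one (nat_lit 5) (nat_lit 0x11110b05030602030f0f03) (nat_lit 0x11110b05030602030f0f03) [nat_lit 0, nat_lit 14, nat_lit 18, nat_lit 21, nat_lit 27, nat_lit 31]) BT.nil))))))))))))))) BT.nil))))))))) BT.nil))))))))))) BT.nil)))

theorem ht_c23_cnt : Cnt 276 (grp 276 h_K) [g336] [g336] 0 0 0 0 192 :=
  BT.sound ht_c23_cnt_P Known.nil (t := ht_c23_cnt_t) (d := 0) (by decide +kernel)

theorem ht_c23_ge : 192 ≤ Nat.card (grp 276 ht_c23_K) :=
  Ch.le_card_grp (k := 9) (L := (lab 276 9)) hn ht_c23_K_ok (c := (Ch.cons (nat_lit 265) [nat_lit 1] (Ch.cons (nat_lit 112) [nat_lit 3, nat_lit 5] (Ch.cons (nat_lit 53) [nat_lit 7] (Ch.cons (nat_lit 255) [nat_lit 9] Ch.nil))))) (by decide +kernel)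

theorem ht_c23_eq : (grp 276 h_K) ⊓ Subgroup.centralizer {Net.toPerm 276 g336} = grp 276 ht_c23_K :=
  cent_eq ht_c23_sym ht_c23_cnt ht_c23_ge

theorem ht_c23_card : Nat.card ↥((grp 276 h_K) ⊓ Subgroup.centralizer {Net.toPerm 276 g336}) = 192 :=
  card_cent ht_c23_sym ht_c23_cnt ht_c23_ge

theorem ht_c23_ord : orderOf (Net.toPerm 276 g336) = 8 :=
  orderOf_net hn hk g336_ok (by decide) (ps := [2]) (by set_option linter.unusedSimpArgs false in simp [Nat.primeFactorsList_ofNat]) (by decide +kernel)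

theorem le344 : grp 276 ht_c24_K ≤ grp 276 h_K :=
  grp_le_of_memB hn hk h_K_ok ht_c24_K_ok (ws := [nat_lit 0xf0707050806040d03010502, nat_lit 0xb0705070d010505, nat_lit 2315]) (by decide +kernel)

theorem ht_c24_le : grp 276 ht_c24_K ≤ (grp 276 h_K) :=
  (le344.trans TH_s0.le)

theorem ht_c24_mem : Net.toPerm 276 g342 ∈ (grp 276 h_K) :=
  ht_c24_le (toPerm_mem_grp (E := ht_c24_K) (List.Mem.head _))

theorem ht_c24_sym : Sym 276 (grp 276 h_K) [g342] ht_c24_K 0 :=
  Sym.of_lab hn hk (okE_cons.2 ⟨g342_ok, okE_nil _⟩) ht_c24_K_ok ht_c24_le (kT := 0) (by decide +kernel)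

theorem le346 : grp 276 V345 ≤ grp 276 V314 :=
  grp_le_of_memB hn hk V314_ok V345_ok (ws := []) (by decide +kernel)

theorem TH_s57 : Stab 276 (grp 276 h_K) [nat_lit 50, nat_lit 175, nat_lit 269, nat_lit 163, nat_lit 124, nat_lit 4, nat_lit 272] V345 1 :=
  Stab.step (k := 9) (L := (lab 276 9)) hn TH_s50 V345_ok le346 (c := Ch.nil) (by decide +kernel)

noncomputable def TH_s57_O : ℕ := (nat_lit 0x9993333366666ccccc99999b3333666664ccccd9999b3333266666ccccd9999933332c1f07c1f07c1f07c0f83e0f83e0f83e0f81f07c1f07c1f07c1f03e0f83e0f83e0f83e7319cc63398ce7319cc63398ce7319ce63398c67319ce63398c67319ce63398c6731826d926c93649b24db26d936c9b649b24d926d936c9b64db24d926c93649b64db26d92100000000000000000000000000000000000000000000000000000000000000000000000000000000000000000000000000000000000000000000000000000000000000010000000000000000000000000000000000000010000000000000000000000000000000000000000000000000000000000080000000000000000000000000000000000000000020000000000000000000000000000000000000000000000000000000000000000000000000000000000000000000080000000000000000000000000000000000000000000000000000000000000000000000000000000000000000000000000004000000000000)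

theorem TH_s57_F : Frame 276 (grp 276 h_K) 7 11 TH_s57_O 1 1 :=
  IsBase.frame TH_s57.isBase (by decide +kernel)

noncomputable def ht_c24_cnt_L : List ℕ := [0, 1, TH_s0_O, 0, 0, 2, 5, TH_s2_O, 0, 0, 4, 10, TH_s4_O, 0, 0, 5, 12, TH_s13_O, 0, 0, 7, 11, TH_s57_O, 1, 0]

theorem ht_c24_cnt_P : Prob 276 9 (grp 276 h_K) ht_c24_cnt_EG [g342] [g342] ht_c24_K ht_c24_cnt_L 0 0 :=
  Sym.prob hn hk ht_c24_sym ht_c24_cnt_EG_ok (grp_cons_le g36_TH (grp_cons_le g37_TH (grp_cons_le g38_TH (grp_cons_le g39_TH (grp_cons_le g40_TH (grp_cons_le g41_TH (grp_cons_le g42_TH (grp_cons_le g35_TH (grp_cons_le n_t_TH (grp_cons_le g144_TH (grp_nil_le _))))))))))) (Frames.cons TH_s0_F (Frames.cons TH_s2_F (Frames.cons TH_s4_F (Frames.cons TH_s13_F (Frames.cons TH_s57_F Frames.nil))))) (okE_cons.2 ⟨g342_ok, okE_nil _⟩) _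

noncomputable def ht_c24_cnt_t : BT := (BT.frm (nat_lit 0) (nat_lit 0) (nat_lit 0) [] (BT.pln (nat_lit 0) (nat_lit 0) (BT.fix (nat_lit 257) (BT.and (nat_lit 1) (nat_lit 0) (BT.fix (nat_lit 1) (BT.dif (nat_lit 1) (nat_lit 0) (BT.br (nat_lit 0) (nat_lit 112) [nat_lit 1] (BT.kid (nat_lit 112) (nat_lit 16) (BT.dif (nat_lit 5) (nat_lit 4) (BT.dif (nat_lit 4) (nat_lit 1) (BT.dif (nat_lit 0) (nat_lit 4) (BT.frm (nat_lit 1) (nat_lit 983556) (nat_lit 983556) [nat_lit 0, nat_lit 3] (BT.pln (nat_lit 0) (nat_lit 3) (BT.and (nat_lit 4) (nat_lit 0) (BT.fix (nat_lit 0x1010101) (BT.dif (nat_lit 1) (nat_lit 0) (BT.br (nat_lit 0) (nat_lit 184) [nat_lit 3] (BT.kid (nat_lit 184) (nat_lit 2) (BT.dif (nat_lit 18) (nat_lit 2) (BT.dif (nat_lit 0) (nat_lit 15) (BT.img (nat_lit 1) (nat_lit 2) (BT.frm (nat_lit 2) (nat_lit 0x507050303050f0204) (nat_lit 0x507050303050f0204) [nat_lit 0, nat_lit 3, nat_lit 9, nat_lit 12] (BT.pln (nat_lit 0) (nat_lit 5) (BT.dif (nat_lit 3) (nat_lit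 0) (BT.pln (nat_lit 2) (nat_lit 6) (BT.dif (nat_lit 1) (nat_lit 0) (BT.pln (nat_lit 4) (nat_lit 4) (BT.dif (nat_lit 1) (nat_lit 0) (BT.pln (nat_lit 6) (nat_lit 7) (BT.dif (nat_lit 1) (nat_lit 0) (BT.pln (nat_lit 8) (nat_lit 8) (BT.dif (nat_lit 1) (nat_lit 0) (BT.pln (nat_lit 10) (nat_lit 9) (BT.dif (nat_lit 1) (nat_lit 0) (BT.img (nat_lit 1) (nat_lit 13) (BT.img (nat_lit 1) (nat_lit 0) (BT.frm (nat_lit 3) (nat_lit 0x70b0507050303050f0204) (nat_lit 0x70b0507050303050f0204) [nat_lit 0, nat_lit 15, nat_lit 18, nat_lit 24, nat_lit 27] (BT.pln (nat_lit 0) (nat_lit 10) (BT.dif (nat_lit 4) (nat_lit 0) (BT.pln (nat_lit 2) (nat_lit 5) (BT.and (nat_lit 1) (nat_lit 0) (BT.br (nat_lit 0) (nat_lit 86) [nat_lit 5] (BT.kid (nat_lit 86) (nat_lit 1) (BT.one (nat_lit 4) (nat_lit 0x1113070b0507050303050f0204) (nat_lit 0x1113070b0507050303050f0204) [nat_lit 0, nat_lit 7, nat_lit 6, nat_lit 21, nat_lit 24, nat_lit 30, nat_lit 33]) BT.nil))))))))))))))))))))))))) BT.nil))))))))))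 BT.nil))))))))

theorem ht_c24_cnt : Cnt 276 (grp 276 h_K) [g342] [g342] 0 0 0 0 32 :=
  BT.sound ht_c24_cnt_P Known.nil (t := ht_c24_cnt_t) (d := 0) (by decide +kernel)

theorem ht_c24_ge : 32 ≤ Nat.card (grp 276 ht_c24_K) :=
  Ch.le_card_grp (k := 9) (L := (lab 276 9)) hn ht_c24_K_ok (c := (Ch.cons (nat_lit 112) [nat_lit 1] (Ch.cons (nat_lit 184) [nat_lit 3] (Ch.cons (nat_lit 86) [nat_lit 5] Ch.nil)))) (by decide +kernel)

theorem ht_c24_eq : (grp 276 h_K) ⊓ Subgroup.centralizer {Net.toPerm 276 g342} = grp 276 ht_c24_K :=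
  cent_eq ht_c24_sym ht_c24_cnt ht_c24_ge

theorem ht_c24_card : Nat.card ↥((grp 276 h_K) ⊓ Subgroup.centralizer {Net.toPerm 276 g342}) = 32 :=
  card_cent ht_c24_sym ht_c24_cnt ht_c24_ge

theorem ht_c24_ord : orderOf (Net.toPerm 276 g342) = 8 :=
  orderOf_net hn hk g342_ok (by decide) (ps := [2]) (by set_option linter.unusedSimpArgs false in simp [Nat.primeFactorsList_ofNat]) (by decide +kernel)

theorem le350 : grp 276 ht_c25_K ≤ grp 276 h_K :=
  grp_le_of_memB hn hk h_K_ok ht_c25_K_ok (ws := [nat_lit 0xd090b07090607030606010406, nat_lit 0x80508050405030501040f, nat_lit 0xb07090805050904060105, nat_lit 2315]) (by decide +kernel)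

theorem ht_c25_le : grp 276 ht_c25_K ≤ (grp 276 h_K) :=
  (le350.trans TH_s0.le)

theorem ht_c25_mem : Net.toPerm 276 g347 ∈ (grp 276 h_K) :=
  ht_c25_le (toPerm_mem_grp (E := ht_c25_K) (List.Mem.tail _ (List.Mem.head _)))

theorem ht_c25_sym : Sym 276 (grp 276 h_K) [g347] ht_c25_K 0 :=
  Sym.of_lab hn hk (okE_cons.2 ⟨g347_ok, okE_nil _⟩) ht_c25_K_ok ht_c25_le (kT := 0) (by decide +kernel)

noncomputable def ht_c25_cnt_L : List ℕ := [0, 1, TH_s0_O, 0, 0, 2, 5, TH_s2_O, 0, 0, 3, 15, TH_s3_O, 0, 0, 4, 10, TH_s4_O, 0, 0, 5, 12, TH_s5_O, 0, 0, 7, 11, TH_s7_O, 1, 0]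

theorem ht_c25_cnt_P : Prob 276 9 (grp 276 h_K) ht_c25_cnt_EG [g347] [g347] ht_c25_K ht_c25_cnt_L 0 0 :=
  Sym.prob hn hk ht_c25_sym ht_c25_cnt_EG_ok (grp_cons_le g36_TH (grp_cons_le g37_TH (grp_cons_le g38_TH (grp_cons_le g39_TH (grp_cons_le g40_TH (grp_cons_le g41_TH (grp_cons_le g42_TH (grp_cons_le g35_TH (grp_nil_le _))))))))) (Frames.cons TH_s0_F (Frames.cons TH_s2_F (Frames.cons TH_s3_F (Frames.cons TH_s4_F (Frames.cons TH_s5_F (Frames.cons TH_s7_F Frames.nil)))))) (okE_cons.2 ⟨g347_ok, okE_nil _⟩) _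

noncomputable def ht_c25_cnt_t : BT := (BT.fix (nat_lit 1) (BT.br (nat_lit 0) (nat_lit 269) [nat_lit 1] (BT.kid (nat_lit 269) (nat_lit 16) (BT.frm (nat_lit 0) (nat_lit 0) (nat_lit 0) [] (BT.pln (nat_lit 0) (nat_lit 0) (BT.and (nat_lit 0) (nat_lit 3) (BT.dif (nat_lit 0) (nat_lit 3) (BT.frm (nat_lit 1) (nat_lit 0x10302030f0f07) (nat_lit 0x10302030f0f07) [nat_lit 0, nat_lit 4] (BT.pln (nat_lit 0) (nat_lit 3) (BT.and (nat_lit 4) (nat_lit 0) (BT.fix (nat_lit 257) (BT.dif (nat_lit 1) (nat_lit 0) (BT.br (nat_lit 0) (nat_lit 38) [nat_lit 3, nat_lit 5] (BT.dead (nat_lit 72) (BT.frm (nat_lit 2) (nat_lit 0x306010302030f0f07) (nat_lit 0x303010302030f0f07) [nat_lit 0, nat_lit 6, nat_lit 10] (BT.pln (nat_lit 0) (nat_lit 12) (BT.img (nat_lit 1) (nat_lit 2) (BT.and (nat_lit 1) (nat_lit 0) (BT.cnt (nat_lit 0)))))) (BT.kid (nat_lit 38) (nat_lit 2) (BT.frm (nat_lit 2) (nat_lit 0x306010302030f0f07) (nat_lit 0x306010302030f0f07) [nat_lit 0, nat_lit 6, nat_lit 10]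 (BT.pln (nat_lit 0) (nat_lit 3) (BT.img (nat_lit 1) (nat_lit 2) (BT.frm (nat_lit 3) (nat_lit 0x50b0306010302030f0f07) (nat_lit 0x50b0306010302030f0f07) [nat_lit 0, nat_lit 3, nat_lit 9, nat_lit 13] (BT.pln (nat_lit 0) (nat_lit 5) (BT.dif (nat_lit 3) (nat_lit 0) (BT.pln (nat_lit 2) (nat_lit 6) (BT.dif (nat_lit 1) (nat_lit 0) (BT.br (nat_lit 0) (nat_lit 268) [nat_lit 7] (BT.dead (nat_lit 8) (BT.pln (nat_lit 8) (nat_lit 4) (BT.frm (nat_lit 4) (nat_lit 0x50b0306010302030f0f07) (nat_lit 0x7050b0306010302030f0f07) [nat_lit 1, nat_lit 7, nat_lit 10, nat_lit 16, nat_lit 20] (BT.pln (nat_lit 0) (nat_lit 5) (BT.dif (nat_lit 2) (nat_lit 0) (BT.pln (nat_lit 2) (nat_lit 8) (BT.dif (nat_lit 1) (nat_lit 0) (BT.pln (nat_lit 14) (nat_lit 6) (BT.pln (nat_lit 5) (nat_lit 10) (BT.and (nat_lit 1) (nat_lit 0) (BT.img (nat_lit 1) (nat_lit 0) (BT.and (nat_lit 4) (nat_lit 0) (BT.img (nat_lit 1) (nat_lit 0) (BT.pln (nat_lit 10) (nat_lit 9) (BT.and (nat_lit 1) (nat_lit 0)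 (BT.cnt (nat_lit 0)))))))))))))))) (BT.kid (nat_lit 268) (nat_lit 1) (BT.pln (nat_lit 8) (nat_lit 4) (BT.pln (nat_lit 6) (nat_lit 9) (BT.and (nat_lit 1) (nat_lit 0) (BT.pln (nat_lit 8) (nat_lit 4) (BT.and (nat_lit 1) (nat_lit 0) (BT.frm (nat_lit 4) (nat_lit 0x50b0306010302030f0f07) (nat_lit 0x50b0306010302030f0f07) [nat_lit 5, nat_lit 11, nat_lit 14, nat_lit 20, nat_lit 24] (BT.pln (nat_lit 0) (nat_lit 5) (BT.and (nat_lit 2) (nat_lit 0) (BT.pln (nat_lit 16) (nat_lit 6) (BT.pln (nat_lit 3) (nat_lit 10) (BT.and (nat_lit 1) (nat_lit 0) (BT.img (nat_lit 1) (nat_lit 0) (BT.dif (nat_lit 4) (nat_lit 0) (BT.dif (nat_lit 4) (nat_lit 15) (BT.pln (nat_lit 19) (nat_lit 7) (BT.dif (nat_lit 1) (nat_lit 0) (BT.pln (nat_lit 10) (nat_lit 6) (BT.dif (nat_lit 1) (nat_lit 0) (BT.dif (nat_lit 17) (nat_lit 14) (BT.dif (nat_lit 0) (nat_lit 12) (BT.and (nat_lit 11) (nat_lit 3) (BT.pln (nat_lit 15) (nat_lit 7) (BT.dif (nat_lit 1) (nat_lit 0) (BT.img (nat_lit 1) (nat_lit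 0) (BT.and (nat_lit 4) (nat_lit 0) (BT.img (nat_lit 1) (nat_lit 0) (BT.and (nat_lit 8) (nat_lit 0) (BT.one (nat_lit 5) (nat_lit 0xb050b0306010302030f0f07) (nat_lit 0xb050b0306010302030f0f07) [nat_lit 14, nat_lit 0, nat_lit 27, nat_lit 33, nat_lit 36, nat_lit 42, nat_lit 46])))))))))))))))))))))))))))) BT.nil))))))))))) BT.nil)))))))))))) BT.nil)))

theorem ht_c25_cnt : Cnt 276 (grp 276 h_K) [g347] [g347] 0 0 0 0 32 :=
  BT.sound ht_c25_cnt_P Known.nil (t := ht_c25_cnt_t) (d := 0) (by decide +kernel)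

theorem ht_c25_ge : 32 ≤ Nat.card (grp 276 ht_c25_K) :=
  Ch.le_card_grp (k := 9) (L := (lab 276 9)) hn ht_c25_K_ok (c := (Ch.cons (nat_lit 269) [nat_lit 1] (Ch.cons (nat_lit 38) [nat_lit 3, nat_lit 5] (Ch.cons (nat_lit 268) [nat_lit 7] Ch.nil)))) (by decide +kernel)

theorem ht_c25_eq : (grp 276 h_K) ⊓ Subgroup.centralizer {Net.toPerm 276 g347} = grp 276 ht_c25_K :=
  cent_eq ht_c25_sym ht_c25_cnt ht_c25_ge

theorem ht_c25_card : Nat.card ↥((grp 276 h_K) ⊓ Subgroup.centralizer {Net.toPerm 276 g347}) = 32 :=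
  card_cent ht_c25_sym ht_c25_cnt ht_c25_ge

theorem ht_c25_ord : orderOf (Net.toPerm 276 g347) = 8 :=
  orderOf_net hn hk g347_ok (by decide) (ps := [2]) (by set_option linter.unusedSimpArgs false in simp [Nat.primeFactorsList_ofNat]) (by decide +kernel)

theorem le353 : grp 276 ht_c26_K ≤ grp 276 h_K :=
  grp_le_of_memB hn hk h_K_ok ht_c26_K_ok (ws := [nat_lit 0x90b070d05080603050103, nat_lit 0xf07050508040504010104, nat_lit 2315]) (by decide +kernel)

theorem ht_c26_le : grp 276 ht_c26_K ≤ (grp 276 h_K) :=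
  (le353.trans TH_s0.le)

theorem ht_c26_mem : Net.toPerm 276 g351 ∈ (grp 276 h_K) :=
  ht_c26_le (toPerm_mem_grp (E := ht_c26_K) (List.Mem.head _))

theorem ht_c26_sym : Sym 276 (grp 276 h_K) [g351] ht_c26_K 0 :=
  Sym.of_lab hn hk (okE_cons.2 ⟨g351_ok, okE_nil _⟩) ht_c26_K_ok ht_c26_le (kT := 0) (by decide +kernel)

noncomputable def ht_c26_cnt_L : List ℕ := [0, 1, TH_s0_O, 0, 0, 2, 5, TH_s2_O, 0, 0, 4, 10, TH_s4_O, 0, 0, 5, 12, TH_s13_O, 0, 0, 7, 11, TH_s57_O, 1, 0]

theorem ht_c26_cnt_P : Prob 276 9 (grp 276 h_K) ht_c26_cnt_EG [g351] [g351] ht_c26_K ht_c26_cnt_L 0 0 :=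
  Sym.prob hn hk ht_c26_sym ht_c26_cnt_EG_ok (grp_cons_le g36_TH (grp_cons_le g37_TH (grp_cons_le g38_TH (grp_cons_le g39_TH (grp_cons_le g40_TH (grp_cons_le g41_TH (grp_cons_le g42_TH (grp_cons_le g35_TH (grp_cons_le n_t_TH (grp_cons_le g144_TH (grp_nil_le _))))))))))) (Frames.cons TH_s0_F (Frames.cons TH_s2_F (Frames.cons TH_s4_F (Frames.cons TH_s13_F (Frames.cons TH_s57_F Frames.nil))))) (okE_cons.2 ⟨g351_ok, okE_nil _⟩) _

noncomputable def ht_c26_cnt_t : BT := (BT.frm (nat_lit 0) (nat_lit 0) (nat_lit 0) [] (BT.pln (nat_lit 0) (nat_lit 0) (BT.fix (nat_lit 257) (BT.and (nat_lit 1) (nat_lit 0) (BT.fix (nat_lit 1) (BT.dif (nat_lit 1) (nat_lit 0) (BT.br (nat_lit 0) (nat_lit 209) [nat_lit 1] (BT.kid (nat_lit 209) (nat_lit 16) (BT.dif (nat_lit 5) (nat_lit 4) (BT.dif (nat_lit 4) (nat_lit 1) (BT.dif (nat_lit 0) (nat_lit 4) (BT.frm (nat_lit 1) (nat_lit 0x204020b0f0310) (nat_lit 0x204020b0f0310) [nat_lit 0, nat_lit 3] (BT.pln (nat_lit 0) (nat_lit 3)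 (BT.and (nat_lit 4) (nat_lit 0) (BT.fix (nat_lit 0x1010101) (BT.dif (nat_lit 1) (nat_lit 0) (BT.br (nat_lit 0) (nat_lit 33) [nat_lit 3] (BT.kid (nat_lit 33) (nat_lit 2) (BT.dif (nat_lit 18) (nat_lit 2) (BT.dif (nat_lit 0) (nat_lit 15) (BT.img (nat_lit 1) (nat_lit 2) (BT.frm (nat_lit 2) (nat_lit 0x50306040204020b0f0310) (nat_lit 0x50306040204020b0f0310) [nat_lit 0, nat_lit 3, nat_lit 9, nat_lit 12] (BT.pln (nat_lit 0) (nat_lit 5) (BT.dif (nat_lit 3) (nat_lit 0) (BT.pln (nat_lit 2) (nat_lit 6) (BT.dif (nat_lit 1) (nat_lit 0) (BT.pln (nat_lit 4) (nat_lit 4) (BT.dif (nat_lit 1) (nat_lit 0) (BT.pln (nat_lit 6) (nat_lit 7) (BT.dif (nat_lit 1) (nat_lit 0) (BT.pln (nat_lit 8) (nat_lit 8) (BT.dif (nat_lit 1) (nat_lit 0) (BT.pln (nat_lit 10) (nat_lit 9) (BT.dif (nat_lit 1) (nat_lit 0) (BT.img (nat_lit 1) (nat_lit 13) (BT.img (nat_lit 1) (nat_lit 0) (BT.frm (nat_lit 3) (nat_lit 0xb050306040204020b0f0310) (nat_lit 0xb050306040204020b0f0310) [nat_lit 0, nat_lit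 15, nat_lit 18, nat_lit 24, nat_lit 27] (BT.pln (nat_lit 0) (nat_lit 10) (BT.dif (nat_lit 4) (nat_lit 0) (BT.pln (nat_lit 2) (nat_lit 5) (BT.and (nat_lit 1) (nat_lit 0) (BT.br (nat_lit 0) (nat_lit 243) [nat_lit 5] (BT.kid (nat_lit 243) (nat_lit 1) (BT.one (nat_lit 4) (nat_lit 0x130b050306040204020b0f0310) (nat_lit 0x130b050306040204020b0f0310) [nat_lit 0, nat_lit 7, nat_lit 6, nat_lit 21, nat_lit 24, nat_lit 30, nat_lit 33]) BT.nil))))))))))))))))))))))))) BT.nil)))))))))) BT.nil))))))))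

theorem ht_c26_cnt : Cnt 276 (grp 276 h_K) [g351] [g351] 0 0 0 0 32 :=
  BT.sound ht_c26_cnt_P Known.nil (t := ht_c26_cnt_t) (d := 0) (by decide +kernel)

theorem ht_c26_ge : 32 ≤ Nat.card (grp 276 ht_c26_K) :=
  Ch.le_card_grp (k := 9) (L := (lab 276 9)) hn ht_c26_K_ok (c := (Ch.cons (nat_lit 209) [nat_lit 1] (Ch.cons (nat_lit 33) [nat_lit 3] (Ch.cons (nat_lit 243) [nat_lit 5] Ch.nil)))) (by decide +kernel)

theorem ht_c26_eq : (grp 276 h_K) ⊓ Subgroup.centralizer {Net.toPerm 276 g351} = grp 276 ht_c26_K :=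
  cent_eq ht_c26_sym ht_c26_cnt ht_c26_ge

theorem ht_c26_card : Nat.card ↥((grp 276 h_K) ⊓ Subgroup.centralizer {Net.toPerm 276 g351}) = 32 :=
  card_cent ht_c26_sym ht_c26_cnt ht_c26_ge

theorem ht_c26_ord : orderOf (Net.toPerm 276 g351) = 8 :=
  orderOf_net hn hk g351_ok (by decide) (ps := [2]) (by set_option linter.unusedSimpArgs false in simp [Nat.primeFactorsList_ofNat]) (by decide +kernel)

theorem le356 : grp 276 ht_c27_K ≤ grp 276 h_K :=
  grp_le_of_memB hn hk h_K_ok ht_c27_K_ok (ws := [nat_lit 0xd09070507040604010302, nat_lit 0x9070d06060407010108, nat_lit 0xf0d090b070905080604050306010101, nat_lit 0xd0907090606030504050202]) (by decide +kernel)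

theorem ht_c27_le : grp 276 ht_c27_K ≤ (grp 276 h_K) :=
  (le356.trans TH_s0.le)

theorem ht_c27_mem : Net.toPerm 276 g354 ∈ (grp 276 h_K) :=
  ht_c27_le (toPerm_mem_grp (E := ht_c27_K) (List.Mem.tail _ (List.Mem.head _)))

theorem ht_c27_sym : Sym 276 (grp 276 h_K) [g354] ht_c27_K 0 :=
  Sym.of_lab hn hk (okE_cons.2 ⟨g354_ok, okE_nil _⟩) ht_c27_K_ok ht_c27_le (kT := 0) (by decide +kernel)

noncomputable def ht_c27_cnt_L : List ℕ := [2, 14, TH_s28_O, 0, 0, 3, 9, TH_s29_O, 0, 0, 4, 11, TH_s30_O, 0, 0, 5, 13, TH_s31_O, 0, 0, 6, 10, TH_s32_O, 1, 0]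

theorem ht_c27_cnt_P : Prob 276 9 (grp 276 h_K) ht_c27_cnt_EG [g354] [g354] ht_c27_K ht_c27_cnt_L 0 0 :=
  Sym.prob hn hk ht_c27_sym ht_c27_cnt_EG_ok (grp_cons_le g173_TH (grp_cons_le g174_TH (grp_cons_le g175_TH (grp_cons_le g176_TH (grp_cons_le g177_TH (grp_cons_le g35_TH (grp_cons_le g36_TH (grp_cons_le g37_TH (grp_cons_le g38_TH (grp_cons_le g39_TH (grp_cons_le g40_TH (grp_cons_le g41_TH (grp_cons_le g42_TH (grp_cons_le g214_TH (grp_cons_le g215_TH (grp_cons_le g216_TH (grp_cons_le g217_TH (grp_nil_le _)))))))))))))))))) (Frames.cons TH_s28_F (Frames.cons TH_s29_F (Frames.cons TH_s30_F (Frames.cons TH_s31_F (Frames.cons TH_s32_F Frames.nil))))) (okE_cons.2 ⟨g354_ok, okE_nil _⟩) _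

noncomputable def ht_c27_cnt_t : BT := (BT.fix (nat_lit 1) (BT.br (nat_lit 0) (nat_lit 228) [nat_lit 1] (BT.kid (nat_lit 228) (nat_lit 8) (BT.fix (nat_lit 257) (BT.dif (nat_lit 0) (nat_lit 2) (BT.br (nat_lit 0) (nat_lit 244) [nat_lit 3] (BT.dead (nat_lit 95) (BT.frm (nat_lit 0) (nat_lit 0) (nat_lit 328961) [nat_lit 0, nat_lit 3] (BT.pln (nat_lit 0) (nat_lit 7) (BT.img (nat_lit 1) (nat_lit 2) (BT.frm (nat_lit 1) (nat_lit 0) (nat_lit 0x1c050501) [nat_lit 0, nat_lit 3, nat_lit 6] (BT.pln (nat_lit 0) (nat_lit 3) (BT.dif (nat_lit 3) (nat_lit 0) (BT.br (nat_lit 0) (nat_lit 41) [nat_lit 5] (BT.dead (nat_lit 13) (BT.dif (nat_lit 14) (nat_lit 2) (BT.pln (nat_lit 4) (nat_lit 6) (BT.and (nat_lit 1) (nat_lit 0) (BT.pln (nat_lit 6) (nat_lit 5) (BT.and (nat_lit 1) (nat_lit 0) (BT.pln (nat_lit 8) (nat_lit 4) (BT.dif (nat_lit 1) (nat_lit 0) (BT.pln (nat_lit 10) (nat_lit 7) (BT.dif (nat_lit 1) (nat_lit 0) (BT.dif (nat_lit 0) (nat_lit 20) (BT.frm (nat_lit 2) (nat_lit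 0) (nat_lit 0x1d1c050501) [nat_lit 10, nat_lit 14, nat_lit 17, nat_lit 20] (BT.pln (nat_lit 0) (nat_lit 7) (BT.dif (nat_lit 2) (nat_lit 0) (BT.img (nat_lit 1) (nat_lit 13) (BT.frm (nat_lit 3) (nat_lit 0) (nat_lit 0x1d1c050501) [nat_lit 0, nat_lit 14, nat_lit 18, nat_lit 21, nat_lit 24] (BT.pln (nat_lit 0) (nat_lit 5) (BT.and (nat_lit 3) (nat_lit 0) (BT.br (nat_lit 0) (nat_lit 167) [nat_lit 7] (BT.dead (nat_lit 162) (BT.frm (nat_lit 4) (nat_lit 0) (nat_lit 0x1d1c050501) [nat_lit 0, nat_lit 4, nat_lit 18, nat_lit 22, nat_lit 25, nat_lit 28] (BT.pln (nat_lit 0) (nat_lit 6) (BT.img (nat_lit 1) (nat_lit 2) (BT.img (nat_lit 1) (nat_lit 0) (BT.img (nat_lit 1) (nat_lit 0) (BT.and (nat_lit 3) (nat_lit 0) (BT.cnt (nat_lit 0)))))))) BT.nil))))))))))))))))))) BT.nil)))))))) (BT.dead (nat_lit 207) (BT.frm (nat_lit 0) (nat_lit 0) (nat_lit 1) [nat_lit 0, nat_lit 3] (BT.pln (nat_lit 0) (nat_lit 9) (BT.img (nat_lit 1) (nat_lit 2) (BT.and (nat_lit 1) (nat_lit 0)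 (BT.cnt (nat_lit 0)))))) (BT.kid (nat_lit 244) (nat_lit 4) (BT.frm (nat_lit 0) (nat_lit 0) (nat_lit 0) [nat_lit 0, nat_lit 3] (BT.pln (nat_lit 0) (nat_lit 7) (BT.img (nat_lit 1) (nat_lit 2) (BT.frm (nat_lit 1) (nat_lit 0) (nat_lit 0) [nat_lit 0, nat_lit 3, nat_lit 6] (BT.pln (nat_lit 0) (nat_lit 3) (BT.dif (nat_lit 3) (nat_lit 0) (BT.br (nat_lit 0) (nat_lit 41) [nat_lit 5] (BT.kid (nat_lit 41) (nat_lit 2) (BT.dif (nat_lit 14) (nat_lit 2) (BT.pln (nat_lit 4) (nat_lit 6) (BT.and (nat_lit 1) (nat_lit 0) (BT.pln (nat_lit 6) (nat_lit 5) (BT.and (nat_lit 1) (nat_lit 0) (BT.pln (nat_lit 8) (nat_lit 4) (BT.dif (nat_lit 1) (nat_lit 0) (BT.pln (nat_lit 10) (nat_lit 7) (BT.dif (nat_lit 1) (nat_lit 0) (BT.dif (nat_lit 0) (nat_lit 20) (BT.frm (nat_lit 2) (nat_lit 0) (nat_lit 0) [nat_lit 10, nat_lit 14, nat_lit 17, nat_lit 20] (BT.pln (nat_lit 0) (nat_lit 7) (BT.dif (nat_lit 2) (nat_lit 0) (BT.img (nat_lit 1) (nat_lit 13) (BT.frm (nat_lit 3) (nat_lit 0) (nat_lit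 0) [nat_lit 0, nat_lit 14, nat_lit 18, nat_lit 21, nat_lit 24] (BT.pln (nat_lit 0) (nat_lit 5) (BT.and (nat_lit 3) (nat_lit 0) (BT.br (nat_lit 0) (nat_lit 167) [nat_lit 7] (BT.kid (nat_lit 167) (nat_lit 1) (BT.one (nat_lit 4) (nat_lit 0) (nat_lit 0) [nat_lit 0, nat_lit 4, nat_lit 18, nat_lit 22, nat_lit 25, nat_lit 28]) BT.nil))))))))))))))))))) BT.nil)))))))) BT.nil)))))) BT.nil)))

theorem ht_c27_cnt : Cnt 276 (grp 276 h_K) [g354] [g354] 0 0 0 0 16 :=
  BT.sound ht_c27_cnt_P Known.nil (t := ht_c27_cnt_t) (d := 0) (by decide +kernel)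

theorem ht_c27_ge : 16 ≤ Nat.card (grp 276 ht_c27_K) :=
  Ch.le_card_grp (k := 9) (L := (lab 276 9)) hn ht_c27_K_ok (c := (Ch.cons (nat_lit 228) [nat_lit 1] (Ch.cons (nat_lit 244) [nat_lit 3] (Ch.cons (nat_lit 41) [nat_lit 5] (Ch.cons (nat_lit 167) [nat_lit 7] Ch.nil))))) (by decide +kernel)

theorem ht_c27_eq : (grp 276 h_K) ⊓ Subgroup.centralizer {Net.toPerm 276 g354} = grp 276 ht_c27_K :=
  cent_eq ht_c27_sym ht_c27_cnt ht_c27_ge

theorem ht_c27_card : Nat.card ↥((grp 276 h_K) ⊓ Subgroup.centralizer {Net.toPerm 276 g354}) = 16 :=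
  card_cent ht_c27_sym ht_c27_cnt ht_c27_ge

theorem ht_c27_ord : orderOf (Net.toPerm 276 g354) = 8 :=
  orderOf_net hn hk g354_ok (by decide) (ps := [2]) (by set_option linter.unusedSimpArgs false in simp [Nat.primeFactorsList_ofNat]) (by decide +kernel)

theorem le360 : grp 276 ht_c28_K ≤ grp 276 h_K :=
  grp_le_of_memB hn hk h_K_ok ht_c28_K_ok (ws := [nat_lit 0xf0907090706080405030104, nat_lit 0xf0b07090706080405030104, nat_lit 0x90b07090805070d040503020205]) (by decide +kernel)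

theorem ht_c28_le : grp 276 ht_c28_K ≤ (grp 276 h_K) :=
  (le360.trans TH_s0.le)

theorem ht_c28_mem : Net.toPerm 276 g357 ∈ (grp 276 h_K) :=
  ht_c28_le (toPerm_mem_grp (E := ht_c28_K) (List.Mem.head _))

theorem ht_c28_sym : Sym 276 (grp 276 h_K) [g357] ht_c28_K 0 :=
  Sym.of_lab hn hk (okE_cons.2 ⟨g357_ok, okE_nil _⟩) ht_c28_K_ok ht_c28_le (kT := 0) (by decide +kernel)

noncomputable def ht_c28_cnt_L : List ℕ := [0, 1, TH_s0_O, 0, 0, 2, 13, TH_s22_O, 0, 0, 3, 19, TH_s23_O, 0, 0, 4, 11, TH_s24_O, 0, 0, 5, 9, TH_s25_O, 1, 0]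

theorem ht_c28_cnt_P : Prob 276 9 (grp 276 h_K) ht_c28_cnt_EG [g357] [g357] ht_c28_K ht_c28_cnt_L 0 0 :=
  Sym.prob hn hk ht_c28_sym ht_c28_cnt_EG_ok (grp_cons_le g173_TH (grp_cons_le g174_TH (grp_cons_le g175_TH (grp_cons_le g176_TH (grp_cons_le g177_TH (grp_cons_le g35_TH (grp_cons_le g36_TH (grp_cons_le g37_TH (grp_cons_le g38_TH (grp_cons_le g39_TH (grp_cons_le g40_TH (grp_cons_le g41_TH (grp_cons_le g42_TH (grp_nil_le _)))))))))))))) (Frames.cons TH_s0_F (Frames.cons TH_s22_F (Frames.cons TH_s23_F (Frames.cons TH_s24_F (Frames.cons TH_s25_F Frames.nil))))) (okE_cons.2 ⟨g357_ok, okE_nil _⟩) _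

noncomputable def ht_c28_cnt_t : BT := (BT.fix (nat_lit 65793) (BT.br (nat_lit 0) (nat_lit 245) [nat_lit 3] (BT.kid (nat_lit 245) (nat_lit 3) (BT.frm (nat_lit 0) (nat_lit 0) (nat_lit 0) [] (BT.pln (nat_lit 0) (nat_lit 0) (BT.img (nat_lit 1) (nat_lit 2) (BT.img (nat_lit 1) (nat_lit 0) (BT.frm (nat_lit 2) (nat_lit 0x3010b100e) (nat_lit 0x3010b100e) [nat_lit 0, nat_lit 1, nat_lit 4] (BT.pln (nat_lit 0) (nat_lit 13) (BT.and (nat_lit 4) (nat_lit 0) (BT.br (nat_lit 0) (nat_lit 99) [nat_lit 5] (BT.dead (nat_lit 213) (BT.frm (nat_lit 1) (nat_lit 0x10b100e) (nat_lit 0x10b100e) [nat_lit 5, nat_lit 8] (BT.pln (nat_lit 0) (nat_lit 6) (BT.pln (nat_lit 1) (nat_lit 5) (BT.frm (nat_lit 3) (nat_lit 0x60603010b100e) (nat_lit 0x60903010b100e) [nat_lit 3, nat_lit 7, nat_lit 8, nat_lit 11] (BT.pln (nat_lit 0) (nat_lit 9) (BT.and (nat_lit 2) (nat_lit 0) (BT.pln (nat_lit 2) (nat_lit 4) (BT.dif (nat_lit 1) (nat_lit 0) (BT.img (nat_lit 1) (nat_lit 0) (BT.and (nat_lit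 7) (nat_lit 0) (BT.pln (nat_lit 6) (nat_lit 5) (BT.dif (nat_lit 1) (nat_lit 0) (BT.pln (nat_lit 8) (nat_lit 7) (BT.dif (nat_lit 1) (nat_lit 0) (BT.img (nat_lit 1) (nat_lit 0) (BT.pln (nat_lit 11) (nat_lit 6) (BT.and (nat_lit 1) (nat_lit 0) (BT.cnt (nat_lit 0))))))))))))))))))) (BT.dead (nat_lit 184) (BT.frm (nat_lit 1) (nat_lit 0x10b100e) (nat_lit 0x10b100e) [nat_lit 5, nat_lit 8] (BT.pln (nat_lit 0) (nat_lit 6) (BT.pln (nat_lit 1) (nat_lit 5) (BT.frm (nat_lit 3) (nat_lit 0x60603010b100e) (nat_lit 0x603010b100e) [nat_lit 3, nat_lit 7, nat_lit 8, nat_lit 11] (BT.pln (nat_lit 0) (nat_lit 9) (BT.and (nat_lit 2) (nat_lit 0) (BT.pln (nat_lit 2) (nat_lit 4) (BT.dif (nat_lit 1) (nat_lit 0) (BT.img (nat_lit 1) (nat_lit 0) (BT.and (nat_lit 7) (nat_lit 0) (BT.pln (nat_lit 6) (nat_lit 5) (BT.dif (nat_lit 1) (nat_lit 0) (BT.pln (nat_lit 8) (nat_lit 7) (BT.dif (nat_lit 1) (nat_lit 0) (BT.img (nat_lit 1) (nat_lit 0) (BT.pln (nat_lit 11) (nat_lit 6) (BT.and (nat_lit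 1) (nat_lit 0) (BT.cnt (nat_lit 0))))))))))))))))))) (BT.kid (nat_lit 99) (nat_lit 1) (BT.img (nat_lit 1) (nat_lit 0) (BT.one (nat_lit 4) (nat_lit 0x709060603010b100e) (nat_lit 0x709060603010b100e) [nat_lit 0, nat_lit 1, nat_lit 5, nat_lit 6, nat_lit 9])) BT.nil))))))))))) BT.nil)))

theorem ht_c28_cnt : Cnt 276 (grp 276 h_K) [g357] [g357] 0 0 0 0 18 :=
  BT.sound ht_c28_cnt_P Known.nil (t := ht_c28_cnt_t) (d := 0) (by decide +kernel)

theorem ht_c28_ge : 18 ≤ Nat.card (grp 276 ht_c28_K) :=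
  Ch.le_card_grp (k := 9) (L := (lab 276 9)) hn ht_c28_K_ok (c := (Ch.cons (nat_lit 245) [nat_lit 1, nat_lit 3] (Ch.cons (nat_lit 99) [nat_lit 5] Ch.nil))) (by decide +kernel)

theorem ht_c28_eq : (grp 276 h_K) ⊓ Subgroup.centralizer {Net.toPerm 276 g357} = grp 276 ht_c28_K :=
  cent_eq ht_c28_sym ht_c28_cnt ht_c28_ge

theorem ht_c28_card : Nat.card ↥((grp 276 h_K) ⊓ Subgroup.centralizer {Net.toPerm 276 g357}) = 18 :=
  card_cent ht_c28_sym ht_c28_cnt ht_c28_ge

theorem ht_c28_ord : orderOf (Net.toPerm 276 g357) = 9 :=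
  orderOf_net hn hk g357_ok (by decide) (ps := [3]) (by set_option linter.unusedSimpArgs false in simp [Nat.primeFactorsList_ofNat]) (by decide +kernel)

theorem le363 : grp 276 ht_c29_K ≤ grp 276 h_K :=
  grp_le_of_memB hn hk h_K_ok ht_c29_K_ok (ws := [nat_lit 0xf0d0709070507040603010306, nat_lit 0xb07090507070406070206, nat_lit 0xd0b0709070405030f]) (by decide +kernel)

theorem ht_c29_le : grp 276 ht_c29_K ≤ (grp 276 h_K) :=
  (le363.trans TH_s0.le)

theorem ht_c29_mem : Net.toPerm 276 g361 ∈ (grp 276 h_K) :=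
  ht_c29_le (toPerm_mem_grp (E := ht_c29_K) (List.Mem.head _))

theorem ht_c29_sym : Sym 276 (grp 276 h_K) [g361] ht_c29_K 0 :=
  Sym.of_lab hn hk (okE_cons.2 ⟨g361_ok, okE_nil _⟩) ht_c29_K_ok ht_c29_le (kT := 0) (by decide +kernel)

noncomputable def ht_c29_cnt_L : List ℕ := [0, 1, TH_s0_O, 0, 0, 2, 5, TH_s2_O, 0, 0, 3, 15, TH_s3_O, 0, 0, 4, 9, TH_s8_O, 0, 0, 7, 11, TH_s49_O, 1, 0]

theorem ht_c29_cnt_P : Prob 276 9 (grp 276 h_K) ht_c29_cnt_EG [g361] [g361] ht_c29_K ht_c29_cnt_L 0 0 :=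
  Sym.prob hn hk ht_c29_sym ht_c29_cnt_EG_ok (grp_cons_le g36_TH (grp_cons_le g37_TH (grp_cons_le g38_TH (grp_cons_le g39_TH (grp_cons_le g40_TH (grp_cons_le g41_TH (grp_cons_le g42_TH (grp_cons_le g35_TH (grp_cons_le g307_TH (grp_cons_le g130_TH (grp_cons_le g131_TH (grp_cons_le n_t_TH (grp_cons_le g129_TH (grp_nil_le _)))))))))))))) (Frames.cons TH_s0_F (Frames.cons TH_s2_F (Frames.cons TH_s3_F (Frames.cons TH_s8_F (Frames.cons TH_s49_F Frames.nil))))) (okE_cons.2 ⟨g361_ok, okE_nil _⟩) _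

noncomputable def ht_c29_cnt_t : BT := (BT.frm (nat_lit 0) (nat_lit 0) (nat_lit 0) [] (BT.pln (nat_lit 0) (nat_lit 0) (BT.fix (nat_lit 1) (BT.dif (nat_lit 1) (nat_lit 0) (BT.br (nat_lit 0) (nat_lit 272) [nat_lit 3] (BT.dead (nat_lit 269) (BT.frm (nat_lit 1) (nat_lit 0x2101003) (nat_lit 0x1030103101003) [nat_lit 0, nat_lit 2] (BT.pln (nat_lit 0) (nat_lit 3) (BT.img (nat_lit 1) (nat_lit 2) (BT.and (nat_lit 1) (nat_lit 0) (BT.cnt (nat_lit 0)))))) (BT.dead (nat_lit 265) (BT.frm (nat_lit 1) (nat_lit 0x2101003) (nat_lit 0x20b101003) [nat_lit 0, nat_lit 2] (BT.pln (nat_lit 0) (nat_lit 3) (BT.img (nat_lit 1) (nat_lit 2) (BT.img (nat_lit 1) (nat_lit 0) (BT.and (nat_lit 2) (nat_lit 0) (BT.cnt (nat_lit 0))))))) (BT.kid (nat_lit 272) (nat_lit 4) (BT.img (nat_lit 1) (nat_lit 0) (BT.img (nat_lit 1) (nat_lit 0) (BT.frm (nat_lit 2) (nat_lit 0x30302101003) (nat_lit 0x30302101003) [nat_lit 0, nat_lit 2, nat_lit 4] (BT.pln (nat_lit 0) (nat_lit 8) (BT.img (nat_lit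 1) (nat_lit 2) (BT.frm (nat_lit 3) (nat_lit 0x30302101003) (nat_lit 0x30302101003) [nat_lit 0, nat_lit 3, nat_lit 5, nat_lit 7] (BT.pln (nat_lit 0) (nat_lit 5) (BT.dif (nat_lit 3) (nat_lit 0) (BT.dif (nat_lit 15) (nat_lit 11) (BT.frm (nat_lit 1) (nat_lit 0x2101003) (nat_lit 0x2101003) [nat_lit 9, nat_lit 11] (BT.pln (nat_lit 0) (nat_lit 2) (BT.img (nat_lit 1) (nat_lit 0) (BT.and (nat_lit 3) (nat_lit 0) (BT.dif (nat_lit 0) (nat_lit 2) (BT.and (nat_lit 3) (nat_lit 2) (BT.img (nat_lit 1) (nat_lit 0) (BT.dif (nat_lit 0) (nat_lit 5) (BT.img (nat_lit 1) (nat_lit 0) (BT.and (nat_lit 7) (nat_lit 0) (BT.img (nat_lit 1) (nat_lit 0) (BT.and (nat_lit 6) (nat_lit 0) (BT.img (nat_lit 1) (nat_lit 0) (BT.dif (nat_lit 14) (nat_lit 0) (BT.br (nat_lit 0) (nat_lit 210) [nat_lit 5] (BT.kid (nat_lit 210) (nat_lit 1) (BT.pln (nat_lit 21) (nat_lit 10) (BT.and (nat_lit 28) (nat_lit 0) (BT.dif (nat_lit 0) (nat_lit 25) (BT.pln (nat_lit 17) (nat_lit 4) (BT.and (nat_lit 31)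 (nat_lit 0) (BT.dif (nat_lit 0) (nat_lit 28) (BT.img (nat_lit 1) (nat_lit 25) (BT.dif (nat_lit 1) (nat_lit 0) (BT.img (nat_lit 1) (nat_lit 0) (BT.and (nat_lit 6) (nat_lit 0) (BT.pln (nat_lit 28) (nat_lit 4) (BT.and (nat_lit 1) (nat_lit 0) (BT.pln (nat_lit 33) (nat_lit 12) (BT.and (nat_lit 40) (nat_lit 0) (BT.dif (nat_lit 0) (nat_lit 31) (BT.pln (nat_lit 33) (nat_lit 6) (BT.and (nat_lit 1) (nat_lit 0) (BT.and (nat_lit 0) (nat_lit 8) (BT.one (nat_lit 4) (nat_lit 0x11111519030302101003) (nat_lit 0x11111519030302101003) [nat_lit 18, nat_lit 6, nat_lit 0, nat_lit 37, nat_lit 40, nat_lit 42, nat_lit 44]))))))))))))))))))) BT.nil))))))))))))))))))))))))) BT.nil))))))))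

theorem ht_c29_cnt : Cnt 276 (grp 276 h_K) [g361] [g361] 0 0 0 0 60 :=
  BT.sound ht_c29_cnt_P Known.nil (t := ht_c29_cnt_t) (d := 0) (by decide +kernel)

theorem ht_c29_ge : 60 ≤ Nat.card (grp 276 ht_c29_K) :=
  Ch.le_card_grp (k := 9) (L := (lab 276 9)) hn ht_c29_K_ok (c := (Ch.cons (nat_lit 272) [nat_lit 1, nat_lit 3] (Ch.cons (nat_lit 210) [nat_lit 5] Ch.nil))) (by decide +kernel)

theorem ht_c29_eq : (grp 276 h_K) ⊓ Subgroup.centralizer {Net.toPerm 276 g361} = grp 276 ht_c29_K :=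
  cent_eq ht_c29_sym ht_c29_cnt ht_c29_ge

theorem ht_c29_card : Nat.card ↥((grp 276 h_K) ⊓ Subgroup.centralizer {Net.toPerm 276 g361}) = 60 :=
  card_cent ht_c29_sym ht_c29_cnt ht_c29_ge

theorem ht_c29_ord : orderOf (Net.toPerm 276 g361) = 10 :=
  orderOf_net hn hk g361_ok (by decide) (ps := [2, 5]) (by set_option linter.unusedSimpArgs false in simp [Nat.primeFactorsList_ofNat]) (by decide +kernel)

theorem le368 : grp 276 ht_c30_K ≤ grp 276 h_K :=
  grp_le_of_memB hn hk h_K_ok ht_c30_K_ok (ws := [nat_lit 0xd090b070907050508040608010103, nat_lit 0xd090b0805050704010109, nat_lit 0x5070405010502, nat_lit 0xb07090704010109, nat_lit 2315]) (by decide +kernel)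

theorem ht_c30_le : grp 276 ht_c30_K ≤ (grp 276 h_K) :=
  (le368.trans TH_s0.le)

theorem ht_c30_mem : Net.toPerm 276 g364 ∈ (grp 276 h_K) :=
  ht_c30_le (toPerm_mem_grp (E := ht_c30_K) (List.Mem.head _))

theorem ht_c30_sym : Sym 276 (grp 276 h_K) [g364] ht_c30_K 0 :=
  Sym.of_lab hn hk (okE_cons.2 ⟨g364_ok, okE_nil _⟩) ht_c30_K_ok ht_c30_le (kT := 0) (by decide +kernel)

theorem le370 : grp 276 V369 ≤ grp 276 V135 :=
  grp_le_of_memB hn hk V135_ok V369_ok (ws := []) (by decide +kernel)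

theorem TH_s58 : Stab 276 (grp 276 h_K) [nat_lit 174, nat_lit 104, nat_lit 38, nat_lit 152, nat_lit 124, nat_lit 4, nat_lit 272] V369 1 :=
  Stab.step (k := 9) (L := (lab 276 9)) hn TH_s10 V369_ok le370 (c := Ch.nil) (by decide +kernel)

noncomputable def TH_s58_O : ℕ := (nat_lit 0x9993333366666ccccc99999b3333666664ccccd9999b3333266666ccccd9999933332c1f07c1f07c1f07c0f83e0f83e0f83e0f81f07c1f07c1f07c1f03e0f83e0f83e0f83e7319cc63398ce7319cc63398ce7319ce63398c67319ce63398c67319ce63398c6731826d926c93649b24db26d936c9b649b24d926d936c9b64db24d926c93649b64db26d92100000000000000000000000000000000000000000000000000000000000000000000000000000000000000000000000000000000000000000000000000000000000000010000000000000000000000000000000000000010000000000000000000000000000000000000000000000000000000000000100000000000000000000000000000000000000000000000000000000000000000000000000000000000000000000000004000000000000000000000000000000000000000000000000000100000000000000000000000000000000000000000000000000040000000000000000000000000000000000000000000)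

theorem TH_s58_F : Frame 276 (grp 276 h_K) 7 11 TH_s58_O 1 1 :=
  IsBase.frame TH_s58.isBase (by decide +kernel)

noncomputable def TH_s10_O : ℕ := (nat_lit 0x23010000008800230004110080000020022002000008000001000010000210000000884e627fb08747714f6db6e6f16ceba04e901254ff06250677c2cebe72400000010006184429488132afc8e13aeec36f7db0136590654d3ce472db801300007fadafd810004cc4eb239497eb87840ecd01a30ec16154950aafb028f8b04ddbfd4187d8de027fa00823d709009f4e1fb496e7d080450bae0d9046451732f4aeacf4f11f883e8a5f2795e0e8c6443ec99aeba26495ba23cf6123a60745feb27269db1f852ce0a6c38071ce6618c26e343e78b0cc898a5946a9600cea78c6f35386d750457fb6ef89b92a17a68a954d4a100000000000000000000000000000000000000000000000000000000000000000000000000000000000000000000000000000000000000000000000000000000000000010000000000000000000000000000000000000010000000000000000000000000000000000000000000000000000000000000100000000000000000000000000000000000000000000000000000000000000000000000000000000000000000000000004000000000000000000000000000000000000000000000000000100000000000000000000000000)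

theorem TH_s10_F : Frame 276 (grp 276 h_K) 6 13 TH_s10_O 0 1 :=
  Stab.frame hn TH_s10 (by decide +kernel)

noncomputable def ht_c30_cnt_L : List ℕ := [0, 1, TH_s0_O, 0, 0, 2, 5, TH_s2_O, 0, 0, 5, 11, TH_s9_O, 0, 0, 6, 13, TH_s10_O, 0, 0, 7, 11, TH_s58_O, 1, 0]

theorem ht_c30_cnt_P : Prob 276 9 (grp 276 h_K) ht_c30_cnt_EG [g364] [g364] ht_c30_K ht_c30_cnt_L 0 0 :=
  Sym.prob hn hk ht_c30_sym ht_c30_cnt_EG_ok (grp_cons_le g36_TH (grp_cons_le g37_TH (grp_cons_le g38_TH (grp_cons_le g39_TH (grp_cons_le g40_TH (grp_cons_le g41_TH (grp_cons_le g42_TH (grp_cons_le g35_TH (grp_cons_le g129_TH (grp_cons_le g130_TH (grp_cons_le g131_TH (grp_cons_le n_t_TH (grp_nil_le _))))))))))))) (Frames.cons TH_s0_F (Frames.cons TH_s2_F (Frames.cons TH_s9_F (Frames.cons TH_s10_F (Frames.cons TH_s58_F Frames.nil))))) (okE_cons.2 ⟨g364_ok, okE_nil _⟩) _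

noncomputable def ht_c30_cnt_t : BT := (BT.frm (nat_lit 0) (nat_lit 0) (nat_lit 0) [] (BT.pln (nat_lit 0) (nat_lit 0) (BT.fix (nat_lit 257) (BT.and (nat_lit 1) (nat_lit 0) (BT.fix (nat_lit 1) (BT.dif (nat_lit 1) (nat_lit 0) (BT.br (nat_lit 0) (nat_lit 99) [nat_lit 1] (BT.kid (nat_lit 99) (nat_lit 72) (BT.dif (nat_lit 1) (nat_lit 0) (BT.frm (nat_lit 1) (nat_lit 0x20f0104) (nat_lit 0x20f0104) [nat_lit 0, nat_lit 1] (BT.pln (nat_lit 0) (nat_lit 3) (BT.and (nat_lit 8) (nat_lit 0) (BT.br (nat_lit 0) (nat_lit 264) [nat_lit 3, nat_lit 5] (BT.kid (nat_lit 264) (nat_lit 4) (BT.dif (nat_lit 10) (nat_lit 2) (BT.dif (nat_lit 0) (nat_lit 10) (BT.img (nat_lit 1) (nat_lit 2) (BT.img (nat_lit 1) (nat_lit 0) (BT.frm (nat_lit 2) (nat_lit 0x50d030305020f0104) (nat_lit 0x50d030305020f0104) [nat_lit 0, nat_lit 1, nat_lit 4, nat_lit 8, nat_lit 9] (BT.pln (nat_lit 0) (nat_lit 7) (BT.dif (nat_lit 4) (nat_lit 0) (BT.pln (nat_lit 2) (nat_lit 5) (BT.dif (nat_lit 1) (nat_lit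 0) (BT.br (nat_lit 0) (nat_lit 209) [nat_lit 7] (BT.kid (nat_lit 209) (nat_lit 2) (BT.pln (nat_lit 5) (nat_lit 9) (BT.and (nat_lit 3) (nat_lit 0) (BT.pln (nat_lit 7) (nat_lit 6) (BT.and (nat_lit 1) (nat_lit 0) (BT.dif (nat_lit 0) (nat_lit 8) (BT.pln (nat_lit 10) (nat_lit 8) (BT.dif (nat_lit 1) (nat_lit 0) (BT.frm (nat_lit 3) (nat_lit 0x13050d030305020f0104) (nat_lit 0x13050d030305020f0104) [nat_lit 7, nat_lit 13, nat_lit 14, nat_lit 17, nat_lit 21, nat_lit 22] (BT.pln (nat_lit 0) (nat_lit 6) (BT.dif (nat_lit 2) (nat_lit 0) (BT.br (nat_lit 0) (nat_lit 92) [nat_lit 9] (BT.dead (nat_lit 195) (BT.frm (nat_lit 4) (nat_lit 0x1513050d030305020f0104) (nat_lit 0x1713050d030305020f0104) [nat_lit 0, nat_lit 11, nat_lit 17, nat_lit 18, nat_lit 21, nat_lit 25, nat_lit 26] (BT.pln (nat_lit 0) (nat_lit 7) (BT.img (nat_lit 1) (nat_lit 2) (BT.and (nat_lit 1) (nat_lit 0) (BT.cnt (nat_lit 0)))))) (BT.kid (nat_lit 92) (nat_lit 1) (BT.one (nat_lit 4) (nat_lit 0x1513050d030305020f0104)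 (nat_lit 0x1513050d030305020f0104) [nat_lit 0, nat_lit 11, nat_lit 17, nat_lit 18, nat_lit 21, nat_lit 25, nat_lit 26]) BT.nil))))))))))))) BT.nil))))))))))) BT.nil)))))) BT.nil))))))))

theorem ht_c30_cnt : Cnt 276 (grp 276 h_K) [g364] [g364] 0 0 0 0 144 :=
  BT.sound ht_c30_cnt_P Known.nil (t := ht_c30_cnt_t) (d := 0) (by decide +kernel)

theorem ht_c30_ge : 144 ≤ Nat.card (grp 276 ht_c30_K) :=
  Ch.le_card_grp (k := 9) (L := (lab 276 9)) hn ht_c30_K_ok (c := (Ch.cons (nat_lit 99) [nat_lit 1] (Ch.cons (nat_lit 264) [nat_lit 3, nat_lit 5] (Ch.cons (nat_lit 209) [nat_lit 7] (Ch.cons (nat_lit 92) [nat_lit 9] Ch.nil))))) (by decide +kernel)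

theorem ht_c30_eq : (grp 276 h_K) ⊓ Subgroup.centralizer {Net.toPerm 276 g364} = grp 276 ht_c30_K :=
  cent_eq ht_c30_sym ht_c30_cnt ht_c30_ge

theorem ht_c30_card : Nat.card ↥((grp 276 h_K) ⊓ Subgroup.centralizer {Net.toPerm 276 g364}) = 144 :=
  card_cent ht_c30_sym ht_c30_cnt ht_c30_ge

theorem ht_c30_ord : orderOf (Net.toPerm 276 g364) = 12 :=
  orderOf_net hn hk g364_ok (by decide) (ps := [2, 3]) (by set_option linter.unusedSimpArgs false in simp [Nat.primeFactorsList_ofNat]) (by decide +kernel)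

theorem le374 : grp 276 ht_c31_K ≤ grp 276 h_K :=
  grp_le_of_memB hn hk h_K_ok ht_c31_K_ok (ws := [nat_lit 0xd0b07090505040d03010306, nat_lit 0xf0d090b070905050d040503050103, nat_lit 0xf090b070607040505]) (by decide +kernel)

theorem ht_c31_le : grp 276 ht_c31_K ≤ (grp 276 h_K) :=
  (le374.trans TH_s0.le)

theorem ht_c31_mem : Net.toPerm 276 g371 ∈ (grp 276 h_K) :=
  ht_c31_le (toPerm_mem_grp (E := ht_c31_K) (List.Mem.head _))

theorem ht_c31_sym : Sym 276 (grp 276 h_K) [g371] ht_c31_K 0 :=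
  Sym.of_lab hn hk (okE_cons.2 ⟨g371_ok, okE_nil _⟩) ht_c31_K_ok ht_c31_le (kT := 0) (by decide +kernel)

theorem le376 : grp 276 V375 ≤ grp 276 V245 :=
  grp_le_of_memB hn hk V245_ok V375_ok (ws := [nat_lit 769]) (by decide +kernel)

theorem TH_s59 : Stab 276 (grp 276 h_K) [nat_lit 200, nat_lit 28, nat_lit 124, nat_lit 4, nat_lit 272] V375 2 :=
  Stab.step (k := 9) (L := (lab 276 9)) hn TH_s34 V375_ok le376 (c := (Ch.cons (nat_lit 214) [nat_lit 1] Ch.nil)) (by decide +kernel)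

theorem TH_s60 : Stab 276 (grp 276 h_K) [nat_lit 214, nat_lit 200, nat_lit 28, nat_lit 124, nat_lit 4, nat_lit 272] V377 1 :=
  Stab.step (k := 9) (L := (lab 276 9)) hn TH_s59 V377_ok (grp_mono (List.subset_append_right [g112] _)) (c := Ch.nil) (by decide +kernel)

theorem g112_TH : Net.toPerm 276 g112 ∈ (grp 276 h_K) :=
  TH_s59.le (toPerm_mem_grp (E := V375) (List.Mem.head _))

noncomputable def TH_s60_O : ℕ := (nat_lit 0x9993333366666ccccc99999b3333666664ccccd9999b3333266666ccccd9999933332c1f07c1f07c1f07c0f83e0f83e0f83e0f81f07c1f07c1f07c1f03e0f83e0f83e0f83e7319cc63398ce7319cc63398ce7319ce63398c67319ce63398c67319ce63398c6731826d926c93649b24db26d936c9b649b24d926d936c9b64db24d926c93649b64db26d92100000000000000000000000000000000000000000000000000000000000000000000000000000000000000000000000000000000000000000000000000000000000000010000000000000000000000000000000000000010000000000000000000000000000000000000000000000000000000000000000000000000000000000000000000010000000000000000000000000100000000000000000000000000000000000000000000000000000000000000000400000000000000000000000000000000000000000000000000000)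

theorem TH_s60_F : Frame 276 (grp 276 h_K) 6 10 TH_s60_O 1 1 :=
  IsBase.frame TH_s60.isBase (by decide +kernel)

noncomputable def TH_s59_O : ℕ := (nat_lit 0x2040800206020002061002400800000202200000000002128000001100000000000045fbf645c2988787570c7fcaf74ffa5a5fcd26edfffdb8000000000000c0240008640a16af43b838b9365d706f3d1f25babab001010100000055ed7c7fffec7e02400086404207f8aa6dfebedcd406e40209141044574d36ff6002471ec6c7f00028dffefe08640e9c900fc99035d892a618ae67ecc00147e5526109fe00596d7380ff808dffc01ff640e7e599e00d99d1d67b699ecac913b5b4147698ea1e1d077500ef0e86c0de26e1e09a047da97afbc45ce46a5c482b697171b71153368c51998a782e9e0cd662ed942999cd0c293e51fb67a784f366a2466a9dc28839d9e184a45554d4f224aeab558d95b2555aa8a100000000000000000000000000000000000000000000000000000000000000000000000000000000000000000000000000000000000000000000000000000000000000010000000000000000000000000000000000000010000000000000000000000000000000000000000000000000000000000000000000000000000000000000000000010000000000000000000000000100000000000000000000000000000000000000000000000000)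

theorem TH_s59_F : Frame 276 (grp 276 h_K) 5 13 TH_s59_O 0 1 :=
  Stab.frame hn TH_s59 (by decide +kernel)

noncomputable def TH_s34_O : ℕ := (nat_lit 0x22fc506228088c02327045d418008012002300201c10862938109209324c6088010008415d90806f8b1067081503040a024fda0260009101880c6012801e5ce83260158e6b47638936841662b605068f8e0e1191435e4c167923dc45c0e659a15385c4b654d9e404eaa4181a27d2c58bee2414bbf9add5ef40314cb992e0880d0e1694b10f6dc733a82a423a9a119d0990e43fe30c6232adc9453dd238358262fabc1ab13d5a0d4bb6873d309100000000000000000000000000000000000000000000000000000000000000000000000000000000000000000000000000000000000000000000000000000000000000010000000000000000000000000000000000000010000000000000000000000000000000000000000000000000000000000000000000000000000000000000000000010000000)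

theorem TH_s34_F : Frame 276 (grp 276 h_K) 4 9 TH_s34_O 0 1 :=
  Stab.frame hn TH_s34 (by decide +kernel)

noncomputable def ht_c31_cnt_L : List ℕ := [0, 1, TH_s0_O, 0, 0, 2, 5, TH_s2_O, 0, 0, 3, 15, TH_s3_O, 0, 0, 4, 9, TH_s34_O, 0, 0, 5, 13, TH_s59_O, 0, 0, 6, 10, TH_s60_O, 1, 0]

theorem ht_c31_cnt_P : Prob 276 9 (grp 276 h_K) ht_c31_cnt_EG [g371] [g371] ht_c31_K ht_c31_cnt_L 0 0 :=
  Sym.prob hn hk ht_c31_sym ht_c31_cnt_EG_ok (grp_cons_le g36_TH (grp_cons_le g37_TH (grp_cons_le g38_TH (grp_cons_le g39_TH (grp_cons_le g40_TH (grp_cons_le g41_TH (grp_cons_le g42_TH (grp_cons_le g35_TH (grp_cons_le g243_TH (grp_cons_le g244_TH (grp_cons_le n_t_TH (grp_cons_le g112_TH (grp_nil_le _))))))))))))) (Frames.cons TH_s0_F (Frames.cons TH_s2_F (Frames.cons TH_s3_F (Frames.cons TH_s34_F (Frames.cons TH_s59_F (Frames.cons TH_s60_F Frames.nil)))))) (okE_cons.2 ⟨g371_ok, okE_nil _⟩) _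

noncomputable def ht_c31_cnt_t : BT := (BT.frm (nat_lit 0) (nat_lit 0) (nat_lit 0) [] (BT.pln (nat_lit 0) (nat_lit 0) (BT.fix (nat_lit 65793) (BT.and (nat_lit 1) (nat_lit 0) (BT.fix (nat_lit 1) (BT.dif (nat_lit 1) (nat_lit 0) (BT.br (nat_lit 0) (nat_lit 272) [nat_lit 1, nat_lit 3] (BT.kid (nat_lit 272) (nat_lit 8) (BT.dif (nat_lit 9) (nat_lit 5) (BT.img (nat_lit 1) (nat_lit 1) (BT.frm (nat_lit 1) (nat_lit 0x1030105) (nat_lit 0x1030105) [nat_lit 0, nat_lit 2] (BT.pln (nat_lit 0) (nat_lit 2) (BT.dif (nat_lit 3) (nat_lit 0) (BT.img (nat_lit 1) (nat_lit 3) (BT.pln (nat_lit 3) (nat_lit 3) (BT.and (nat_lit 10) (nat_lit 0) (BT.dif (nat_lit 11) (nat_lit 8) (BT.dif (nat_lit 0) (nat_lit 11) (BT.pln (nat_lit 7) (nat_lit 4) (BT.and (nat_lit 1) (nat_lit 0) (BT.dif (nat_lit 0) (nat_lit 6) (BT.img (nat_lit 1) (nat_lit 0) (BT.and (nat_lit 6) (nat_lit 0) (BT.frm (nat_lit 3) (nat_lit 0x5040501030105) (nat_lit 0x5040501030105) [nat_lit 9, nat_lit 0, nat_lit 13,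 nat_lit 15] (BT.pln (nat_lit 0) (nat_lit 8) (BT.and (nat_lit 12) (nat_lit 0) (BT.br (nat_lit 0) (nat_lit 246) [nat_lit 5] (BT.kid (nat_lit 246) (nat_lit 1) (BT.frm (nat_lit 2) (nat_lit 0x40501030105) (nat_lit 0x40501030105) [nat_lit 4, nat_lit 17, nat_lit 19] (BT.pln (nat_lit 0) (nat_lit 7) (BT.and (nat_lit 20) (nat_lit 0) (BT.img (nat_lit 1) (nat_lit 18) (BT.dif (nat_lit 1) (nat_lit 0) (BT.frm (nat_lit 4) (nat_lit 0x1205040501030105) (nat_lit 0x1205040501030105) [nat_lit 5, nat_lit 18, nat_lit 9, nat_lit 22, nat_lit 24] (BT.pln (nat_lit 0) (nat_lit 5) (BT.dif (nat_lit 2) (nat_lit 0) (BT.pln (nat_lit 2) (nat_lit 6) (BT.and (nat_lit 1) (nat_lit 0) (BT.pln (nat_lit 9) (nat_lit 5) (BT.and (nat_lit 7) (nat_lit 0) (BT.pln (nat_lit 6) (nat_lit 9) (BT.dif (nat_lit 1) (nat_lit 0) (BT.pln (nat_lit 8) (nat_lit 10) (BT.and (nat_lit 1) (nat_lit 0) (BT.img (nat_lit 1) (nat_lit 0) (BT.dif (nat_lit 7) (nat_lit 0) (BT.one (nat_lit 5) (nat_lit 0x171205040501030105)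 (nat_lit 0x171205040501030105) [nat_lit 0, nat_lit 18, nat_lit 31, nat_lit 22, nat_lit 35, nat_lit 37]))))))))))))))))))) BT.nil)))))))))))))))))))) BT.nil))))))))

theorem ht_c31_cnt : Cnt 276 (grp 276 h_K) [g371] [g371] 0 0 0 0 48 :=
  BT.sound ht_c31_cnt_P Known.nil (t := ht_c31_cnt_t) (d := 0) (by decide +kernel)

theorem ht_c31_ge : 48 ≤ Nat.card (grp 276 ht_c31_K) :=
  Ch.le_card_grp (k := 9) (L := (lab 276 9)) hn ht_c31_K_ok (c := (Ch.cons (nat_lit 272) [nat_lit 1, nat_lit 3] (Ch.cons (nat_lit 246) [nat_lit 5] Ch.nil))) (by decide +kernel)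

theorem ht_c31_eq : (grp 276 h_K) ⊓ Subgroup.centralizer {Net.toPerm 276 g371} = grp 276 ht_c31_K :=
  cent_eq ht_c31_sym ht_c31_cnt ht_c31_ge

theorem ht_c31_card : Nat.card ↥((grp 276 h_K) ⊓ Subgroup.centralizer {Net.toPerm 276 g371}) = 48 :=
  card_cent ht_c31_sym ht_c31_cnt ht_c31_ge

theorem ht_c31_ord : orderOf (Net.toPerm 276 g371) = 12 :=
  orderOf_net hn hk g371_ok (by decide) (ps := [2, 3]) (by set_option linter.unusedSimpArgs false in simp [Nat.primeFactorsList_ofNat]) (by decide +kernel)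

theorem le380 : grp 276 ht_c32_K ≤ grp 276 h_K :=
  grp_le_of_memB hn hk h_K_ok ht_c32_K_ok (ws := [nat_lit 0xd070507040607010405, nat_lit 0xf0d090b080505080405030f010307, nat_lit 0x90b0709070505050405030207]) (by decide +kernel)

theorem ht_c32_le : grp 276 ht_c32_K ≤ (grp 276 h_K) :=
  (le380.trans TH_s0.le)

theorem ht_c32_mem : Net.toPerm 276 g378 ∈ (grp 276 h_K) :=
  ht_c32_le (toPerm_mem_grp (E := ht_c32_K) (List.Mem.head _))

theorem ht_c32_sym : Sym 276 (grp 276 h_K) [g378] ht_c32_K 0 :=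
  Sym.of_lab hn hk (okE_cons.2 ⟨g378_ok, okE_nil _⟩) ht_c32_K_ok ht_c32_le (kT := 0) (by decide +kernel)

noncomputable def ht_c32_cnt_L : List ℕ := [0, 1, TH_s0_O, 0, 0, 3, 10, TH_s15_O, 0, 0, 4, 11, TH_s40_O, 0, 0, 6, 10, TH_s42_O, 1, 0]

theorem ht_c32_cnt_P : Prob 276 9 (grp 276 h_K) ht_c32_cnt_EG [g378] [g378] ht_c32_K ht_c32_cnt_L 0 0 :=
  Sym.prob hn hk ht_c32_sym ht_c32_cnt_EG_ok (grp_cons_le g37_TH (grp_cons_le g38_TH (grp_cons_le g39_TH (grp_cons_le g40_TH (grp_cons_le g41_TH (grp_cons_le g42_TH (grp_cons_le g36_TH (grp_cons_le g35_TH (grp_cons_le g155_TH (grp_cons_le g156_TH (grp_cons_le g157_TH (grp_cons_le g130_TH (grp_cons_le n_t_TH (grp_cons_le g276_TH (grp_cons_le g275_TH (grp_nil_le _)))))))))))))))) (Frames.cons TH_s0_F (Frames.cons TH_s15_F (Frames.cons TH_s40_F (Frames.cons TH_s42_F Frames.nil)))) (okE_cons.2 ⟨g378_ok, okE_nil _⟩) _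

noncomputable def ht_c32_cnt_t : BT := (BT.frm (nat_lit 0) (nat_lit 0) (nat_lit 0) [] (BT.pln (nat_lit 0) (nat_lit 0) (BT.fix (nat_lit 257) (BT.and (nat_lit 1) (nat_lit 0) (BT.fix (nat_lit 1) (BT.dif (nat_lit 1) (nat_lit 0) (BT.br (nat_lit 0) (nat_lit 133) [nat_lit 1] (BT.kid (nat_lit 133) (nat_lit 18) (BT.dif (nat_lit 3) (nat_lit 0) (BT.dif (nat_lit 0) (nat_lit 3) (BT.frm (nat_lit 1) (nat_lit 0x10b0d02030f0f09) (nat_lit 0x10b0d02030f0f09) [nat_lit 0, nat_lit 2, nat_lit 4] (BT.pln (nat_lit 0) (nat_lit 5) (BT.fix (nat_lit 0x1010101) (BT.dif (nat_lit 1) (nat_lit 0) (BT.br (nat_lit 0) (nat_lit 16) [nat_lit 3] (BT.dead (nat_lit 196) (BT.frm (nat_lit 2) (nat_lit 0x1115010b0d02030f0f09) (nat_lit 0x10b0d02030f0f09) [nat_lit 0, nat_lit 5, nat_lit 7, nat_lit 9] (BT.pln (nat_lit 0) (nat_lit 4) (BT.img (nat_lit 1) (nat_lit 2) (BT.and (nat_lit 1) (nat_lit 0) (BT.cnt (nat_lit 0)))))) (BT.kid (nat_lit 16) (nat_lit 3) (BT.dif (nat_lit 16) (nat_lit 12) (BT.dif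 (nat_lit 0) (nat_lit 4) (BT.pln (nat_lit 6) (nat_lit 3) (BT.and (nat_lit 1) (nat_lit 0) (BT.frm (nat_lit 2) (nat_lit 0x1115010b0d02030f0f09) (nat_lit 0x1115010b0d02030f0f09) [nat_lit 4, nat_lit 9, nat_lit 11, nat_lit 13] (BT.pln (nat_lit 0) (nat_lit 9) (BT.and (nat_lit 2) (nat_lit 0) (BT.pln (nat_lit 2) (nat_lit 5) (BT.dif (nat_lit 1) (nat_lit 0) (BT.pln (nat_lit 4) (nat_lit 4) (BT.dif (nat_lit 1) (nat_lit 0) (BT.br (nat_lit 0) (nat_lit 83) [nat_lit 5] (BT.kid (nat_lit 83) (nat_lit 1) (BT.img (nat_lit 1) (nat_lit 12) (BT.one (nat_lit 3) (nat_lit 0x1b1115010b0d02030f0f09) (nat_lit 0x1b1115010b0d02030f0f09) [nat_lit 1, nat_lit 0, nat_lit 13, nat_lit 18, nat_lit 20, nat_lit 22])) BT.nil))))))))))))) BT.nil))))))))) BT.nil))))))))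

theorem ht_c32_cnt : Cnt 276 (grp 276 h_K) [g378] [g378] 0 0 0 0 36 :=
  BT.sound ht_c32_cnt_P Known.nil (t := ht_c32_cnt_t) (d := 0) (by decide +kernel)

theorem ht_c32_ge : 36 ≤ Nat.card (grp 276 ht_c32_K) :=
  Ch.le_card_grp (k := 9) (L := (lab 276 9)) hn ht_c32_K_ok (c := (Ch.cons (nat_lit 133) [nat_lit 1] (Ch.cons (nat_lit 16) [nat_lit 3] (Ch.cons (nat_lit 83) [nat_lit 5] Ch.nil)))) (by decide +kernel)

theorem ht_c32_eq : (grp 276 h_K) ⊓ Subgroup.centralizer {Net.toPerm 276 g378} = grp 276 ht_c32_K :=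
  cent_eq ht_c32_sym ht_c32_cnt ht_c32_ge

theorem ht_c32_card : Nat.card ↥((grp 276 h_K) ⊓ Subgroup.centralizer {Net.toPerm 276 g378}) = 36 :=
  card_cent ht_c32_sym ht_c32_cnt ht_c32_ge

theorem ht_c32_ord : orderOf (Net.toPerm 276 g378) = 12 :=
  orderOf_net hn hk g378_ok (by decide) (ps := [2, 3]) (by set_option linter.unusedSimpArgs false in simp [Nat.primeFactorsList_ofNat]) (by decide +kernel)

theorem le383 : grp 276 ht_c33_K ≤ grp 276 h_K :=
  grp_le_of_memB hn hk h_K_ok ht_c33_K_ok (ws := [nat_lit 0x90b07090603050307010505, nat_lit 0xd090b0705050503010108]) (by decide +kernel)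

theorem ht_c33_le : grp 276 ht_c33_K ≤ (grp 276 h_K) :=
  (le383.trans TH_s0.le)

theorem ht_c33_mem : Net.toPerm 276 g381 ∈ (grp 276 h_K) :=
  ht_c33_le (toPerm_mem_grp (E := ht_c33_K) (List.Mem.head _))

theorem ht_c33_sym : Sym 276 (grp 276 h_K) [g381] ht_c33_K 0 :=
  Sym.of_lab hn hk (okE_cons.2 ⟨g381_ok, okE_nil _⟩) ht_c33_K_ok ht_c33_le (kT := 0) (by decide +kernel)

noncomputable def ht_c33_cnt_L : List ℕ := [0, 1, TH_s0_O, 0, 0, 2, 14, TH_s28_O, 0, 0, 3, 9, TH_s29_O, 0, 0, 4, 11, TH_s30_O, 0, 0, 5, 9, TH_s33_O, 1, 0]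

theorem ht_c33_cnt_P : Prob 276 9 (grp 276 h_K) ht_c33_cnt_EG [g381] [g381] ht_c33_K ht_c33_cnt_L 0 0 :=
  Sym.prob hn hk ht_c33_sym ht_c33_cnt_EG_ok (grp_cons_le g173_TH (grp_cons_le g174_TH (grp_cons_le g175_TH (grp_cons_le g176_TH (grp_cons_le g177_TH (grp_cons_le g35_TH (grp_cons_le g36_TH (grp_cons_le g37_TH (grp_cons_le g38_TH (grp_cons_le g39_TH (grp_cons_le g40_TH (grp_cons_le g41_TH (grp_cons_le g42_TH (grp_cons_le g214_TH (grp_cons_le g215_TH (grp_cons_le g216_TH (grp_cons_le g217_TH (grp_nil_le _)))))))))))))))))) (Frames.cons TH_s0_F (Frames.cons TH_s28_F (Frames.cons TH_s29_F (Frames.cons TH_s30_F (Frames.cons TH_s33_F Frames.nil))))) (okE_cons.2 ⟨g381_ok, okE_nil _⟩) _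

noncomputable def ht_c33_cnt_t : BT := (BT.fix (nat_lit 0x10101010101) (BT.frm (nat_lit 0) (nat_lit 0) (nat_lit 0) [] (BT.pln (nat_lit 0) (nat_lit 0) (BT.dif (nat_lit 2) (nat_lit 0) (BT.fix (nat_lit 65793) (BT.dif (nat_lit 1) (nat_lit 0) (BT.fix (nat_lit 257) (BT.dif (nat_lit 1) (nat_lit 0) (BT.br (nat_lit 0) (nat_lit 274) [nat_lit 1] (BT.dead (nat_lit 253) (BT.img (nat_lit 1) (nat_lit 0) (BT.img (nat_lit 1) (nat_lit 0) (BT.frm (nat_lit 2) (nat_lit 0x1b1b030101130c0c) (nat_lit 0x1b1e1b0207120c19) [nat_lit 0, nat_lit 1, nat_lit 2] (BT.pln (nat_lit 0) (nat_lit 3) (BT.and (nat_lit 0) (nat_lit 8) (BT.cnt (nat_lit 0))))))) (BT.kid (nat_lit 274) (nat_lit 4) (BT.img (nat_lit 1) (nat_lit 0) (BT.frm (nat_lit 1) (nat_lit 0x30101130c0c) (nat_lit 0x30101130c0c) [nat_lit 0, nat_lit 1] (BT.pln (nat_lit 0) (nat_lit 7) (BT.and (nat_lit 6) (nat_lit 0) (BT.img (nat_lit 1) (nat_lit 3) (BT.frm (nat_lit 2) (nat_lit 0x1b1b030101130c0c) (nat_lit 0x1b1b030101130c0c)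 [nat_lit 0, nat_lit 4, nat_lit 5] (BT.pln (nat_lit 0) (nat_lit 3) (BT.dif (nat_lit 3) (nat_lit 0) (BT.br (nat_lit 0) (nat_lit 178) [] (BT.dead (nat_lit 54) (BT.dif (nat_lit 20) (nat_lit 2) (BT.pln (nat_lit 4) (nat_lit 5) (BT.and (nat_lit 1) (nat_lit 0) (BT.pln (nat_lit 6) (nat_lit 4) (BT.dif (nat_lit 1) (nat_lit 0) (BT.pln (nat_lit 8) (nat_lit 6) (BT.dif (nat_lit 1) (nat_lit 0) (BT.dif (nat_lit 0) (nat_lit 22) (BT.dif (nat_lit 0) (nat_lit 19) (BT.frm (nat_lit 3) (nat_lit 0x1d1b1b030101130c0c) (nat_lit 0x1b1b030101130c0c) [nat_lit 9, nat_lit 13, nat_lit 17, nat_lit 18] (BT.pln (nat_lit 0) (nat_lit 5) (BT.dif (nat_lit 2) (nat_lit 0) (BT.br (nat_lit 0) (nat_lit 43) [nat_lit 3] (BT.dead (nat_lit 114) (BT.frm (nat_lit 4) (nat_lit 0x1f1d1b1b030101130c0c) (nat_lit 0x211b1b030101130c0c) [nat_lit 0, nat_lit 13, nat_lit 17, nat_lit 21, nat_lit 22] (BT.pln (nat_lit 0) (nat_lit 5) (BT.img (nat_lit 1) (nat_lit 2) (BT.img (nat_lit 1) (nat_lit 0) (BT.img (nat_lit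 1) (nat_lit 0) (BT.and (nat_lit 3) (nat_lit 0) (BT.cnt (nat_lit 0)))))))) BT.nil)))))))))))))) (BT.kid (nat_lit 178) (nat_lit 4) (BT.dif (nat_lit 20) (nat_lit 2) (BT.pln (nat_lit 4) (nat_lit 5) (BT.and (nat_lit 1) (nat_lit 0) (BT.pln (nat_lit 6) (nat_lit 4) (BT.dif (nat_lit 1) (nat_lit 0) (BT.pln (nat_lit 8) (nat_lit 6) (BT.dif (nat_lit 1) (nat_lit 0) (BT.dif (nat_lit 0) (nat_lit 22) (BT.dif (nat_lit 0) (nat_lit 19) (BT.frm (nat_lit 3) (nat_lit 0x1d1b1b030101130c0c) (nat_lit 0x1d1b1b030101130c0c) [nat_lit 9, nat_lit 13, nat_lit 17, nat_lit 18] (BT.pln (nat_lit 0) (nat_lit 5) (BT.dif (nat_lit 2) (nat_lit 0) (BT.br (nat_lit 0) (nat_lit 43) [nat_lit 3] (BT.kid (nat_lit 43) (nat_lit 1) (BT.one (nat_lit 4) (nat_lit 0x1f1d1b1b030101130c0c) (nat_lit 0x1f1d1b1b030101130c0c) [nat_lit 0, nat_lit 13, nat_lit 17, nat_lit 21, nat_lit 22]) BT.nil)))))))))))))) BT.nil))))))))))) BT.nil)))))))))))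

theorem ht_c33_cnt : Cnt 276 (grp 276 h_K) [g381] [g381] 0 0 0 0 24 :=
  BT.sound ht_c33_cnt_P Known.nil (t := ht_c33_cnt_t) (d := 0) (by decide +kernel)

theorem ht_c33_ge : 24 ≤ Nat.card (grp 276 ht_c33_K) :=
  Ch.le_card_grp (k := 9) (L := (lab 276 9)) hn ht_c33_K_ok (c := (Ch.cons (nat_lit 274) [nat_lit 1] (Ch.cons (nat_lit 43) [nat_lit 3] Ch.nil))) (by decide +kernel)

theorem ht_c33_eq : (grp 276 h_K) ⊓ Subgroup.centralizer {Net.toPerm 276 g381} = grp 276 ht_c33_K :=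
  cent_eq ht_c33_sym ht_c33_cnt ht_c33_ge

theorem ht_c33_card : Nat.card ↥((grp 276 h_K) ⊓ Subgroup.centralizer {Net.toPerm 276 g381}) = 24 :=
  card_cent ht_c33_sym ht_c33_cnt ht_c33_ge

theorem ht_c33_ord : orderOf (Net.toPerm 276 g381) = 12 :=
  orderOf_net hn hk g381_ok (by decide) (ps := [2, 3]) (by set_option linter.unusedSimpArgs false in simp [Nat.primeFactorsList_ofNat]) (by decide +kernel)

theorem le386 : grp 276 ht_c34_K ≤ grp 276 h_K :=
  grp_le_of_memB hn hk h_K_ok ht_c34_K_ok (ws := [nat_lit 0xf0d0705070d040202, nat_lit 0xd0907090805050503060204, nat_lit 0xd070908050508030503010306]) (by decide +kernel)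

theorem ht_c34_le : grp 276 ht_c34_K ≤ (grp 276 h_K) :=
  (le386.trans TH_s0.le)

theorem ht_c34_mem : Net.toPerm 276 g384 ∈ (grp 276 h_K) :=
  ht_c34_le (toPerm_mem_grp (E := ht_c34_K) (List.Mem.head _))

theorem ht_c34_sym : Sym 276 (grp 276 h_K) [g384] ht_c34_K 0 :=
  Sym.of_lab hn hk (okE_cons.2 ⟨g384_ok, okE_nil _⟩) ht_c34_K_ok ht_c34_le (kT := 0) (by decide +kernel)

noncomputable def ht_c34_cnt_L : List ℕ := [0, 1, TH_s0_O, 0, 0, 3, 9, TH_s29_O, 0, 0, 4, 11, TH_s30_O, 0, 0, 5, 9, TH_s33_O, 1, 0]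

theorem ht_c34_cnt_P : Prob 276 9 (grp 276 h_K) ht_c34_cnt_EG [g384] [g384] ht_c34_K ht_c34_cnt_L 0 0 :=
  Sym.prob hn hk ht_c34_sym ht_c34_cnt_EG_ok (grp_cons_le g214_TH (grp_cons_le g215_TH (grp_cons_le g216_TH (grp_cons_le g217_TH (grp_cons_le g173_TH (grp_cons_le g174_TH (grp_cons_le g175_TH (grp_cons_le g176_TH (grp_cons_le g177_TH (grp_cons_le g35_TH (grp_cons_le g36_TH (grp_cons_le g37_TH (grp_cons_le g38_TH (grp_cons_le g39_TH (grp_cons_le g40_TH (grp_cons_le g41_TH (grp_cons_le g42_TH (grp_nil_le _)))))))))))))))))) (Frames.cons TH_s0_F (Frames.cons TH_s29_F (Frames.cons TH_s30_F (Frames.cons TH_s33_F Frames.nil)))) (okE_cons.2 ⟨g384_ok, okE_nil _⟩) _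

noncomputable def ht_c34_cnt_t : BT := (BT.fix (nat_lit 0x10101010101) (BT.frm (nat_lit 0) (nat_lit 0) (nat_lit 0) [] (BT.pln (nat_lit 0) (nat_lit 0) (BT.dif (nat_lit 2) (nat_lit 0) (BT.fix (nat_lit 65793) (BT.dif (nat_lit 1) (nat_lit 0) (BT.fix (nat_lit 257) (BT.dif (nat_lit 1) (nat_lit 0) (BT.br (nat_lit 0) (nat_lit 138) [nat_lit 1] (BT.kid (nat_lit 138) (nat_lit 4) (BT.dif (nat_lit 4) (nat_lit 2) (BT.img (nat_lit 1) (nat_lit 1) (BT.img (nat_lit 1) (nat_lit 0) (BT.frm (nat_lit 1) (nat_lit 0x105110c1a131b) (nat_lit 0x105110c1a131b) [nat_lit 0, nat_lit 1, nat_lit 3] (BT.pln (nat_lit 0) (nat_lit 3) (BT.dif (nat_lit 4) (nat_lit 0) (BT.pln (nat_lit 2) (nat_lit 5) (BT.dif (nat_lit 1) (nat_lit 0) (BT.br (nat_lit 0) (nat_lit 135) [nat_lit 3] (BT.kid (nat_lit 135) (nat_lit 2) (BT.dif (nat_lit 2) (nat_lit 4) (BT.pln (nat_lit 6) (nat_lit 4) (BT.dif (nat_lit 1) (nat_lit 0) (BT.pln (nat_lit 8) (nat_lit 6) (BT.dif (nat_lit 1) (nat_lit 0) (BT.dif (nat_lit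 0) (nat_lit 20) (BT.dif (nat_lit 0) (nat_lit 17) (BT.frm (nat_lit 2) (nat_lit 0x30105110c1a131b) (nat_lit 0x30105110c1a131b) [nat_lit 7, nat_lit 13, nat_lit 14, nat_lit 16] (BT.pln (nat_lit 0) (nat_lit 5) (BT.dif (nat_lit 2) (nat_lit 0) (BT.br (nat_lit 0) (nat_lit 123) [nat_lit 5] (BT.dead (nat_lit 171) (BT.frm (nat_lit 3) (nat_lit 0x30105110c1a131b) (nat_lit 0x6030105110c1a131b) [nat_lit 0, nat_lit 11, nat_lit 17, nat_lit 18, nat_lit 20] (BT.pln (nat_lit 0) (nat_lit 5) (BT.img (nat_lit 1) (nat_lit 2) (BT.img (nat_lit 1) (nat_lit 0) (BT.img (nat_lit 1) (nat_lit 0) (BT.and (nat_lit 3) (nat_lit 0) (BT.cnt (nat_lit 0)))))))) (BT.kid (nat_lit 123) (nat_lit 1) (BT.one (nat_lit 3) (nat_lit 0x30105110c1a131b) (nat_lit 0x30105110c1a131b) [nat_lit 0, nat_lit 11, nat_lit 17, nat_lit 18, nat_lit 20]) BT.nil))))))))))))) BT.nil)))))))))) BT.nil))))))))))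

theorem ht_c34_cnt : Cnt 276 (grp 276 h_K) [g384] [g384] 0 0 0 0 24 :=
  BT.sound ht_c34_cnt_P Known.nil (t := ht_c34_cnt_t) (d := 0) (by decide +kernel)

theorem ht_c34_ge : 24 ≤ Nat.card (grp 276 ht_c34_K) :=
  Ch.le_card_grp (k := 9) (L := (lab 276 9)) hn ht_c34_K_ok (c := (Ch.cons (nat_lit 138) [nat_lit 1] (Ch.cons (nat_lit 135) [nat_lit 3] (Ch.cons (nat_lit 123) [nat_lit 5] Ch.nil)))) (by decide +kernel)

theorem ht_c34_eq : (grp 276 h_K) ⊓ Subgroup.centralizer {Net.toPerm 276 g384} = grp 276 ht_c34_K :=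
  cent_eq ht_c34_sym ht_c34_cnt ht_c34_ge

theorem ht_c34_card : Nat.card ↥((grp 276 h_K) ⊓ Subgroup.centralizer {Net.toPerm 276 g384}) = 24 :=
  card_cent ht_c34_sym ht_c34_cnt ht_c34_ge

theorem ht_c34_ord : orderOf (Net.toPerm 276 g384) = 12 :=
  orderOf_net hn hk g384_ok (by decide) (ps := [2, 3]) (by set_option linter.unusedSimpArgs false in simp [Nat.primeFactorsList_ofNat]) (by decide +kernel)

theorem le389 : grp 276 ht_c35_K ≤ grp 276 h_K :=
  grp_le_of_memB hn hk h_K_ok ht_c35_K_ok (ws := [nat_lit 0x70705050904050306010505, nat_lit 0x90709070507030206]) (by decide +kernel)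

theorem ht_c35_le : grp 276 ht_c35_K ≤ (grp 276 h_K) :=
  (le389.trans TH_s0.le)

theorem ht_c35_mem : Net.toPerm 276 g387 ∈ (grp 276 h_K) :=
  ht_c35_le (toPerm_mem_grp (E := ht_c35_K) (List.Mem.head _))

theorem ht_c35_sym : Sym 276 (grp 276 h_K) [g387] ht_c35_K 0 :=
  Sym.of_lab hn hk (okE_cons.2 ⟨g387_ok, okE_nil _⟩) ht_c35_K_ok ht_c35_le (kT := 0) (by decide +kernel)

noncomputable def ht_c35_cnt_L : List ℕ := [0, 1, TH_s0_O, 0, 0, 2, 9, TH_s52_O, 0, 0, 3, 9, TH_s53_O, 0, 0, 4, 8, TH_s54_O, 1, 0]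

theorem ht_c35_cnt_P : Prob 276 9 (grp 276 h_K) ht_c35_cnt_EG [g387] [g387] ht_c35_K ht_c35_cnt_L 0 0 :=
  Sym.prob hn hk ht_c35_sym ht_c35_cnt_EG_ok (grp_cons_le g36_TH (grp_cons_le g37_TH (grp_cons_le g38_TH (grp_cons_le g39_TH (grp_cons_le g40_TH (grp_cons_le g41_TH (grp_cons_le g42_TH (grp_cons_le g35_TH (grp_cons_le g320_TH (grp_cons_le g321_TH (grp_cons_le g322_TH (grp_nil_le _)))))))))))) (Frames.cons TH_s0_F (Frames.cons TH_s52_F (Frames.cons TH_s53_F (Frames.cons TH_s54_F Frames.nil)))) (okE_cons.2 ⟨g387_ok, okE_nil _⟩) _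

noncomputable def ht_c35_cnt_t : BT := (BT.fix (nat_lit 257) (BT.frm (nat_lit 0) (nat_lit 0) (nat_lit 0) [] (BT.pln (nat_lit 0) (nat_lit 0) (BT.dif (nat_lit 2) (nat_lit 0) (BT.br (nat_lit 0) (nat_lit 234) [nat_lit 1] (BT.kid (nat_lit 234) (nat_lit 7) (BT.fix (nat_lit 1) (BT.frm (nat_lit 1) (nat_lit 0x10505041002) (nat_lit 0x10505041002) [nat_lit 1, nat_lit 0] (BT.pln (nat_lit 0) (nat_lit 5) (BT.br (nat_lit 0) (nat_lit 3) [nat_lit 3] (BT.dead (nat_lit 92) (BT.pln (nat_lit 2) (nat_lit 3) (BT.frm (nat_lit 2) (nat_lit 0x11111311010505041002) (nat_lit 0x11111612010505041002) [nat_lit 1, nat_lit 5, nat_lit 4] (BT.pln (nat_lit 0) (nat_lit 6) (BT.dif (nat_lit 2) (nat_lit 0) (BT.pln (nat_lit 2) (nat_lit 3) (BT.and (nat_lit 1) (nat_lit 0) (BT.pln (nat_lit 4) (nat_lit 8) (BT.and (nat_lit 0) (nat_lit 2) (BT.dif (nat_lit 0) (nat_lit 14) (BT.pln (nat_lit 7) (nat_lit 5) (BT.dif (nat_lit 1) (nat_lit 0) (BT.img (nat_lit 1) (nat_lit 0) (BT.and (nat_lit 6) (nat_lit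 0) (BT.img (nat_lit 1) (nat_lit 0) (BT.and (nat_lit 0) (nat_lit 9) (BT.cnt (nat_lit 0))))))))))))))))) (BT.dead (nat_lit 271) (BT.pln (nat_lit 2) (nat_lit 3) (BT.frm (nat_lit 2) (nat_lit 0x11111311010505041002) (nat_lit 0x121216010505041002) [nat_lit 1, nat_lit 5, nat_lit 4] (BT.pln (nat_lit 0) (nat_lit 6) (BT.dif (nat_lit 2) (nat_lit 0) (BT.pln (nat_lit 2) (nat_lit 3) (BT.and (nat_lit 1) (nat_lit 0) (BT.pln (nat_lit 4) (nat_lit 8) (BT.and (nat_lit 0) (nat_lit 2) (BT.dif (nat_lit 0) (nat_lit 14) (BT.pln (nat_lit 7) (nat_lit 5) (BT.dif (nat_lit 1) (nat_lit 0) (BT.img (nat_lit 1) (nat_lit 0) (BT.and (nat_lit 6) (nat_lit 0) (BT.img (nat_lit 1) (nat_lit 0) (BT.and (nat_lit 0) (nat_lit 9) (BT.cnt (nat_lit 0))))))))))))))))) (BT.dead (nat_lit 56) (BT.pln (nat_lit 2) (nat_lit 3) (BT.frm (nat_lit 2) (nat_lit 0x11111311010505041002) (nat_lit 0x1212010505041002) [nat_lit 1, nat_lit 5, nat_lit 4] (BT.pln (nat_lit 0) (nat_lit 6) (BT.dif (nat_lit 2) (nat_lit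 0) (BT.pln (nat_lit 2) (nat_lit 3) (BT.and (nat_lit 1) (nat_lit 0) (BT.pln (nat_lit 4) (nat_lit 8) (BT.and (nat_lit 0) (nat_lit 2) (BT.dif (nat_lit 0) (nat_lit 14) (BT.pln (nat_lit 7) (nat_lit 5) (BT.dif (nat_lit 1) (nat_lit 0) (BT.img (nat_lit 1) (nat_lit 0) (BT.and (nat_lit 6) (nat_lit 0) (BT.img (nat_lit 1) (nat_lit 0) (BT.and (nat_lit 0) (nat_lit 4) (BT.cnt (nat_lit 0))))))))))))))))) (BT.kid (nat_lit 3) (nat_lit 1) (BT.img (nat_lit 1) (nat_lit 0) (BT.one (nat_lit 3) (nat_lit 0x1411111311010505041002) (nat_lit 0x1411111311010505041002) [nat_lit 0, nat_lit 1, nat_lit 5, nat_lit 4])) BT.nil)))))))) BT.nil))))))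

theorem ht_c35_cnt : Cnt 276 (grp 276 h_K) [g387] [g387] 0 0 0 0 14 :=
  BT.sound ht_c35_cnt_P Known.nil (t := ht_c35_cnt_t) (d := 0) (by decide +kernel)

theorem ht_c35_ge : 14 ≤ Nat.card (grp 276 ht_c35_K) :=
  Ch.le_card_grp (k := 9) (L := (lab 276 9)) hn ht_c35_K_ok (c := (Ch.cons (nat_lit 234) [nat_lit 1] (Ch.cons (nat_lit 3) [nat_lit 3] Ch.nil))) (by decide +kernel)

theorem ht_c35_eq : (grp 276 h_K) ⊓ Subgroup.centralizer {Net.toPerm 276 g387} = grp 276 ht_c35_K :=
  cent_eq ht_c35_sym ht_c35_cnt ht_c35_ge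

theorem ht_c35_card : Nat.card ↥((grp 276 h_K) ⊓ Subgroup.centralizer {Net.toPerm 276 g387}) = 14 :=
  card_cent ht_c35_sym ht_c35_cnt ht_c35_ge

theorem ht_c35_ord : orderOf (Net.toPerm 276 g387) = 14 :=
  orderOf_net hn hk g387_ok (by decide) (ps := [2, 7]) (by set_option linter.unusedSimpArgs false in simp [Nat.primeFactorsList_ofNat]) (by decide +kernel)

theorem le391 : grp 276 ht_c36_K ≤ grp 276 h_K :=
  grp_le_of_memB hn hk h_K_ok ht_c36_K_ok (ws := [nat_lit 0xb07090507070406070206, nat_lit 0xd0b070d06080306010505, nat_lit 2315]) (by decide +kernel)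

theorem ht_c36_le : grp 276 ht_c36_K ≤ (grp 276 h_K) :=
  (le391.trans TH_s0.le)

theorem ht_c36_mem : Net.toPerm 276 g362 ∈ (grp 276 h_K) :=
  ht_c36_le (toPerm_mem_grp (E := ht_c36_K) (List.Mem.head _))

theorem ht_c36_sym : Sym 276 (grp 276 h_K) [g362] ht_c36_K 0 :=
  Sym.of_lab hn hk (okE_cons.2 ⟨g362_ok, okE_nil _⟩) ht_c36_K_ok ht_c36_le (kT := 0) (by decide +kernel)

noncomputable def ht_c36_cnt_L : List ℕ := [0, 1, TH_s0_O, 0, 0, 2, 5, TH_s2_O, 0, 0, 4, 21, TH_s16_O, 0, 0, 5, 10, TH_s17_O, 0, 0, 7, 15, TH_s19_O, 0, 0, 8, 12, TH_s20_O, 1, 0]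

theorem ht_c36_cnt_P : Prob 276 9 (grp 276 h_K) ht_c36_cnt_EG [g362] [g362] ht_c36_K ht_c36_cnt_L 0 0 :=
  Sym.prob hn hk ht_c36_sym ht_c36_cnt_EG_ok (grp_cons_le g36_TH (grp_cons_le g37_TH (grp_cons_le g38_TH (grp_cons_le g39_TH (grp_cons_le g40_TH (grp_cons_le g41_TH (grp_cons_le g42_TH (grp_cons_le g35_TH (grp_cons_le g155_TH (grp_cons_le g156_TH (grp_cons_le g157_TH (grp_cons_le g130_TH (grp_cons_le n_t_TH (grp_nil_le _)))))))))))))) (Frames.cons TH_s0_F (Frames.cons TH_s2_F (Frames.cons TH_s16_F (Frames.cons TH_s17_F (Frames.cons TH_s19_F (Frames.cons TH_s20_F Frames.nil)))))) (okE_cons.2 ⟨g362_ok, okE_nil _⟩) _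

noncomputable def ht_c36_cnt_t : BT := (BT.frm (nat_lit 0) (nat_lit 0) (nat_lit 0) [] (BT.pln (nat_lit 0) (nat_lit 0) (BT.fix (nat_lit 0x101010101) (BT.and (nat_lit 1) (nat_lit 0) (BT.fix (nat_lit 1) (BT.dif (nat_lit 1) (nat_lit 0) (BT.br (nat_lit 0) (nat_lit 265) [nat_lit 1] (BT.kid (nat_lit 265) (nat_lit 6) (BT.img (nat_lit 1) (nat_lit 0) (BT.img (nat_lit 1) (nat_lit 0) (BT.frm (nat_lit 2) (nat_lit 0x3060d020b101003) (nat_lit 0x3060d020b101003) [nat_lit 0, nat_lit 1, nat_lit 2, nat_lit 4] (BT.pln (nat_lit 0) (nat_lit 16) (BT.and (nat_lit 9) (nat_lit 0) (BT.br (nat_lit 0) (nat_lit 209) [nat_lit 3] (BT.kid (nat_lit 209) (nat_lit 2) (BT.frm (nat_lit 1) (nat_lit 0x20b101003) (nat_lit 0x20b101003) [nat_lit 6, nat_lit 8] (BT.pln (nat_lit 0) (nat_lit 2) (BT.img (nat_lit 1) (nat_lit 0) (BT.img (nat_lit 1) (nat_lit 7) (BT.frm (nat_lit 3) (nat_lit 0x3060d020b101003) (nat_lit 0x3060d020b101003) [nat_lit 0, nat_lit 8, nat_lit 9, nat_lit 10, nat_lit 12]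 (BT.pln (nat_lit 0) (nat_lit 7) (BT.dif (nat_lit 3) (nat_lit 0) (BT.pln (nat_lit 2) (nat_lit 5) (BT.dif (nat_lit 1) (nat_lit 0) (BT.img (nat_lit 1) (nat_lit 9) (BT.img (nat_lit 1) (nat_lit 0) (BT.img (nat_lit 1) (nat_lit 0) (BT.img (nat_lit 1) (nat_lit 0) (BT.and (nat_lit 24) (nat_lit 0) (BT.img (nat_lit 1) (nat_lit 0) (BT.and (nat_lit 26) (nat_lit 0) (BT.frm (nat_lit 4) (nat_lit 0x3060d020b101003) (nat_lit 0x3060d020b101003) [nat_lit 0, nat_lit 16, nat_lit 12, nat_lit 20, nat_lit 21, nat_lit 22, nat_lit 24] (BT.pln (nat_lit 0) (nat_lit 7) (BT.dif (nat_lit 9) (nat_lit 0) (BT.br (nat_lit 0) (nat_lit 59) [nat_lit 5] (BT.kid (nat_lit 59) (nat_lit 1) (BT.one (nat_lit 5) (nat_lit 0x3060d020b101003) (nat_lit 0x3060d020b101003) [nat_lit 0, nat_lit 4, nat_lit 20, nat_lit 16, nat_lit 24, nat_lit 25, nat_lit 26, nat_lit 28]) BT.nil))))))))))))))))))))) BT.nil))))))) BT.nil))))))))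

theorem ht_c36_cnt : Cnt 276 (grp 276 h_K) [g362] [g362] 0 0 0 0 30 :=
  BT.sound ht_c36_cnt_P Known.nil (t := ht_c36_cnt_t) (d := 0) (by decide +kernel)

theorem ht_c36_ge : 30 ≤ Nat.card (grp 276 ht_c36_K) :=
  Ch.le_card_grp (k := 9) (L := (lab 276 9)) hn ht_c36_K_ok (c := (Ch.cons (nat_lit 265) [nat_lit 1] (Ch.cons (nat_lit 209) [nat_lit 3] (Ch.cons (nat_lit 59) [nat_lit 5] Ch.nil)))) (by decide +kernel)

theorem ht_c36_eq : (grp 276 h_K) ⊓ Subgroup.centralizer {Net.toPerm 276 g362} = grp 276 ht_c36_K :=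
  cent_eq ht_c36_sym ht_c36_cnt ht_c36_ge

theorem ht_c36_card : Nat.card ↥((grp 276 h_K) ⊓ Subgroup.centralizer {Net.toPerm 276 g362}) = 30 :=
  card_cent ht_c36_sym ht_c36_cnt ht_c36_ge

theorem ht_c36_ord : orderOf (Net.toPerm 276 g362) = 15 :=
  orderOf_net hn hk g362_ok (by decide) (ps := [3, 5]) (by set_option linter.unusedSimpArgs false in simp [Nat.primeFactorsList_ofNat]) (by decide +kernel)

theorem le393 : grp 276 ht_c37_K ≤ grp 276 h_K :=
  grp_le_of_memB hn hk h_K_ok ht_c37_K_ok (ws := [nat_lit 0xb08050508030503050106, nat_lit 0x90b07090805070d040503020205]) (by decide +kernel)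

theorem ht_c37_le : grp 276 ht_c37_K ≤ (grp 276 h_K) :=
  (le393.trans TH_s0.le)

theorem ht_c37_mem : Net.toPerm 276 g392 ∈ (grp 276 h_K) :=
  ht_c37_le (toPerm_mem_grp (E := ht_c37_K) (List.Mem.head _))

theorem ht_c37_sym : Sym 276 (grp 276 h_K) [g392] ht_c37_K 0 :=
  Sym.of_lab hn hk (okE_cons.2 ⟨g392_ok, okE_nil _⟩) ht_c37_K_ok ht_c37_le (kT := 0) (by decide +kernel)

noncomputable def ht_c37_cnt_L : List ℕ := [0, 1, TH_s0_O, 0, 0, 3, 19, TH_s23_O, 0, 0, 4, 11, TH_s24_O, 0, 0, 5, 9, TH_s25_O, 1, 0]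

theorem ht_c37_cnt_P : Prob 276 9 (grp 276 h_K) ht_c37_cnt_EG [g392] [g392] ht_c37_K ht_c37_cnt_L 0 0 :=
  Sym.prob hn hk ht_c37_sym ht_c37_cnt_EG_ok (grp_cons_le g174_TH (grp_cons_le g175_TH (grp_cons_le g176_TH (grp_cons_le g177_TH (grp_cons_le g173_TH (grp_cons_le g35_TH (grp_cons_le g36_TH (grp_cons_le g37_TH (grp_cons_le g38_TH (grp_cons_le g39_TH (grp_cons_le g40_TH (grp_cons_le g41_TH (grp_cons_le g42_TH (grp_nil_le _)))))))))))))) (Frames.cons TH_s0_F (Frames.cons TH_s23_F (Frames.cons TH_s24_F (Frames.cons TH_s25_F Frames.nil)))) (okE_cons.2 ⟨g392_ok, okE_nil _⟩) _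

noncomputable def ht_c37_cnt_t : BT := (BT.fix (nat_lit 0x10101010101) (BT.br (nat_lit 0) (nat_lit 245) [nat_lit 1] (BT.kid (nat_lit 245) (nat_lit 3) (BT.frm (nat_lit 0) (nat_lit 0) (nat_lit 0) [] (BT.pln (nat_lit 0) (nat_lit 0) (BT.img (nat_lit 1) (nat_lit 2) (BT.img (nat_lit 1) (nat_lit 0) (BT.frm (nat_lit 1) (nat_lit 0x1090909010b100e) (nat_lit 0x1090909010b100e) [nat_lit 0, nat_lit 1, nat_lit 4] (BT.pln (nat_lit 0) (nat_lit 13) (BT.and (nat_lit 4) (nat_lit 0) (BT.br (nat_lit 0) (nat_lit 112) [nat_lit 3] (BT.dead (nat_lit 124) (BT.frm (nat_lit 2) (nat_lit 0x1090909010b100e) (nat_lit 0x30701090909010b100e) [nat_lit 0, nat_lit 4, nat_lit 5, nat_lit 8] (BT.pln (nat_lit 0) (nat_lit 4) (BT.img (nat_lit 1) (nat_lit 2) (BT.and (nat_lit 1) (nat_lit 0) (BT.cnt (nat_lit 0)))))) (BT.dead (nat_lit 12) (BT.frm (nat_lit 2) (nat_lit 0x1090909010b100e) (nat_lit 0x301090909010b100e) [nat_lit 0, nat_lit 4, nat_lit 5, nat_lit 8] (BT.pln (nat_lit 0) (nat_lit 4)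 (BT.img (nat_lit 1) (nat_lit 2) (BT.and (nat_lit 1) (nat_lit 0) (BT.cnt (nat_lit 0)))))) (BT.kid (nat_lit 112) (nat_lit 1) (BT.dif (nat_lit 1) (nat_lit 0) (BT.img (nat_lit 1) (nat_lit 1) (BT.img (nat_lit 1) (nat_lit 0) (BT.img (nat_lit 1) (nat_lit 0) (BT.dif (nat_lit 3) (nat_lit 0) (BT.img (nat_lit 1) (nat_lit 1) (BT.and (nat_lit 12) (nat_lit 0) (BT.img (nat_lit 1) (nat_lit 0) (BT.and (nat_lit 14) (nat_lit 0) (BT.img (nat_lit 1) (nat_lit 0) (BT.dif (nat_lit 5) (nat_lit 0) (BT.pln (nat_lit 14) (nat_lit 14) (BT.and (nat_lit 18) (nat_lit 0) (BT.frm (nat_lit 2) (nat_lit 0x1090909010b100e) (nat_lit 0x1090909010b100e) [nat_lit 13, nat_lit 17, nat_lit 18, nat_lit 21] (BT.pln (nat_lit 0) (nat_lit 6) (BT.and (nat_lit 2) (nat_lit 0) (BT.dif (nat_lit 0) (nat_lit 8) (BT.pln (nat_lit 20) (nat_lit 12) (BT.and (nat_lit 24) (nat_lit 0) (BT.pln (nat_lit 5) (nat_lit 7) (BT.and (nat_lit 1) (nat_lit 0) (BT.dif (nat_lit 0) (nat_lit 15) (BT.img (nat_lit 1) (nat_lit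 0) (BT.and (nat_lit 6) (nat_lit 0) (BT.img (nat_lit 1) (nat_lit 0) (BT.and (nat_lit 14) (nat_lit 0) (BT.one (nat_lit 3) (nat_lit 0x1090909010b100e) (nat_lit 0x1090909010b100e) [nat_lit 0, nat_lit 26, nat_lit 30, nat_lit 31, nat_lit 34]))))))))))))))))))))))))))) BT.nil))))))))))) BT.nil)))

theorem ht_c37_cnt : Cnt 276 (grp 276 h_K) [g392] [g392] 0 0 0 0 18 :=
  BT.sound ht_c37_cnt_P Known.nil (t := ht_c37_cnt_t) (d := 0) (by decide +kernel)

theorem ht_c37_ge : 18 ≤ Nat.card (grp 276 ht_c37_K) :=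
  Ch.le_card_grp (k := 9) (L := (lab 276 9)) hn ht_c37_K_ok (c := (Ch.cons (nat_lit 245) [nat_lit 1] (Ch.cons (nat_lit 112) [nat_lit 3] Ch.nil))) (by decide +kernel)

theorem ht_c37_eq : (grp 276 h_K) ⊓ Subgroup.centralizer {Net.toPerm 276 g392} = grp 276 ht_c37_K :=
  cent_eq ht_c37_sym ht_c37_cnt ht_c37_ge

theorem ht_c37_card : Nat.card ↥((grp 276 h_K) ⊓ Subgroup.centralizer {Net.toPerm 276 g392}) = 18 :=
  card_cent ht_c37_sym ht_c37_cnt ht_c37_ge

theorem ht_c37_ord : orderOf (Net.toPerm 276 g392) = 18 :=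
  orderOf_net hn hk g392_ok (by decide) (ps := [2, 3]) (by set_option linter.unusedSimpArgs false in simp [Nat.primeFactorsList_ofNat]) (by decide +kernel)

theorem le395 : grp 276 ht_c38_K ≤ grp 276 h_K :=
  grp_le_of_memB hn hk h_K_ok ht_c38_K_ok (ws := [nat_lit 0x705050803050307010108, nat_lit 2315]) (by decide +kernel)

theorem ht_c38_le : grp 276 ht_c38_K ≤ (grp 276 h_K) :=
  (le395.trans TH_s0.le)

theorem ht_c38_mem : Net.toPerm 276 g394 ∈ (grp 276 h_K) :=
  ht_c38_le (toPerm_mem_grp (E := ht_c38_K) (List.Mem.head _))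

theorem ht_c38_sym : Sym 276 (grp 276 h_K) [g394] ht_c38_K 0 :=
  Sym.of_lab hn hk (okE_cons.2 ⟨g394_ok, okE_nil _⟩) ht_c38_K_ok ht_c38_le (kT := 0) (by decide +kernel)

noncomputable def ht_c38_cnt_L : List ℕ := [0, 1, TH_s0_O, 0, 0, 2, 5, TH_s2_O, 0, 0, 3, 15, TH_s3_O, 0, 0, 4, 10, TH_s4_O, 0, 0, 5, 12, TH_s13_O, 0, 0, 7, 11, TH_s51_O, 1, 0]

theorem ht_c38_cnt_P : Prob 276 9 (grp 276 h_K) ht_c38_cnt_EG [g394] [g394] ht_c38_K ht_c38_cnt_L 0 0 :=
  Sym.prob hn hk ht_c38_sym ht_c38_cnt_EG_ok (grp_cons_le g36_TH (grp_cons_le g37_TH (grp_cons_le g38_TH (grp_cons_le g39_TH (grp_cons_le g40_TH (grp_cons_le g41_TH (grp_cons_le g42_TH (grp_cons_le g35_TH (grp_cons_le n_t_TH (grp_cons_le g144_TH (grp_nil_le _))))))))))) (Frames.cons TH_s0_F (Frames.cons TH_s2_F (Frames.cons TH_s3_F (Frames.cons TH_s4_F (Frames.cons TH_s13_F (Frames.cons TH_s51_F Frames.nil)))))) (okE_cons.2 ⟨g394_ok, okE_nil _⟩) _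

noncomputable def ht_c38_cnt_t : BT := (BT.frm (nat_lit 0) (nat_lit 0) (nat_lit 0) [] (BT.pln (nat_lit 0) (nat_lit 0) (BT.fix (nat_lit 0x101010101) (BT.dif (nat_lit 1) (nat_lit 0) (BT.br (nat_lit 0) (nat_lit 272) [nat_lit 1] (BT.dead (nat_lit 269) (BT.fix (nat_lit 1) (BT.frm (nat_lit 1) (nat_lit 0x2040f07) (nat_lit 0x203010d0f07) [nat_lit 1, nat_lit 0] (BT.pln (nat_lit 0) (nat_lit 3) (BT.img (nat_lit 1) (nat_lit 3) (BT.and (nat_lit 1) (nat_lit 0) (BT.cnt (nat_lit 0))))))) (BT.kid (nat_lit 272) (nat_lit 2) (BT.fix (nat_lit 1) (BT.frm (nat_lit 1) (nat_lit 0x2040f07) (nat_lit 0x2040f07) [nat_lit 1, nat_lit 0] (BT.pln (nat_lit 0) (nat_lit 2) (BT.img (nat_lit 1) (nat_lit 0) (BT.and (nat_lit 1) (nat_lit 0) (BT.img (nat_lit 1) (nat_lit 0) (BT.img (nat_lit 1) (nat_lit 6) (BT.img (nat_lit 1) (nat_lit 0) (BT.img (nat_lit 1) (nat_lit 0) (BT.frm (nat_lit 2) (nat_lit 0x3030302040f07) (nat_lit 0x3030302040f07) [nat_lit 0, nat_lit 9, nat_lit 8] (BT.pln (nat_lit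 0) (nat_lit 3) (BT.dif (nat_lit 5) (nat_lit 0) (BT.img (nat_lit 1) (nat_lit 3) (BT.and (nat_lit 16) (nat_lit 0) (BT.img (nat_lit 1) (nat_lit 0) (BT.and (nat_lit 18) (nat_lit 0) (BT.img (nat_lit 1) (nat_lit 0) (BT.and (nat_lit 20) (nat_lit 0) (BT.frm (nat_lit 3) (nat_lit 0x50b03030302040f07) (nat_lit 0x50b03030302040f07) [nat_lit 0, nat_lit 9, nat_lit 18, nat_lit 17] (BT.pln (nat_lit 0) (nat_lit 5) (BT.dif (nat_lit 8) (nat_lit 0) (BT.br (nat_lit 0) (nat_lit 110) [nat_lit 3] (BT.kid (nat_lit 110) (nat_lit 1) (BT.pln (nat_lit 12) (nat_lit 12) (BT.and (nat_lit 26) (nat_lit 0) (BT.and (nat_lit 0) (nat_lit 26) (BT.and (nat_lit 28) (nat_lit 27) (BT.pln (nat_lit 24) (nat_lit 4) (BT.and (nat_lit 1) (nat_lit 0) (BT.img (nat_lit 1) (nat_lit 0) (BT.dif (nat_lit 4) (nat_lit 0) (BT.img (nat_lit 1) (nat_lit 12) (BT.and (nat_lit 34) (nat_lit 0) (BT.frm (nat_lit 4) (nat_lit 0x70b050b03030302040f07) (nat_lit 0x70b050b03030302040f07) [nat_lit 0, nat_lit 14, nat_lit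 23, nat_lit 32, nat_lit 31] (BT.pln (nat_lit 0) (nat_lit 5) (BT.and (nat_lit 4) (nat_lit 0) (BT.one (nat_lit 5) (nat_lit 0x11070b050b03030302040f07) (nat_lit 0x11070b050b03030302040f07) [nat_lit 13, nat_lit 0, nat_lit 3, nat_lit 17, nat_lit 26, nat_lit 35, nat_lit 34])))))))))))))) BT.nil))))))))))))))))))))))) BT.nil)))))))

theorem ht_c38_cnt : Cnt 276 (grp 276 h_K) [g394] [g394] 0 0 0 0 20 :=
  BT.sound ht_c38_cnt_P Known.nil (t := ht_c38_cnt_t) (d := 0) (by decide +kernel)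

theorem ht_c38_ge : 20 ≤ Nat.card (grp 276 ht_c38_K) :=
  Ch.le_card_grp (k := 9) (L := (lab 276 9)) hn ht_c38_K_ok (c := (Ch.cons (nat_lit 272) [nat_lit 1] (Ch.cons (nat_lit 110) [nat_lit 3] Ch.nil))) (by decide +kernel)

theorem ht_c38_eq : (grp 276 h_K) ⊓ Subgroup.centralizer {Net.toPerm 276 g394} = grp 276 ht_c38_K :=
  cent_eq ht_c38_sym ht_c38_cnt ht_c38_ge

theorem ht_c38_card : Nat.card ↥((grp 276 h_K) ⊓ Subgroup.centralizer {Net.toPerm 276 g394}) = 20 :=
  card_cent ht_c38_sym ht_c38_cnt ht_c38_ge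

theorem ht_c38_ord : orderOf (Net.toPerm 276 g394) = 20 :=
  orderOf_net hn hk g394_ok (by decide) (ps := [2, 5]) (by set_option linter.unusedSimpArgs false in simp [Nat.primeFactorsList_ofNat]) (by decide +kernel)

theorem le397 : grp 276 ht_c39_K ≤ grp 276 h_K :=
  grp_le_of_memB hn hk h_K_ok ht_c39_K_ok (ws := [nat_lit 0x90b0705050803050307010108, nat_lit 2315]) (by decide +kernel)

theorem ht_c39_le : grp 276 ht_c39_K ≤ (grp 276 h_K) :=
  (le397.trans TH_s0.le)

theorem ht_c39_mem : Net.toPerm 276 g396 ∈ (grp 276 h_K) :=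
  ht_c39_le (toPerm_mem_grp (E := ht_c39_K) (List.Mem.head _))

theorem ht_c39_sym : Sym 276 (grp 276 h_K) [g396] ht_c39_K 0 :=
  Sym.of_lab hn hk (okE_cons.2 ⟨g396_ok, okE_nil _⟩) ht_c39_K_ok ht_c39_le (kT := 0) (by decide +kernel)

noncomputable def ht_c39_cnt_L : List ℕ := [0, 1, TH_s0_O, 0, 0, 2, 5, TH_s2_O, 0, 0, 3, 15, TH_s3_O, 0, 0, 4, 10, TH_s4_O, 0, 0, 5, 12, TH_s13_O, 0, 0, 7, 11, TH_s51_O, 1, 0]

theorem ht_c39_cnt_P : Prob 276 9 (grp 276 h_K) ht_c39_cnt_EG [g396] [g396] ht_c39_K ht_c39_cnt_L 0 0 :=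
  Sym.prob hn hk ht_c39_sym ht_c39_cnt_EG_ok (grp_cons_le g36_TH (grp_cons_le g37_TH (grp_cons_le g38_TH (grp_cons_le g39_TH (grp_cons_le g40_TH (grp_cons_le g41_TH (grp_cons_le g42_TH (grp_cons_le g35_TH (grp_cons_le n_t_TH (grp_cons_le g144_TH (grp_nil_le _))))))))))) (Frames.cons TH_s0_F (Frames.cons TH_s2_F (Frames.cons TH_s3_F (Frames.cons TH_s4_F (Frames.cons TH_s13_F (Frames.cons TH_s51_F Frames.nil)))))) (okE_cons.2 ⟨g396_ok, okE_nil _⟩) _

noncomputable def ht_c39_cnt_t : BT := (BT.frm (nat_lit 0) (nat_lit 0) (nat_lit 0) [] (BT.pln (nat_lit 0) (nat_lit 0) (BT.fix (nat_lit 0x101010101) (BT.dif (nat_lit 1) (nat_lit 0) (BT.br (nat_lit 0) (nat_lit 272) [nat_lit 1] (BT.dead (nat_lit 269) (BT.fix (nat_lit 1) (BT.frm (nat_lit 1) (nat_lit 0x2040f07) (nat_lit 0x203010d0f07) [nat_lit 1, nat_lit 0] (BT.pln (nat_lit 0) (nat_lit 3) (BT.img (nat_lit 1) (nat_lit 3) (BT.and (nat_lit 1) (nat_lit 0) (BT.cnt (nat_lit 0))))))) (BT.kid (nat_lit 272) (nat_lit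 2) (BT.fix (nat_lit 1) (BT.frm (nat_lit 1) (nat_lit 0x2040f07) (nat_lit 0x2040f07) [nat_lit 1, nat_lit 0] (BT.pln (nat_lit 0) (nat_lit 2) (BT.img (nat_lit 1) (nat_lit 0) (BT.and (nat_lit 1) (nat_lit 0) (BT.img (nat_lit 1) (nat_lit 0) (BT.img (nat_lit 1) (nat_lit 6) (BT.img (nat_lit 1) (nat_lit 0) (BT.img (nat_lit 1) (nat_lit 0) (BT.frm (nat_lit 2) (nat_lit 0x3030302040f07) (nat_lit 0x3030302040f07) [nat_lit 0, nat_lit 9, nat_lit 8] (BT.pln (nat_lit 0) (nat_lit 3) (BT.dif (nat_lit 5) (nat_lit 0) (BT.img (nat_lit 1) (nat_lit 3) (BT.and (nat_lit 16) (nat_lit 0) (BT.img (nat_lit 1) (nat_lit 0) (BT.and (nat_lit 18) (nat_lit 0) (BT.img (nat_lit 1) (nat_lit 0) (BT.and (nat_lit 20) (nat_lit 0) (BT.frm (nat_lit 3) (nat_lit 0x50b03030302040f07) (nat_lit 0x50b03030302040f07) [nat_lit 0, nat_lit 9, nat_lit 18, nat_lit 17] (BT.pln (nat_lit 0) (nat_lit 5) (BT.dif (nat_lit 8) (nat_lit 0) (BT.br (nat_lit 0) (nat_lit 110) [nat_lit 3] (BT.kid (nat_lit 110) (nat_lit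 1) (BT.pln (nat_lit 12) (nat_lit 12) (BT.and (nat_lit 26) (nat_lit 0) (BT.and (nat_lit 0) (nat_lit 26) (BT.and (nat_lit 28) (nat_lit 27) (BT.pln (nat_lit 24) (nat_lit 4) (BT.and (nat_lit 1) (nat_lit 0) (BT.img (nat_lit 1) (nat_lit 0) (BT.dif (nat_lit 4) (nat_lit 0) (BT.img (nat_lit 1) (nat_lit 12) (BT.and (nat_lit 34) (nat_lit 0) (BT.frm (nat_lit 4) (nat_lit 0x70b050b03030302040f07) (nat_lit 0x70b050b03030302040f07) [nat_lit 0, nat_lit 14, nat_lit 23, nat_lit 32, nat_lit 31] (BT.pln (nat_lit 0) (nat_lit 5) (BT.and (nat_lit 4) (nat_lit 0) (BT.one (nat_lit 5) (nat_lit 0x11070b050b03030302040f07) (nat_lit 0x11070b050b03030302040f07) [nat_lit 13, nat_lit 0, nat_lit 3, nat_lit 17, nat_lit 26, nat_lit 35, nat_lit 34])))))))))))))) BT.nil))))))))))))))))))))))) BT.nil)))))))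

theorem ht_c39_cnt : Cnt 276 (grp 276 h_K) [g396] [g396] 0 0 0 0 20 :=
  BT.sound ht_c39_cnt_P Known.nil (t := ht_c39_cnt_t) (d := 0) (by decide +kernel)

theorem ht_c39_ge : 20 ≤ Nat.card (grp 276 ht_c39_K) :=
  Ch.le_card_grp (k := 9) (L := (lab 276 9)) hn ht_c39_K_ok (c := (Ch.cons (nat_lit 272) [nat_lit 1] (Ch.cons (nat_lit 110) [nat_lit 3] Ch.nil))) (by decide +kernel)

theorem ht_c39_eq : (grp 276 h_K) ⊓ Subgroup.centralizer {Net.toPerm 276 g396} = grp 276 ht_c39_K :=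
  cent_eq ht_c39_sym ht_c39_cnt ht_c39_ge

theorem ht_c39_card : Nat.card ↥((grp 276 h_K) ⊓ Subgroup.centralizer {Net.toPerm 276 g396}) = 20 :=
  card_cent ht_c39_sym ht_c39_cnt ht_c39_ge

theorem ht_c39_ord : orderOf (Net.toPerm 276 g396) = 20 :=
  orderOf_net hn hk g396_ok (by decide) (ps := [2, 5]) (by set_option linter.unusedSimpArgs false in simp [Nat.primeFactorsList_ofNat]) (by decide +kernel)

theorem le400 : grp 276 ht_c40_K ≤ grp 276 h_K :=
  grp_le_of_memB hn hk h_K_ok ht_c40_K_ok (ws := [nat_lit 0xd07090805050704050306010109, nat_lit 0xf0d0b070906060405030f]) (by decide +kernel)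

theorem ht_c40_le : grp 276 ht_c40_K ≤ (grp 276 h_K) :=
  (le400.trans TH_s0.le)

theorem ht_c40_mem : Net.toPerm 276 g398 ∈ (grp 276 h_K) :=
  ht_c40_le (toPerm_mem_grp (E := ht_c40_K) (List.Mem.head _))

theorem ht_c40_sym : Sym 276 (grp 276 h_K) [g398] ht_c40_K 0 :=
  Sym.of_lab hn hk (okE_cons.2 ⟨g398_ok, okE_nil _⟩) ht_c40_K_ok ht_c40_le (kT := 0) (by decide +kernel)

noncomputable def ht_c40_cnt_L : List ℕ := [0, 1, TH_s0_O, 0, 0, 3, 15, TH_s3_O, 0, 0, 4, 9, TH_s34_O, 0, 0, 5, 13, TH_s59_O, 0, 0, 6, 10, TH_s60_O, 1, 0]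

theorem ht_c40_cnt_P : Prob 276 9 (grp 276 h_K) ht_c40_cnt_EG [g398] [g398] ht_c40_K ht_c40_cnt_L 0 0 :=
  Sym.prob hn hk ht_c40_sym ht_c40_cnt_EG_ok (grp_cons_le g37_TH (grp_cons_le g38_TH (grp_cons_le g39_TH (grp_cons_le g40_TH (grp_cons_le g41_TH (grp_cons_le g42_TH (grp_cons_le g36_TH (grp_cons_le g35_TH (grp_cons_le g243_TH (grp_cons_le g244_TH (grp_cons_le n_t_TH (grp_cons_le g112_TH (grp_nil_le _))))))))))))) (Frames.cons TH_s0_F (Frames.cons TH_s3_F (Frames.cons TH_s34_F (Frames.cons TH_s59_F (Frames.cons TH_s60_F Frames.nil))))) (okE_cons.2 ⟨g398_ok, okE_nil _⟩) _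

noncomputable def ht_c40_cnt_t : BT := (BT.frm (nat_lit 0) (nat_lit 0) (nat_lit 0) [] (BT.pln (nat_lit 0) (nat_lit 0) (BT.fix (nat_lit 0x10101010101) (BT.and (nat_lit 1) (nat_lit 0) (BT.fix (nat_lit 1) (BT.dif (nat_lit 1) (nat_lit 0) (BT.br (nat_lit 0) (nat_lit 272) [nat_lit 1] (BT.kid (nat_lit 272) (nat_lit 4) (BT.img (nat_lit 1) (nat_lit 0) (BT.img (nat_lit 1) (nat_lit 0) (BT.img (nat_lit 1) (nat_lit 0) (BT.frm (nat_lit 1) (nat_lit 0x103030d02) (nat_lit 0x103030d02) [nat_lit 0, nat_lit 2, nat_lit 3] (BT.pln (nat_lit 0) (nat_lit 5) (BT.frm (nat_lit 2) (nat_lit 0x9040103030d02) (nat_lit 0x9040103030d02) [nat_lit 3, nat_lit 2, nat_lit 4, nat_lit 5] (BT.pln (nat_lit 0) (nat_lit 6) (BT.dif (nat_lit 2) (nat_lit 0) (BT.br (nat_lit 0) (nat_lit 237) [nat_lit 3] (BT.dead (nat_lit 40) (BT.frm (nat_lit 3) (nat_lit 0x1509040103030d02) (nat_lit 0x1209040103030d02) [nat_lit 0, nat_lit 7, nat_lit 6, nat_lit 8, nat_lit 9] (BT.pln (nat_lit 0) (nat_lit 5) (BT.img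 (nat_lit 1) (nat_lit 2) (BT.and (nat_lit 1) (nat_lit 0) (BT.cnt (nat_lit 0)))))) (BT.kid (nat_lit 237) (nat_lit 1) (BT.img (nat_lit 1) (nat_lit 0) (BT.one (nat_lit 4) (nat_lit 0x171509040103030d02) (nat_lit 0x171509040103030d02) [nat_lit 0, nat_lit 1, nat_lit 8, nat_lit 7, nat_lit 9, nat_lit 10])) BT.nil))))))))))) BT.nil))))))))

theorem ht_c40_cnt : Cnt 276 (grp 276 h_K) [g398] [g398] 0 0 0 0 24 :=
  BT.sound ht_c40_cnt_P Known.nil (t := ht_c40_cnt_t) (d := 0) (by decide +kernel)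

theorem ht_c40_ge : 24 ≤ Nat.card (grp 276 ht_c40_K) :=
  Ch.le_card_grp (k := 9) (L := (lab 276 9)) hn ht_c40_K_ok (c := (Ch.cons (nat_lit 272) [nat_lit 1] (Ch.cons (nat_lit 237) [nat_lit 3] Ch.nil))) (by decide +kernel)

theorem ht_c40_eq : (grp 276 h_K) ⊓ Subgroup.centralizer {Net.toPerm 276 g398} = grp 276 ht_c40_K :=
  cent_eq ht_c40_sym ht_c40_cnt ht_c40_ge

theorem ht_c40_card : Nat.card ↥((grp 276 h_K) ⊓ Subgroup.centralizer {Net.toPerm 276 g398}) = 24 :=
  card_cent ht_c40_sym ht_c40_cnt ht_c40_ge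

theorem ht_c40_ord : orderOf (Net.toPerm 276 g398) = 24 :=
  orderOf_net hn hk g398_ok (by decide) (ps := [2, 3]) (by set_option linter.unusedSimpArgs false in simp [Nat.primeFactorsList_ofNat]) (by decide +kernel)

theorem le403 : grp 276 ht_c41_K ≤ grp 276 h_K :=
  grp_le_of_memB hn hk h_K_ok ht_c41_K_ok (ws := [nat_lit 0xf0d090b0507070305080206, nat_lit 0xd090b070d05070704060407, nat_lit 2315]) (by decide +kernel)

theorem ht_c41_le : grp 276 ht_c41_K ≤ (grp 276 h_K) :=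
  (le403.trans TH_s0.le)

theorem ht_c41_mem : Net.toPerm 276 g401 ∈ (grp 276 h_K) :=
  ht_c41_le (toPerm_mem_grp (E := ht_c41_K) (List.Mem.head _))

theorem ht_c41_sym : Sym 276 (grp 276 h_K) [g401] ht_c41_K 0 :=
  Sym.of_lab hn hk (okE_cons.2 ⟨g401_ok, okE_nil _⟩) ht_c41_K_ok ht_c41_le (kT := 0) (by decide +kernel)

theorem le407 : grp 276 V406 ≤ grp 276 V160 :=
  grp_le_of_memB hn hk V160_ok V406_ok (ws := [nat_lit 1284, nat_lit 459777]) (by decide +kernel)

theorem TH_s61 : Stab 276 (grp 276 h_K) [nat_lit 213, nat_lit 231, nat_lit 264, nat_lit 4, nat_lit 272] V406 8 :=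
  Stab.step (k := 9) (L := (lab 276 9)) hn TH_s16 V406_ok le407 (c := (Ch.cons (nat_lit 184) [nat_lit 1] (Ch.cons (nat_lit 224) [nat_lit 3] Ch.nil))) (by decide +kernel)

theorem TH_s62 : Stab 276 (grp 276 h_K) [nat_lit 184, nat_lit 213, nat_lit 231, nat_lit 264, nat_lit 4, nat_lit 272] V408 4 :=
  Stab.step (k := 9) (L := (lab 276 9)) hn TH_s61 V408_ok (grp_mono (List.subset_append_right [g404] _)) (c := (Ch.cons (nat_lit 224) [nat_lit 1] Ch.nil)) (by decide +kernel)

theorem TH_s63 : Stab 276 (grp 276 h_K) [nat_lit 224, nat_lit 184, nat_lit 213, nat_lit 231, nat_lit 264, nat_lit 4, nat_lit 272] V409 1 :=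
  Stab.step (k := 9) (L := (lab 276 9)) hn TH_s62 V409_ok (grp_mono (List.subset_append_right [g405] _)) (c := Ch.nil) (by decide +kernel)

theorem g404_TH : Net.toPerm 276 g404 ∈ (grp 276 h_K) :=
  TH_s61.le (toPerm_mem_grp (E := V406) (List.Mem.head _))

theorem g405_TH : Net.toPerm 276 g405 ∈ (grp 276 h_K) :=
  TH_s61.le (toPerm_mem_grp (E := V406) (List.Mem.tail _ (List.Mem.head _)))

noncomputable def TH_s63_O : ℕ := (nat_lit 0x9993333366666ccccc99999b3333666664ccccd9999b3333266666ccccd9999933332c1f07c1f07c1f07c0f83e0f83e0f83e0f81f07c1f07c1f07c1f03e0f83e0f83e0f83e7319cc63398ce7319cc63398ce7319ce63398c67319ce63398c67319ce63398c6731826d926c93649b24db26d936c9b649b24d926d936c9b64db24d926c93649b64db26d92100000000000000000000000000000000000000000000000000000000000000000000000000000000000000000000000000000000000000000000000000000000000000010001000000000000000000000000000000000000000000000000000000000000000000000000000008000000000000000000000000000000000000000000000000000000000000000000000000200000000000000000000000000000000000000000000000000000000000000000000000000010000000000000000000000000000000000000000000000000000000000100000000000000000000000000000000000000000000000000000000)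

theorem TH_s63_F : Frame 276 (grp 276 h_K) 7 11 TH_s63_O 1 1 :=
  IsBase.frame TH_s63.isBase (by decide +kernel)

noncomputable def TH_s62_O : ℕ := (nat_lit 0x224500000008000200045000000800200220100101080000010000000442000000004dc8a4e556f303f9521ca2477b6c6a7c5381366fc78c6125ffa30dfd02000100010006103a2debc112ddd92722ac9ae765a3005d42c36cd89465d8004d003d3bacbfd01000c0c2bb3fbe82ca613e6bdae48a88891877bd22f0220615a8699bda03fb49c102f7a0000e65468ebe1e5143465602db84173fbc40d4063ed4522aa7d0c65c3deb53ba2f15e02482b287871180cdc5edaf2c3cd6db1d6e3fc38dc009710076aeb733a71c3e58ce18c876b73fd13740429e3e3be6b90f3f41878da123a9ec8326458d164ab49159996a4d4a100000000000000000000000000000000000000000000000000000000000000000000000000000000000000000000000000000000000000000000000000000000000000010001000000000000000000000000000000000000000000000000000000000000000000000000000008000000000000000000000000000000000000000000000000000000000000000000000000200000000000000000000000000000000000000000000000000000000000000000000000000010000000000000000000000000000000000000000000000)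

theorem TH_s62_F : Frame 276 (grp 276 h_K) 6 13 TH_s62_O 0 1 :=
  Stab.frame hn TH_s62 (by decide +kernel)

noncomputable def TH_s61_O : ℕ := (nat_lit 0x2205000000080002000451008008000002201201000000000100000024421000000065c724a6d2f30e29d26c22cc367a725a57c52049ca9ca7647d039de3801848dc0100085a4c1c02cf363fc540d302520ec6b36322908cfe79dd19c273f0bb138e30223f7800410e0c9bf911a80c3e63e4faaa615357058e7a10c0db841c02acf05bdebbda23e17c000861a539380e4a0bbf7c8751096809efcbd0e572e16f293f7b1b51381aeb0b195328608428cdb875cd392e1886c5b600a7b797a7eea26f0a279bb2eb4691f44645c95a2a6100000000000000000000000000000000000000000000000000000000000000000000000000000000000000000000000000000000000000000000000000000000000000010001000000000000000000000000000000000000000000000000000000000000000000000000000008000000000000000000000000000000000000000000000000000000000000000000000000200000000000000000000000000000000000000000000000000000)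

theorem TH_s61_F : Frame 276 (grp 276 h_K) 5 11 TH_s61_O 0 1 :=
  Stab.frame hn TH_s61 (by decide +kernel)

noncomputable def ht_c41_cnt_L : List ℕ := [0, 1, TH_s0_O, 0, 0, 2, 5, TH_s2_O, 0, 0, 3, 10, TH_s15_O, 0, 0, 5, 11, TH_s61_O, 0, 0, 6, 13, TH_s62_O, 0, 0, 7, 11, TH_s63_O, 1, 0]

theorem ht_c41_cnt_P : Prob 276 9 (grp 276 h_K) ht_c41_cnt_EG [g401] [g401] ht_c41_K ht_c41_cnt_L 0 0 :=
  Sym.prob hn hk ht_c41_sym ht_c41_cnt_EG_ok (grp_cons_le g36_TH (grp_cons_le g37_TH (grp_cons_le g38_TH (grp_cons_le g39_TH (grp_cons_le g40_TH (grp_cons_le g41_TH (grp_cons_le g42_TH (grp_cons_le g35_TH (grp_cons_le g156_TH (grp_cons_le g157_TH (grp_cons_le g130_TH (grp_cons_le n_t_TH (grp_cons_le g155_TH (grp_cons_le g404_TH (grp_cons_le g405_TH (grp_nil_le _)))))))))))))))) (Frames.cons TH_s0_F (Frames.cons TH_s2_F (Frames.cons TH_s15_F (Frames.cons TH_s61_F (Frames.cons TH_s62_F (Frames.cons TH_s63_F Frames.nil)))))) (okE_cons.2 ⟨g401_ok, okE_nil _⟩) _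

noncomputable def ht_c41_cnt_t : BT := (BT.frm (nat_lit 0) (nat_lit 0) (nat_lit 0) [] (BT.pln (nat_lit 0) (nat_lit 0) (BT.fix (nat_lit 0x1010101) (BT.and (nat_lit 1) (nat_lit 0) (BT.fix (nat_lit 257) (BT.dif (nat_lit 1) (nat_lit 0) (BT.br (nat_lit 0) (nat_lit 272) [nat_lit 1] (BT.kid (nat_lit 272) (nat_lit 6) (BT.img (nat_lit 1) (nat_lit 0) (BT.img (nat_lit 1) (nat_lit 0) (BT.frm (nat_lit 2) (nat_lit 517) (nat_lit 517) [nat_lit 0, nat_lit 1, nat_lit 2] (BT.pln (nat_lit 0) (nat_lit 9) (BT.and (nat_lit 9) (nat_lit 0) (BT.dif (nat_lit 0) (nat_lit 9) (BT.br (nat_lit 0) (nat_lit 121) [nat_lit 3] (BT.kid (nat_lit 121) (nat_lit 2) (BT.dif (nat_lit 16) (nat_lit 12) (BT.frm (nat_lit 1) (nat_lit 517) (nat_lit 517) [nat_lit 7, nat_lit 8] (BT.pln (nat_lit 0) (nat_lit 2) (BT.dif (nat_lit 2) (nat_lit 0) (BT.img (nat_lit 1) (nat_lit 1) (BT.dif (nat_lit 1) (nat_lit 0) (BT.and (nat_lit 3) (nat_lit 1) (BT.img (nat_lit 1) (nat_lit 0) (BT.img (nat_lit 1) (nat_lit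 0) (BT.dif (nat_lit 3) (nat_lit 0) (BT.dif (nat_lit 20) (nat_lit 17) (BT.dif (nat_lit 0) (nat_lit 20) (BT.dif (nat_lit 0) (nat_lit 18) (BT.dif (nat_lit 0) (nat_lit 18) (BT.frm (nat_lit 3) (nat_lit 517) (nat_lit 517) [nat_lit 14, nat_lit 0, nat_lit 19, nat_lit 20, nat_lit 21] (BT.pln (nat_lit 0) (nat_lit 8) (BT.dif (nat_lit 6) (nat_lit 0) (BT.pln (nat_lit 2) (nat_lit 6) (BT.dif (nat_lit 1) (nat_lit 0) (BT.img (nat_lit 1) (nat_lit 19) (BT.frm (nat_lit 4) (nat_lit 0x1b0205) (nat_lit 0x1b0205) [nat_lit 0, nat_lit 20, nat_lit 6, nat_lit 25, nat_lit 26, nat_lit 27] (BT.pln (nat_lit 0) (nat_lit 11) (BT.dif (nat_lit 3) (nat_lit 0) (BT.br (nat_lit 0) (nat_lit 19) [nat_lit 5] (BT.dead (nat_lit 205) (BT.frm (nat_lit 5) (nat_lit 0x1e1b0205) (nat_lit 0x1b0205) [nat_lit 0, nat_lit 4, nat_lit 24, nat_lit 10, nat_lit 29, nat_lit 30, nat_lit 31] (BT.pln (nat_lit 0) (nat_lit 7) (BT.img (nat_lit 1) (nat_lit 2) (BT.and (nat_lit 1) (nat_lit 0) (BT.cnt (nat_lit 0))))))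 (BT.kid (nat_lit 19) (nat_lit 1) (BT.one (nat_lit 5) (nat_lit 0x1e1b0205) (nat_lit 0x1e1b0205) [nat_lit 0, nat_lit 4, nat_lit 24, nat_lit 10, nat_lit 29, nat_lit 30, nat_lit 31]) BT.nil)))))))))))))))))))))))))) BT.nil)))))))) BT.nil))))))))

theorem ht_c41_cnt : Cnt 276 (grp 276 h_K) [g401] [g401] 0 0 0 0 24 :=
  BT.sound ht_c41_cnt_P Known.nil (t := ht_c41_cnt_t) (d := 0) (by decide +kernel)

theorem ht_c41_ge : 24 ≤ Nat.card (grp 276 ht_c41_K) :=
  Ch.le_card_grp (k := 9) (L := (lab 276 9)) hn ht_c41_K_ok (c := (Ch.cons (nat_lit 272) [nat_lit 1] (Ch.cons (nat_lit 121) [nat_lit 3] (Ch.cons (nat_lit 19) [nat_lit 5] Ch.nil)))) (by decide +kernel)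

theorem ht_c41_eq : (grp 276 h_K) ⊓ Subgroup.centralizer {Net.toPerm 276 g401} = grp 276 ht_c41_K :=
  cent_eq ht_c41_sym ht_c41_cnt ht_c41_ge

theorem ht_c41_card : Nat.card ↥((grp 276 h_K) ⊓ Subgroup.centralizer {Net.toPerm 276 g401}) = 24 :=
  card_cent ht_c41_sym ht_c41_cnt ht_c41_ge

theorem ht_c41_ord : orderOf (Net.toPerm 276 g401) = 24 :=
  orderOf_net hn hk g401_ok (by decide) (ps := [2, 3]) (by set_option linter.unusedSimpArgs false in simp [Nat.primeFactorsList_ofNat]) (by decide +kernel)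

theorem le412 : grp 276 ht_c42_K ≤ grp 276 h_K :=
  grp_le_of_memB hn hk h_K_ok ht_c42_K_ok (ws := [nat_lit 0xf0d0b0709060804050306010406, nat_lit 0xf0d090709050504060101, nat_lit 2315]) (by decide +kernel)

theorem ht_c42_le : grp 276 ht_c42_K ≤ (grp 276 h_K) :=
  (le412.trans TH_s0.le)

theorem ht_c42_mem : Net.toPerm 276 g410 ∈ (grp 276 h_K) :=
  ht_c42_le (toPerm_mem_grp (E := ht_c42_K) (List.Mem.head _))

theorem ht_c42_sym : Sym 276 (grp 276 h_K) [g410] ht_c42_K 0 :=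
  Sym.of_lab hn hk (okE_cons.2 ⟨g410_ok, okE_nil _⟩) ht_c42_K_ok ht_c42_le (kT := 0) (by decide +kernel)

noncomputable def ht_c42_cnt_L : List ℕ := [0, 1, TH_s0_O, 0, 0, 2, 5, TH_s2_O, 0, 0, 4, 21, TH_s16_O, 0, 0, 5, 10, TH_s17_O, 0, 0, 7, 15, TH_s19_O, 0, 0, 8, 12, TH_s20_O, 1, 0]

theorem ht_c42_cnt_P : Prob 276 9 (grp 276 h_K) ht_c42_cnt_EG [g410] [g410] ht_c42_K ht_c42_cnt_L 0 0 :=
  Sym.prob hn hk ht_c42_sym ht_c42_cnt_EG_ok (grp_cons_le g36_TH (grp_cons_le g37_TH (grp_cons_le g38_TH (grp_cons_le g39_TH (grp_cons_le g40_TH (grp_cons_le g41_TH (grp_cons_le g42_TH (grp_cons_le g35_TH (grp_cons_le g155_TH (grp_cons_le g156_TH (grp_cons_le g157_TH (grp_cons_le g130_TH (grp_cons_le n_t_TH (grp_nil_le _)))))))))))))) (Frames.cons TH_s0_F (Frames.cons TH_s2_F (Frames.cons TH_s16_F (Frames.cons TH_s17_F (Frames.cons TH_s19_F (Frames.cons TH_s20_F Frames.nil)))))) (okE_cons.2 ⟨g410_ok, okE_nil _⟩) _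

noncomputable def ht_c42_cnt_t : BT := (BT.frm (nat_lit 0) (nat_lit 0) (nat_lit 0) [] (BT.pln (nat_lit 0) (nat_lit 0) (BT.fix (nat_lit 0x101010101) (BT.and (nat_lit 1) (nat_lit 0) (BT.fix (nat_lit 1) (BT.dif (nat_lit 1) (nat_lit 0) (BT.br (nat_lit 0) (nat_lit 265) [nat_lit 1] (BT.kid (nat_lit 265) (nat_lit 6) (BT.img (nat_lit 1) (nat_lit 0) (BT.img (nat_lit 1) (nat_lit 0) (BT.frm (nat_lit 2) (nat_lit 0x111306020b101003) (nat_lit 0x111306020b101003) [nat_lit 0, nat_lit 1, nat_lit 2, nat_lit 4] (BT.pln (nat_lit 0) (nat_lit 16) (BT.and (nat_lit 9) (nat_lit 0) (BT.br (nat_lit 0) (nat_lit 213) [nat_lit 3] (BT.kid (nat_lit 213) (nat_lit 2) (BT.frm (nat_lit 1) (nat_lit 0x20b101003) (nat_lit 0x20b101003) [nat_lit 6, nat_lit 8] (BT.pln (nat_lit 0) (nat_lit 2) (BT.img (nat_lit 1) (nat_lit 0) (BT.img (nat_lit 1) (nat_lit 7) (BT.frm (nat_lit 3) (nat_lit 0x13111306020b101003) (nat_lit 0x13111306020b101003) [nat_lit 0, nat_lit 8, nat_lit 9, nat_lit 10, nat_lit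 12] (BT.pln (nat_lit 0) (nat_lit 7) (BT.dif (nat_lit 3) (nat_lit 0) (BT.pln (nat_lit 2) (nat_lit 5) (BT.dif (nat_lit 1) (nat_lit 0) (BT.img (nat_lit 1) (nat_lit 9) (BT.img (nat_lit 1) (nat_lit 0) (BT.img (nat_lit 1) (nat_lit 0) (BT.img (nat_lit 1) (nat_lit 0) (BT.and (nat_lit 24) (nat_lit 0) (BT.img (nat_lit 1) (nat_lit 0) (BT.and (nat_lit 26) (nat_lit 0) (BT.frm (nat_lit 4) (nat_lit 0x171613111306020b101003) (nat_lit 0x171613111306020b101003) [nat_lit 0, nat_lit 16, nat_lit 12, nat_lit 20, nat_lit 21, nat_lit 22, nat_lit 24] (BT.pln (nat_lit 0) (nat_lit 7) (BT.dif (nat_lit 9) (nat_lit 0) (BT.br (nat_lit 0) (nat_lit 160) [nat_lit 5] (BT.kid (nat_lit 160) (nat_lit 1) (BT.one (nat_lit 5) (nat_lit 0x171613111306020b101003) (nat_lit 0x171613111306020b101003) [nat_lit 0, nat_lit 4, nat_lit 20, nat_lit 16, nat_lit 24, nat_lit 25, nat_lit 26, nat_lit 28]) BT.nil))))))))))))))))))))) BT.nil))))))) BT.nil))))))))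

theorem ht_c42_cnt : Cnt 276 (grp 276 h_K) [g410] [g410] 0 0 0 0 30 :=
  BT.sound ht_c42_cnt_P Known.nil (t := ht_c42_cnt_t) (d := 0) (by decide +kernel)

theorem ht_c42_ge : 30 ≤ Nat.card (grp 276 ht_c42_K) :=
  Ch.le_card_grp (k := 9) (L := (lab 276 9)) hn ht_c42_K_ok (c := (Ch.cons (nat_lit 265) [nat_lit 1] (Ch.cons (nat_lit 213) [nat_lit 3] (Ch.cons (nat_lit 160) [nat_lit 5] Ch.nil)))) (by decide +kernel)

theorem ht_c42_eq : (grp 276 h_K) ⊓ Subgroup.centralizer {Net.toPerm 276 g410} = grp 276 ht_c42_K :=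
  cent_eq ht_c42_sym ht_c42_cnt ht_c42_ge

theorem ht_c42_card : Nat.card ↥((grp 276 h_K) ⊓ Subgroup.centralizer {Net.toPerm 276 g410}) = 30 :=
  card_cent ht_c42_sym ht_c42_cnt ht_c42_ge

theorem ht_c42_ord : orderOf (Net.toPerm 276 g410) = 30 :=
  orderOf_net hn hk g410_ok (by decide) (ps := [2, 3, 5]) (by set_option linter.unusedSimpArgs false in simp [Nat.primeFactorsList_ofNat]) (by decide +kernel)

noncomputable def ht_xs : List Net := [Net.nil, n_t, n_u, n_v, g148, g165, g184, g190, g200, g208, g224, g231, g239, g250, g257, g269, g281, g290, g297, g303, g311, g317, g327, g336, g342, g347, g351, g354, g357, g361, g364, g371, g378, g381, g384, g387, g362, g392, g394, g396, g398, g401, g410]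

noncomputable def ht_cs : List ℕ := [2903040, 2903040, 4608, 384, 4320, 1296, 216, 23040, 1536, 768, 768, 128, 60, 4320, 1296, 216, 144, 144, 144, 36, 12, 14, 192, 192, 32, 32, 32, 16, 18, 60, 144, 48, 36, 24, 24, 14, 30, 18, 20, 20, 24, 24, 30]

noncomputable def ht_os : List ℕ := [1, 2, 2, 2, 3, 3, 3, 4, 4, 4, 4, 4, 5, 6, 6, 6, 6, 6, 6, 6, 6, 7, 8, 8, 8, 8, 8, 8, 9, 10, 12, 12, 12, 12, 12, 14, 15, 18, 20, 20, 24, 24, 30]

theorem ht_reps : Reps 276 (grp 276 h_K) ht_xs ht_cs ht_os :=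
  (Reps.cons rfl (one_mem _) (card_cent_nil h_card2) orderOf_one (Reps.cons n_t_ok ht_c1_mem ht_c1_card ht_c1_ord (Reps.cons n_u_ok ht_c2_mem ht_c2_card ht_c2_ord (Reps.cons n_v_ok ht_c3_mem ht_c3_card ht_c3_ord (Reps.cons g148_ok ht_c4_mem ht_c4_card ht_c4_ord (Reps.cons g165_ok ht_c5_mem ht_c5_card ht_c5_ord (Reps.cons g184_ok ht_c6_mem ht_c6_card ht_c6_ord (Reps.cons g190_ok ht_c7_mem ht_c7_card ht_c7_ord (Reps.cons g200_ok ht_c8_mem ht_c8_card ht_c8_ord (Reps.cons g208_ok ht_c9_mem ht_c9_card ht_c9_ord (Reps.cons g224_ok ht_c10_mem ht_c10_card ht_c10_ord (Reps.cons g231_ok ht_c11_mem ht_c11_card ht_c11_ord (Reps.cons g239_ok ht_c12_mem ht_c12_card ht_c12_ord (Reps.cons g250_ok ht_c13_mem ht_c13_card ht_c13_ord (Reps.cons g257_ok ht_c14_mem ht_c14_card ht_c14_ord (Reps.cons g269_ok ht_c15_mem ht_c15_card ht_c15_ord (Reps.cons g281_ok ht_c16_mem ht_c16_card ht_c16_ord (Reps.cons g290_ok ht_c17_mem ht_c17_card ht_c17_ord (Reps.cons g297_ok ht_c18_mem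 ht_c18_card ht_c18_ord (Reps.cons g303_ok ht_c19_mem ht_c19_card ht_c19_ord (Reps.cons g311_ok ht_c20_mem ht_c20_card ht_c20_ord (Reps.cons g317_ok ht_c21_mem ht_c21_card ht_c21_ord (Reps.cons g327_ok ht_c22_mem ht_c22_card ht_c22_ord (Reps.cons g336_ok ht_c23_mem ht_c23_card ht_c23_ord (Reps.cons g342_ok ht_c24_mem ht_c24_card ht_c24_ord (Reps.cons g347_ok ht_c25_mem ht_c25_card ht_c25_ord (Reps.cons g351_ok ht_c26_mem ht_c26_card ht_c26_ord (Reps.cons g354_ok ht_c27_mem ht_c27_card ht_c27_ord (Reps.cons g357_ok ht_c28_mem ht_c28_card ht_c28_ord (Reps.cons g361_ok ht_c29_mem ht_c29_card ht_c29_ord (Reps.cons g364_ok ht_c30_mem ht_c30_card ht_c30_ord (Reps.cons g371_ok ht_c31_mem ht_c31_card ht_c31_ord (Reps.cons g378_ok ht_c32_mem ht_c32_card ht_c32_ord (Reps.cons g381_ok ht_c33_mem ht_c33_card ht_c33_ord (Reps.cons g384_ok ht_c34_mem ht_c34_card ht_c34_ord (Reps.cons g387_ok ht_c35_mem ht_c35_card ht_c35_ord (Reps.cons g362_ok ht_c36_mem ht_c36_card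 ht_c36_ord (Reps.cons g392_ok ht_c37_mem ht_c37_card ht_c37_ord (Reps.cons g394_ok ht_c38_mem ht_c38_card ht_c38_ord (Reps.cons g396_ok ht_c39_mem ht_c39_card ht_c39_ord (Reps.cons g398_ok ht_c40_mem ht_c40_card ht_c40_ord (Reps.cons g401_ok ht_c41_mem ht_c41_card ht_c41_ord (Reps.cons g410_ok ht_c42_mem ht_c42_card ht_c42_ord Reps.nil)))))))))))))))))))))))))))))))))))))))))))

noncomputable def ht_nc18_17_cnt_L : List ℕ := [0, 1, TH_s0_O, 0, 0]

theorem ht_nc18_17_cnt_P : Prob 276 9 (grp 276 h_K) ht_nc18_17_cnt_EG [g297] [g290] ht_c17_K ht_nc18_17_cnt_L 0 0 :=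
  Sym.prob hn hk ht_c17_sym ht_nc18_17_cnt_EG_ok (grp_nil_le _) (Frames.cons TH_s0_F Frames.nil) (okE_cons.2 ⟨g297_ok, okE_nil _⟩) _

noncomputable def ht_nc18_17_cnt_t : BT := (BT.frm (nat_lit 0) (nat_lit 0) (nat_lit 0) [] (BT.pln (nat_lit 0) (nat_lit 0) (BT.fix (nat_lit 257) (BT.and (nat_lit 1) (nat_lit 0) (BT.cnt (nat_lit 0))))))

theorem ht_nc18_17_cnt : Cnt 276 (grp 276 h_K) [g297] [g290] 0 0 0 0 0 :=
  BT.sound ht_nc18_17_cnt_P Known.nil (t := ht_nc18_17_cnt_t) (d := 0) (by decide +kernel)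

theorem ht_nc18_17 : ¬ CjIn (grp 276 h_K) (Net.toPerm 276 g297) (Net.toPerm 276 g290) :=
  not_cjIn ht_nc18_17_cnt

noncomputable def ht_nc26_25_cnt_L : List ℕ := [0, 1, TH_s0_O, 0, 0]

theorem ht_nc26_25_cnt_P : Prob 276 9 (grp 276 h_K) ht_nc26_25_cnt_EG [g351] [g347] ht_c25_K ht_nc26_25_cnt_L 0 0 :=
  Sym.prob hn hk ht_c25_sym ht_nc26_25_cnt_EG_ok (grp_nil_le _) (Frames.cons TH_s0_F Frames.nil) (okE_cons.2 ⟨g351_ok, okE_nil _⟩) _

noncomputable def ht_nc26_25_cnt_t : BT := (BT.frm (nat_lit 0) (nat_lit 0) (nat_lit 0) [] (BT.pln (nat_lit 0) (nat_lit 0) (BT.fix (nat_lit 257) (BT.and (nat_lit 1) (nat_lit 0) (BT.cnt (nat_lit 0))))))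

theorem ht_nc26_25_cnt : Cnt 276 (grp 276 h_K) [g351] [g347] 0 0 0 0 0 :=
  BT.sound ht_nc26_25_cnt_P Known.nil (t := ht_nc26_25_cnt_t) (d := 0) (by decide +kernel)

theorem ht_nc26_25 : ¬ CjIn (grp 276 h_K) (Net.toPerm 276 g351) (Net.toPerm 276 g347) :=
  not_cjIn ht_nc26_25_cnt

noncomputable def ht_nc39_38_cnt_L : List ℕ := [0, 1, TH_s0_O, 0, 0, 2, 5, TH_s2_O, 0, 0, 3, 15, TH_s3_O, 0, 0, 4, 10, TH_s4_O, 0, 0, 5, 12, TH_s13_O, 0, 0, 7, 11, TH_s51_O, 1, 0]

theorem ht_nc39_38_cnt_P : Prob 276 9 (grp 276 h_K) ht_nc39_38_cnt_EG [g396] [g394] ht_c38_K ht_nc39_38_cnt_L 0 0 :=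
  Sym.prob hn hk ht_c38_sym ht_nc39_38_cnt_EG_ok (grp_cons_le g36_TH (grp_cons_le g37_TH (grp_cons_le g38_TH (grp_cons_le g39_TH (grp_cons_le g40_TH (grp_cons_le g41_TH (grp_cons_le g42_TH (grp_cons_le g35_TH (grp_cons_le n_t_TH (grp_cons_le g144_TH (grp_nil_le _))))))))))) (Frames.cons TH_s0_F (Frames.cons TH_s2_F (Frames.cons TH_s3_F (Frames.cons TH_s4_F (Frames.cons TH_s13_F (Frames.cons TH_s51_F Frames.nil)))))) (okE_cons.2 ⟨g396_ok, okE_nil _⟩) _

noncomputable def ht_nc39_38_cnt_t : BT := (BT.frm (nat_lit 0) (nat_lit 0) (nat_lit 0) [] (BT.pln (nat_lit 0) (nat_lit 0) (BT.fix (nat_lit 0x101010101) (BT.dif (nat_lit 1) (nat_lit 0) (BT.br (nat_lit 0) (nat_lit 272) [nat_lit 1] (BT.dead (nat_lit 272) (BT.fix (nat_lit 1) (BT.frm (nat_lit 1) (nat_lit 0x2040f07) (nat_lit 0x2040f07) [nat_lit 1, nat_lit 0] (BT.pln (nat_lit 0) (nat_lit 2) (BT.img (nat_lit 1) (nat_lit 0) (BT.and (nat_lit 1) (nat_lit 0) (BT.img (nat_lit 1) (nat_lit 0) (BT.img (nat_lit 1)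 (nat_lit 6) (BT.img (nat_lit 1) (nat_lit 0) (BT.img (nat_lit 1) (nat_lit 0) (BT.frm (nat_lit 2) (nat_lit 0x3030302040f07) (nat_lit 0x3030302040f07) [nat_lit 0, nat_lit 9, nat_lit 8] (BT.pln (nat_lit 0) (nat_lit 3) (BT.dif (nat_lit 5) (nat_lit 0) (BT.img (nat_lit 1) (nat_lit 3) (BT.and (nat_lit 16) (nat_lit 0) (BT.img (nat_lit 1) (nat_lit 0) (BT.and (nat_lit 18) (nat_lit 0) (BT.img (nat_lit 1) (nat_lit 0) (BT.and (nat_lit 20) (nat_lit 0) (BT.frm (nat_lit 3) (nat_lit 0x50b03030302040f07) (nat_lit 0x50b03030302040f07) [nat_lit 0, nat_lit 9, nat_lit 18, nat_lit 17] (BT.pln (nat_lit 0) (nat_lit 5) (BT.dif (nat_lit 8) (nat_lit 0) (BT.br (nat_lit 0) (nat_lit 110) [nat_lit 3] (BT.dead (nat_lit 110) (BT.pln (nat_lit 12) (nat_lit 12) (BT.and (nat_lit 26) (nat_lit 0) (BT.and (nat_lit 0) (nat_lit 26) (BT.and (nat_lit 28) (nat_lit 27) (BT.pln (nat_lit 24) (nat_lit 4) (BT.and (nat_lit 1) (nat_lit 0) (BT.img (nat_lit 1) (nat_lit 0) (BT.dif (nat_lit 4) (nat_lit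 0) (BT.img (nat_lit 1) (nat_lit 12) (BT.and (nat_lit 34) (nat_lit 0) (BT.frm (nat_lit 4) (nat_lit 0x70b050b03030302040f07) (nat_lit 0x70b050b03030302040f07) [nat_lit 0, nat_lit 14, nat_lit 23, nat_lit 32, nat_lit 31] (BT.pln (nat_lit 0) (nat_lit 5) (BT.and (nat_lit 4) (nat_lit 0) (BT.frm (nat_lit 5) (nat_lit 0x11070b050b03030302040f07) (nat_lit 0x11070b050b03030302040f07) [nat_lit 13, nat_lit 0, nat_lit 3, nat_lit 17, nat_lit 26, nat_lit 35, nat_lit 34] (BT.pln (nat_lit 0) (nat_lit 7) (BT.img (nat_lit 1) (nat_lit 15) (BT.and (nat_lit 1) (nat_lit 0) (BT.cnt (nat_lit 0))))))))))))))))))) BT.nil))))))))))))))))))))))) (BT.dead (nat_lit 269) (BT.fix (nat_lit 1) (BT.frm (nat_lit 1) (nat_lit 0x2040f07) (nat_lit 0x203010d0f07) [nat_lit 1, nat_lit 0] (BT.pln (nat_lit 0) (nat_lit 3) (BT.img (nat_lit 1) (nat_lit 3) (BT.and (nat_lit 1) (nat_lit 0) (BT.cnt (nat_lit 0))))))) BT.nil)))))))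

theorem ht_nc39_38_cnt : Cnt 276 (grp 276 h_K) [g396] [g394] 0 0 0 0 0 :=
  BT.sound ht_nc39_38_cnt_P Known.nil (t := ht_nc39_38_cnt_t) (d := 0) (by decide +kernel)

theorem ht_nc39_38 : ¬ CjIn (grp 276 h_K) (Net.toPerm 276 g396) (Net.toPerm 276 g394) :=
  not_cjIn ht_nc39_38_cnt

theorem ht_exc : Exc 276 (grp 276 h_K) ht_xs [39038, 26025, 18017] :=
  (Exc.cons 39 38 (by decide) ht_nc39_38 (Exc.cons 26 25 (by decide) ht_nc26_25 (Exc.cons 18 17 (by decide) ht_nc18_17 Exc.nil)))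

theorem ht : Table 276 (grp 276 h_K) ht_xs ht_cs ht_os :=
  Reps.table (D := 2) hn hk ht_reps ht_exc h_card2 (by decide +kernel)

theorem t_card2 : Nat.card (grp 276 ht_c2_K) = 4608 :=
  ht_c2_eq ▸ ht_c2_card

theorem TT_s0 : Stab 276 (grp 276 ht_c2_K) [] ht_c2_K 4608 :=
  Stab.root ht_c2_K_ok t_card2

theorem le418 : grp 276 tt_c1_K ≤ grp 276 ht_c2_K :=
  grp_le_of_memB hn hk ht_c2_K_ok tt_c1_K_ok (ws := [nat_lit 0xb09070503010104, nat_lit 0xb090705030602, nat_lit 0x705050305010105, nat_lit 0x6010501, nat_lit 0xb04020302, nat_lit 0xb010101]) (by decide +kernel)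

theorem tt_c1_le : grp 276 tt_c1_K ≤ (grp 276 ht_c2_K) :=
  (le418.trans TT_s0.le)

theorem tt_c1_mem : Net.toPerm 276 n_t ∈ (grp 276 ht_c2_K) :=
  tt_c1_le (mem_grp_of_memB hn hk tt_c1_K_ok n_t_ok (w := (nat_lit 0xb09010702)) (by decide +kernel))

theorem tt_c1_sym : Sym 276 (grp 276 ht_c2_K) [n_t] tt_c1_K 0 :=
  Sym.of_lab hn hk (okE_cons.2 ⟨n_t_ok, okE_nil _⟩) tt_c1_K_ok tt_c1_le (kT := 0) (by decide +kernel)

theorem le422 : grp 276 V421 ≤ grp 276 ht_c2_K :=
  grp_le_of_memB hn hk ht_c2_K_ok V421_ok (ws := [nat_lit 0xb090705030602, nat_lit 0xb030107, nat_lit 0xb04010301, nat_lit 0xb04020302, nat_lit 0xb010101]) (by decide +kernel)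

theorem TT_s1 : Stab 276 (grp 276 ht_c2_K) [nat_lit 176] V421 192 :=
  Stab.step (k := 9) (L := (lab 276 9)) hn TT_s0 V421_ok le422 (c := (Ch.cons (nat_lit 185) [nat_lit 1] (Ch.cons (nat_lit 32) [nat_lit 3] (Ch.cons (nat_lit 84) [nat_lit 5] (Ch.cons (nat_lit 257) [nat_lit 7] (Ch.cons (nat_lit 0) [nat_lit 9] Ch.nil)))))) (by decide +kernel)

theorem TT_s2 : Stab 276 (grp 276 ht_c2_K) [nat_lit 185, nat_lit 176] V423 32 :=
  Stab.step (k := 9) (L := (lab 276 9)) hn TT_s1 V423_ok (grp_mono (List.subset_append_right [g414] _)) (c := (Ch.cons (nat_lit 32) [nat_lit 1] (Ch.cons (nat_lit 84) [nat_lit 3] (Ch.cons (nat_lit 257) [nat_lit 5] (Ch.cons (nat_lit 0) [nat_lit 7] Ch.nil))))) (by decide +kernel)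

theorem TT_s3 : Stab 276 (grp 276 ht_c2_K) [nat_lit 32, nat_lit 185, nat_lit 176] V424 8 :=
  Stab.step (k := 9) (L := (lab 276 9)) hn TT_s2 V424_ok (grp_mono (List.subset_append_right [g419] _)) (c := (Ch.cons (nat_lit 84) [nat_lit 1] (Ch.cons (nat_lit 257) [nat_lit 3] (Ch.cons (nat_lit 0) [nat_lit 5] Ch.nil)))) (by decide +kernel)

theorem TT_s4 : Stab 276 (grp 276 ht_c2_K) [nat_lit 84, nat_lit 32, nat_lit 185, nat_lit 176] V425 4 :=
  Stab.step (k := 9) (L := (lab 276 9)) hn TT_s3 V425_ok (grp_mono (List.subset_append_right [g420] _)) (c := (Ch.cons (nat_lit 257) [nat_lit 1] (Ch.cons (nat_lit 0) [nat_lit 3] Ch.nil))) (by decide +kernel)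

theorem TT_s5 : Stab 276 (grp 276 ht_c2_K) [nat_lit 257, nat_lit 84, nat_lit 32, nat_lit 185, nat_lit 176] V426 2 :=
  Stab.step (k := 9) (L := (lab 276 9)) hn TT_s4 V426_ok (grp_mono (List.subset_append_right [g417] _)) (c := (Ch.cons (nat_lit 0) [nat_lit 1] Ch.nil)) (by decide +kernel)

theorem TT_s6 : Stab 276 (grp 276 ht_c2_K) [nat_lit 0, nat_lit 257, nat_lit 84, nat_lit 32, nat_lit 185, nat_lit 176] V427 1 :=
  Stab.step (k := 9) (L := (lab 276 9)) hn TT_s5 V427_ok (grp_mono (List.subset_append_right [n_u] _)) (c := Ch.nil) (by decide +kernel)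

theorem g124_TT : Net.toPerm 276 g124 ∈ (grp 276 ht_c2_K) :=
  TT_s0.le (toPerm_mem_grp (E := ht_c2_K) (List.Mem.head _))

theorem g125_TT : Net.toPerm 276 g125 ∈ (grp 276 ht_c2_K) :=
  TT_s0.le (toPerm_mem_grp (E := ht_c2_K) (List.Mem.tail _ (List.Mem.head _)))

theorem g126_TT : Net.toPerm 276 g126 ∈ (grp 276 ht_c2_K) :=
  TT_s0.le (toPerm_mem_grp (E := ht_c2_K) (List.Mem.tail _ (List.Mem.tail _ (List.Mem.head _))))

theorem g127_TT : Net.toPerm 276 g127 ∈ (grp 276 ht_c2_K) :=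
  TT_s0.le (toPerm_mem_grp (E := ht_c2_K) (List.Mem.tail _ (List.Mem.tail _ (List.Mem.tail _ (List.Mem.head _)))))

theorem n_k3_TT : Net.toPerm 276 n_k3 ∈ (grp 276 ht_c2_K) :=
  TT_s0.le (toPerm_mem_grp (E := ht_c2_K) (List.Mem.tail _ (List.Mem.tail _ (List.Mem.tail _ (List.Mem.tail _ (List.Mem.head _))))))

theorem n_t_TT : Net.toPerm 276 n_t ∈ (grp 276 ht_c2_K) :=
  TT_s0.le (toPerm_mem_grp (E := ht_c2_K) (List.Mem.tail _ (List.Mem.tail _ (List.Mem.tail _ (List.Mem.tail _ (List.Mem.tail _ (List.Mem.head _)))))))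

theorem g414_TT : Net.toPerm 276 g414 ∈ (grp 276 ht_c2_K) :=
  TT_s1.le (toPerm_mem_grp (E := V421) (List.Mem.head _))

theorem g419_TT : Net.toPerm 276 g419 ∈ (grp 276 ht_c2_K) :=
  TT_s1.le (toPerm_mem_grp (E := V421) (List.Mem.tail _ (List.Mem.head _)))

theorem g420_TT : Net.toPerm 276 g420 ∈ (grp 276 ht_c2_K) :=
  TT_s1.le (toPerm_mem_grp (E := V421) (List.Mem.tail _ (List.Mem.tail _ (List.Mem.head _))))

theorem g417_TT : Net.toPerm 276 g417 ∈ (grp 276 ht_c2_K) :=
  TT_s1.le (toPerm_mem_grp (E := V421) (List.Mem.tail _ (List.Mem.tail _ (List.Mem.tail _ (List.Mem.head _)))))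

theorem n_u_TT : Net.toPerm 276 n_u ∈ (grp 276 ht_c2_K) :=
  TT_s1.le (toPerm_mem_grp (E := V421) (List.Mem.tail _ (List.Mem.tail _ (List.Mem.tail _ (List.Mem.tail _ (List.Mem.head _))))))

noncomputable def TT_s6_O : ℕ := (nat_lit 0x9993333366666ccccc99999b3333666664ccccd9999b3333266666ccccd9999933332c1f07c1f07c1f07c0f83e0f83e0f83e0f81f07c1f07c1f07c1f03e0f83e0f83e0f83e7319cc63398ce7319cc63398ce7319ce63398c67319ce63398c67319ce63398c6731826d926c93649b24db26d936c9b649b24d926d936c9b64db24d926c93649b64db26d92000000000000000000000000100000000000000000000000000000000000000000000000000000000000000000020000000000000000000000000000000000000000000000000000000000000000000000000000000000000000000000000000000000100000000000000000000000000000000000000000000000000000001000000000000000000000000020000000000000000000000000000000000000000000000000000000000000000000000000000000000000000000000000000000000000000000000000000000000001)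

theorem TT_s6_F : Frame 276 (grp 276 ht_c2_K) 6 10 TT_s6_O 1 1 :=
  IsBase.frame TT_s6.isBase (by decide +kernel)

noncomputable def TT_s5_O : ℕ := (nat_lit 0x10004001000801832011050000808420200000011000c000100000000000000000000cffc8fcc2f274e549f40925f0a72734e17ffdfdce93e396cc08021000050080001002ca9d1bd22ff11e6c9bea885c8e4b2bcd0d00000004c1061227fffdf9fff8080001002be7c4507b89fe5ee5c4c4081051d508308bfcefc868100102feffd820056ebffc100241638a92c0c4a229e6b5e75f2fc29082d2bbc9204d3e229227fc217de054ebc03fe02b0b6d7adacf3f259233980cec4043fe3e2fa37e141310be22f83e1781e44e43c3c1e0da1680704e5af31d370adfd12f2d7e3e1235b618550c8b9c24f33a6399968b333299828d7cf08d249cead4d189c9ac9d12d9ab4ad749678ab4c5aa2da9557553442aaab554000000000000000000000000100000000000000000000000000000000000000000000000000000000000000000020000000000000000000000000000000000000000000000000000000000000000000000000000000000000000000000000000000000100000000000000000000000000000000000000000000000000000001000000000000000000000000020000000000000000000000000000000000000000000000000000000000000000)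

theorem TT_s5_F : Frame 276 (grp 276 ht_c2_K) 5 13 TT_s5_O 0 1 :=
  Stab.frame hn TT_s5 (by decide +kernel)

noncomputable def TT_s3_O : ℕ := (nat_lit 0x60010000018120110400008084202000000100004001108021000010080000002773c9010b6fe904ad36041c1833f724818528b0cd6d8b43469711ccb8e6c43bec1000d26320c14d7cea0316a9ab4626394245df474d1c19ff84b614c3fcdc616e80013fe00519f9ceda0280fd20a5fd9c5c7e911e5f414b0d05c0af9dd4672580147c247613d1e034420da6e689634281aa9b15a9d6723a2874f4fdb4859ca8d9a6878825f2ea1d3399838d71a91c2f6239e8400d31ccc534dfa9a657a3f0d4ed93a777131d7d608e10a2a556000000000000000000000000100000000000000000000000000000000000000000000000000000000000000000020000000000000000000000000000000000000000000000000000000000000000000000000000000000000000000000000000000000100000000)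

theorem TT_s3_F : Frame 276 (grp 276 ht_c2_K) 3 9 TT_s3_O 0 1 :=
  Stab.frame hn TT_s3 (by decide +kernel)

noncomputable def TT_s2_O : ℕ := (nat_lit 0x100000000000000000000000000000000000000000000000000000000000000000000000000000000000000000000000001000000000000000000001000000000000002000001000000000000000000000080000000000000000000000000000000100000000000000000000000000000000000000000080200000001000000004000000000000000020000400228000000000000000000040000080000000000000000220000000008000100000000000000000020100001000000000000000040000000000000000000000080001000000000000000000001000040010000010000100800000000000400000080000200004000000800000000000100000000000000000400000010000000200000000101000000000080042020000000000000000000000000000000000020002009000020208000080040000000000040210000000002000000280000002200002000000002800000800808000002000800000000000000800102000001020009100008000080009000000000030020040000001003000002008080000000000000000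0030000141000000000000000401008000012002000200000000000100001020021000001000000424a000404000820001a1001000001084c004011000402080002480420000880048100000020001001000000440521c090000000880a01100e401000400000140804000000008005404000c040000001040000a41080c01400062000100d4000804400042008400342400128040000020800000805440040022004000080044200100080000600c000000000000000000000000100000000000000000000000000000000000000000000000000000000000000000020000000000000000000000000000000000000000000000)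

theorem TT_s2_F : Frame 276 (grp 276 ht_c2_K) 2 19 TT_s2_O 0 1 :=
  Stab.frame hn TT_s2 (by decide +kernel)

noncomputable def TT_s1_O : ℕ := (nat_lit 0x100000000000000000000000000010000000000010020000000000000000000000000008020000000100000000100040000008000220000500000080000000000010008000000000000040000001000000020000000018100100000008004202000000100004001000001000010080000002600000000280000082080840022a0008000000000000008401020800010200091000002341000000080001000401008000012002201200010000000100001020421000001088420ff6e9036a4c0082b20fa14018054514f6d224251808e024c202b480c20226b8c000000000000000000000000100000000000000000000000000000000000000000000)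

theorem TT_s1_F : Frame 276 (grp 276 ht_c2_K) 1 8 TT_s1_O 0 1 :=
  Stab.frame hn TT_s1 (by decide +kernel)

noncomputable def TT_s0_O : ℕ := (nat_lit 0x100040000008000220000500000080000000000010008000000000000040000001000600000000280000082080840022a00080000000000000084010208000102000910000023410000000800010004010080000120022012000100000001000010204210000010000020010000018100110020108004202000000100004001108021000010180000002)

theorem TT_s0_F : Frame 276 (grp 276 ht_c2_K) 0 4 TT_s0_O 0 1 :=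
  Stab.frame hn TT_s0 (by decide +kernel)

noncomputable def tt_c1_cnt_L : List ℕ := [0, 4, TT_s0_O, 0, 0, 1, 8, TT_s1_O, 0, 0, 2, 19, TT_s2_O, 0, 0, 3, 9, TT_s3_O, 0, 0, 5, 13, TT_s5_O, 0, 0, 6, 10, TT_s6_O, 1, 0]

theorem tt_c1_cnt_P : Prob 276 9 (grp 276 ht_c2_K) tt_c1_cnt_EG [n_t] [n_t] tt_c1_K tt_c1_cnt_L 0 0 :=
  Sym.prob hn hk tt_c1_sym tt_c1_cnt_EG_ok (grp_cons_le g124_TT (grp_cons_le g125_TT (grp_cons_le g126_TT (grp_cons_le g127_TT (grp_cons_le n_k3_TT (grp_cons_le n_t_TT (grp_cons_le g414_TT (grp_cons_le g419_TT (grp_cons_le g420_TT (grp_cons_le g417_TT (grp_cons_le n_u_TT (grp_nil_le _)))))))))))) (Frames.cons TT_s0_F (Frames.cons TT_s1_F (Frames.cons TT_s2_F (Frames.cons TT_s3_F (Frames.cons TT_s5_F (Frames.cons TT_s6_F Frames.nil)))))) (okE_cons.2 ⟨n_t_ok, okE_nil _⟩) _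

noncomputable def tt_c1_cnt_t : BT := (BT.frm (nat_lit 0) (nat_lit 0) (nat_lit 0) [] (BT.pln (nat_lit 0) (nat_lit 0) (BT.br (nat_lit 0) (nat_lit 176) [nat_lit 1, nat_lit 3] (BT.kid (nat_lit 176) (nat_lit 192) (BT.frm (nat_lit 1) (nat_lit 0) (nat_lit 0) [nat_lit 0] (BT.pln (nat_lit 0) (nat_lit 6) (BT.and (nat_lit 3) (nat_lit 0) (BT.br (nat_lit 0) (nat_lit 185) [nat_lit 3, nat_lit 5] (BT.kid (nat_lit 185) (nat_lit 32) (BT.frm (nat_lit 2) (nat_lit 0) (nat_lit 0) [nat_lit 0, nat_lit 4] (BT.pln (nat_lit 0) (nat_lit 15) (BT.and (nat_lit 4) (nat_lit 0) (BT.br (nat_lit 0) (nat_lit 32) [nat_lit 5] (BT.kid (nat_lit 32) (nat_lit 8) (BT.dif (nat_lit 9) (nat_lit 6) (BT.pln (nat_lit 4) (nat_lit 12) (BT.and (nat_lit 1) (nat_lit 0) (BT.frm (nat_lit 3) (nat_lit 0) (nat_lit 0) [nat_lit 3, nat_lit 7, nat_lit 11] (BT.pln (nat_lit 0) (nat_lit 3) (BT.dif (nat_lit 2) (nat_lit 0) (BT.pln (nat_lit 2) (nat_lit 4) (BT.dif (nat_lit 1) (nat_lit 0) (BT.br (nat_lit 0) (nat_lit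 84) [nat_lit 7] (BT.kid (nat_lit 84) (nat_lit 4) (BT.dif (nat_lit 18) (nat_lit 4) (BT.pln (nat_lit 6) (nat_lit 6) (BT.and (nat_lit 1) (nat_lit 0) (BT.dif (nat_lit 0) (nat_lit 18) (BT.br (nat_lit 0) (nat_lit 257) [nat_lit 9] (BT.kid (nat_lit 257) (nat_lit 2) (BT.dif (nat_lit 27) (nat_lit 9) (BT.dif (nat_lit 0) (nat_lit 8) (BT.pln (nat_lit 12) (nat_lit 5) (BT.dif (nat_lit 1) (nat_lit 0) (BT.dif (nat_lit 0) (nat_lit 7) (BT.pln (nat_lit 15) (nat_lit 7) (BT.dif (nat_lit 1) (nat_lit 0) (BT.pln (nat_lit 31) (nat_lit 3) (BT.dif (nat_lit 1) (nat_lit 0) (BT.dif (nat_lit 0) (nat_lit 32) (BT.frm (nat_lit 4) (nat_lit 0) (nat_lit 0) [nat_lit 10, nat_lit 15, nat_lit 24, nat_lit 28, nat_lit 32] (BT.pln (nat_lit 0) (nat_lit 8) (BT.dif (nat_lit 2) (nat_lit 0) (BT.br (nat_lit 0) (nat_lit 0) [nat_lit 11] (BT.kid (nat_lit 0) (nat_lit 1) (BT.one (nat_lit 5) (nat_lit 0) (nat_lit 0) [nat_lit 0, nat_lit 14, nat_lit 19, nat_lit 28, nat_lit 32, nat_lit 36]) BT.nil)))))))))))))))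 BT.nil)))))) BT.nil)))))))))) BT.nil))))) BT.nil))))) BT.nil))))

theorem tt_c1_cnt : Cnt 276 (grp 276 ht_c2_K) [n_t] [n_t] 0 0 0 0 4608 :=
  BT.sound tt_c1_cnt_P Known.nil (t := tt_c1_cnt_t) (d := 0) (by decide +kernel)

theorem tt_c1_ge : 4608 ≤ Nat.card (grp 276 tt_c1_K) :=
  Ch.le_card_grp (k := 9) (L := (lab 276 9)) hn tt_c1_K_ok (c := (Ch.cons (nat_lit 176) [nat_lit 1] (Ch.cons (nat_lit 185) [nat_lit 3] (Ch.cons (nat_lit 32) [nat_lit 5] (Ch.cons (nat_lit 84) [nat_lit 7] (Ch.cons (nat_lit 257) [nat_lit 9] (Ch.cons (nat_lit 0) [nat_lit 11] Ch.nil))))))) (by decide +kernel)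

theorem tt_c1_eq : (grp 276 ht_c2_K) ⊓ Subgroup.centralizer {Net.toPerm 276 n_t} = grp 276 tt_c1_K :=
  cent_eq tt_c1_sym tt_c1_cnt tt_c1_ge

theorem tt_c1_card : Nat.card ↥((grp 276 ht_c2_K) ⊓ Subgroup.centralizer {Net.toPerm 276 n_t}) = 4608 :=
  card_cent tt_c1_sym tt_c1_cnt tt_c1_ge

theorem tt_c1_ord : orderOf (Net.toPerm 276 n_t) = 2 :=
  orderOf_net hn hk n_t_ok (by decide) (ps := [2]) (by set_option linter.unusedSimpArgs false in simp [Nat.primeFactorsList_ofNat]) (by decide +kernel)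

theorem le433 : grp 276 tt_c2_K ≤ grp 276 ht_c2_K :=
  grp_le_of_memB hn hk ht_c2_K_ok tt_c2_K_ok (ws := [nat_lit 0xb090603010501, nat_lit 0x60305010301, nat_lit 0x90505010507, nat_lit 0xb09010101, nat_lit 2311, nat_lit 11]) (by decide +kernel)

theorem tt_c2_le : grp 276 tt_c2_K ≤ (grp 276 ht_c2_K) :=
  (le433.trans TT_s0.le)

theorem tt_c2_mem : Net.toPerm 276 n_u ∈ (grp 276 ht_c2_K) :=
  tt_c2_le (mem_grp_of_memB hn hk tt_c2_K_ok n_u_ok (w := (nat_lit 0xb09010702)) (by decide +kernel))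

theorem tt_c2_sym : Sym 276 (grp 276 ht_c2_K) [n_u] tt_c2_K 0 :=
  Sym.of_lab hn hk (okE_cons.2 ⟨n_u_ok, okE_nil _⟩) tt_c2_K_ok tt_c2_le (kT := 0) (by decide +kernel)

theorem TT_s7 : Stab 276 (grp 276 ht_c2_K) [nat_lit 33] V434 192 :=
  Stab.step (k := 9) (L := (lab 276 9)) hn TT_s0 V434_ok (grp_mono (List.subset_append_right [g124] _)) (c := (Ch.cons (nat_lit 175) [nat_lit 1] (Ch.cons (nat_lit 137) [nat_lit 3] (Ch.cons (nat_lit 265) [nat_lit 5] (Ch.cons (nat_lit 194) [nat_lit 7] (Ch.cons (nat_lit 237) [nat_lit 9] Ch.nil)))))) (by decide +kernel)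

theorem TT_s8 : Stab 276 (grp 276 ht_c2_K) [nat_lit 175, nat_lit 33] V435 32 :=
  Stab.step (k := 9) (L := (lab 276 9)) hn TT_s7 V435_ok (grp_mono (List.subset_append_right [g125] _)) (c := (Ch.cons (nat_lit 137) [nat_lit 1] (Ch.cons (nat_lit 265) [nat_lit 3] (Ch.cons (nat_lit 194) [nat_lit 5] (Ch.cons (nat_lit 237) [nat_lit 7] Ch.nil))))) (by decide +kernel)

theorem TT_s9 : Stab 276 (grp 276 ht_c2_K) [nat_lit 137, nat_lit 175, nat_lit 33] V436 8 :=
  Stab.step (k := 9) (L := (lab 276 9)) hn TT_s8 V436_ok (grp_mono (List.subset_append_right [g126] _)) (c := (Ch.cons (nat_lit 265) [nat_lit 1] (Ch.cons (nat_lit 194) [nat_lit 3] (Ch.cons (nat_lit 237) [nat_lit 5] Ch.nil)))) (by decide +kernel)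

theorem TT_s10 : Stab 276 (grp 276 ht_c2_K) [nat_lit 265, nat_lit 137, nat_lit 175, nat_lit 33] V437 4 :=
  Stab.step (k := 9) (L := (lab 276 9)) hn TT_s9 V437_ok (grp_mono (List.subset_append_right [g127] _)) (c := (Ch.cons (nat_lit 194) [nat_lit 1] (Ch.cons (nat_lit 237) [nat_lit 3] Ch.nil))) (by decide +kernel)

theorem TT_s11 : Stab 276 (grp 276 ht_c2_K) [nat_lit 194, nat_lit 265, nat_lit 137, nat_lit 175, nat_lit 33] V438 2 :=
  Stab.step (k := 9) (L := (lab 276 9)) hn TT_s10 V438_ok (grp_mono (List.subset_append_right [n_k3] _)) (c := (Ch.cons (nat_lit 237) [nat_lit 1] Ch.nil)) (by decide +kernel)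

theorem TT_s12 : Stab 276 (grp 276 ht_c2_K) [nat_lit 237, nat_lit 194, nat_lit 265, nat_lit 137, nat_lit 175, nat_lit 33] V439 1 :=
  Stab.step (k := 9) (L := (lab 276 9)) hn TT_s11 V439_ok (grp_mono (List.subset_append_right [n_t] _)) (c := Ch.nil) (by decide +kernel)

noncomputable def TT_s12_O : ℕ := (nat_lit 0x9993333366666ccccc99999b3333666664ccccd9999b3333266666ccccd9999933332c1f07c1f07c1f07c0f83e0f83e0f83e0f81f07c1f07c1f07c1f03e0f83e0f83e0f83e7319cc63398ce7319cc63398ce7319ce63398c67319ce63398c67319ce63398c6731826d926c93649b24db26d936c9b649b24d926d936c9b64db24d926c93649b64db26d92000000000000000000000000000000000000000000000000000000000000200000000000000000000000000000000080000000000000000000000000000000000000000000000000000000000000000000000000000020000000000000000000000000000000000002000000000000000000000000000000000000000000000000000000000000000000000000000000000000004000000000000000000000000000000000000000000000000000000000200000000000000000000000000000000000000000000000000000000000)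

theorem TT_s12_F : Frame 276 (grp 276 ht_c2_K) 6 10 TT_s12_O 1 1 :=
  IsBase.frame TT_s12.isBase (by decide +kernel)

noncomputable def TT_s11_O : ℕ := (nat_lit 0x121450000008800230000510000080120002012010108000000000000000000000000cdc1a6f4de7347f98f61b2eb23e75ba82f913a5eefee4d5e001000010244010001010c84aa4af66e70349c77d3a6cf3ca396d7804040100012021fff7cffff74401000101036d4f6f3d4ee6e0d007e80079414420455d9361eec010221fdf7f0010affdbfd81010c9880b149091a8b67a17b7763349a040459136d103ce70a1ff183df90adddf027fa1097d3862dd564a072b61312ed441f7916c697450f83e12fc1e0fc1d87cae984f2785e0f44644a5fb17eb3ac098178a760e127a15c0fcec732c3e3998db3e67308c51ce6618caf44b3238513af61aa9c945171aa0e7567162a2b4aba1b9556ba8b54aeb748a955d4a000000000000000000000000000000000000000000000000000000000000200000000000000000000000000000000080000000000000000000000000000000000000000000000000000000000000000000000000000020000000000000000000000000000000000002000000000000000000000000000000000000000000000000000000000000000000000000000000000000004000000000000000000000000000000000000000000000000)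

theorem TT_s11_F : Frame 276 (grp 276 ht_c2_K) 5 13 TT_s11_O 0 1 :=
  Stab.frame hn TT_s11 (by decide +kernel)

noncomputable def TT_s10_O : ℕ := (nat_lit 0x121440000008800230000510000080120002012010108000000000000004000000010498ab6db5cf60689ce61c0e843ab53c472950651ccef4d2ecbf5897fc240010001000eac0b4f47672e71d036e52c6979160a92ac91410ad680f02b412728136fa9bfd8100044813b03a0e263b59b67687912ea30372c1301eb231770e41dbcbf8137d89f027fa00805cd471fd802c10fc05f8348456615794804a548d262ab82fb956f93fed45f2795f0e50396966f87024ad7e637d8f647d9490a52c1dc80c537681d5ce6673e0590ce6619ca215a3d1271e274b15fb79a540e82ff8381608725c0d16f72adf0ad5b9b789a954d4a000000000000000000000000000000000000000000000000000000000000200000000000000000000000000000000080000000000000000000000000000000000000000000000000000000000000000000000000000020000000000000000000000000000000000002000000000000000000000000000000000000000000000000000000000000000000)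

theorem TT_s10_F : Frame 276 (grp 276 ht_c2_K) 4 11 TT_s10_O 0 1 :=
  Stab.frame hn TT_s10 (by decide +kernel)

noncomputable def TT_s9_O : ℕ := (nat_lit 0x23450000000800030004410000080120002012000100000001000010204010000010d94220eb381c649f4b0311ecd7b930846a8004413deecf2ef8e0fba670e892f0010007196ad96fefc00abc20c2bdb42ea529b24cd1033d2a8ec8e054a8f26b542040ff9a107e29224503882c939b07a37213ee221da85e5f8d5d13f05495bc3d898cc9d00ee75e03a2914c6cb8de45ed48c8b88e507794b1642c664bd4495e88f43d0fc0fcf064d1d18cf38a13c01be0654edb9af9d5026b2e2e1a950b026cf38f9d232f08ba8bb38ba950d5a000000000000000000000000000000000000000000000000000000000000200000000000000000000000000000000080000000000000000000000000000000000000000000000000000000000000000000000000000020000000000000000000000000000000000)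

theorem TT_s9_F : Frame 276 (grp 276 ht_c2_K) 3 9 TT_s9_O 0 1 :=
  Stab.frame hn TT_s9 (by decide +kernel)

noncomputable def TT_s8_O : ℕ := (nat_lit 0x10000000000000000000000000000000000000000000000000000000000000000000000000000000000002000000000000000000000000000000000040000000000020000400000080000000000000000000000000000000000000000000000000000000000000000000000120020000000000000000000000000000000010003400000000800000000000000000000002000000000000001000010004000000000000000010000000000010020100000000000000000000000108020000000100000000020010000000000010004000000000000000010000100000000000000200010000000000000000000000000080800000000000000000000000080000200000102000110000100000000008000200000100000000000000000010008000000000000040000001000600000000280000082000040022a000800000000000000040100080000000008000000000000400000000000402008400000100400040000400200c004000040000440000004000400c00008000000000000004000840000888000000000000000000044000a0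20000020000000018100100000008004202000000100004001000001000010080000002898201001060001000001005010000000081040201a00a00a0001002002800a00080000410068000024000902000000142004480040040c02104040200080408080100408000080200211000000000a0000040028000140a0040090012000c0208b801000040540000000800801400c440000822001014002089000204025080000046000000202a0004000000000000000000000000000000000000000000000000000000000000200000000000000000000000000000000080000000000000000000000000000000000000000000)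

theorem TT_s8_F : Frame 276 (grp 276 ht_c2_K) 2 19 TT_s8_O 0 1 :=
  Stab.frame hn TT_s8 (by decide +kernel)

noncomputable def TT_s7_O : ℕ := (nat_lit 0x2000000000000000000000000000000000000000000000000000010080000120020000000000000000000000000000000010100040000008000220000500000080000000000010008000000000000040000001000023410000000800010004000000000000002010000100000001000010204010000000600000000280000082080840022a000800000000000000840102080001020009100000000200100000181001100201080042020000001000040011080210000101800000028d820584d861481c44041287a501414186c994caa1e42f28ac005462042846e6aa824000000000000000000000000000000000000000000000000000000000000200000000)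

theorem TT_s7_F : Frame 276 (grp 276 ht_c2_K) 1 8 TT_s7_O 0 1 :=
  Stab.frame hn TT_s7 (by decide +kernel)

noncomputable def tt_c2_cnt_L : List ℕ := [0, 4, TT_s0_O, 0, 0, 1, 8, TT_s7_O, 0, 0, 2, 19, TT_s8_O, 0, 0, 3, 9, TT_s9_O, 0, 0, 4, 11, TT_s10_O, 0, 0, 5, 13, TT_s11_O, 0, 0, 6, 10, TT_s12_O, 1, 0]

theorem tt_c2_cnt_P : Prob 276 9 (grp 276 ht_c2_K) tt_c2_cnt_EG [n_u] [n_u] tt_c2_K tt_c2_cnt_L 0 0 :=
  Sym.prob hn hk tt_c2_sym tt_c2_cnt_EG_ok (grp_cons_le g124_TT (grp_cons_le g125_TT (grp_cons_le g126_TT (grp_cons_le g127_TT (grp_cons_le n_k3_TT (grp_cons_le n_t_TT (grp_nil_le _))))))) (Frames.cons TT_s0_F (Frames.cons TT_s7_F (Frames.cons TT_s8_F (Frames.cons TT_s9_F (Frames.cons TT_s10_F (Frames.cons TT_s11_F (Frames.cons TT_s12_F Frames.nil))))))) (okE_cons.2 ⟨n_u_ok, okE_nil _⟩) _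

noncomputable def tt_c2_cnt_t : BT := (BT.frm (nat_lit 0) (nat_lit 0) (nat_lit 0) [] (BT.pln (nat_lit 0) (nat_lit 1) (BT.br (nat_lit 0) (nat_lit 256) [nat_lit 1, nat_lit 5] (BT.kid (nat_lit 256) (nat_lit 192) (BT.frm (nat_lit 1) (nat_lit 65796) (nat_lit 65796) [nat_lit 0] (BT.pln (nat_lit 0) (nat_lit 6) (BT.and (nat_lit 3) (nat_lit 0) (BT.br (nat_lit 0) (nat_lit 262) [nat_lit 3, nat_lit 5] (BT.kid (nat_lit 262) (nat_lit 32) (BT.frm (nat_lit 2) (nat_lit 0x3010104) (nat_lit 0x3010104) [nat_lit 0, nat_lit 4] (BT.pln (nat_lit 0) (nat_lit 15) (BT.and (nat_lit 4) (nat_lit 0) (BT.br (nat_lit 0) (nat_lit 28) [nat_lit 5] (BT.kid (nat_lit 28) (nat_lit 8) (BT.dif (nat_lit 9) (nat_lit 6) (BT.pln (nat_lit 4) (nat_lit 14) (BT.and (nat_lit 1) (nat_lit 0) (BT.frm (nat_lit 3) (nat_lit 0x50503010104) (nat_lit 0x50503010104) [nat_lit 3, nat_lit 7, nat_lit 11] (BT.pln (nat_lit 0) (nat_lit 4) (BT.and (nat_lit 2) (nat_lit 0) (BT.pln (nat_lit 2) (nat_lit 5) (BT.and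 (nat_lit 1) (nat_lit 0) (BT.br (nat_lit 0) (nat_lit 152) [nat_lit 7] (BT.kid (nat_lit 152) (nat_lit 4) (BT.dif (nat_lit 18) (nat_lit 4) (BT.pln (nat_lit 6) (nat_lit 3) (BT.and (nat_lit 1) (nat_lit 0) (BT.dif (nat_lit 0) (nat_lit 5) (BT.dif (nat_lit 0) (nat_lit 19) (BT.br (nat_lit 0) (nat_lit 265) [nat_lit 9] (BT.kid (nat_lit 265) (nat_lit 2) (BT.pln (nat_lit 25) (nat_lit 2) (BT.and (nat_lit 0) (nat_lit 11) (BT.and (nat_lit 0) (nat_lit 10) (BT.frm (nat_lit 4) (nat_lit 0x7050503010104) (nat_lit 0x7050503010104) [nat_lit 9, nat_lit 18, nat_lit 22, nat_lit 26] (BT.pln (nat_lit 0) (nat_lit 4) (BT.and (nat_lit 2) (nat_lit 0) (BT.frm (nat_lit 5) (nat_lit 0x7050503010104) (nat_lit 0x7050503010104) [nat_lit 6, nat_lit 12, nat_lit 21, nat_lit 25, nat_lit 29] (BT.pln (nat_lit 0) (nat_lit 5) (BT.dif (nat_lit 2) (nat_lit 0) (BT.br (nat_lit 0) (nat_lit 211) [nat_lit 11] (BT.kid (nat_lit 211) (nat_lit 1) (BT.one (nat_lit 6) (nat_lit 0xb07050503010104) (nat_lit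 0xb07050503010104) [nat_lit 0, nat_lit 10, nat_lit 16, nat_lit 25, nat_lit 29, nat_lit 33]) BT.nil))))))))))) BT.nil))))))) BT.nil)))))))))) BT.nil))))) BT.nil))))) BT.nil))))

theorem tt_c2_cnt : Cnt 276 (grp 276 ht_c2_K) [n_u] [n_u] 0 0 0 0 4608 :=
  BT.sound tt_c2_cnt_P Known.nil (t := tt_c2_cnt_t) (d := 0) (by decide +kernel)

theorem tt_c2_ge : 4608 ≤ Nat.card (grp 276 tt_c2_K) :=
  Ch.le_card_grp (k := 9) (L := (lab 276 9)) hn tt_c2_K_ok (c := (Ch.cons (nat_lit 256) [nat_lit 1] (Ch.cons (nat_lit 262) [nat_lit 3] (Ch.cons (nat_lit 28) [nat_lit 5] (Ch.cons (nat_lit 152) [nat_lit 7] (Ch.cons (nat_lit 265) [nat_lit 9] (Ch.cons (nat_lit 211) [nat_lit 11] Ch.nil))))))) (by decide +kernel)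

theorem tt_c2_eq : (grp 276 ht_c2_K) ⊓ Subgroup.centralizer {Net.toPerm 276 n_u} = grp 276 tt_c2_K :=
  cent_eq tt_c2_sym tt_c2_cnt tt_c2_ge

theorem tt_c2_card : Nat.card ↥((grp 276 ht_c2_K) ⊓ Subgroup.centralizer {Net.toPerm 276 n_u}) = 4608 :=
  card_cent tt_c2_sym tt_c2_cnt tt_c2_ge

theorem tt_c2_ord : orderOf (Net.toPerm 276 n_u) = 2 :=
  orderOf_net hn hk n_u_ok (by decide) (ps := [2]) (by set_option linter.unusedSimpArgs false in simp [Nat.primeFactorsList_ofNat]) (by decide +kernel)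

theorem le443 : grp 276 tt_c3_K ≤ grp 276 ht_c2_K :=
  grp_le_of_memB hn hk ht_c2_K_ok tt_c3_K_ok (ws := [nat_lit 66567, nat_lit 0x90504020302, nat_lit 0x903060205, nat_lit 0x6010501, nat_lit 0xb04020302, nat_lit 0xb010101]) (by decide +kernel)

theorem tt_c3_le : grp 276 tt_c3_K ≤ (grp 276 ht_c2_K) :=
  (le443.trans TT_s0.le)

theorem tt_c3_mem : Net.toPerm 276 n_tu ∈ (grp 276 ht_c2_K) :=
  tt_c3_le (mem_grp_of_memB hn hk tt_c3_K_ok n_tu_ok (w := (nat_lit 0xb09010702)) (by decide +kernel))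

theorem tt_c3_sym : Sym 276 (grp 276 ht_c2_K) [n_tu] tt_c3_K 0 :=
  Sym.of_lab hn hk (okE_cons.2 ⟨n_tu_ok, okE_nil _⟩) tt_c3_K_ok tt_c3_le (kT := 0) (by decide +kernel)

noncomputable def tt_c3_cnt_L : List ℕ := [0, 4, TT_s0_O, 0, 0, 1, 8, TT_s1_O, 0, 0, 2, 19, TT_s2_O, 0, 0, 3, 9, TT_s3_O, 0, 0, 5, 13, TT_s5_O, 0, 0, 6, 10, TT_s6_O, 1, 0]

theorem tt_c3_cnt_P : Prob 276 9 (grp 276 ht_c2_K) tt_c3_cnt_EG [n_tu] [n_tu] tt_c3_K tt_c3_cnt_L 0 0 :=
  Sym.prob hn hk tt_c3_sym tt_c3_cnt_EG_ok (grp_cons_le g124_TT (grp_cons_le g125_TT (grp_cons_le g126_TT (grp_cons_le g127_TT (grp_cons_le n_k3_TT (grp_cons_le n_t_TT (grp_cons_le g414_TT (grp_cons_le g419_TT (grp_cons_le g420_TT (grp_cons_le g417_TT (grp_cons_le n_u_TT (grp_nil_le _)))))))))))) (Frames.cons TT_s0_F (Frames.cons TT_s1_F (Frames.cons TT_s2_F (Frames.cons TT_s3_F (Frames.cons TT_s5_F (Frames.cons TT_s6_F Frames.nil)))))) (okE_cons.2 ⟨n_tu_ok, okE_nil _⟩) _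

noncomputable def tt_c3_cnt_t : BT := (BT.frm (nat_lit 0) (nat_lit 0) (nat_lit 0) [] (BT.pln (nat_lit 0) (nat_lit 0) (BT.br (nat_lit 0) (nat_lit 176) [nat_lit 1, nat_lit 5] (BT.kid (nat_lit 176) (nat_lit 192) (BT.frm (nat_lit 1) (nat_lit 0) (nat_lit 0) [nat_lit 0] (BT.pln (nat_lit 0) (nat_lit 6) (BT.and (nat_lit 3) (nat_lit 0) (BT.br (nat_lit 0) (nat_lit 185) [nat_lit 3, nat_lit 5] (BT.kid (nat_lit 185) (nat_lit 32) (BT.frm (nat_lit 2) (nat_lit 0) (nat_lit 0) [nat_lit 0, nat_lit 4] (BT.pln (nat_lit 0) (nat_lit 15) (BT.and (nat_lit 4) (nat_lit 0) (BT.br (nat_lit 0) (nat_lit 32) [nat_lit 5] (BT.kid (nat_lit 32) (nat_lit 8) (BT.dif (nat_lit 9) (nat_lit 6) (BT.pln (nat_lit 4) (nat_lit 12) (BT.and (nat_lit 1) (nat_lit 0) (BT.frm (nat_lit 3) (nat_lit 0) (nat_lit 0) [nat_lit 3, nat_lit 7, nat_lit 11] (BT.pln (nat_lit 0) (nat_lit 3) (BT.dif (nat_lit 2) (nat_lit 0) (BT.pln (nat_lit 2) (nat_lit 4) (BT.dif (nat_lit 1) (nat_lit 0) (BT.br (nat_lit 0) (nat_lit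 84) [nat_lit 7] (BT.kid (nat_lit 84) (nat_lit 4) (BT.dif (nat_lit 18) (nat_lit 4) (BT.pln (nat_lit 6) (nat_lit 6) (BT.and (nat_lit 1) (nat_lit 0) (BT.dif (nat_lit 0) (nat_lit 18) (BT.br (nat_lit 0) (nat_lit 257) [nat_lit 9] (BT.kid (nat_lit 257) (nat_lit 2) (BT.dif (nat_lit 27) (nat_lit 9) (BT.dif (nat_lit 0) (nat_lit 8) (BT.pln (nat_lit 12) (nat_lit 5) (BT.dif (nat_lit 1) (nat_lit 0) (BT.dif (nat_lit 0) (nat_lit 7) (BT.pln (nat_lit 15) (nat_lit 7) (BT.dif (nat_lit 1) (nat_lit 0) (BT.pln (nat_lit 31) (nat_lit 3) (BT.dif (nat_lit 1) (nat_lit 0) (BT.dif (nat_lit 0) (nat_lit 32) (BT.frm (nat_lit 4) (nat_lit 0) (nat_lit 0) [nat_lit 10, nat_lit 15, nat_lit 24, nat_lit 28, nat_lit 32] (BT.pln (nat_lit 0) (nat_lit 8) (BT.dif (nat_lit 2) (nat_lit 0) (BT.br (nat_lit 0) (nat_lit 0) [nat_lit 11] (BT.kid (nat_lit 0) (nat_lit 1) (BT.one (nat_lit 5) (nat_lit 0) (nat_lit 0) [nat_lit 0, nat_lit 14, nat_lit 19, nat_lit 28, nat_lit 32, nat_lit 36]) BT.nil)))))))))))))))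 BT.nil)))))) BT.nil)))))))))) BT.nil))))) BT.nil))))) BT.nil))))

theorem tt_c3_cnt : Cnt 276 (grp 276 ht_c2_K) [n_tu] [n_tu] 0 0 0 0 4608 :=
  BT.sound tt_c3_cnt_P Known.nil (t := tt_c3_cnt_t) (d := 0) (by decide +kernel)

theorem tt_c3_ge : 4608 ≤ Nat.card (grp 276 tt_c3_K) :=
  Ch.le_card_grp (k := 9) (L := (lab 276 9)) hn tt_c3_K_ok (c := (Ch.cons (nat_lit 176) [nat_lit 1] (Ch.cons (nat_lit 185) [nat_lit 3] (Ch.cons (nat_lit 32) [nat_lit 5] (Ch.cons (nat_lit 84) [nat_lit 7] (Ch.cons (nat_lit 257) [nat_lit 9] (Ch.cons (nat_lit 0) [nat_lit 11] Ch.nil))))))) (by decide +kernel)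

theorem tt_c3_eq : (grp 276 ht_c2_K) ⊓ Subgroup.centralizer {Net.toPerm 276 n_tu} = grp 276 tt_c3_K :=
  cent_eq tt_c3_sym tt_c3_cnt tt_c3_ge

theorem tt_c3_card : Nat.card ↥((grp 276 ht_c2_K) ⊓ Subgroup.centralizer {Net.toPerm 276 n_tu}) = 4608 :=
  card_cent tt_c3_sym tt_c3_cnt tt_c3_ge

theorem tt_c3_ord : orderOf (Net.toPerm 276 n_tu) = 2 :=
  orderOf_net hn hk n_tu_ok (by decide) (ps := [2]) (by set_option linter.unusedSimpArgs false in simp [Nat.primeFactorsList_ofNat]) (by decide +kernel)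

theorem le448 : grp 276 tt_c4_K ≤ grp 276 ht_c2_K :=
  grp_le_of_memB hn hk ht_c2_K_ok tt_c4_K_ok (ws := [nat_lit 0xb0907060305, nat_lit 0x9060305, nat_lit 0xb09070505010101, nat_lit 0x6020502, nat_lit 0xb010101]) (by decide +kernel)

theorem tt_c4_le : grp 276 tt_c4_K ≤ (grp 276 ht_c2_K) :=
  (le448.trans TT_s0.le)

theorem tt_c4_mem : Net.toPerm 276 n_w ∈ (grp 276 ht_c2_K) :=
  tt_c4_le (mem_grp_of_memB hn hk tt_c4_K_ok n_w_ok (w := (nat_lit 590595)) (by decide +kernel))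

theorem tt_c4_sym : Sym 276 (grp 276 ht_c2_K) [n_w] tt_c4_K 0 :=
  Sym.of_lab hn hk (okE_cons.2 ⟨n_w_ok, okE_nil _⟩) tt_c4_K_ok tt_c4_le (kT := 0) (by decide +kernel)

noncomputable def tt_c4_cnt_L : List ℕ := [0, 4, TT_s0_O, 0, 0, 1, 8, TT_s1_O, 0, 0, 2, 19, TT_s2_O, 0, 0, 3, 9, TT_s3_O, 0, 0, 5, 13, TT_s5_O, 0, 0, 6, 10, TT_s6_O, 1, 0]

theorem tt_c4_cnt_P : Prob 276 9 (grp 276 ht_c2_K) tt_c4_cnt_EG [n_w] [n_w] tt_c4_K tt_c4_cnt_L 0 0 :=
  Sym.prob hn hk tt_c4_sym tt_c4_cnt_EG_ok (grp_cons_le g124_TT (grp_cons_le g125_TT (grp_cons_le g126_TT (grp_cons_le g127_TT (grp_cons_le n_k3_TT (grp_cons_le n_t_TT (grp_cons_le g414_TT (grp_cons_le g419_TT (grp_cons_le g420_TT (grp_cons_le g417_TT (grp_cons_le n_u_TT (grp_nil_le _)))))))))))) (Frames.cons TT_s0_F (Frames.cons TT_s1_F (Frames.cons TT_s2_F (Frames.cons TT_s3_F (Frames.cons TT_s5_F (Frames.cons TT_s6_F Frames.nil)))))) (okE_cons.2 ⟨n_w_ok, okE_nil _⟩) _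

noncomputable def tt_c4_cnt_t : BT := (BT.frm (nat_lit 0) (nat_lit 0) (nat_lit 0) [] (BT.pln (nat_lit 0) (nat_lit 0) (BT.fix (nat_lit 1) (BT.and (nat_lit 1) (nat_lit 0) (BT.br (nat_lit 0) (nat_lit 220) [nat_lit 1] (BT.kid (nat_lit 220) (nat_lit 32) (BT.frm (nat_lit 1) (nat_lit 261) (nat_lit 261) [nat_lit 0] (BT.pln (nat_lit 0) (nat_lit 6) (BT.and (nat_lit 5) (nat_lit 0) (BT.dif (nat_lit 0) (nat_lit 5) (BT.br (nat_lit 0) (nat_lit 84) [nat_lit 3] (BT.kid (nat_lit 84) (nat_lit 8) (BT.dif (nat_lit 3) (nat_lit 7) (BT.frm (nat_lit 2) (nat_lit 917765) (nat_lit 917765) [nat_lit 1, nat_lit 6] (BT.pln (nat_lit 0) (nat_lit 15) (BT.and (nat_lit 2) (nat_lit 0) (BT.br (nat_lit 0) (nat_lit 40) [nat_lit 5] (BT.kid (nat_lit 40) (nat_lit 4) (BT.dif (nat_lit 13) (nat_lit 8) (BT.pln (nat_lit 4) (nat_lit 12) (BT.and (nat_lit 1) (nat_lit 0) (BT.frm (nat_lit 3) (nat_lit 917765) (nat_lit 917765) [nat_lit 3, nat_lit 8, nat_lit 13] (BT.pln (nat_lit 0) (nat_lit 3) (BT.dif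 (nat_lit 2) (nat_lit 0) (BT.pln (nat_lit 2) (nat_lit 4) (BT.dif (nat_lit 1) (nat_lit 0) (BT.br (nat_lit 0) (nat_lit 212) [nat_lit 7] (BT.kid (nat_lit 212) (nat_lit 2) (BT.dif (nat_lit 22) (nat_lit 4) (BT.pln (nat_lit 6) (nat_lit 6) (BT.and (nat_lit 1) (nat_lit 0) (BT.dif (nat_lit 0) (nat_lit 20) (BT.br (nat_lit 0) (nat_lit 65) [] (BT.dead (nat_lit 32) (BT.frm (nat_lit 4) (nat_lit 0x13110e0105) (nat_lit 0x110e0105) [nat_lit 0, nat_lit 5, nat_lit 14, nat_lit 19, nat_lit 24] (BT.pln (nat_lit 0) (nat_lit 5) (BT.and (nat_lit 0) (nat_lit 28) (BT.cnt (nat_lit 0))))) (BT.kid (nat_lit 65) (nat_lit 2) (BT.dif (nat_lit 31) (nat_lit 9) (BT.dif (nat_lit 0) (nat_lit 8) (BT.pln (nat_lit 12) (nat_lit 5) (BT.dif (nat_lit 1) (nat_lit 0) (BT.dif (nat_lit 0) (nat_lit 7) (BT.pln (nat_lit 15) (nat_lit 7) (BT.dif (nat_lit 1) (nat_lit 0) (BT.pln (nat_lit 35) (nat_lit 3) (BT.dif (nat_lit 1) (nat_lit 0) (BT.dif (nat_lit 0) (nat_lit 36) (BT.frm (nat_lit 4) (nat_lit 0x13110e0105)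 (nat_lit 0x13110e0105) [nat_lit 10, nat_lit 15, nat_lit 24, nat_lit 29, nat_lit 34] (BT.pln (nat_lit 0) (nat_lit 8) (BT.dif (nat_lit 2) (nat_lit 0) (BT.br (nat_lit 0) (nat_lit 85) [nat_lit 9] (BT.kid (nat_lit 85) (nat_lit 1) (BT.one (nat_lit 5) (nat_lit 0x13110e0105) (nat_lit 0x13110e0105) [nat_lit 0, nat_lit 14, nat_lit 19, nat_lit 28, nat_lit 33, nat_lit 38]) BT.nil))))))))))))))) BT.nil))))))) BT.nil)))))))))) BT.nil)))))) BT.nil)))))) BT.nil))))))

theorem tt_c4_cnt : Cnt 276 (grp 276 ht_c2_K) [n_w] [n_w] 0 0 0 0 128 :=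
  BT.sound tt_c4_cnt_P Known.nil (t := tt_c4_cnt_t) (d := 0) (by decide +kernel)

theorem tt_c4_ge : 128 ≤ Nat.card (grp 276 tt_c4_K) :=
  Ch.le_card_grp (k := 9) (L := (lab 276 9)) hn tt_c4_K_ok (c := (Ch.cons (nat_lit 220) [nat_lit 1] (Ch.cons (nat_lit 84) [nat_lit 3] (Ch.cons (nat_lit 40) [nat_lit 5] (Ch.cons (nat_lit 212) [nat_lit 7] (Ch.cons (nat_lit 85) [nat_lit 9] Ch.nil)))))) (by decide +kernel)

theorem tt_c4_eq : (grp 276 ht_c2_K) ⊓ Subgroup.centralizer {Net.toPerm 276 n_w} = grp 276 tt_c4_K :=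
  cent_eq tt_c4_sym tt_c4_cnt tt_c4_ge

theorem tt_c4_card : Nat.card ↥((grp 276 ht_c2_K) ⊓ Subgroup.centralizer {Net.toPerm 276 n_w}) = 128 :=
  card_cent tt_c4_sym tt_c4_cnt tt_c4_ge

theorem tt_c4_ord : orderOf (Net.toPerm 276 n_w) = 2 :=
  orderOf_net hn hk n_w_ok (by decide) (ps := [2]) (by set_option linter.unusedSimpArgs false in simp [Nat.primeFactorsList_ofNat]) (by decide +kernel)

theorem le453 : grp 276 tt_c5_K ≤ grp 276 ht_c2_K :=
  grp_le_of_memB hn hk ht_c2_K_ok tt_c5_K_ok (ws := [nat_lit 0xb050504010401, nat_lit 0xb07050504010401, nat_lit 0x9050303010501, nat_lit 0xb03020402, nat_lit 0xb010101]) (by decide +kernel)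

theorem tt_c5_le : grp 276 tt_c5_K ≤ (grp 276 ht_c2_K) :=
  (le453.trans TT_s0.le)

theorem tt_c5_mem : Net.toPerm 276 g449 ∈ (grp 276 ht_c2_K) :=
  tt_c5_le (toPerm_mem_grp (E := tt_c5_K) (List.Mem.tail _ (List.Mem.head _)))

theorem tt_c5_sym : Sym 276 (grp 276 ht_c2_K) [g449] tt_c5_K 0 :=
  Sym.of_lab hn hk (okE_cons.2 ⟨g449_ok, okE_nil _⟩) tt_c5_K_ok tt_c5_le (kT := 0) (by decide +kernel)

noncomputable def tt_c5_cnt_L : List ℕ := [0, 4, TT_s0_O, 0, 0, 1, 8, TT_s1_O, 0, 0, 2, 19, TT_s2_O, 0, 0, 3, 9, TT_s3_O, 0, 0, 5, 13, TT_s5_O, 0, 0, 6, 10, TT_s6_O, 1, 0]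

theorem tt_c5_cnt_P : Prob 276 9 (grp 276 ht_c2_K) tt_c5_cnt_EG [g449] [g449] tt_c5_K tt_c5_cnt_L 0 0 :=
  Sym.prob hn hk tt_c5_sym tt_c5_cnt_EG_ok (grp_cons_le g124_TT (grp_cons_le g125_TT (grp_cons_le g126_TT (grp_cons_le g127_TT (grp_cons_le n_k3_TT (grp_cons_le n_t_TT (grp_cons_le g414_TT (grp_cons_le g419_TT (grp_cons_le g420_TT (grp_cons_le g417_TT (grp_cons_le n_u_TT (grp_nil_le _)))))))))))) (Frames.cons TT_s0_F (Frames.cons TT_s1_F (Frames.cons TT_s2_F (Frames.cons TT_s3_F (Frames.cons TT_s5_F (Frames.cons TT_s6_F Frames.nil)))))) (okE_cons.2 ⟨g449_ok, okE_nil _⟩) _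

noncomputable def tt_c5_cnt_t : BT := (BT.frm (nat_lit 0) (nat_lit 0) (nat_lit 0) [] (BT.pln (nat_lit 0) (nat_lit 0) (BT.fix (nat_lit 1) (BT.and (nat_lit 1) (nat_lit 0) (BT.br (nat_lit 0) (nat_lit 40) [nat_lit 1] (BT.kid (nat_lit 40) (nat_lit 16) (BT.frm (nat_lit 1) (nat_lit 257) (nat_lit 257) [nat_lit 0] (BT.pln (nat_lit 0) (nat_lit 6) (BT.and (nat_lit 5) (nat_lit 0) (BT.dif (nat_lit 0) (nat_lit 5) (BT.br (nat_lit 0) (nat_lit 153) [nat_lit 3] (BT.dead (nat_lit 158) (BT.frm (nat_lit 2) (nat_lit 257) (nat_lit 852225) [nat_lit 0, nat_lit 5] (BT.pln (nat_lit 0) (nat_lit 6) (BT.and (nat_lit 0) (nat_lit 9) (BT.cnt (nat_lit 0))))) (BT.kid (nat_lit 153) (nat_lit 8) (BT.dif (nat_lit 3) (nat_lit 7) (BT.frm (nat_lit 2) (nat_lit 257) (nat_lit 257) [nat_lit 1, nat_lit 6] (BT.pln (nat_lit 0) (nat_lit 15) (BT.and (nat_lit 2) (nat_lit 0) (BT.br (nat_lit 0) (nat_lit 1) [nat_lit 5] (BT.kid (nat_lit 1) (nat_lit 4) (BT.dif (nat_lit 13) (nat_lit 8) (BT.pln (nat_lit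 4) (nat_lit 12) (BT.and (nat_lit 1) (nat_lit 0) (BT.frm (nat_lit 3) (nat_lit 983297) (nat_lit 983297) [nat_lit 3, nat_lit 8, nat_lit 13] (BT.pln (nat_lit 0) (nat_lit 3) (BT.dif (nat_lit 2) (nat_lit 0) (BT.pln (nat_lit 2) (nat_lit 4) (BT.dif (nat_lit 1) (nat_lit 0) (BT.br (nat_lit 0) (nat_lit 196) [nat_lit 7] (BT.kid (nat_lit 196) (nat_lit 2) (BT.dif (nat_lit 22) (nat_lit 4) (BT.pln (nat_lit 6) (nat_lit 6) (BT.and (nat_lit 1) (nat_lit 0) (BT.dif (nat_lit 0) (nat_lit 20) (BT.br (nat_lit 0) (nat_lit 212) [] (BT.dead (nat_lit 257) (BT.frm (nat_lit 4) (nat_lit 0x110f0101) (nat_lit 0x13110f0101) [nat_lit 0, nat_lit 5, nat_lit 14, nat_lit 19, nat_lit 24] (BT.pln (nat_lit 0) (nat_lit 5) (BT.and (nat_lit 0) (nat_lit 28) (BT.cnt (nat_lit 0))))) (BT.kid (nat_lit 212) (nat_lit 2) (BT.dif (nat_lit 31) (nat_lit 9) (BT.dif (nat_lit 0) (nat_lit 8) (BT.pln (nat_lit 12) (nat_lit 5) (BT.dif (nat_lit 1) (nat_lit 0) (BT.dif (nat_lit 0) (nat_lit 7) (BT.pln (nat_lit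 15) (nat_lit 7) (BT.dif (nat_lit 1) (nat_lit 0) (BT.pln (nat_lit 35) (nat_lit 3) (BT.dif (nat_lit 1) (nat_lit 0) (BT.dif (nat_lit 0) (nat_lit 36) (BT.frm (nat_lit 4) (nat_lit 0x110f0101) (nat_lit 0x110f0101) [nat_lit 10, nat_lit 15, nat_lit 24, nat_lit 29, nat_lit 34] (BT.pln (nat_lit 0) (nat_lit 8) (BT.dif (nat_lit 2) (nat_lit 0) (BT.br (nat_lit 0) (nat_lit 197) [nat_lit 9] (BT.kid (nat_lit 197) (nat_lit 1) (BT.one (nat_lit 5) (nat_lit 0x110f0101) (nat_lit 0x110f0101) [nat_lit 0, nat_lit 14, nat_lit 19, nat_lit 28, nat_lit 33, nat_lit 38]) BT.nil))))))))))))))) BT.nil))))))) BT.nil)))))))))) BT.nil)))))) BT.nil))))))) BT.nil))))))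

theorem tt_c5_cnt : Cnt 276 (grp 276 ht_c2_K) [g449] [g449] 0 0 0 0 64 :=
  BT.sound tt_c5_cnt_P Known.nil (t := tt_c5_cnt_t) (d := 0) (by decide +kernel)

theorem tt_c5_ge : 64 ≤ Nat.card (grp 276 tt_c5_K) :=
  Ch.le_card_grp (k := 9) (L := (lab 276 9)) hn tt_c5_K_ok (c := (Ch.cons (nat_lit 40) [nat_lit 1] (Ch.cons (nat_lit 153) [nat_lit 3] (Ch.cons (nat_lit 1) [nat_lit 5] (Ch.cons (nat_lit 196) [nat_lit 7] (Ch.cons (nat_lit 197) [nat_lit 9] Ch.nil)))))) (by decide +kernel)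

theorem tt_c5_eq : (grp 276 ht_c2_K) ⊓ Subgroup.centralizer {Net.toPerm 276 g449} = grp 276 tt_c5_K :=
  cent_eq tt_c5_sym tt_c5_cnt tt_c5_ge

theorem tt_c5_card : Nat.card ↥((grp 276 ht_c2_K) ⊓ Subgroup.centralizer {Net.toPerm 276 g449}) = 64 :=
  card_cent tt_c5_sym tt_c5_cnt tt_c5_ge

theorem tt_c5_ord : orderOf (Net.toPerm 276 g449) = 2 :=
  orderOf_net hn hk g449_ok (by decide) (ps := [2]) (by set_option linter.unusedSimpArgs false in simp [Nat.primeFactorsList_ofNat]) (by decide +kernel)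

theorem le457 : grp 276 tt_c6_K ≤ grp 276 ht_c2_K :=
  grp_le_of_memB hn hk ht_c2_K_ok tt_c6_K_ok (ws := [nat_lit 0xb05050303010401, nat_lit 0x5050303010401, nat_lit 0x70505010401, nat_lit 0x505020302]) (by decide +kernel)

theorem tt_c6_le : grp 276 tt_c6_K ≤ (grp 276 ht_c2_K) :=
  (le457.trans TT_s0.le)

theorem tt_c6_mem : Net.toPerm 276 g454 ∈ (grp 276 ht_c2_K) :=
  tt_c6_le (toPerm_mem_grp (E := tt_c6_K) (List.Mem.tail _ (List.Mem.tail _ (List.Mem.head _))))

theorem tt_c6_sym : Sym 276 (grp 276 ht_c2_K) [g454] tt_c6_K 0 :=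
  Sym.of_lab hn hk (okE_cons.2 ⟨g454_ok, okE_nil _⟩) tt_c6_K_ok tt_c6_le (kT := 0) (by decide +kernel)

theorem le461 : grp 276 V460 ≤ grp 276 V421 :=
  grp_le_of_memB hn hk V421_ok V460_ok (ws := [nat_lit 0x705040103, nat_lit 0x5040104]) (by decide +kernel)

theorem TT_s13 : Stab 276 (grp 276 ht_c2_K) [nat_lit 152, nat_lit 176] V460 8 :=
  Stab.step (k := 9) (L := (lab 276 9)) hn TT_s1 V460_ok le461 (c := (Ch.cons (nat_lit 258) [nat_lit 1] (Ch.cons (nat_lit 0) [nat_lit 3] Ch.nil))) (by decide +kernel)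

theorem TT_s14 : Stab 276 (grp 276 ht_c2_K) [nat_lit 258, nat_lit 152, nat_lit 176] V462 2 :=
  Stab.step (k := 9) (L := (lab 276 9)) hn TT_s13 V462_ok (grp_mono (List.subset_append_right [g458] _)) (c := (Ch.cons (nat_lit 0) [nat_lit 1] Ch.nil)) (by decide +kernel)

theorem TT_s15 : Stab 276 (grp 276 ht_c2_K) [nat_lit 0, nat_lit 258, nat_lit 152, nat_lit 176] V463 1 :=
  Stab.step (k := 9) (L := (lab 276 9)) hn TT_s14 V463_ok (grp_mono (List.subset_append_right [g459] _)) (c := Ch.nil) (by decide +kernel)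

theorem g458_TT : Net.toPerm 276 g458 ∈ (grp 276 ht_c2_K) :=
  TT_s13.le (toPerm_mem_grp (E := V460) (List.Mem.head _))

theorem g459_TT : Net.toPerm 276 g459 ∈ (grp 276 ht_c2_K) :=
  TT_s13.le (toPerm_mem_grp (E := V460) (List.Mem.tail _ (List.Mem.head _)))

noncomputable def TT_s15_O : ℕ := (nat_lit 0x9993333366666ccccc99999b3333666664ccccd9999b3333266666ccccd9999933332c1f07c1f07c1f07c0f83e0f83e0f83e0f81f07c1f07c1f07c1f03e0f83e0f83e0f83e7319cc63398ce7319cc63398ce7319ce63398c67319ce63398c67319ce63398c6731826d926c93649b24db26d936c9b649b24d926d936c9b64db24d926c93649b64db26d92000000000000000000000000100000000000000000000000000000000000000000000000000000000000000000000000000100000000000000000000000000000000000000000040000000000000000000000000000000000000000000000000000000000000000000000000000000000000000000000000000000000000000000000000000000000001)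

theorem TT_s15_F : Frame 276 (grp 276 ht_c2_K) 4 8 TT_s15_O 1 1 :=
  IsBase.frame TT_s15.isBase (by decide +kernel)

noncomputable def TT_s14_O : ℕ := (nat_lit 0x12101000c008800000000000000080008000000000000080100000000000040018030ec0b2d3a23f67f7febf266cfebfb6e6f64e5e2ffffd93c53a80000000000000000000e16aa4bd3be251bcbffa2e6de7be18ee64a718000026830807fffeef7f70000000000cd47a11d27624a3aaaf52e39ad4165011812fbfffc20432c47fefe10800dbbfe00000ed6c030b3ee429388be141d60ebebbc98302b2fc03db5b8056fc00efe08ffe01e7c00610627ed34954f38fd166c2804bdc7a57608a7c3c3f4265246c2e0fc1e8f81e17c3f0aa64b9a0e617473b069bbb97cee61c86caa2a73333a986c5873298b3194e71995b30c5649b3e5073a2b75a35c1c916ed65364a9842daaab4e753134ab55ca552b695532aaa000000000000000000000000100000000000000000000000000000000000000000000000000000000000000000000000000100000000000000000000000000000000000000000040000000000000000000000000000000000000000000000000000000000000000)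

theorem TT_s14_F : Frame 276 (grp 276 ht_c2_K) 3 11 TT_s14_O 0 1 :=
  Stab.frame hn TT_s14 (by decide +kernel)

noncomputable def TT_s13_O : ℕ := (nat_lit 0x5000402102082000a20b0c700a02800e4020402004009000108220000140300000010015284da3956d83a5c206389e105308084c3008450be0daa487892ee7e8284051d0a0e7651055c7b24543c3c4210365b845038af00149980144e77de04801008fcd5f5f0b00e2550283805373b290605c006d7f48cd909cf1ffcaa72f1560184ffe0a68ff595f40b266dbc210cc117524a89cce02ab8c8a9175bf014089cbadab2e1e6d99460f2fb8ebc2c4266fb05a35bb1285c3e1dadeded24b60158bfe4064a2d47a60fc85599ac6ce459a000000000000000000000000100000000000000000000000000000000000000000000000000000000000000000000000000100000000000000000000000000000000000000)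

theorem TT_s13_F : Frame 276 (grp 276 ht_c2_K) 2 8 TT_s13_O 0 1 :=
  Stab.frame hn TT_s13 (by decide +kernel)

noncomputable def tt_c6_cnt_L : List ℕ := [0, 4, TT_s0_O, 0, 0, 2, 8, TT_s13_O, 0, 0, 3, 11, TT_s14_O, 0, 0, 4, 8, TT_s15_O, 1, 0]

theorem tt_c6_cnt_P : Prob 276 9 (grp 276 ht_c2_K) tt_c6_cnt_EG [g454] [g454] tt_c6_K tt_c6_cnt_L 0 0 :=
  Sym.prob hn hk tt_c6_sym tt_c6_cnt_EG_ok (grp_cons_le g414_TT (grp_cons_le g419_TT (grp_cons_le g420_TT (grp_cons_le g417_TT (grp_cons_le n_u_TT (grp_cons_le g124_TT (grp_cons_le g125_TT (grp_cons_le g126_TT (grp_cons_le g127_TT (grp_cons_le n_k3_TT (grp_cons_le n_t_TT (grp_cons_le g458_TT (grp_cons_le g459_TT (grp_nil_le _)))))))))))))) (Frames.cons TT_s0_F (Frames.cons TT_s13_F (Frames.cons TT_s14_F (Frames.cons TT_s15_F Frames.nil)))) (okE_cons.2 ⟨g454_ok, okE_nil _⟩) _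

noncomputable def tt_c6_cnt_t : BT := (BT.frm (nat_lit 0) (nat_lit 0) (nat_lit 0) [] (BT.pln (nat_lit 0) (nat_lit 0) (BT.fix (nat_lit 1) (BT.and (nat_lit 1) (nat_lit 0) (BT.br (nat_lit 0) (nat_lit 212) [nat_lit 1] (BT.kid (nat_lit 212) (nat_lit 8) (BT.pln (nat_lit 4) (nat_lit 1) (BT.and (nat_lit 0) (nat_lit 3) (BT.br (nat_lit 0) (nat_lit 152) [nat_lit 3] (BT.kid (nat_lit 152) (nat_lit 4) (BT.pln (nat_lit 7) (nat_lit 3) (BT.frm (nat_lit 1) (nat_lit 0x2070b0d) (nat_lit 0x2070b0d) [nat_lit 1, nat_lit 4] (BT.pln (nat_lit 0) (nat_lit 2) (BT.and (nat_lit 2) (nat_lit 0) (BT.dif (nat_lit 0) (nat_lit 9) (BT.br (nat_lit 0) (nat_lit 231) [nat_lit 5] (BT.kid (nat_lit 231) (nat_lit 2) (BT.dif (nat_lit 16) (nat_lit 3) (BT.pln (nat_lit 5) (nat_lit 3) (BT.dif (nat_lit 1) (nat_lit 0) (BT.pln (nat_lit 7) (nat_lit 4) (BT.dif (nat_lit 1) (nat_lit 0) (BT.pln (nat_lit 9) (nat_lit 5) (BT.dif (nat_lit 1) (nat_lit 0) (BT.dif (nat_lit 0) (nat_lit 15) (BT.dif (nat_lit 0)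 (nat_lit 20) (BT.frm (nat_lit 2) (nat_lit 0x1702070b0d) (nat_lit 0x1702070b0d) [nat_lit 9, nat_lit 15, nat_lit 18] (BT.pln (nat_lit 0) (nat_lit 3) (BT.dif (nat_lit 2) (nat_lit 0) (BT.br (nat_lit 0) (nat_lit 109) [nat_lit 7] (BT.kid (nat_lit 109) (nat_lit 1) (BT.one (nat_lit 3) (nat_lit 0x1702070b0d) (nat_lit 0x1702070b0d) [nat_lit 0, nat_lit 13, nat_lit 19, nat_lit 22]) BT.nil)))))))))))))) BT.nil))))))) BT.nil)))) BT.nil))))))

theorem tt_c6_cnt : Cnt 276 (grp 276 ht_c2_K) [g454] [g454] 0 0 0 0 16 :=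
  BT.sound tt_c6_cnt_P Known.nil (t := tt_c6_cnt_t) (d := 0) (by decide +kernel)

theorem tt_c6_ge : 16 ≤ Nat.card (grp 276 tt_c6_K) :=
  Ch.le_card_grp (k := 9) (L := (lab 276 9)) hn tt_c6_K_ok (c := (Ch.cons (nat_lit 212) [nat_lit 1] (Ch.cons (nat_lit 152) [nat_lit 3] (Ch.cons (nat_lit 231) [nat_lit 5] (Ch.cons (nat_lit 109) [nat_lit 7] Ch.nil))))) (by decide +kernel)

theorem tt_c6_eq : (grp 276 ht_c2_K) ⊓ Subgroup.centralizer {Net.toPerm 276 g454} = grp 276 tt_c6_K :=
  cent_eq tt_c6_sym tt_c6_cnt tt_c6_ge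

theorem tt_c6_card : Nat.card ↥((grp 276 ht_c2_K) ⊓ Subgroup.centralizer {Net.toPerm 276 g454}) = 16 :=
  card_cent tt_c6_sym tt_c6_cnt tt_c6_ge

theorem tt_c6_ord : orderOf (Net.toPerm 276 g454) = 2 :=
  orderOf_net hn hk g454_ok (by decide) (ps := [2]) (by set_option linter.unusedSimpArgs false in simp [Nat.primeFactorsList_ofNat]) (by decide +kernel)

theorem le467 : grp 276 tt_c7_K ≤ grp 276 ht_c2_K :=
  grp_le_of_memB hn hk ht_c2_K_ok tt_c7_K_ok (ws := [nat_lit 0x9060306010407, nat_lit 198145, nat_lit 0xb050104, nat_lit 11, nat_lit 0xb010101]) (by decide +kernel)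

theorem tt_c7_le : grp 276 tt_c7_K ≤ (grp 276 ht_c2_K) :=
  (le467.trans TT_s0.le)

theorem tt_c7_mem : Net.toPerm 276 g464 ∈ (grp 276 ht_c2_K) :=
  tt_c7_le (toPerm_mem_grp (E := tt_c7_K) (List.Mem.head _))

theorem tt_c7_sym : Sym 276 (grp 276 ht_c2_K) [g464] tt_c7_K 0 :=
  Sym.of_lab hn hk (okE_cons.2 ⟨g464_ok, okE_nil _⟩) tt_c7_K_ok tt_c7_le (kT := 0) (by decide +kernel)

theorem le472 : grp 276 V471 ≤ grp 276 ht_c2_K :=
  grp_le_of_memB hn hk ht_c2_K_ok V471_ok (ws := [nat_lit 0xb0907010105, nat_lit 0xb0907060303010501, nat_lit 0xb070503060105, nat_lit 11, nat_lit 0xb010101]) (by decide +kernel)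

theorem TT_s16 : Stab 276 (grp 276 ht_c2_K) [nat_lit 231] V471 384 :=
  Stab.step (k := 9) (L := (lab 276 9)) hn TT_s0 V471_ok le472 (c := (Ch.cons (nat_lit 213) [nat_lit 1] (Ch.cons (nat_lit 209) [nat_lit 3] (Ch.cons (nat_lit 112) [nat_lit 5] (Ch.cons (nat_lit 80) [nat_lit 7] (Ch.cons (nat_lit 270) [nat_lit 9] Ch.nil)))))) (by decide +kernel)

theorem TT_s17 : Stab 276 (grp 276 ht_c2_K) [nat_lit 213, nat_lit 231] V473 48 :=
  Stab.step (k := 9) (L := (lab 276 9)) hn TT_s16 V473_ok (grp_mono (List.subset_append_right [g468] _)) (c := (Ch.cons (nat_lit 209) [nat_lit 1] (Ch.cons (nat_lit 112) [nat_lit 3] (Ch.cons (nat_lit 80) [nat_lit 5] (Ch.cons (nat_lit 270) [nat_lit 7] Ch.nil))))) (by decide +kernel)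

theorem TT_s18 : Stab 276 (grp 276 ht_c2_K) [nat_lit 209, nat_lit 213, nat_lit 231] V474 12 :=
  Stab.step (k := 9) (L := (lab 276 9)) hn TT_s17 V474_ok (grp_mono (List.subset_append_right [g469] _)) (c := (Ch.cons (nat_lit 112) [nat_lit 1] (Ch.cons (nat_lit 80) [nat_lit 3] (Ch.cons (nat_lit 270) [nat_lit 5] Ch.nil)))) (by decide +kernel)

theorem TT_s19 : Stab 276 (grp 276 ht_c2_K) [nat_lit 112, nat_lit 209, nat_lit 213, nat_lit 231] V475 4 :=
  Stab.step (k := 9) (L := (lab 276 9)) hn TT_s18 V475_ok (grp_mono (List.subset_append_right [g470] _)) (c := (Ch.cons (nat_lit 80) [nat_lit 1] (Ch.cons (nat_lit 270) [nat_lit 3] Ch.nil))) (by decide +kernel)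

theorem TT_s20 : Stab 276 (grp 276 ht_c2_K) [nat_lit 80, nat_lit 112, nat_lit 209, nat_lit 213, nat_lit 231] V476 2 :=
  Stab.step (k := 9) (L := (lab 276 9)) hn TT_s19 V476_ok (grp_mono (List.subset_append_right [n_t] _)) (c := (Ch.cons (nat_lit 270) [nat_lit 1] Ch.nil)) (by decide +kernel)

theorem TT_s21 : Stab 276 (grp 276 ht_c2_K) [nat_lit 270, nat_lit 80, nat_lit 112, nat_lit 209, nat_lit 213, nat_lit 231] V477 1 :=
  Stab.step (k := 9) (L := (lab 276 9)) hn TT_s20 V477_ok (grp_mono (List.subset_append_right [n_u] _)) (c := Ch.nil) (by decide +kernel)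

theorem g469_TT : Net.toPerm 276 g469 ∈ (grp 276 ht_c2_K) :=
  TT_s17.le (toPerm_mem_grp (E := V473) (List.Mem.head _))

theorem g470_TT : Net.toPerm 276 g470 ∈ (grp 276 ht_c2_K) :=
  TT_s17.le (toPerm_mem_grp (E := V473) (List.Mem.tail _ (List.Mem.head _)))

theorem g468_TT : Net.toPerm 276 g468 ∈ (grp 276 ht_c2_K) :=
  TT_s16.le (toPerm_mem_grp (E := V471) (List.Mem.head _))

noncomputable def TT_s21_O : ℕ := (nat_lit 0x9993333366666ccccc99999b3333666664ccccd9999b3333266666ccccd9999933332c1f07c1f07c1f07c0f83e0f83e0f83e0f81f07c1f07c1f07c1f03e0f83e0f83e0f83e7319cc63398ce7319cc63398ce7319ce63398c67319ce63398c67319ce63398c6731826d926c93649b24db26d936c9b649b24d926d936c9b64db24d926c93649b64db26d92000000000008000000000000000000000000000000000000000000000000000000000000000000000000200000000000000000000000000000000000000000000000000000000000000000000020000000000000000000000000000000000000000000000000000000000000000000000000000000000000000000010000000000000000000000000000000000000000000000000000000000000000000000000000100000000000000000000040000000000000000000000000000000000000000000000000000000000000000000)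

theorem TT_s21_F : Frame 276 (grp 276 ht_c2_K) 6 10 TT_s21_O 1 1 :=
  IsBase.frame TT_s21.isBase (by decide +kernel)

noncomputable def TT_s20_O : ℕ := (nat_lit 0x10006001000001810011052010808420200000010000c001008000000000000000000cffc8fcc2f274e549f40925f0a72734e17ffdfdce93e396cc00021000050180001002ca9d1bd22ff11e6c9bea885c8e4b2bcd0d00000004c10612277ffdf9fff8180001002be7c6507b897e5ed5c4c4081051d508308bfcefc868100102f6ffd820056fbffc100241638a92c0c4a228c6b5e77f3fc29082d2bbc9204d3e2292277c217de054fbc03fe02b0b6f7acacf3f258033985cec4043fe3e2fa37e141310be22f03e1781e54e43c3c1e0da1680714e52f31c171bdaf13f2d7e3e1235b618450ccb9c24733b6399869b333299828d7cf09d241ceac4d189cbac9d12d9ab4ad749668ab8c5ba25ab457556452aaab554000000000008000000000000000000000000000000000000000000000000000000000000000000000000200000000000000000000000000000000000000000000000000000000000000000000020000000000000000000000000000000000000000000000000000000000000000000000000000000000000000000010000000000000000000000000000000000000000000000000000000000000000000000000000100000000000000000000)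

theorem TT_s20_F : Frame 276 (grp 276 ht_c2_K) 5 13 TT_s20_O 0 1 :=
  Stab.frame hn TT_s20 (by decide +kernel)

noncomputable def TT_s19_O : ℕ := (nat_lit 0x5234600102800181921105701aa2802a202201000010c005118000000040000001000a48092c60c16c6180c08da0e0008571412111e69ed2f0998a077a90103163909100123b1d7018a060a845536e4dc08509acd10c04003100c0a6c206127df9d7fefbe911012558bd71c766387608d698f3a2a9e7bea68fd12fdcaa638624a1a0ddbd3042016e6800e5e00aa099626ab8850bf03cca7ff1c10fdb670da3d0e12eaa1a7dd504d8d91cc17c099befa540f04011545f93a38995db32dcb57295445d4b3b958627eaaa71a1e973c3285b7f9e2854f6e794187fe42987d49271b29ace87698a61518543654a46c69753aa2b4000000000008000000000000000000000000000000000000000000000000000000000000000000000000200000000000000000000000000000000000000000000000000000000000000000000020000000000000000000000000000000000000000000000000000000000000000000000000000000000000000000010000000000000000000000000000)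

theorem TT_s19_F : Frame 276 (grp 276 ht_c2_K) 4 11 TT_s19_O 0 1 :=
  Stab.frame hn TT_s19 (by decide +kernel)

noncomputable def TT_s18_O : ℕ := (nat_lit 0x4000000000000000040000008000000000000000000000000000000000000000072341201028283809218c9581abe103a203203251010c0851192290103563919110109696a690de126f291d0f91ae94b4772b3cfd169cfa2a8c2cbc0b408284e0c076e300215e13b2b80176a81c517a9386c4b75805c534e09b0c9f273cec5bdb443d8d8c405ec293b4b9441cf1c031d6817bf2285f07c692ab146477ecaf0a83291e70236e25b1c9a2af863b3fcbc01a94d0017533d3f951ea4e49ec077444490cb76203112d28cf75abc8a6000000000008000000000000000000000000000000000000000000000000000000000000000000000000200000000000000000000000000000000000000000000000000000000000000000000020000000000000000000000000000000000000000000000000000)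

theorem TT_s18_F : Frame 276 (grp 276 ht_c2_K) 3 9 TT_s18_O 0 1 :=
  Stab.frame hn TT_s18 (by decide +kernel)

noncomputable def TT_s16_O : ℕ := (nat_lit 0x10000000000000000040000001000100040000000000220000500000080000000000000008000000000000000000000000600000000280000082080840022a000800000000000000840102080001020009100000234100000008000100040100800001200220120001000000010000102042100000100000200100000181001100201080042020000001000040011080210000101800000020100080080022a004006a000045400000400020400802200040004200080c0d000200088003022075405404800009610119c012118c0221490112824592543008020000c4c000000000008000000000000000000000000000000000000000000000000000000000)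

theorem TT_s16_F : Frame 276 (grp 276 ht_c2_K) 1 8 TT_s16_O 0 1 :=
  Stab.frame hn TT_s16 (by decide +kernel)

noncomputable def tt_c7_cnt_L : List ℕ := [0, 4, TT_s0_O, 0, 0, 1, 8, TT_s16_O, 0, 0, 3, 9, TT_s18_O, 0, 0, 4, 11, TT_s19_O, 0, 0, 5, 13, TT_s20_O, 0, 0, 6, 10, TT_s21_O, 1, 0]

theorem tt_c7_cnt_P : Prob 276 9 (grp 276 ht_c2_K) tt_c7_cnt_EG [g464] [g464] tt_c7_K tt_c7_cnt_L 0 0 :=
  Sym.prob hn hk tt_c7_sym tt_c7_cnt_EG_ok (grp_cons_le g124_TT (grp_cons_le g125_TT (grp_cons_le g126_TT (grp_cons_le g127_TT (grp_cons_le n_k3_TT (grp_cons_le n_t_TT (grp_cons_le g469_TT (grp_cons_le g470_TT (grp_cons_le n_u_TT (grp_cons_le g468_TT (grp_nil_le _))))))))))) (Frames.cons TT_s0_F (Frames.cons TT_s16_F (Frames.cons TT_s18_F (Frames.cons TT_s19_F (Frames.cons TT_s20_F (Frames.cons TT_s21_F Frames.nil)))))) (okE_cons.2 ⟨g464_ok, okE_nil _⟩) _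

noncomputable def tt_c7_cnt_t : BT := (BT.frm (nat_lit 0) (nat_lit 0) (nat_lit 0) [] (BT.pln (nat_lit 0) (nat_lit 3) (BT.br (nat_lit 0) (nat_lit 258) [nat_lit 1, nat_lit 3, nat_lit 5] (BT.kid (nat_lit 258) (nat_lit 12) (BT.frm (nat_lit 1) (nat_lit 265) (nat_lit 265) [nat_lit 0] (BT.pln (nat_lit 0) (nat_lit 7) (BT.and (nat_lit 3) (nat_lit 0) (BT.br (nat_lit 0) (nat_lit 163) [nat_lit 5] (BT.kid (nat_lit 163) (nat_lit 4) (BT.pln (nat_lit 6) (nat_lit 0) (BT.img (nat_lit 1) (nat_lit 5) (BT.img (nat_lit 1) (nat_lit 0) (BT.and (nat_lit 8) (nat_lit 0) (BT.frm (nat_lit 2) (nat_lit 0xd130109) (nat_lit 0xd130109) [nat_lit 0, nat_lit 2, nat_lit 8] (BT.pln (nat_lit 0) (nat_lit 5) (BT.dif (nat_lit 5) (nat_lit 0) (BT.frm (nat_lit 3) (nat_lit 0x100d130109) (nat_lit 0x100d130109) [nat_lit 7, nat_lit 3, nat_lit 5, nat_lit 11] (BT.pln (nat_lit 0) (nat_lit 4) (BT.dif (nat_lit 2) (nat_lit 0) (BT.br (nat_lit 0) (nat_lit 176) [nat_lit 7] (BT.kid (nat_lit 176) (nat_lit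 2) (BT.pln (nat_lit 6) (nat_lit 6) (BT.and (nat_lit 6) (nat_lit 0) (BT.dif (nat_lit 0) (nat_lit 4) (BT.pln (nat_lit 6) (nat_lit 9) (BT.and (nat_lit 1) (nat_lit 0) (BT.pln (nat_lit 11) (nat_lit 4) (BT.dif (nat_lit 1) (nat_lit 0) (BT.frm (nat_lit 4) (nat_lit 0xb100d130109) (nat_lit 0xb100d130109) [nat_lit 7, nat_lit 18, nat_lit 14, nat_lit 16, nat_lit 22] (BT.pln (nat_lit 0) (nat_lit 6) (BT.dif (nat_lit 2) (nat_lit 0) (BT.br (nat_lit 0) (nat_lit 54) [nat_lit 9] (BT.kid (nat_lit 54) (nat_lit 1) (BT.one (nat_lit 5) (nat_lit 0x110b100d130109) (nat_lit 0x110b100d130109) [nat_lit 0, nat_lit 11, nat_lit 22, nat_lit 18, nat_lit 20, nat_lit 26]) BT.nil)))))))))))) BT.nil)))))))))))) BT.nil))))) BT.nil))))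

theorem tt_c7_cnt : Cnt 276 (grp 276 ht_c2_K) [g464] [g464] 0 0 0 0 144 :=
  BT.sound tt_c7_cnt_P Known.nil (t := tt_c7_cnt_t) (d := 0) (by decide +kernel)

theorem tt_c7_ge : 144 ≤ Nat.card (grp 276 tt_c7_K) :=
  Ch.le_card_grp (k := 9) (L := (lab 276 9)) hn tt_c7_K_ok (c := (Ch.cons (nat_lit 258) [nat_lit 1, nat_lit 3] (Ch.cons (nat_lit 163) [nat_lit 5] (Ch.cons (nat_lit 176) [nat_lit 7] (Ch.cons (nat_lit 54) [nat_lit 9] Ch.nil))))) (by decide +kernel)

theorem tt_c7_eq : (grp 276 ht_c2_K) ⊓ Subgroup.centralizer {Net.toPerm 276 g464} = grp 276 tt_c7_K :=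
  cent_eq tt_c7_sym tt_c7_cnt tt_c7_ge

theorem tt_c7_card : Nat.card ↥((grp 276 ht_c2_K) ⊓ Subgroup.centralizer {Net.toPerm 276 g464}) = 144 :=
  card_cent tt_c7_sym tt_c7_cnt tt_c7_ge

theorem tt_c7_ord : orderOf (Net.toPerm 276 g464) = 3 :=
  orderOf_net hn hk g464_ok (by decide) (ps := [3]) (by set_option linter.unusedSimpArgs false in simp [Nat.primeFactorsList_ofNat]) (by decide +kernel)

theorem le481 : grp 276 tt_c8_K ≤ grp 276 ht_c2_K :=
  grp_le_of_memB hn hk ht_c2_K_ok tt_c8_K_ok (ws := [nat_lit 0xb050503010501, nat_lit 0xb090701, nat_lit 0xb09050103, nat_lit 65793, nat_lit 0xb010101]) (by decide +kernel)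

theorem tt_c8_le : grp 276 tt_c8_K ≤ (grp 276 ht_c2_K) :=
  (le481.trans TT_s0.le)

theorem tt_c8_mem : Net.toPerm 276 g478 ∈ (grp 276 ht_c2_K) :=
  tt_c8_le (toPerm_mem_grp (E := tt_c8_K) (List.Mem.head _))

theorem tt_c8_sym : Sym 276 (grp 276 ht_c2_K) [g478] tt_c8_K 0 :=
  Sym.of_lab hn hk (okE_cons.2 ⟨g478_ok, okE_nil _⟩) tt_c8_K_ok tt_c8_le (kT := 0) (by decide +kernel)

noncomputable def tt_c8_cnt_L : List ℕ := [0, 4, TT_s0_O, 0, 0, 1, 8, TT_s16_O, 0, 0, 3, 9, TT_s18_O, 0, 0, 4, 11, TT_s19_O, 0, 0, 5, 13, TT_s20_O, 0, 0, 6, 10, TT_s21_O, 1, 0]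

theorem tt_c8_cnt_P : Prob 276 9 (grp 276 ht_c2_K) tt_c8_cnt_EG [g478] [g478] tt_c8_K tt_c8_cnt_L 0 0 :=
  Sym.prob hn hk tt_c8_sym tt_c8_cnt_EG_ok (grp_cons_le g124_TT (grp_cons_le g125_TT (grp_cons_le g126_TT (grp_cons_le g127_TT (grp_cons_le n_k3_TT (grp_cons_le n_t_TT (grp_cons_le g469_TT (grp_cons_le g470_TT (grp_cons_le n_u_TT (grp_cons_le g468_TT (grp_nil_le _))))))))))) (Frames.cons TT_s0_F (Frames.cons TT_s16_F (Frames.cons TT_s18_F (Frames.cons TT_s19_F (Frames.cons TT_s20_F (Frames.cons TT_s21_F Frames.nil)))))) (okE_cons.2 ⟨g478_ok, okE_nil _⟩) _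

noncomputable def tt_c8_cnt_t : BT := (BT.frm (nat_lit 0) (nat_lit 0) (nat_lit 0) [] (BT.pln (nat_lit 0) (nat_lit 3) (BT.br (nat_lit 0) (nat_lit 258) [nat_lit 3, nat_lit 5] (BT.kid (nat_lit 258) (nat_lit 12) (BT.frm (nat_lit 1) (nat_lit 265) (nat_lit 265) [nat_lit 0] (BT.pln (nat_lit 0) (nat_lit 7) (BT.and (nat_lit 3) (nat_lit 0) (BT.br (nat_lit 0) (nat_lit 163) [nat_lit 5] (BT.kid (nat_lit 163) (nat_lit 4) (BT.pln (nat_lit 6) (nat_lit 0) (BT.img (nat_lit 1) (nat_lit 5) (BT.img (nat_lit 1) (nat_lit 0) (BT.and (nat_lit 8) (nat_lit 0) (BT.frm (nat_lit 2) (nat_lit 0xd1013130109) (nat_lit 0xd1013130109) [nat_lit 0, nat_lit 2, nat_lit 8] (BT.pln (nat_lit 0) (nat_lit 5) (BT.dif (nat_lit 5) (nat_lit 0) (BT.frm (nat_lit 3) (nat_lit 0xd1013130109) (nat_lit 0xd1013130109) [nat_lit 7, nat_lit 3, nat_lit 5, nat_lit 11] (BT.pln (nat_lit 0) (nat_lit 4) (BT.dif (nat_lit 2) (nat_lit 0) (BT.br (nat_lit 0) (nat_lit 185) [nat_lit 7] (BT.kid (nat_lit 185) (nat_lit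 2) (BT.pln (nat_lit 6) (nat_lit 6) (BT.and (nat_lit 6) (nat_lit 0) (BT.dif (nat_lit 0) (nat_lit 4) (BT.pln (nat_lit 6) (nat_lit 9) (BT.and (nat_lit 1) (nat_lit 0) (BT.pln (nat_lit 11) (nat_lit 4) (BT.dif (nat_lit 1) (nat_lit 0) (BT.frm (nat_lit 4) (nat_lit 0xd1013130109) (nat_lit 0xd1013130109) [nat_lit 7, nat_lit 18, nat_lit 14, nat_lit 16, nat_lit 22] (BT.pln (nat_lit 0) (nat_lit 6) (BT.dif (nat_lit 2) (nat_lit 0) (BT.br (nat_lit 0) (nat_lit 139) [nat_lit 9] (BT.kid (nat_lit 139) (nat_lit 1) (BT.one (nat_lit 5) (nat_lit 0xd1013130109) (nat_lit 0xd1013130109) [nat_lit 0, nat_lit 11, nat_lit 22, nat_lit 18, nat_lit 20, nat_lit 26]) BT.nil)))))))))))) BT.nil)))))))))))) BT.nil))))) BT.nil))))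

theorem tt_c8_cnt : Cnt 276 (grp 276 ht_c2_K) [g478] [g478] 0 0 0 0 144 :=
  BT.sound tt_c8_cnt_P Known.nil (t := tt_c8_cnt_t) (d := 0) (by decide +kernel)

theorem tt_c8_ge : 144 ≤ Nat.card (grp 276 tt_c8_K) :=
  Ch.le_card_grp (k := 9) (L := (lab 276 9)) hn tt_c8_K_ok (c := (Ch.cons (nat_lit 258) [nat_lit 1, nat_lit 3] (Ch.cons (nat_lit 163) [nat_lit 5] (Ch.cons (nat_lit 185) [nat_lit 7] (Ch.cons (nat_lit 139) [nat_lit 9] Ch.nil))))) (by decide +kernel)

theorem tt_c8_eq : (grp 276 ht_c2_K) ⊓ Subgroup.centralizer {Net.toPerm 276 g478} = grp 276 tt_c8_K :=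
  cent_eq tt_c8_sym tt_c8_cnt tt_c8_ge

theorem tt_c8_card : Nat.card ↥((grp 276 ht_c2_K) ⊓ Subgroup.centralizer {Net.toPerm 276 g478}) = 144 :=
  card_cent tt_c8_sym tt_c8_cnt tt_c8_ge

theorem tt_c8_ord : orderOf (Net.toPerm 276 g478) = 3 :=
  orderOf_net hn hk g478_ok (by decide) (ps := [3]) (by set_option linter.unusedSimpArgs false in simp [Nat.primeFactorsList_ofNat]) (by decide +kernel)

theorem le485 : grp 276 tt_c9_K ≤ grp 276 ht_c2_K :=
  grp_le_of_memB hn hk ht_c2_K_ok tt_c9_K_ok (ws := [nat_lit 257, nat_lit 0x603010101, nat_lit 393476, nat_lit 11, nat_lit 0xb010101]) (by decide +kernel)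

theorem tt_c9_le : grp 276 tt_c9_K ≤ (grp 276 ht_c2_K) :=
  (le485.trans TT_s0.le)

theorem tt_c9_mem : Net.toPerm 276 g482 ∈ (grp 276 ht_c2_K) :=
  tt_c9_le (toPerm_mem_grp (E := tt_c9_K) (List.Mem.head _))

theorem tt_c9_sym : Sym 276 (grp 276 ht_c2_K) [g482] tt_c9_K 0 :=
  Sym.of_lab hn hk (okE_cons.2 ⟨g482_ok, okE_nil _⟩) tt_c9_K_ok tt_c9_le (kT := 0) (by decide +kernel)

noncomputable def tt_c9_cnt_L : List ℕ := [0, 4, TT_s0_O, 0, 0, 1, 8, TT_s16_O, 0, 0, 3, 9, TT_s18_O, 0, 0, 4, 11, TT_s19_O, 0, 0, 5, 13, TT_s20_O, 0, 0, 6, 10, TT_s21_O, 1, 0]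

theorem tt_c9_cnt_P : Prob 276 9 (grp 276 ht_c2_K) tt_c9_cnt_EG [g482] [g482] tt_c9_K tt_c9_cnt_L 0 0 :=
  Sym.prob hn hk tt_c9_sym tt_c9_cnt_EG_ok (grp_cons_le g124_TT (grp_cons_le g125_TT (grp_cons_le g126_TT (grp_cons_le g127_TT (grp_cons_le n_k3_TT (grp_cons_le n_t_TT (grp_cons_le g469_TT (grp_cons_le g470_TT (grp_cons_le n_u_TT (grp_cons_le g468_TT (grp_nil_le _))))))))))) (Frames.cons TT_s0_F (Frames.cons TT_s16_F (Frames.cons TT_s18_F (Frames.cons TT_s19_F (Frames.cons TT_s20_F (Frames.cons TT_s21_F Frames.nil)))))) (okE_cons.2 ⟨g482_ok, okE_nil _⟩) _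

noncomputable def tt_c9_cnt_t : BT := (BT.frm (nat_lit 0) (nat_lit 0) (nat_lit 0) [] (BT.pln (nat_lit 0) (nat_lit 3) (BT.br (nat_lit 0) (nat_lit 258) [nat_lit 3, nat_lit 5] (BT.kid (nat_lit 258) (nat_lit 12) (BT.frm (nat_lit 1) (nat_lit 265) (nat_lit 265) [nat_lit 0] (BT.pln (nat_lit 0) (nat_lit 7) (BT.and (nat_lit 3) (nat_lit 0) (BT.br (nat_lit 0) (nat_lit 163) [nat_lit 5] (BT.kid (nat_lit 163) (nat_lit 4) (BT.pln (nat_lit 6) (nat_lit 0) (BT.img (nat_lit 1) (nat_lit 5) (BT.img (nat_lit 1) (nat_lit 0) (BT.and (nat_lit 8) (nat_lit 0) (BT.frm (nat_lit 2) (nat_lit 852233) (nat_lit 852233) [nat_lit 0, nat_lit 2, nat_lit 8] (BT.pln (nat_lit 0) (nat_lit 5) (BT.dif (nat_lit 5) (nat_lit 0) (BT.frm (nat_lit 3) (nat_lit 0x100d0109) (nat_lit 0x100d0109) [nat_lit 7, nat_lit 3, nat_lit 5, nat_lit 11] (BT.pln (nat_lit 0) (nat_lit 4) (BT.dif (nat_lit 2) (nat_lit 0) (BT.br (nat_lit 0) (nat_lit 32) [nat_lit 7] (BT.kid (nat_lit 32) (nat_lit 2) (BT.pln (nat_lit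 6) (nat_lit 6) (BT.and (nat_lit 6) (nat_lit 0) (BT.dif (nat_lit 0) (nat_lit 4) (BT.pln (nat_lit 6) (nat_lit 9) (BT.and (nat_lit 1) (nat_lit 0) (BT.pln (nat_lit 11) (nat_lit 4) (BT.dif (nat_lit 1) (nat_lit 0) (BT.frm (nat_lit 4) (nat_lit 0x100d0109) (nat_lit 0x100d0109) [nat_lit 7, nat_lit 18, nat_lit 14, nat_lit 16, nat_lit 22] (BT.pln (nat_lit 0) (nat_lit 6) (BT.dif (nat_lit 2) (nat_lit 0) (BT.br (nat_lit 0) (nat_lit 87) [nat_lit 9] (BT.kid (nat_lit 87) (nat_lit 1) (BT.one (nat_lit 5) (nat_lit 0x11100d0109) (nat_lit 0x11100d0109) [nat_lit 0, nat_lit 11, nat_lit 22, nat_lit 18, nat_lit 20, nat_lit 26]) BT.nil)))))))))))) BT.nil)))))))))))) BT.nil))))) BT.nil))))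

theorem tt_c9_cnt : Cnt 276 (grp 276 ht_c2_K) [g482] [g482] 0 0 0 0 144 :=
  BT.sound tt_c9_cnt_P Known.nil (t := tt_c9_cnt_t) (d := 0) (by decide +kernel)

theorem tt_c9_ge : 144 ≤ Nat.card (grp 276 tt_c9_K) :=
  Ch.le_card_grp (k := 9) (L := (lab 276 9)) hn tt_c9_K_ok (c := (Ch.cons (nat_lit 258) [nat_lit 1, nat_lit 3] (Ch.cons (nat_lit 163) [nat_lit 5] (Ch.cons (nat_lit 32) [nat_lit 7] (Ch.cons (nat_lit 87) [nat_lit 9] Ch.nil))))) (by decide +kernel)

theorem tt_c9_eq : (grp 276 ht_c2_K) ⊓ Subgroup.centralizer {Net.toPerm 276 g482} = grp 276 tt_c9_K :=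
  cent_eq tt_c9_sym tt_c9_cnt tt_c9_ge

theorem tt_c9_card : Nat.card ↥((grp 276 ht_c2_K) ⊓ Subgroup.centralizer {Net.toPerm 276 g482}) = 144 :=
  card_cent tt_c9_sym tt_c9_cnt tt_c9_ge

theorem tt_c9_ord : orderOf (Net.toPerm 276 g482) = 3 :=
  orderOf_net hn hk g482_ok (by decide) (ps := [3]) (by set_option linter.unusedSimpArgs false in simp [Nat.primeFactorsList_ofNat]) (by decide +kernel)

theorem le488 : grp 276 tt_c10_K ≤ grp 276 ht_c2_K :=
  grp_le_of_memB hn hk ht_c2_K_ok tt_c10_K_ok (ws := [nat_lit 0xb0505040205, nat_lit 0xb060305020502, nat_lit 65793, nat_lit 0xb010101]) (by decide +kernel)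

theorem tt_c10_le : grp 276 tt_c10_K ≤ (grp 276 ht_c2_K) :=
  (le488.trans TT_s0.le)

theorem tt_c10_mem : Net.toPerm 276 g486 ∈ (grp 276 ht_c2_K) :=
  tt_c10_le (toPerm_mem_grp (E := tt_c10_K) (List.Mem.head _))

theorem tt_c10_sym : Sym 276 (grp 276 ht_c2_K) [g486] tt_c10_K 0 :=
  Sym.of_lab hn hk (okE_cons.2 ⟨g486_ok, okE_nil _⟩) tt_c10_K_ok tt_c10_le (kT := 0) (by decide +kernel)

theorem le493 : grp 276 V492 ≤ grp 276 V471 :=
  grp_le_of_memB hn hk V471_ok V492_ok (ws := [nat_lit 0x5030601, nat_lit 0x90705010106, nat_lit 0x906010105, nat_lit 0x9030101, nat_lit 0x70503010106, nat_lit 7, nat_lit 9]) (by decide +kernel)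

theorem TT_s22 : Stab 276 (grp 276 ht_c2_K) [nat_lit 42, nat_lit 231] V492 128 :=
  Stab.step (k := 9) (L := (lab 276 9)) hn TT_s16 V492_ok le493 (c := (Ch.cons (nat_lit 12) [nat_lit 1] (Ch.cons (nat_lit 163) [nat_lit 3, nat_lit 5] (Ch.cons (nat_lit 99) [nat_lit 7, nat_lit 9] (Ch.cons (nat_lit 31) [nat_lit 11] (Ch.cons (nat_lit 21) [nat_lit 13] Ch.nil)))))) (by decide +kernel)

theorem TT_s23 : Stab 276 (grp 276 ht_c2_K) [nat_lit 12, nat_lit 42, nat_lit 231] V494 64 :=
  Stab.step (k := 9) (L := (lab 276 9)) hn TT_s22 V494_ok (grp_mono (List.subset_append_right [g489] _)) (c := (Ch.cons (nat_lit 163) [nat_lit 1, nat_lit 3] (Ch.cons (nat_lit 99) [nat_lit 5, nat_lit 7] (Ch.cons (nat_lit 31) [nat_lit 9] (Ch.cons (nat_lit 21) [nat_lit 11] Ch.nil))))) (by decide +kernel)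

theorem TT_s24 : Stab 276 (grp 276 ht_c2_K) [nat_lit 163, nat_lit 12, nat_lit 42, nat_lit 231] V495 16 :=
  Stab.step (k := 9) (L := (lab 276 9)) hn TT_s23 V495_ok (grp_mono (List.subset_append_right [n_b, g490] _)) (c := (Ch.cons (nat_lit 99) [nat_lit 1, nat_lit 3] (Ch.cons (nat_lit 31) [nat_lit 5] (Ch.cons (nat_lit 21) [nat_lit 7] Ch.nil)))) (by decide +kernel)

theorem TT_s25 : Stab 276 (grp 276 ht_c2_K) [nat_lit 99, nat_lit 163, nat_lit 12, nat_lit 42, nat_lit 231] V496 4 :=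
  Stab.step (k := 9) (L := (lab 276 9)) hn TT_s24 V496_ok (grp_mono (List.subset_append_right [g340, g491] _)) (c := (Ch.cons (nat_lit 31) [nat_lit 1] (Ch.cons (nat_lit 21) [nat_lit 3] Ch.nil))) (by decide +kernel)

theorem TT_s26 : Stab 276 (grp 276 ht_c2_K) [nat_lit 31, nat_lit 99, nat_lit 163, nat_lit 12, nat_lit 42, nat_lit 231] V497 2 :=
  Stab.step (k := 9) (L := (lab 276 9)) hn TT_s25 V497_ok (grp_mono (List.subset_append_right [n_t] _)) (c := (Ch.cons (nat_lit 21) [nat_lit 1] Ch.nil)) (by decide +kernel)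

theorem TT_s27 : Stab 276 (grp 276 ht_c2_K) [nat_lit 21, nat_lit 31, nat_lit 99, nat_lit 163, nat_lit 12, nat_lit 42, nat_lit 231] V498 1 :=
  Stab.step (k := 9) (L := (lab 276 9)) hn TT_s26 V498_ok (grp_mono (List.subset_append_right [n_u] _)) (c := Ch.nil) (by decide +kernel)

theorem g489_TT : Net.toPerm 276 g489 ∈ (grp 276 ht_c2_K) :=
  TT_s22.le (toPerm_mem_grp (E := V492) (List.Mem.head _))

theorem n_b_TT : Net.toPerm 276 n_b ∈ (grp 276 ht_c2_K) :=
  TT_s22.le (toPerm_mem_grp (E := V492) (List.Mem.tail _ (List.Mem.head _)))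

theorem g490_TT : Net.toPerm 276 g490 ∈ (grp 276 ht_c2_K) :=
  TT_s22.le (toPerm_mem_grp (E := V492) (List.Mem.tail _ (List.Mem.tail _ (List.Mem.head _))))

theorem g340_TT : Net.toPerm 276 g340 ∈ (grp 276 ht_c2_K) :=
  TT_s22.le (toPerm_mem_grp (E := V492) (List.Mem.tail _ (List.Mem.tail _ (List.Mem.tail _ (List.Mem.head _)))))

theorem g491_TT : Net.toPerm 276 g491 ∈ (grp 276 ht_c2_K) :=
  TT_s22.le (toPerm_mem_grp (E := V492) (List.Mem.tail _ (List.Mem.tail _ (List.Mem.tail _ (List.Mem.tail _ (List.Mem.head _))))))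

noncomputable def TT_s27_O : ℕ := (nat_lit 0x9993333366666ccccc99999b3333666664ccccd9999b3333266666ccccd9999933332c1f07c1f07c1f07c0f83e0f83e0f83e0f81f07c1f07c1f07c1f03e0f83e0f83e0f83e7319cc63398ce7319cc63398ce7319ce63398c67319ce63398c67319ce63398c6731826d926c93649b24db26d936c9b649b24d926d936c9b64db24d926c93649b64db26d92000000000008000000000000000000000000000000000000000000000000000000000000000000000000000000000000000000000000000000000000000000040000000000000000000000000000000000000000000000000000000000000000000000000001000000000000000000000000000000080000000000000000000000000000000000000000000000000000000000000000000000000000000000008000000000000000000000000000000000000000000000000000000000000000000000000000000000000080000000000000000000000000000000000000000000000000000000000000000000000200000)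

theorem TT_s27_F : Frame 276 (grp 276 ht_c2_K) 7 11 TT_s27_O 1 1 :=
  IsBase.frame TT_s27.isBase (by decide +kernel)

noncomputable def TT_s26_O : ℕ := (nat_lit 0x100060010000018320110520108004202000000110004000000000000000000000000cffc8fcc2f274e549f40925f0a72734e17ffdfdce93e396dd08021000010100000002ca9d1bd22ff11e6c9bea885c8e4b2bcd0d00000004c1061337fffdf9ffb8100000002be7c6507b897e5ec5c4c4081051d508308bfcefc868100113feffd820016f3ffc000241638a92c0c4a22be6b5e77f2f421082d2bbc9204d3e229337fc217de014f3c03ee02b0b6d7acacf3f25b233880ced4843fe3c2fa37e041310be33f83e0781e04e43c3c1e0ca16a0714e52f21f170bded13fad7a1e3235b619450c0b9d34731b63999683333299838d7af08d241cf2e6d09999ad9512d9ab4ad749678ab0c5ba2da9557552452aaaa554000000000008000000000000000000000000000000000000000000000000000000000000000000000000000000000000000000000000000000000000000000040000000000000000000000000000000000000000000000000000000000000000000000000001000000000000000000000000000000080000000000000000000000000000000000000000000000000000000000000000000000000000000000008000000000000000000000000000000000000000000000000000000000000000000000000000000000000080000000)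

theorem TT_s26_F : Frame 276 (grp 276 ht_c2_K) 6 14 TT_s26_O 0 1 :=
  Stab.frame hn TT_s26 (by decide +kernel)

noncomputable def TT_s25_O : ℕ := (nat_lit 0x5234600102800183b21105701aa2002a2022010010104005118000000000000000000a48092c60c16c6180c08da0e0008571412111e69ed2f0998a077a90103163909100123b1d7018a060a847736e4dc085092cd10c04003110c026c206127df9d7befbe910012558bd71c766387628d698a3a2a9e7bea68fd12fdcaa638624a1a0ddbd3042016e6800e5e00aa099626ab8a50bf53cca7f71c10fdb670db3d0612eaa1a7dd50498d91cc07c099beba540f04011565f93e38995d332dcb57295445d433b958627eaaa71a1e973c3284b7fde2854f6e794387fe12987d41271b29ace87698a61518543654a46869753aa2b4000000000008000000000000000000000000000000000000000000000000000000000000000000000000000000000000000000000000000000000000000000040000000000000000000000000000000000000000000000000000000000000000000000000001000000000000000000000000000000080000000000000000000000000000000000000000000000000000000000000000000000000000000000008000000000000000000000000)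

theorem TT_s25_F : Frame 276 (grp 276 ht_c2_K) 5 12 TT_s25_O 0 1 :=
  Stab.frame hn TT_s25 (by decide +kernel)

noncomputable def TT_s23_O : ℕ := (nat_lit 0x1000000000000000000000000000000004000000000002000040000008000000000000000000000000000000000000000010000000000000020000010000000000000000000000800000000000000000000000040000000000000000200004002280000000000000000000400000800000000000000000002000000000810000000000800000200000010000400000000100000000000000002200000000080001000000000000000000201000010000000000000000400000000000000001000000000001002010000000000000000000000010802000000010000000000141000000000000000400000000000000000000000000000100001020001000000020000000028000008000000000020008000000000000000001000000000000080000000000000000000000008080000000000000000000000008000020000010200011000000000000000000000000001008000012002000200000000000000000000020000001000000000000001000010000000000420000000000000000100000000001008000000200000000800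0280000060000041400000400000400000000040000000080c05000000800a000008000020006010000000000000000000020000080008000a000000026000004000004000004000800020000004000400000488806100040000000000000000400000010448400000000000000000000004004000800400006008200000400000040200001000800000202004000a00000400000000002000080220000000420000000800020000000010110000000000008000000000018c2010000004000000000080200020801000040002000000000010000008000200188004000000000000000408004000400080a0000080800400100800000006000002000000100040200800200000000801000000001000000000008000000000000000000000000000000000000000000000000000000000000000000000000000000000000000000000000000000000000000000040000000000000000000000000000000000000000000000000000000000000000000000000001000)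

theorem TT_s23_F : Frame 276 (grp 276 ht_c2_K) 3 23 TT_s23_O 0 1 :=
  Stab.frame hn TT_s23 (by decide +kernel)

noncomputable def TT_s22_O : ℕ := (nat_lit 0x10000000000000000000000001000100040000000000220000500000080000000000000008000000000000000000000000022000000000800010000000000000000002010000100000000000000004000000000000000000000000000080800000000000000000000000080000200000102000110000000000000000010000100000000004200000000000000001000000000010080000002000020010000008100010020108000002000000100004000108021000000100000000600000000280000082000040022a00080000000000000004010008000000000800000001410000000000000004010080000120020002000000000001000010200210000010800b044848000020006010000000000400400080060000680828000a40000006620000100080080022a004006a000045400000400020400802200040004200080c0d00020004000014110004000800028000004000418c205888061400400000008020002084100004080a00400100801000006800022018800500040200800200040800c010400080a1000000000008000000000000000000000000000000000000000000000000000000000000000000000000000000000000000000000000000000000000000000040000000000)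

theorem TT_s22_F : Frame 276 (grp 276 ht_c2_K) 2 14 TT_s22_O 0 1 :=
  Stab.frame hn TT_s22 (by decide +kernel)

noncomputable def tt_c10_cnt_L : List ℕ := [0, 4, TT_s0_O, 0, 0, 2, 14, TT_s22_O, 0, 0, 3, 23, TT_s23_O, 0, 0, 5, 12, TT_s25_O, 0, 0, 6, 14, TT_s26_O, 0, 0, 7, 11, TT_s27_O, 1, 0]

theorem tt_c10_cnt_P : Prob 276 9 (grp 276 ht_c2_K) tt_c10_cnt_EG [g486] [g486] tt_c10_K tt_c10_cnt_L 0 0 :=
  Sym.prob hn hk tt_c10_sym tt_c10_cnt_EG_ok (grp_cons_le g468_TT (grp_cons_le g469_TT (grp_cons_le g470_TT (grp_cons_le n_t_TT (grp_cons_le n_u_TT (grp_cons_le g124_TT (grp_cons_le g125_TT (grp_cons_le g126_TT (grp_cons_le g127_TT (grp_cons_le n_k3_TT (grp_cons_le g489_TT (grp_cons_le n_b_TT (grp_cons_le g490_TT (grp_cons_le g340_TT (grp_cons_le g491_TT (grp_nil_le _)))))))))))))))) (Frames.cons TT_s0_F (Frames.cons TT_s22_F (Frames.cons TT_s23_F (Frames.cons TT_s25_F (Frames.cons TT_s26_F (Frames.cons TT_s27_F Frames.nil)))))) (okE_cons.2 ⟨g486_ok,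 okE_nil _⟩) _

noncomputable def tt_c10_cnt_t : BT := (BT.frm (nat_lit 0) (nat_lit 0) (nat_lit 0) [] (BT.pln (nat_lit 0) (nat_lit 3) (BT.fix (nat_lit 1) (BT.dif (nat_lit 1) (nat_lit 0) (BT.br (nat_lit 0) (nat_lit 258) [nat_lit 1, nat_lit 3] (BT.kid (nat_lit 258) (nat_lit 4) (BT.pln (nat_lit 4) (nat_lit 0) (BT.img (nat_lit 1) (nat_lit 1) (BT.frm (nat_lit 1) (nat_lit 396051) (nat_lit 396051) [nat_lit 0, nat_lit 2] (BT.pln (nat_lit 0) (nat_lit 8) (BT.dif (nat_lit 3) (nat_lit 0) (BT.and (nat_lit 8) (nat_lit 7) (BT.img (nat_lit 1) (nat_lit 4) (BT.and (nat_lit 10) (nat_lit 0) (BT.frm (nat_lit 2) (nat_lit 0x15060b13) (nat_lit 0x15060b13) [nat_lit 0, nat_lit 6, nat_lit 8] (BT.pln (nat_lit 0) (nat_lit 20) (BT.and (nat_lit 4) (nat_lit 0) (BT.pln (nat_lit 2) (nat_lit 21) (BT.and (nat_lit 6) (nat_lit 0) (BT.frm (nat_lit 3) (nat_lit 0x1715060b13) (nat_lit 0x1715060b13) [nat_lit 2, nat_lit 0, nat_lit 5, nat_lit 11, nat_lit 13] (BT.pln (nat_lit 0) (nat_lit 7)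 (BT.and (nat_lit 10) (nat_lit 0) (BT.br (nat_lit 0) (nat_lit 31) [nat_lit 5] (BT.kid (nat_lit 31) (nat_lit 2) (BT.dif (nat_lit 24) (nat_lit 2) (BT.pln (nat_lit 4) (nat_lit 8) (BT.and (nat_lit 1) (nat_lit 0) (BT.pln (nat_lit 6) (nat_lit 5) (BT.and (nat_lit 1) (nat_lit 0) (BT.pln (nat_lit 8) (nat_lit 6) (BT.and (nat_lit 1) (nat_lit 0) (BT.pln (nat_lit 10) (nat_lit 9) (BT.dif (nat_lit 1) (nat_lit 0) (BT.pln (nat_lit 12) (nat_lit 10) (BT.dif (nat_lit 1) (nat_lit 0) (BT.dif (nat_lit 0) (nat_lit 27) (BT.frm (nat_lit 4) (nat_lit 0x1715060b13) (nat_lit 0x1715060b13) [nat_lit 12, nat_lit 18, nat_lit 16, nat_lit 21, nat_lit 27, nat_lit 29] (BT.pln (nat_lit 0) (nat_lit 8) (BT.dif (nat_lit 2) (nat_lit 0) (BT.br (nat_lit 0) (nat_lit 47) [nat_lit 7] (BT.kid (nat_lit 47) (nat_lit 1) (BT.one (nat_lit 5) (nat_lit 0x91715060b13) (nat_lit 0x91715060b13) [nat_lit 0, nat_lit 16, nat_lit 22, nat_lit 20, nat_lit 25, nat_lit 31, nat_lit 33]) BT.nil))))))))))))))))) BT.nil))))))))))))))))))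 BT.nil))))))

theorem tt_c10_cnt : Cnt 276 (grp 276 ht_c2_K) [g486] [g486] 0 0 0 0 36 :=
  BT.sound tt_c10_cnt_P Known.nil (t := tt_c10_cnt_t) (d := 0) (by decide +kernel)

theorem tt_c10_ge : 36 ≤ Nat.card (grp 276 tt_c10_K) :=
  Ch.le_card_grp (k := 9) (L := (lab 276 9)) hn tt_c10_K_ok (c := (Ch.cons (nat_lit 258) [nat_lit 1, nat_lit 3] (Ch.cons (nat_lit 31) [nat_lit 5] (Ch.cons (nat_lit 47) [nat_lit 7] Ch.nil)))) (by decide +kernel)

theorem tt_c10_eq : (grp 276 ht_c2_K) ⊓ Subgroup.centralizer {Net.toPerm 276 g486} = grp 276 tt_c10_K :=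
  cent_eq tt_c10_sym tt_c10_cnt tt_c10_ge

theorem tt_c10_card : Nat.card ↥((grp 276 ht_c2_K) ⊓ Subgroup.centralizer {Net.toPerm 276 g486}) = 36 :=
  card_cent tt_c10_sym tt_c10_cnt tt_c10_ge

theorem tt_c10_ord : orderOf (Net.toPerm 276 g486) = 3 :=
  orderOf_net hn hk g486_ok (by decide) (ps := [3]) (by set_option linter.unusedSimpArgs false in simp [Nat.primeFactorsList_ofNat]) (by decide +kernel)

theorem le503 : grp 276 tt_c11_K ≤ grp 276 ht_c2_K :=
  grp_le_of_memB hn hk ht_c2_K_ok tt_c11_K_ok (ws := [nat_lit 0xb060205, nat_lit 0x70603050101, nat_lit 0x6010501, nat_lit 0xb03010401, nat_lit 0xb010101]) (by decide +kernel)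

theorem tt_c11_le : grp 276 tt_c11_K ≤ (grp 276 ht_c2_K) :=
  (le503.trans TT_s0.le)

theorem tt_c11_mem : Net.toPerm 276 g499 ∈ (grp 276 ht_c2_K) :=
  tt_c11_le (mem_grp_of_memB hn hk tt_c11_K_ok g499_ok (w := (nat_lit 0x4020402)) (by decide +kernel))

theorem tt_c11_sym : Sym 276 (grp 276 ht_c2_K) [g499] tt_c11_K 0 :=
  Sym.of_lab hn hk (okE_cons.2 ⟨g499_ok, okE_nil _⟩) tt_c11_K_ok tt_c11_le (kT := 0) (by decide +kernel)

noncomputable def tt_c11_cnt_L : List ℕ := [0, 4, TT_s0_O, 0, 0, 1, 8, TT_s1_O, 0, 0, 2, 19, TT_s2_O, 0, 0, 3, 9, TT_s3_O, 0, 0, 5, 13, TT_s5_O, 0, 0, 6, 10, TT_s6_O, 1, 0]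

theorem tt_c11_cnt_P : Prob 276 9 (grp 276 ht_c2_K) tt_c11_cnt_EG [g499] [g499] tt_c11_K tt_c11_cnt_L 0 0 :=
  Sym.prob hn hk tt_c11_sym tt_c11_cnt_EG_ok (grp_cons_le g124_TT (grp_cons_le g125_TT (grp_cons_le g126_TT (grp_cons_le g127_TT (grp_cons_le n_k3_TT (grp_cons_le n_t_TT (grp_cons_le g414_TT (grp_cons_le g419_TT (grp_cons_le g420_TT (grp_cons_le g417_TT (grp_cons_le n_u_TT (grp_nil_le _)))))))))))) (Frames.cons TT_s0_F (Frames.cons TT_s1_F (Frames.cons TT_s2_F (Frames.cons TT_s3_F (Frames.cons TT_s5_F (Frames.cons TT_s6_F Frames.nil)))))) (okE_cons.2 ⟨g499_ok, okE_nil _⟩) _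

noncomputable def tt_c11_cnt_t : BT := (BT.frm (nat_lit 0) (nat_lit 0) (nat_lit 0) [] (BT.pln (nat_lit 0) (nat_lit 0) (BT.br (nat_lit 0) (nat_lit 176) [nat_lit 1, nat_lit 3] (BT.kid (nat_lit 176) (nat_lit 32) (BT.img (nat_lit 1) (nat_lit 0) (BT.frm (nat_lit 2) (nat_lit 3344) (nat_lit 3344) [nat_lit 0, nat_lit 1] (BT.pln (nat_lit 0) (nat_lit 15) (BT.and (nat_lit 4) (nat_lit 0) (BT.br (nat_lit 0) (nat_lit 244) [nat_lit 3] (BT.kid (nat_lit 244) (nat_lit 8) (BT.pln (nat_lit 3) (nat_lit 12) (BT.and (nat_lit 7) (nat_lit 0) (BT.frm (nat_lit 3) (nat_lit 3344) (nat_lit 3344) [nat_lit 2, nat_lit 6, nat_lit 7] (BT.pln (nat_lit 0) (nat_lit 3) (BT.dif (nat_lit 2) (nat_lit 0) (BT.pln (nat_lit 2) (nat_lit 4) (BT.dif (nat_lit 1) (nat_lit 0) (BT.br (nat_lit 0) (nat_lit 1) [nat_lit 5] (BT.kid (nat_lit 1) (nat_lit 4) (BT.dif (nat_lit 14) (nat_lit 4) (BT.pln (nat_lit 6) (nat_lit 6) (BT.and (nat_lit 1) (nat_lit 0) (BT.frm (nat_lit 1) (nat_lit 0) (nat_lit 0) [nat_lit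 16] (BT.pln (nat_lit 0) (nat_lit 4) (BT.and (nat_lit 2) (nat_lit 0) (BT.br (nat_lit 0) (nat_lit 116) [nat_lit 7] (BT.kid (nat_lit 116) (nat_lit 2) (BT.dif (nat_lit 25) (nat_lit 11) (BT.dif (nat_lit 0) (nat_lit 10) (BT.pln (nat_lit 14) (nat_lit 5) (BT.dif (nat_lit 1) (nat_lit 0) (BT.dif (nat_lit 0) (nat_lit 9) (BT.pln (nat_lit 17) (nat_lit 7) (BT.dif (nat_lit 1) (nat_lit 0) (BT.pln (nat_lit 29) (nat_lit 3) (BT.dif (nat_lit 1) (nat_lit 0) (BT.dif (nat_lit 0) (nat_lit 30) (BT.frm (nat_lit 4) (nat_lit 0x13110d10) (nat_lit 0x13110d10) [nat_lit 10, nat_lit 17, nat_lit 25, nat_lit 29, nat_lit 30] (BT.pln (nat_lit 0) (nat_lit 8) (BT.dif (nat_lit 2) (nat_lit 0) (BT.br (nat_lit 0) (nat_lit 106) [nat_lit 9] (BT.kid (nat_lit 106) (nat_lit 1) (BT.one (nat_lit 5) (nat_lit 0x13110d10) (nat_lit 0x13110d10) [nat_lit 0, nat_lit 14, nat_lit 21, nat_lit 29, nat_lit 33, nat_lit 34]) BT.nil))))))))))))))) BT.nil)))))))) BT.nil))))))))) BT.nil)))))) BT.nil))))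

theorem tt_c11_cnt : Cnt 276 (grp 276 ht_c2_K) [g499] [g499] 0 0 0 0 768 :=
  BT.sound tt_c11_cnt_P Known.nil (t := tt_c11_cnt_t) (d := 0) (by decide +kernel)

theorem tt_c11_ge : 768 ≤ Nat.card (grp 276 tt_c11_K) :=
  Ch.le_card_grp (k := 9) (L := (lab 276 9)) hn tt_c11_K_ok (c := (Ch.cons (nat_lit 176) [nat_lit 1] (Ch.cons (nat_lit 244) [nat_lit 3] (Ch.cons (nat_lit 1) [nat_lit 5] (Ch.cons (nat_lit 116) [nat_lit 7] (Ch.cons (nat_lit 106) [nat_lit 9] Ch.nil)))))) (by decide +kernel)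

theorem tt_c11_eq : (grp 276 ht_c2_K) ⊓ Subgroup.centralizer {Net.toPerm 276 g499} = grp 276 tt_c11_K :=
  cent_eq tt_c11_sym tt_c11_cnt tt_c11_ge

theorem tt_c11_card : Nat.card ↥((grp 276 ht_c2_K) ⊓ Subgroup.centralizer {Net.toPerm 276 g499}) = 768 :=
  card_cent tt_c11_sym tt_c11_cnt tt_c11_ge

theorem tt_c11_ord : orderOf (Net.toPerm 276 g499) = 4 :=
  orderOf_net hn hk g499_ok (by decide) (ps := [2]) (by set_option linter.unusedSimpArgs false in simp [Nat.primeFactorsList_ofNat]) (by decide +kernel)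

theorem le508 : grp 276 tt_c12_K ≤ grp 276 ht_c2_K :=
  grp_le_of_memB hn hk ht_c2_K_ok tt_c12_K_ok (ws := [nat_lit 0xb07060105, nat_lit 0x90303010104, nat_lit 0x3020402, nat_lit 0xb04010301, nat_lit 0xb010101]) (by decide +kernel)

theorem tt_c12_le : grp 276 tt_c12_K ≤ (grp 276 ht_c2_K) :=
  (le508.trans TT_s0.le)

theorem tt_c12_mem : Net.toPerm 276 g504 ∈ (grp 276 ht_c2_K) :=
  tt_c12_le (mem_grp_of_memB hn hk tt_c12_K_ok g504_ok (w := (nat_lit 0x70503010301)) (by decide +kernel))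

theorem tt_c12_sym : Sym 276 (grp 276 ht_c2_K) [g504] tt_c12_K 0 :=
  Sym.of_lab hn hk (okE_cons.2 ⟨g504_ok, okE_nil _⟩) tt_c12_K_ok tt_c12_le (kT := 0) (by decide +kernel)

noncomputable def tt_c12_cnt_L : List ℕ := [0, 4, TT_s0_O, 0, 0, 1, 8, TT_s1_O, 0, 0, 2, 19, TT_s2_O, 0, 0, 3, 9, TT_s3_O, 0, 0, 5, 13, TT_s5_O, 0, 0, 6, 10, TT_s6_O, 1, 0]

theorem tt_c12_cnt_P : Prob 276 9 (grp 276 ht_c2_K) tt_c12_cnt_EG [g504] [g504] tt_c12_K tt_c12_cnt_L 0 0 :=
  Sym.prob hn hk tt_c12_sym tt_c12_cnt_EG_ok (grp_cons_le g124_TT (grp_cons_le g125_TT (grp_cons_le g126_TT (grp_cons_le g127_TT (grp_cons_le n_k3_TT (grp_cons_le n_t_TT (grp_cons_le g414_TT (grp_cons_le g419_TT (grp_cons_le g420_TT (grp_cons_le g417_TT (grp_cons_le n_u_TT (grp_nil_le _)))))))))))) (Frames.cons TT_s0_F (Frames.cons TT_s1_F (Frames.cons TT_s2_F (Frames.cons TT_s3_F (Frames.cons TT_s5_F (Frames.cons TT_s6_F Frames.nil)))))) (okE_cons.2 ⟨g504_ok, okE_nil _⟩) _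

noncomputable def tt_c12_cnt_t : BT := (BT.frm (nat_lit 0) (nat_lit 0) (nat_lit 0) [] (BT.pln (nat_lit 0) (nat_lit 0) (BT.br (nat_lit 0) (nat_lit 176) [nat_lit 1, nat_lit 3] (BT.kid (nat_lit 176) (nat_lit 32) (BT.img (nat_lit 1) (nat_lit 0) (BT.frm (nat_lit 2) (nat_lit 0) (nat_lit 0) [nat_lit 0, nat_lit 1] (BT.pln (nat_lit 0) (nat_lit 15) (BT.and (nat_lit 4) (nat_lit 0) (BT.br (nat_lit 0) (nat_lit 244) [nat_lit 3] (BT.kid (nat_lit 244) (nat_lit 8) (BT.pln (nat_lit 3) (nat_lit 12) (BT.and (nat_lit 7) (nat_lit 0) (BT.frm (nat_lit 3) (nat_lit 16) (nat_lit 16) [nat_lit 2, nat_lit 6, nat_lit 7] (BT.pln (nat_lit 0) (nat_lit 3) (BT.dif (nat_lit 2) (nat_lit 0) (BT.pln (nat_lit 2) (nat_lit 4) (BT.dif (nat_lit 1) (nat_lit 0) (BT.br (nat_lit 0) (nat_lit 98) [nat_lit 5] (BT.kid (nat_lit 98) (nat_lit 4) (BT.dif (nat_lit 14) (nat_lit 4) (BT.pln (nat_lit 6) (nat_lit 6) (BT.and (nat_lit 1) (nat_lit 0) (BT.frm (nat_lit 1) (nat_lit 0) (nat_lit 0) [nat_lit 16] (BT.pln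 (nat_lit 0) (nat_lit 4) (BT.and (nat_lit 2) (nat_lit 0) (BT.br (nat_lit 0) (nat_lit 220) [nat_lit 7] (BT.kid (nat_lit 220) (nat_lit 2) (BT.dif (nat_lit 25) (nat_lit 11) (BT.dif (nat_lit 0) (nat_lit 10) (BT.pln (nat_lit 14) (nat_lit 5) (BT.dif (nat_lit 1) (nat_lit 0) (BT.dif (nat_lit 0) (nat_lit 9) (BT.pln (nat_lit 17) (nat_lit 7) (BT.dif (nat_lit 1) (nat_lit 0) (BT.pln (nat_lit 29) (nat_lit 3) (BT.dif (nat_lit 1) (nat_lit 0) (BT.dif (nat_lit 0) (nat_lit 30) (BT.frm (nat_lit 4) (nat_lit 4880) (nat_lit 4880) [nat_lit 10, nat_lit 17, nat_lit 25, nat_lit 29, nat_lit 30] (BT.pln (nat_lit 0) (nat_lit 8) (BT.dif (nat_lit 2) (nat_lit 0) (BT.br (nat_lit 0) (nat_lit 187) [nat_lit 9] (BT.kid (nat_lit 187) (nat_lit 1) (BT.one (nat_lit 5) (nat_lit 0x151310) (nat_lit 0x151310) [nat_lit 0, nat_lit 14, nat_lit 21, nat_lit 29, nat_lit 33, nat_lit 34]) BT.nil))))))))))))))) BT.nil)))))))) BT.nil))))))))) BT.nil)))))) BT.nil))))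

theorem tt_c12_cnt : Cnt 276 (grp 276 ht_c2_K) [g504] [g504] 0 0 0 0 768 :=
  BT.sound tt_c12_cnt_P Known.nil (t := tt_c12_cnt_t) (d := 0) (by decide +kernel)

theorem tt_c12_ge : 768 ≤ Nat.card (grp 276 tt_c12_K) :=
  Ch.le_card_grp (k := 9) (L := (lab 276 9)) hn tt_c12_K_ok (c := (Ch.cons (nat_lit 176) [nat_lit 1] (Ch.cons (nat_lit 244) [nat_lit 3] (Ch.cons (nat_lit 98) [nat_lit 5] (Ch.cons (nat_lit 220) [nat_lit 7] (Ch.cons (nat_lit 187) [nat_lit 9] Ch.nil)))))) (by decide +kernel)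

theorem tt_c12_eq : (grp 276 ht_c2_K) ⊓ Subgroup.centralizer {Net.toPerm 276 g504} = grp 276 tt_c12_K :=
  cent_eq tt_c12_sym tt_c12_cnt tt_c12_ge

theorem tt_c12_card : Nat.card ↥((grp 276 ht_c2_K) ⊓ Subgroup.centralizer {Net.toPerm 276 g504}) = 768 :=
  card_cent tt_c12_sym tt_c12_cnt tt_c12_ge

theorem tt_c12_ord : orderOf (Net.toPerm 276 g504) = 4 :=
  orderOf_net hn hk g504_ok (by decide) (ps := [2]) (by set_option linter.unusedSimpArgs false in simp [Nat.primeFactorsList_ofNat]) (by decide +kernel)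

theorem le512 : grp 276 tt_c13_K ≤ grp 276 ht_c2_K :=
  grp_le_of_memB hn hk ht_c2_K_ok tt_c13_K_ok (ws := [nat_lit 0x7050503060101, nat_lit 0x5050105, nat_lit 0xb09010101, nat_lit 2311, nat_lit 11]) (by decide +kernel)

theorem tt_c13_le : grp 276 tt_c13_K ≤ (grp 276 ht_c2_K) :=
  (le512.trans TT_s0.le)

theorem tt_c13_mem : Net.toPerm 276 g509 ∈ (grp 276 ht_c2_K) :=
  tt_c13_le (mem_grp_of_memB hn hk tt_c13_K_ok g509_ok (w := (nat_lit 0x3020302)) (by decide +kernel))

theorem tt_c13_sym : Sym 276 (grp 276 ht_c2_K) [g509] tt_c13_K 0 :=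
  Sym.of_lab hn hk (okE_cons.2 ⟨g509_ok, okE_nil _⟩) tt_c13_K_ok tt_c13_le (kT := 0) (by decide +kernel)

noncomputable def tt_c13_cnt_L : List ℕ := [0, 4, TT_s0_O, 0, 0, 2, 19, TT_s8_O, 0, 0, 3, 9, TT_s9_O, 0, 0, 4, 11, TT_s10_O, 0, 0, 5, 13, TT_s11_O, 0, 0, 6, 10, TT_s12_O, 1, 0]

theorem tt_c13_cnt_P : Prob 276 9 (grp 276 ht_c2_K) tt_c13_cnt_EG [g509] [g509] tt_c13_K tt_c13_cnt_L 0 0 :=
  Sym.prob hn hk tt_c13_sym tt_c13_cnt_EG_ok (grp_cons_le g125_TT (grp_cons_le g126_TT (grp_cons_le g127_TT (grp_cons_le n_k3_TT (grp_cons_le n_t_TT (grp_cons_le g124_TT (grp_nil_le _))))))) (Frames.cons TT_s0_F (Frames.cons TT_s8_F (Frames.cons TT_s9_F (Frames.cons TT_s10_F (Frames.cons TT_s11_F (Frames.cons TT_s12_F Frames.nil)))))) (okE_cons.2 ⟨g509_ok, okE_nil _⟩) _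

noncomputable def tt_c13_cnt_t : BT := (BT.frm (nat_lit 0) (nat_lit 0) (nat_lit 0) [] (BT.pln (nat_lit 0) (nat_lit 1) (BT.br (nat_lit 0) (nat_lit 256) [nat_lit 1, nat_lit 3] (BT.kid (nat_lit 256) (nat_lit 32) (BT.img (nat_lit 1) (nat_lit 0) (BT.frm (nat_lit 1) (nat_lit 0x20b0b02) (nat_lit 0x20b0b02) [nat_lit 0, nat_lit 1] (BT.pln (nat_lit 0) (nat_lit 15) (BT.and (nat_lit 4) (nat_lit 0) (BT.br (nat_lit 0) (nat_lit 28) [nat_lit 3] (BT.kid (nat_lit 28) (nat_lit 8) (BT.pln (nat_lit 3) (nat_lit 14) (BT.and (nat_lit 7) (nat_lit 0) (BT.frm (nat_lit 2) (nat_lit 0x303020b0b02) (nat_lit 0x303020b0b02) [nat_lit 2, nat_lit 6, nat_lit 7] (BT.pln (nat_lit 0) (nat_lit 4) (BT.and (nat_lit 2) (nat_lit 0) (BT.pln (nat_lit 2) (nat_lit 5) (BT.and (nat_lit 1) (nat_lit 0) (BT.br (nat_lit 0) (nat_lit 137) [nat_lit 5] (BT.kid (nat_lit 137) (nat_lit 4) (BT.dif (nat_lit 14) (nat_lit 4) (BT.pln (nat_lit 6) (nat_lit 3) (BT.and (nat_lit 1) (nat_lit 0) (BT.dif (nat_lit 0)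 (nat_lit 5) (BT.dif (nat_lit 0) (nat_lit 14) (BT.br (nat_lit 0) (nat_lit 38) [nat_lit 7] (BT.kid (nat_lit 38) (nat_lit 2) (BT.pln (nat_lit 21) (nat_lit 2) (BT.and (nat_lit 0) (nat_lit 11) (BT.and (nat_lit 0) (nat_lit 10) (BT.frm (nat_lit 3) (nat_lit 0x303020b0b02) (nat_lit 0x303020b0b02) [nat_lit 9, nat_lit 17, nat_lit 21, nat_lit 22] (BT.pln (nat_lit 0) (nat_lit 4) (BT.and (nat_lit 2) (nat_lit 0) (BT.frm (nat_lit 4) (nat_lit 0x303020b0b02) (nat_lit 0x303020b0b02) [nat_lit 6, nat_lit 12, nat_lit 20, nat_lit 24, nat_lit 25] (BT.pln (nat_lit 0) (nat_lit 5) (BT.dif (nat_lit 2) (nat_lit 0) (BT.br (nat_lit 0) (nat_lit 237) [nat_lit 9] (BT.kid (nat_lit 237) (nat_lit 1) (BT.one (nat_lit 5) (nat_lit 0x303020b0b02) (nat_lit 0x303020b0b02) [nat_lit 0, nat_lit 10, nat_lit 16, nat_lit 24, nat_lit 28, nat_lit 29]) BT.nil))))))))))) BT.nil))))))) BT.nil))))))))) BT.nil)))))) BT.nil))))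

theorem tt_c13_cnt : Cnt 276 (grp 276 ht_c2_K) [g509] [g509] 0 0 0 0 768 :=
  BT.sound tt_c13_cnt_P Known.nil (t := tt_c13_cnt_t) (d := 0) (by decide +kernel)

theorem tt_c13_ge : 768 ≤ Nat.card (grp 276 tt_c13_K) :=
  Ch.le_card_grp (k := 9) (L := (lab 276 9)) hn tt_c13_K_ok (c := (Ch.cons (nat_lit 256) [nat_lit 1] (Ch.cons (nat_lit 28) [nat_lit 3] (Ch.cons (nat_lit 137) [nat_lit 5] (Ch.cons (nat_lit 38) [nat_lit 7] (Ch.cons (nat_lit 237) [nat_lit 9] Ch.nil)))))) (by decide +kernel)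

theorem tt_c13_eq : (grp 276 ht_c2_K) ⊓ Subgroup.centralizer {Net.toPerm 276 g509} = grp 276 tt_c13_K :=
  cent_eq tt_c13_sym tt_c13_cnt tt_c13_ge

theorem tt_c13_card : Nat.card ↥((grp 276 ht_c2_K) ⊓ Subgroup.centralizer {Net.toPerm 276 g509}) = 768 :=
  card_cent tt_c13_sym tt_c13_cnt tt_c13_ge

theorem tt_c13_ord : orderOf (Net.toPerm 276 g509) = 4 :=
  orderOf_net hn hk g509_ok (by decide) (ps := [2]) (by set_option linter.unusedSimpArgs false in simp [Nat.primeFactorsList_ofNat]) (by decide +kernel)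

theorem le516 : grp 276 tt_c14_K ≤ grp 276 ht_c2_K :=
  grp_le_of_memB hn hk ht_c2_K_ok tt_c14_K_ok (ws := [nat_lit 0xb09060305020402, nat_lit 0x604010507, nat_lit 0x3020402, nat_lit 0xb04020302, nat_lit 0xb010101]) (by decide +kernel)

theorem tt_c14_le : grp 276 tt_c14_K ≤ (grp 276 ht_c2_K) :=
  (le516.trans TT_s0.le)

theorem tt_c14_mem : Net.toPerm 276 g513 ∈ (grp 276 ht_c2_K) :=
  tt_c14_le (mem_grp_of_memB hn hk tt_c14_K_ok g513_ok (w := (nat_lit 65793)) (by decide +kernel))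

theorem tt_c14_sym : Sym 276 (grp 276 ht_c2_K) [g513] tt_c14_K 0 :=
  Sym.of_lab hn hk (okE_cons.2 ⟨g513_ok, okE_nil _⟩) tt_c14_K_ok tt_c14_le (kT := 0) (by decide +kernel)

noncomputable def tt_c14_cnt_L : List ℕ := [0, 4, TT_s0_O, 0, 0, 1, 8, TT_s1_O, 0, 0, 2, 19, TT_s2_O, 0, 0, 3, 9, TT_s3_O, 0, 0, 5, 13, TT_s5_O, 0, 0, 6, 10, TT_s6_O, 1, 0]

theorem tt_c14_cnt_P : Prob 276 9 (grp 276 ht_c2_K) tt_c14_cnt_EG [g513] [g513] tt_c14_K tt_c14_cnt_L 0 0 :=
  Sym.prob hn hk tt_c14_sym tt_c14_cnt_EG_ok (grp_cons_le g124_TT (grp_cons_le g125_TT (grp_cons_le g126_TT (grp_cons_le g127_TT (grp_cons_le n_k3_TT (grp_cons_le n_t_TT (grp_cons_le g414_TT (grp_cons_le g419_TT (grp_cons_le g420_TT (grp_cons_le g417_TT (grp_cons_le n_u_TT (grp_nil_le _)))))))))))) (Frames.cons TT_s0_F (Frames.cons TT_s1_F (Frames.cons TT_s2_F (Frames.cons TT_s3_F (Frames.cons TT_s5_F (Frames.cons TT_s6_F Frames.nil)))))) (okE_cons.2 ⟨g513_ok, okE_nil _⟩) _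

noncomputable def tt_c14_cnt_t : BT := (BT.frm (nat_lit 0) (nat_lit 0) (nat_lit 0) [] (BT.pln (nat_lit 0) (nat_lit 0) (BT.br (nat_lit 0) (nat_lit 176) [nat_lit 1, nat_lit 3] (BT.kid (nat_lit 176) (nat_lit 32) (BT.img (nat_lit 1) (nat_lit 0) (BT.frm (nat_lit 2) (nat_lit 3344) (nat_lit 3344) [nat_lit 0, nat_lit 1] (BT.pln (nat_lit 0) (nat_lit 15) (BT.and (nat_lit 4) (nat_lit 0) (BT.br (nat_lit 0) (nat_lit 244) [nat_lit 3] (BT.kid (nat_lit 244) (nat_lit 8) (BT.pln (nat_lit 3) (nat_lit 12) (BT.and (nat_lit 7) (nat_lit 0) (BT.frm (nat_lit 3) (nat_lit 3344) (nat_lit 3344) [nat_lit 2, nat_lit 6, nat_lit 7] (BT.pln (nat_lit 0) (nat_lit 3) (BT.dif (nat_lit 2) (nat_lit 0) (BT.pln (nat_lit 2) (nat_lit 4) (BT.dif (nat_lit 1) (nat_lit 0) (BT.br (nat_lit 0) (nat_lit 1) [nat_lit 5] (BT.kid (nat_lit 1) (nat_lit 4) (BT.dif (nat_lit 14) (nat_lit 4) (BT.pln (nat_lit 6) (nat_lit 6) (BT.and (nat_lit 1) (nat_lit 0) (BT.frm (nat_lit 1) (nat_lit 0) (nat_lit 0) [nat_lit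 16] (BT.pln (nat_lit 0) (nat_lit 4) (BT.and (nat_lit 2) (nat_lit 0) (BT.br (nat_lit 0) (nat_lit 116) [nat_lit 7] (BT.kid (nat_lit 116) (nat_lit 2) (BT.dif (nat_lit 25) (nat_lit 11) (BT.dif (nat_lit 0) (nat_lit 10) (BT.pln (nat_lit 14) (nat_lit 5) (BT.dif (nat_lit 1) (nat_lit 0) (BT.dif (nat_lit 0) (nat_lit 9) (BT.pln (nat_lit 17) (nat_lit 7) (BT.dif (nat_lit 1) (nat_lit 0) (BT.pln (nat_lit 29) (nat_lit 3) (BT.dif (nat_lit 1) (nat_lit 0) (BT.dif (nat_lit 0) (nat_lit 30) (BT.frm (nat_lit 4) (nat_lit 0x13110d10) (nat_lit 0x13110d10) [nat_lit 10, nat_lit 17, nat_lit 25, nat_lit 29, nat_lit 30] (BT.pln (nat_lit 0) (nat_lit 8) (BT.dif (nat_lit 2) (nat_lit 0) (BT.br (nat_lit 0) (nat_lit 39) [nat_lit 9] (BT.kid (nat_lit 39) (nat_lit 1) (BT.one (nat_lit 5) (nat_lit 0x1513110d10) (nat_lit 0x1513110d10) [nat_lit 0, nat_lit 14, nat_lit 21, nat_lit 29, nat_lit 33, nat_lit 34]) BT.nil))))))))))))))) BT.nil)))))))) BT.nil))))))))) BT.nil)))))) BT.nil))))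

theorem tt_c14_cnt : Cnt 276 (grp 276 ht_c2_K) [g513] [g513] 0 0 0 0 768 :=
  BT.sound tt_c14_cnt_P Known.nil (t := tt_c14_cnt_t) (d := 0) (by decide +kernel)

theorem tt_c14_ge : 768 ≤ Nat.card (grp 276 tt_c14_K) :=
  Ch.le_card_grp (k := 9) (L := (lab 276 9)) hn tt_c14_K_ok (c := (Ch.cons (nat_lit 176) [nat_lit 1] (Ch.cons (nat_lit 244) [nat_lit 3] (Ch.cons (nat_lit 1) [nat_lit 5] (Ch.cons (nat_lit 116) [nat_lit 7] (Ch.cons (nat_lit 39) [nat_lit 9] Ch.nil)))))) (by decide +kernel)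

theorem tt_c14_eq : (grp 276 ht_c2_K) ⊓ Subgroup.centralizer {Net.toPerm 276 g513} = grp 276 tt_c14_K :=
  cent_eq tt_c14_sym tt_c14_cnt tt_c14_ge

theorem tt_c14_card : Nat.card ↥((grp 276 ht_c2_K) ⊓ Subgroup.centralizer {Net.toPerm 276 g513}) = 768 :=
  card_cent tt_c14_sym tt_c14_cnt tt_c14_ge

theorem tt_c14_ord : orderOf (Net.toPerm 276 g513) = 4 :=
  orderOf_net hn hk g513_ok (by decide) (ps := [2]) (by set_option linter.unusedSimpArgs false in simp [Nat.primeFactorsList_ofNat]) (by decide +kernel)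

theorem le519 : grp 276 tt_c15_K ≤ grp 276 ht_c2_K :=
  grp_le_of_memB hn hk ht_c2_K_ok tt_c15_K_ok (ws := [nat_lit 0xb07050303010301, nat_lit 2308, nat_lit 0xb0907060305, nat_lit 7, nat_lit 11]) (by decide +kernel)

theorem tt_c15_le : grp 276 tt_c15_K ≤ (grp 276 ht_c2_K) :=
  (le519.trans TT_s0.le)

theorem tt_c15_mem : Net.toPerm 276 n_k5 ∈ (grp 276 ht_c2_K) :=
  tt_c15_le (mem_grp_of_memB hn hk tt_c15_K_ok n_k5_ok (w := (nat_lit 0x7050504010401)) (by decide +kernel))

theorem tt_c15_sym : Sym 276 (grp 276 ht_c2_K) [n_k5] tt_c15_K 0 :=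
  Sym.of_lab hn hk (okE_cons.2 ⟨n_k5_ok, okE_nil _⟩) tt_c15_K_ok tt_c15_le (kT := 0) (by decide +kernel)

theorem le521 : grp 276 V520 ≤ grp 276 V437 :=
  grp_le_of_memB hn hk V437_ok V520_ok (ws := []) (by decide +kernel)

theorem TT_s28 : Stab 276 (grp 276 ht_c2_K) [nat_lit 50, nat_lit 265, nat_lit 137, nat_lit 175, nat_lit 33] V520 1 :=
  Stab.step (k := 9) (L := (lab 276 9)) hn TT_s10 V520_ok le521 (c := Ch.nil) (by decide +kernel)

noncomputable def TT_s28_O : ℕ := (nat_lit 0x9993333366666ccccc99999b3333666664ccccd9999b3333266666ccccd9999933332c1f07c1f07c1f07c0f83e0f83e0f83e0f81f07c1f07c1f07c1f03e0f83e0f83e0f83e7319cc63398ce7319cc63398ce7319ce63398c67319ce63398c67319ce63398c6731826d926c93649b24db26d936c9b649b24d926d936c9b64db24d926c93649b64db26d92000000000000000000000000000000000000000000000000000000000000200000000000000000000000000000000080000000000000000000000000000000000000000000000000000000000000000000000000000020000000000000000000000000000000000002000000000000000000000000000000000000000000000000000000000000000000000000000000000000000000000000000000000000000000000000004000000000000)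

theorem TT_s28_F : Frame 276 (grp 276 ht_c2_K) 5 9 TT_s28_O 1 1 :=
  IsBase.frame TT_s28.isBase (by decide +kernel)

noncomputable def tt_c15_cnt_L : List ℕ := [0, 4, TT_s0_O, 0, 0, 1, 8, TT_s7_O, 0, 0, 2, 19, TT_s8_O, 0, 0, 3, 9, TT_s9_O, 0, 0, 4, 11, TT_s10_O, 0, 0, 5, 9, TT_s28_O, 1, 0]

theorem tt_c15_cnt_P : Prob 276 9 (grp 276 ht_c2_K) tt_c15_cnt_EG [n_k5] [n_k5] tt_c15_K tt_c15_cnt_L 0 0 :=
  Sym.prob hn hk tt_c15_sym tt_c15_cnt_EG_ok (grp_cons_le g124_TT (grp_cons_le g125_TT (grp_cons_le g126_TT (grp_cons_le g127_TT (grp_cons_le n_k3_TT (grp_cons_le n_t_TT (grp_nil_le _))))))) (Frames.cons TT_s0_F (Frames.cons TT_s7_F (Frames.cons TT_s8_F (Frames.cons TT_s9_F (Frames.cons TT_s10_F (Frames.cons TT_s28_F Frames.nil)))))) (okE_cons.2 ⟨n_k5_ok, okE_nil _⟩) _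

noncomputable def tt_c15_cnt_t : BT := (BT.frm (nat_lit 0) (nat_lit 0) (nat_lit 0) [] (BT.pln (nat_lit 0) (nat_lit 1) (BT.fix (nat_lit 1) (BT.dif (nat_lit 1) (nat_lit 0) (BT.br (nat_lit 0) (nat_lit 33) [nat_lit 1, nat_lit 5] (BT.kid (nat_lit 33) (nat_lit 96) (BT.frm (nat_lit 1) (nat_lit 0) (nat_lit 0) [nat_lit 0] (BT.pln (nat_lit 0) (nat_lit 6) (BT.and (nat_lit 3) (nat_lit 0) (BT.br (nat_lit 0) (nat_lit 4) [nat_lit 3, nat_lit 5] (BT.kid (nat_lit 4) (nat_lit 16) (BT.frm (nat_lit 2) (nat_lit 4) (nat_lit 4) [nat_lit 0, nat_lit 4] (BT.pln (nat_lit 0) (nat_lit 15) (BT.and (nat_lit 4) (nat_lit 0) (BT.br (nat_lit 0) (nat_lit 149) [nat_lit 5] (BT.kid (nat_lit 149) (nat_lit 4) (BT.pln (nat_lit 3) (nat_lit 12) (BT.dif (nat_lit 11) (nat_lit 0) (BT.frm (nat_lit 3) (nat_lit 328964) (nat_lit 328964) [nat_lit 2, nat_lit 6, nat_lit 10] (BT.pln (nat_lit 0) (nat_lit 4) (BT.and (nat_lit 2) (nat_lit 0) (BT.pln (nat_lit 2) (nat_lit 5) (BT.and (nat_lit 1) (nat_lit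 0) (BT.br (nat_lit 0) (nat_lit 52) [nat_lit 7] (BT.kid (nat_lit 52) (nat_lit 2) (BT.dif (nat_lit 23) (nat_lit 4) (BT.pln (nat_lit 6) (nat_lit 7) (BT.and (nat_lit 1) (nat_lit 0) (BT.pln (nat_lit 8) (nat_lit 3) (BT.dif (nat_lit 1) (nat_lit 0) (BT.pln (nat_lit 25) (nat_lit 0) (BT.dif (nat_lit 1) (nat_lit 0) (BT.pln (nat_lit 12) (nat_lit 6) (BT.dif (nat_lit 1) (nat_lit 0) (BT.frm (nat_lit 4) (nat_lit 0x7050504) (nat_lit 0x7050504) [nat_lit 9, nat_lit 17, nat_lit 21, nat_lit 25] (BT.pln (nat_lit 0) (nat_lit 6) (BT.dif (nat_lit 2) (nat_lit 0) (BT.br (nat_lit 0) (nat_lit 0) [nat_lit 9] (BT.dead (nat_lit 201) (BT.frm (nat_lit 5) (nat_lit 0xb07050504) (nat_lit 0x907050504) [nat_lit 0, nat_lit 13, nat_lit 21, nat_lit 25, nat_lit 29] (BT.pln (nat_lit 0) (nat_lit 6) (BT.img (nat_lit 1) (nat_lit 2) (BT.and (nat_lit 1) (nat_lit 0) (BT.cnt (nat_lit 0)))))) (BT.kid (nat_lit 0) (nat_lit 1) (BT.one (nat_lit 5) (nat_lit 0xb07050504) (nat_lit 0xb07050504) [nat_lit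 0, nat_lit 13, nat_lit 21, nat_lit 25, nat_lit 29]) BT.nil))))))))))))))) BT.nil))))))))) BT.nil))))) BT.nil))))) BT.nil))))))

theorem tt_c15_cnt : Cnt 276 (grp 276 ht_c2_K) [n_k5] [n_k5] 0 0 0 0 768 :=
  BT.sound tt_c15_cnt_P Known.nil (t := tt_c15_cnt_t) (d := 0) (by decide +kernel)

theorem tt_c15_ge : 768 ≤ Nat.card (grp 276 tt_c15_K) :=
  Ch.le_card_grp (k := 9) (L := (lab 276 9)) hn tt_c15_K_ok (c := (Ch.cons (nat_lit 33) [nat_lit 1] (Ch.cons (nat_lit 4) [nat_lit 3] (Ch.cons (nat_lit 149) [nat_lit 5] (Ch.cons (nat_lit 52) [nat_lit 7] (Ch.cons (nat_lit 0) [nat_lit 9] Ch.nil)))))) (by decide +kernel)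

theorem tt_c15_eq : (grp 276 ht_c2_K) ⊓ Subgroup.centralizer {Net.toPerm 276 n_k5} = grp 276 tt_c15_K :=
  cent_eq tt_c15_sym tt_c15_cnt tt_c15_ge

theorem tt_c15_card : Nat.card ↥((grp 276 ht_c2_K) ⊓ Subgroup.centralizer {Net.toPerm 276 n_k5}) = 768 :=
  card_cent tt_c15_sym tt_c15_cnt tt_c15_ge

theorem tt_c15_ord : orderOf (Net.toPerm 276 n_k5) = 4 :=
  orderOf_net hn hk n_k5_ok (by decide) (ps := [2]) (by set_option linter.unusedSimpArgs false in simp [Nat.primeFactorsList_ofNat]) (by decide +kernel)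

theorem le527 : grp 276 tt_c16_K ≤ grp 276 ht_c2_K :=
  grp_le_of_memB hn hk ht_c2_K_ok tt_c16_K_ok (ws := [nat_lit 0x70604010103, nat_lit 0x905050306010301, nat_lit 0xb07010105, nat_lit 0x4010301, nat_lit 0xb010101]) (by decide +kernel)

theorem tt_c16_le : grp 276 tt_c16_K ≤ (grp 276 ht_c2_K) :=
  (le527.trans TT_s0.le)

theorem tt_c16_mem : Net.toPerm 276 g522 ∈ (grp 276 ht_c2_K) :=
  tt_c16_le (mem_grp_of_memB hn hk tt_c16_K_ok g522_ok (w := (nat_lit 0x705050101)) (by decide +kernel))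

theorem tt_c16_sym : Sym 276 (grp 276 ht_c2_K) [g522] tt_c16_K 0 :=
  Sym.of_lab hn hk (okE_cons.2 ⟨g522_ok, okE_nil _⟩) tt_c16_K_ok tt_c16_le (kT := 0) (by decide +kernel)

theorem le529 : grp 276 V528 ≤ grp 276 V425 :=
  grp_le_of_memB hn hk V425_ok V528_ok (ws := []) (by decide +kernel)

theorem TT_s29 : Stab 276 (grp 276 ht_c2_K) [nat_lit 36, nat_lit 84, nat_lit 32, nat_lit 185, nat_lit 176] V528 1 :=
  Stab.step (k := 9) (L := (lab 276 9)) hn TT_s4 V528_ok le529 (c := Ch.nil) (by decide +kernel)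

noncomputable def TT_s29_O : ℕ := (nat_lit 0x9993333366666ccccc99999b3333666664ccccd9999b3333266666ccccd9999933332c1f07c1f07c1f07c0f83e0f83e0f83e0f81f07c1f07c1f07c1f03e0f83e0f83e0f83e7319cc63398ce7319cc63398ce7319ce63398c67319ce63398c67319ce63398c6731826d926c93649b24db26d936c9b649b24d926d936c9b64db24d926c93649b64db26d92000000000000000000000000100000000000000000000000000000000000000000000000000000000000000000020000000000000000000000000000000000000000000000000000000000000000000000000000000000000000000000000000000000100000000000000000000000000000000000000000000000000000001000000000000000000000000000000000000000000000000000000000000000000000000000000001000000000)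

theorem TT_s29_F : Frame 276 (grp 276 ht_c2_K) 5 9 TT_s29_O 1 1 :=
  IsBase.frame TT_s29.isBase (by decide +kernel)

noncomputable def TT_s4_O : ℕ := (nat_lit 0x100060010000010320110500008084202000000000008000108020000010080000002c7d59bc02f3f0af89780824c867b7b4c1fd95b0df19d7934e4499d807640000001000a7e88cd9bbc89bd0d56ec2850146310e0733d1a1d7546d400932014b88ee63ffc1000c02205c0cb7feaa88033e8072333046fd5ee8eb53c6a44b6b0f9715d01fce3003fe00662b652c24cb94c95f771cc0463876a1ca5723ddb9d244eca7004dc849ec0ce83d1e2454286bee60072e2e3b79b5c2a3eba1a10fc64f5c48d64fc18ec8f0ab9a0e8d63299a084a2dc1e0553ac746da93d5c9dc5494be55f89e3d4f583ada63a8d42ccacab52a554000000000000000000000000100000000000000000000000000000000000000000000000000000000000000000020000000000000000000000000000000000000000000000000000000000000000000000000000000000000000000000000000000000100000000000000000000000000000000000000000000000000000001000000000000000000000)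

theorem TT_s4_F : Frame 276 (grp 276 ht_c2_K) 4 11 TT_s4_O 0 1 :=
  Stab.frame hn TT_s4 (by decide +kernel)

noncomputable def tt_c16_cnt_L : List ℕ := [0, 4, TT_s0_O, 0, 0, 1, 8, TT_s1_O, 0, 0, 2, 19, TT_s2_O, 0, 0, 3, 9, TT_s3_O, 0, 0, 4, 11, TT_s4_O, 0, 0, 5, 9, TT_s29_O, 1, 0]

theorem tt_c16_cnt_P : Prob 276 9 (grp 276 ht_c2_K) tt_c16_cnt_EG [g522] [g522] tt_c16_K tt_c16_cnt_L 0 0 :=
  Sym.prob hn hk tt_c16_sym tt_c16_cnt_EG_ok (grp_cons_le g124_TT (grp_cons_le g125_TT (grp_cons_le g126_TT (grp_cons_le g127_TT (grp_cons_le n_k3_TT (grp_cons_le n_t_TT (grp_cons_le g414_TT (grp_cons_le g419_TT (grp_cons_le g420_TT (grp_cons_le g417_TT (grp_cons_le n_u_TT (grp_nil_le _)))))))))))) (Frames.cons TT_s0_F (Frames.cons TT_s1_F (Frames.cons TT_s2_F (Frames.cons TT_s3_F (Frames.cons TT_s4_F (Frames.cons TT_s29_F Frames.nil)))))) (okE_cons.2 ⟨g522_ok, okE_nil _⟩) _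

noncomputable def tt_c16_cnt_t : BT := (BT.frm (nat_lit 0) (nat_lit 0) (nat_lit 0) [] (BT.pln (nat_lit 0) (nat_lit 0) (BT.fix (nat_lit 1) (BT.dif (nat_lit 1) (nat_lit 0) (BT.br (nat_lit 0) (nat_lit 40) [nat_lit 1, nat_lit 3, nat_lit 5] (BT.kid (nat_lit 40) (nat_lit 96) (BT.frm (nat_lit 1) (nat_lit 257) (nat_lit 257) [nat_lit 0] (BT.pln (nat_lit 0) (nat_lit 6) (BT.and (nat_lit 3) (nat_lit 0) (BT.br (nat_lit 0) (nat_lit 1) [nat_lit 3, nat_lit 5] (BT.kid (nat_lit 1) (nat_lit 16) (BT.frm (nat_lit 2) (nat_lit 917761) (nat_lit 917761) [nat_lit 0, nat_lit 4] (BT.pln (nat_lit 0) (nat_lit 15) (BT.and (nat_lit 4) (nat_lit 0) (BT.br (nat_lit 0) (nat_lit 84) [nat_lit 5] (BT.kid (nat_lit 84) (nat_lit 4) (BT.pln (nat_lit 3) (nat_lit 10) (BT.dif (nat_lit 11) (nat_lit 0) (BT.frm (nat_lit 3) (nat_lit 0xf0f0e0101) (nat_lit 0xf0f0e0101) [nat_lit 2, nat_lit 6, nat_lit 10] (BT.pln (nat_lit 0) (nat_lit 3) (BT.dif (nat_lit 2) (nat_lit 0) (BT.pln (nat_lit 2) (nat_lit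 4) (BT.dif (nat_lit 1) (nat_lit 0) (BT.br (nat_lit 0) (nat_lit 75) [nat_lit 7] (BT.kid (nat_lit 75) (nat_lit 2) (BT.dif (nat_lit 23) (nat_lit 4) (BT.dif (nat_lit 0) (nat_lit 3) (BT.pln (nat_lit 7) (nat_lit 5) (BT.dif (nat_lit 1) (nat_lit 0) (BT.pln (nat_lit 9) (nat_lit 6) (BT.dif (nat_lit 1) (nat_lit 0) (BT.pln (nat_lit 11) (nat_lit 7) (BT.dif (nat_lit 1) (nat_lit 0) (BT.pln (nat_lit 28) (nat_lit 3) (BT.dif (nat_lit 1) (nat_lit 0) (BT.dif (nat_lit 0) (nat_lit 29) (BT.frm (nat_lit 4) (nat_lit 0x110f0f0e0101) (nat_lit 0x110f0f0e0101) [nat_lit 11, nat_lit 19, nat_lit 23, nat_lit 27] (BT.pln (nat_lit 0) (nat_lit 5) (BT.dif (nat_lit 2) (nat_lit 0) (BT.br (nat_lit 0) (nat_lit 131) [nat_lit 9] (BT.dead (nat_lit 172) (BT.frm (nat_lit 5) (nat_lit 0x13110f0f0e0101) (nat_lit 0x110f0f0e0101) [nat_lit 0, nat_lit 15, nat_lit 23, nat_lit 27, nat_lit 31] (BT.pln (nat_lit 0) (nat_lit 5) (BT.img (nat_lit 1) (nat_lit 2) (BT.and (nat_lit 1) (nat_lit 0) (BT.cnt (nat_lit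 0)))))) (BT.kid (nat_lit 131) (nat_lit 1) (BT.one (nat_lit 5) (nat_lit 0x13110f0f0e0101) (nat_lit 0x13110f0f0e0101) [nat_lit 0, nat_lit 15, nat_lit 23, nat_lit 27, nat_lit 31]) BT.nil))))))))))))))))) BT.nil))))))))) BT.nil))))) BT.nil))))) BT.nil))))))

theorem tt_c16_cnt : Cnt 276 (grp 276 ht_c2_K) [g522] [g522] 0 0 0 0 768 :=
  BT.sound tt_c16_cnt_P Known.nil (t := tt_c16_cnt_t) (d := 0) (by decide +kernel)

theorem tt_c16_ge : 768 ≤ Nat.card (grp 276 tt_c16_K) :=
  Ch.le_card_grp (k := 9) (L := (lab 276 9)) hn tt_c16_K_ok (c := (Ch.cons (nat_lit 40) [nat_lit 1] (Ch.cons (nat_lit 1) [nat_lit 3] (Ch.cons (nat_lit 84) [nat_lit 5] (Ch.cons (nat_lit 75) [nat_lit 7] (Ch.cons (nat_lit 131) [nat_lit 9] Ch.nil)))))) (by decide +kernel)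

theorem tt_c16_eq : (grp 276 ht_c2_K) ⊓ Subgroup.centralizer {Net.toPerm 276 g522} = grp 276 tt_c16_K :=
  cent_eq tt_c16_sym tt_c16_cnt tt_c16_ge

theorem tt_c16_card : Nat.card ↥((grp 276 ht_c2_K) ⊓ Subgroup.centralizer {Net.toPerm 276 g522}) = 768 :=
  card_cent tt_c16_sym tt_c16_cnt tt_c16_ge

theorem tt_c16_ord : orderOf (Net.toPerm 276 g522) = 4 :=
  orderOf_net hn hk g522_ok (by decide) (ps := [2]) (by set_option linter.unusedSimpArgs false in simp [Nat.primeFactorsList_ofNat]) (by decide +kernel)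

theorem le533 : grp 276 tt_c17_K ≤ grp 276 ht_c2_K :=
  grp_le_of_memB hn hk ht_c2_K_ok tt_c17_K_ok (ws := [nat_lit 0x706010501, nat_lit 0xb050503020302, nat_lit 0xb090706, nat_lit 0x3020402, nat_lit 0xb010101]) (by decide +kernel)

theorem tt_c17_le : grp 276 tt_c17_K ≤ (grp 276 ht_c2_K) :=
  (le533.trans TT_s0.le)

theorem tt_c17_mem : Net.toPerm 276 g530 ∈ (grp 276 ht_c2_K) :=
  tt_c17_le (toPerm_mem_grp (E := tt_c17_K) (List.Mem.head _))

theorem tt_c17_sym : Sym 276 (grp 276 ht_c2_K) [g530] tt_c17_K 0 :=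
  Sym.of_lab hn hk (okE_cons.2 ⟨g530_ok, okE_nil _⟩) tt_c17_K_ok tt_c17_le (kT := 0) (by decide +kernel)

noncomputable def tt_c17_cnt_L : List ℕ := [0, 4, TT_s0_O, 0, 0, 1, 8, TT_s1_O, 0, 0, 2, 19, TT_s2_O, 0, 0, 3, 9, TT_s3_O, 0, 0, 5, 13, TT_s5_O, 0, 0, 6, 10, TT_s6_O, 1, 0]

theorem tt_c17_cnt_P : Prob 276 9 (grp 276 ht_c2_K) tt_c17_cnt_EG [g530] [g530] tt_c17_K tt_c17_cnt_L 0 0 :=
  Sym.prob hn hk tt_c17_sym tt_c17_cnt_EG_ok (grp_cons_le g124_TT (grp_cons_le g125_TT (grp_cons_le g126_TT (grp_cons_le g127_TT (grp_cons_le n_k3_TT (grp_cons_le n_t_TT (grp_cons_le g414_TT (grp_cons_le g419_TT (grp_cons_le g420_TT (grp_cons_le g417_TT (grp_cons_le n_u_TT (grp_nil_le _)))))))))))) (Frames.cons TT_s0_F (Frames.cons TT_s1_F (Frames.cons TT_s2_F (Frames.cons TT_s3_F (Frames.cons TT_s5_F (Frames.cons TT_s6_F Frames.nil)))))) (okE_cons.2 ⟨g530_ok, okE_nil _⟩) _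

noncomputable def tt_c17_cnt_t : BT := (BT.frm (nat_lit 0) (nat_lit 0) (nat_lit 0) [] (BT.pln (nat_lit 0) (nat_lit 0) (BT.br (nat_lit 0) (nat_lit 176) [nat_lit 3, nat_lit 5] (BT.dead (nat_lit 145) (BT.img (nat_lit 1) (nat_lit 0) (BT.frm (nat_lit 2) (nat_lit 13) (nat_lit 1) [nat_lit 0, nat_lit 1] (BT.pln (nat_lit 0) (nat_lit 8) (BT.fix (nat_lit 1) (BT.and (nat_lit 1) (nat_lit 0) (BT.cnt (nat_lit 0))))))) (BT.kid (nat_lit 176) (nat_lit 16) (BT.img (nat_lit 1) (nat_lit 0) (BT.frm (nat_lit 2) (nat_lit 13) (nat_lit 13) [nat_lit 0, nat_lit 1] (BT.pln (nat_lit 0) (nat_lit 15) (BT.and (nat_lit 4) (nat_lit 0) (BT.br (nat_lit 0) (nat_lit 65) [nat_lit 5] (BT.kid (nat_lit 65) (nat_lit 4) (BT.pln (nat_lit 3) (nat_lit 12) (BT.and (nat_lit 7) (nat_lit 0) (BT.frm (nat_lit 3) (nat_lit 986893) (nat_lit 986893) [nat_lit 2, nat_lit 6, nat_lit 7] (BT.pln (nat_lit 0) (nat_lit 3) (BT.dif (nat_lit 2) (nat_lit 0) (BT.pln (nat_lit 2) (nat_lit 4) (BT.dif (nat_lit 1) (nat_lit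 0) (BT.br (nat_lit 0) (nat_lit 98) [nat_lit 7] (BT.kid (nat_lit 98) (nat_lit 2) (BT.dif (nat_lit 14) (nat_lit 4) (BT.pln (nat_lit 6) (nat_lit 6) (BT.and (nat_lit 1) (nat_lit 0) (BT.frm (nat_lit 1) (nat_lit 0) (nat_lit 0) [nat_lit 16] (BT.pln (nat_lit 0) (nat_lit 4) (BT.and (nat_lit 2) (nat_lit 0) (BT.br (nat_lit 0) (nat_lit 220) [] (BT.dead (nat_lit 153) (BT.frm (nat_lit 4) (nat_lit 0x110f0f0d) (nat_lit 0x13110f0f0d) [nat_lit 0, nat_lit 7, nat_lit 15, nat_lit 19, nat_lit 20] (BT.pln (nat_lit 0) (nat_lit 7) (BT.fix (nat_lit 1) (BT.and (nat_lit 1) (nat_lit 0) (BT.cnt (nat_lit 0)))))) (BT.kid (nat_lit 220) (nat_lit 2) (BT.dif (nat_lit 25) (nat_lit 11) (BT.dif (nat_lit 0) (nat_lit 10) (BT.pln (nat_lit 14) (nat_lit 5) (BT.dif (nat_lit 1) (nat_lit 0) (BT.dif (nat_lit 0) (nat_lit 9) (BT.pln (nat_lit 17) (nat_lit 7) (BT.dif (nat_lit 1) (nat_lit 0) (BT.pln (nat_lit 29) (nat_lit 3) (BT.dif (nat_lit 1) (nat_lit 0) (BT.dif (nat_lit 0) (nat_lit 30) (BT.frm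 (nat_lit 4) (nat_lit 0x110f0f0d) (nat_lit 0x110f0f0d) [nat_lit 10, nat_lit 17, nat_lit 25, nat_lit 29, nat_lit 30] (BT.pln (nat_lit 0) (nat_lit 8) (BT.dif (nat_lit 2) (nat_lit 0) (BT.br (nat_lit 0) (nat_lit 115) [nat_lit 9] (BT.kid (nat_lit 115) (nat_lit 1) (BT.one (nat_lit 5) (nat_lit 0x110f0f0d) (nat_lit 0x110f0f0d) [nat_lit 0, nat_lit 14, nat_lit 21, nat_lit 29, nat_lit 33, nat_lit 34]) BT.nil))))))))))))))) BT.nil))))))))) BT.nil))))))))) BT.nil)))))) BT.nil)))))

theorem tt_c17_cnt : Cnt 276 (grp 276 ht_c2_K) [g530] [g530] 0 0 0 0 128 :=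
  BT.sound tt_c17_cnt_P Known.nil (t := tt_c17_cnt_t) (d := 0) (by decide +kernel)

theorem tt_c17_ge : 128 ≤ Nat.card (grp 276 tt_c17_K) :=
  Ch.le_card_grp (k := 9) (L := (lab 276 9)) hn tt_c17_K_ok (c := (Ch.cons (nat_lit 176) [nat_lit 1, nat_lit 3] (Ch.cons (nat_lit 65) [nat_lit 5] (Ch.cons (nat_lit 98) [nat_lit 7] (Ch.cons (nat_lit 115) [nat_lit 9] Ch.nil))))) (by decide +kernel)

theorem tt_c17_eq : (grp 276 ht_c2_K) ⊓ Subgroup.centralizer {Net.toPerm 276 g530} = grp 276 tt_c17_K :=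
  cent_eq tt_c17_sym tt_c17_cnt tt_c17_ge

theorem tt_c17_card : Nat.card ↥((grp 276 ht_c2_K) ⊓ Subgroup.centralizer {Net.toPerm 276 g530}) = 128 :=
  card_cent tt_c17_sym tt_c17_cnt tt_c17_ge

theorem tt_c17_ord : orderOf (Net.toPerm 276 g530) = 4 :=
  orderOf_net hn hk g530_ok (by decide) (ps := [2]) (by set_option linter.unusedSimpArgs false in simp [Nat.primeFactorsList_ofNat]) (by decide +kernel)

theorem le539 : grp 276 tt_c18_K ≤ grp 276 ht_c2_K :=
  grp_le_of_memB hn hk ht_c2_K_ok tt_c18_K_ok (ws := [nat_lit 0xb050503060203, nat_lit 0xb050504020402, nat_lit 0x9070604010105, nat_lit 0xb07010101, nat_lit 2825, nat_lit 11]) (by decide +kernel)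

theorem tt_c18_le : grp 276 tt_c18_K ≤ (grp 276 ht_c2_K) :=
  (le539.trans TT_s0.le)

theorem tt_c18_mem : Net.toPerm 276 g534 ∈ (grp 276 ht_c2_K) :=
  tt_c18_le (toPerm_mem_grp (E := tt_c18_K) (List.Mem.tail _ (List.Mem.head _)))

theorem tt_c18_sym : Sym 276 (grp 276 ht_c2_K) [g534] tt_c18_K 0 :=
  Sym.of_lab hn hk (okE_cons.2 ⟨g534_ok, okE_nil _⟩) tt_c18_K_ok tt_c18_le (kT := 0) (by decide +kernel)

noncomputable def tt_c18_cnt_L : List ℕ := [0, 4, TT_s0_O, 0, 0, 1, 8, TT_s7_O, 0, 0, 2, 19, TT_s8_O, 0, 0, 3, 9, TT_s9_O, 0, 0, 4, 11, TT_s10_O, 0, 0, 5, 13, TT_s11_O, 0, 0, 6, 10, TT_s12_O, 1, 0]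

theorem tt_c18_cnt_P : Prob 276 9 (grp 276 ht_c2_K) tt_c18_cnt_EG [g534] [g534] tt_c18_K tt_c18_cnt_L 0 0 :=
  Sym.prob hn hk tt_c18_sym tt_c18_cnt_EG_ok (grp_cons_le g124_TT (grp_cons_le g125_TT (grp_cons_le g126_TT (grp_cons_le g127_TT (grp_cons_le n_k3_TT (grp_cons_le n_t_TT (grp_nil_le _))))))) (Frames.cons TT_s0_F (Frames.cons TT_s7_F (Frames.cons TT_s8_F (Frames.cons TT_s9_F (Frames.cons TT_s10_F (Frames.cons TT_s11_F (Frames.cons TT_s12_F Frames.nil))))))) (okE_cons.2 ⟨g534_ok, okE_nil _⟩) _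

noncomputable def tt_c18_cnt_t : BT := (BT.frm (nat_lit 0) (nat_lit 0) (nat_lit 0) [] (BT.pln (nat_lit 0) (nat_lit 1) (BT.fix (nat_lit 1) (BT.and (nat_lit 1) (nat_lit 0) (BT.br (nat_lit 0) (nat_lit 269) [nat_lit 1] (BT.kid (nat_lit 269) (nat_lit 32) (BT.frm (nat_lit 1) (nat_lit 257) (nat_lit 257) [nat_lit 0] (BT.pln (nat_lit 0) (nat_lit 6) (BT.and (nat_lit 5) (nat_lit 0) (BT.dif (nat_lit 0) (nat_lit 5) (BT.br (nat_lit 0) (nat_lit 265) [nat_lit 5] (BT.kid (nat_lit 265) (nat_lit 8) (BT.dif (nat_lit 3) (nat_lit 7) (BT.frm (nat_lit 2) (nat_lit 0x3050101) (nat_lit 0x3050101) [nat_lit 1, nat_lit 6] (BT.pln (nat_lit 0) (nat_lit 15) (BT.and (nat_lit 2) (nat_lit 0) (BT.br (nat_lit 0) (nat_lit 38) [] (BT.dead (nat_lit 227) (BT.dif (nat_lit 13) (nat_lit 8) (BT.pln (nat_lit 4) (nat_lit 14) (BT.and (nat_lit 1) (nat_lit 0) (BT.frm (nat_lit 3) (nat_lit 0x503050101) (nat_lit 0x603050101) [nat_lit 3, nat_lit 8, nat_lit 13] (BT.pln (nat_lit 0) (nat_lit 4) (BT.and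 (nat_lit 2) (nat_lit 0) (BT.pln (nat_lit 2) (nat_lit 5) (BT.and (nat_lit 1) (nat_lit 0) (BT.br (nat_lit 0) (nat_lit 175) [nat_lit 7] (BT.dead (nat_lit 149) (BT.dif (nat_lit 22) (nat_lit 4) (BT.pln (nat_lit 6) (nat_lit 3) (BT.and (nat_lit 1) (nat_lit 0) (BT.dif (nat_lit 0) (nat_lit 5) (BT.dif (nat_lit 0) (nat_lit 25) (BT.br (nat_lit 0) (nat_lit 28) [nat_lit 9] (BT.dead (nat_lit 72) (BT.pln (nat_lit 29) (nat_lit 2) (BT.and (nat_lit 0) (nat_lit 11) (BT.and (nat_lit 0) (nat_lit 10) (BT.frm (nat_lit 4) (nat_lit 0x503050101) (nat_lit 0x70603050101) [nat_lit 9, nat_lit 18, nat_lit 23, nat_lit 28] (BT.pln (nat_lit 0) (nat_lit 4) (BT.and (nat_lit 2) (nat_lit 0) (BT.frm (nat_lit 5) (nat_lit 0x503050101) (nat_lit 0x9070603050101) [nat_lit 6, nat_lit 12, nat_lit 21, nat_lit 26, nat_lit 31] (BT.pln (nat_lit 0) (nat_lit 5) (BT.dif (nat_lit 2) (nat_lit 0) (BT.br (nat_lit 0) (nat_lit 237) [nat_lit 11] (BT.dead (nat_lit 165) (BT.frm (nat_lit 6) (nat_lit 0x503050101)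 (nat_lit 0x9070603050101) [nat_lit 0, nat_lit 10, nat_lit 16, nat_lit 25, nat_lit 30, nat_lit 35] (BT.pln (nat_lit 0) (nat_lit 6) (BT.img (nat_lit 1) (nat_lit 2) (BT.and (nat_lit 1) (nat_lit 0) (BT.cnt (nat_lit 0)))))) BT.nil))))))))))) BT.nil))))))) BT.nil)))))))))) (BT.kid (nat_lit 38) (nat_lit 8) (BT.dif (nat_lit 13) (nat_lit 8) (BT.pln (nat_lit 4) (nat_lit 14) (BT.and (nat_lit 1) (nat_lit 0) (BT.frm (nat_lit 3) (nat_lit 0x503050101) (nat_lit 0x503050101) [nat_lit 3, nat_lit 8, nat_lit 13] (BT.pln (nat_lit 0) (nat_lit 4) (BT.and (nat_lit 2) (nat_lit 0) (BT.pln (nat_lit 2) (nat_lit 5) (BT.and (nat_lit 1) (nat_lit 0) (BT.br (nat_lit 0) (nat_lit 175) [nat_lit 7] (BT.kid (nat_lit 175) (nat_lit 4) (BT.dif (nat_lit 22) (nat_lit 4) (BT.pln (nat_lit 6) (nat_lit 3) (BT.and (nat_lit 1) (nat_lit 0) (BT.dif (nat_lit 0) (nat_lit 5) (BT.dif (nat_lit 0) (nat_lit 25) (BT.br (nat_lit 0) (nat_lit 28) [nat_lit 9] (BT.kid (nat_lit 28) (nat_lit 2) (BT.pln (nat_lit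 29) (nat_lit 2) (BT.and (nat_lit 0) (nat_lit 11) (BT.and (nat_lit 0) (nat_lit 10) (BT.frm (nat_lit 4) (nat_lit 0x503050101) (nat_lit 0x503050101) [nat_lit 9, nat_lit 18, nat_lit 23, nat_lit 28] (BT.pln (nat_lit 0) (nat_lit 4) (BT.and (nat_lit 2) (nat_lit 0) (BT.frm (nat_lit 5) (nat_lit 0x503050101) (nat_lit 0x503050101) [nat_lit 6, nat_lit 12, nat_lit 21, nat_lit 26, nat_lit 31] (BT.pln (nat_lit 0) (nat_lit 5) (BT.dif (nat_lit 2) (nat_lit 0) (BT.br (nat_lit 0) (nat_lit 237) [nat_lit 11] (BT.kid (nat_lit 237) (nat_lit 1) (BT.one (nat_lit 6) (nat_lit 0x503050101) (nat_lit 0x503050101) [nat_lit 0, nat_lit 10, nat_lit 16, nat_lit 25, nat_lit 30, nat_lit 35]) BT.nil))))))))))) BT.nil))))))) BT.nil)))))))))) BT.nil))))))) BT.nil)))))) BT.nil))))))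

theorem tt_c18_cnt : Cnt 276 (grp 276 ht_c2_K) [g534] [g534] 0 0 0 0 128 :=
  BT.sound tt_c18_cnt_P Known.nil (t := tt_c18_cnt_t) (d := 0) (by decide +kernel)

theorem tt_c18_ge : 128 ≤ Nat.card (grp 276 tt_c18_K) :=
  Ch.le_card_grp (k := 9) (L := (lab 276 9)) hn tt_c18_K_ok (c := (Ch.cons (nat_lit 269) [nat_lit 1] (Ch.cons (nat_lit 265) [nat_lit 3, nat_lit 5] (Ch.cons (nat_lit 175) [nat_lit 7] (Ch.cons (nat_lit 28) [nat_lit 9] (Ch.cons (nat_lit 237) [nat_lit 11] Ch.nil)))))) (by decide +kernel)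

theorem tt_c18_eq : (grp 276 ht_c2_K) ⊓ Subgroup.centralizer {Net.toPerm 276 g534} = grp 276 tt_c18_K :=
  cent_eq tt_c18_sym tt_c18_cnt tt_c18_ge

theorem tt_c18_card : Nat.card ↥((grp 276 ht_c2_K) ⊓ Subgroup.centralizer {Net.toPerm 276 g534}) = 128 :=
  card_cent tt_c18_sym tt_c18_cnt tt_c18_ge

theorem tt_c18_ord : orderOf (Net.toPerm 276 g534) = 4 :=
  orderOf_net hn hk g534_ok (by decide) (ps := [2]) (by set_option linter.unusedSimpArgs false in simp [Nat.primeFactorsList_ofNat]) (by decide +kernel)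

theorem le543 : grp 276 tt_c19_K ≤ grp 276 ht_c2_K :=
  grp_le_of_memB hn hk ht_c2_K_ok tt_c19_K_ok (ws := [nat_lit 0xb010507, nat_lit 0xb0905010501, nat_lit 0xb090504010307, nat_lit 0xb03020402, nat_lit 0xb06020502]) (by decide +kernel)

theorem tt_c19_le : grp 276 tt_c19_K ≤ (grp 276 ht_c2_K) :=
  (le543.trans TT_s0.le)

theorem tt_c19_mem : Net.toPerm 276 g540 ∈ (grp 276 ht_c2_K) :=
  tt_c19_le (toPerm_mem_grp (E := tt_c19_K) (List.Mem.tail _ (List.Mem.head _)))

theorem tt_c19_sym : Sym 276 (grp 276 ht_c2_K) [g540] tt_c19_K 0 :=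
  Sym.of_lab hn hk (okE_cons.2 ⟨g540_ok, okE_nil _⟩) tt_c19_K_ok tt_c19_le (kT := 0) (by decide +kernel)

noncomputable def tt_c19_cnt_L : List ℕ := [0, 4, TT_s0_O, 0, 0, 1, 8, TT_s1_O, 0, 0, 2, 19, TT_s2_O, 0, 0, 3, 9, TT_s3_O, 0, 0, 4, 11, TT_s4_O, 0, 0, 5, 9, TT_s29_O, 1, 0]

theorem tt_c19_cnt_P : Prob 276 9 (grp 276 ht_c2_K) tt_c19_cnt_EG [g540] [g540] tt_c19_K tt_c19_cnt_L 0 0 :=
  Sym.prob hn hk tt_c19_sym tt_c19_cnt_EG_ok (grp_cons_le g124_TT (grp_cons_le g125_TT (grp_cons_le g126_TT (grp_cons_le g127_TT (grp_cons_le n_k3_TT (grp_cons_le n_t_TT (grp_cons_le g414_TT (grp_cons_le g419_TT (grp_cons_le g420_TT (grp_cons_le g417_TT (grp_cons_le n_u_TT (grp_nil_le _)))))))))))) (Frames.cons TT_s0_F (Frames.cons TT_s1_F (Frames.cons TT_s2_F (Frames.cons TT_s3_F (Frames.cons TT_s4_F (Frames.cons TT_s29_F Frames.nil)))))) (okE_cons.2 ⟨g540_ok, okE_nil _⟩) _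

noncomputable def tt_c19_cnt_t : BT := (BT.frm (nat_lit 0) (nat_lit 0) (nat_lit 0) [] (BT.pln (nat_lit 0) (nat_lit 0) (BT.fix (nat_lit 1) (BT.and (nat_lit 1) (nat_lit 0) (BT.br (nat_lit 0) (nat_lit 98) [nat_lit 1] (BT.kid (nat_lit 98) (nat_lit 32) (BT.frm (nat_lit 1) (nat_lit 260) (nat_lit 260) [nat_lit 0] (BT.pln (nat_lit 0) (nat_lit 6) (BT.and (nat_lit 5) (nat_lit 0) (BT.dif (nat_lit 0) (nat_lit 5) (BT.br (nat_lit 0) (nat_lit 257) [nat_lit 5] (BT.kid (nat_lit 257) (nat_lit 8) (BT.dif (nat_lit 3) (nat_lit 7) (BT.frm (nat_lit 2) (nat_lit 260) (nat_lit 260) [nat_lit 1, nat_lit 6] (BT.pln (nat_lit 0) (nat_lit 15) (BT.and (nat_lit 2) (nat_lit 0) (BT.br (nat_lit 0) (nat_lit 171) [] (BT.dead (nat_lit 145) (BT.dif (nat_lit 13) (nat_lit 8) (BT.pln (nat_lit 4) (nat_lit 12) (BT.and (nat_lit 1) (nat_lit 0) (BT.frm (nat_lit 3) (nat_lit 0x100104) (nat_lit 983300) [nat_lit 3, nat_lit 8, nat_lit 13] (BT.pln (nat_lit 0) (nat_lit 3) (BT.dif (nat_lit 2) (nat_lit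 0) (BT.pln (nat_lit 2) (nat_lit 4) (BT.dif (nat_lit 1) (nat_lit 0) (BT.br (nat_lit 0) (nat_lit 196) [nat_lit 7] (BT.dead (nat_lit 75) (BT.dif (nat_lit 26) (nat_lit 4) (BT.dif (nat_lit 0) (nat_lit 3) (BT.pln (nat_lit 7) (nat_lit 5) (BT.dif (nat_lit 1) (nat_lit 0) (BT.pln (nat_lit 9) (nat_lit 6) (BT.dif (nat_lit 1) (nat_lit 0) (BT.pln (nat_lit 11) (nat_lit 7) (BT.dif (nat_lit 1) (nat_lit 0) (BT.pln (nat_lit 31) (nat_lit 3) (BT.dif (nat_lit 1) (nat_lit 0) (BT.dif (nat_lit 0) (nat_lit 32) (BT.frm (nat_lit 4) (nat_lit 0x11100104) (nat_lit 983300) [nat_lit 11, nat_lit 20, nat_lit 25, nat_lit 30] (BT.pln (nat_lit 0) (nat_lit 5) (BT.dif (nat_lit 2) (nat_lit 0) (BT.br (nat_lit 0) (nat_lit 218) [nat_lit 10] (BT.dead (nat_lit 160) (BT.frm (nat_lit 5) (nat_lit 0x11100104) (nat_lit 0x140f0104) [nat_lit 0, nat_lit 15, nat_lit 24, nat_lit 29, nat_lit 34] (BT.pln (nat_lit 0) (nat_lit 5) (BT.img (nat_lit 1) (nat_lit 2) (BT.and (nat_lit 1) (nat_lit 0) (BT.cnt (nat_lit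 0)))))) BT.nil)))))))))))))))) BT.nil)))))))))) (BT.kid (nat_lit 171) (nat_lit 8) (BT.dif (nat_lit 13) (nat_lit 8) (BT.pln (nat_lit 4) (nat_lit 12) (BT.and (nat_lit 1) (nat_lit 0) (BT.frm (nat_lit 3) (nat_lit 0x100104) (nat_lit 0x100104) [nat_lit 3, nat_lit 8, nat_lit 13] (BT.pln (nat_lit 0) (nat_lit 3) (BT.dif (nat_lit 2) (nat_lit 0) (BT.pln (nat_lit 2) (nat_lit 4) (BT.dif (nat_lit 1) (nat_lit 0) (BT.br (nat_lit 0) (nat_lit 196) [nat_lit 7] (BT.kid (nat_lit 196) (nat_lit 4) (BT.dif (nat_lit 26) (nat_lit 4) (BT.dif (nat_lit 0) (nat_lit 3) (BT.pln (nat_lit 7) (nat_lit 5) (BT.dif (nat_lit 1) (nat_lit 0) (BT.pln (nat_lit 9) (nat_lit 6) (BT.dif (nat_lit 1) (nat_lit 0) (BT.pln (nat_lit 11) (nat_lit 7) (BT.dif (nat_lit 1) (nat_lit 0) (BT.pln (nat_lit 31) (nat_lit 3) (BT.dif (nat_lit 1) (nat_lit 0) (BT.dif (nat_lit 0) (nat_lit 32) (BT.frm (nat_lit 4) (nat_lit 0x11100104) (nat_lit 0x11100104) [nat_lit 11, nat_lit 20, nat_lit 25, nat_lit 30] (BT.pln (nat_lit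 0) (nat_lit 5) (BT.dif (nat_lit 2) (nat_lit 0) (BT.br (nat_lit 0) (nat_lit 218) [nat_lit 9] (BT.kid (nat_lit 218) (nat_lit 1) (BT.one (nat_lit 5) (nat_lit 0x11100104) (nat_lit 0x11100104) [nat_lit 0, nat_lit 15, nat_lit 24, nat_lit 29, nat_lit 34]) BT.nil)))))))))))))))) BT.nil)))))))))) BT.nil))))))) BT.nil)))))) BT.nil))))))

theorem tt_c19_cnt : Cnt 276 (grp 276 ht_c2_K) [g540] [g540] 0 0 0 0 128 :=
  BT.sound tt_c19_cnt_P Known.nil (t := tt_c19_cnt_t) (d := 0) (by decide +kernel)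

theorem tt_c19_ge : 128 ≤ Nat.card (grp 276 tt_c19_K) :=
  Ch.le_card_grp (k := 9) (L := (lab 276 9)) hn tt_c19_K_ok (c := (Ch.cons (nat_lit 98) [nat_lit 1] (Ch.cons (nat_lit 257) [nat_lit 3, nat_lit 5] (Ch.cons (nat_lit 196) [nat_lit 7] (Ch.cons (nat_lit 218) [nat_lit 9] Ch.nil))))) (by decide +kernel)

theorem tt_c19_eq : (grp 276 ht_c2_K) ⊓ Subgroup.centralizer {Net.toPerm 276 g540} = grp 276 tt_c19_K :=
  cent_eq tt_c19_sym tt_c19_cnt tt_c19_ge

theorem tt_c19_card : Nat.card ↥((grp 276 ht_c2_K) ⊓ Subgroup.centralizer {Net.toPerm 276 g540}) = 128 :=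
  card_cent tt_c19_sym tt_c19_cnt tt_c19_ge

theorem tt_c19_ord : orderOf (Net.toPerm 276 g540) = 4 :=
  orderOf_net hn hk g540_ok (by decide) (ps := [2]) (by set_option linter.unusedSimpArgs false in simp [Nat.primeFactorsList_ofNat]) (by decide +kernel)

theorem le547 : grp 276 tt_c20_K ≤ grp 276 ht_c2_K :=
  grp_le_of_memB hn hk ht_c2_K_ok tt_c20_K_ok (ws := [nat_lit 0xb0907050306010101, nat_lit 0x704010301, nat_lit 0x5050303010101, nat_lit 11]) (by decide +kernel)

theorem tt_c20_le : grp 276 tt_c20_K ≤ (grp 276 ht_c2_K) :=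
  (le547.trans TT_s0.le)

theorem tt_c20_mem : Net.toPerm 276 g544 ∈ (grp 276 ht_c2_K) :=
  tt_c20_le (toPerm_mem_grp (E := tt_c20_K) (List.Mem.head _))

theorem tt_c20_sym : Sym 276 (grp 276 ht_c2_K) [g544] tt_c20_K 0 :=
  Sym.of_lab hn hk (okE_cons.2 ⟨g544_ok, okE_nil _⟩) tt_c20_K_ok tt_c20_le (kT := 0) (by decide +kernel)

theorem le551 : grp 276 V550 ≤ grp 276 V494 :=
  grp_le_of_memB hn hk V494_ok V550_ok (ws := [nat_lit 2311, nat_lit 723201, nat_lit 9]) (by decide +kernel)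

theorem TT_s30 : Stab 276 (grp 276 ht_c2_K) [nat_lit 152, nat_lit 12, nat_lit 42, nat_lit 231] V550 8 :=
  Stab.step (k := 9) (L := (lab 276 9)) hn TT_s23 V550_ok le551 (c := (Ch.cons (nat_lit 175) [nat_lit 1] (Ch.cons (nat_lit 265) [nat_lit 3] (Ch.cons (nat_lit 55) [nat_lit 5] Ch.nil)))) (by decide +kernel)

theorem TT_s31 : Stab 276 (grp 276 ht_c2_K) [nat_lit 175, nat_lit 152, nat_lit 12, nat_lit 42, nat_lit 231] V552 4 :=
  Stab.step (k := 9) (L := (lab 276 9)) hn TT_s30 V552_ok (grp_mono (List.subset_append_right [g548] _)) (c := (Ch.cons (nat_lit 265) [nat_lit 1] (Ch.cons (nat_lit 55) [nat_lit 3] Ch.nil))) (by decide +kernel)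

theorem TT_s32 : Stab 276 (grp 276 ht_c2_K) [nat_lit 265, nat_lit 175, nat_lit 152, nat_lit 12, nat_lit 42, nat_lit 231] V553 2 :=
  Stab.step (k := 9) (L := (lab 276 9)) hn TT_s31 V553_ok (grp_mono (List.subset_append_right [g549] _)) (c := (Ch.cons (nat_lit 55) [nat_lit 1] Ch.nil)) (by decide +kernel)

theorem TT_s33 : Stab 276 (grp 276 ht_c2_K) [nat_lit 55, nat_lit 265, nat_lit 175, nat_lit 152, nat_lit 12, nat_lit 42, nat_lit 231] V554 1 :=
  Stab.step (k := 9) (L := (lab 276 9)) hn TT_s32 V554_ok (grp_mono (List.subset_append_right [n_t] _)) (c := Ch.nil) (by decide +kernel)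

theorem g548_TT : Net.toPerm 276 g548 ∈ (grp 276 ht_c2_K) :=
  TT_s30.le (toPerm_mem_grp (E := V550) (List.Mem.head _))

theorem g549_TT : Net.toPerm 276 g549 ∈ (grp 276 ht_c2_K) :=
  TT_s30.le (toPerm_mem_grp (E := V550) (List.Mem.tail _ (List.Mem.head _)))

noncomputable def TT_s33_O : ℕ := (nat_lit 0x9993333366666ccccc99999b3333666664ccccd9999b3333266666ccccd9999933332c1f07c1f07c1f07c0f83e0f83e0f83e0f81f07c1f07c1f07c1f03e0f83e0f83e0f83e7319cc63398ce7319cc63398ce7319ce63398c67319ce63398c67319ce63398c6731826d926c93649b24db26d936c9b649b24d926d936c9b64db24d926c93649b64db26d92000000000008000000000000000000000000000000000000000000000000000000000000000000000000000000000000000000000000000000000000000000040000000000000000000000000000000000000000000000000000000000000000000000000001000000000000000000000000000000000100000000000000000000000000000000000000000000000000000000000000080000000000000000000000000000000000000000000002000000000000000000000000000000000000000000000000000000000000000000000000000000000000000000000000000000000000000000000000080000000000000)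

theorem TT_s33_F : Frame 276 (grp 276 ht_c2_K) 7 11 TT_s33_O 1 1 :=
  IsBase.frame TT_s33.isBase (by decide +kernel)

noncomputable def TT_s32_O : ℕ := (nat_lit 0x121450000000800230004510000080020022012010100000000000000000000000000cdc1a6f4de7347f98f61b2eb23e75ba82f913a5eefeecd5e001000010204210000010c84aa4af66e70349c77d3a6cf3ca396d780404010001a021fff7cffff70421000001036d4f6f3d4e66e0d007e80079414420455d9361eec018221fdf7f0010abffbfd80010c9880b149091a8b67a17f77633492040459136d103cef0a1ff183df90a9dff027ea1097c3862dd564a072b61312ed441ff906c6b7440f83e1afc1e0fc1d87caa984f2785e0e45604a5fb17eb3ac098568a760e926a15c0fdec632cbe3998db3e66308c70ce6618cbd50e3238513af61aa9cd14171aa8e6567342b0b5aaa9b9556aa8b55acb749a954d4a000000000008000000000000000000000000000000000000000000000000000000000000000000000000000000000000000000000000000000000000000000040000000000000000000000000000000000000000000000000000000000000000000000000001000000000000000000000000000000000100000000000000000000000000000000000000000000000000000000000000080000000000000000000000000000000000000000000002000000000000000000000000000000000000000000000000000000000000000000)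

theorem TT_s32_F : Frame 276 (grp 276 ht_c2_K) 6 14 TT_s32_O 0 1 :=
  Stab.frame hn TT_s32 (by decide +kernel)

noncomputable def TT_s31_O : ℕ := (nat_lit 0x1230500000008002200045100000800200220100101080000000000100000000000104d4724b65a6504e9d661a2ef73eb790c63803e7b8ae54d7cfa7489b602042100000002c0420ddb2f169bd946ea281255643a80788227ee72c6f02059236007abffbf980000c21d0d596273ce009807f836b26702cc41403eb47c4b10f6fcbc72487b0df5067ea10d44c426ea114453437601f5786a9e1a3ec34546baf4c2286e058df88f71c2fc2785e0f5a824ce43f521ddff831761323f0b281847c58e55fa58249b598a38ea958a1e6619c4709634e3165ada368fdaea872f096e4709603295e82f6c7547b856cdb93689154d4a000000000008000000000000000000000000000000000000000000000000000000000000000000000000000000000000000000000000000000000000000000040000000000000000000000000000000000000000000000000000000000000000000000000001000000000000000000000000000000000100000000000000000000000000000000000000000000000000000000000000080000000000000000000000000000000000000000000)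

theorem TT_s31_F : Frame 276 (grp 276 ht_c2_K) 5 12 TT_s31_O 0 1 :=
  Stab.frame hn TT_s31 (by decide +kernel)

noncomputable def TT_s30_O : ℕ := (nat_lit 0x137340e81a00840af00145b61802a00e40a211201cb08c48703000a24204200000010bc04500500e12100291a1f102914c4220a28404c900633810182240101b299bbb4092620c3083b294edeb866e00cf46be19a8648219272a29ee1667cebf1d309af9d940000c3453d31431283d7ea03bc6852ee386c214e2bb5118bd0f41aa42bf5a130bb26b6b10d00327cb7804609f079311f19abc05c5b8d840a73520ee6f18e1fd4254a8b6b6aacea74d24ca6ea860f4a8307eb60966fe8a9cc49cecc8865aabedf54cc921730ccec9a2b4000000000008000000000000000000000000000000000000000000000000000000000000000000000000000000000000000000000000000000000000000000040000000000000000000000000000000000000000000000000000000000000000000000000001000000000000000000000000000000000100000000000000000000000000000000000000)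

theorem TT_s30_F : Frame 276 (grp 276 ht_c2_K) 4 10 TT_s30_O 0 1 :=
  Stab.frame hn TT_s30 (by decide +kernel)

noncomputable def tt_c20_cnt_L : List ℕ := [0, 4, TT_s0_O, 0, 0, 3, 23, TT_s23_O, 0, 0, 4, 10, TT_s30_O, 0, 0, 5, 12, TT_s31_O, 0, 0, 6, 14, TT_s32_O, 0, 0, 7, 11, TT_s33_O, 1, 0]

theorem tt_c20_cnt_P : Prob 276 9 (grp 276 ht_c2_K) tt_c20_cnt_EG [g544] [g544] tt_c20_K tt_c20_cnt_L 0 0 :=
  Sym.prob hn hk tt_c20_sym tt_c20_cnt_EG_ok (grp_cons_le g489_TT (grp_cons_le n_b_TT (grp_cons_le g490_TT (grp_cons_le g340_TT (grp_cons_le g491_TT (grp_cons_le n_t_TT (grp_cons_le n_u_TT (grp_cons_le g468_TT (grp_cons_le g469_TT (grp_cons_le g470_TT (grp_cons_le g124_TT (grp_cons_le g125_TT (grp_cons_le g126_TT (grp_cons_le g127_TT (grp_cons_le n_k3_TT (grp_cons_le g548_TT (grp_cons_le g549_TT (grp_nil_le _)))))))))))))))))) (Frames.cons TT_s0_F (Frames.cons TT_s23_F (Frames.cons TT_s30_F (Frames.cons TT_s31_F (Frames.cons TT_s32_F (Frames.cons TT_s33_F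 Frames.nil)))))) (okE_cons.2 ⟨g544_ok, okE_nil _⟩) _

noncomputable def tt_c20_cnt_t : BT := (BT.frm (nat_lit 0) (nat_lit 0) (nat_lit 0) [] (BT.pln (nat_lit 0) (nat_lit 3) (BT.fix (nat_lit 257) (BT.dif (nat_lit 1) (nat_lit 0) (BT.br (nat_lit 0) (nat_lit 272) [nat_lit 1] (BT.kid (nat_lit 272) (nat_lit 16) (BT.pln (nat_lit 4) (nat_lit 1) (BT.dif (nat_lit 0) (nat_lit 3) (BT.img (nat_lit 1) (nat_lit 2) (BT.img (nat_lit 1) (nat_lit 0) (BT.and (nat_lit 7) (nat_lit 0) (BT.frm (nat_lit 1) (nat_lit 0x14161b) (nat_lit 0x14161b) [nat_lit 0, nat_lit 2, nat_lit 5] (BT.pln (nat_lit 0) (nat_lit 12) (BT.and (nat_lit 5) (nat_lit 0) (BT.br (nat_lit 0) (nat_lit 137) [nat_lit 3] (BT.kid (nat_lit 137) (nat_lit 4) (BT.dif (nat_lit 8) (nat_lit 2) (BT.pln (nat_lit 4) (nat_lit 15) (BT.dif (nat_lit 1) (nat_lit 0) (BT.frm (nat_lit 2) (nat_lit 0x14161b) (nat_lit 0x14161b) [nat_lit 3, nat_lit 7, nat_lit 9, nat_lit 12] (BT.pln (nat_lit 0) (nat_lit 6) (BT.dif (nat_lit 2) (nat_lit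 0) (BT.img (nat_lit 1) (nat_lit 6) (BT.frm (nat_lit 3) (nat_lit 0x14161b) (nat_lit 0x14161b) [nat_lit 0, nat_lit 7, nat_lit 11, nat_lit 13, nat_lit 16] (BT.pln (nat_lit 0) (nat_lit 7) (BT.dif (nat_lit 3) (nat_lit 0) (BT.br (nat_lit 0) (nat_lit 38) [nat_lit 5] (BT.kid (nat_lit 38) (nat_lit 2) (BT.pln (nat_lit 3) (nat_lit 8) (BT.and (nat_lit 3) (nat_lit 0) (BT.pln (nat_lit 5) (nat_lit 5) (BT.and (nat_lit 1) (nat_lit 0) (BT.pln (nat_lit 7) (nat_lit 6) (BT.and (nat_lit 1) (nat_lit 0) (BT.pln (nat_lit 9) (nat_lit 9) (BT.dif (nat_lit 1) (nat_lit 0) (BT.pln (nat_lit 32) (nat_lit 2) (BT.dif (nat_lit 1) (nat_lit 0) (BT.frm (nat_lit 4) (nat_lit 0x14161b) (nat_lit 0x14161b) [nat_lit 10, nat_lit 14, nat_lit 21, nat_lit 25, nat_lit 27, nat_lit 30] (BT.pln (nat_lit 0) (nat_lit 6) (BT.dif (nat_lit 2) (nat_lit 0) (BT.br (nat_lit 0) (nat_lit 119) [nat_lit 7] (BT.kid (nat_lit 119) (nat_lit 1) (BT.one (nat_lit 5) (nat_lit 0xb14161b) (nat_lit 0xb14161b) [nat_lit 0,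 nat_lit 14, nat_lit 18, nat_lit 25, nat_lit 29, nat_lit 31, nat_lit 34]) BT.nil))))))))))))))) BT.nil)))))))))))) BT.nil)))))))))) BT.nil))))))

theorem tt_c20_cnt : Cnt 276 (grp 276 ht_c2_K) [g544] [g544] 0 0 0 0 64 :=
  BT.sound tt_c20_cnt_P Known.nil (t := tt_c20_cnt_t) (d := 0) (by decide +kernel)

theorem tt_c20_ge : 64 ≤ Nat.card (grp 276 tt_c20_K) :=
  Ch.le_card_grp (k := 9) (L := (lab 276 9)) hn tt_c20_K_ok (c := (Ch.cons (nat_lit 272) [nat_lit 1] (Ch.cons (nat_lit 137) [nat_lit 3] (Ch.cons (nat_lit 38) [nat_lit 5] (Ch.cons (nat_lit 119) [nat_lit 7] Ch.nil))))) (by decide +kernel)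

theorem tt_c20_eq : (grp 276 ht_c2_K) ⊓ Subgroup.centralizer {Net.toPerm 276 g544} = grp 276 tt_c20_K :=
  cent_eq tt_c20_sym tt_c20_cnt tt_c20_ge

theorem tt_c20_card : Nat.card ↥((grp 276 ht_c2_K) ⊓ Subgroup.centralizer {Net.toPerm 276 g544}) = 64 :=
  card_cent tt_c20_sym tt_c20_cnt tt_c20_ge

theorem tt_c20_ord : orderOf (Net.toPerm 276 g544) = 4 :=
  orderOf_net hn hk g544_ok (by decide) (ps := [2]) (by set_option linter.unusedSimpArgs false in simp [Nat.primeFactorsList_ofNat]) (by decide +kernel)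

theorem le557 : grp 276 tt_c21_K ≤ grp 276 ht_c2_K :=
  grp_le_of_memB hn hk ht_c2_K_ok tt_c21_K_ok (ws := [nat_lit 0x70306010105, nat_lit 0xb090703020302, nat_lit 0x3010301, nat_lit 11]) (by decide +kernel)

theorem tt_c21_le : grp 276 tt_c21_K ≤ (grp 276 ht_c2_K) :=
  (le557.trans TT_s0.le)

theorem tt_c21_mem : Net.toPerm 276 g231 ∈ (grp 276 ht_c2_K) :=
  tt_c21_le (toPerm_mem_grp (E := tt_c21_K) (List.Mem.head _))

theorem tt_c21_sym : Sym 276 (grp 276 ht_c2_K) [g231] tt_c21_K 0 :=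
  Sym.of_lab hn hk (okE_cons.2 ⟨g231_ok, okE_nil _⟩) tt_c21_K_ok tt_c21_le (kT := 0) (by decide +kernel)

noncomputable def tt_c21_cnt_L : List ℕ := [0, 4, TT_s0_O, 0, 0, 3, 23, TT_s23_O, 0, 0, 4, 10, TT_s30_O, 0, 0, 5, 12, TT_s31_O, 0, 0, 6, 14, TT_s32_O, 0, 0, 7, 11, TT_s33_O, 1, 0]

theorem tt_c21_cnt_P : Prob 276 9 (grp 276 ht_c2_K) tt_c21_cnt_EG [g231] [g231] tt_c21_K tt_c21_cnt_L 0 0 :=
  Sym.prob hn hk tt_c21_sym tt_c21_cnt_EG_ok (grp_cons_le g489_TT (grp_cons_le n_b_TT (grp_cons_le g490_TT (grp_cons_le g340_TT (grp_cons_le g491_TT (grp_cons_le n_t_TT (grp_cons_le n_u_TT (grp_cons_le g468_TT (grp_cons_le g469_TT (grp_cons_le g470_TT (grp_cons_le g124_TT (grp_cons_le g125_TT (grp_cons_le g126_TT (grp_cons_le g127_TT (grp_cons_le n_k3_TT (grp_cons_le g548_TT (grp_cons_le g549_TT (grp_nil_le _)))))))))))))))))) (Frames.cons TT_s0_F (Frames.cons TT_s23_F (Frames.cons TT_s30_F (Frames.cons TT_s31_F (Frames.cons TT_s32_F (Frames.cons TT_s33_F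 Frames.nil)))))) (okE_cons.2 ⟨g231_ok, okE_nil _⟩) _

noncomputable def tt_c21_cnt_t : BT := (BT.frm (nat_lit 0) (nat_lit 0) (nat_lit 0) [] (BT.pln (nat_lit 0) (nat_lit 3) (BT.fix (nat_lit 257) (BT.dif (nat_lit 1) (nat_lit 0) (BT.br (nat_lit 0) (nat_lit 272) [nat_lit 1] (BT.kid (nat_lit 272) (nat_lit 16) (BT.pln (nat_lit 4) (nat_lit 1) (BT.dif (nat_lit 0) (nat_lit 3) (BT.img (nat_lit 1) (nat_lit 2) (BT.img (nat_lit 1) (nat_lit 0) (BT.and (nat_lit 7) (nat_lit 0) (BT.frm (nat_lit 1) (nat_lit 0x113161b) (nat_lit 0x113161b) [nat_lit 0, nat_lit 2, nat_lit 5] (BT.pln (nat_lit 0) (nat_lit 12) (BT.and (nat_lit 5) (nat_lit 0) (BT.br (nat_lit 0) (nat_lit 227) [nat_lit 3] (BT.kid (nat_lit 227) (nat_lit 4) (BT.dif (nat_lit 8) (nat_lit 2) (BT.pln (nat_lit 4) (nat_lit 15) (BT.dif (nat_lit 1) (nat_lit 0) (BT.frm (nat_lit 2) (nat_lit 0x113161b) (nat_lit 0x113161b) [nat_lit 3, nat_lit 7, nat_lit 9, nat_lit 12] (BT.pln (nat_lit 0) (nat_lit 6) (BT.dif (nat_lit 2)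 (nat_lit 0) (BT.img (nat_lit 1) (nat_lit 6) (BT.frm (nat_lit 3) (nat_lit 0x1f0113161b) (nat_lit 0x1f0113161b) [nat_lit 0, nat_lit 7, nat_lit 11, nat_lit 13, nat_lit 16] (BT.pln (nat_lit 0) (nat_lit 7) (BT.dif (nat_lit 3) (nat_lit 0) (BT.br (nat_lit 0) (nat_lit 175) [nat_lit 5] (BT.kid (nat_lit 175) (nat_lit 2) (BT.pln (nat_lit 3) (nat_lit 8) (BT.and (nat_lit 3) (nat_lit 0) (BT.pln (nat_lit 5) (nat_lit 5) (BT.and (nat_lit 1) (nat_lit 0) (BT.pln (nat_lit 7) (nat_lit 6) (BT.and (nat_lit 1) (nat_lit 0) (BT.pln (nat_lit 9) (nat_lit 9) (BT.dif (nat_lit 1) (nat_lit 0) (BT.pln (nat_lit 32) (nat_lit 2) (BT.dif (nat_lit 1) (nat_lit 0) (BT.frm (nat_lit 4) (nat_lit 0x211f0113161b) (nat_lit 0x211f0113161b) [nat_lit 10, nat_lit 14, nat_lit 21, nat_lit 25, nat_lit 27, nat_lit 30] (BT.pln (nat_lit 0) (nat_lit 6) (BT.dif (nat_lit 2) (nat_lit 0) (BT.br (nat_lit 0) (nat_lit 6) [nat_lit 7] (BT.kid (nat_lit 6) (nat_lit 1) (BT.one (nat_lit 5) (nat_lit 0xb211f0113161b)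 (nat_lit 0xb211f0113161b) [nat_lit 0, nat_lit 14, nat_lit 18, nat_lit 25, nat_lit 29, nat_lit 31, nat_lit 34]) BT.nil))))))))))))))) BT.nil)))))))))))) BT.nil)))))))))) BT.nil))))))

theorem tt_c21_cnt : Cnt 276 (grp 276 ht_c2_K) [g231] [g231] 0 0 0 0 64 :=
  BT.sound tt_c21_cnt_P Known.nil (t := tt_c21_cnt_t) (d := 0) (by decide +kernel)

theorem tt_c21_ge : 64 ≤ Nat.card (grp 276 tt_c21_K) :=
  Ch.le_card_grp (k := 9) (L := (lab 276 9)) hn tt_c21_K_ok (c := (Ch.cons (nat_lit 272) [nat_lit 1] (Ch.cons (nat_lit 227) [nat_lit 3] (Ch.cons (nat_lit 175) [nat_lit 5] (Ch.cons (nat_lit 6) [nat_lit 7] Ch.nil))))) (by decide +kernel)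

theorem tt_c21_eq : (grp 276 ht_c2_K) ⊓ Subgroup.centralizer {Net.toPerm 276 g231} = grp 276 tt_c21_K :=
  cent_eq tt_c21_sym tt_c21_cnt tt_c21_ge

theorem tt_c21_card : Nat.card ↥((grp 276 ht_c2_K) ⊓ Subgroup.centralizer {Net.toPerm 276 g231}) = 64 :=
  card_cent tt_c21_sym tt_c21_cnt tt_c21_ge

theorem tt_c21_ord : orderOf (Net.toPerm 276 g231) = 4 :=
  orderOf_net hn hk g231_ok (by decide) (ps := [2]) (by set_option linter.unusedSimpArgs false in simp [Nat.primeFactorsList_ofNat]) (by decide +kernel)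

theorem le560 : grp 276 tt_c22_K ≤ grp 276 ht_c2_K :=
  grp_le_of_memB hn hk ht_c2_K_ok tt_c22_K_ok (ws := [nat_lit 0x90706030105, nat_lit 0x903020402, nat_lit 0xb050504010401, nat_lit 11]) (by decide +kernel)

theorem tt_c22_le : grp 276 tt_c22_K ≤ (grp 276 ht_c2_K) :=
  (le560.trans TT_s0.le)

theorem tt_c22_mem : Net.toPerm 276 g558 ∈ (grp 276 ht_c2_K) :=
  tt_c22_le (toPerm_mem_grp (E := tt_c22_K) (List.Mem.head _))

theorem tt_c22_sym : Sym 276 (grp 276 ht_c2_K) [g558] tt_c22_K 0 :=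
  Sym.of_lab hn hk (okE_cons.2 ⟨g558_ok, okE_nil _⟩) tt_c22_K_ok tt_c22_le (kT := 0) (by decide +kernel)

noncomputable def tt_c22_cnt_L : List ℕ := [0, 4, TT_s0_O, 0, 0, 3, 23, TT_s23_O, 0, 0, 4, 10, TT_s30_O, 0, 0, 5, 12, TT_s31_O, 0, 0, 6, 14, TT_s32_O, 0, 0, 7, 11, TT_s33_O, 1, 0]

theorem tt_c22_cnt_P : Prob 276 9 (grp 276 ht_c2_K) tt_c22_cnt_EG [g558] [g558] tt_c22_K tt_c22_cnt_L 0 0 :=
  Sym.prob hn hk tt_c22_sym tt_c22_cnt_EG_ok (grp_cons_le g489_TT (grp_cons_le n_b_TT (grp_cons_le g490_TT (grp_cons_le g340_TT (grp_cons_le g491_TT (grp_cons_le n_t_TT (grp_cons_le n_u_TT (grp_cons_le g468_TT (grp_cons_le g469_TT (grp_cons_le g470_TT (grp_cons_le g124_TT (grp_cons_le g125_TT (grp_cons_le g126_TT (grp_cons_le g127_TT (grp_cons_le n_k3_TT (grp_cons_le g548_TT (grp_cons_le g549_TT (grp_nil_le _)))))))))))))))))) (Frames.cons TT_s0_F (Frames.cons TT_s23_F (Frames.cons TT_s30_F (Frames.cons TT_s31_F (Frames.cons TT_s32_F (Frames.cons TT_s33_F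 Frames.nil)))))) (okE_cons.2 ⟨g558_ok, okE_nil _⟩) _

noncomputable def tt_c22_cnt_t : BT := (BT.frm (nat_lit 0) (nat_lit 0) (nat_lit 0) [] (BT.pln (nat_lit 0) (nat_lit 3) (BT.fix (nat_lit 257) (BT.dif (nat_lit 1) (nat_lit 0) (BT.br (nat_lit 0) (nat_lit 112) [nat_lit 1] (BT.kid (nat_lit 112) (nat_lit 16) (BT.pln (nat_lit 4) (nat_lit 1) (BT.dif (nat_lit 0) (nat_lit 3) (BT.img (nat_lit 1) (nat_lit 2) (BT.img (nat_lit 1) (nat_lit 0) (BT.and (nat_lit 7) (nat_lit 0) (BT.frm (nat_lit 1) (nat_lit 5149) (nat_lit 5149) [nat_lit 0, nat_lit 2, nat_lit 5] (BT.pln (nat_lit 0) (nat_lit 12) (BT.and (nat_lit 5) (nat_lit 0) (BT.br (nat_lit 0) (nat_lit 194) [nat_lit 3] (BT.kid (nat_lit 194) (nat_lit 4) (BT.dif (nat_lit 8) (nat_lit 2) (BT.pln (nat_lit 4) (nat_lit 15) (BT.dif (nat_lit 1) (nat_lit 0) (BT.frm (nat_lit 2) (nat_lit 0x307141d) (nat_lit 0x307141d) [nat_lit 3, nat_lit 7, nat_lit 9, nat_lit 12] (BT.pln (nat_lit 0) (nat_lit 6) (BT.dif (nat_lit 2) (nat_lit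 0) (BT.img (nat_lit 1) (nat_lit 6) (BT.frm (nat_lit 3) (nat_lit 0x307141d) (nat_lit 0x307141d) [nat_lit 0, nat_lit 7, nat_lit 11, nat_lit 13, nat_lit 16] (BT.pln (nat_lit 0) (nat_lit 7) (BT.dif (nat_lit 3) (nat_lit 0) (BT.br (nat_lit 0) (nat_lit 152) [nat_lit 5] (BT.kid (nat_lit 152) (nat_lit 2) (BT.pln (nat_lit 3) (nat_lit 8) (BT.and (nat_lit 3) (nat_lit 0) (BT.pln (nat_lit 5) (nat_lit 5) (BT.and (nat_lit 1) (nat_lit 0) (BT.pln (nat_lit 7) (nat_lit 6) (BT.and (nat_lit 1) (nat_lit 0) (BT.pln (nat_lit 9) (nat_lit 9) (BT.dif (nat_lit 1) (nat_lit 0) (BT.pln (nat_lit 32) (nat_lit 2) (BT.dif (nat_lit 1) (nat_lit 0) (BT.frm (nat_lit 4) (nat_lit 0x307141d) (nat_lit 0x307141d) [nat_lit 10, nat_lit 14, nat_lit 21, nat_lit 25, nat_lit 27, nat_lit 30] (BT.pln (nat_lit 0) (nat_lit 6) (BT.dif (nat_lit 2) (nat_lit 0) (BT.br (nat_lit 0) (nat_lit 182) [nat_lit 7] (BT.kid (nat_lit 182) (nat_lit 1) (BT.one (nat_lit 5) (nat_lit 0x307141d) (nat_lit 0x307141d) [nat_lit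 0, nat_lit 14, nat_lit 18, nat_lit 25, nat_lit 29, nat_lit 31, nat_lit 34]) BT.nil))))))))))))))) BT.nil)))))))))))) BT.nil)))))))))) BT.nil))))))

theorem tt_c22_cnt : Cnt 276 (grp 276 ht_c2_K) [g558] [g558] 0 0 0 0 64 :=
  BT.sound tt_c22_cnt_P Known.nil (t := tt_c22_cnt_t) (d := 0) (by decide +kernel)

theorem tt_c22_ge : 64 ≤ Nat.card (grp 276 tt_c22_K) :=
  Ch.le_card_grp (k := 9) (L := (lab 276 9)) hn tt_c22_K_ok (c := (Ch.cons (nat_lit 112) [nat_lit 1] (Ch.cons (nat_lit 194) [nat_lit 3] (Ch.cons (nat_lit 152) [nat_lit 5] (Ch.cons (nat_lit 182) [nat_lit 7] Ch.nil))))) (by decide +kernel)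

theorem tt_c22_eq : (grp 276 ht_c2_K) ⊓ Subgroup.centralizer {Net.toPerm 276 g558} = grp 276 tt_c22_K :=
  cent_eq tt_c22_sym tt_c22_cnt tt_c22_ge

theorem tt_c22_card : Nat.card ↥((grp 276 ht_c2_K) ⊓ Subgroup.centralizer {Net.toPerm 276 g558}) = 64 :=
  card_cent tt_c22_sym tt_c22_cnt tt_c22_ge

theorem tt_c22_ord : orderOf (Net.toPerm 276 g558) = 4 :=
  orderOf_net hn hk g558_ok (by decide) (ps := [2]) (by set_option linter.unusedSimpArgs false in simp [Nat.primeFactorsList_ofNat]) (by decide +kernel)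

theorem le564 : grp 276 tt_c23_K ≤ grp 276 ht_c2_K :=
  grp_le_of_memB hn hk ht_c2_K_ok tt_c23_K_ok (ws := [nat_lit 0xb090604010103, nat_lit 0x90704010301, nat_lit 0xb050503010401, nat_lit 11]) (by decide +kernel)

theorem tt_c23_le : grp 276 tt_c23_K ≤ (grp 276 ht_c2_K) :=
  (le564.trans TT_s0.le)

theorem tt_c23_mem : Net.toPerm 276 g561 ∈ (grp 276 ht_c2_K) :=
  tt_c23_le (toPerm_mem_grp (E := tt_c23_K) (List.Mem.head _))

theorem tt_c23_sym : Sym 276 (grp 276 ht_c2_K) [g561] tt_c23_K 0 :=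
  Sym.of_lab hn hk (okE_cons.2 ⟨g561_ok, okE_nil _⟩) tt_c23_K_ok tt_c23_le (kT := 0) (by decide +kernel)

noncomputable def tt_c23_cnt_L : List ℕ := [0, 4, TT_s0_O, 0, 0, 3, 23, TT_s23_O, 0, 0, 4, 10, TT_s30_O, 0, 0, 5, 12, TT_s31_O, 0, 0, 6, 14, TT_s32_O, 0, 0, 7, 11, TT_s33_O, 1, 0]

theorem tt_c23_cnt_P : Prob 276 9 (grp 276 ht_c2_K) tt_c23_cnt_EG [g561] [g561] tt_c23_K tt_c23_cnt_L 0 0 :=
  Sym.prob hn hk tt_c23_sym tt_c23_cnt_EG_ok (grp_cons_le g489_TT (grp_cons_le n_b_TT (grp_cons_le g490_TT (grp_cons_le g340_TT (grp_cons_le g491_TT (grp_cons_le n_t_TT (grp_cons_le n_u_TT (grp_cons_le g468_TT (grp_cons_le g469_TT (grp_cons_le g470_TT (grp_cons_le g124_TT (grp_cons_le g125_TT (grp_cons_le g126_TT (grp_cons_le g127_TT (grp_cons_le n_k3_TT (grp_cons_le g548_TT (grp_cons_le g549_TT (grp_nil_le _)))))))))))))))))) (Frames.cons TT_s0_F (Frames.cons TT_s23_F (Frames.cons TT_s30_F (Frames.cons TT_s31_F (Frames.cons TT_s32_F (Frames.cons TT_s33_F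 Frames.nil)))))) (okE_cons.2 ⟨g561_ok, okE_nil _⟩) _

noncomputable def tt_c23_cnt_t : BT := (BT.frm (nat_lit 0) (nat_lit 0) (nat_lit 0) [] (BT.pln (nat_lit 0) (nat_lit 3) (BT.fix (nat_lit 257) (BT.dif (nat_lit 1) (nat_lit 0) (BT.br (nat_lit 0) (nat_lit 112) [nat_lit 1] (BT.kid (nat_lit 112) (nat_lit 16) (BT.pln (nat_lit 4) (nat_lit 1) (BT.dif (nat_lit 0) (nat_lit 3) (BT.img (nat_lit 1) (nat_lit 2) (BT.img (nat_lit 1) (nat_lit 0) (BT.and (nat_lit 7) (nat_lit 0) (BT.frm (nat_lit 1) (nat_lit 4893) (nat_lit 4893) [nat_lit 0, nat_lit 2, nat_lit 5] (BT.pln (nat_lit 0) (nat_lit 12) (BT.and (nat_lit 5) (nat_lit 0) (BT.br (nat_lit 0) (nat_lit 265) [nat_lit 3] (BT.kid (nat_lit 265) (nat_lit 4) (BT.dif (nat_lit 8) (nat_lit 2) (BT.pln (nat_lit 4) (nat_lit 15) (BT.dif (nat_lit 1) (nat_lit 0) (BT.frm (nat_lit 2) (nat_lit 0x305131d) (nat_lit 0x305131d) [nat_lit 3, nat_lit 7, nat_lit 9, nat_lit 12] (BT.pln (nat_lit 0) (nat_lit 6) (BT.dif (nat_lit 2) (nat_lit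 0) (BT.img (nat_lit 1) (nat_lit 6) (BT.frm (nat_lit 3) (nat_lit 0x305131d) (nat_lit 0x305131d) [nat_lit 0, nat_lit 7, nat_lit 11, nat_lit 13, nat_lit 16] (BT.pln (nat_lit 0) (nat_lit 7) (BT.dif (nat_lit 3) (nat_lit 0) (BT.br (nat_lit 0) (nat_lit 256) [nat_lit 5] (BT.kid (nat_lit 256) (nat_lit 2) (BT.pln (nat_lit 3) (nat_lit 8) (BT.and (nat_lit 3) (nat_lit 0) (BT.pln (nat_lit 5) (nat_lit 5) (BT.and (nat_lit 1) (nat_lit 0) (BT.pln (nat_lit 7) (nat_lit 6) (BT.and (nat_lit 1) (nat_lit 0) (BT.pln (nat_lit 9) (nat_lit 9) (BT.dif (nat_lit 1) (nat_lit 0) (BT.pln (nat_lit 32) (nat_lit 2) (BT.dif (nat_lit 1) (nat_lit 0) (BT.frm (nat_lit 4) (nat_lit 0x305131d) (nat_lit 0x305131d) [nat_lit 10, nat_lit 14, nat_lit 21, nat_lit 25, nat_lit 27, nat_lit 30] (BT.pln (nat_lit 0) (nat_lit 6) (BT.dif (nat_lit 2) (nat_lit 0) (BT.br (nat_lit 0) (nat_lit 187) [nat_lit 7] (BT.kid (nat_lit 187) (nat_lit 1) (BT.one (nat_lit 5) (nat_lit 0xb0305131d) (nat_lit 0xb0305131d)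 [nat_lit 0, nat_lit 14, nat_lit 18, nat_lit 25, nat_lit 29, nat_lit 31, nat_lit 34]) BT.nil))))))))))))))) BT.nil)))))))))))) BT.nil)))))))))) BT.nil))))))

theorem tt_c23_cnt : Cnt 276 (grp 276 ht_c2_K) [g561] [g561] 0 0 0 0 64 :=
  BT.sound tt_c23_cnt_P Known.nil (t := tt_c23_cnt_t) (d := 0) (by decide +kernel)

theorem tt_c23_ge : 64 ≤ Nat.card (grp 276 tt_c23_K) :=
  Ch.le_card_grp (k := 9) (L := (lab 276 9)) hn tt_c23_K_ok (c := (Ch.cons (nat_lit 112) [nat_lit 1] (Ch.cons (nat_lit 265) [nat_lit 3] (Ch.cons (nat_lit 256) [nat_lit 5] (Ch.cons (nat_lit 187) [nat_lit 7] Ch.nil))))) (by decide +kernel)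

theorem tt_c23_eq : (grp 276 ht_c2_K) ⊓ Subgroup.centralizer {Net.toPerm 276 g561} = grp 276 tt_c23_K :=
  cent_eq tt_c23_sym tt_c23_cnt tt_c23_ge

theorem tt_c23_card : Nat.card ↥((grp 276 ht_c2_K) ⊓ Subgroup.centralizer {Net.toPerm 276 g561}) = 64 :=
  card_cent tt_c23_sym tt_c23_cnt tt_c23_ge

theorem tt_c23_ord : orderOf (Net.toPerm 276 g561) = 4 :=
  orderOf_net hn hk g561_ok (by decide) (ps := [2]) (by set_option linter.unusedSimpArgs false in simp [Nat.primeFactorsList_ofNat]) (by decide +kernel)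

theorem le567 : grp 276 tt_c24_K ≤ grp 276 ht_c2_K :=
  grp_le_of_memB hn hk ht_c2_K_ok tt_c24_K_ok (ws := [nat_lit 0xb05010104, nat_lit 722180, nat_lit 0xb04010301, nat_lit 0xb03010401, nat_lit 0xb010101]) (by decide +kernel)

theorem tt_c24_le : grp 276 tt_c24_K ≤ (grp 276 ht_c2_K) :=
  (le567.trans TT_s0.le)

theorem tt_c24_mem : Net.toPerm 276 g565 ∈ (grp 276 ht_c2_K) :=
  tt_c24_le (toPerm_mem_grp (E := tt_c24_K) (List.Mem.head _))

theorem tt_c24_sym : Sym 276 (grp 276 ht_c2_K) [g565] tt_c24_K 0 :=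
  Sym.of_lab hn hk (okE_cons.2 ⟨g565_ok, okE_nil _⟩) tt_c24_K_ok tt_c24_le (kT := 0) (by decide +kernel)

noncomputable def tt_c24_cnt_L : List ℕ := [0, 4, TT_s0_O, 0, 0, 1, 8, TT_s1_O, 0, 0, 3, 9, TT_s3_O, 0, 0, 5, 13, TT_s5_O, 0, 0, 6, 10, TT_s6_O, 1, 0]

theorem tt_c24_cnt_P : Prob 276 9 (grp 276 ht_c2_K) tt_c24_cnt_EG [g565] [g565] tt_c24_K tt_c24_cnt_L 0 0 :=
  Sym.prob hn hk tt_c24_sym tt_c24_cnt_EG_ok (grp_cons_le g124_TT (grp_cons_le g125_TT (grp_cons_le g126_TT (grp_cons_le g127_TT (grp_cons_le n_k3_TT (grp_cons_le n_t_TT (grp_cons_le g419_TT (grp_cons_le g420_TT (grp_cons_le g417_TT (grp_cons_le n_u_TT (grp_cons_le g414_TT (grp_nil_le _)))))))))))) (Frames.cons TT_s0_F (Frames.cons TT_s1_F (Frames.cons TT_s3_F (Frames.cons TT_s5_F (Frames.cons TT_s6_F Frames.nil))))) (okE_cons.2 ⟨g565_ok, okE_nil _⟩) _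

noncomputable def tt_c24_cnt_t : BT := (BT.frm (nat_lit 0) (nat_lit 0) (nat_lit 0) [] (BT.pln (nat_lit 0) (nat_lit 0) (BT.fix (nat_lit 257) (BT.dif (nat_lit 1) (nat_lit 0) (BT.br (nat_lit 0) (nat_lit 176) [nat_lit 1, nat_lit 3] (BT.kid (nat_lit 176) (nat_lit 8) (BT.img (nat_lit 1) (nat_lit 0) (BT.img (nat_lit 1) (nat_lit 0) (BT.frm (nat_lit 2) (nat_lit 3606) (nat_lit 3606) [nat_lit 0, nat_lit 1, nat_lit 2] (BT.pln (nat_lit 0) (nat_lit 5) (BT.and (nat_lit 5) (nat_lit 0) (BT.pln (nat_lit 2) (nat_lit 3) (BT.dif (nat_lit 1) (nat_lit 0) (BT.pln (nat_lit 4) (nat_lit 6) (BT.dif (nat_lit 1) (nat_lit 0) (BT.br (nat_lit 0) (nat_lit 31) [nat_lit 5] (BT.kid (nat_lit 31) (nat_lit 4) (BT.and (nat_lit 13) (nat_lit 2) (BT.frm (nat_lit 1) (nat_lit 0) (nat_lit 0) [nat_lit 11] (BT.pln (nat_lit 0) (nat_lit 4) (BT.and (nat_lit 2) (nat_lit 0) (BT.br (nat_lit 0) (nat_lit 171) [nat_lit 7] (BT.kid (nat_lit 171) (nat_lit 2) (BT.dif (nat_lit 22) (nat_lit 9) (BT.pln (nat_lit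 13) (nat_lit 4) (BT.dif (nat_lit 1) (nat_lit 0) (BT.dif (nat_lit 0) (nat_lit 14) (BT.dif (nat_lit 0) (nat_lit 11) (BT.pln (nat_lit 17) (nat_lit 7) (BT.dif (nat_lit 1) (nat_lit 0) (BT.pln (nat_lit 26) (nat_lit 3) (BT.dif (nat_lit 1) (nat_lit 0) (BT.dif (nat_lit 0) (nat_lit 27) (BT.frm (nat_lit 3) (nat_lit 3606) (nat_lit 3606) [nat_lit 10, nat_lit 15, nat_lit 23, nat_lit 24, nat_lit 25] (BT.pln (nat_lit 0) (nat_lit 8) (BT.dif (nat_lit 2) (nat_lit 0) (BT.br (nat_lit 0) (nat_lit 119) [nat_lit 9] (BT.kid (nat_lit 119) (nat_lit 1) (BT.one (nat_lit 4) (nat_lit 3606) (nat_lit 3606) [nat_lit 0, nat_lit 14, nat_lit 19, nat_lit 27, nat_lit 28, nat_lit 29]) BT.nil))))))))))))))) BT.nil)))))) BT.nil))))))))))) BT.nil))))))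

theorem tt_c24_cnt : Cnt 276 (grp 276 ht_c2_K) [g565] [g565] 0 0 0 0 144 :=
  BT.sound tt_c24_cnt_P Known.nil (t := tt_c24_cnt_t) (d := 0) (by decide +kernel)

theorem tt_c24_ge : 144 ≤ Nat.card (grp 276 tt_c24_K) :=
  Ch.le_card_grp (k := 9) (L := (lab 276 9)) hn tt_c24_K_ok (c := (Ch.cons (nat_lit 176) [nat_lit 1, nat_lit 3] (Ch.cons (nat_lit 31) [nat_lit 5] (Ch.cons (nat_lit 171) [nat_lit 7] (Ch.cons (nat_lit 119) [nat_lit 9] Ch.nil))))) (by decide +kernel)

theorem tt_c24_eq : (grp 276 ht_c2_K) ⊓ Subgroup.centralizer {Net.toPerm 276 g565} = grp 276 tt_c24_K :=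
  cent_eq tt_c24_sym tt_c24_cnt tt_c24_ge

theorem tt_c24_card : Nat.card ↥((grp 276 ht_c2_K) ⊓ Subgroup.centralizer {Net.toPerm 276 g565}) = 144 :=
  card_cent tt_c24_sym tt_c24_cnt tt_c24_ge

theorem tt_c24_ord : orderOf (Net.toPerm 276 g565) = 6 :=
  orderOf_net hn hk g565_ok (by decide) (ps := [2, 3]) (by set_option linter.unusedSimpArgs false in simp [Nat.primeFactorsList_ofNat]) (by decide +kernel)

theorem le571 : grp 276 tt_c25_K ≤ grp 276 ht_c2_K :=
  grp_le_of_memB hn hk ht_c2_K_ok tt_c25_K_ok (ws := [nat_lit 0xb050306010501, nat_lit 0xb0907050503050107, nat_lit 0xb07010101, nat_lit 723207, nat_lit 11]) (by decide +kernel)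

theorem tt_c25_le : grp 276 tt_c25_K ≤ (grp 276 ht_c2_K) :=
  (le571.trans TT_s0.le)

theorem tt_c25_mem : Net.toPerm 276 g568 ∈ (grp 276 ht_c2_K) :=
  tt_c25_le (toPerm_mem_grp (E := tt_c25_K) (List.Mem.head _))

theorem tt_c25_sym : Sym 276 (grp 276 ht_c2_K) [g568] tt_c25_K 0 :=
  Sym.of_lab hn hk (okE_cons.2 ⟨g568_ok, okE_nil _⟩) tt_c25_K_ok tt_c25_le (kT := 0) (by decide +kernel)

noncomputable def tt_c25_cnt_L : List ℕ := [0, 4, TT_s0_O, 0, 0, 2, 19, TT_s8_O, 0, 0, 3, 9, TT_s9_O, 0, 0, 4, 11, TT_s10_O, 0, 0, 5, 13, TT_s11_O, 0, 0, 6, 10, TT_s12_O, 1, 0]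

theorem tt_c25_cnt_P : Prob 276 9 (grp 276 ht_c2_K) tt_c25_cnt_EG [g568] [g568] tt_c25_K tt_c25_cnt_L 0 0 :=
  Sym.prob hn hk tt_c25_sym tt_c25_cnt_EG_ok (grp_cons_le g125_TT (grp_cons_le g126_TT (grp_cons_le g127_TT (grp_cons_le n_k3_TT (grp_cons_le n_t_TT (grp_cons_le g124_TT (grp_nil_le _))))))) (Frames.cons TT_s0_F (Frames.cons TT_s8_F (Frames.cons TT_s9_F (Frames.cons TT_s10_F (Frames.cons TT_s11_F (Frames.cons TT_s12_F Frames.nil)))))) (okE_cons.2 ⟨g568_ok, okE_nil _⟩) _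

noncomputable def tt_c25_cnt_t : BT := (BT.frm (nat_lit 0) (nat_lit 0) (nat_lit 0) [] (BT.pln (nat_lit 0) (nat_lit 1) (BT.fix (nat_lit 257) (BT.dif (nat_lit 1) (nat_lit 0) (BT.br (nat_lit 0) (nat_lit 194) [nat_lit 1, nat_lit 3] (BT.kid (nat_lit 194) (nat_lit 8) (BT.img (nat_lit 1) (nat_lit 0) (BT.frm (nat_lit 1) (nat_lit 0x1030c03) (nat_lit 0x1030c03) [nat_lit 0, nat_lit 1] (BT.pln (nat_lit 0) (nat_lit 14) (BT.and (nat_lit 4) (nat_lit 0) (BT.img (nat_lit 1) (nat_lit 3) (BT.frm (nat_lit 2) (nat_lit 0x301030c03) (nat_lit 0x301030c03) [nat_lit 0, nat_lit 4, nat_lit 5] (BT.pln (nat_lit 0) (nat_lit 4) (BT.and (nat_lit 3) (nat_lit 0) (BT.br (nat_lit 0) (nat_lit 175) [nat_lit 5] (BT.kid (nat_lit 175) (nat_lit 4) (BT.dif (nat_lit 12) (nat_lit 2) (BT.pln (nat_lit 4) (nat_lit 3) (BT.and (nat_lit 1) (nat_lit 0) (BT.pln (nat_lit 6) (nat_lit 5) (BT.dif (nat_lit 1) (nat_lit 0) (BT.dif (nat_lit 0) (nat_lit 16) (BT.br (nat_lit 0) (nat_lit 104) [nat_lit 7] (BT.kid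 (nat_lit 104) (nat_lit 2) (BT.pln (nat_lit 20) (nat_lit 2) (BT.and (nat_lit 0) (nat_lit 10) (BT.and (nat_lit 0) (nat_lit 5) (BT.frm (nat_lit 3) (nat_lit 0x50301030c03) (nat_lit 0x50301030c03) [nat_lit 10, nat_lit 14, nat_lit 18, nat_lit 19] (BT.pln (nat_lit 0) (nat_lit 4) (BT.and (nat_lit 2) (nat_lit 0) (BT.frm (nat_lit 4) (nat_lit 0x7050301030c03) (nat_lit 0x7050301030c03) [nat_lit 6, nat_lit 13, nat_lit 17, nat_lit 21, nat_lit 22] (BT.pln (nat_lit 0) (nat_lit 5) (BT.dif (nat_lit 2) (nat_lit 0) (BT.br (nat_lit 0) (nat_lit 63) [nat_lit 9] (BT.kid (nat_lit 63) (nat_lit 1) (BT.one (nat_lit 5) (nat_lit 0x7050301030c03) (nat_lit 0x7050301030c03) [nat_lit 0, nat_lit 10, nat_lit 17, nat_lit 21, nat_lit 25, nat_lit 26]) BT.nil))))))))))) BT.nil)))))))) BT.nil)))))))))) BT.nil))))))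

theorem tt_c25_cnt : Cnt 276 (grp 276 ht_c2_K) [g568] [g568] 0 0 0 0 144 :=
  BT.sound tt_c25_cnt_P Known.nil (t := tt_c25_cnt_t) (d := 0) (by decide +kernel)

theorem tt_c25_ge : 144 ≤ Nat.card (grp 276 tt_c25_K) :=
  Ch.le_card_grp (k := 9) (L := (lab 276 9)) hn tt_c25_K_ok (c := (Ch.cons (nat_lit 194) [nat_lit 1, nat_lit 3] (Ch.cons (nat_lit 175) [nat_lit 5] (Ch.cons (nat_lit 104) [nat_lit 7] (Ch.cons (nat_lit 63) [nat_lit 9] Ch.nil))))) (by decide +kernel)

theorem tt_c25_eq : (grp 276 ht_c2_K) ⊓ Subgroup.centralizer {Net.toPerm 276 g568} = grp 276 tt_c25_K :=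
  cent_eq tt_c25_sym tt_c25_cnt tt_c25_ge

theorem tt_c25_card : Nat.card ↥((grp 276 ht_c2_K) ⊓ Subgroup.centralizer {Net.toPerm 276 g568}) = 144 :=
  card_cent tt_c25_sym tt_c25_cnt tt_c25_ge

theorem tt_c25_ord : orderOf (Net.toPerm 276 g568) = 6 :=
  orderOf_net hn hk g568_ok (by decide) (ps := [2, 3]) (by set_option linter.unusedSimpArgs false in simp [Nat.primeFactorsList_ofNat]) (by decide +kernel)

theorem le574 : grp 276 tt_c26_K ≤ grp 276 ht_c2_K :=
  grp_le_of_memB hn hk ht_c2_K_ok tt_c26_K_ok (ws := [nat_lit 0x50306020502, nat_lit 0xb070107, nat_lit 0x7050306010105, nat_lit 0xb010101]) (by decide +kernel)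

theorem tt_c26_le : grp 276 tt_c26_K ≤ (grp 276 ht_c2_K) :=
  (le574.trans TT_s0.le)

theorem tt_c26_mem : Net.toPerm 276 g572 ∈ (grp 276 ht_c2_K) :=
  tt_c26_le (toPerm_mem_grp (E := tt_c26_K) (List.Mem.head _))

theorem tt_c26_sym : Sym 276 (grp 276 ht_c2_K) [g572] tt_c26_K 0 :=
  Sym.of_lab hn hk (okE_cons.2 ⟨g572_ok, okE_nil _⟩) tt_c26_K_ok tt_c26_le (kT := 0) (by decide +kernel)

theorem le577 : grp 276 V576 ≤ grp 276 V421 :=
  grp_le_of_memB hn hk V421_ok V576_ok (ws := [nat_lit 0x503030103, nat_lit 769, nat_lit 9]) (by decide +kernel)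

theorem TT_s34 : Stab 276 (grp 276 ht_c2_K) [nat_lit 84, nat_lit 176] V576 12 :=
  Stab.step (k := 9) (L := (lab 276 9)) hn TT_s1 V576_ok le577 (c := (Ch.cons (nat_lit 257) [nat_lit 1] (Ch.cons (nat_lit 185) [nat_lit 3] (Ch.cons (nat_lit 0) [nat_lit 5] Ch.nil)))) (by decide +kernel)

theorem TT_s35 : Stab 276 (grp 276 ht_c2_K) [nat_lit 257, nat_lit 84, nat_lit 176] V578 6 :=
  Stab.step (k := 9) (L := (lab 276 9)) hn TT_s34 V578_ok (grp_mono (List.subset_append_right [g575] _)) (c := (Ch.cons (nat_lit 185) [nat_lit 1] (Ch.cons (nat_lit 0) [nat_lit 3] Ch.nil))) (by decide +kernel)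

theorem TT_s36 : Stab 276 (grp 276 ht_c2_K) [nat_lit 185, nat_lit 257, nat_lit 84, nat_lit 176] V579 2 :=
  Stab.step (k := 9) (L := (lab 276 9)) hn TT_s35 V579_ok (grp_mono (List.subset_append_right [n_y] _)) (c := (Ch.cons (nat_lit 0) [nat_lit 1] Ch.nil)) (by decide +kernel)

theorem TT_s37 : Stab 276 (grp 276 ht_c2_K) [nat_lit 0, nat_lit 185, nat_lit 257, nat_lit 84, nat_lit 176] V580 1 :=
  Stab.step (k := 9) (L := (lab 276 9)) hn TT_s36 V580_ok (grp_mono (List.subset_append_right [n_u] _)) (c := Ch.nil) (by decide +kernel)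

theorem n_y_TT : Net.toPerm 276 n_y ∈ (grp 276 ht_c2_K) :=
  TT_s35.le (toPerm_mem_grp (E := V578) (List.Mem.head _))

theorem g575_TT : Net.toPerm 276 g575 ∈ (grp 276 ht_c2_K) :=
  TT_s34.le (toPerm_mem_grp (E := V576) (List.Mem.head _))

noncomputable def TT_s37_O : ℕ := (nat_lit 0x9993333366666ccccc99999b3333666664ccccd9999b3333266666ccccd9999933332c1f07c1f07c1f07c0f83e0f83e0f83e0f81f07c1f07c1f07c1f03e0f83e0f83e0f83e7319cc63398ce7319cc63398ce7319ce63398c67319ce63398c67319ce63398c6731826d926c93649b24db26d936c9b649b24d926d936c9b64db24d926c93649b64db26d92000000000000000000000000100000000000000000000000000000000000000000000000000000000000000000000000000000000000000000001000000000000000000000000020000000000000000000000000000000000000000000000000000000000000000000000000000000000000020000000000000000000000000000000000000000000000000000000000000000000000000000000000000000000000000000000000000000001)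

theorem TT_s37_F : Frame 276 (grp 276 ht_c2_K) 5 9 TT_s37_O 1 1 :=
  IsBase.frame TT_s37.isBase (by decide +kernel)

noncomputable def TT_s36_O : ℕ := (nat_lit 0x10004001000801832011050000808420200000011000c000108000000000000000000cffc8fcc2f274e549f40925f0a72734e17ffdfdce93e396cc00021000050180001002ca9d1bd22ff11e6c9bea885c8e4b2bcd0d00000004c10612277ffdf9fff8180001002be7c4507b89fe5ef5c4c4081051d508308bfcefc868100102f6ffd820056fbffc100241638a92c0c4a228e6b5e75f2fc29482d2bbc9204d3e2292277c217de054fbc03fe02b0b6d7adacfbf258233984cec4043be3e2fa37e151310be22f03e1781e54e43c3c1e0da16c0704e52f39c371adbd12fad7a3e3235b618450ccb9c24733b6399869b333299838d78f09d241cf2e6d09999ac951a9ba94ad749768ab8c5ab25ab457556452aaab554000000000000000000000000100000000000000000000000000000000000000000000000000000000000000000000000000000000000000000001000000000000000000000000020000000000000000000000000000000000000000000000000000000000000000000000000000000000000020000000000000000000000000000000000000000000000)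

theorem TT_s36_F : Frame 276 (grp 276 ht_c2_K) 4 12 TT_s36_O 0 1 :=
  Stab.frame hn TT_s36 (by decide +kernel)

noncomputable def TT_s34_O : ℕ := (nat_lit 0x1528e001047c8183215145a00091e6622862082dd0c0e020109135c1005c392001002600229d1d2816b0186b98865236e040dd60594102f0b0c9499e2e80aa132d21ffe800f0c14334ab8914f2ea381f4806ae992831986041340cc59e9d6a091ed9624c9f115a20755b192b46312c955a192148c857271fa116309efdf741aece4f7deee284896cc51aae353e245da0b107773a615b0d4dae72932391e29bba0c120d521c1d5af6ab9dca696000000000000000000000000100000000000000000000000000000000000000000000000000000000000000000000000000000000000000000001000000000000000000000)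

theorem TT_s34_F : Frame 276 (grp 276 ht_c2_K) 2 7 TT_s34_O 0 1 :=
  Stab.frame hn TT_s34 (by decide +kernel)

noncomputable def tt_c26_cnt_L : List ℕ := [0, 4, TT_s0_O, 0, 0, 1, 8, TT_s1_O, 0, 0, 2, 7, TT_s34_O, 0, 0, 4, 12, TT_s36_O, 0, 0, 5, 9, TT_s37_O, 1, 0]

theorem tt_c26_cnt_P : Prob 276 9 (grp 276 ht_c2_K) tt_c26_cnt_EG [g572] [g572] tt_c26_K tt_c26_cnt_L 0 0 :=
  Sym.prob hn hk tt_c26_sym tt_c26_cnt_EG_ok (grp_cons_le g124_TT (grp_cons_le g125_TT (grp_cons_le g126_TT (grp_cons_le g127_TT (grp_cons_le n_k3_TT (grp_cons_le n_t_TT (grp_cons_le g414_TT (grp_cons_le g419_TT (grp_cons_le g420_TT (grp_cons_le g417_TT (grp_cons_le n_u_TT (grp_cons_le n_y_TT (grp_cons_le g575_TT (grp_nil_le _)))))))))))))) (Frames.cons TT_s0_F (Frames.cons TT_s1_F (Frames.cons TT_s34_F (Frames.cons TT_s36_F (Frames.cons TT_s37_F Frames.nil))))) (okE_cons.2 ⟨g572_ok, okE_nil _⟩) _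

noncomputable def tt_c26_cnt_t : BT := (BT.frm (nat_lit 0) (nat_lit 0) (nat_lit 0) [] (BT.pln (nat_lit 0) (nat_lit 0) (BT.br (nat_lit 0) (nat_lit 176) [nat_lit 3, nat_lit 5] (BT.kid (nat_lit 176) (nat_lit 6) (BT.frm (nat_lit 1) (nat_lit 0) (nat_lit 0) [nat_lit 0] (BT.pln (nat_lit 0) (nat_lit 6) (BT.and (nat_lit 3) (nat_lit 0) (BT.img (nat_lit 1) (nat_lit 3) (BT.frm (nat_lit 2) (nat_lit 0) (nat_lit 0) [nat_lit 0, nat_lit 4] (BT.pln (nat_lit 0) (nat_lit 3) (BT.dif (nat_lit 3) (nat_lit 0) (BT.br (nat_lit 0) (nat_lit 185) [nat_lit 5] (BT.kid (nat_lit 185) (nat_lit 2) (BT.dif (nat_lit 13) (nat_lit 2) (BT.pln (nat_lit 4) (nat_lit 2) (BT.dif (nat_lit 1) (nat_lit 0) (BT.pln (nat_lit 6) (nat_lit 4) (BT.dif (nat_lit 1) (nat_lit 0) (BT.pln (nat_lit 8) (nat_lit 5) (BT.dif (nat_lit 1) (nat_lit 0) (BT.pln (nat_lit 10) (nat_lit 6) (BT.dif (nat_lit 1) (nat_lit 0) (BT.dif (nat_lit 0) (nat_lit 18) (BT.img (nat_lit 1) (nat_lit 14) (BT.frm (nat_lit 3) (nat_lit 0)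 (nat_lit 0) [nat_lit 11, nat_lit 0, nat_lit 15, nat_lit 19] (BT.pln (nat_lit 0) (nat_lit 6) (BT.dif (nat_lit 3) (nat_lit 0) (BT.pln (nat_lit 2) (nat_lit 7) (BT.dif (nat_lit 1) (nat_lit 0) (BT.br (nat_lit 0) (nat_lit 0) [nat_lit 7] (BT.kid (nat_lit 0) (nat_lit 1) (BT.one (nat_lit 4) (nat_lit 0) (nat_lit 0) [nat_lit 0, nat_lit 17, nat_lit 6, nat_lit 21, nat_lit 25]) BT.nil)))))))))))))))))) BT.nil))))))))) BT.nil))))

theorem tt_c26_cnt : Cnt 276 (grp 276 ht_c2_K) [g572] [g572] 0 0 0 0 144 :=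
  BT.sound tt_c26_cnt_P Known.nil (t := tt_c26_cnt_t) (d := 0) (by decide +kernel)

theorem tt_c26_ge : 144 ≤ Nat.card (grp 276 tt_c26_K) :=
  Ch.le_card_grp (k := 9) (L := (lab 276 9)) hn tt_c26_K_ok (c := (Ch.cons (nat_lit 176) [nat_lit 1, nat_lit 3] (Ch.cons (nat_lit 185) [nat_lit 5] (Ch.cons (nat_lit 0) [nat_lit 7] Ch.nil)))) (by decide +kernel)

theorem tt_c26_eq : (grp 276 ht_c2_K) ⊓ Subgroup.centralizer {Net.toPerm 276 g572} = grp 276 tt_c26_K :=
  cent_eq tt_c26_sym tt_c26_cnt tt_c26_ge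

theorem tt_c26_card : Nat.card ↥((grp 276 ht_c2_K) ⊓ Subgroup.centralizer {Net.toPerm 276 g572}) = 144 :=
  card_cent tt_c26_sym tt_c26_cnt tt_c26_ge

theorem tt_c26_ord : orderOf (Net.toPerm 276 g572) = 6 :=
  orderOf_net hn hk g572_ok (by decide) (ps := [2, 3]) (by set_option linter.unusedSimpArgs false in simp [Nat.primeFactorsList_ofNat]) (by decide +kernel)

theorem le583 : grp 276 tt_c27_K ≤ grp 276 ht_c2_K :=
  grp_le_of_memB hn hk ht_c2_K_ok tt_c27_K_ok (ws := [nat_lit 0x7030204, nat_lit 0xb060303010301, nat_lit 722180, nat_lit 11]) (by decide +kernel)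

theorem tt_c27_le : grp 276 tt_c27_K ≤ (grp 276 ht_c2_K) :=
  (le583.trans TT_s0.le)

theorem tt_c27_mem : Net.toPerm 276 g581 ∈ (grp 276 ht_c2_K) :=
  tt_c27_le (toPerm_mem_grp (E := tt_c27_K) (List.Mem.head _))

theorem tt_c27_sym : Sym 276 (grp 276 ht_c2_K) [g581] tt_c27_K 0 :=
  Sym.of_lab hn hk (okE_cons.2 ⟨g581_ok, okE_nil _⟩) tt_c27_K_ok tt_c27_le (kT := 0) (by decide +kernel)

theorem le587 : grp 276 V586 ≤ grp 276 V434 :=
  grp_le_of_memB hn hk V434_ok V586_ok (ws := [nat_lit 0x9070402, nat_lit 259, nat_lit 9]) (by decide +kernel)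

theorem TT_s38 : Stab 276 (grp 276 ht_c2_K) [nat_lit 104, nat_lit 33] V586 12 :=
  Stab.step (k := 9) (L := (lab 276 9)) hn TT_s7 V586_ok le587 (c := (Ch.cons (nat_lit 52) [nat_lit 1] (Ch.cons (nat_lit 137) [nat_lit 3] (Ch.cons (nat_lit 0) [nat_lit 5] Ch.nil)))) (by decide +kernel)

theorem TT_s39 : Stab 276 (grp 276 ht_c2_K) [nat_lit 52, nat_lit 104, nat_lit 33] V588 6 :=
  Stab.step (k := 9) (L := (lab 276 9)) hn TT_s38 V588_ok (grp_mono (List.subset_append_right [g584] _)) (c := (Ch.cons (nat_lit 137) [nat_lit 1] (Ch.cons (nat_lit 0) [nat_lit 3] Ch.nil))) (by decide +kernel)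

theorem TT_s40 : Stab 276 (grp 276 ht_c2_K) [nat_lit 137, nat_lit 52, nat_lit 104, nat_lit 33] V589 2 :=
  Stab.step (k := 9) (L := (lab 276 9)) hn TT_s39 V589_ok (grp_mono (List.subset_append_right [g585] _)) (c := (Ch.cons (nat_lit 0) [nat_lit 1] Ch.nil)) (by decide +kernel)

theorem TT_s41 : Stab 276 (grp 276 ht_c2_K) [nat_lit 0, nat_lit 137, nat_lit 52, nat_lit 104, nat_lit 33] V590 1 :=
  Stab.step (k := 9) (L := (lab 276 9)) hn TT_s40 V590_ok (grp_mono (List.subset_append_right [n_t] _)) (c := Ch.nil) (by decide +kernel)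

theorem g585_TT : Net.toPerm 276 g585 ∈ (grp 276 ht_c2_K) :=
  TT_s39.le (toPerm_mem_grp (E := V588) (List.Mem.head _))

theorem g584_TT : Net.toPerm 276 g584 ∈ (grp 276 ht_c2_K) :=
  TT_s38.le (toPerm_mem_grp (E := V586) (List.Mem.head _))

noncomputable def TT_s41_O : ℕ := (nat_lit 0x9993333366666ccccc99999b3333666664ccccd9999b3333266666ccccd9999933332c1f07c1f07c1f07c0f83e0f83e0f83e0f81f07c1f07c1f07c1f03e0f83e0f83e0f83e7319cc63398ce7319cc63398ce7319ce63398c67319ce63398c67319ce63398c6731826d926c93649b24db26d936c9b649b24d926d936c9b64db24d926c93649b64db26d92000000000000000000000000000000000000000000000000000000000000200000000000000000000000000000000000000000000000000100000000000000000000000000000000000000000000000000000000000000000000000000000000010000000000000000000000000000000000000000000000020000000000000000000000000000000000000000000000000000000000000000000000000000000000000000000000000000001)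

theorem TT_s41_F : Frame 276 (grp 276 ht_c2_K) 5 9 TT_s41_O 1 1 :=
  IsBase.frame TT_s41.isBase (by decide +kernel)

noncomputable def TT_s40_O : ℕ := (nat_lit 0x123450000008800230004510080080120002012010000000000000000000000000000cdc1a6f4de7347f98f61b2eb23e75ba82f913a5eefeecd5e001000000244010001010c84aa4af66e70349c77d3a6cf3ca396d780404010001a021fff7cffef74401000101036f4f6f3d4ee6e0d007e80079414420455d9361eec018221fdf7f0000affdbfd81010c9880b149091a8b67a17f77633492040459136d103cef0a1ff183df80adddf027fa1097f3862dd564a072b61312ed4c1ff916c695440f83e1afc1e0fc1d86cae984f2785e0f64644a5fb17eb3ac098568a7e0e926815c2fdcc632cbe3998db3e66308c51ce6618cbd64b3238513af61aa9cd14179aa0e7567162a2b4aaa9b9556aa8b54aeb748a955d4a000000000000000000000000000000000000000000000000000000000000200000000000000000000000000000000000000000000000000100000000000000000000000000000000000000000000000000000000000000000000000000000000010000000000000000000000000000000000000000000000020000000000000000000000000000000000)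

theorem TT_s40_F : Frame 276 (grp 276 ht_c2_K) 4 12 TT_s40_O 0 1 :=
  Stab.frame hn TT_s40 (by decide +kernel)

noncomputable def TT_s38_O : ℕ := (nat_lit 0x1a3c5000081aa3827166c5101900a0b3182207211008c00a961121b906d4990001010e2e186b446e4c01c92083ad4c67b401802730170a14537e4295e5c05012e02ff740009556d9be840c403e2400578fcc159342464c59fe73c487306840d046c26807f48bed0bd8a4540db696c44648c9017ad29695b96a996cabce4ab2cae134cfb0ca346ebaa93ced56b87b0f96c665d7ff5868cfba1dcb680205982e88028fc5d2c8674f0383d91231a000000000000000000000000000000000000000000000000000000000000200000000000000000000000000000000000000000000000000100000000000000000000000000)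

theorem TT_s38_F : Frame 276 (grp 276 ht_c2_K) 2 7 TT_s38_O 0 1 :=
  Stab.frame hn TT_s38 (by decide +kernel)

noncomputable def tt_c27_cnt_L : List ℕ := [0, 4, TT_s0_O, 0, 0, 1, 8, TT_s7_O, 0, 0, 2, 7, TT_s38_O, 0, 0, 4, 12, TT_s40_O, 0, 0, 5, 9, TT_s41_O, 1, 0]

theorem tt_c27_cnt_P : Prob 276 9 (grp 276 ht_c2_K) tt_c27_cnt_EG [g581] [g581] tt_c27_K tt_c27_cnt_L 0 0 :=
  Sym.prob hn hk tt_c27_sym tt_c27_cnt_EG_ok (grp_cons_le g124_TT (grp_cons_le g125_TT (grp_cons_le g126_TT (grp_cons_le g127_TT (grp_cons_le n_k3_TT (grp_cons_le n_t_TT (grp_cons_le g585_TT (grp_cons_le g584_TT (grp_nil_le _))))))))) (Frames.cons TT_s0_F (Frames.cons TT_s7_F (Frames.cons TT_s38_F (Frames.cons TT_s40_F (Frames.cons TT_s41_F Frames.nil))))) (okE_cons.2 ⟨g581_ok, okE_nil _⟩) _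

noncomputable def tt_c27_cnt_t : BT := (BT.frm (nat_lit 0) (nat_lit 0) (nat_lit 0) [] (BT.pln (nat_lit 0) (nat_lit 1) (BT.br (nat_lit 0) (nat_lit 256) [nat_lit 1, nat_lit 3, nat_lit 5] (BT.kid (nat_lit 256) (nat_lit 6) (BT.frm (nat_lit 1) (nat_lit 65796) (nat_lit 65796) [nat_lit 0] (BT.pln (nat_lit 0) (nat_lit 6) (BT.and (nat_lit 3) (nat_lit 0) (BT.img (nat_lit 1) (nat_lit 3) (BT.frm (nat_lit 2) (nat_lit 0x30607010104) (nat_lit 0x30607010104) [nat_lit 0, nat_lit 4] (BT.pln (nat_lit 0) (nat_lit 2) (BT.dif (nat_lit 3) (nat_lit 0) (BT.br (nat_lit 0) (nat_lit 264) [nat_lit 5] (BT.kid (nat_lit 264) (nat_lit 2) (BT.dif (nat_lit 13) (nat_lit 2) (BT.pln (nat_lit 4) (nat_lit 3) (BT.dif (nat_lit 1) (nat_lit 0) (BT.pln (nat_lit 6) (nat_lit 4) (BT.dif (nat_lit 1) (nat_lit 0) (BT.pln (nat_lit 15) (nat_lit 0) (BT.dif (nat_lit 1) (nat_lit 0) (BT.pln (nat_lit 10) (nat_lit 5) (BT.dif (nat_lit 1) (nat_lit 0) (BT.dif (nat_lit 0) (nat_lit 18) (BT.img (nat_lit 1)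 (nat_lit 14) (BT.frm (nat_lit 3) (nat_lit 0x30607010104) (nat_lit 0x30607010104) [nat_lit 11, nat_lit 0, nat_lit 15, nat_lit 19] (BT.pln (nat_lit 0) (nat_lit 4) (BT.dif (nat_lit 3) (nat_lit 0) (BT.pln (nat_lit 2) (nat_lit 5) (BT.dif (nat_lit 1) (nat_lit 0) (BT.br (nat_lit 0) (nat_lit 3) [nat_lit 7] (BT.kid (nat_lit 3) (nat_lit 1) (BT.one (nat_lit 4) (nat_lit 0x30607010104) (nat_lit 0x30607010104) [nat_lit 0, nat_lit 17, nat_lit 6, nat_lit 21, nat_lit 25]) BT.nil)))))))))))))))))) BT.nil))))))))) BT.nil))))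

theorem tt_c27_cnt : Cnt 276 (grp 276 ht_c2_K) [g581] [g581] 0 0 0 0 144 :=
  BT.sound tt_c27_cnt_P Known.nil (t := tt_c27_cnt_t) (d := 0) (by decide +kernel)

theorem tt_c27_ge : 144 ≤ Nat.card (grp 276 tt_c27_K) :=
  Ch.le_card_grp (k := 9) (L := (lab 276 9)) hn tt_c27_K_ok (c := (Ch.cons (nat_lit 256) [nat_lit 1, nat_lit 3] (Ch.cons (nat_lit 264) [nat_lit 5] (Ch.cons (nat_lit 3) [nat_lit 7] Ch.nil)))) (by decide +kernel)

theorem tt_c27_eq : (grp 276 ht_c2_K) ⊓ Subgroup.centralizer {Net.toPerm 276 g581} = grp 276 tt_c27_K :=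
  cent_eq tt_c27_sym tt_c27_cnt tt_c27_ge

theorem tt_c27_card : Nat.card ↥((grp 276 ht_c2_K) ⊓ Subgroup.centralizer {Net.toPerm 276 g581}) = 144 :=
  card_cent tt_c27_sym tt_c27_cnt tt_c27_ge

theorem tt_c27_ord : orderOf (Net.toPerm 276 g581) = 6 :=
  orderOf_net hn hk g581_ok (by decide) (ps := [2, 3]) (by set_option linter.unusedSimpArgs false in simp [Nat.primeFactorsList_ofNat]) (by decide +kernel)

theorem le594 : grp 276 tt_c28_K ≤ grp 276 ht_c2_K :=
  grp_le_of_memB hn hk ht_c2_K_ok tt_c28_K_ok (ws := [nat_lit 2, nat_lit 0x50503020402, nat_lit 0x90706030107, nat_lit 0xb010101]) (by decide +kernel)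

theorem tt_c28_le : grp 276 tt_c28_K ≤ (grp 276 ht_c2_K) :=
  (le594.trans TT_s0.le)

theorem tt_c28_mem : Net.toPerm 276 g591 ∈ (grp 276 ht_c2_K) :=
  tt_c28_le (toPerm_mem_grp (E := tt_c28_K) (List.Mem.head _))

theorem tt_c28_sym : Sym 276 (grp 276 ht_c2_K) [g591] tt_c28_K 0 :=
  Sym.of_lab hn hk (okE_cons.2 ⟨g591_ok, okE_nil _⟩) tt_c28_K_ok tt_c28_le (kT := 0) (by decide +kernel)

noncomputable def tt_c28_cnt_L : List ℕ := [0, 4, TT_s0_O, 0, 0, 1, 8, TT_s1_O, 0, 0, 2, 7, TT_s34_O, 0, 0, 4, 12, TT_s36_O, 0, 0, 5, 9, TT_s37_O, 1, 0]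

theorem tt_c28_cnt_P : Prob 276 9 (grp 276 ht_c2_K) tt_c28_cnt_EG [g591] [g591] tt_c28_K tt_c28_cnt_L 0 0 :=
  Sym.prob hn hk tt_c28_sym tt_c28_cnt_EG_ok (grp_cons_le g124_TT (grp_cons_le g125_TT (grp_cons_le g126_TT (grp_cons_le g127_TT (grp_cons_le n_k3_TT (grp_cons_le n_t_TT (grp_cons_le g414_TT (grp_cons_le g419_TT (grp_cons_le g420_TT (grp_cons_le g417_TT (grp_cons_le n_u_TT (grp_cons_le n_y_TT (grp_cons_le g575_TT (grp_nil_le _)))))))))))))) (Frames.cons TT_s0_F (Frames.cons TT_s1_F (Frames.cons TT_s34_F (Frames.cons TT_s36_F (Frames.cons TT_s37_F Frames.nil))))) (okE_cons.2 ⟨g591_ok, okE_nil _⟩) _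

noncomputable def tt_c28_cnt_t : BT := (BT.frm (nat_lit 0) (nat_lit 0) (nat_lit 0) [] (BT.pln (nat_lit 0) (nat_lit 0) (BT.br (nat_lit 0) (nat_lit 176) [nat_lit 1, nat_lit 3, nat_lit 5] (BT.kid (nat_lit 176) (nat_lit 6) (BT.frm (nat_lit 1) (nat_lit 0) (nat_lit 0) [nat_lit 0] (BT.pln (nat_lit 0) (nat_lit 6) (BT.and (nat_lit 3) (nat_lit 0) (BT.img (nat_lit 1) (nat_lit 3) (BT.frm (nat_lit 2) (nat_lit 4110) (nat_lit 4110) [nat_lit 0, nat_lit 4] (BT.pln (nat_lit 0) (nat_lit 3) (BT.dif (nat_lit 3) (nat_lit 0) (BT.br (nat_lit 0) (nat_lit 185) [nat_lit 5] (BT.kid (nat_lit 185) (nat_lit 2) (BT.dif (nat_lit 13) (nat_lit 2) (BT.pln (nat_lit 4) (nat_lit 2) (BT.dif (nat_lit 1) (nat_lit 0) (BT.pln (nat_lit 6) (nat_lit 4) (BT.dif (nat_lit 1) (nat_lit 0) (BT.pln (nat_lit 8) (nat_lit 5) (BT.dif (nat_lit 1) (nat_lit 0) (BT.pln (nat_lit 10) (nat_lit 6) (BT.dif (nat_lit 1) (nat_lit 0) (BT.dif (nat_lit 0) (nat_lit 18) (BT.img (nat_lit 1) (nat_lit 14) (BT.frm (nat_lit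 3) (nat_lit 0x18100e) (nat_lit 0x18100e) [nat_lit 11, nat_lit 0, nat_lit 15, nat_lit 19] (BT.pln (nat_lit 0) (nat_lit 6) (BT.dif (nat_lit 3) (nat_lit 0) (BT.pln (nat_lit 2) (nat_lit 7) (BT.dif (nat_lit 1) (nat_lit 0) (BT.br (nat_lit 0) (nat_lit 240) [nat_lit 7] (BT.kid (nat_lit 240) (nat_lit 1) (BT.one (nat_lit 4) (nat_lit 0x18100e) (nat_lit 0x18100e) [nat_lit 0, nat_lit 17, nat_lit 6, nat_lit 21, nat_lit 25]) BT.nil)))))))))))))))))) BT.nil))))))))) BT.nil))))

theorem tt_c28_cnt : Cnt 276 (grp 276 ht_c2_K) [g591] [g591] 0 0 0 0 144 :=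
  BT.sound tt_c28_cnt_P Known.nil (t := tt_c28_cnt_t) (d := 0) (by decide +kernel)

theorem tt_c28_ge : 144 ≤ Nat.card (grp 276 tt_c28_K) :=
  Ch.le_card_grp (k := 9) (L := (lab 276 9)) hn tt_c28_K_ok (c := (Ch.cons (nat_lit 176) [nat_lit 1, nat_lit 3] (Ch.cons (nat_lit 185) [nat_lit 5] (Ch.cons (nat_lit 240) [nat_lit 7] Ch.nil)))) (by decide +kernel)

theorem tt_c28_eq : (grp 276 ht_c2_K) ⊓ Subgroup.centralizer {Net.toPerm 276 g591} = grp 276 tt_c28_K :=
  cent_eq tt_c28_sym tt_c28_cnt tt_c28_ge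

theorem tt_c28_card : Nat.card ↥((grp 276 ht_c2_K) ⊓ Subgroup.centralizer {Net.toPerm 276 g591}) = 144 :=
  card_cent tt_c28_sym tt_c28_cnt tt_c28_ge

theorem tt_c28_ord : orderOf (Net.toPerm 276 g591) = 6 :=
  orderOf_net hn hk g591_ok (by decide) (ps := [2, 3]) (by set_option linter.unusedSimpArgs false in simp [Nat.primeFactorsList_ofNat]) (by decide +kernel)

theorem le599 : grp 276 tt_c29_K ≤ grp 276 ht_c2_K :=
  grp_le_of_memB hn hk ht_c2_K_ok tt_c29_K_ok (ws := [nat_lit 0xb050503010507, nat_lit 0xb09030104, nat_lit 0x4020302, nat_lit 0xb06010501, nat_lit 0xb010101]) (by decide +kernel)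

theorem tt_c29_le : grp 276 tt_c29_K ≤ (grp 276 ht_c2_K) :=
  (le599.trans TT_s0.le)

theorem tt_c29_mem : Net.toPerm 276 g595 ∈ (grp 276 ht_c2_K) :=
  tt_c29_le (toPerm_mem_grp (E := tt_c29_K) (List.Mem.head _))

theorem tt_c29_sym : Sym 276 (grp 276 ht_c2_K) [g595] tt_c29_K 0 :=
  Sym.of_lab hn hk (okE_cons.2 ⟨g595_ok, okE_nil _⟩) tt_c29_K_ok tt_c29_le (kT := 0) (by decide +kernel)

noncomputable def tt_c29_cnt_L : List ℕ := [0, 4, TT_s0_O, 0, 0, 1, 8, TT_s1_O, 0, 0, 3, 9, TT_s3_O, 0, 0, 5, 13, TT_s5_O, 0, 0, 6, 10, TT_s6_O, 1, 0]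

theorem tt_c29_cnt_P : Prob 276 9 (grp 276 ht_c2_K) tt_c29_cnt_EG [g595] [g595] tt_c29_K tt_c29_cnt_L 0 0 :=
  Sym.prob hn hk tt_c29_sym tt_c29_cnt_EG_ok (grp_cons_le g124_TT (grp_cons_le g125_TT (grp_cons_le g126_TT (grp_cons_le g127_TT (grp_cons_le n_k3_TT (grp_cons_le n_t_TT (grp_cons_le g419_TT (grp_cons_le g420_TT (grp_cons_le g417_TT (grp_cons_le n_u_TT (grp_cons_le g414_TT (grp_nil_le _)))))))))))) (Frames.cons TT_s0_F (Frames.cons TT_s1_F (Frames.cons TT_s3_F (Frames.cons TT_s5_F (Frames.cons TT_s6_F Frames.nil))))) (okE_cons.2 ⟨g595_ok, okE_nil _⟩) _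

noncomputable def tt_c29_cnt_t : BT := (BT.frm (nat_lit 0) (nat_lit 0) (nat_lit 0) [] (BT.pln (nat_lit 0) (nat_lit 0) (BT.fix (nat_lit 257) (BT.dif (nat_lit 1) (nat_lit 0) (BT.br (nat_lit 0) (nat_lit 145) [nat_lit 1, nat_lit 3] (BT.kid (nat_lit 145) (nat_lit 8) (BT.img (nat_lit 1) (nat_lit 0) (BT.img (nat_lit 1) (nat_lit 0) (BT.frm (nat_lit 2) (nat_lit 0xd150d01) (nat_lit 0xd150d01) [nat_lit 0, nat_lit 1, nat_lit 2] (BT.pln (nat_lit 0) (nat_lit 5) (BT.and (nat_lit 5) (nat_lit 0) (BT.pln (nat_lit 2) (nat_lit 3) (BT.dif (nat_lit 1) (nat_lit 0) (BT.pln (nat_lit 4) (nat_lit 6) (BT.dif (nat_lit 1) (nat_lit 0) (BT.br (nat_lit 0) (nat_lit 220) [nat_lit 5] (BT.kid (nat_lit 220) (nat_lit 4) (BT.and (nat_lit 13) (nat_lit 2) (BT.frm (nat_lit 1) (nat_lit 1) (nat_lit 1) [nat_lit 11] (BT.pln (nat_lit 0) (nat_lit 4) (BT.and (nat_lit 2) (nat_lit 0) (BT.br (nat_lit 0) (nat_lit 75) [nat_lit 7] (BT.kid (nat_lit 75) (nat_lit 2) (BT.dif (nat_lit 22) (nat_lit 9) (BT.pln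 (nat_lit 13) (nat_lit 4) (BT.dif (nat_lit 1) (nat_lit 0) (BT.dif (nat_lit 0) (nat_lit 14) (BT.dif (nat_lit 0) (nat_lit 11) (BT.pln (nat_lit 17) (nat_lit 7) (BT.dif (nat_lit 1) (nat_lit 0) (BT.pln (nat_lit 26) (nat_lit 3) (BT.dif (nat_lit 1) (nat_lit 0) (BT.dif (nat_lit 0) (nat_lit 27) (BT.frm (nat_lit 3) (nat_lit 0xd150d01) (nat_lit 0xd150d01) [nat_lit 10, nat_lit 15, nat_lit 23, nat_lit 24, nat_lit 25] (BT.pln (nat_lit 0) (nat_lit 8) (BT.dif (nat_lit 2) (nat_lit 0) (BT.br (nat_lit 0) (nat_lit 59) [nat_lit 9] (BT.kid (nat_lit 59) (nat_lit 1) (BT.one (nat_lit 4) (nat_lit 0x130d150d01) (nat_lit 0x130d150d01) [nat_lit 0, nat_lit 14, nat_lit 19, nat_lit 27, nat_lit 28, nat_lit 29]) BT.nil))))))))))))))) BT.nil)))))) BT.nil))))))))))) BT.nil))))))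

theorem tt_c29_cnt : Cnt 276 (grp 276 ht_c2_K) [g595] [g595] 0 0 0 0 144 :=
  BT.sound tt_c29_cnt_P Known.nil (t := tt_c29_cnt_t) (d := 0) (by decide +kernel)

theorem tt_c29_ge : 144 ≤ Nat.card (grp 276 tt_c29_K) :=
  Ch.le_card_grp (k := 9) (L := (lab 276 9)) hn tt_c29_K_ok (c := (Ch.cons (nat_lit 145) [nat_lit 1, nat_lit 3] (Ch.cons (nat_lit 220) [nat_lit 5] (Ch.cons (nat_lit 75) [nat_lit 7] (Ch.cons (nat_lit 59) [nat_lit 9] Ch.nil))))) (by decide +kernel)

theorem tt_c29_eq : (grp 276 ht_c2_K) ⊓ Subgroup.centralizer {Net.toPerm 276 g595} = grp 276 tt_c29_K :=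
  cent_eq tt_c29_sym tt_c29_cnt tt_c29_ge

theorem tt_c29_card : Nat.card ↥((grp 276 ht_c2_K) ⊓ Subgroup.centralizer {Net.toPerm 276 g595}) = 144 :=
  card_cent tt_c29_sym tt_c29_cnt tt_c29_ge

theorem tt_c29_ord : orderOf (Net.toPerm 276 g595) = 6 :=
  orderOf_net hn hk g595_ok (by decide) (ps := [2, 3]) (by set_option linter.unusedSimpArgs false in simp [Nat.primeFactorsList_ofNat]) (by decide +kernel)

theorem le603 : grp 276 tt_c30_K ≤ grp 276 ht_c2_K :=
  grp_le_of_memB hn hk ht_c2_K_ok tt_c30_K_ok (ws := [nat_lit 0x706030107, nat_lit 0xb0703010407, nat_lit 0x6010301, nat_lit 11]) (by decide +kernel)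

theorem tt_c30_le : grp 276 tt_c30_K ≤ (grp 276 ht_c2_K) :=
  (le603.trans TT_s0.le)

theorem tt_c30_mem : Net.toPerm 276 g600 ∈ (grp 276 ht_c2_K) :=
  tt_c30_le (toPerm_mem_grp (E := tt_c30_K) (List.Mem.head _))

theorem tt_c30_sym : Sym 276 (grp 276 ht_c2_K) [g600] tt_c30_K 0 :=
  Sym.of_lab hn hk (okE_cons.2 ⟨g600_ok, okE_nil _⟩) tt_c30_K_ok tt_c30_le (kT := 0) (by decide +kernel)

noncomputable def tt_c30_cnt_L : List ℕ := [0, 4, TT_s0_O, 0, 0, 1, 8, TT_s7_O, 0, 0, 2, 7, TT_s38_O, 0, 0, 4, 12, TT_s40_O, 0, 0, 5, 9, TT_s41_O, 1, 0]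

theorem tt_c30_cnt_P : Prob 276 9 (grp 276 ht_c2_K) tt_c30_cnt_EG [g600] [g600] tt_c30_K tt_c30_cnt_L 0 0 :=
  Sym.prob hn hk tt_c30_sym tt_c30_cnt_EG_ok (grp_cons_le g124_TT (grp_cons_le g125_TT (grp_cons_le g126_TT (grp_cons_le g127_TT (grp_cons_le n_k3_TT (grp_cons_le n_t_TT (grp_cons_le g585_TT (grp_cons_le g584_TT (grp_nil_le _))))))))) (Frames.cons TT_s0_F (Frames.cons TT_s7_F (Frames.cons TT_s38_F (Frames.cons TT_s40_F (Frames.cons TT_s41_F Frames.nil))))) (okE_cons.2 ⟨g600_ok, okE_nil _⟩) _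

noncomputable def tt_c30_cnt_t : BT := (BT.frm (nat_lit 0) (nat_lit 0) (nat_lit 0) [] (BT.pln (nat_lit 0) (nat_lit 1) (BT.br (nat_lit 0) (nat_lit 256) [nat_lit 3, nat_lit 5] (BT.kid (nat_lit 256) (nat_lit 6) (BT.frm (nat_lit 1) (nat_lit 65796) (nat_lit 65796) [nat_lit 0] (BT.pln (nat_lit 0) (nat_lit 6) (BT.and (nat_lit 3) (nat_lit 0) (BT.img (nat_lit 1) (nat_lit 3) (BT.frm (nat_lit 2) (nat_lit 65796) (nat_lit 65796) [nat_lit 0, nat_lit 4] (BT.pln (nat_lit 0) (nat_lit 2) (BT.dif (nat_lit 3) (nat_lit 0) (BT.br (nat_lit 0) (nat_lit 262) [nat_lit 5] (BT.kid (nat_lit 262) (nat_lit 2) (BT.dif (nat_lit 13) (nat_lit 2) (BT.pln (nat_lit 4) (nat_lit 3) (BT.dif (nat_lit 1) (nat_lit 0) (BT.pln (nat_lit 6) (nat_lit 4) (BT.dif (nat_lit 1) (nat_lit 0) (BT.pln (nat_lit 15) (nat_lit 0) (BT.dif (nat_lit 1) (nat_lit 0) (BT.pln (nat_lit 10) (nat_lit 5) (BT.dif (nat_lit 1) (nat_lit 0) (BT.dif (nat_lit 0) (nat_lit 18) (BT.img (nat_lit 1) (nat_lit 14) (BT.frm (nat_lit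 3) (nat_lit 0xd010104) (nat_lit 0xd010104) [nat_lit 11, nat_lit 0, nat_lit 15, nat_lit 19] (BT.pln (nat_lit 0) (nat_lit 4) (BT.dif (nat_lit 3) (nat_lit 0) (BT.pln (nat_lit 2) (nat_lit 5) (BT.dif (nat_lit 1) (nat_lit 0) (BT.br (nat_lit 0) (nat_lit 49) [nat_lit 7] (BT.kid (nat_lit 49) (nat_lit 1) (BT.one (nat_lit 4) (nat_lit 0xd010104) (nat_lit 0xd010104) [nat_lit 0, nat_lit 17, nat_lit 6, nat_lit 21, nat_lit 25]) BT.nil)))))))))))))))))) BT.nil))))))))) BT.nil))))

theorem tt_c30_cnt : Cnt 276 (grp 276 ht_c2_K) [g600] [g600] 0 0 0 0 144 :=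
  BT.sound tt_c30_cnt_P Known.nil (t := tt_c30_cnt_t) (d := 0) (by decide +kernel)

theorem tt_c30_ge : 144 ≤ Nat.card (grp 276 tt_c30_K) :=
  Ch.le_card_grp (k := 9) (L := (lab 276 9)) hn tt_c30_K_ok (c := (Ch.cons (nat_lit 256) [nat_lit 1, nat_lit 3] (Ch.cons (nat_lit 262) [nat_lit 5] (Ch.cons (nat_lit 49) [nat_lit 7] Ch.nil)))) (by decide +kernel)

theorem tt_c30_eq : (grp 276 ht_c2_K) ⊓ Subgroup.centralizer {Net.toPerm 276 g600} = grp 276 tt_c30_K :=
  cent_eq tt_c30_sym tt_c30_cnt tt_c30_ge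

theorem tt_c30_card : Nat.card ↥((grp 276 ht_c2_K) ⊓ Subgroup.centralizer {Net.toPerm 276 g600}) = 144 :=
  card_cent tt_c30_sym tt_c30_cnt tt_c30_ge

theorem tt_c30_ord : orderOf (Net.toPerm 276 g600) = 6 :=
  orderOf_net hn hk g600_ok (by decide) (ps := [2, 3]) (by set_option linter.unusedSimpArgs false in simp [Nat.primeFactorsList_ofNat]) (by decide +kernel)

theorem le606 : grp 276 tt_c31_K ≤ grp 276 ht_c2_K :=
  grp_le_of_memB hn hk ht_c2_K_ok tt_c31_K_ok (ws := [nat_lit 0x6010401, nat_lit 0x7060104, nat_lit 0x7010101, nat_lit 2311, nat_lit 11]) (by decide +kernel)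

theorem tt_c31_le : grp 276 tt_c31_K ≤ (grp 276 ht_c2_K) :=
  (le606.trans TT_s0.le)

theorem tt_c31_mem : Net.toPerm 276 g604 ∈ (grp 276 ht_c2_K) :=
  tt_c31_le (toPerm_mem_grp (E := tt_c31_K) (List.Mem.head _))

theorem tt_c31_sym : Sym 276 (grp 276 ht_c2_K) [g604] tt_c31_K 0 :=
  Sym.of_lab hn hk (okE_cons.2 ⟨g604_ok, okE_nil _⟩) tt_c31_K_ok tt_c31_le (kT := 0) (by decide +kernel)

theorem le608 : grp 276 V607 ≤ grp 276 V438 :=
  grp_le_of_memB hn hk V438_ok V607_ok (ws := []) (by decide +kernel)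

theorem TT_s42 : Stab 276 (grp 276 ht_c2_K) [nat_lit 247, nat_lit 194, nat_lit 265, nat_lit 137, nat_lit 175, nat_lit 33] V607 1 :=
  Stab.step (k := 9) (L := (lab 276 9)) hn TT_s11 V607_ok le608 (c := Ch.nil) (by decide +kernel)

noncomputable def TT_s42_O : ℕ := (nat_lit 0x9993333366666ccccc99999b3333666664ccccd9999b3333266666ccccd9999933332c1f07c1f07c1f07c0f83e0f83e0f83e0f81f07c1f07c1f07c1f03e0f83e0f83e0f83e7319cc63398ce7319cc63398ce7319ce63398c67319ce63398c67319ce63398c6731826d926c93649b24db26d936c9b649b24d926d936c9b64db24d926c93649b64db26d92000000000000000000000000000000000000000000000000000000000000200000000000000000000000000000000080000000000000000000000000000000000000000000000000000000000000000000000000000020000000000000000000000000000000000002000000000000000000000000000000000000000000000000000000000000000000000000000000000000004000000000000000000000000000000000000000000000000000000080000000000000000000000000000000000000000000000000000000000000)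

theorem TT_s42_F : Frame 276 (grp 276 ht_c2_K) 6 10 TT_s42_O 1 1 :=
  IsBase.frame TT_s42.isBase (by decide +kernel)

noncomputable def tt_c31_cnt_L : List ℕ := [0, 4, TT_s0_O, 0, 0, 2, 19, TT_s8_O, 0, 0, 3, 9, TT_s9_O, 0, 0, 5, 13, TT_s11_O, 0, 0, 6, 10, TT_s42_O, 1, 0]

theorem tt_c31_cnt_P : Prob 276 9 (grp 276 ht_c2_K) tt_c31_cnt_EG [g604] [g604] tt_c31_K tt_c31_cnt_L 0 0 :=
  Sym.prob hn hk tt_c31_sym tt_c31_cnt_EG_ok (grp_cons_le g125_TT (grp_cons_le g126_TT (grp_cons_le g127_TT (grp_cons_le n_k3_TT (grp_cons_le n_t_TT (grp_cons_le g124_TT (grp_nil_le _))))))) (Frames.cons TT_s0_F (Frames.cons TT_s8_F (Frames.cons TT_s9_F (Frames.cons TT_s11_F (Frames.cons TT_s42_F Frames.nil))))) (okE_cons.2 ⟨g604_ok, okE_nil _⟩) _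

noncomputable def tt_c31_cnt_t : BT := (BT.frm (nat_lit 0) (nat_lit 0) (nat_lit 0) [] (BT.pln (nat_lit 0) (nat_lit 1) (BT.fix (nat_lit 257) (BT.dif (nat_lit 1) (nat_lit 0) (BT.br (nat_lit 0) (nat_lit 194) [nat_lit 1, nat_lit 3] (BT.kid (nat_lit 194) (nat_lit 8) (BT.img (nat_lit 1) (nat_lit 0) (BT.frm (nat_lit 1) (nat_lit 0x1030c03) (nat_lit 0x1030c03) [nat_lit 0, nat_lit 1] (BT.pln (nat_lit 0) (nat_lit 14) (BT.and (nat_lit 4) (nat_lit 0) (BT.img (nat_lit 1) (nat_lit 3) (BT.frm (nat_lit 2) (nat_lit 0x401030c03) (nat_lit 0x401030c03) [nat_lit 0, nat_lit 4, nat_lit 5] (BT.pln (nat_lit 0) (nat_lit 4) (BT.and (nat_lit 3) (nat_lit 0) (BT.br (nat_lit 0) (nat_lit 4) [nat_lit 5] (BT.kid (nat_lit 4) (nat_lit 4) (BT.dif (nat_lit 12) (nat_lit 2) (BT.pln (nat_lit 4) (nat_lit 3) (BT.and (nat_lit 1) (nat_lit 0) (BT.pln (nat_lit 6) (nat_lit 5) (BT.dif (nat_lit 1) (nat_lit 0) (BT.dif (nat_lit 0) (nat_lit 16) (BT.br (nat_lit 0) (nat_lit 265) [nat_lit 7] (BT.kid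 (nat_lit 265) (nat_lit 2) (BT.dif (nat_lit 23) (nat_lit 5) (BT.pln (nat_lit 11) (nat_lit 7) (BT.and (nat_lit 1) (nat_lit 0) (BT.dif (nat_lit 0) (nat_lit 12) (BT.pln (nat_lit 24) (nat_lit 0) (BT.dif (nat_lit 1) (nat_lit 0) (BT.pln (nat_lit 16) (nat_lit 6) (BT.dif (nat_lit 1) (nat_lit 0) (BT.frm (nat_lit 3) (nat_lit 0x70401030c03) (nat_lit 0x70401030c03) [nat_lit 8, nat_lit 15, nat_lit 19, nat_lit 23, nat_lit 24] (BT.pln (nat_lit 0) (nat_lit 9) (BT.dif (nat_lit 2) (nat_lit 0) (BT.br (nat_lit 0) (nat_lit 132) [nat_lit 9] (BT.kid (nat_lit 132) (nat_lit 1) (BT.one (nat_lit 4) (nat_lit 0x9070401030c03) (nat_lit 0x9070401030c03) [nat_lit 0, nat_lit 12, nat_lit 19, nat_lit 23, nat_lit 27, nat_lit 28]) BT.nil))))))))))))) BT.nil)))))))) BT.nil)))))))))) BT.nil))))))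

theorem tt_c31_cnt : Cnt 276 (grp 276 ht_c2_K) [g604] [g604] 0 0 0 0 144 :=
  BT.sound tt_c31_cnt_P Known.nil (t := tt_c31_cnt_t) (d := 0) (by decide +kernel)

theorem tt_c31_ge : 144 ≤ Nat.card (grp 276 tt_c31_K) :=
  Ch.le_card_grp (k := 9) (L := (lab 276 9)) hn tt_c31_K_ok (c := (Ch.cons (nat_lit 194) [nat_lit 1, nat_lit 3] (Ch.cons (nat_lit 4) [nat_lit 5] (Ch.cons (nat_lit 265) [nat_lit 7] (Ch.cons (nat_lit 132) [nat_lit 9] Ch.nil))))) (by decide +kernel)

theorem tt_c31_eq : (grp 276 ht_c2_K) ⊓ Subgroup.centralizer {Net.toPerm 276 g604} = grp 276 tt_c31_K :=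
  cent_eq tt_c31_sym tt_c31_cnt tt_c31_ge

theorem tt_c31_card : Nat.card ↥((grp 276 ht_c2_K) ⊓ Subgroup.centralizer {Net.toPerm 276 g604}) = 144 :=
  card_cent tt_c31_sym tt_c31_cnt tt_c31_ge

theorem tt_c31_ord : orderOf (Net.toPerm 276 g604) = 6 :=
  orderOf_net hn hk g604_ok (by decide) (ps := [2, 3]) (by set_option linter.unusedSimpArgs false in simp [Nat.primeFactorsList_ofNat]) (by decide +kernel)

theorem le612 : grp 276 tt_c32_K ≤ grp 276 ht_c2_K :=
  grp_le_of_memB hn hk ht_c2_K_ok tt_c32_K_ok (ws := [nat_lit 0x907060105, nat_lit 0x90503060205, nat_lit 0x90603030203, nat_lit 0xb010101]) (by decide +kernel)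

theorem tt_c32_le : grp 276 tt_c32_K ≤ (grp 276 ht_c2_K) :=
  (le612.trans TT_s0.le)

theorem tt_c32_mem : Net.toPerm 276 g609 ∈ (grp 276 ht_c2_K) :=
  tt_c32_le (toPerm_mem_grp (E := tt_c32_K) (List.Mem.head _))

theorem tt_c32_sym : Sym 276 (grp 276 ht_c2_K) [g609] tt_c32_K 0 :=
  Sym.of_lab hn hk (okE_cons.2 ⟨g609_ok, okE_nil _⟩) tt_c32_K_ok tt_c32_le (kT := 0) (by decide +kernel)

noncomputable def tt_c32_cnt_L : List ℕ := [0, 4, TT_s0_O, 0, 0, 1, 8, TT_s1_O, 0, 0, 2, 7, TT_s34_O, 0, 0, 4, 12, TT_s36_O, 0, 0, 5, 9, TT_s37_O, 1, 0]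

theorem tt_c32_cnt_P : Prob 276 9 (grp 276 ht_c2_K) tt_c32_cnt_EG [g609] [g609] tt_c32_K tt_c32_cnt_L 0 0 :=
  Sym.prob hn hk tt_c32_sym tt_c32_cnt_EG_ok (grp_cons_le g124_TT (grp_cons_le g125_TT (grp_cons_le g126_TT (grp_cons_le g127_TT (grp_cons_le n_k3_TT (grp_cons_le n_t_TT (grp_cons_le g414_TT (grp_cons_le g419_TT (grp_cons_le g420_TT (grp_cons_le g417_TT (grp_cons_le n_u_TT (grp_cons_le n_y_TT (grp_cons_le g575_TT (grp_nil_le _)))))))))))))) (Frames.cons TT_s0_F (Frames.cons TT_s1_F (Frames.cons TT_s34_F (Frames.cons TT_s36_F (Frames.cons TT_s37_F Frames.nil))))) (okE_cons.2 ⟨g609_ok, okE_nil _⟩) _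

noncomputable def tt_c32_cnt_t : BT := (BT.frm (nat_lit 0) (nat_lit 0) (nat_lit 0) [] (BT.pln (nat_lit 0) (nat_lit 0) (BT.br (nat_lit 0) (nat_lit 176) [nat_lit 1, nat_lit 3, nat_lit 5] (BT.kid (nat_lit 176) (nat_lit 6) (BT.frm (nat_lit 1) (nat_lit 0) (nat_lit 0) [nat_lit 0] (BT.pln (nat_lit 0) (nat_lit 6) (BT.and (nat_lit 3) (nat_lit 0) (BT.img (nat_lit 1) (nat_lit 3) (BT.frm (nat_lit 2) (nat_lit 3343) (nat_lit 3343) [nat_lit 0, nat_lit 4] (BT.pln (nat_lit 0) (nat_lit 3) (BT.dif (nat_lit 3) (nat_lit 0) (BT.br (nat_lit 0) (nat_lit 75) [nat_lit 5] (BT.kid (nat_lit 75) (nat_lit 2) (BT.dif (nat_lit 13) (nat_lit 2) (BT.pln (nat_lit 4) (nat_lit 2) (BT.dif (nat_lit 1) (nat_lit 0) (BT.pln (nat_lit 6) (nat_lit 4) (BT.dif (nat_lit 1) (nat_lit 0) (BT.pln (nat_lit 8) (nat_lit 5) (BT.dif (nat_lit 1) (nat_lit 0) (BT.pln (nat_lit 10) (nat_lit 6) (BT.dif (nat_lit 1) (nat_lit 0) (BT.dif (nat_lit 0) (nat_lit 18) (BT.img (nat_lit 1) (nat_lit 14) (BT.frm (nat_lit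 3) (nat_lit 0x190d0f) (nat_lit 0x190d0f) [nat_lit 11, nat_lit 0, nat_lit 15, nat_lit 19] (BT.pln (nat_lit 0) (nat_lit 6) (BT.dif (nat_lit 3) (nat_lit 0) (BT.pln (nat_lit 2) (nat_lit 7) (BT.dif (nat_lit 1) (nat_lit 0) (BT.br (nat_lit 0) (nat_lit 166) [nat_lit 7] (BT.kid (nat_lit 166) (nat_lit 1) (BT.one (nat_lit 4) (nat_lit 0x15190d0f) (nat_lit 0x15190d0f) [nat_lit 0, nat_lit 17, nat_lit 6, nat_lit 21, nat_lit 25]) BT.nil)))))))))))))))))) BT.nil))))))))) BT.nil))))

theorem tt_c32_cnt : Cnt 276 (grp 276 ht_c2_K) [g609] [g609] 0 0 0 0 144 :=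
  BT.sound tt_c32_cnt_P Known.nil (t := tt_c32_cnt_t) (d := 0) (by decide +kernel)

theorem tt_c32_ge : 144 ≤ Nat.card (grp 276 tt_c32_K) :=
  Ch.le_card_grp (k := 9) (L := (lab 276 9)) hn tt_c32_K_ok (c := (Ch.cons (nat_lit 176) [nat_lit 1, nat_lit 3] (Ch.cons (nat_lit 75) [nat_lit 5] (Ch.cons (nat_lit 166) [nat_lit 7] Ch.nil)))) (by decide +kernel)

theorem tt_c32_eq : (grp 276 ht_c2_K) ⊓ Subgroup.centralizer {Net.toPerm 276 g609} = grp 276 tt_c32_K :=
  cent_eq tt_c32_sym tt_c32_cnt tt_c32_ge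

theorem tt_c32_card : Nat.card ↥((grp 276 ht_c2_K) ⊓ Subgroup.centralizer {Net.toPerm 276 g609}) = 144 :=
  card_cent tt_c32_sym tt_c32_cnt tt_c32_ge

theorem tt_c32_ord : orderOf (Net.toPerm 276 g609) = 6 :=
  orderOf_net hn hk g609_ok (by decide) (ps := [2, 3]) (by set_option linter.unusedSimpArgs false in simp [Nat.primeFactorsList_ofNat]) (by decide +kernel)

theorem le615 : grp 276 tt_c33_K ≤ grp 276 ht_c2_K :=
  grp_le_of_memB hn hk ht_c2_K_ok tt_c33_K_ok (ws := [nat_lit 328706, nat_lit 0x50504010501, nat_lit 65793, nat_lit 0xb010101]) (by decide +kernel)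

theorem tt_c33_le : grp 276 tt_c33_K ≤ (grp 276 ht_c2_K) :=
  (le615.trans TT_s0.le)

theorem tt_c33_mem : Net.toPerm 276 g613 ∈ (grp 276 ht_c2_K) :=
  tt_c33_le (toPerm_mem_grp (E := tt_c33_K) (List.Mem.head _))

theorem tt_c33_sym : Sym 276 (grp 276 ht_c2_K) [g613] tt_c33_K 0 :=
  Sym.of_lab hn hk (okE_cons.2 ⟨g613_ok, okE_nil _⟩) tt_c33_K_ok tt_c33_le (kT := 0) (by decide +kernel)

noncomputable def tt_c33_cnt_L : List ℕ := [0, 4, TT_s0_O, 0, 0, 2, 14, TT_s22_O, 0, 0, 3, 23, TT_s23_O, 0, 0, 5, 12, TT_s25_O, 0, 0, 6, 14, TT_s26_O, 0, 0, 7, 11, TT_s27_O, 1, 0]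

theorem tt_c33_cnt_P : Prob 276 9 (grp 276 ht_c2_K) tt_c33_cnt_EG [g613] [g613] tt_c33_K tt_c33_cnt_L 0 0 :=
  Sym.prob hn hk tt_c33_sym tt_c33_cnt_EG_ok (grp_cons_le g468_TT (grp_cons_le g469_TT (grp_cons_le g470_TT (grp_cons_le n_t_TT (grp_cons_le n_u_TT (grp_cons_le g124_TT (grp_cons_le g125_TT (grp_cons_le g126_TT (grp_cons_le g127_TT (grp_cons_le n_k3_TT (grp_cons_le g489_TT (grp_cons_le n_b_TT (grp_cons_le g490_TT (grp_cons_le g340_TT (grp_cons_le g491_TT (grp_nil_le _)))))))))))))))) (Frames.cons TT_s0_F (Frames.cons TT_s22_F (Frames.cons TT_s23_F (Frames.cons TT_s25_F (Frames.cons TT_s26_F (Frames.cons TT_s27_F Frames.nil)))))) (okE_cons.2 ⟨g613_ok, okE_nil _⟩) _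

noncomputable def tt_c33_cnt_t : BT := (BT.frm (nat_lit 0) (nat_lit 0) (nat_lit 0) [] (BT.pln (nat_lit 0) (nat_lit 3) (BT.fix (nat_lit 1) (BT.dif (nat_lit 1) (nat_lit 0) (BT.br (nat_lit 0) (nat_lit 272) [nat_lit 1, nat_lit 3] (BT.kid (nat_lit 272) (nat_lit 4) (BT.pln (nat_lit 4) (nat_lit 0) (BT.img (nat_lit 1) (nat_lit 1) (BT.frm (nat_lit 1) (nat_lit 396305) (nat_lit 396305) [nat_lit 0, nat_lit 2] (BT.pln (nat_lit 0) (nat_lit 8) (BT.dif (nat_lit 3) (nat_lit 0) (BT.and (nat_lit 8) (nat_lit 7) (BT.img (nat_lit 1) (nat_lit 4) (BT.and (nat_lit 10) (nat_lit 0) (BT.frm (nat_lit 2) (nat_lit 396305) (nat_lit 396305) [nat_lit 0, nat_lit 6, nat_lit 8] (BT.pln (nat_lit 0) (nat_lit 20) (BT.and (nat_lit 4) (nat_lit 0) (BT.pln (nat_lit 2) (nat_lit 21) (BT.and (nat_lit 6) (nat_lit 0) (BT.frm (nat_lit 3) (nat_lit 396305) (nat_lit 396305) [nat_lit 2, nat_lit 0, nat_lit 5, nat_lit 11, nat_lit 13] (BT.pln (nat_lit 0) (nat_lit 7) (BT.and (nat_lit 10) (nat_lit 0)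 (BT.br (nat_lit 0) (nat_lit 185) [nat_lit 5] (BT.kid (nat_lit 185) (nat_lit 2) (BT.dif (nat_lit 24) (nat_lit 2) (BT.pln (nat_lit 4) (nat_lit 8) (BT.and (nat_lit 1) (nat_lit 0) (BT.pln (nat_lit 6) (nat_lit 5) (BT.and (nat_lit 1) (nat_lit 0) (BT.pln (nat_lit 8) (nat_lit 6) (BT.and (nat_lit 1) (nat_lit 0) (BT.pln (nat_lit 10) (nat_lit 9) (BT.dif (nat_lit 1) (nat_lit 0) (BT.pln (nat_lit 12) (nat_lit 10) (BT.dif (nat_lit 1) (nat_lit 0) (BT.dif (nat_lit 0) (nat_lit 27) (BT.frm (nat_lit 4) (nat_lit 0x7060c11) (nat_lit 0x7060c11) [nat_lit 12, nat_lit 18, nat_lit 16, nat_lit 21, nat_lit 27, nat_lit 29] (BT.pln (nat_lit 0) (nat_lit 8) (BT.dif (nat_lit 2) (nat_lit 0) (BT.br (nat_lit 0) (nat_lit 35) [nat_lit 7] (BT.kid (nat_lit 35) (nat_lit 1) (BT.one (nat_lit 5) (nat_lit 0x7060c11) (nat_lit 0x7060c11) [nat_lit 0, nat_lit 16, nat_lit 22, nat_lit 20, nat_lit 25, nat_lit 31, nat_lit 33]) BT.nil))))))))))))))))) BT.nil)))))))))))))))))) BT.nil))))))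

theorem tt_c33_cnt : Cnt 276 (grp 276 ht_c2_K) [g613] [g613] 0 0 0 0 36 :=
  BT.sound tt_c33_cnt_P Known.nil (t := tt_c33_cnt_t) (d := 0) (by decide +kernel)

theorem tt_c33_ge : 36 ≤ Nat.card (grp 276 tt_c33_K) :=
  Ch.le_card_grp (k := 9) (L := (lab 276 9)) hn tt_c33_K_ok (c := (Ch.cons (nat_lit 272) [nat_lit 1, nat_lit 3] (Ch.cons (nat_lit 185) [nat_lit 5] (Ch.cons (nat_lit 35) [nat_lit 7] Ch.nil)))) (by decide +kernel)

theorem tt_c33_eq : (grp 276 ht_c2_K) ⊓ Subgroup.centralizer {Net.toPerm 276 g613} = grp 276 tt_c33_K :=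
  cent_eq tt_c33_sym tt_c33_cnt tt_c33_ge

theorem tt_c33_card : Nat.card ↥((grp 276 ht_c2_K) ⊓ Subgroup.centralizer {Net.toPerm 276 g613}) = 36 :=
  card_cent tt_c33_sym tt_c33_cnt tt_c33_ge

theorem tt_c33_ord : orderOf (Net.toPerm 276 g613) = 6 :=
  orderOf_net hn hk g613_ok (by decide) (ps := [2, 3]) (by set_option linter.unusedSimpArgs false in simp [Nat.primeFactorsList_ofNat]) (by decide +kernel)

theorem le618 : grp 276 tt_c34_K ≤ grp 276 ht_c2_K :=
  grp_le_of_memB hn hk ht_c2_K_ok tt_c34_K_ok (ws := [nat_lit 0xb0603060204, nat_lit 1284, nat_lit 0xb010101, nat_lit 11]) (by decide +kernel)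

theorem tt_c34_le : grp 276 tt_c34_K ≤ (grp 276 ht_c2_K) :=
  (le618.trans TT_s0.le)

theorem tt_c34_mem : Net.toPerm 276 g616 ∈ (grp 276 ht_c2_K) :=
  tt_c34_le (toPerm_mem_grp (E := tt_c34_K) (List.Mem.head _))

theorem tt_c34_sym : Sym 276 (grp 276 ht_c2_K) [g616] tt_c34_K 0 :=
  Sym.of_lab hn hk (okE_cons.2 ⟨g616_ok, okE_nil _⟩) tt_c34_K_ok tt_c34_le (kT := 0) (by decide +kernel)

theorem le620 : grp 276 V619 ≤ grp 276 V496 :=
  grp_le_of_memB hn hk V496_ok V619_ok (ws := [nat_lit 1]) (by decide +kernel)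

theorem TT_s43 : Stab 276 (grp 276 ht_c2_K) [nat_lit 208, nat_lit 99, nat_lit 163, nat_lit 12, nat_lit 42, nat_lit 231] V619 2 :=
  Stab.step (k := 9) (L := (lab 276 9)) hn TT_s25 V619_ok le620 (c := (Ch.cons (nat_lit 53) [nat_lit 1] Ch.nil)) (by decide +kernel)

theorem TT_s44 : Stab 276 (grp 276 ht_c2_K) [nat_lit 53, nat_lit 208, nat_lit 99, nat_lit 163, nat_lit 12, nat_lit 42, nat_lit 231] V621 1 :=
  Stab.step (k := 9) (L := (lab 276 9)) hn TT_s43 V621_ok (grp_mono (List.subset_append_right [n_t] _)) (c := Ch.nil) (by decide +kernel)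

noncomputable def TT_s44_O : ℕ := (nat_lit 0x9993333366666ccccc99999b3333666664ccccd9999b3333266666ccccd9999933332c1f07c1f07c1f07c0f83e0f83e0f83e0f81f07c1f07c1f07c1f03e0f83e0f83e0f83e7319cc63398ce7319cc63398ce7319ce63398c67319ce63398c67319ce63398c6731826d926c93649b24db26d936c9b649b24d926d936c9b64db24d926c93649b64db26d92000000000008000000000000000000000000000000000000000000000000000000000000000000000000000000000000000000000000000000000000000000040000000000000000000000000000000000000000000000000000000000000000000000000001000000000000000000000000000000080000000000000000000000000000000000000000000000000000000000000000000000000000000000008000000000000000000000000000000000000000010000000000000000000000000000000000000000000000000000000000000000000000000000000000000000000000000000000000020000000000000)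

theorem TT_s44_F : Frame 276 (grp 276 ht_c2_K) 7 11 TT_s44_O 1 1 :=
  IsBase.frame TT_s44.isBase (by decide +kernel)

noncomputable def TT_s43_O : ℕ := (nat_lit 0x123450000000800220004510080000120022012010000000000000000000000000000cdc1a6f4de7347f98f61b2eb23e75ba82f913a5eeffe4d5e001000010204210000010c84aa4af66e70349c77d3a6cf3ca396d7804040100112021fff7cffff70421000001036f4e6f3d4e66e0d007e80079414420455d9361eec110221fdf7f0010abffbfd80010c9881b149091a8b66a17f77633492040459136d103de70a1ff183df90a9dff027ea1097c3962dd564a072a61312ed4c1f7916c6b5440f83f12fc1e0fc1d87caa984f2785e0e47214a5fb17eb38c098568a7e0e127815c2fdcc633c3e3998db3e66308c70ce6618cbd64b32385132f638a9cd14179aa0e6767162a2b4aba1b9556aa8b55acb749a954d4a000000000008000000000000000000000000000000000000000000000000000000000000000000000000000000000000000000000000000000000000000000040000000000000000000000000000000000000000000000000000000000000000000000000001000000000000000000000000000000080000000000000000000000000000000000000000000000000000000000000000000000000000000000008000000000000000000000000000000000000000010000000000000000000000000000000000000000000000000000)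

theorem TT_s43_F : Frame 276 (grp 276 ht_c2_K) 6 14 TT_s43_O 0 1 :=
  Stab.frame hn TT_s43 (by decide +kernel)

noncomputable def TT_s24_O : ℕ := (nat_lit 0x9220e0800c02020b3201957618a00202202212005020880c300000000000000000000611c101112808080c0784080020a0008008c01110090660101922d29823619a980000433e7810038091a130602c100ac8043a212621311290608001080d0a8b052002703135d82ca0786f26ea66c16ef0a075c53c85411164deaaffa83c79dad730190dbd274200e88be75b6ff74275867090c823aa1bdc33552eb07709057f8beda85ad0303a2e6291091dd16e9cb926b2a256ed99c8c14352f9d7166843688a4e8adbb648947a2d5755a1a2000000000008000000000000000000000000000000000000000000000000000000000000000000000000000000000000000000000000000000000000000000040000000000000000000000000000000000000000000000000000000000000000000000000001000000000000000000000000000000080000000000000000000000000000000000000000)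

theorem TT_s24_F : Frame 276 (grp 276 ht_c2_K) 4 10 TT_s24_O 0 1 :=
  Stab.frame hn TT_s24 (by decide +kernel)

noncomputable def tt_c34_cnt_L : List ℕ := [0, 4, TT_s0_O, 0, 0, 2, 14, TT_s22_O, 0, 0, 3, 23, TT_s23_O, 0, 0, 4, 10, TT_s24_O, 0, 0, 5, 12, TT_s25_O, 0, 0, 6, 14, TT_s43_O, 0, 0, 7, 11, TT_s44_O, 1, 0]

theorem tt_c34_cnt_P : Prob 276 9 (grp 276 ht_c2_K) tt_c34_cnt_EG [g616] [g616] tt_c34_K tt_c34_cnt_L 0 0 :=
  Sym.prob hn hk tt_c34_sym tt_c34_cnt_EG_ok (grp_cons_le g468_TT (grp_cons_le g469_TT (grp_cons_le g470_TT (grp_cons_le n_t_TT (grp_cons_le n_u_TT (grp_cons_le g124_TT (grp_cons_le g125_TT (grp_cons_le g126_TT (grp_cons_le g127_TT (grp_cons_le n_k3_TT (grp_cons_le g489_TT (grp_cons_le n_b_TT (grp_cons_le g490_TT (grp_cons_le g340_TT (grp_cons_le g491_TT (grp_nil_le _)))))))))))))))) (Frames.cons TT_s0_F (Frames.cons TT_s22_F (Frames.cons TT_s23_F (Frames.cons TT_s24_F (Frames.cons TT_s25_F (Frames.cons TT_s43_F (Frames.cons TT_s44_F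 Frames.nil))))))) (okE_cons.2 ⟨g616_ok, okE_nil _⟩) _

noncomputable def tt_c34_cnt_t : BT := (BT.frm (nat_lit 0) (nat_lit 0) (nat_lit 0) [] (BT.pln (nat_lit 0) (nat_lit 3) (BT.fix (nat_lit 1) (BT.dif (nat_lit 1) (nat_lit 0) (BT.br (nat_lit 0) (nat_lit 163) [nat_lit 1, nat_lit 3] (BT.kid (nat_lit 163) (nat_lit 4) (BT.pln (nat_lit 4) (nat_lit 1) (BT.img (nat_lit 1) (nat_lit 1) (BT.frm (nat_lit 1) (nat_lit 3086) (nat_lit 3086) [nat_lit 0, nat_lit 2] (BT.pln (nat_lit 0) (nat_lit 6) (BT.dif (nat_lit 3) (nat_lit 0) (BT.and (nat_lit 8) (nat_lit 7) (BT.img (nat_lit 1) (nat_lit 4) (BT.and (nat_lit 10) (nat_lit 0) (BT.frm (nat_lit 2) (nat_lit 3086) (nat_lit 3086) [nat_lit 0, nat_lit 6, nat_lit 8] (BT.pln (nat_lit 0) (nat_lit 21) (BT.and (nat_lit 4) (nat_lit 0) (BT.frm (nat_lit 3) (nat_lit 3086) (nat_lit 3086) [nat_lit 0, nat_lit 3, nat_lit 9, nat_lit 11] (BT.pln (nat_lit 0) (nat_lit 8) (BT.dif (nat_lit 8) (nat_lit 0) (BT.pln (nat_lit 5) (nat_lit 20) (BT.and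 (nat_lit 9) (nat_lit 0) (BT.frm (nat_lit 4) (nat_lit 0x1b1d0c0e) (nat_lit 0x1b1d0c0e) [nat_lit 0, nat_lit 5, nat_lit 8, nat_lit 14, nat_lit 16] (BT.pln (nat_lit 0) (nat_lit 6) (BT.dif (nat_lit 4) (nat_lit 0) (BT.br (nat_lit 0) (nat_lit 208) [nat_lit 5] (BT.kid (nat_lit 208) (nat_lit 2) (BT.pln (nat_lit 3) (nat_lit 8) (BT.and (nat_lit 3) (nat_lit 0) (BT.pln (nat_lit 5) (nat_lit 5) (BT.and (nat_lit 1) (nat_lit 0) (BT.pln (nat_lit 7) (nat_lit 7) (BT.dif (nat_lit 1) (nat_lit 0) (BT.dif (nat_lit 0) (nat_lit 13) (BT.pln (nat_lit 15) (nat_lit 7) (BT.and (nat_lit 1) (nat_lit 0) (BT.pln (nat_lit 33) (nat_lit 0) (BT.dif (nat_lit 1) (nat_lit 0) (BT.frm (nat_lit 5) (nat_lit 0x91b1d0c0e) (nat_lit 0x91b1d0c0e) [nat_lit 11, nat_lit 15, nat_lit 20, nat_lit 23, nat_lit 29, nat_lit 31] (BT.pln (nat_lit 0) (nat_lit 9) (BT.dif (nat_lit 2) (nat_lit 0) (BT.br (nat_lit 0) (nat_lit 263) [nat_lit 7] (BT.kid (nat_lit 263) (nat_lit 1) (BT.one (nat_lit 6) (nat_lit 0x91b1d0c0e)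 (nat_lit 0x91b1d0c0e) [nat_lit 0, nat_lit 15, nat_lit 19, nat_lit 24, nat_lit 27, nat_lit 33, nat_lit 35]) BT.nil)))))))))))))))) BT.nil))))))))))))))))))))) BT.nil))))))

theorem tt_c34_cnt : Cnt 276 (grp 276 ht_c2_K) [g616] [g616] 0 0 0 0 36 :=
  BT.sound tt_c34_cnt_P Known.nil (t := tt_c34_cnt_t) (d := 0) (by decide +kernel)

theorem tt_c34_ge : 36 ≤ Nat.card (grp 276 tt_c34_K) :=
  Ch.le_card_grp (k := 9) (L := (lab 276 9)) hn tt_c34_K_ok (c := (Ch.cons (nat_lit 163) [nat_lit 1, nat_lit 3] (Ch.cons (nat_lit 208) [nat_lit 5] (Ch.cons (nat_lit 263) [nat_lit 7] Ch.nil)))) (by decide +kernel)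

theorem tt_c34_eq : (grp 276 ht_c2_K) ⊓ Subgroup.centralizer {Net.toPerm 276 g616} = grp 276 tt_c34_K :=
  cent_eq tt_c34_sym tt_c34_cnt tt_c34_ge

theorem tt_c34_card : Nat.card ↥((grp 276 ht_c2_K) ⊓ Subgroup.centralizer {Net.toPerm 276 g616}) = 36 :=
  card_cent tt_c34_sym tt_c34_cnt tt_c34_ge

theorem tt_c34_ord : orderOf (Net.toPerm 276 g616) = 6 :=
  orderOf_net hn hk g616_ok (by decide) (ps := [2, 3]) (by set_option linter.unusedSimpArgs false in simp [Nat.primeFactorsList_ofNat]) (by decide +kernel)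

theorem le624 : grp 276 tt_c35_K ≤ grp 276 ht_c2_K :=
  grp_le_of_memB hn hk ht_c2_K_ok tt_c35_K_ok (ws := [nat_lit 0xb0907060104, nat_lit 0x9070603050103, nat_lit 65793, nat_lit 0xb010101]) (by decide +kernel)

theorem tt_c35_le : grp 276 tt_c35_K ≤ (grp 276 ht_c2_K) :=
  (le624.trans TT_s0.le)

theorem tt_c35_mem : Net.toPerm 276 g622 ∈ (grp 276 ht_c2_K) :=
  tt_c35_le (toPerm_mem_grp (E := tt_c35_K) (List.Mem.head _))

theorem tt_c35_sym : Sym 276 (grp 276 ht_c2_K) [g622] tt_c35_K 0 :=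
  Sym.of_lab hn hk (okE_cons.2 ⟨g622_ok, okE_nil _⟩) tt_c35_K_ok tt_c35_le (kT := 0) (by decide +kernel)

noncomputable def tt_c35_cnt_L : List ℕ := [0, 4, TT_s0_O, 0, 0, 2, 14, TT_s22_O, 0, 0, 3, 23, TT_s23_O, 0, 0, 5, 12, TT_s25_O, 0, 0, 6, 14, TT_s26_O, 0, 0, 7, 11, TT_s27_O, 1, 0]

theorem tt_c35_cnt_P : Prob 276 9 (grp 276 ht_c2_K) tt_c35_cnt_EG [g622] [g622] tt_c35_K tt_c35_cnt_L 0 0 :=
  Sym.prob hn hk tt_c35_sym tt_c35_cnt_EG_ok (grp_cons_le g468_TT (grp_cons_le g469_TT (grp_cons_le g470_TT (grp_cons_le n_t_TT (grp_cons_le n_u_TT (grp_cons_le g124_TT (grp_cons_le g125_TT (grp_cons_le g126_TT (grp_cons_le g127_TT (grp_cons_le n_k3_TT (grp_cons_le g489_TT (grp_cons_le n_b_TT (grp_cons_le g490_TT (grp_cons_le g340_TT (grp_cons_le g491_TT (grp_nil_le _)))))))))))))))) (Frames.cons TT_s0_F (Frames.cons TT_s22_F (Frames.cons TT_s23_F (Frames.cons TT_s25_F (Frames.cons TT_s26_F (Frames.cons TT_s27_F Frames.nil)))))) (okE_cons.2 ⟨g622_ok, okE_nil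 _⟩) _

noncomputable def tt_c35_cnt_t : BT := (BT.frm (nat_lit 0) (nat_lit 0) (nat_lit 0) [] (BT.pln (nat_lit 0) (nat_lit 3) (BT.fix (nat_lit 1) (BT.dif (nat_lit 1) (nat_lit 0) (BT.br (nat_lit 0) (nat_lit 42) [nat_lit 1, nat_lit 3] (BT.kid (nat_lit 42) (nat_lit 4) (BT.pln (nat_lit 4) (nat_lit 0) (BT.img (nat_lit 1) (nat_lit 1) (BT.frm (nat_lit 1) (nat_lit 330767) (nat_lit 330767) [nat_lit 0, nat_lit 2] (BT.pln (nat_lit 0) (nat_lit 8) (BT.dif (nat_lit 3) (nat_lit 0) (BT.and (nat_lit 8) (nat_lit 7) (BT.img (nat_lit 1) (nat_lit 4) (BT.and (nat_lit 10) (nat_lit 0) (BT.frm (nat_lit 2) (nat_lit 0x15050c0f) (nat_lit 0x15050c0f) [nat_lit 0, nat_lit 6, nat_lit 8] (BT.pln (nat_lit 0) (nat_lit 20) (BT.and (nat_lit 4) (nat_lit 0) (BT.pln (nat_lit 2) (nat_lit 21) (BT.and (nat_lit 6) (nat_lit 0) (BT.frm (nat_lit 3) (nat_lit 0x1d1915050c0f) (nat_lit 0x1d1915050c0f) [nat_lit 2, nat_lit 0, nat_lit 5, nat_lit 11, nat_lit 13] (BT.pln (nat_lit 0) (nat_lit 7) (BT.and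 (nat_lit 10) (nat_lit 0) (BT.br (nat_lit 0) (nat_lit 60) [nat_lit 5] (BT.kid (nat_lit 60) (nat_lit 2) (BT.dif (nat_lit 24) (nat_lit 2) (BT.pln (nat_lit 4) (nat_lit 8) (BT.and (nat_lit 1) (nat_lit 0) (BT.pln (nat_lit 6) (nat_lit 5) (BT.and (nat_lit 1) (nat_lit 0) (BT.pln (nat_lit 8) (nat_lit 6) (BT.and (nat_lit 1) (nat_lit 0) (BT.pln (nat_lit 10) (nat_lit 9) (BT.dif (nat_lit 1) (nat_lit 0) (BT.pln (nat_lit 12) (nat_lit 10) (BT.dif (nat_lit 1) (nat_lit 0) (BT.dif (nat_lit 0) (nat_lit 27) (BT.frm (nat_lit 4) (nat_lit 0x1d1915050c0f) (nat_lit 0x1d1915050c0f) [nat_lit 12, nat_lit 18, nat_lit 16, nat_lit 21, nat_lit 27, nat_lit 29] (BT.pln (nat_lit 0) (nat_lit 8) (BT.dif (nat_lit 2) (nat_lit 0) (BT.br (nat_lit 0) (nat_lit 125) [nat_lit 7] (BT.kid (nat_lit 125) (nat_lit 1) (BT.one (nat_lit 5) (nat_lit 0x91d1915050c0f) (nat_lit 0x91d1915050c0f) [nat_lit 0, nat_lit 16, nat_lit 22, nat_lit 20, nat_lit 25, nat_lit 31, nat_lit 33]) BT.nil)))))))))))))))))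 BT.nil)))))))))))))))))) BT.nil))))))

theorem tt_c35_cnt : Cnt 276 (grp 276 ht_c2_K) [g622] [g622] 0 0 0 0 36 :=
  BT.sound tt_c35_cnt_P Known.nil (t := tt_c35_cnt_t) (d := 0) (by decide +kernel)

theorem tt_c35_ge : 36 ≤ Nat.card (grp 276 tt_c35_K) :=
  Ch.le_card_grp (k := 9) (L := (lab 276 9)) hn tt_c35_K_ok (c := (Ch.cons (nat_lit 42) [nat_lit 1, nat_lit 3] (Ch.cons (nat_lit 60) [nat_lit 5] (Ch.cons (nat_lit 125) [nat_lit 7] Ch.nil)))) (by decide +kernel)

theorem tt_c35_eq : (grp 276 ht_c2_K) ⊓ Subgroup.centralizer {Net.toPerm 276 g622} = grp 276 tt_c35_K :=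
  cent_eq tt_c35_sym tt_c35_cnt tt_c35_ge

theorem tt_c35_card : Nat.card ↥((grp 276 ht_c2_K) ⊓ Subgroup.centralizer {Net.toPerm 276 g622}) = 36 :=
  card_cent tt_c35_sym tt_c35_cnt tt_c35_ge

theorem tt_c35_ord : orderOf (Net.toPerm 276 g622) = 6 :=
  orderOf_net hn hk g622_ok (by decide) (ps := [2, 3]) (by set_option linter.unusedSimpArgs false in simp [Nat.primeFactorsList_ofNat]) (by decide +kernel)

theorem le627 : grp 276 tt_c36_K ≤ grp 276 ht_c2_K :=
  grp_le_of_memB hn hk ht_c2_K_ok tt_c36_K_ok (ws := [nat_lit 0x5050306010301, nat_lit 0xb050306, nat_lit 0xb05050305010301, nat_lit 11]) (by decide +kernel)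

theorem tt_c36_le : grp 276 tt_c36_K ≤ (grp 276 ht_c2_K) :=
  (le627.trans TT_s0.le)

theorem tt_c36_mem : Net.toPerm 276 g625 ∈ (grp 276 ht_c2_K) :=
  tt_c36_le (toPerm_mem_grp (E := tt_c36_K) (List.Mem.head _))

theorem tt_c36_sym : Sym 276 (grp 276 ht_c2_K) [g625] tt_c36_K 0 :=
  Sym.of_lab hn hk (okE_cons.2 ⟨g625_ok, okE_nil _⟩) tt_c36_K_ok tt_c36_le (kT := 0) (by decide +kernel)

noncomputable def tt_c36_cnt_L : List ℕ := [0, 4, TT_s0_O, 0, 0, 1, 8, TT_s7_O, 0, 0, 2, 19, TT_s8_O, 0, 0, 3, 9, TT_s9_O, 0, 0, 4, 11, TT_s10_O, 0, 0, 5, 13, TT_s11_O, 0, 0, 6, 10, TT_s12_O, 1, 0]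

theorem tt_c36_cnt_P : Prob 276 9 (grp 276 ht_c2_K) tt_c36_cnt_EG [g625] [g625] tt_c36_K tt_c36_cnt_L 0 0 :=
  Sym.prob hn hk tt_c36_sym tt_c36_cnt_EG_ok (grp_cons_le g124_TT (grp_cons_le g125_TT (grp_cons_le g126_TT (grp_cons_le g127_TT (grp_cons_le n_k3_TT (grp_cons_le n_t_TT (grp_nil_le _))))))) (Frames.cons TT_s0_F (Frames.cons TT_s7_F (Frames.cons TT_s8_F (Frames.cons TT_s9_F (Frames.cons TT_s10_F (Frames.cons TT_s11_F (Frames.cons TT_s12_F Frames.nil))))))) (okE_cons.2 ⟨g625_ok, okE_nil _⟩) _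

noncomputable def tt_c36_cnt_t : BT := (BT.frm (nat_lit 0) (nat_lit 0) (nat_lit 0) [] (BT.pln (nat_lit 0) (nat_lit 1) (BT.fix (nat_lit 257) (BT.and (nat_lit 1) (nat_lit 0) (BT.br (nat_lit 0) (nat_lit 175) [nat_lit 3] (BT.kid (nat_lit 175) (nat_lit 8) (BT.frm (nat_lit 1) (nat_lit 132098) (nat_lit 132098) [nat_lit 0] (BT.pln (nat_lit 0) (nat_lit 6) (BT.and (nat_lit 5) (nat_lit 0) (BT.dif (nat_lit 0) (nat_lit 5) (BT.br (nat_lit 0) (nat_lit 4) [nat_lit 5] (BT.kid (nat_lit 4) (nat_lit 2) (BT.dif (nat_lit 8) (nat_lit 3) (BT.frm (nat_lit 2) (nat_lit 0x306020402) (nat_lit 0x306020402) [nat_lit 1, nat_lit 6] (BT.pln (nat_lit 0) (nat_lit 14) (BT.and (nat_lit 2) (nat_lit 0) (BT.pln (nat_lit 2) (nat_lit 12) (BT.and (nat_lit 13) (nat_lit 0) (BT.img (nat_lit 1) (nat_lit 0) (BT.and (nat_lit 3) (nat_lit 0) (BT.img (nat_lit 1) (nat_lit 8) (BT.frm (nat_lit 3) (nat_lit 0x5050306020402) (nat_lit 0x5050306020402) [nat_lit 0, nat_lit 9, nat_lit 14] (BT.pln (nat_lit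 0) (nat_lit 4) (BT.and (nat_lit 3) (nat_lit 0) (BT.br (nat_lit 0) (nat_lit 28) [] (BT.dead (nat_lit 194) (BT.pln (nat_lit 22) (nat_lit 2) (BT.and (nat_lit 0) (nat_lit 3) (BT.pln (nat_lit 5) (nat_lit 5) (BT.and (nat_lit 1) (nat_lit 0) (BT.frm (nat_lit 4) (nat_lit 0x5050306020402) (nat_lit 0x705050306020402) [nat_lit 4, nat_lit 8, nat_lit 17, nat_lit 22] (BT.pln (nat_lit 0) (nat_lit 4) (BT.and (nat_lit 2) (nat_lit 0) (BT.img (nat_lit 1) (nat_lit 7) (BT.img (nat_lit 1) (nat_lit 0) (BT.img (nat_lit 1) (nat_lit 0) (BT.and (nat_lit 31) (nat_lit 0) (BT.frm (nat_lit 5) (nat_lit 0x5050306020402) (nat_lit 0x705050306020402) [nat_lit 0, nat_lit 11, nat_lit 15, nat_lit 24, nat_lit 29] (BT.pln (nat_lit 0) (nat_lit 5) (BT.dif (nat_lit 6) (nat_lit 0) (BT.br (nat_lit 0) (nat_lit 273) [nat_lit 7] (BT.dead (nat_lit 211) (BT.frm (nat_lit 6) (nat_lit 0x5050306020402) (nat_lit 0x705050306020402) [nat_lit 0, nat_lit 4, nat_lit 15, nat_lit 19, nat_lit 28, nat_lit 33]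 (BT.pln (nat_lit 0) (nat_lit 6) (BT.img (nat_lit 1) (nat_lit 2) (BT.img (nat_lit 1) (nat_lit 0) (BT.img (nat_lit 1) (nat_lit 0) (BT.and (nat_lit 3) (nat_lit 0) (BT.cnt (nat_lit 0)))))))) BT.nil)))))))))))))))) (BT.kid (nat_lit 28) (nat_lit 2) (BT.pln (nat_lit 22) (nat_lit 2) (BT.and (nat_lit 0) (nat_lit 3) (BT.pln (nat_lit 5) (nat_lit 5) (BT.and (nat_lit 1) (nat_lit 0) (BT.frm (nat_lit 4) (nat_lit 0x5050306020402) (nat_lit 0x5050306020402) [nat_lit 4, nat_lit 8, nat_lit 17, nat_lit 22] (BT.pln (nat_lit 0) (nat_lit 4) (BT.and (nat_lit 2) (nat_lit 0) (BT.img (nat_lit 1) (nat_lit 7) (BT.img (nat_lit 1) (nat_lit 0) (BT.img (nat_lit 1) (nat_lit 0) (BT.and (nat_lit 31) (nat_lit 0) (BT.frm (nat_lit 5) (nat_lit 0x5050306020402) (nat_lit 0x5050306020402) [nat_lit 0, nat_lit 11, nat_lit 15, nat_lit 24, nat_lit 29] (BT.pln (nat_lit 0) (nat_lit 5) (BT.dif (nat_lit 6) (nat_lit 0) (BT.br (nat_lit 0) (nat_lit 273) [nat_lit 7] (BT.kid (nat_lit 273) (nat_lit 1)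 (BT.one (nat_lit 6) (nat_lit 0x5050306020402) (nat_lit 0x5050306020402) [nat_lit 0, nat_lit 4, nat_lit 15, nat_lit 19, nat_lit 28, nat_lit 33]) BT.nil)))))))))))))))) BT.nil))))))))))))))) BT.nil)))))) BT.nil))))))

theorem tt_c36_cnt : Cnt 276 (grp 276 ht_c2_K) [g625] [g625] 0 0 0 0 32 :=
  BT.sound tt_c36_cnt_P Known.nil (t := tt_c36_cnt_t) (d := 0) (by decide +kernel)

theorem tt_c36_ge : 32 ≤ Nat.card (grp 276 tt_c36_K) :=
  Ch.le_card_grp (k := 9) (L := (lab 276 9)) hn tt_c36_K_ok (c := (Ch.cons (nat_lit 175) [nat_lit 1, nat_lit 3] (Ch.cons (nat_lit 4) [nat_lit 5] (Ch.cons (nat_lit 273) [nat_lit 7] Ch.nil)))) (by decide +kernel)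

theorem tt_c36_eq : (grp 276 ht_c2_K) ⊓ Subgroup.centralizer {Net.toPerm 276 g625} = grp 276 tt_c36_K :=
  cent_eq tt_c36_sym tt_c36_cnt tt_c36_ge

theorem tt_c36_card : Nat.card ↥((grp 276 ht_c2_K) ⊓ Subgroup.centralizer {Net.toPerm 276 g625}) = 32 :=
  card_cent tt_c36_sym tt_c36_cnt tt_c36_ge

theorem tt_c36_ord : orderOf (Net.toPerm 276 g625) = 8 :=
  orderOf_net hn hk g625_ok (by decide) (ps := [2]) (by set_option linter.unusedSimpArgs false in simp [Nat.primeFactorsList_ofNat]) (by decide +kernel)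

theorem le630 : grp 276 tt_c37_K ≤ grp 276 ht_c2_K :=
  grp_le_of_memB hn hk ht_c2_K_ok tt_c37_K_ok (ws := [nat_lit 721413, nat_lit 0x5030204, nat_lit 0xb010101]) (by decide +kernel)

theorem tt_c37_le : grp 276 tt_c37_K ≤ (grp 276 ht_c2_K) :=
  (le630.trans TT_s0.le)

theorem tt_c37_mem : Net.toPerm 276 g628 ∈ (grp 276 ht_c2_K) :=
  tt_c37_le (toPerm_mem_grp (E := tt_c37_K) (List.Mem.head _))

theorem tt_c37_sym : Sym 276 (grp 276 ht_c2_K) [g628] tt_c37_K 0 :=
  Sym.of_lab hn hk (okE_cons.2 ⟨g628_ok, okE_nil _⟩) tt_c37_K_ok tt_c37_le (kT := 0) (by decide +kernel)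

theorem le633 : grp 276 V632 ≤ grp 276 V492 :=
  grp_le_of_memB hn hk V492_ok V632_ok (ws := [nat_lit 9, nat_lit 460033, nat_lit 13]) (by decide +kernel)

theorem TT_s45 : Stab 276 (grp 276 ht_c2_K) [nat_lit 31, nat_lit 42, nat_lit 231] V632 16 :=
  Stab.step (k := 9) (L := (lab 276 9)) hn TT_s22 V632_ok le633 (c := (Ch.cons (nat_lit 116) [nat_lit 1, nat_lit 3] (Ch.cons (nat_lit 87) [nat_lit 5] Ch.nil))) (by decide +kernel)

theorem TT_s46 : Stab 276 (grp 276 ht_c2_K) [nat_lit 116, nat_lit 31, nat_lit 42, nat_lit 231] V634 2 :=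
  Stab.step (k := 9) (L := (lab 276 9)) hn TT_s45 V634_ok (grp_mono (List.subset_append_right [g491, g631] _)) (c := (Ch.cons (nat_lit 87) [nat_lit 1] Ch.nil)) (by decide +kernel)

theorem TT_s47 : Stab 276 (grp 276 ht_c2_K) [nat_lit 87, nat_lit 116, nat_lit 31, nat_lit 42, nat_lit 231] V635 1 :=
  Stab.step (k := 9) (L := (lab 276 9)) hn TT_s46 V635_ok (grp_mono (List.subset_append_right [n_u] _)) (c := Ch.nil) (by decide +kernel)

theorem g631_TT : Net.toPerm 276 g631 ∈ (grp 276 ht_c2_K) :=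
  TT_s45.le (toPerm_mem_grp (E := V632) (List.Mem.tail _ (List.Mem.head _)))

noncomputable def TT_s47_O : ℕ := (nat_lit 0x9993333366666ccccc99999b3333666664ccccd9999b3333266666ccccd9999933332c1f07c1f07c1f07c0f83e0f83e0f83e0f81f07c1f07c1f07c1f03e0f83e0f83e0f83e7319cc63398ce7319cc63398ce7319ce63398c67319ce63398c67319ce63398c6731826d926c93649b24db26d936c9b649b24d926d936c9b64db24d926c93649b64db26d92000000000008000000000000000000000000000000000000000000000000000000000000000000000000000000000000000000000000000000000000000000040000000000000000000000000000000000000000000000000000000000000000000000080000000000000000000000000000000000000000000000100000000000000000000000000000000000000000000000000000000000000000000000000008000000000000000000000)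

theorem TT_s47_F : Frame 276 (grp 276 ht_c2_K) 5 9 TT_s47_O 1 1 :=
  IsBase.frame TT_s47.isBase (by decide +kernel)

noncomputable def TT_s46_O : ℕ := (nat_lit 0x10006001000001832011052010808420200000001000c001000000000000000000000cffc8fcc2f274e549f40925f0a72734e17ffdfdce93e396cd08021000010100001002ca9d1bd22ff11e6c9bea885c8e4b2bcd0d00000004c1061237fffdf9ffb8100001002be7c6507b897e5ef5c4c4081051d508308bfcefc868100103feffd820016f3ffc100241638a92c0c4a228e6b5e77f3fc21082d2bbc9204d3e229237fc217de014f3c03fe02b0b6f7adacf3f258233984cec404bfe3e2fa37e041310be23f83e1781e04e43c3c1e0da16c0704e52f39c371adbf12f2dfe1e1235b618550c8b9c34f31a63999693333299838d7af08d241cf2e6d09999ad951a9ba94ad749678ab4c5ab25ab457553442aaab554000000000008000000000000000000000000000000000000000000000000000000000000000000000000000000000000000000000000000000000000000000040000000000000000000000000000000000000000000000000000000000000000000000080000000000000000000000000000000000000000000000100000000000000000000000000000)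

theorem TT_s46_F : Frame 276 (grp 276 ht_c2_K) 4 12 TT_s46_O 0 1 :=
  Stab.frame hn TT_s46 (by decide +kernel)

noncomputable def TT_s45_O : ℕ := (nat_lit 0xdb296a498a708187b071152817ca946c301201011418e04914a1294840145200010023008c04805800d022a5c7dd288208625c500302058a29ccd41124401053225691d322ec1716155ed22225c22bca5a9a3e461aa0ec02fd962442a4093b286bc792a19ffb01273b459038383ee13fe87e5507e7e819a672307252191e7068714ae3522b4e1d804e581eb433173155c5c518994fb95881c93263aead7b9956549350d73151b32e312195154000000000008000000000000000000000000000000000000000000000000000000000000000000000000000000000000000000000000000000000000000000040000000000000000000000000000000000000000000000000000000000000000000000080000000)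

theorem TT_s45_F : Frame 276 (grp 276 ht_c2_K) 3 8 TT_s45_O 0 1 :=
  Stab.frame hn TT_s45 (by decide +kernel)

noncomputable def tt_c37_cnt_L : List ℕ := [0, 4, TT_s0_O, 0, 0, 1, 8, TT_s16_O, 0, 0, 2, 14, TT_s22_O, 0, 0, 3, 8, TT_s45_O, 0, 0, 4, 12, TT_s46_O, 0, 0, 5, 9, TT_s47_O, 1, 0]

theorem tt_c37_cnt_P : Prob 276 9 (grp 276 ht_c2_K) tt_c37_cnt_EG [g628] [g628] tt_c37_K tt_c37_cnt_L 0 0 :=
  Sym.prob hn hk tt_c37_sym tt_c37_cnt_EG_ok (grp_cons_le g124_TT (grp_cons_le g125_TT (grp_cons_le g126_TT (grp_cons_le g127_TT (grp_cons_le n_k3_TT (grp_cons_le n_t_TT (grp_cons_le g468_TT (grp_cons_le g469_TT (grp_cons_le g470_TT (grp_cons_le n_u_TT (grp_cons_le g489_TT (grp_cons_le n_b_TT (grp_cons_le g490_TT (grp_cons_le g340_TT (grp_cons_le g491_TT (grp_cons_le g631_TT (grp_nil_le _))))))))))))))))) (Frames.cons TT_s0_F (Frames.cons TT_s16_F (Frames.cons TT_s22_F (Frames.cons TT_s45_F (Frames.cons TT_s46_F (Frames.cons TT_s47_F Frames.nil)))))) (okE_cons.2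 ⟨g628_ok, okE_nil _⟩) _

noncomputable def tt_c37_cnt_t : BT := (BT.frm (nat_lit 0) (nat_lit 0) (nat_lit 0) [] (BT.pln (nat_lit 0) (nat_lit 3) (BT.fix (nat_lit 257) (BT.and (nat_lit 1) (nat_lit 0) (BT.fix (nat_lit 1) (BT.dif (nat_lit 1) (nat_lit 0) (BT.br (nat_lit 0) (nat_lit 231) [nat_lit 1] (BT.kid (nat_lit 231) (nat_lit 16) (BT.pln (nat_lit 6) (nat_lit 0) (BT.frm (nat_lit 1) (nat_lit 0) (nat_lit 0) [nat_lit 1] (BT.pln (nat_lit 0) (nat_lit 7) (BT.and (nat_lit 8) (nat_lit 0) (BT.dif (nat_lit 0) (nat_lit 6) (BT.frm (nat_lit 2) (nat_lit 0) (nat_lit 0) [nat_lit 0, nat_lit 5] (BT.pln (nat_lit 0) (nat_lit 8) (BT.dif (nat_lit 6) (nat_lit 0) (BT.br (nat_lit 0) (nat_lit 31) [nat_lit 3] (BT.kid (nat_lit 31) (nat_lit 2) (BT.pln (nat_lit 3) (nat_lit 5) (BT.frm (nat_lit 3) (nat_lit 0) (nat_lit 0) [nat_lit 1, nat_lit 5, nat_lit 10] (BT.pln (nat_lit 0) (nat_lit 5) (BT.dif (nat_lit 2) (nat_lit 0) (BT.pln (nat_lit 2) (nat_lit 4) (BT.and (nat_lit 13) (nat_lit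 0) (BT.pln (nat_lit 4) (nat_lit 3) (BT.and (nat_lit 1) (nat_lit 0) (BT.dif (nat_lit 16) (nat_lit 5) (BT.pln (nat_lit 7) (nat_lit 6) (BT.dif (nat_lit 1) (nat_lit 0) (BT.dif (nat_lit 0) (nat_lit 11) (BT.img (nat_lit 1) (nat_lit 4) (BT.and (nat_lit 5) (nat_lit 0) (BT.img (nat_lit 1) (nat_lit 0) (BT.and (nat_lit 3) (nat_lit 0) (BT.img (nat_lit 1) (nat_lit 0) (BT.and (nat_lit 9) (nat_lit 0) (BT.frm (nat_lit 4) (nat_lit 0) (nat_lit 0) [nat_lit 0, nat_lit 18, nat_lit 22, nat_lit 27] (BT.pln (nat_lit 0) (nat_lit 4) (BT.and (nat_lit 16) (nat_lit 0) (BT.pln (nat_lit 2) (nat_lit 5) (BT.and (nat_lit 1) (nat_lit 0) (BT.br (nat_lit 0) (nat_lit 87) [nat_lit 5] (BT.kid (nat_lit 87) (nat_lit 1) (BT.one (nat_lit 5) (nat_lit 0) (nat_lit 0) [nat_lit 0, nat_lit 6, nat_lit 24, nat_lit 28, nat_lit 33]) BT.nil))))))))))))))))))))))))) BT.nil)))))))))) BT.nil))))))))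

theorem tt_c37_cnt : Cnt 276 (grp 276 ht_c2_K) [g628] [g628] 0 0 0 0 32 :=
  BT.sound tt_c37_cnt_P Known.nil (t := tt_c37_cnt_t) (d := 0) (by decide +kernel)

theorem tt_c37_ge : 32 ≤ Nat.card (grp 276 tt_c37_K) :=
  Ch.le_card_grp (k := 9) (L := (lab 276 9)) hn tt_c37_K_ok (c := (Ch.cons (nat_lit 231) [nat_lit 1] (Ch.cons (nat_lit 31) [nat_lit 3] (Ch.cons (nat_lit 87) [nat_lit 5] Ch.nil)))) (by decide +kernel)

theorem tt_c37_eq : (grp 276 ht_c2_K) ⊓ Subgroup.centralizer {Net.toPerm 276 g628} = grp 276 tt_c37_K :=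
  cent_eq tt_c37_sym tt_c37_cnt tt_c37_ge

theorem tt_c37_card : Nat.card ↥((grp 276 ht_c2_K) ⊓ Subgroup.centralizer {Net.toPerm 276 g628}) = 32 :=
  card_cent tt_c37_sym tt_c37_cnt tt_c37_ge

theorem tt_c37_ord : orderOf (Net.toPerm 276 g628) = 8 :=
  orderOf_net hn hk g628_ok (by decide) (ps := [2]) (by set_option linter.unusedSimpArgs false in simp [Nat.primeFactorsList_ofNat]) (by decide +kernel)

theorem le638 : grp 276 tt_c38_K ≤ grp 276 ht_c2_K :=
  grp_le_of_memB hn hk ht_c2_K_ok tt_c38_K_ok (ws := [nat_lit 0x70603030101, nat_lit 0x90603010307, nat_lit 0xb010101]) (by decide +kernel)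

theorem tt_c38_le : grp 276 tt_c38_K ≤ (grp 276 ht_c2_K) :=
  (le638.trans TT_s0.le)

theorem tt_c38_mem : Net.toPerm 276 g636 ∈ (grp 276 ht_c2_K) :=
  tt_c38_le (toPerm_mem_grp (E := tt_c38_K) (List.Mem.head _))

theorem tt_c38_sym : Sym 276 (grp 276 ht_c2_K) [g636] tt_c38_K 0 :=
  Sym.of_lab hn hk (okE_cons.2 ⟨g636_ok, okE_nil _⟩) tt_c38_K_ok tt_c38_le (kT := 0) (by decide +kernel)

noncomputable def tt_c38_cnt_L : List ℕ := [0, 4, TT_s0_O, 0, 0, 1, 8, TT_s16_O, 0, 0, 2, 14, TT_s22_O, 0, 0, 3, 8, TT_s45_O, 0, 0, 5, 9, TT_s47_O, 1, 0]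

theorem tt_c38_cnt_P : Prob 276 9 (grp 276 ht_c2_K) tt_c38_cnt_EG [g636] [g636] tt_c38_K tt_c38_cnt_L 0 0 :=
  Sym.prob hn hk tt_c38_sym tt_c38_cnt_EG_ok (grp_cons_le g124_TT (grp_cons_le g125_TT (grp_cons_le g126_TT (grp_cons_le g127_TT (grp_cons_le n_k3_TT (grp_cons_le n_t_TT (grp_cons_le g468_TT (grp_cons_le g469_TT (grp_cons_le g470_TT (grp_cons_le n_u_TT (grp_cons_le g489_TT (grp_cons_le n_b_TT (grp_cons_le g490_TT (grp_cons_le g340_TT (grp_cons_le g491_TT (grp_cons_le g631_TT (grp_nil_le _))))))))))))))))) (Frames.cons TT_s0_F (Frames.cons TT_s16_F (Frames.cons TT_s22_F (Frames.cons TT_s45_F (Frames.cons TT_s47_F Frames.nil))))) (okE_cons.2 ⟨g636_ok, okE_nil _⟩) _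

noncomputable def tt_c38_cnt_t : BT := (BT.frm (nat_lit 0) (nat_lit 0) (nat_lit 0) [] (BT.pln (nat_lit 0) (nat_lit 3) (BT.fix (nat_lit 257) (BT.and (nat_lit 1) (nat_lit 0) (BT.fix (nat_lit 1) (BT.dif (nat_lit 1) (nat_lit 0) (BT.br (nat_lit 0) (nat_lit 213) [nat_lit 1] (BT.kid (nat_lit 213) (nat_lit 16) (BT.pln (nat_lit 6) (nat_lit 0) (BT.frm (nat_lit 1) (nat_lit 6) (nat_lit 6) [nat_lit 1] (BT.pln (nat_lit 0) (nat_lit 7) (BT.and (nat_lit 8) (nat_lit 0) (BT.dif (nat_lit 0) (nat_lit 6) (BT.frm (nat_lit 2) (nat_lit 6) (nat_lit 6) [nat_lit 0, nat_lit 5] (BT.pln (nat_lit 0) (nat_lit 8) (BT.dif (nat_lit 6) (nat_lit 0) (BT.br (nat_lit 0) (nat_lit 60) [nat_lit 3] (BT.kid (nat_lit 60) (nat_lit 2) (BT.pln (nat_lit 3) (nat_lit 5) (BT.frm (nat_lit 3) (nat_lit 0x171906) (nat_lit 0x171906) [nat_lit 1, nat_lit 5, nat_lit 10] (BT.pln (nat_lit 0) (nat_lit 5) (BT.dif (nat_lit 2) (nat_lit 0) (BT.pln (nat_lit 7) (nat_lit 2) (BT.pln (nat_lit 3) (nat_lit 6) (BT.and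 (nat_lit 1) (nat_lit 0) (BT.dif (nat_lit 0) (nat_lit 4) (BT.pln (nat_lit 6) (nat_lit 7) (BT.dif (nat_lit 8) (nat_lit 0) (BT.dif (nat_lit 5) (nat_lit 4) (BT.and (nat_lit 10) (nat_lit 2) (BT.and (nat_lit 0) (nat_lit 9) (BT.img (nat_lit 1) (nat_lit 0) (BT.and (nat_lit 3) (nat_lit 0) (BT.img (nat_lit 1) (nat_lit 0) (BT.and (nat_lit 6) (nat_lit 0) (BT.img (nat_lit 1) (nat_lit 0) (BT.and (nat_lit 10) (nat_lit 0) (BT.img (nat_lit 1) (nat_lit 0) (BT.and (nat_lit 16) (nat_lit 0) (BT.br (nat_lit 0) (nat_lit 66) [nat_lit 5] (BT.kid (nat_lit 66) (nat_lit 1) (BT.pln (nat_lit 20) (nat_lit 4) (BT.and (nat_lit 31) (nat_lit 0) (BT.pln (nat_lit 22) (nat_lit 3) (BT.and (nat_lit 1) (nat_lit 0) (BT.dif (nat_lit 34) (nat_lit 26) (BT.dif (nat_lit 0) (nat_lit 24) (BT.dif (nat_lit 0) (nat_lit 22) (BT.img (nat_lit 1) (nat_lit 3) (BT.and (nat_lit 1) (nat_lit 0) (BT.img (nat_lit 1) (nat_lit 0) (BT.and (nat_lit 6) (nat_lit 0) (BT.img (nat_lit 1) (nat_lit 0) (BT.and (nat_lit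 8) (nat_lit 0) (BT.one (nat_lit 4) (nat_lit 0x131f171906) (nat_lit 0x131f171906) [nat_lit 13, nat_lit 0, nat_lit 35, nat_lit 39, nat_lit 44])))))))))))))) BT.nil))))))))))))))))))))))) BT.nil)))))))))) BT.nil))))))))

theorem tt_c38_cnt : Cnt 276 (grp 276 ht_c2_K) [g636] [g636] 0 0 0 0 32 :=
  BT.sound tt_c38_cnt_P Known.nil (t := tt_c38_cnt_t) (d := 0) (by decide +kernel)

theorem tt_c38_ge : 32 ≤ Nat.card (grp 276 tt_c38_K) :=
  Ch.le_card_grp (k := 9) (L := (lab 276 9)) hn tt_c38_K_ok (c := (Ch.cons (nat_lit 213) [nat_lit 1] (Ch.cons (nat_lit 60) [nat_lit 3] (Ch.cons (nat_lit 66) [nat_lit 5] Ch.nil)))) (by decide +kernel)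

theorem tt_c38_eq : (grp 276 ht_c2_K) ⊓ Subgroup.centralizer {Net.toPerm 276 g636} = grp 276 tt_c38_K :=
  cent_eq tt_c38_sym tt_c38_cnt tt_c38_ge

theorem tt_c38_card : Nat.card ↥((grp 276 ht_c2_K) ⊓ Subgroup.centralizer {Net.toPerm 276 g636}) = 32 :=
  card_cent tt_c38_sym tt_c38_cnt tt_c38_ge

theorem tt_c38_ord : orderOf (Net.toPerm 276 g636) = 8 :=
  orderOf_net hn hk g636_ok (by decide) (ps := [2]) (by set_option linter.unusedSimpArgs false in simp [Nat.primeFactorsList_ofNat]) (by decide +kernel)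

theorem le641 : grp 276 tt_c39_K ≤ grp 276 ht_c2_K :=
  grp_le_of_memB hn hk ht_c2_K_ok tt_c39_K_ok (ws := [nat_lit 0x90604010401, nat_lit 0xb09070603020302, nat_lit 0xb010101]) (by decide +kernel)

theorem tt_c39_le : grp 276 tt_c39_K ≤ (grp 276 ht_c2_K) :=
  (le641.trans TT_s0.le)

theorem tt_c39_mem : Net.toPerm 276 g639 ∈ (grp 276 ht_c2_K) :=
  tt_c39_le (toPerm_mem_grp (E := tt_c39_K) (List.Mem.head _))

theorem tt_c39_sym : Sym 276 (grp 276 ht_c2_K) [g639] tt_c39_K 0 :=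
  Sym.of_lab hn hk (okE_cons.2 ⟨g639_ok, okE_nil _⟩) tt_c39_K_ok tt_c39_le (kT := 0) (by decide +kernel)

noncomputable def tt_c39_cnt_L : List ℕ := [0, 4, TT_s0_O, 0, 0, 1, 8, TT_s16_O, 0, 0, 2, 14, TT_s22_O, 0, 0, 3, 8, TT_s45_O, 0, 0, 5, 9, TT_s47_O, 1, 0]

theorem tt_c39_cnt_P : Prob 276 9 (grp 276 ht_c2_K) tt_c39_cnt_EG [g639] [g639] tt_c39_K tt_c39_cnt_L 0 0 :=
  Sym.prob hn hk tt_c39_sym tt_c39_cnt_EG_ok (grp_cons_le g124_TT (grp_cons_le g125_TT (grp_cons_le g126_TT (grp_cons_le g127_TT (grp_cons_le n_k3_TT (grp_cons_le n_t_TT (grp_cons_le g468_TT (grp_cons_le g469_TT (grp_cons_le g470_TT (grp_cons_le n_u_TT (grp_cons_le g489_TT (grp_cons_le n_b_TT (grp_cons_le g490_TT (grp_cons_le g340_TT (grp_cons_le g491_TT (grp_cons_le g631_TT (grp_nil_le _))))))))))))))))) (Frames.cons TT_s0_F (Frames.cons TT_s16_F (Frames.cons TT_s22_F (Frames.cons TT_s45_F (Frames.cons TT_s47_F Frames.nil))))) (okE_cons.2 ⟨g639_ok, okE_nil _⟩) _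

noncomputable def tt_c39_cnt_t : BT := (BT.frm (nat_lit 0) (nat_lit 0) (nat_lit 0) [] (BT.pln (nat_lit 0) (nat_lit 3) (BT.fix (nat_lit 257) (BT.and (nat_lit 1) (nat_lit 0) (BT.fix (nat_lit 1) (BT.dif (nat_lit 1) (nat_lit 0) (BT.br (nat_lit 0) (nat_lit 209) [nat_lit 1] (BT.kid (nat_lit 209) (nat_lit 16) (BT.pln (nat_lit 6) (nat_lit 0) (BT.frm (nat_lit 1) (nat_lit 1) (nat_lit 1) [nat_lit 1] (BT.pln (nat_lit 0) (nat_lit 7) (BT.and (nat_lit 8) (nat_lit 0) (BT.dif (nat_lit 0) (nat_lit 6) (BT.frm (nat_lit 2) (nat_lit 1) (nat_lit 1) [nat_lit 0, nat_lit 5] (BT.pln (nat_lit 0) (nat_lit 8) (BT.dif (nat_lit 6) (nat_lit 0) (BT.br (nat_lit 0) (nat_lit 176) [nat_lit 3] (BT.kid (nat_lit 176) (nat_lit 2) (BT.pln (nat_lit 3) (nat_lit 5) (BT.frm (nat_lit 3) (nat_lit 1) (nat_lit 1) [nat_lit 1, nat_lit 5, nat_lit 10] (BT.pln (nat_lit 0) (nat_lit 5) (BT.dif (nat_lit 2) (nat_lit 0) (BT.pln (nat_lit 7) (nat_lit 2) (BT.and (nat_lit 0) (nat_lit 2) (BT.pln (nat_lit 4)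 (nat_lit 7) (BT.dif (nat_lit 6) (nat_lit 0) (BT.pln (nat_lit 6) (nat_lit 6) (BT.dif (nat_lit 4) (nat_lit 0) (BT.and (nat_lit 9) (nat_lit 3) (BT.and (nat_lit 0) (nat_lit 8) (BT.img (nat_lit 1) (nat_lit 0) (BT.and (nat_lit 3) (nat_lit 0) (BT.img (nat_lit 1) (nat_lit 0) (BT.and (nat_lit 7) (nat_lit 0) (BT.img (nat_lit 1) (nat_lit 0) (BT.and (nat_lit 11) (nat_lit 0) (BT.img (nat_lit 1) (nat_lit 0) (BT.and (nat_lit 15) (nat_lit 0) (BT.br (nat_lit 0) (nat_lit 241) [nat_lit 5] (BT.kid (nat_lit 241) (nat_lit 1) (BT.pln (nat_lit 19) (nat_lit 4) (BT.and (nat_lit 30) (nat_lit 0) (BT.pln (nat_lit 21) (nat_lit 3) (BT.and (nat_lit 1) (nat_lit 0) (BT.dif (nat_lit 33) (nat_lit 22) (BT.dif (nat_lit 0) (nat_lit 17) (BT.dif (nat_lit 0) (nat_lit 27) (BT.img (nat_lit 1) (nat_lit 3) (BT.and (nat_lit 4) (nat_lit 0) (BT.img (nat_lit 1) (nat_lit 0) (BT.and (nat_lit 3) (nat_lit 0) (BT.img (nat_lit 1) (nat_lit 0) (BT.and (nat_lit 8) (nat_lit 0) (BT.one (nat_lit 4) (nat_lit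 0x131d01) (nat_lit 0x131d01) [nat_lit 13, nat_lit 0, nat_lit 34, nat_lit 38, nat_lit 43])))))))))))))) BT.nil)))))))))))))))))))))) BT.nil)))))))))) BT.nil))))))))

theorem tt_c39_cnt : Cnt 276 (grp 276 ht_c2_K) [g639] [g639] 0 0 0 0 32 :=
  BT.sound tt_c39_cnt_P Known.nil (t := tt_c39_cnt_t) (d := 0) (by decide +kernel)

theorem tt_c39_ge : 32 ≤ Nat.card (grp 276 tt_c39_K) :=
  Ch.le_card_grp (k := 9) (L := (lab 276 9)) hn tt_c39_K_ok (c := (Ch.cons (nat_lit 209) [nat_lit 1] (Ch.cons (nat_lit 176) [nat_lit 3] (Ch.cons (nat_lit 241) [nat_lit 5] Ch.nil)))) (by decide +kernel)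

theorem tt_c39_eq : (grp 276 ht_c2_K) ⊓ Subgroup.centralizer {Net.toPerm 276 g639} = grp 276 tt_c39_K :=
  cent_eq tt_c39_sym tt_c39_cnt tt_c39_ge

theorem tt_c39_card : Nat.card ↥((grp 276 ht_c2_K) ⊓ Subgroup.centralizer {Net.toPerm 276 g639}) = 32 :=
  card_cent tt_c39_sym tt_c39_cnt tt_c39_ge

theorem tt_c39_ord : orderOf (Net.toPerm 276 g639) = 8 :=
  orderOf_net hn hk g639_ok (by decide) (ps := [2]) (by set_option linter.unusedSimpArgs false in simp [Nat.primeFactorsList_ofNat]) (by decide +kernel)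

theorem le645 : grp 276 tt_c40_K ≤ grp 276 ht_c2_K :=
  grp_le_of_memB hn hk ht_c2_K_ok tt_c40_K_ok (ws := [nat_lit 590339, nat_lit 262407, nat_lit 0xb040107]) (by decide +kernel)

theorem tt_c40_le : grp 276 tt_c40_K ≤ (grp 276 ht_c2_K) :=
  (le645.trans TT_s0.le)

theorem tt_c40_mem : Net.toPerm 276 g642 ∈ (grp 276 ht_c2_K) :=
  tt_c40_le (toPerm_mem_grp (E := tt_c40_K) (List.Mem.head _))

theorem tt_c40_sym : Sym 276 (grp 276 ht_c2_K) [g642] tt_c40_K 0 :=
  Sym.of_lab hn hk (okE_cons.2 ⟨g642_ok, okE_nil _⟩) tt_c40_K_ok tt_c40_le (kT := 0) (by decide +kernel)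

theorem le648 : grp 276 V647 ≤ grp 276 V632 :=
  grp_le_of_memB hn hk V632_ok V647_ok (ws := [nat_lit 1283]) (by decide +kernel)

theorem TT_s48 : Stab 276 (grp 276 ht_c2_K) [nat_lit 1, nat_lit 31, nat_lit 42, nat_lit 231] V647 8 :=
  Stab.step (k := 9) (L := (lab 276 9)) hn TT_s45 V647_ok le648 (c := (Ch.cons (nat_lit 87) [nat_lit 1] Ch.nil)) (by decide +kernel)

theorem TT_s49 : Stab 276 (grp 276 ht_c2_K) [nat_lit 87, nat_lit 1, nat_lit 31, nat_lit 42, nat_lit 231] V649 1 :=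
  Stab.step (k := 9) (L := (lab 276 9)) hn TT_s48 V649_ok (grp_mono (List.subset_append_right [g646] _)) (c := Ch.nil) (by decide +kernel)

theorem g646_TT : Net.toPerm 276 g646 ∈ (grp 276 ht_c2_K) :=
  TT_s48.le (toPerm_mem_grp (E := V647) (List.Mem.head _))

noncomputable def TT_s49_O : ℕ := (nat_lit 0x9993333366666ccccc99999b3333666664ccccd9999b3333266666ccccd9999933332c1f07c1f07c1f07c0f83e0f83e0f83e0f81f07c1f07c1f07c1f03e0f83e0f83e0f83e7319cc63398ce7319cc63398ce7319ce63398c67319ce63398c67319ce63398c6731826d926c93649b24db26d936c9b649b24d926d936c9b64db24d926c93649b64db26d92000000000008000000000000000000000000000000000000000000000000000000000000000000000000000000000000000000000000000000000000000000040000000000000000000000000000000000000000000000000000000000000000000000080000000000000000000000000000000000000000000000000000000000000000000000000002000000000000000000000000000000000000000000000008000000000000000000000)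

theorem TT_s49_F : Frame 276 (grp 276 ht_c2_K) 5 9 TT_s49_O 1 1 :=
  IsBase.frame TT_s49.isBase (by decide +kernel)

noncomputable def tt_c40_cnt_L : List ℕ := [0, 4, TT_s0_O, 0, 0, 1, 8, TT_s16_O, 0, 0, 2, 14, TT_s22_O, 0, 0, 3, 8, TT_s45_O, 0, 0, 5, 9, TT_s49_O, 1, 0]

theorem tt_c40_cnt_P : Prob 276 9 (grp 276 ht_c2_K) tt_c40_cnt_EG [g642] [g642] tt_c40_K tt_c40_cnt_L 0 0 :=
  Sym.prob hn hk tt_c40_sym tt_c40_cnt_EG_ok (grp_cons_le g124_TT (grp_cons_le g125_TT (grp_cons_le g126_TT (grp_cons_le g127_TT (grp_cons_le n_k3_TT (grp_cons_le n_t_TT (grp_cons_le g468_TT (grp_cons_le g469_TT (grp_cons_le g470_TT (grp_cons_le n_u_TT (grp_cons_le g489_TT (grp_cons_le n_b_TT (grp_cons_le g490_TT (grp_cons_le g340_TT (grp_cons_le g491_TT (grp_cons_le g646_TT (grp_cons_le g631_TT (grp_nil_le _)))))))))))))))))) (Frames.cons TT_s0_F (Frames.cons TT_s16_F (Frames.cons TT_s22_F (Frames.cons TT_s45_F (Frames.cons TT_s49_F Frames.nil))))) (okE_cons.2 ⟨g642_ok,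 okE_nil _⟩) _

noncomputable def tt_c40_cnt_t : BT := (BT.frm (nat_lit 0) (nat_lit 0) (nat_lit 0) [] (BT.pln (nat_lit 0) (nat_lit 3) (BT.fix (nat_lit 257) (BT.and (nat_lit 1) (nat_lit 0) (BT.fix (nat_lit 1) (BT.dif (nat_lit 1) (nat_lit 0) (BT.br (nat_lit 0) (nat_lit 99) [nat_lit 1] (BT.kid (nat_lit 99) (nat_lit 16) (BT.pln (nat_lit 6) (nat_lit 0) (BT.dif (nat_lit 0) (nat_lit 5) (BT.frm (nat_lit 1) (nat_lit 5) (nat_lit 5) [nat_lit 2] (BT.pln (nat_lit 0) (nat_lit 7) (BT.and (nat_lit 9) (nat_lit 0) (BT.dif (nat_lit 0) (nat_lit 7) (BT.frm (nat_lit 2) (nat_lit 4357) (nat_lit 4357) [nat_lit 0, nat_lit 6] (BT.pln (nat_lit 0) (nat_lit 8) (BT.dif (nat_lit 6) (nat_lit 0) (BT.br (nat_lit 0) (nat_lit 244) [nat_lit 3] (BT.dead (nat_lit 65) (BT.pln (nat_lit 3) (nat_lit 5) (BT.frm (nat_lit 3) (nat_lit 0x17191105) (nat_lit 725253) [nat_lit 1, nat_lit 5, nat_lit 11] (BT.pln (nat_lit 0) (nat_lit 5) (BT.dif (nat_lit 2) (nat_lit 0) (BT.br (nat_lit 0) (nat_lit 58)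 [nat_lit 0x5050505, nat_lit 1285, nat_lit 6] (BT.dead (nat_lit 253) (BT.img (nat_lit 1) (nat_lit 5) (BT.frm (nat_lit 4) (nat_lit 0x1f1f1d17191105) (nat_lit 0x1d0b1105) [nat_lit 1, nat_lit 0, nat_lit 6, nat_lit 10, nat_lit 16] (BT.pln (nat_lit 0) (nat_lit 7) (BT.img (nat_lit 1) (nat_lit 3) (BT.and (nat_lit 1) (nat_lit 0) (BT.cnt (nat_lit 0))))))) BT.nil)))))) (BT.kid (nat_lit 244) (nat_lit 8) (BT.pln (nat_lit 3) (nat_lit 5) (BT.frm (nat_lit 3) (nat_lit 0x17191105) (nat_lit 0x17191105) [nat_lit 1, nat_lit 5, nat_lit 11] (BT.pln (nat_lit 0) (nat_lit 5) (BT.dif (nat_lit 2) (nat_lit 0) (BT.br (nat_lit 0) (nat_lit 58) [nat_lit 5] (BT.kid (nat_lit 58) (nat_lit 1) (BT.img (nat_lit 1) (nat_lit 5) (BT.one (nat_lit 4) (nat_lit 0x1f1f1d17191105) (nat_lit 0x1f1f1d17191105) [nat_lit 1, nat_lit 0, nat_lit 6, nat_lit 10, nat_lit 16])) BT.nil)))))) BT.nil)))))))))))) BT.nil))))))))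

theorem tt_c40_cnt : Cnt 276 (grp 276 ht_c2_K) [g642] [g642] 0 0 0 0 32 :=
  BT.sound tt_c40_cnt_P Known.nil (t := tt_c40_cnt_t) (d := 0) (by decide +kernel)

theorem tt_c40_ge : 32 ≤ Nat.card (grp 276 tt_c40_K) :=
  Ch.le_card_grp (k := 9) (L := (lab 276 9)) hn tt_c40_K_ok (c := (Ch.cons (nat_lit 99) [nat_lit 1] (Ch.cons (nat_lit 244) [nat_lit 3] (Ch.cons (nat_lit 58) [nat_lit 5] Ch.nil)))) (by decide +kernel)

theorem tt_c40_eq : (grp 276 ht_c2_K) ⊓ Subgroup.centralizer {Net.toPerm 276 g642} = grp 276 tt_c40_K :=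
  cent_eq tt_c40_sym tt_c40_cnt tt_c40_ge

theorem tt_c40_card : Nat.card ↥((grp 276 ht_c2_K) ⊓ Subgroup.centralizer {Net.toPerm 276 g642}) = 32 :=
  card_cent tt_c40_sym tt_c40_cnt tt_c40_ge

theorem tt_c40_ord : orderOf (Net.toPerm 276 g642) = 8 :=
  orderOf_net hn hk g642_ok (by decide) (ps := [2]) (by set_option linter.unusedSimpArgs false in simp [Nat.primeFactorsList_ofNat]) (by decide +kernel)

theorem le652 : grp 276 tt_c41_K ≤ grp 276 ht_c2_K :=
  grp_le_of_memB hn hk ht_c2_K_ok tt_c41_K_ok (ws := [nat_lit 0xb090604010307, nat_lit 65793, nat_lit 0xb0604010307]) (by decide +kernel)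

theorem tt_c41_le : grp 276 tt_c41_K ≤ (grp 276 ht_c2_K) :=
  (le652.trans TT_s0.le)

theorem tt_c41_mem : Net.toPerm 276 g650 ∈ (grp 276 ht_c2_K) :=
  tt_c41_le (toPerm_mem_grp (E := tt_c41_K) (List.Mem.head _))

theorem tt_c41_sym : Sym 276 (grp 276 ht_c2_K) [g650] tt_c41_K 0 :=
  Sym.of_lab hn hk (okE_cons.2 ⟨g650_ok, okE_nil _⟩) tt_c41_K_ok tt_c41_le (kT := 0) (by decide +kernel)

noncomputable def tt_c41_cnt_L : List ℕ := [0, 4, TT_s0_O, 0, 0, 1, 8, TT_s16_O, 0, 0, 2, 14, TT_s22_O, 0, 0, 3, 8, TT_s45_O, 0, 0, 5, 9, TT_s49_O, 1, 0]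

theorem tt_c41_cnt_P : Prob 276 9 (grp 276 ht_c2_K) tt_c41_cnt_EG [g650] [g650] tt_c41_K tt_c41_cnt_L 0 0 :=
  Sym.prob hn hk tt_c41_sym tt_c41_cnt_EG_ok (grp_cons_le g124_TT (grp_cons_le g125_TT (grp_cons_le g126_TT (grp_cons_le g127_TT (grp_cons_le n_k3_TT (grp_cons_le n_t_TT (grp_cons_le g468_TT (grp_cons_le g469_TT (grp_cons_le g470_TT (grp_cons_le n_u_TT (grp_cons_le g489_TT (grp_cons_le n_b_TT (grp_cons_le g490_TT (grp_cons_le g340_TT (grp_cons_le g491_TT (grp_cons_le g646_TT (grp_cons_le g631_TT (grp_nil_le _)))))))))))))))))) (Frames.cons TT_s0_F (Frames.cons TT_s16_F (Frames.cons TT_s22_F (Frames.cons TT_s45_F (Frames.cons TT_s49_F Frames.nil))))) (okE_cons.2 ⟨g650_ok, okE_nil _⟩) _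

noncomputable def tt_c41_cnt_t : BT := (BT.frm (nat_lit 0) (nat_lit 0) (nat_lit 0) [] (BT.pln (nat_lit 0) (nat_lit 3) (BT.fix (nat_lit 257) (BT.and (nat_lit 1) (nat_lit 0) (BT.fix (nat_lit 1) (BT.dif (nat_lit 1) (nat_lit 0) (BT.br (nat_lit 0) (nat_lit 272) [nat_lit 1] (BT.kid (nat_lit 272) (nat_lit 16) (BT.pln (nat_lit 6) (nat_lit 0) (BT.dif (nat_lit 0) (nat_lit 3) (BT.frm (nat_lit 1) (nat_lit 519) (nat_lit 519) [nat_lit 2] (BT.pln (nat_lit 0) (nat_lit 7) (BT.and (nat_lit 9) (nat_lit 0) (BT.dif (nat_lit 0) (nat_lit 7) (BT.frm (nat_lit 2) (nat_lit 519) (nat_lit 519) [nat_lit 0, nat_lit 6] (BT.pln (nat_lit 0) (nat_lit 8) (BT.dif (nat_lit 6) (nat_lit 0) (BT.br (nat_lit 0) (nat_lit 98) [nat_lit 3] (BT.dead (nat_lit 60) (BT.pln (nat_lit 3) (nat_lit 5) (BT.frm (nat_lit 3) (nat_lit 0x171a0207) (nat_lit 519) [nat_lit 1, nat_lit 5, nat_lit 11] (BT.pln (nat_lit 0) (nat_lit 5) (BT.dif (nat_lit 2) (nat_lit 0) (BT.br (nat_lit 0) (nat_lit 154) [nat_lit 1542,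 nat_lit 394758] (BT.dead (nat_lit 138) (BT.img (nat_lit 1) (nat_lit 5) (BT.frm (nat_lit 4) (nat_lit 0x1f1d171a0207) (nat_lit 0x1d0207) [nat_lit 1, nat_lit 0, nat_lit 6, nat_lit 10, nat_lit 16] (BT.pln (nat_lit 0) (nat_lit 5) (BT.img (nat_lit 1) (nat_lit 3) (BT.and (nat_lit 1) (nat_lit 0) (BT.cnt (nat_lit 0))))))) BT.nil)))))) (BT.kid (nat_lit 98) (nat_lit 8) (BT.pln (nat_lit 3) (nat_lit 5) (BT.frm (nat_lit 3) (nat_lit 0x171a0207) (nat_lit 0x171a0207) [nat_lit 1, nat_lit 5, nat_lit 11] (BT.pln (nat_lit 0) (nat_lit 5) (BT.dif (nat_lit 2) (nat_lit 0) (BT.br (nat_lit 0) (nat_lit 154) [nat_lit 5] (BT.kid (nat_lit 154) (nat_lit 1) (BT.img (nat_lit 1) (nat_lit 5) (BT.one (nat_lit 4) (nat_lit 0x1f1d171a0207) (nat_lit 0x1f1d171a0207) [nat_lit 1, nat_lit 0, nat_lit 6, nat_lit 10, nat_lit 16])) BT.nil)))))) BT.nil)))))))))))) BT.nil))))))))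

theorem tt_c41_cnt : Cnt 276 (grp 276 ht_c2_K) [g650] [g650] 0 0 0 0 32 :=
  BT.sound tt_c41_cnt_P Known.nil (t := tt_c41_cnt_t) (d := 0) (by decide +kernel)

theorem tt_c41_ge : 32 ≤ Nat.card (grp 276 tt_c41_K) :=
  Ch.le_card_grp (k := 9) (L := (lab 276 9)) hn tt_c41_K_ok (c := (Ch.cons (nat_lit 272) [nat_lit 1] (Ch.cons (nat_lit 98) [nat_lit 3] (Ch.cons (nat_lit 154) [nat_lit 5] Ch.nil)))) (by decide +kernel)

theorem tt_c41_eq : (grp 276 ht_c2_K) ⊓ Subgroup.centralizer {Net.toPerm 276 g650} = grp 276 tt_c41_K :=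
  cent_eq tt_c41_sym tt_c41_cnt tt_c41_ge

theorem tt_c41_card : Nat.card ↥((grp 276 ht_c2_K) ⊓ Subgroup.centralizer {Net.toPerm 276 g650}) = 32 :=
  card_cent tt_c41_sym tt_c41_cnt tt_c41_ge

theorem tt_c41_ord : orderOf (Net.toPerm 276 g650) = 8 :=
  orderOf_net hn hk g650_ok (by decide) (ps := [2]) (by set_option linter.unusedSimpArgs false in simp [Nat.primeFactorsList_ofNat]) (by decide +kernel)

theorem le654 : grp 276 tt_c42_K ≤ grp 276 ht_c2_K :=
  grp_le_of_memB hn hk ht_c2_K_ok tt_c42_K_ok (ws := [nat_lit 0xb05050306020302, nat_lit 0xb010101]) (by decide +kernel)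

theorem tt_c42_le : grp 276 tt_c42_K ≤ (grp 276 ht_c2_K) :=
  (le654.trans TT_s0.le)

theorem tt_c42_mem : Net.toPerm 276 g653 ∈ (grp 276 ht_c2_K) :=
  tt_c42_le (toPerm_mem_grp (E := tt_c42_K) (List.Mem.head _))

theorem tt_c42_sym : Sym 276 (grp 276 ht_c2_K) [g653] tt_c42_K 0 :=
  Sym.of_lab hn hk (okE_cons.2 ⟨g653_ok, okE_nil _⟩) tt_c42_K_ok tt_c42_le (kT := 0) (by decide +kernel)

theorem le656 : grp 276 V655 ≤ grp 276 V423 :=
  grp_le_of_memB hn hk V423_ok V655_ok (ws := [nat_lit 1797, nat_lit 7]) (by decide +kernel)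

theorem TT_s50 : Stab 276 (grp 276 ht_c2_K) [nat_lit 40, nat_lit 185, nat_lit 176] V655 4 :=
  Stab.step (k := 9) (L := (lab 276 9)) hn TT_s2 V655_ok le656 (c := (Ch.cons (nat_lit 219) [nat_lit 1] (Ch.cons (nat_lit 0) [nat_lit 3] Ch.nil))) (by decide +kernel)

theorem TT_s51 : Stab 276 (grp 276 ht_c2_K) [nat_lit 219, nat_lit 40, nat_lit 185, nat_lit 176] V657 2 :=
  Stab.step (k := 9) (L := (lab 276 9)) hn TT_s50 V657_ok (grp_mono (List.subset_append_right [g502] _)) (c := (Ch.cons (nat_lit 0) [nat_lit 1] Ch.nil)) (by decide +kernel)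

theorem TT_s52 : Stab 276 (grp 276 ht_c2_K) [nat_lit 0, nat_lit 219, nat_lit 40, nat_lit 185, nat_lit 176] V658 1 :=
  Stab.step (k := 9) (L := (lab 276 9)) hn TT_s51 V658_ok (grp_mono (List.subset_append_right [n_u] _)) (c := Ch.nil) (by decide +kernel)

theorem g502_TT : Net.toPerm 276 g502 ∈ (grp 276 ht_c2_K) :=
  TT_s50.le (toPerm_mem_grp (E := V655) (List.Mem.head _))

noncomputable def TT_s52_O : ℕ := (nat_lit 0x9993333366666ccccc99999b3333666664ccccd9999b3333266666ccccd9999933332c1f07c1f07c1f07c0f83e0f83e0f83e0f81f07c1f07c1f07c1f03e0f83e0f83e0f83e7319cc63398ce7319cc63398ce7319ce63398c67319ce63398c67319ce63398c6731826d926c93649b24db26d936c9b649b24d926d936c9b64db24d926c93649b64db26d92000000000000000000000000100000000000000000000000000000000000000000000000000000000000000000020000000000000000000000000000000000000000000000000000000000000000000000000000000000000000000000000000000010000000000000000000000008000000000000000000000000000000000000000000000000000000000000000000000000000000000000000000000000000000000000000000000000001)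

theorem TT_s52_F : Frame 276 (grp 276 ht_c2_K) 5 9 TT_s52_O 1 1 :=
  IsBase.frame TT_s52.isBase (by decide +kernel)

noncomputable def TT_s51_O : ℕ := (nat_lit 0x10006001000801032011050000808420200000011000c001100000000000000000000cffc8fcc2f274e549f40925f0a72734e17ffdfdce93e396cc08021000040180001002ca9d1bd22ff11e6c9bea885c8e4b2bcd0d00000004c1061227fffdf9ffe8180001002be7c6507b89fe56f5c4c4081051d508308bfcefc868100102feffd820046fbffc100241638a92c0c4a228e6b5e75f2fc29482d2bbc9204d3e229227fc217de044fbc03fe02b0b6f7adacf3f258233984cec4043be3e2fa37e151310be22f83e1781e44e43c3c1e0da16c0704e5af31c371adbd12fad7a3e3235b618450ccb9c24f33a6399869b333299838d7af08d249ce2e6d09999ac951a9ba94ad749768ab8c5ba2da9557552452aaab554000000000000000000000000100000000000000000000000000000000000000000000000000000000000000000020000000000000000000000000000000000000000000000000000000000000000000000000000000000000000000000000000000010000000000000000000000008000000000000000000000000000000000000000000000000000000)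

theorem TT_s51_F : Frame 276 (grp 276 ht_c2_K) 4 12 TT_s51_O 0 1 :=
  Stab.frame hn TT_s51 (by decide +kernel)

noncomputable def TT_s50_O : ℕ := (nat_lit 0x100060010000010320110500008084202000000000008001108020000000180000002c7d59bc02f3f0af89780824c867b7b4c1fd95b0df19d7934e4499d807640000001000a7e88cd9bbc89bd0d57ec2850146310e0733d1a1d7546d400932014b88ee63ffc1000c02205c0cb7feaa88023e8072333046fd5ee8eb53c6a44b7b0f9715d01ecf3003fe00662b652c24cb94c95f671cc0463876a1ca5723ddb9d244eda7004dc849ec0ce83d1e2454286bfe60072e2e3a79b5c2a3ebe1a10fc64f5c48d64fc18ec8f0ab9a0e8d63299a084a2dc0e0553bc746cb93d5c9dc50b4be55f89e3d4f583ada63a8d42ccacab52a554000000000000000000000000100000000000000000000000000000000000000000000000000000000000000000020000000000000000000000000000000000000000000000000000000000000000000000000000000000000000000000000000000010000000000)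

theorem TT_s50_F : Frame 276 (grp 276 ht_c2_K) 3 10 TT_s50_O 0 1 :=
  Stab.frame hn TT_s50 (by decide +kernel)

noncomputable def tt_c42_cnt_L : List ℕ := [0, 4, TT_s0_O, 0, 0, 1, 8, TT_s1_O, 0, 0, 3, 10, TT_s50_O, 0, 0, 4, 12, TT_s51_O, 0, 0, 5, 9, TT_s52_O, 1, 0]

theorem tt_c42_cnt_P : Prob 276 9 (grp 276 ht_c2_K) tt_c42_cnt_EG [g653] [g653] tt_c42_K tt_c42_cnt_L 0 0 :=
  Sym.prob hn hk tt_c42_sym tt_c42_cnt_EG_ok (grp_cons_le g124_TT (grp_cons_le g125_TT (grp_cons_le g126_TT (grp_cons_le g127_TT (grp_cons_le n_k3_TT (grp_cons_le n_t_TT (grp_cons_le g419_TT (grp_cons_le g420_TT (grp_cons_le g417_TT (grp_cons_le n_u_TT (grp_cons_le g414_TT (grp_cons_le g502_TT (grp_nil_le _))))))))))))) (Frames.cons TT_s0_F (Frames.cons TT_s1_F (Frames.cons TT_s50_F (Frames.cons TT_s51_F (Frames.cons TT_s52_F Frames.nil))))) (okE_cons.2 ⟨g653_ok, okE_nil _⟩) _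

noncomputable def tt_c42_cnt_t : BT := (BT.frm (nat_lit 0) (nat_lit 0) (nat_lit 0) [] (BT.pln (nat_lit 0) (nat_lit 0) (BT.br (nat_lit 0) (nat_lit 176) [nat_lit 1] (BT.dead (nat_lit 145) (BT.img (nat_lit 1) (nat_lit 0) (BT.img (nat_lit 1) (nat_lit 0) (BT.frm (nat_lit 2) (nat_lit 857358) (nat_lit 0xd0d0f150e01) [nat_lit 1, nat_lit 0, nat_lit 2] (BT.pln (nat_lit 0) (nat_lit 3) (BT.fix (nat_lit 1) (BT.and (nat_lit 1) (nat_lit 0) (BT.cnt (nat_lit 0)))))))) (BT.dead (nat_lit 40) (BT.frm (nat_lit 1) (nat_lit 0) (nat_lit 257) [nat_lit 0] (BT.pln (nat_lit 0) (nat_lit 4) (BT.img (nat_lit 1) (nat_lit 2) (BT.and (nat_lit 1) (nat_lit 0) (BT.cnt (nat_lit 0)))))) (BT.kid (nat_lit 176) (nat_lit 2) (BT.img (nat_lit 1) (nat_lit 0) (BT.img (nat_lit 1) (nat_lit 0) (BT.frm (nat_lit 2) (nat_lit 857358) (nat_lit 857358) [nat_lit 1, nat_lit 0, nat_lit 2] (BT.pln (nat_lit 0) (nat_lit 8) (BT.and (nat_lit 5) (nat_lit 0) (BT.pln (nat_lit 2) (nat_lit 3) (BT.and (nat_lit 1)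 (nat_lit 0) (BT.br (nat_lit 0) (nat_lit 1) [] (BT.dead (nat_lit 158) (BT.frm (nat_lit 3) (nat_lit 857358) (nat_lit 0x170d150e) [nat_lit 0, nat_lit 7, nat_lit 6, nat_lit 8] (BT.pln (nat_lit 0) (nat_lit 7) (BT.fix (nat_lit 1) (BT.and (nat_lit 1) (nat_lit 0) (BT.cnt (nat_lit 0)))))) (BT.kid (nat_lit 1) (nat_lit 2) (BT.dif (nat_lit 13) (nat_lit 2) (BT.pln (nat_lit 6) (nat_lit 4) (BT.dif (nat_lit 1) (nat_lit 0) (BT.pln (nat_lit 8) (nat_lit 5) (BT.dif (nat_lit 1) (nat_lit 0) (BT.pln (nat_lit 10) (nat_lit 6) (BT.dif (nat_lit 1) (nat_lit 0) (BT.pln (nat_lit 12) (nat_lit 7) (BT.dif (nat_lit 1) (nat_lit 0) (BT.pln (nat_lit 19) (nat_lit 1) (BT.dif (nat_lit 1) (nat_lit 0) (BT.dif (nat_lit 0) (nat_lit 20) (BT.pln (nat_lit 22) (nat_lit 3) (BT.dif (nat_lit 1) (nat_lit 0) (BT.frm (nat_lit 3) (nat_lit 857358) (nat_lit 857358) [nat_lit 14, nat_lit 21, nat_lit 20, nat_lit 22] (BT.pln (nat_lit 0) (nat_lit 5) (BT.dif (nat_lit 2) (nat_lit 0) (BT.br (nat_lit 0) (nat_lit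 141) [nat_lit 3] (BT.kid (nat_lit 141) (nat_lit 1) (BT.one (nat_lit 4) (nat_lit 0x130d150e) (nat_lit 0x130d150e) [nat_lit 0, nat_lit 18, nat_lit 25, nat_lit 24, nat_lit 26]) BT.nil))))))))))))))))))) BT.nil)))))))))) BT.nil))))))

theorem tt_c42_cnt : Cnt 276 (grp 276 ht_c2_K) [g653] [g653] 0 0 0 0 16 :=
  BT.sound tt_c42_cnt_P Known.nil (t := tt_c42_cnt_t) (d := 0) (by decide +kernel)

theorem tt_c42_ge : 16 ≤ Nat.card (grp 276 tt_c42_K) :=
  Ch.le_card_grp (k := 9) (L := (lab 276 9)) hn tt_c42_K_ok (c := (Ch.cons (nat_lit 176) [nat_lit 1] (Ch.cons (nat_lit 141) [nat_lit 3] Ch.nil))) (by decide +kernel)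

theorem tt_c42_eq : (grp 276 ht_c2_K) ⊓ Subgroup.centralizer {Net.toPerm 276 g653} = grp 276 tt_c42_K :=
  cent_eq tt_c42_sym tt_c42_cnt tt_c42_ge

theorem tt_c42_card : Nat.card ↥((grp 276 ht_c2_K) ⊓ Subgroup.centralizer {Net.toPerm 276 g653}) = 16 :=
  card_cent tt_c42_sym tt_c42_cnt tt_c42_ge

theorem tt_c42_ord : orderOf (Net.toPerm 276 g653) = 8 :=
  orderOf_net hn hk g653_ok (by decide) (ps := [2]) (by set_option linter.unusedSimpArgs false in simp [Nat.primeFactorsList_ofNat]) (by decide +kernel)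

theorem le661 : grp 276 tt_c43_K ≤ grp 276 ht_c2_K :=
  grp_le_of_memB hn hk ht_c2_K_ok tt_c43_K_ok (ws := [nat_lit 0xb0703060103, nat_lit 0x90306010307, nat_lit 0x9010101, nat_lit 11]) (by decide +kernel)

theorem tt_c43_le : grp 276 tt_c43_K ≤ (grp 276 ht_c2_K) :=
  (le661.trans TT_s0.le)

theorem tt_c43_mem : Net.toPerm 276 g659 ∈ (grp 276 ht_c2_K) :=
  tt_c43_le (toPerm_mem_grp (E := tt_c43_K) (List.Mem.tail _ (List.Mem.head _)))

theorem tt_c43_sym : Sym 276 (grp 276 ht_c2_K) [g659] tt_c43_K 0 :=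
  Sym.of_lab hn hk (okE_cons.2 ⟨g659_ok, okE_nil _⟩) tt_c43_K_ok tt_c43_le (kT := 0) (by decide +kernel)

noncomputable def tt_c43_cnt_L : List ℕ := [0, 4, TT_s0_O, 0, 0, 1, 8, TT_s7_O, 0, 0, 2, 19, TT_s8_O, 0, 0, 3, 9, TT_s9_O, 0, 0, 4, 11, TT_s10_O, 0, 0, 6, 10, TT_s12_O, 1, 0]

theorem tt_c43_cnt_P : Prob 276 9 (grp 276 ht_c2_K) tt_c43_cnt_EG [g659] [g659] tt_c43_K tt_c43_cnt_L 0 0 :=
  Sym.prob hn hk tt_c43_sym tt_c43_cnt_EG_ok (grp_cons_le g124_TT (grp_cons_le g125_TT (grp_cons_le g126_TT (grp_cons_le g127_TT (grp_cons_le n_k3_TT (grp_cons_le n_t_TT (grp_nil_le _))))))) (Frames.cons TT_s0_F (Frames.cons TT_s7_F (Frames.cons TT_s8_F (Frames.cons TT_s9_F (Frames.cons TT_s10_F (Frames.cons TT_s12_F Frames.nil)))))) (okE_cons.2 ⟨g659_ok, okE_nil _⟩) _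

noncomputable def tt_c43_cnt_t : BT := (BT.frm (nat_lit 0) (nat_lit 0) (nat_lit 0) [] (BT.pln (nat_lit 0) (nat_lit 1) (BT.fix (nat_lit 1) (BT.and (nat_lit 1) (nat_lit 0) (BT.br (nat_lit 0) (nat_lit 256) [nat_lit 1] (BT.kid (nat_lit 256) (nat_lit 8) (BT.frm (nat_lit 1) (nat_lit 65796) (nat_lit 65796) [nat_lit 0] (BT.pln (nat_lit 0) (nat_lit 6) (BT.and (nat_lit 5) (nat_lit 0) (BT.br (nat_lit 0) (nat_lit 264) [nat_lit 3] (BT.dead (nat_lit 262) (BT.dif (nat_lit 7) (nat_lit 2) (BT.frm (nat_lit 2) (nat_lit 0x4010104) (nat_lit 0x3010104) [nat_lit 1, nat_lit 5] (BT.pln (nat_lit 0) (nat_lit 14) (BT.and (nat_lit 2) (nat_lit 0) (BT.pln (nat_lit 2) (nat_lit 12) (BT.and (nat_lit 12) (nat_lit 0) (BT.img (nat_lit 1) (nat_lit 0) (BT.dif (nat_lit 3) (nat_lit 0) (BT.img (nat_lit 1) (nat_lit 8) (BT.frm (nat_lit 3) (nat_lit 0x50504010104) (nat_lit 0x3010104) [nat_lit 0, nat_lit 9, nat_lit 13] (BT.pln (nat_lit 0) (nat_lit 4) (BT.and (nat_lit 3) (nat_lit 0) (BT.br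 (nat_lit 0) (nat_lit 137) [nat_lit 5] (BT.dead (nat_lit 33) (BT.pln (nat_lit 21) (nat_lit 2) (BT.and (nat_lit 0) (nat_lit 3) (BT.pln (nat_lit 5) (nat_lit 5) (BT.and (nat_lit 1) (nat_lit 0) (BT.frm (nat_lit 4) (nat_lit 0x50504010104) (nat_lit 0x3010104) [nat_lit 4, nat_lit 8, nat_lit 17, nat_lit 21] (BT.pln (nat_lit 0) (nat_lit 4) (BT.and (nat_lit 2) (nat_lit 0) (BT.pln (nat_lit 2) (nat_lit 7) (BT.dif (nat_lit 7) (nat_lit 0) (BT.pln (nat_lit 4) (nat_lit 5) (BT.and (nat_lit 1) (nat_lit 0) (BT.img (nat_lit 1) (nat_lit 0) (BT.dif (nat_lit 5) (nat_lit 0) (BT.br (nat_lit 0) (nat_lit 237) [nat_lit 7] (BT.dead (nat_lit 23) (BT.dif (nat_lit 21) (nat_lit 20) (BT.dif (nat_lit 0) (nat_lit 12) (BT.and (nat_lit 36) (nat_lit 26) (BT.dif (nat_lit 0) (nat_lit 17) (BT.and (nat_lit 0) (nat_lit 20) (BT.dif (nat_lit 0) (nat_lit 16) (BT.and (nat_lit 0) (nat_lit 14) (BT.img (nat_lit 1) (nat_lit 0) (BT.and (nat_lit 6) (nat_lit 0) (BT.frm (nat_lit 5) (nat_lit 0x50504010104)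 (nat_lit 0x3010104) [nat_lit 9, nat_lit 0, nat_lit 23, nat_lit 27, nat_lit 36, nat_lit 40] (BT.pln (nat_lit 0) (nat_lit 6) (BT.img (nat_lit 1) (nat_lit 11) (BT.img (nat_lit 1) (nat_lit 0) (BT.img (nat_lit 1) (nat_lit 0) (BT.and (nat_lit 3) (nat_lit 0) (BT.cnt (nat_lit 0))))))))))))))))) BT.nil))))))))))))))) BT.nil)))))))))))))) (BT.dead (nat_lit 72) (BT.frm (nat_lit 2) (nat_lit 0x4010104) (nat_lit 0x303010104) [nat_lit 0, nat_lit 4] (BT.pln (nat_lit 0) (nat_lit 15) (BT.img (nat_lit 1) (nat_lit 2) (BT.and (nat_lit 1) (nat_lit 0) (BT.cnt (nat_lit 0)))))) (BT.kid (nat_lit 264) (nat_lit 4) (BT.dif (nat_lit 7) (nat_lit 2) (BT.frm (nat_lit 2) (nat_lit 0x4010104) (nat_lit 0x4010104) [nat_lit 1, nat_lit 5] (BT.pln (nat_lit 0) (nat_lit 14) (BT.and (nat_lit 2) (nat_lit 0) (BT.pln (nat_lit 2) (nat_lit 12) (BT.and (nat_lit 12) (nat_lit 0) (BT.img (nat_lit 1) (nat_lit 0) (BT.dif (nat_lit 3) (nat_lit 0) (BT.img (nat_lit 1) (nat_lit 8) (BT.frm (nat_lit 3) (nat_lit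 0x50504010104) (nat_lit 0x50504010104) [nat_lit 0, nat_lit 9, nat_lit 13] (BT.pln (nat_lit 0) (nat_lit 4) (BT.and (nat_lit 3) (nat_lit 0) (BT.br (nat_lit 0) (nat_lit 137) [nat_lit 5] (BT.kid (nat_lit 137) (nat_lit 2) (BT.pln (nat_lit 21) (nat_lit 2) (BT.and (nat_lit 0) (nat_lit 3) (BT.pln (nat_lit 5) (nat_lit 5) (BT.and (nat_lit 1) (nat_lit 0) (BT.frm (nat_lit 4) (nat_lit 0x50504010104) (nat_lit 0x50504010104) [nat_lit 4, nat_lit 8, nat_lit 17, nat_lit 21] (BT.pln (nat_lit 0) (nat_lit 4) (BT.and (nat_lit 2) (nat_lit 0) (BT.pln (nat_lit 2) (nat_lit 7) (BT.dif (nat_lit 7) (nat_lit 0) (BT.pln (nat_lit 4) (nat_lit 5) (BT.and (nat_lit 1) (nat_lit 0) (BT.img (nat_lit 1) (nat_lit 0) (BT.dif (nat_lit 5) (nat_lit 0) (BT.br (nat_lit 0) (nat_lit 237) [nat_lit 7] (BT.kid (nat_lit 237) (nat_lit 1) (BT.dif (nat_lit 21) (nat_lit 20) (BT.dif (nat_lit 0) (nat_lit 12) (BT.and (nat_lit 36) (nat_lit 26) (BT.dif (nat_lit 0) (nat_lit 17) (BT.and (nat_lit 0) (nat_lit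 20) (BT.dif (nat_lit 0) (nat_lit 16) (BT.and (nat_lit 0) (nat_lit 14) (BT.img (nat_lit 1) (nat_lit 0) (BT.and (nat_lit 6) (nat_lit 0) (BT.one (nat_lit 5) (nat_lit 0x50504010104) (nat_lit 0x50504010104) [nat_lit 9, nat_lit 0, nat_lit 23, nat_lit 27, nat_lit 36, nat_lit 40])))))))))) BT.nil))))))))))))))) BT.nil)))))))))))))) BT.nil))))))) BT.nil))))))

theorem tt_c43_cnt : Cnt 276 (grp 276 ht_c2_K) [g659] [g659] 0 0 0 0 16 :=
  BT.sound tt_c43_cnt_P Known.nil (t := tt_c43_cnt_t) (d := 0) (by decide +kernel)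

theorem tt_c43_ge : 16 ≤ Nat.card (grp 276 tt_c43_K) :=
  Ch.le_card_grp (k := 9) (L := (lab 276 9)) hn tt_c43_K_ok (c := (Ch.cons (nat_lit 256) [nat_lit 1] (Ch.cons (nat_lit 264) [nat_lit 3] (Ch.cons (nat_lit 137) [nat_lit 5] (Ch.cons (nat_lit 237) [nat_lit 7] Ch.nil))))) (by decide +kernel)

theorem tt_c43_eq : (grp 276 ht_c2_K) ⊓ Subgroup.centralizer {Net.toPerm 276 g659} = grp 276 tt_c43_K :=
  cent_eq tt_c43_sym tt_c43_cnt tt_c43_ge

theorem tt_c43_card : Nat.card ↥((grp 276 ht_c2_K) ⊓ Subgroup.centralizer {Net.toPerm 276 g659}) = 16 :=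
  card_cent tt_c43_sym tt_c43_cnt tt_c43_ge

theorem tt_c43_ord : orderOf (Net.toPerm 276 g659) = 8 :=
  orderOf_net hn hk g659_ok (by decide) (ps := [2]) (by set_option linter.unusedSimpArgs false in simp [Nat.primeFactorsList_ofNat]) (by decide +kernel)

theorem le663 : grp 276 tt_c44_K ≤ grp 276 ht_c2_K :=
  grp_le_of_memB hn hk ht_c2_K_ok tt_c44_K_ok (ws := [nat_lit 0xb04020302, nat_lit 0x6030302]) (by decide +kernel)

theorem tt_c44_le : grp 276 tt_c44_K ≤ (grp 276 ht_c2_K) :=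
  (le663.trans TT_s0.le)

theorem tt_c44_mem : Net.toPerm 276 g662 ∈ (grp 276 ht_c2_K) :=
  tt_c44_le (toPerm_mem_grp (E := tt_c44_K) (List.Mem.tail _ (List.Mem.head _)))

theorem tt_c44_sym : Sym 276 (grp 276 ht_c2_K) [g662] tt_c44_K 0 :=
  Sym.of_lab hn hk (okE_cons.2 ⟨g662_ok, okE_nil _⟩) tt_c44_K_ok tt_c44_le (kT := 0) (by decide +kernel)

theorem le665 : grp 276 V664 ≤ grp 276 V460 :=
  grp_le_of_memB hn hk V460_ok V664_ok (ws := []) (by decide +kernel)

theorem TT_s53 : Stab 276 (grp 276 ht_c2_K) [nat_lit 76, nat_lit 152, nat_lit 176] V664 1 :=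
  Stab.step (k := 9) (L := (lab 276 9)) hn TT_s13 V664_ok le665 (c := Ch.nil) (by decide +kernel)

noncomputable def TT_s53_O : ℕ := (nat_lit 0x9993333366666ccccc99999b3333666664ccccd9999b3333266666ccccd9999933332c1f07c1f07c1f07c0f83e0f83e0f83e0f81f07c1f07c1f07c1f03e0f83e0f83e0f83e7319cc63398ce7319cc63398ce7319ce63398c67319ce63398c67319ce63398c6731826d926c93649b24db26d936c9b649b24d926d936c9b64db24d926c93649b64db26d92000000000000000000000000100000000000000000000000000000000000000000000000000000000000000000000000000100000000000000000000000000000000000000000000000000000000000000000000000000000000000000010000000000000000000)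

theorem TT_s53_F : Frame 276 (grp 276 ht_c2_K) 3 7 TT_s53_O 1 1 :=
  IsBase.frame TT_s53.isBase (by decide +kernel)

noncomputable def tt_c44_cnt_L : List ℕ := [0, 4, TT_s0_O, 0, 0, 2, 8, TT_s13_O, 0, 0, 3, 7, TT_s53_O, 1, 0]

theorem tt_c44_cnt_P : Prob 276 9 (grp 276 ht_c2_K) tt_c44_cnt_EG [g662] [g662] tt_c44_K tt_c44_cnt_L 0 0 :=
  Sym.prob hn hk tt_c44_sym tt_c44_cnt_EG_ok (grp_cons_le g414_TT (grp_cons_le g419_TT (grp_cons_le g420_TT (grp_cons_le g417_TT (grp_cons_le n_u_TT (grp_cons_le g124_TT (grp_cons_le g125_TT (grp_cons_le g126_TT (grp_cons_le g127_TT (grp_cons_le n_k3_TT (grp_cons_le n_t_TT (grp_cons_le g458_TT (grp_cons_le g459_TT (grp_nil_le _)))))))))))))) (Frames.cons TT_s0_F (Frames.cons TT_s13_F (Frames.cons TT_s53_F Frames.nil))) (okE_cons.2 ⟨g662_ok, okE_nil _⟩) _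

noncomputable def tt_c44_cnt_t : BT := (BT.frm (nat_lit 0) (nat_lit 0) (nat_lit 0) [] (BT.pln (nat_lit 0) (nat_lit 0) (BT.fix (nat_lit 1) (BT.and (nat_lit 1) (nat_lit 0) (BT.br (nat_lit 0) (nat_lit 116) [nat_lit 1] (BT.kid (nat_lit 116) (nat_lit 8) (BT.pln (nat_lit 4) (nat_lit 1) (BT.br (nat_lit 0) (nat_lit 256) [nat_lit 3] (BT.dead (nat_lit 265) (BT.frm (nat_lit 1) (nat_lit 527121) (nat_lit 0x4050b11) [nat_lit 0, nat_lit 2] (BT.pln (nat_lit 0) (nat_lit 2) (BT.img (nat_lit 1) (nat_lit 2) (BT.and (nat_lit 1) (nat_lit 0) (BT.cnt (nat_lit 0)))))) (BT.dead (nat_lit 33) (BT.frm (nat_lit 1) (nat_lit 527121) (nat_lit 0x1080b11) [nat_lit 0, nat_lit 2] (BT.pln (nat_lit 0) (nat_lit 2) (BT.img (nat_lit 1) (nat_lit 2) (BT.and (nat_lit 1) (nat_lit 0) (BT.cnt (nat_lit 0)))))) (BT.kid (nat_lit 256) (nat_lit 1) (BT.pln (nat_lit 6) (nat_lit 2) (BT.frm (nat_lit 1) (nat_lit 527121) (nat_lit 527121) [nat_lit 1, nat_lit 3] (BT.pln (nat_lit 0) (nat_lit 2) (BT.and (nat_lit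 2) (nat_lit 0) (BT.pln (nat_lit 2) (nat_lit 5) (BT.and (nat_lit 1) (nat_lit 0) (BT.pln (nat_lit 4) (nat_lit 3) (BT.dif (nat_lit 6) (nat_lit 0) (BT.pln (nat_lit 6) (nat_lit 4) (BT.and (nat_lit 8) (nat_lit 0) (BT.dif (nat_lit 0) (nat_lit 5) (BT.img (nat_lit 1) (nat_lit 5) (BT.and (nat_lit 1) (nat_lit 0) (BT.img (nat_lit 1) (nat_lit 0) (BT.and (nat_lit 6) (nat_lit 0) (BT.img (nat_lit 1) (nat_lit 0) (BT.and (nat_lit 10) (nat_lit 0) (BT.one (nat_lit 2) (nat_lit 0x1717080b11) (nat_lit 0x1717080b11) [nat_lit 0, nat_lit 17, nat_lit 19])))))))))))))))))) BT.nil))))) BT.nil))))))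

theorem tt_c44_cnt : Cnt 276 (grp 276 ht_c2_K) [g662] [g662] 0 0 0 0 16 :=
  BT.sound tt_c44_cnt_P Known.nil (t := tt_c44_cnt_t) (d := 0) (by decide +kernel)

theorem tt_c44_ge : 16 ≤ Nat.card (grp 276 tt_c44_K) :=
  Ch.le_card_grp (k := 9) (L := (lab 276 9)) hn tt_c44_K_ok (c := (Ch.cons (nat_lit 116) [nat_lit 1] (Ch.cons (nat_lit 256) [nat_lit 3] Ch.nil))) (by decide +kernel)

theorem tt_c44_eq : (grp 276 ht_c2_K) ⊓ Subgroup.centralizer {Net.toPerm 276 g662} = grp 276 tt_c44_K :=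
  cent_eq tt_c44_sym tt_c44_cnt tt_c44_ge

theorem tt_c44_card : Nat.card ↥((grp 276 ht_c2_K) ⊓ Subgroup.centralizer {Net.toPerm 276 g662}) = 16 :=
  card_cent tt_c44_sym tt_c44_cnt tt_c44_ge

theorem tt_c44_ord : orderOf (Net.toPerm 276 g662) = 8 :=
  orderOf_net hn hk g662_ok (by decide) (ps := [2]) (by set_option linter.unusedSimpArgs false in simp [Nat.primeFactorsList_ofNat]) (by decide +kernel)

theorem le668 : grp 276 tt_c45_K ≤ grp 276 ht_c2_K :=
  grp_le_of_memB hn hk ht_c2_K_ok tt_c45_K_ok (ws := [nat_lit 0x7060305020402, nat_lit 2823, nat_lit 11]) (by decide +kernel)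

theorem tt_c45_le : grp 276 tt_c45_K ≤ (grp 276 ht_c2_K) :=
  (le668.trans TT_s0.le)

theorem tt_c45_mem : Net.toPerm 276 g666 ∈ (grp 276 ht_c2_K) :=
  tt_c45_le (toPerm_mem_grp (E := tt_c45_K) (List.Mem.head _))

theorem tt_c45_sym : Sym 276 (grp 276 ht_c2_K) [g666] tt_c45_K 0 :=
  Sym.of_lab hn hk (okE_cons.2 ⟨g666_ok, okE_nil _⟩) tt_c45_K_ok tt_c45_le (kT := 0) (by decide +kernel)

noncomputable def tt_c45_cnt_L : List ℕ := [0, 4, TT_s0_O, 0, 0, 2, 19, TT_s8_O, 0, 0, 3, 9, TT_s9_O, 0, 0, 4, 11, TT_s10_O, 0, 0, 5, 9, TT_s28_O, 1, 0]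

theorem tt_c45_cnt_P : Prob 276 9 (grp 276 ht_c2_K) tt_c45_cnt_EG [g666] [g666] tt_c45_K tt_c45_cnt_L 0 0 :=
  Sym.prob hn hk tt_c45_sym tt_c45_cnt_EG_ok (grp_cons_le g125_TT (grp_cons_le g126_TT (grp_cons_le g127_TT (grp_cons_le n_k3_TT (grp_cons_le n_t_TT (grp_cons_le g124_TT (grp_nil_le _))))))) (Frames.cons TT_s0_F (Frames.cons TT_s8_F (Frames.cons TT_s9_F (Frames.cons TT_s10_F (Frames.cons TT_s28_F Frames.nil))))) (okE_cons.2 ⟨g666_ok, okE_nil _⟩) _

noncomputable def tt_c45_cnt_t : BT := (BT.frm (nat_lit 0) (nat_lit 0) (nat_lit 0) [] (BT.pln (nat_lit 0) (nat_lit 1) (BT.fix (nat_lit 65793) (BT.dif (nat_lit 1) (nat_lit 0) (BT.fix (nat_lit 257) (BT.dif (nat_lit 1) (nat_lit 0) (BT.br (nat_lit 0) (nat_lit 33) [nat_lit 1] (BT.kid (nat_lit 33) (nat_lit 4) (BT.dif (nat_lit 4) (nat_lit 2) (BT.img (nat_lit 1) (nat_lit 1) (BT.frm (nat_lit 1) (nat_lit 0) (nat_lit 0) [nat_lit 0, nat_lit 2] (BT.pln (nat_lit 0) (nat_lit 12) (BT.dif (nat_lit 3) (nat_lit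 0) (BT.img (nat_lit 1) (nat_lit 3) (BT.frm (nat_lit 2) (nat_lit 3) (nat_lit 3) [nat_lit 0, nat_lit 4, nat_lit 6] (BT.pln (nat_lit 0) (nat_lit 4) (BT.and (nat_lit 3) (nat_lit 0) (BT.br (nat_lit 0) (nat_lit 262) [nat_lit 3] (BT.kid (nat_lit 262) (nat_lit 2) (BT.dif (nat_lit 19) (nat_lit 2) (BT.pln (nat_lit 4) (nat_lit 7) (BT.and (nat_lit 1) (nat_lit 0) (BT.pln (nat_lit 6) (nat_lit 3) (BT.dif (nat_lit 1) (nat_lit 0) (BT.pln (nat_lit 21) (nat_lit 0) (BT.dif (nat_lit 1) (nat_lit 0) (BT.pln (nat_lit 10) (nat_lit 6) (BT.dif (nat_lit 1) (nat_lit 0) (BT.frm (nat_lit 3) (nat_lit 1283) (nat_lit 1283) [nat_lit 9, nat_lit 13, nat_lit 17, nat_lit 19] (BT.pln (nat_lit 0) (nat_lit 6) (BT.dif (nat_lit 2) (nat_lit 0) (BT.br (nat_lit 0) (nat_lit 222) [nat_lit 5] (BT.dead (nat_lit 43) (BT.frm (nat_lit 4) (nat_lit 460035) (nat_lit 591107) [nat_lit 0, nat_lit 13, nat_lit 17, nat_lit 21, nat_lit 23] (BT.pln (nat_lit 0) (nat_lit 6) (BT.img (nat_lit 1) (nat_lit 2) (BT.and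 (nat_lit 1) (nat_lit 0) (BT.cnt (nat_lit 0)))))) (BT.kid (nat_lit 222) (nat_lit 1) (BT.one (nat_lit 4) (nat_lit 460035) (nat_lit 460035) [nat_lit 0, nat_lit 13, nat_lit 17, nat_lit 21, nat_lit 23]) BT.nil))))))))))))))) BT.nil))))))))))) BT.nil))))))))

theorem tt_c45_cnt : Cnt 276 (grp 276 ht_c2_K) [g666] [g666] 0 0 0 0 24 :=
  BT.sound tt_c45_cnt_P Known.nil (t := tt_c45_cnt_t) (d := 0) (by decide +kernel)

theorem tt_c45_ge : 24 ≤ Nat.card (grp 276 tt_c45_K) :=
  Ch.le_card_grp (k := 9) (L := (lab 276 9)) hn tt_c45_K_ok (c := (Ch.cons (nat_lit 33) [nat_lit 1] (Ch.cons (nat_lit 262) [nat_lit 3] (Ch.cons (nat_lit 222) [nat_lit 5] Ch.nil)))) (by decide +kernel)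

theorem tt_c45_eq : (grp 276 ht_c2_K) ⊓ Subgroup.centralizer {Net.toPerm 276 g666} = grp 276 tt_c45_K :=
  cent_eq tt_c45_sym tt_c45_cnt tt_c45_ge

theorem tt_c45_card : Nat.card ↥((grp 276 ht_c2_K) ⊓ Subgroup.centralizer {Net.toPerm 276 g666}) = 24 :=
  card_cent tt_c45_sym tt_c45_cnt tt_c45_ge

theorem tt_c45_ord : orderOf (Net.toPerm 276 g666) = 12 :=
  orderOf_net hn hk g666_ok (by decide) (ps := [2, 3]) (by set_option linter.unusedSimpArgs false in simp [Nat.primeFactorsList_ofNat]) (by decide +kernel)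

theorem le670 : grp 276 tt_c46_K ≤ grp 276 ht_c2_K :=
  grp_le_of_memB hn hk ht_c2_K_ok tt_c46_K_ok (ws := [nat_lit 0x907050306010301, nat_lit 0xb010101]) (by decide +kernel)

theorem tt_c46_le : grp 276 tt_c46_K ≤ (grp 276 ht_c2_K) :=
  (le670.trans TT_s0.le)

theorem tt_c46_mem : Net.toPerm 276 g669 ∈ (grp 276 ht_c2_K) :=
  tt_c46_le (toPerm_mem_grp (E := tt_c46_K) (List.Mem.head _))

theorem tt_c46_sym : Sym 276 (grp 276 ht_c2_K) [g669] tt_c46_K 0 :=
  Sym.of_lab hn hk (okE_cons.2 ⟨g669_ok, okE_nil _⟩) tt_c46_K_ok tt_c46_le (kT := 0) (by decide +kernel)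

noncomputable def TT_s35_O : ℕ := (nat_lit 0x149c4003242e4dc3295117300891a760248c0f159094d008508435000050180001002b120c1948a59a08142bc48c504a4488b1862906964482e369e7340fbb12ce1fe00000c12388d5dac03302a4818d25236acc2fea2390487b43e8848190e9c5f95ada01ffc02c9fc06a419d4cc37ecc5619c0e1a9983afff6df41b1263a2079969f1304625e1d83a02be09c0372c2cf4e5e39fa60856cd51a4cbf66b85847301e75d6aad9071e3399863185f8a56e027cca74698f6fe0f223f879d798898a6902dee9c0b40d9e823b6a15535a94000000000000000000000000100000000000000000000000000000000000000000000000000000000000000000000000000000000000000000001000000000000000000000000020000000000000000000000000000000000000000000000000000000000000000)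

theorem TT_s35_F : Frame 276 (grp 276 ht_c2_K) 3 9 TT_s35_O 0 1 :=
  Stab.frame hn TT_s35 (by decide +kernel)

noncomputable def tt_c46_cnt_L : List ℕ := [0, 4, TT_s0_O, 0, 0, 1, 8, TT_s1_O, 0, 0, 2, 7, TT_s34_O, 0, 0, 3, 9, TT_s35_O, 0, 0, 5, 9, TT_s37_O, 1, 0]

theorem tt_c46_cnt_P : Prob 276 9 (grp 276 ht_c2_K) tt_c46_cnt_EG [g669] [g669] tt_c46_K tt_c46_cnt_L 0 0 :=
  Sym.prob hn hk tt_c46_sym tt_c46_cnt_EG_ok (grp_cons_le g124_TT (grp_cons_le g125_TT (grp_cons_le g126_TT (grp_cons_le g127_TT (grp_cons_le n_k3_TT (grp_cons_le n_t_TT (grp_cons_le g414_TT (grp_cons_le g419_TT (grp_cons_le g420_TT (grp_cons_le g417_TT (grp_cons_le n_u_TT (grp_cons_le g575_TT (grp_cons_le n_y_TT (grp_nil_le _)))))))))))))) (Frames.cons TT_s0_F (Frames.cons TT_s1_F (Frames.cons TT_s34_F (Frames.cons TT_s35_F (Frames.cons TT_s37_F Frames.nil))))) (okE_cons.2 ⟨g669_ok, okE_nil _⟩) _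

noncomputable def tt_c46_cnt_t : BT := (BT.frm (nat_lit 0) (nat_lit 0) (nat_lit 0) [] (BT.pln (nat_lit 0) (nat_lit 0) (BT.br (nat_lit 0) (nat_lit 176) [nat_lit 1] (BT.dead (nat_lit 145) (BT.img (nat_lit 1) (nat_lit 0) (BT.frm (nat_lit 2) (nat_lit 855311) (nat_lit 0x101301) [nat_lit 0, nat_lit 1] (BT.pln (nat_lit 0) (nat_lit 3) (BT.fix (nat_lit 1) (BT.and (nat_lit 1) (nat_lit 0) (BT.cnt (nat_lit 0))))))) (BT.kid (nat_lit 176) (nat_lit 2) (BT.frm (nat_lit 1) (nat_lit 0) (nat_lit 0) [nat_lit 0] (BT.pln (nat_lit 0) (nat_lit 1) (BT.dif (nat_lit 7) (nat_lit 0) (BT.pln (nat_lit 5) (nat_lit 1) (BT.dif (nat_lit 1) (nat_lit 0) (BT.dif (nat_lit 0) (nat_lit 6) (BT.pln (nat_lit 8) (nat_lit 2) (BT.dif (nat_lit 1) (nat_lit 0) (BT.img (nat_lit 1) (nat_lit 6) (BT.dif (nat_lit 1) (nat_lit 0) (BT.pln (nat_lit 12) (nat_lit 3) (BT.dif (nat_lit 1) (nat_lit 0) (BT.img (nat_lit 1) (nat_lit 12) (BT.frm (nat_lit 2) (nat_lit 855311) (nat_lit 855311) [nat_lit 0, nat_lit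 13] (BT.pln (nat_lit 0) (nat_lit 2) (BT.dif (nat_lit 3) (nat_lit 0) (BT.pln (nat_lit 2) (nat_lit 4) (BT.dif (nat_lit 1) (nat_lit 0) (BT.dif (nat_lit 9) (nat_lit 16) (BT.and (nat_lit 17) (nat_lit 10) (BT.img (nat_lit 1) (nat_lit 0) (BT.dif (nat_lit 2) (nat_lit 0) (BT.img (nat_lit 1) (nat_lit 0) (BT.and (nat_lit 5) (nat_lit 0) (BT.and (nat_lit 25) (nat_lit 9) (BT.pln (nat_lit 11) (nat_lit 3) (BT.and (nat_lit 1) (nat_lit 0) (BT.dif (nat_lit 0) (nat_lit 10) (BT.pln (nat_lit 14) (nat_lit 5) (BT.dif (nat_lit 4) (nat_lit 0) (BT.img (nat_lit 1) (nat_lit 17) (BT.img (nat_lit 1) (nat_lit 0) (BT.and (nat_lit 33) (nat_lit 0) (BT.img (nat_lit 1) (nat_lit 0) (BT.dif (nat_lit 4) (nat_lit 0) (BT.img (nat_lit 1) (nat_lit 0) (BT.dif (nat_lit 8) (nat_lit 0) (BT.frm (nat_lit 3) (nat_lit 855311) (nat_lit 855311) [nat_lit 0, nat_lit 24, nat_lit 37] (BT.pln (nat_lit 0) (nat_lit 3) (BT.dif (nat_lit 15) (nat_lit 0) (BT.br (nat_lit 0) (nat_lit 57) [nat_lit 3] (BT.kid (nat_lit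 57) (nat_lit 1) (BT.and (nat_lit 42) (nat_lit 7) (BT.img (nat_lit 1) (nat_lit 0) (BT.and (nat_lit 44) (nat_lit 0) (BT.img (nat_lit 1) (nat_lit 0) (BT.and (nat_lit 46) (nat_lit 0) (BT.img (nat_lit 1) (nat_lit 0) (BT.and (nat_lit 48) (nat_lit 0) (BT.img (nat_lit 1) (nat_lit 0) (BT.and (nat_lit 50) (nat_lit 0) (BT.img (nat_lit 1) (nat_lit 0) (BT.and (nat_lit 52) (nat_lit 0) (BT.one (nat_lit 4) (nat_lit 0x150d0d0f) (nat_lit 0x150d0d0f) [nat_lit 11, nat_lit 0, nat_lit 15, nat_lit 39, nat_lit 52])))))))))))) BT.nil)))))))))))))))))))))))))))))))))))))))))) BT.nil)))))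

theorem tt_c46_cnt : Cnt 276 (grp 276 ht_c2_K) [g669] [g669] 0 0 0 0 24 :=
  BT.sound tt_c46_cnt_P Known.nil (t := tt_c46_cnt_t) (d := 0) (by decide +kernel)

theorem tt_c46_ge : 24 ≤ Nat.card (grp 276 tt_c46_K) :=
  Ch.le_card_grp (k := 9) (L := (lab 276 9)) hn tt_c46_K_ok (c := (Ch.cons (nat_lit 176) [nat_lit 1] (Ch.cons (nat_lit 57) [nat_lit 3] Ch.nil))) (by decide +kernel)

theorem tt_c46_eq : (grp 276 ht_c2_K) ⊓ Subgroup.centralizer {Net.toPerm 276 g669} = grp 276 tt_c46_K :=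
  cent_eq tt_c46_sym tt_c46_cnt tt_c46_ge

theorem tt_c46_card : Nat.card ↥((grp 276 ht_c2_K) ⊓ Subgroup.centralizer {Net.toPerm 276 g669}) = 24 :=
  card_cent tt_c46_sym tt_c46_cnt tt_c46_ge

theorem tt_c46_ord : orderOf (Net.toPerm 276 g669) = 12 :=
  orderOf_net hn hk g669_ok (by decide) (ps := [2, 3]) (by set_option linter.unusedSimpArgs false in simp [Nat.primeFactorsList_ofNat]) (by decide +kernel)

theorem le672 : grp 276 tt_c47_K ≤ grp 276 ht_c2_K :=
  grp_le_of_memB hn hk ht_c2_K_ok tt_c47_K_ok (ws := [nat_lit 0xb09060305010105, nat_lit 0x6020502, nat_lit 0xb010101]) (by decide +kernel)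

theorem tt_c47_le : grp 276 tt_c47_K ≤ (grp 276 ht_c2_K) :=
  (le672.trans TT_s0.le)

theorem tt_c47_mem : Net.toPerm 276 g671 ∈ (grp 276 ht_c2_K) :=
  tt_c47_le (toPerm_mem_grp (E := tt_c47_K) (List.Mem.head _))

theorem tt_c47_sym : Sym 276 (grp 276 ht_c2_K) [g671] tt_c47_K 0 :=
  Sym.of_lab hn hk (okE_cons.2 ⟨g671_ok, okE_nil _⟩) tt_c47_K_ok tt_c47_le (kT := 0) (by decide +kernel)

noncomputable def tt_c47_cnt_L : List ℕ := [0, 4, TT_s0_O, 0, 0, 3, 9, TT_s3_O, 0, 0, 4, 11, TT_s4_O, 0, 0, 5, 9, TT_s29_O, 1, 0]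

theorem tt_c47_cnt_P : Prob 276 9 (grp 276 ht_c2_K) tt_c47_cnt_EG [g671] [g671] tt_c47_K tt_c47_cnt_L 0 0 :=
  Sym.prob hn hk tt_c47_sym tt_c47_cnt_EG_ok (grp_cons_le g419_TT (grp_cons_le g420_TT (grp_cons_le g417_TT (grp_cons_le n_u_TT (grp_cons_le g414_TT (grp_cons_le g124_TT (grp_cons_le g125_TT (grp_cons_le g126_TT (grp_cons_le g127_TT (grp_cons_le n_k3_TT (grp_cons_le n_t_TT (grp_nil_le _)))))))))))) (Frames.cons TT_s0_F (Frames.cons TT_s3_F (Frames.cons TT_s4_F (Frames.cons TT_s29_F Frames.nil)))) (okE_cons.2 ⟨g671_ok, okE_nil _⟩) _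

noncomputable def tt_c47_cnt_t : BT := (BT.frm (nat_lit 0) (nat_lit 0) (nat_lit 0) [] (BT.pln (nat_lit 0) (nat_lit 0) (BT.fix (nat_lit 65793) (BT.dif (nat_lit 1) (nat_lit 0) (BT.fix (nat_lit 257) (BT.dif (nat_lit 1) (nat_lit 0) (BT.br (nat_lit 0) (nat_lit 200) [nat_lit 1] (BT.kid (nat_lit 200) (nat_lit 4) (BT.dif (nat_lit 4) (nat_lit 2) (BT.img (nat_lit 1) (nat_lit 1) (BT.img (nat_lit 1) (nat_lit 0) (BT.frm (nat_lit 1) (nat_lit 0x109020e) (nat_lit 0x109020e) [nat_lit 0, nat_lit 1, nat_lit 3] (BT.pln (nat_lit 0) (nat_lit 5) (BT.and (nat_lit 4) (nat_lit 0) (BT.pln (nat_lit 2) (nat_lit 3) (BT.dif (nat_lit 1) (nat_lit 0) (BT.br (nat_lit 0) (nat_lit 116) [nat_lit 3] (BT.kid (nat_lit 116) (nat_lit 2) (BT.dif (nat_lit 18) (nat_lit 2) (BT.pln (nat_lit 6) (nat_lit 4) (BT.dif (nat_lit 1) (nat_lit 0) (BT.dif (nat_lit 0) (nat_lit 7) (BT.pln (nat_lit 9) (nat_lit 6) (BT.dif (nat_lit 1) (nat_lit 0) (BT.pln (nat_lit 11) (nat_lit 7) (BT.dif (nat_lit 1) (nat_lit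 0) (BT.pln (nat_lit 23) (nat_lit 3) (BT.dif (nat_lit 1) (nat_lit 0) (BT.dif (nat_lit 0) (nat_lit 24) (BT.frm (nat_lit 2) (nat_lit 0x30109020e) (nat_lit 0x30109020e) [nat_lit 11, nat_lit 17, nat_lit 18, nat_lit 20] (BT.pln (nat_lit 0) (nat_lit 5) (BT.dif (nat_lit 2) (nat_lit 0) (BT.br (nat_lit 0) (nat_lit 245) [nat_lit 5] (BT.dead (nat_lit 177) (BT.frm (nat_lit 3) (nat_lit 0x6030109020e) (nat_lit 0x7030109020e) [nat_lit 0, nat_lit 15, nat_lit 21, nat_lit 22, nat_lit 24] (BT.pln (nat_lit 0) (nat_lit 5) (BT.img (nat_lit 1) (nat_lit 2) (BT.and (nat_lit 1) (nat_lit 0) (BT.cnt (nat_lit 0)))))) (BT.kid (nat_lit 245) (nat_lit 1) (BT.one (nat_lit 3) (nat_lit 0x6030109020e) (nat_lit 0x6030109020e) [nat_lit 0, nat_lit 15, nat_lit 21, nat_lit 22, nat_lit 24]) BT.nil))))))))))))))))) BT.nil)))))))))) BT.nil))))))))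

theorem tt_c47_cnt : Cnt 276 (grp 276 ht_c2_K) [g671] [g671] 0 0 0 0 24 :=
  BT.sound tt_c47_cnt_P Known.nil (t := tt_c47_cnt_t) (d := 0) (by decide +kernel)

theorem tt_c47_ge : 24 ≤ Nat.card (grp 276 tt_c47_K) :=
  Ch.le_card_grp (k := 9) (L := (lab 276 9)) hn tt_c47_K_ok (c := (Ch.cons (nat_lit 200) [nat_lit 1] (Ch.cons (nat_lit 116) [nat_lit 3] (Ch.cons (nat_lit 245) [nat_lit 5] Ch.nil)))) (by decide +kernel)

theorem tt_c47_eq : (grp 276 ht_c2_K) ⊓ Subgroup.centralizer {Net.toPerm 276 g671} = grp 276 tt_c47_K :=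
  cent_eq tt_c47_sym tt_c47_cnt tt_c47_ge

theorem tt_c47_card : Nat.card ↥((grp 276 ht_c2_K) ⊓ Subgroup.centralizer {Net.toPerm 276 g671}) = 24 :=
  card_cent tt_c47_sym tt_c47_cnt tt_c47_ge

theorem tt_c47_ord : orderOf (Net.toPerm 276 g671) = 12 :=
  orderOf_net hn hk g671_ok (by decide) (ps := [2, 3]) (by set_option linter.unusedSimpArgs false in simp [Nat.primeFactorsList_ofNat]) (by decide +kernel)

theorem le674 : grp 276 tt_c48_K ≤ grp 276 ht_c2_K :=
  grp_le_of_memB hn hk ht_c2_K_ok tt_c48_K_ok (ws := [nat_lit 0x904010407, nat_lit 0xb010101]) (by decide +kernel)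

theorem tt_c48_le : grp 276 tt_c48_K ≤ (grp 276 ht_c2_K) :=
  (le674.trans TT_s0.le)

theorem tt_c48_mem : Net.toPerm 276 g673 ∈ (grp 276 ht_c2_K) :=
  tt_c48_le (toPerm_mem_grp (E := tt_c48_K) (List.Mem.head _))

theorem tt_c48_sym : Sym 276 (grp 276 ht_c2_K) [g673] tt_c48_K 0 :=
  Sym.of_lab hn hk (okE_cons.2 ⟨g673_ok, okE_nil _⟩) tt_c48_K_ok tt_c48_le (kT := 0) (by decide +kernel)

noncomputable def tt_c48_cnt_L : List ℕ := [0, 4, TT_s0_O, 0, 0, 1, 8, TT_s1_O, 0, 0, 2, 7, TT_s34_O, 0, 0, 5, 9, TT_s37_O, 1, 0]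

theorem tt_c48_cnt_P : Prob 276 9 (grp 276 ht_c2_K) tt_c48_cnt_EG [g673] [g673] tt_c48_K tt_c48_cnt_L 0 0 :=
  Sym.prob hn hk tt_c48_sym tt_c48_cnt_EG_ok (grp_cons_le g124_TT (grp_cons_le g125_TT (grp_cons_le g126_TT (grp_cons_le g127_TT (grp_cons_le n_k3_TT (grp_cons_le n_t_TT (grp_cons_le g414_TT (grp_cons_le g419_TT (grp_cons_le g420_TT (grp_cons_le g417_TT (grp_cons_le n_u_TT (grp_cons_le n_y_TT (grp_cons_le g575_TT (grp_nil_le _)))))))))))))) (Frames.cons TT_s0_F (Frames.cons TT_s1_F (Frames.cons TT_s34_F (Frames.cons TT_s37_F Frames.nil)))) (okE_cons.2 ⟨g673_ok, okE_nil _⟩) _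

noncomputable def tt_c48_cnt_t : BT := (BT.frm (nat_lit 0) (nat_lit 0) (nat_lit 0) [] (BT.pln (nat_lit 0) (nat_lit 0) (BT.br (nat_lit 0) (nat_lit 176) [nat_lit 1] (BT.dead (nat_lit 75) (BT.img (nat_lit 1) (nat_lit 0) (BT.frm (nat_lit 2) (nat_lit 3343) (nat_lit 921352) [nat_lit 0, nat_lit 1] (BT.pln (nat_lit 0) (nat_lit 2) (BT.fix (nat_lit 1) (BT.and (nat_lit 1) (nat_lit 0) (BT.cnt (nat_lit 0))))))) (BT.kid (nat_lit 176) (nat_lit 2) (BT.frm (nat_lit 1) (nat_lit 0) (nat_lit 0) [nat_lit 0] (BT.pln (nat_lit 0) (nat_lit 1) (BT.dif (nat_lit 7) (nat_lit 0) (BT.pln (nat_lit 5) (nat_lit 1) (BT.dif (nat_lit 1) (nat_lit 0) (BT.dif (nat_lit 0) (nat_lit 6) (BT.pln (nat_lit 8) (nat_lit 2) (BT.dif (nat_lit 1) (nat_lit 0) (BT.img (nat_lit 1) (nat_lit 6) (BT.dif (nat_lit 1) (nat_lit 0) (BT.pln (nat_lit 12) (nat_lit 3) (BT.dif (nat_lit 1) (nat_lit 0) (BT.img (nat_lit 1) (nat_lit 12) (BT.frm (nat_lit 2) (nat_lit 3343) (nat_lit 3343) [nat_lit 0, nat_lit 13] (BT.pln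 (nat_lit 0) (nat_lit 2) (BT.dif (nat_lit 3) (nat_lit 0) (BT.pln (nat_lit 2) (nat_lit 4) (BT.dif (nat_lit 1) (nat_lit 0) (BT.dif (nat_lit 9) (nat_lit 16) (BT.dif (nat_lit 17) (nat_lit 10) (BT.img (nat_lit 1) (nat_lit 1) (BT.and (nat_lit 1) (nat_lit 0) (BT.img (nat_lit 1) (nat_lit 0) (BT.and (nat_lit 4) (nat_lit 0) (BT.img (nat_lit 1) (nat_lit 0) (BT.and (nat_lit 7) (nat_lit 0) (BT.pln (nat_lit 12) (nat_lit 3) (BT.dif (nat_lit 8) (nat_lit 0) (BT.and (nat_lit 26) (nat_lit 19) (BT.img (nat_lit 1) (nat_lit 0) (BT.dif (nat_lit 2) (nat_lit 0) (BT.and (nat_lit 0) (nat_lit 8) (BT.and (nat_lit 12) (nat_lit 5) (BT.dif (nat_lit 0) (nat_lit 16) (BT.pln (nat_lit 20) (nat_lit 5) (BT.and (nat_lit 1) (nat_lit 0) (BT.and (nat_lit 0) (nat_lit 15) (BT.and (nat_lit 18) (nat_lit 22) (BT.dif (nat_lit 0) (nat_lit 21) (BT.dif (nat_lit 0) (nat_lit 9) (BT.dif (nat_lit 37) (nat_lit 41) (BT.dif (nat_lit 0) (nat_lit 37) (BT.dif (nat_lit 0) (nat_lit 35) (BT.dif (nat_lit 0) (nat_lit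 34) (BT.dif (nat_lit 0) (nat_lit 33) (BT.dif (nat_lit 0) (nat_lit 24) (BT.img (nat_lit 1) (nat_lit 0) (BT.and (nat_lit 11) (nat_lit 0) (BT.img (nat_lit 1) (nat_lit 0) (BT.and (nat_lit 9) (nat_lit 0) (BT.img (nat_lit 1) (nat_lit 0) (BT.and (nat_lit 14) (nat_lit 0) (BT.img (nat_lit 1) (nat_lit 0) (BT.and (nat_lit 21) (nat_lit 0) (BT.img (nat_lit 1) (nat_lit 0) (BT.and (nat_lit 29) (nat_lit 0) (BT.br (nat_lit 0) (nat_lit 268) [nat_lit 3] (BT.kid (nat_lit 268) (nat_lit 1) (BT.img (nat_lit 1) (nat_lit 44) (BT.img (nat_lit 1) (nat_lit 0) (BT.and (nat_lit 60) (nat_lit 0) (BT.and (nat_lit 61) (nat_lit 45) (BT.and (nat_lit 0) (nat_lit 34) (BT.dif (nat_lit 0) (nat_lit 45) (BT.dif (nat_lit 2) (nat_lit 28) (BT.img (nat_lit 1) (nat_lit 4) (BT.and (nat_lit 66) (nat_lit 0) (BT.img (nat_lit 1) (nat_lit 0) (BT.and (nat_lit 68) (nat_lit 0) (BT.img (nat_lit 1) (nat_lit 0) (BT.and (nat_lit 70) (nat_lit 0) (BT.img (nat_lit 1) (nat_lit 0) (BT.and (nat_lit 72) (nat_lit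 0) (BT.img (nat_lit 1) (nat_lit 0) (BT.and (nat_lit 74) (nat_lit 0) (BT.img (nat_lit 1) (nat_lit 0) (BT.and (nat_lit 76) (nat_lit 0) (BT.img (nat_lit 1) (nat_lit 0) (BT.dif (nat_lit 13) (nat_lit 0) (BT.img (nat_lit 1) (nat_lit 0) (BT.dif (nat_lit 16) (nat_lit 0) (BT.one (nat_lit 3) (nat_lit 0x18190d0f) (nat_lit 0x18190d0f) [nat_lit 23, nat_lit 20, nat_lit 0, nat_lit 67, nat_lit 80])))))))))))))))))))))))) BT.nil)))))))))))))))))))))))))))))))))))))))))))))))))))))))))) BT.nil)))))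

theorem tt_c48_cnt : Cnt 276 (grp 276 ht_c2_K) [g673] [g673] 0 0 0 0 24 :=
  BT.sound tt_c48_cnt_P Known.nil (t := tt_c48_cnt_t) (d := 0) (by decide +kernel)

theorem tt_c48_ge : 24 ≤ Nat.card (grp 276 tt_c48_K) :=
  Ch.le_card_grp (k := 9) (L := (lab 276 9)) hn tt_c48_K_ok (c := (Ch.cons (nat_lit 176) [nat_lit 1] (Ch.cons (nat_lit 268) [nat_lit 3] Ch.nil))) (by decide +kernel)

theorem tt_c48_eq : (grp 276 ht_c2_K) ⊓ Subgroup.centralizer {Net.toPerm 276 g673} = grp 276 tt_c48_K :=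
  cent_eq tt_c48_sym tt_c48_cnt tt_c48_ge

theorem tt_c48_card : Nat.card ↥((grp 276 ht_c2_K) ⊓ Subgroup.centralizer {Net.toPerm 276 g673}) = 24 :=
  card_cent tt_c48_sym tt_c48_cnt tt_c48_ge

theorem tt_c48_ord : orderOf (Net.toPerm 276 g673) = 12 :=
  orderOf_net hn hk g673_ok (by decide) (ps := [2, 3]) (by set_option linter.unusedSimpArgs false in simp [Nat.primeFactorsList_ofNat]) (by decide +kernel)

theorem le676 : grp 276 tt_c49_K ≤ grp 276 ht_c2_K :=
  grp_le_of_memB hn hk ht_c2_K_ok tt_c49_K_ok (ws := [nat_lit 0xb050503030107, nat_lit 0xb010101]) (by decide +kernel)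

theorem tt_c49_le : grp 276 tt_c49_K ≤ (grp 276 ht_c2_K) :=
  (le676.trans TT_s0.le)

theorem tt_c49_mem : Net.toPerm 276 g675 ∈ (grp 276 ht_c2_K) :=
  tt_c49_le (toPerm_mem_grp (E := tt_c49_K) (List.Mem.head _))

theorem tt_c49_sym : Sym 276 (grp 276 ht_c2_K) [g675] tt_c49_K 0 :=
  Sym.of_lab hn hk (okE_cons.2 ⟨g675_ok, okE_nil _⟩) tt_c49_K_ok tt_c49_le (kT := 0) (by decide +kernel)

noncomputable def tt_c49_cnt_L : List ℕ := [0, 4, TT_s0_O, 0, 0, 1, 8, TT_s1_O, 0, 0, 2, 7, TT_s34_O, 0, 0, 3, 9, TT_s35_O, 0, 0, 5, 9, TT_s37_O, 1, 0]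

theorem tt_c49_cnt_P : Prob 276 9 (grp 276 ht_c2_K) tt_c49_cnt_EG [g675] [g675] tt_c49_K tt_c49_cnt_L 0 0 :=
  Sym.prob hn hk tt_c49_sym tt_c49_cnt_EG_ok (grp_cons_le g124_TT (grp_cons_le g125_TT (grp_cons_le g126_TT (grp_cons_le g127_TT (grp_cons_le n_k3_TT (grp_cons_le n_t_TT (grp_cons_le g414_TT (grp_cons_le g419_TT (grp_cons_le g420_TT (grp_cons_le g417_TT (grp_cons_le n_u_TT (grp_cons_le g575_TT (grp_cons_le n_y_TT (grp_nil_le _)))))))))))))) (Frames.cons TT_s0_F (Frames.cons TT_s1_F (Frames.cons TT_s34_F (Frames.cons TT_s35_F (Frames.cons TT_s37_F Frames.nil))))) (okE_cons.2 ⟨g675_ok, okE_nil _⟩) _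

noncomputable def tt_c49_cnt_t : BT := (BT.frm (nat_lit 0) (nat_lit 0) (nat_lit 0) [] (BT.pln (nat_lit 0) (nat_lit 0) (BT.br (nat_lit 0) (nat_lit 176) [nat_lit 1] (BT.dead (nat_lit 145) (BT.img (nat_lit 1) (nat_lit 0) (BT.frm (nat_lit 2) (nat_lit 855311) (nat_lit 856833) [nat_lit 0, nat_lit 1] (BT.pln (nat_lit 0) (nat_lit 2) (BT.fix (nat_lit 1) (BT.and (nat_lit 1) (nat_lit 0) (BT.cnt (nat_lit 0))))))) (BT.kid (nat_lit 176) (nat_lit 2) (BT.frm (nat_lit 1) (nat_lit 0) (nat_lit 0) [nat_lit 0] (BT.pln (nat_lit 0) (nat_lit 1) (BT.dif (nat_lit 7) (nat_lit 0) (BT.pln (nat_lit 5) (nat_lit 1) (BT.dif (nat_lit 1) (nat_lit 0) (BT.dif (nat_lit 0) (nat_lit 6) (BT.pln (nat_lit 8) (nat_lit 2) (BT.dif (nat_lit 1) (nat_lit 0) (BT.img (nat_lit 1) (nat_lit 6) (BT.dif (nat_lit 1) (nat_lit 0) (BT.pln (nat_lit 12) (nat_lit 3) (BT.dif (nat_lit 1) (nat_lit 0) (BT.img (nat_lit 1) (nat_lit 12) (BT.frm (nat_lit 2) (nat_lit 855311) (nat_lit 855311) [nat_lit 0, nat_lit 13]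 (BT.pln (nat_lit 0) (nat_lit 2) (BT.dif (nat_lit 3) (nat_lit 0) (BT.pln (nat_lit 2) (nat_lit 4) (BT.dif (nat_lit 1) (nat_lit 0) (BT.dif (nat_lit 9) (nat_lit 16) (BT.dif (nat_lit 17) (nat_lit 10) (BT.img (nat_lit 1) (nat_lit 1) (BT.and (nat_lit 1) (nat_lit 0) (BT.img (nat_lit 1) (nat_lit 0) (BT.and (nat_lit 4) (nat_lit 0) (BT.img (nat_lit 1) (nat_lit 0) (BT.and (nat_lit 7) (nat_lit 0) (BT.and (nat_lit 27) (nat_lit 11) (BT.pln (nat_lit 13) (nat_lit 3) (BT.and (nat_lit 1) (nat_lit 0) (BT.dif (nat_lit 0) (nat_lit 12) (BT.pln (nat_lit 16) (nat_lit 5) (BT.dif (nat_lit 4) (nat_lit 0) (BT.img (nat_lit 1) (nat_lit 19) (BT.img (nat_lit 1) (nat_lit 0) (BT.and (nat_lit 35) (nat_lit 0) (BT.img (nat_lit 1) (nat_lit 0) (BT.dif (nat_lit 4) (nat_lit 0) (BT.img (nat_lit 1) (nat_lit 0) (BT.dif (nat_lit 8) (nat_lit 0) (BT.frm (nat_lit 3) (nat_lit 855311) (nat_lit 855311) [nat_lit 0, nat_lit 26, nat_lit 39] (BT.pln (nat_lit 0) (nat_lit 3) (BT.dif (nat_lit 15) (nat_lit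 0) (BT.br (nat_lit 0) (nat_lit 77) [nat_lit 3] (BT.kid (nat_lit 77) (nat_lit 1) (BT.and (nat_lit 44) (nat_lit 7) (BT.img (nat_lit 1) (nat_lit 0) (BT.and (nat_lit 46) (nat_lit 0) (BT.img (nat_lit 1) (nat_lit 0) (BT.and (nat_lit 48) (nat_lit 0) (BT.img (nat_lit 1) (nat_lit 0) (BT.and (nat_lit 50) (nat_lit 0) (BT.img (nat_lit 1) (nat_lit 0) (BT.and (nat_lit 52) (nat_lit 0) (BT.img (nat_lit 1) (nat_lit 0) (BT.and (nat_lit 54) (nat_lit 0) (BT.one (nat_lit 4) (nat_lit 0x15190d0d0f) (nat_lit 0x15190d0d0f) [nat_lit 11, nat_lit 0, nat_lit 15, nat_lit 41, nat_lit 54])))))))))))) BT.nil)))))))))))))))))))))))))))))))))))))))))))) BT.nil)))))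

theorem tt_c49_cnt : Cnt 276 (grp 276 ht_c2_K) [g675] [g675] 0 0 0 0 24 :=
  BT.sound tt_c49_cnt_P Known.nil (t := tt_c49_cnt_t) (d := 0) (by decide +kernel)

theorem tt_c49_ge : 24 ≤ Nat.card (grp 276 tt_c49_K) :=
  Ch.le_card_grp (k := 9) (L := (lab 276 9)) hn tt_c49_K_ok (c := (Ch.cons (nat_lit 176) [nat_lit 1] (Ch.cons (nat_lit 77) [nat_lit 3] Ch.nil))) (by decide +kernel)

theorem tt_c49_eq : (grp 276 ht_c2_K) ⊓ Subgroup.centralizer {Net.toPerm 276 g675} = grp 276 tt_c49_K :=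
  cent_eq tt_c49_sym tt_c49_cnt tt_c49_ge

theorem tt_c49_card : Nat.card ↥((grp 276 ht_c2_K) ⊓ Subgroup.centralizer {Net.toPerm 276 g675}) = 24 :=
  card_cent tt_c49_sym tt_c49_cnt tt_c49_ge

theorem tt_c49_ord : orderOf (Net.toPerm 276 g675) = 12 :=
  orderOf_net hn hk g675_ok (by decide) (ps := [2, 3]) (by set_option linter.unusedSimpArgs false in simp [Nat.primeFactorsList_ofNat]) (by decide +kernel)

theorem le678 : grp 276 tt_c50_K ≤ grp 276 ht_c2_K :=
  grp_le_of_memB hn hk ht_c2_K_ok tt_c50_K_ok (ws := [nat_lit 0x9060305010105, nat_lit 11]) (by decide +kernel)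

theorem tt_c50_le : grp 276 tt_c50_K ≤ (grp 276 ht_c2_K) :=
  (le678.trans TT_s0.le)

theorem tt_c50_mem : Net.toPerm 276 g677 ∈ (grp 276 ht_c2_K) :=
  tt_c50_le (toPerm_mem_grp (E := tt_c50_K) (List.Mem.head _))

theorem tt_c50_sym : Sym 276 (grp 276 ht_c2_K) [g677] tt_c50_K 0 :=
  Sym.of_lab hn hk (okE_cons.2 ⟨g677_ok, okE_nil _⟩) tt_c50_K_ok tt_c50_le (kT := 0) (by decide +kernel)

theorem le680 : grp 276 V679 ≤ grp 276 V435 :=
  grp_le_of_memB hn hk V435_ok V679_ok (ws := [nat_lit 460035, nat_lit 7]) (by decide +kernel)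

theorem TT_s54 : Stab 276 (grp 276 ht_c2_K) [nat_lit 256, nat_lit 175, nat_lit 33] V679 4 :=
  Stab.step (k := 9) (L := (lab 276 9)) hn TT_s8 V679_ok le680 (c := (Ch.cons (nat_lit 104) [nat_lit 1] (Ch.cons (nat_lit 159) [nat_lit 3] Ch.nil))) (by decide +kernel)

theorem TT_s55 : Stab 276 (grp 276 ht_c2_K) [nat_lit 104, nat_lit 256, nat_lit 175, nat_lit 33] V681 2 :=
  Stab.step (k := 9) (L := (lab 276 9)) hn TT_s54 V681_ok (grp_mono (List.subset_append_right [g570] _)) (c := (Ch.cons (nat_lit 159) [nat_lit 1] Ch.nil)) (by decide +kernel)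

theorem TT_s56 : Stab 276 (grp 276 ht_c2_K) [nat_lit 159, nat_lit 104, nat_lit 256, nat_lit 175, nat_lit 33] V682 1 :=
  Stab.step (k := 9) (L := (lab 276 9)) hn TT_s55 V682_ok (grp_mono (List.subset_append_right [n_t] _)) (c := Ch.nil) (by decide +kernel)

theorem g570_TT : Net.toPerm 276 g570 ∈ (grp 276 ht_c2_K) :=
  TT_s54.le (toPerm_mem_grp (E := V679) (List.Mem.head _))

noncomputable def TT_s56_O : ℕ := (nat_lit 0x9993333366666ccccc99999b3333666664ccccd9999b3333266666ccccd9999933332c1f07c1f07c1f07c0f83e0f83e0f83e0f81f07c1f07c1f07c1f03e0f83e0f83e0f83e7319cc63398ce7319cc63398ce7319ce63398c67319ce63398c67319ce63398c6731826d926c93649b24db26d936c9b649b24d926d936c9b64db24d926c93649b64db26d92000000000000000000000000000000000000000000000000000000000000200000000000000000000000000000000080000000000000000000000000000000000000000000000010000000000000000000000000000000000000000000000000000000000000000000000000000000000000000000000000000000000100000000000000000000000000000000000000000000000000000008000000000000000000000000000000000000000)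

theorem TT_s56_F : Frame 276 (grp 276 ht_c2_K) 5 9 TT_s56_O 1 1 :=
  IsBase.frame TT_s56.isBase (by decide +kernel)

noncomputable def TT_s55_O : ℕ := (nat_lit 0x123440000008800230004510000080120022012010008000000000000000000000000cdc1a6f4de7347f98f61b2eb23e75ba82f913a5eefee4d5e001000010244010001010c84aa4af66e70349c77d3a6cf3ca396d7804040100012021fff7cffff74401000101036f4e6f3d4eeee0d007e80079414420455d9361eec010221fdf7f0010affdbfd81010c9880b14909128b67a17f7763349a040459136d103ce70a1ff183df90adddf027fa1097f3862dd5642072b61352ed441f7916c6b7440f83e12fc1e0fc1d87cae984f2785e0f64644a5fb176b3ae098178a760e127a15c0fdec632c3e3998db3e67308c51ce6618cbd64a323851b2f639a9c945171aa0e7567342b0b5aaa1b9556ba8b54aeb748a955d4a000000000000000000000000000000000000000000000000000000000000200000000000000000000000000000000080000000000000000000000000000000000000000000000010000000000000000000000000000000000000000000000000000000000000000000000000000000000000000000000000000000000100000000000000000000000000)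

theorem TT_s55_F : Frame 276 (grp 276 ht_c2_K) 4 12 TT_s55_O 0 1 :=
  Stab.frame hn TT_s55 (by decide +kernel)

noncomputable def TT_s54_O : ℕ := (nat_lit 0x123440000000000230004410000080120022012000100000001000010200010000010c102a2c69e6fc3f9c71533edf2ea792c3f942c03b7a0cd3dbc61c9a680440000010002d5c82a9befbeeac8e02494125b3418967d0284abacec31e418032087defd2fd010008cc80d3c627faf508d1f133f31061bbe1929343e590ab083b47b16097acdc402fda00d341a069b518a5b710199136968962b2a4a856c1dfcde2e3b88e6f8070e413e2f35f06859c62fc78d4134e4948798e31fd3f84618ce24e340b573cfd8fe7c68491718cc19c99e665adf913c30b4d969796a51045274fcb3261a0afad296ea47533541c9d56a8d4a000000000000000000000000000000000000000000000000000000000000200000000000000000000000000000000080000000000000000000000000000000000000000000000010000000000000000000000000000000000000000000000000000000000000000)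

theorem TT_s54_F : Frame 276 (grp 276 ht_c2_K) 3 10 TT_s54_O 0 1 :=
  Stab.frame hn TT_s54 (by decide +kernel)

noncomputable def tt_c50_cnt_L : List ℕ := [0, 4, TT_s0_O, 0, 0, 1, 8, TT_s7_O, 0, 0, 2, 19, TT_s8_O, 0, 0, 3, 10, TT_s54_O, 0, 0, 4, 12, TT_s55_O, 0, 0, 5, 9, TT_s56_O, 1, 0]

theorem tt_c50_cnt_P : Prob 276 9 (grp 276 ht_c2_K) tt_c50_cnt_EG [g677] [g677] tt_c50_K tt_c50_cnt_L 0 0 :=
  Sym.prob hn hk tt_c50_sym tt_c50_cnt_EG_ok (grp_cons_le g124_TT (grp_cons_le g125_TT (grp_cons_le g126_TT (grp_cons_le g127_TT (grp_cons_le n_k3_TT (grp_cons_le n_t_TT (grp_cons_le g570_TT (grp_nil_le _)))))))) (Frames.cons TT_s0_F (Frames.cons TT_s7_F (Frames.cons TT_s8_F (Frames.cons TT_s54_F (Frames.cons TT_s55_F (Frames.cons TT_s56_F Frames.nil)))))) (okE_cons.2 ⟨g677_ok, okE_nil _⟩) _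

noncomputable def tt_c50_cnt_t : BT := (BT.frm (nat_lit 0) (nat_lit 0) (nat_lit 0) [] (BT.pln (nat_lit 0) (nat_lit 1) (BT.br (nat_lit 0) (nat_lit 256) [nat_lit 1] (BT.dead (nat_lit 72) (BT.img (nat_lit 1) (nat_lit 0) (BT.img (nat_lit 1) (nat_lit 0) (BT.img (nat_lit 1) (nat_lit 0) (BT.and (nat_lit 4) (nat_lit 0) (BT.frm (nat_lit 2) (nat_lit 0x305010104) (nat_lit 0x306010103) [nat_lit 0, nat_lit 4] (BT.pln (nat_lit 0) (nat_lit 7) (BT.frm (nat_lit 1) (nat_lit 65796) (nat_lit 65795) [nat_lit 6] (BT.pln (nat_lit 0) (nat_lit 1) (BT.img (nat_lit 1) (nat_lit 0) (BT.and (nat_lit 3) (nat_lit 0) (BT.cnt (nat_lit 0)))))))))))) (BT.kid (nat_lit 256) (nat_lit 2) (BT.frm (nat_lit 1) (nat_lit 65796) (nat_lit 65796) [nat_lit 0] (BT.pln (nat_lit 0) (nat_lit 1) (BT.dif (nat_lit 7) (nat_lit 0) (BT.pln (nat_lit 5) (nat_lit 0) (BT.dif (nat_lit 1) (nat_lit 0) (BT.dif (nat_lit 0) (nat_lit 6) (BT.pln (nat_lit 8) (nat_lit 2) (BT.dif (nat_lit 1) (nat_lit 0) (BT.img (nat_lit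 1) (nat_lit 6) (BT.dif (nat_lit 1) (nat_lit 0) (BT.pln (nat_lit 12) (nat_lit 3) (BT.dif (nat_lit 1) (nat_lit 0) (BT.img (nat_lit 1) (nat_lit 12) (BT.img (nat_lit 1) (nat_lit 0) (BT.img (nat_lit 1) (nat_lit 0) (BT.and (nat_lit 16) (nat_lit 0) (BT.frm (nat_lit 3) (nat_lit 0x6070305010104) (nat_lit 0x6070305010104) [nat_lit 3, nat_lit 0, nat_lit 16] (BT.pln (nat_lit 0) (nat_lit 8) (BT.and (nat_lit 6) (nat_lit 0) (BT.pln (nat_lit 2) (nat_lit 6) (BT.and (nat_lit 1) (nat_lit 0) (BT.frm (nat_lit 4) (nat_lit 0x6070305010104) (nat_lit 0x6070305010104) [nat_lit 7, nat_lit 8, nat_lit 5, nat_lit 21] (BT.pln (nat_lit 0) (nat_lit 4) (BT.and (nat_lit 2) (nat_lit 0) (BT.br (nat_lit 0) (nat_lit 68) [nat_lit 3] (BT.kid (nat_lit 68) (nat_lit 1) (BT.one (nat_lit 5) (nat_lit 0xb06070305010104) (nat_lit 0xb06070305010104) [nat_lit 0, nat_lit 11, nat_lit 12, nat_lit 9, nat_lit 25]) BT.nil)))))))))))))))))))))))))) BT.nil)))))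

theorem tt_c50_cnt : Cnt 276 (grp 276 ht_c2_K) [g677] [g677] 0 0 0 0 24 :=
  BT.sound tt_c50_cnt_P Known.nil (t := tt_c50_cnt_t) (d := 0) (by decide +kernel)

theorem tt_c50_ge : 24 ≤ Nat.card (grp 276 tt_c50_K) :=
  Ch.le_card_grp (k := 9) (L := (lab 276 9)) hn tt_c50_K_ok (c := (Ch.cons (nat_lit 256) [nat_lit 1] (Ch.cons (nat_lit 68) [nat_lit 3] Ch.nil))) (by decide +kernel)

theorem tt_c50_eq : (grp 276 ht_c2_K) ⊓ Subgroup.centralizer {Net.toPerm 276 g677} = grp 276 tt_c50_K :=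
  cent_eq tt_c50_sym tt_c50_cnt tt_c50_ge

theorem tt_c50_card : Nat.card ↥((grp 276 ht_c2_K) ⊓ Subgroup.centralizer {Net.toPerm 276 g677}) = 24 :=
  card_cent tt_c50_sym tt_c50_cnt tt_c50_ge

theorem tt_c50_ord : orderOf (Net.toPerm 276 g677) = 12 :=
  orderOf_net hn hk g677_ok (by decide) (ps := [2, 3]) (by set_option linter.unusedSimpArgs false in simp [Nat.primeFactorsList_ofNat]) (by decide +kernel)

noncomputable def tt_xs : List Net := [Net.nil, n_t, n_u, n_tu, n_w, g449, g454, g464, g478, g482, g486, g499, g504, g509, g513, n_k5, g522, g530, g534, g540, g544, g231, g558, g561, g565, g568, g572, g581, g591, g595, g600, g604, g609, g613, g616, g622, g625, g628, g636, g639, g642, g650, g653, g659, g662, g666, g669, g671, g673, g675, g677]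

noncomputable def tt_cs : List ℕ := [4608, 4608, 4608, 4608, 128, 64, 16, 144, 144, 144, 36, 768, 768, 768, 768, 768, 768, 128, 128, 128, 64, 64, 64, 64, 144, 144, 144, 144, 144, 144, 144, 144, 144, 36, 36, 36, 32, 32, 32, 32, 32, 32, 16, 16, 16, 24, 24, 24, 24, 24, 24]

noncomputable def tt_os : List ℕ := [1, 2, 2, 2, 2, 2, 2, 3, 3, 3, 3, 4, 4, 4, 4, 4, 4, 4, 4, 4, 4, 4, 4, 4, 6, 6, 6, 6, 6, 6, 6, 6, 6, 6, 6, 6, 8, 8, 8, 8, 8, 8, 8, 8, 8, 12, 12, 12, 12, 12, 12]

theorem tt_reps : Reps 276 (grp 276 ht_c2_K) tt_xs tt_cs tt_os :=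
  (Reps.cons rfl (one_mem _) (card_cent_nil t_card2) orderOf_one (Reps.cons n_t_ok tt_c1_mem tt_c1_card tt_c1_ord (Reps.cons n_u_ok tt_c2_mem tt_c2_card tt_c2_ord (Reps.cons n_tu_ok tt_c3_mem tt_c3_card tt_c3_ord (Reps.cons n_w_ok tt_c4_mem tt_c4_card tt_c4_ord (Reps.cons g449_ok tt_c5_mem tt_c5_card tt_c5_ord (Reps.cons g454_ok tt_c6_mem tt_c6_card tt_c6_ord (Reps.cons g464_ok tt_c7_mem tt_c7_card tt_c7_ord (Reps.cons g478_ok tt_c8_mem tt_c8_card tt_c8_ord (Reps.cons g482_ok tt_c9_mem tt_c9_card tt_c9_ord (Reps.cons g486_ok tt_c10_mem tt_c10_card tt_c10_ord (Reps.cons g499_ok tt_c11_mem tt_c11_card tt_c11_ord (Reps.cons g504_ok tt_c12_mem tt_c12_card tt_c12_ord (Reps.cons g509_ok tt_c13_mem tt_c13_card tt_c13_ord (Reps.cons g513_ok tt_c14_mem tt_c14_card tt_c14_ord (Reps.cons n_k5_ok tt_c15_mem tt_c15_card tt_c15_ord (Reps.cons g522_ok tt_c16_mem tt_c16_card tt_c16_ord (Reps.cons g530_ok tt_c17_mem tt_c17_card tt_c17_ord (Reps.cons g534_ok tt_c18_mem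 tt_c18_card tt_c18_ord (Reps.cons g540_ok tt_c19_mem tt_c19_card tt_c19_ord (Reps.cons g544_ok tt_c20_mem tt_c20_card tt_c20_ord (Reps.cons g231_ok tt_c21_mem tt_c21_card tt_c21_ord (Reps.cons g558_ok tt_c22_mem tt_c22_card tt_c22_ord (Reps.cons g561_ok tt_c23_mem tt_c23_card tt_c23_ord (Reps.cons g565_ok tt_c24_mem tt_c24_card tt_c24_ord (Reps.cons g568_ok tt_c25_mem tt_c25_card tt_c25_ord (Reps.cons g572_ok tt_c26_mem tt_c26_card tt_c26_ord (Reps.cons g581_ok tt_c27_mem tt_c27_card tt_c27_ord (Reps.cons g591_ok tt_c28_mem tt_c28_card tt_c28_ord (Reps.cons g595_ok tt_c29_mem tt_c29_card tt_c29_ord (Reps.cons g600_ok tt_c30_mem tt_c30_card tt_c30_ord (Reps.cons g604_ok tt_c31_mem tt_c31_card tt_c31_ord (Reps.cons g609_ok tt_c32_mem tt_c32_card tt_c32_ord (Reps.cons g613_ok tt_c33_mem tt_c33_card tt_c33_ord (Reps.cons g616_ok tt_c34_mem tt_c34_card tt_c34_ord (Reps.cons g622_ok tt_c35_mem tt_c35_card tt_c35_ord (Reps.cons g625_ok tt_c36_mem tt_c36_card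 tt_c36_ord (Reps.cons g628_ok tt_c37_mem tt_c37_card tt_c37_ord (Reps.cons g636_ok tt_c38_mem tt_c38_card tt_c38_ord (Reps.cons g639_ok tt_c39_mem tt_c39_card tt_c39_ord (Reps.cons g642_ok tt_c40_mem tt_c40_card tt_c40_ord (Reps.cons g650_ok tt_c41_mem tt_c41_card tt_c41_ord (Reps.cons g653_ok tt_c42_mem tt_c42_card tt_c42_ord (Reps.cons g659_ok tt_c43_mem tt_c43_card tt_c43_ord (Reps.cons g662_ok tt_c44_mem tt_c44_card tt_c44_ord (Reps.cons g666_ok tt_c45_mem tt_c45_card tt_c45_ord (Reps.cons g669_ok tt_c46_mem tt_c46_card tt_c46_ord (Reps.cons g671_ok tt_c47_mem tt_c47_card tt_c47_ord (Reps.cons g673_ok tt_c48_mem tt_c48_card tt_c48_ord (Reps.cons g675_ok tt_c49_mem tt_c49_card tt_c49_ord (Reps.cons g677_ok tt_c50_mem tt_c50_card tt_c50_ord Reps.nil)))))))))))))))))))))))))))))))))))))))))))))))))))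

noncomputable def tt_nc2_1_cnt_L : List ℕ := [0, 4, TT_s0_O, 0, 0]

theorem tt_nc2_1_cnt_P : Prob 276 9 (grp 276 ht_c2_K) tt_nc2_1_cnt_EG [n_u] [n_t] tt_c1_K tt_nc2_1_cnt_L 0 0 :=
  Sym.prob hn hk tt_c1_sym tt_nc2_1_cnt_EG_ok (grp_nil_le _) (Frames.cons TT_s0_F Frames.nil) (okE_cons.2 ⟨n_u_ok, okE_nil _⟩) _

noncomputable def tt_nc2_1_cnt_t : BT := (BT.frm (nat_lit 0) (nat_lit 0) (nat_lit 0) [] (BT.pln (nat_lit 0) (nat_lit 0) (BT.fix (nat_lit 1) (BT.and (nat_lit 1) (nat_lit 0) (BT.cnt (nat_lit 0))))))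

theorem tt_nc2_1_cnt : Cnt 276 (grp 276 ht_c2_K) [n_u] [n_t] 0 0 0 0 0 :=
  BT.sound tt_nc2_1_cnt_P Known.nil (t := tt_nc2_1_cnt_t) (d := 0) (by decide +kernel)

theorem tt_nc2_1 : ¬ CjIn (grp 276 ht_c2_K) (Net.toPerm 276 n_u) (Net.toPerm 276 n_t) :=
  not_cjIn tt_nc2_1_cnt

noncomputable def tt_nc3_1_cnt_L : List ℕ := [0, 4, TT_s0_O, 0, 0]

theorem tt_nc3_1_cnt_P : Prob 276 9 (grp 276 ht_c2_K) tt_nc3_1_cnt_EG [n_tu] [n_t] tt_c1_K tt_nc3_1_cnt_L 0 0 :=
  Sym.prob hn hk tt_c1_sym tt_nc3_1_cnt_EG_ok (grp_nil_le _) (Frames.cons TT_s0_F Frames.nil) (okE_cons.2 ⟨n_tu_ok, okE_nil _⟩) _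

noncomputable def tt_nc3_1_cnt_t : BT := (BT.frm (nat_lit 0) (nat_lit 0) (nat_lit 0) [] (BT.pln (nat_lit 0) (nat_lit 1) (BT.fix (nat_lit 1) (BT.and (nat_lit 1) (nat_lit 0) (BT.cnt (nat_lit 0))))))

theorem tt_nc3_1_cnt : Cnt 276 (grp 276 ht_c2_K) [n_tu] [n_t] 0 0 0 0 0 :=
  BT.sound tt_nc3_1_cnt_P Known.nil (t := tt_nc3_1_cnt_t) (d := 0) (by decide +kernel)

theorem tt_nc3_1 : ¬ CjIn (grp 276 ht_c2_K) (Net.toPerm 276 n_tu) (Net.toPerm 276 n_t) :=
  not_cjIn tt_nc3_1_cnt

noncomputable def tt_nc3_2_cnt_L : List ℕ := [0, 4, TT_s0_O, 0, 0]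

theorem tt_nc3_2_cnt_P : Prob 276 9 (grp 276 ht_c2_K) tt_nc3_2_cnt_EG [n_tu] [n_u] tt_c2_K tt_nc3_2_cnt_L 0 0 :=
  Sym.prob hn hk tt_c2_sym tt_nc3_2_cnt_EG_ok (grp_nil_le _) (Frames.cons TT_s0_F Frames.nil) (okE_cons.2 ⟨n_tu_ok, okE_nil _⟩) _

noncomputable def tt_nc3_2_cnt_t : BT := (BT.frm (nat_lit 0) (nat_lit 0) (nat_lit 0) [] (BT.pln (nat_lit 0) (nat_lit 0) (BT.fix (nat_lit 1) (BT.and (nat_lit 1) (nat_lit 0) (BT.cnt (nat_lit 0))))))

theorem tt_nc3_2_cnt : Cnt 276 (grp 276 ht_c2_K) [n_tu] [n_u] 0 0 0 0 0 :=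
  BT.sound tt_nc3_2_cnt_P Known.nil (t := tt_nc3_2_cnt_t) (d := 0) (by decide +kernel)

theorem tt_nc3_2 : ¬ CjIn (grp 276 ht_c2_K) (Net.toPerm 276 n_tu) (Net.toPerm 276 n_u) :=
  not_cjIn tt_nc3_2_cnt

noncomputable def tt_nc8_7_cnt_L : List ℕ := [0, 4, TT_s0_O, 0, 0]

theorem tt_nc8_7_cnt_P : Prob 276 9 (grp 276 ht_c2_K) tt_nc8_7_cnt_EG [g478] [g464] tt_c7_K tt_nc8_7_cnt_L 0 0 :=
  Sym.prob hn hk tt_c7_sym tt_nc8_7_cnt_EG_ok (grp_nil_le _) (Frames.cons TT_s0_F Frames.nil) (okE_cons.2 ⟨g478_ok, okE_nil _⟩) _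

noncomputable def tt_nc8_7_cnt_t : BT := (BT.frm (nat_lit 0) (nat_lit 0) (nat_lit 0) [] (BT.pln (nat_lit 0) (nat_lit 0) (BT.fix (nat_lit 1) (BT.and (nat_lit 1) (nat_lit 0) (BT.cnt (nat_lit 0))))))

theorem tt_nc8_7_cnt : Cnt 276 (grp 276 ht_c2_K) [g478] [g464] 0 0 0 0 0 :=
  BT.sound tt_nc8_7_cnt_P Known.nil (t := tt_nc8_7_cnt_t) (d := 0) (by decide +kernel)

theorem tt_nc8_7 : ¬ CjIn (grp 276 ht_c2_K) (Net.toPerm 276 g478) (Net.toPerm 276 g464) :=
  not_cjIn tt_nc8_7_cnt

noncomputable def tt_nc9_7_cnt_L : List ℕ := [0, 4, TT_s0_O, 0, 0]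

theorem tt_nc9_7_cnt_P : Prob 276 9 (grp 276 ht_c2_K) tt_nc9_7_cnt_EG [g482] [g464] tt_c7_K tt_nc9_7_cnt_L 0 0 :=
  Sym.prob hn hk tt_c7_sym tt_nc9_7_cnt_EG_ok (grp_nil_le _) (Frames.cons TT_s0_F Frames.nil) (okE_cons.2 ⟨g482_ok, okE_nil _⟩) _

noncomputable def tt_nc9_7_cnt_t : BT := (BT.frm (nat_lit 0) (nat_lit 0) (nat_lit 0) [] (BT.pln (nat_lit 0) (nat_lit 0) (BT.fix (nat_lit 1) (BT.and (nat_lit 1) (nat_lit 0) (BT.cnt (nat_lit 0))))))

theorem tt_nc9_7_cnt : Cnt 276 (grp 276 ht_c2_K) [g482] [g464] 0 0 0 0 0 :=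
  BT.sound tt_nc9_7_cnt_P Known.nil (t := tt_nc9_7_cnt_t) (d := 0) (by decide +kernel)

theorem tt_nc9_7 : ¬ CjIn (grp 276 ht_c2_K) (Net.toPerm 276 g482) (Net.toPerm 276 g464) :=
  not_cjIn tt_nc9_7_cnt

noncomputable def tt_nc9_8_cnt_L : List ℕ := [0, 4, TT_s0_O, 0, 0]

theorem tt_nc9_8_cnt_P : Prob 276 9 (grp 276 ht_c2_K) tt_nc9_8_cnt_EG [g482] [g478] tt_c8_K tt_nc9_8_cnt_L 0 0 :=
  Sym.prob hn hk tt_c8_sym tt_nc9_8_cnt_EG_ok (grp_nil_le _) (Frames.cons TT_s0_F Frames.nil) (okE_cons.2 ⟨g482_ok, okE_nil _⟩) _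

noncomputable def tt_nc9_8_cnt_t : BT := (BT.frm (nat_lit 0) (nat_lit 0) (nat_lit 0) [] (BT.pln (nat_lit 0) (nat_lit 1) (BT.fix (nat_lit 1) (BT.and (nat_lit 1) (nat_lit 0) (BT.cnt (nat_lit 0))))))

theorem tt_nc9_8_cnt : Cnt 276 (grp 276 ht_c2_K) [g482] [g478] 0 0 0 0 0 :=
  BT.sound tt_nc9_8_cnt_P Known.nil (t := tt_nc9_8_cnt_t) (d := 0) (by decide +kernel)

theorem tt_nc9_8 : ¬ CjIn (grp 276 ht_c2_K) (Net.toPerm 276 g482) (Net.toPerm 276 g478) :=
  not_cjIn tt_nc9_8_cnt

noncomputable def tt_nc13_11_cnt_L : List ℕ := [0, 4, TT_s0_O, 0, 0]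

theorem tt_nc13_11_cnt_P : Prob 276 9 (grp 276 ht_c2_K) tt_nc13_11_cnt_EG [g509] [g499] tt_c11_K tt_nc13_11_cnt_L 0 0 :=
  Sym.prob hn hk tt_c11_sym tt_nc13_11_cnt_EG_ok (grp_nil_le _) (Frames.cons TT_s0_F Frames.nil) (okE_cons.2 ⟨g509_ok, okE_nil _⟩) _

noncomputable def tt_nc13_11_cnt_t : BT := (BT.frm (nat_lit 0) (nat_lit 0) (nat_lit 0) [] (BT.pln (nat_lit 0) (nat_lit 0) (BT.fix (nat_lit 1) (BT.and (nat_lit 1) (nat_lit 0) (BT.cnt (nat_lit 0))))))

theorem tt_nc13_11_cnt : Cnt 276 (grp 276 ht_c2_K) [g509] [g499] 0 0 0 0 0 :=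
  BT.sound tt_nc13_11_cnt_P Known.nil (t := tt_nc13_11_cnt_t) (d := 0) (by decide +kernel)

theorem tt_nc13_11 : ¬ CjIn (grp 276 ht_c2_K) (Net.toPerm 276 g509) (Net.toPerm 276 g499) :=
  not_cjIn tt_nc13_11_cnt

noncomputable def tt_nc14_11_cnt_L : List ℕ := [0, 4, TT_s0_O, 0, 0]

theorem tt_nc14_11_cnt_P : Prob 276 9 (grp 276 ht_c2_K) tt_nc14_11_cnt_EG [g513] [g499] tt_c11_K tt_nc14_11_cnt_L 0 0 :=
  Sym.prob hn hk tt_c11_sym tt_nc14_11_cnt_EG_ok (grp_nil_le _) (Frames.cons TT_s0_F Frames.nil) (okE_cons.2 ⟨g513_ok, okE_nil _⟩) _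

noncomputable def tt_nc14_11_cnt_t : BT := (BT.frm (nat_lit 0) (nat_lit 0) (nat_lit 0) [] (BT.pln (nat_lit 0) (nat_lit 1) (BT.fix (nat_lit 1) (BT.and (nat_lit 1) (nat_lit 0) (BT.cnt (nat_lit 0))))))

theorem tt_nc14_11_cnt : Cnt 276 (grp 276 ht_c2_K) [g513] [g499] 0 0 0 0 0 :=
  BT.sound tt_nc14_11_cnt_P Known.nil (t := tt_nc14_11_cnt_t) (d := 0) (by decide +kernel)

theorem tt_nc14_11 : ¬ CjIn (grp 276 ht_c2_K) (Net.toPerm 276 g513) (Net.toPerm 276 g499) :=
  not_cjIn tt_nc14_11_cnt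

noncomputable def tt_nc14_13_cnt_L : List ℕ := [0, 4, TT_s0_O, 0, 0]

theorem tt_nc14_13_cnt_P : Prob 276 9 (grp 276 ht_c2_K) tt_nc14_13_cnt_EG [g513] [g509] tt_c13_K tt_nc14_13_cnt_L 0 0 :=
  Sym.prob hn hk tt_c13_sym tt_nc14_13_cnt_EG_ok (grp_nil_le _) (Frames.cons TT_s0_F Frames.nil) (okE_cons.2 ⟨g513_ok, okE_nil _⟩) _

noncomputable def tt_nc14_13_cnt_t : BT := (BT.frm (nat_lit 0) (nat_lit 0) (nat_lit 0) [] (BT.pln (nat_lit 0) (nat_lit 0) (BT.fix (nat_lit 1) (BT.and (nat_lit 1) (nat_lit 0) (BT.cnt (nat_lit 0))))))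

theorem tt_nc14_13_cnt : Cnt 276 (grp 276 ht_c2_K) [g513] [g509] 0 0 0 0 0 :=
  BT.sound tt_nc14_13_cnt_P Known.nil (t := tt_nc14_13_cnt_t) (d := 0) (by decide +kernel)

theorem tt_nc14_13 : ¬ CjIn (grp 276 ht_c2_K) (Net.toPerm 276 g513) (Net.toPerm 276 g509) :=
  not_cjIn tt_nc14_13_cnt

noncomputable def tt_nc15_12_cnt_L : List ℕ := [0, 4, TT_s0_O, 0, 0]

theorem tt_nc15_12_cnt_P : Prob 276 9 (grp 276 ht_c2_K) tt_nc15_12_cnt_EG [n_k5] [g504] tt_c12_K tt_nc15_12_cnt_L 0 0 :=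
  Sym.prob hn hk tt_c12_sym tt_nc15_12_cnt_EG_ok (grp_nil_le _) (Frames.cons TT_s0_F Frames.nil) (okE_cons.2 ⟨n_k5_ok, okE_nil _⟩) _

noncomputable def tt_nc15_12_cnt_t : BT := (BT.frm (nat_lit 0) (nat_lit 0) (nat_lit 0) [] (BT.pln (nat_lit 0) (nat_lit 1) (BT.fix (nat_lit 1) (BT.and (nat_lit 1) (nat_lit 0) (BT.cnt (nat_lit 0))))))

theorem tt_nc15_12_cnt : Cnt 276 (grp 276 ht_c2_K) [n_k5] [g504] 0 0 0 0 0 :=
  BT.sound tt_nc15_12_cnt_P Known.nil (t := tt_nc15_12_cnt_t) (d := 0) (by decide +kernel)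

theorem tt_nc15_12 : ¬ CjIn (grp 276 ht_c2_K) (Net.toPerm 276 n_k5) (Net.toPerm 276 g504) :=
  not_cjIn tt_nc15_12_cnt

noncomputable def tt_nc16_12_cnt_L : List ℕ := [0, 4, TT_s0_O, 0, 0]

theorem tt_nc16_12_cnt_P : Prob 276 9 (grp 276 ht_c2_K) tt_nc16_12_cnt_EG [g522] [g504] tt_c12_K tt_nc16_12_cnt_L 0 0 :=
  Sym.prob hn hk tt_c12_sym tt_nc16_12_cnt_EG_ok (grp_nil_le _) (Frames.cons TT_s0_F Frames.nil) (okE_cons.2 ⟨g522_ok, okE_nil _⟩) _

noncomputable def tt_nc16_12_cnt_t : BT := (BT.frm (nat_lit 0) (nat_lit 0) (nat_lit 0) [] (BT.pln (nat_lit 0) (nat_lit 0) (BT.fix (nat_lit 1) (BT.and (nat_lit 1) (nat_lit 0) (BT.cnt (nat_lit 0))))))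

theorem tt_nc16_12_cnt : Cnt 276 (grp 276 ht_c2_K) [g522] [g504] 0 0 0 0 0 :=
  BT.sound tt_nc16_12_cnt_P Known.nil (t := tt_nc16_12_cnt_t) (d := 0) (by decide +kernel)

theorem tt_nc16_12 : ¬ CjIn (grp 276 ht_c2_K) (Net.toPerm 276 g522) (Net.toPerm 276 g504) :=
  not_cjIn tt_nc16_12_cnt

noncomputable def tt_nc16_15_cnt_L : List ℕ := [0, 4, TT_s0_O, 0, 0]

theorem tt_nc16_15_cnt_P : Prob 276 9 (grp 276 ht_c2_K) tt_nc16_15_cnt_EG [g522] [n_k5] tt_c15_K tt_nc16_15_cnt_L 0 0 :=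
  Sym.prob hn hk tt_c15_sym tt_nc16_15_cnt_EG_ok (grp_nil_le _) (Frames.cons TT_s0_F Frames.nil) (okE_cons.2 ⟨g522_ok, okE_nil _⟩) _

noncomputable def tt_nc16_15_cnt_t : BT := (BT.frm (nat_lit 0) (nat_lit 0) (nat_lit 0) [] (BT.pln (nat_lit 0) (nat_lit 0) (BT.fix (nat_lit 1) (BT.and (nat_lit 1) (nat_lit 0) (BT.cnt (nat_lit 0))))))

theorem tt_nc16_15_cnt : Cnt 276 (grp 276 ht_c2_K) [g522] [n_k5] 0 0 0 0 0 :=
  BT.sound tt_nc16_15_cnt_P Known.nil (t := tt_nc16_15_cnt_t) (d := 0) (by decide +kernel)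

theorem tt_nc16_15 : ¬ CjIn (grp 276 ht_c2_K) (Net.toPerm 276 g522) (Net.toPerm 276 n_k5) :=
  not_cjIn tt_nc16_15_cnt

noncomputable def tt_nc18_17_cnt_L : List ℕ := [0, 4, TT_s0_O, 0, 0]

theorem tt_nc18_17_cnt_P : Prob 276 9 (grp 276 ht_c2_K) tt_nc18_17_cnt_EG [g534] [g530] tt_c17_K tt_nc18_17_cnt_L 0 0 :=
  Sym.prob hn hk tt_c17_sym tt_nc18_17_cnt_EG_ok (grp_nil_le _) (Frames.cons TT_s0_F Frames.nil) (okE_cons.2 ⟨g534_ok, okE_nil _⟩) _

noncomputable def tt_nc18_17_cnt_t : BT := (BT.frm (nat_lit 0) (nat_lit 0) (nat_lit 0) [] (BT.pln (nat_lit 0) (nat_lit 1) (BT.fix (nat_lit 1) (BT.and (nat_lit 1) (nat_lit 0) (BT.cnt (nat_lit 0))))))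

theorem tt_nc18_17_cnt : Cnt 276 (grp 276 ht_c2_K) [g534] [g530] 0 0 0 0 0 :=
  BT.sound tt_nc18_17_cnt_P Known.nil (t := tt_nc18_17_cnt_t) (d := 0) (by decide +kernel)

theorem tt_nc18_17 : ¬ CjIn (grp 276 ht_c2_K) (Net.toPerm 276 g534) (Net.toPerm 276 g530) :=
  not_cjIn tt_nc18_17_cnt

noncomputable def tt_nc19_17_cnt_L : List ℕ := [0, 4, TT_s0_O, 0, 0]

theorem tt_nc19_17_cnt_P : Prob 276 9 (grp 276 ht_c2_K) tt_nc19_17_cnt_EG [g540] [g530] tt_c17_K tt_nc19_17_cnt_L 0 0 :=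
  Sym.prob hn hk tt_c17_sym tt_nc19_17_cnt_EG_ok (grp_nil_le _) (Frames.cons TT_s0_F Frames.nil) (okE_cons.2 ⟨g540_ok, okE_nil _⟩) _

noncomputable def tt_nc19_17_cnt_t : BT := (BT.frm (nat_lit 0) (nat_lit 0) (nat_lit 0) [] (BT.pln (nat_lit 0) (nat_lit 0) (BT.fix (nat_lit 1) (BT.and (nat_lit 1) (nat_lit 0) (BT.cnt (nat_lit 0))))))

theorem tt_nc19_17_cnt : Cnt 276 (grp 276 ht_c2_K) [g540] [g530] 0 0 0 0 0 :=
  BT.sound tt_nc19_17_cnt_P Known.nil (t := tt_nc19_17_cnt_t) (d := 0) (by decide +kernel)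

theorem tt_nc19_17 : ¬ CjIn (grp 276 ht_c2_K) (Net.toPerm 276 g540) (Net.toPerm 276 g530) :=
  not_cjIn tt_nc19_17_cnt

noncomputable def tt_nc19_18_cnt_L : List ℕ := [0, 4, TT_s0_O, 0, 0]

theorem tt_nc19_18_cnt_P : Prob 276 9 (grp 276 ht_c2_K) tt_nc19_18_cnt_EG [g540] [g534] tt_c18_K tt_nc19_18_cnt_L 0 0 :=
  Sym.prob hn hk tt_c18_sym tt_nc19_18_cnt_EG_ok (grp_nil_le _) (Frames.cons TT_s0_F Frames.nil) (okE_cons.2 ⟨g540_ok, okE_nil _⟩) _

noncomputable def tt_nc19_18_cnt_t : BT := (BT.frm (nat_lit 0) (nat_lit 0) (nat_lit 0) [] (BT.pln (nat_lit 0) (nat_lit 0) (BT.fix (nat_lit 1) (BT.and (nat_lit 1) (nat_lit 0) (BT.cnt (nat_lit 0))))))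

theorem tt_nc19_18_cnt : Cnt 276 (grp 276 ht_c2_K) [g540] [g534] 0 0 0 0 0 :=
  BT.sound tt_nc19_18_cnt_P Known.nil (t := tt_nc19_18_cnt_t) (d := 0) (by decide +kernel)

theorem tt_nc19_18 : ¬ CjIn (grp 276 ht_c2_K) (Net.toPerm 276 g540) (Net.toPerm 276 g534) :=
  not_cjIn tt_nc19_18_cnt

noncomputable def tt_nc22_21_cnt_L : List ℕ := [0, 4, TT_s0_O, 0, 0]

theorem tt_nc22_21_cnt_P : Prob 276 9 (grp 276 ht_c2_K) tt_nc22_21_cnt_EG [g558] [g231] tt_c21_K tt_nc22_21_cnt_L 0 0 :=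
  Sym.prob hn hk tt_c21_sym tt_nc22_21_cnt_EG_ok (grp_nil_le _) (Frames.cons TT_s0_F Frames.nil) (okE_cons.2 ⟨g558_ok, okE_nil _⟩) _

noncomputable def tt_nc22_21_cnt_t : BT := (BT.frm (nat_lit 0) (nat_lit 0) (nat_lit 0) [] (BT.pln (nat_lit 0) (nat_lit 0) (BT.fix (nat_lit 1) (BT.and (nat_lit 1) (nat_lit 0) (BT.cnt (nat_lit 0))))))

theorem tt_nc22_21_cnt : Cnt 276 (grp 276 ht_c2_K) [g558] [g231] 0 0 0 0 0 :=
  BT.sound tt_nc22_21_cnt_P Known.nil (t := tt_nc22_21_cnt_t) (d := 0) (by decide +kernel)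

theorem tt_nc22_21 : ¬ CjIn (grp 276 ht_c2_K) (Net.toPerm 276 g558) (Net.toPerm 276 g231) :=
  not_cjIn tt_nc22_21_cnt

noncomputable def tt_nc23_21_cnt_L : List ℕ := [0, 4, TT_s0_O, 0, 0]

theorem tt_nc23_21_cnt_P : Prob 276 9 (grp 276 ht_c2_K) tt_nc23_21_cnt_EG [g561] [g231] tt_c21_K tt_nc23_21_cnt_L 0 0 :=
  Sym.prob hn hk tt_c21_sym tt_nc23_21_cnt_EG_ok (grp_nil_le _) (Frames.cons TT_s0_F Frames.nil) (okE_cons.2 ⟨g561_ok, okE_nil _⟩) _

noncomputable def tt_nc23_21_cnt_t : BT := (BT.frm (nat_lit 0) (nat_lit 0) (nat_lit 0) [] (BT.pln (nat_lit 0) (nat_lit 1) (BT.fix (nat_lit 1) (BT.and (nat_lit 1) (nat_lit 0) (BT.cnt (nat_lit 0))))))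

theorem tt_nc23_21_cnt : Cnt 276 (grp 276 ht_c2_K) [g561] [g231] 0 0 0 0 0 :=
  BT.sound tt_nc23_21_cnt_P Known.nil (t := tt_nc23_21_cnt_t) (d := 0) (by decide +kernel)

theorem tt_nc23_21 : ¬ CjIn (grp 276 ht_c2_K) (Net.toPerm 276 g561) (Net.toPerm 276 g231) :=
  not_cjIn tt_nc23_21_cnt

noncomputable def tt_nc23_22_cnt_L : List ℕ := [0, 4, TT_s0_O, 0, 0]

theorem tt_nc23_22_cnt_P : Prob 276 9 (grp 276 ht_c2_K) tt_nc23_22_cnt_EG [g561] [g558] tt_c22_K tt_nc23_22_cnt_L 0 0 :=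
  Sym.prob hn hk tt_c22_sym tt_nc23_22_cnt_EG_ok (grp_nil_le _) (Frames.cons TT_s0_F Frames.nil) (okE_cons.2 ⟨g561_ok, okE_nil _⟩) _

noncomputable def tt_nc23_22_cnt_t : BT := (BT.frm (nat_lit 0) (nat_lit 0) (nat_lit 0) [] (BT.pln (nat_lit 0) (nat_lit 0) (BT.fix (nat_lit 1) (BT.and (nat_lit 1) (nat_lit 0) (BT.cnt (nat_lit 0))))))

theorem tt_nc23_22_cnt : Cnt 276 (grp 276 ht_c2_K) [g561] [g558] 0 0 0 0 0 :=
  BT.sound tt_nc23_22_cnt_P Known.nil (t := tt_nc23_22_cnt_t) (d := 0) (by decide +kernel)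

theorem tt_nc23_22 : ¬ CjIn (grp 276 ht_c2_K) (Net.toPerm 276 g561) (Net.toPerm 276 g558) :=
  not_cjIn tt_nc23_22_cnt

noncomputable def tt_nc25_24_cnt_L : List ℕ := [0, 4, TT_s0_O, 0, 0]

theorem tt_nc25_24_cnt_P : Prob 276 9 (grp 276 ht_c2_K) tt_nc25_24_cnt_EG [g568] [g565] tt_c24_K tt_nc25_24_cnt_L 0 0 :=
  Sym.prob hn hk tt_c24_sym tt_nc25_24_cnt_EG_ok (grp_nil_le _) (Frames.cons TT_s0_F Frames.nil) (okE_cons.2 ⟨g568_ok, okE_nil _⟩) _

noncomputable def tt_nc25_24_cnt_t : BT := (BT.frm (nat_lit 0) (nat_lit 0) (nat_lit 0) [] (BT.pln (nat_lit 0) (nat_lit 0) (BT.fix (nat_lit 257) (BT.and (nat_lit 1) (nat_lit 0) (BT.cnt (nat_lit 0))))))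

theorem tt_nc25_24_cnt : Cnt 276 (grp 276 ht_c2_K) [g568] [g565] 0 0 0 0 0 :=
  BT.sound tt_nc25_24_cnt_P Known.nil (t := tt_nc25_24_cnt_t) (d := 0) (by decide +kernel)

theorem tt_nc25_24 : ¬ CjIn (grp 276 ht_c2_K) (Net.toPerm 276 g568) (Net.toPerm 276 g565) :=
  not_cjIn tt_nc25_24_cnt

noncomputable def tt_nc27_24_cnt_L : List ℕ := [0, 4, TT_s0_O, 0, 0]

theorem tt_nc27_24_cnt_P : Prob 276 9 (grp 276 ht_c2_K) tt_nc27_24_cnt_EG [g581] [g565] tt_c24_K tt_nc27_24_cnt_L 0 0 :=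
  Sym.prob hn hk tt_c24_sym tt_nc27_24_cnt_EG_ok (grp_nil_le _) (Frames.cons TT_s0_F Frames.nil) (okE_cons.2 ⟨g581_ok, okE_nil _⟩) _

noncomputable def tt_nc27_24_cnt_t : BT := (BT.frm (nat_lit 0) (nat_lit 0) (nat_lit 0) [] (BT.pln (nat_lit 0) (nat_lit 0) (BT.fix (nat_lit 257) (BT.and (nat_lit 1) (nat_lit 0) (BT.cnt (nat_lit 0))))))

theorem tt_nc27_24_cnt : Cnt 276 (grp 276 ht_c2_K) [g581] [g565] 0 0 0 0 0 :=
  BT.sound tt_nc27_24_cnt_P Known.nil (t := tt_nc27_24_cnt_t) (d := 0) (by decide +kernel)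

theorem tt_nc27_24 : ¬ CjIn (grp 276 ht_c2_K) (Net.toPerm 276 g581) (Net.toPerm 276 g565) :=
  not_cjIn tt_nc27_24_cnt

noncomputable def tt_nc27_25_cnt_L : List ℕ := [0, 4, TT_s0_O, 0, 0]

theorem tt_nc27_25_cnt_P : Prob 276 9 (grp 276 ht_c2_K) tt_nc27_25_cnt_EG [g581] [g568] tt_c25_K tt_nc27_25_cnt_L 0 0 :=
  Sym.prob hn hk tt_c25_sym tt_nc27_25_cnt_EG_ok (grp_nil_le _) (Frames.cons TT_s0_F Frames.nil) (okE_cons.2 ⟨g581_ok, okE_nil _⟩) _

noncomputable def tt_nc27_25_cnt_t : BT := (BT.frm (nat_lit 0) (nat_lit 0) (nat_lit 0) [] (BT.pln (nat_lit 0) (nat_lit 1) (BT.fix (nat_lit 257) (BT.and (nat_lit 1) (nat_lit 0) (BT.cnt (nat_lit 0))))))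

theorem tt_nc27_25_cnt : Cnt 276 (grp 276 ht_c2_K) [g581] [g568] 0 0 0 0 0 :=
  BT.sound tt_nc27_25_cnt_P Known.nil (t := tt_nc27_25_cnt_t) (d := 0) (by decide +kernel)

theorem tt_nc27_25 : ¬ CjIn (grp 276 ht_c2_K) (Net.toPerm 276 g581) (Net.toPerm 276 g568) :=
  not_cjIn tt_nc27_25_cnt

noncomputable def tt_nc28_26_cnt_L : List ℕ := [0, 4, TT_s0_O, 0, 0]

theorem tt_nc28_26_cnt_P : Prob 276 9 (grp 276 ht_c2_K) tt_nc28_26_cnt_EG [g591] [g572] tt_c26_K tt_nc28_26_cnt_L 0 0 :=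
  Sym.prob hn hk tt_c26_sym tt_nc28_26_cnt_EG_ok (grp_nil_le _) (Frames.cons TT_s0_F Frames.nil) (okE_cons.2 ⟨g591_ok, okE_nil _⟩) _

noncomputable def tt_nc28_26_cnt_t : BT := (BT.frm (nat_lit 0) (nat_lit 0) (nat_lit 0) [] (BT.pln (nat_lit 0) (nat_lit 1) (BT.fix (nat_lit 1) (BT.and (nat_lit 1) (nat_lit 0) (BT.cnt (nat_lit 0))))))

theorem tt_nc28_26_cnt : Cnt 276 (grp 276 ht_c2_K) [g591] [g572] 0 0 0 0 0 :=
  BT.sound tt_nc28_26_cnt_P Known.nil (t := tt_nc28_26_cnt_t) (d := 0) (by decide +kernel)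

theorem tt_nc28_26 : ¬ CjIn (grp 276 ht_c2_K) (Net.toPerm 276 g591) (Net.toPerm 276 g572) :=
  not_cjIn tt_nc28_26_cnt

noncomputable def tt_nc29_24_cnt_L : List ℕ := [0, 4, TT_s0_O, 0, 0]

theorem tt_nc29_24_cnt_P : Prob 276 9 (grp 276 ht_c2_K) tt_nc29_24_cnt_EG [g595] [g565] tt_c24_K tt_nc29_24_cnt_L 0 0 :=
  Sym.prob hn hk tt_c24_sym tt_nc29_24_cnt_EG_ok (grp_nil_le _) (Frames.cons TT_s0_F Frames.nil) (okE_cons.2 ⟨g595_ok, okE_nil _⟩) _

noncomputable def tt_nc29_24_cnt_t : BT := (BT.frm (nat_lit 0) (nat_lit 0) (nat_lit 0) [] (BT.pln (nat_lit 0) (nat_lit 1) (BT.fix (nat_lit 65793) (BT.and (nat_lit 1) (nat_lit 0) (BT.cnt (nat_lit 0))))))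

theorem tt_nc29_24_cnt : Cnt 276 (grp 276 ht_c2_K) [g595] [g565] 0 0 0 0 0 :=
  BT.sound tt_nc29_24_cnt_P Known.nil (t := tt_nc29_24_cnt_t) (d := 0) (by decide +kernel)

theorem tt_nc29_24 : ¬ CjIn (grp 276 ht_c2_K) (Net.toPerm 276 g595) (Net.toPerm 276 g565) :=
  not_cjIn tt_nc29_24_cnt

noncomputable def tt_nc29_25_cnt_L : List ℕ := [0, 4, TT_s0_O, 0, 0]

theorem tt_nc29_25_cnt_P : Prob 276 9 (grp 276 ht_c2_K) tt_nc29_25_cnt_EG [g595] [g568] tt_c25_K tt_nc29_25_cnt_L 0 0 :=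
  Sym.prob hn hk tt_c25_sym tt_nc29_25_cnt_EG_ok (grp_nil_le _) (Frames.cons TT_s0_F Frames.nil) (okE_cons.2 ⟨g595_ok, okE_nil _⟩) _

noncomputable def tt_nc29_25_cnt_t : BT := (BT.frm (nat_lit 0) (nat_lit 0) (nat_lit 0) [] (BT.pln (nat_lit 0) (nat_lit 0) (BT.fix (nat_lit 257) (BT.and (nat_lit 1) (nat_lit 0) (BT.cnt (nat_lit 0))))))

theorem tt_nc29_25_cnt : Cnt 276 (grp 276 ht_c2_K) [g595] [g568] 0 0 0 0 0 :=
  BT.sound tt_nc29_25_cnt_P Known.nil (t := tt_nc29_25_cnt_t) (d := 0) (by decide +kernel)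

theorem tt_nc29_25 : ¬ CjIn (grp 276 ht_c2_K) (Net.toPerm 276 g595) (Net.toPerm 276 g568) :=
  not_cjIn tt_nc29_25_cnt

noncomputable def tt_nc29_27_cnt_L : List ℕ := [0, 4, TT_s0_O, 0, 0]

theorem tt_nc29_27_cnt_P : Prob 276 9 (grp 276 ht_c2_K) tt_nc29_27_cnt_EG [g595] [g581] tt_c27_K tt_nc29_27_cnt_L 0 0 :=
  Sym.prob hn hk tt_c27_sym tt_nc29_27_cnt_EG_ok (grp_nil_le _) (Frames.cons TT_s0_F Frames.nil) (okE_cons.2 ⟨g595_ok, okE_nil _⟩) _

noncomputable def tt_nc29_27_cnt_t : BT := (BT.frm (nat_lit 0) (nat_lit 0) (nat_lit 0) [] (BT.pln (nat_lit 0) (nat_lit 0) (BT.fix (nat_lit 257) (BT.and (nat_lit 1) (nat_lit 0) (BT.cnt (nat_lit 0))))))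

theorem tt_nc29_27_cnt : Cnt 276 (grp 276 ht_c2_K) [g595] [g581] 0 0 0 0 0 :=
  BT.sound tt_nc29_27_cnt_P Known.nil (t := tt_nc29_27_cnt_t) (d := 0) (by decide +kernel)

theorem tt_nc29_27 : ¬ CjIn (grp 276 ht_c2_K) (Net.toPerm 276 g595) (Net.toPerm 276 g581) :=
  not_cjIn tt_nc29_27_cnt

noncomputable def tt_nc30_26_cnt_L : List ℕ := [0, 4, TT_s0_O, 0, 0]

theorem tt_nc30_26_cnt_P : Prob 276 9 (grp 276 ht_c2_K) tt_nc30_26_cnt_EG [g600] [g572] tt_c26_K tt_nc30_26_cnt_L 0 0 :=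
  Sym.prob hn hk tt_c26_sym tt_nc30_26_cnt_EG_ok (grp_nil_le _) (Frames.cons TT_s0_F Frames.nil) (okE_cons.2 ⟨g600_ok, okE_nil _⟩) _

noncomputable def tt_nc30_26_cnt_t : BT := (BT.frm (nat_lit 0) (nat_lit 0) (nat_lit 0) [] (BT.pln (nat_lit 0) (nat_lit 0) (BT.fix (nat_lit 1) (BT.and (nat_lit 1) (nat_lit 0) (BT.cnt (nat_lit 0))))))

theorem tt_nc30_26_cnt : Cnt 276 (grp 276 ht_c2_K) [g600] [g572] 0 0 0 0 0 :=
  BT.sound tt_nc30_26_cnt_P Known.nil (t := tt_nc30_26_cnt_t) (d := 0) (by decide +kernel)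

theorem tt_nc30_26 : ¬ CjIn (grp 276 ht_c2_K) (Net.toPerm 276 g600) (Net.toPerm 276 g572) :=
  not_cjIn tt_nc30_26_cnt

noncomputable def tt_nc30_28_cnt_L : List ℕ := [0, 4, TT_s0_O, 0, 0]

theorem tt_nc30_28_cnt_P : Prob 276 9 (grp 276 ht_c2_K) tt_nc30_28_cnt_EG [g600] [g591] tt_c28_K tt_nc30_28_cnt_L 0 0 :=
  Sym.prob hn hk tt_c28_sym tt_nc30_28_cnt_EG_ok (grp_nil_le _) (Frames.cons TT_s0_F Frames.nil) (okE_cons.2 ⟨g600_ok, okE_nil _⟩) _

noncomputable def tt_nc30_28_cnt_t : BT := (BT.frm (nat_lit 0) (nat_lit 0) (nat_lit 0) [] (BT.pln (nat_lit 0) (nat_lit 0) (BT.fix (nat_lit 1) (BT.and (nat_lit 1) (nat_lit 0) (BT.cnt (nat_lit 0))))))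

theorem tt_nc30_28_cnt : Cnt 276 (grp 276 ht_c2_K) [g600] [g591] 0 0 0 0 0 :=
  BT.sound tt_nc30_28_cnt_P Known.nil (t := tt_nc30_28_cnt_t) (d := 0) (by decide +kernel)

theorem tt_nc30_28 : ¬ CjIn (grp 276 ht_c2_K) (Net.toPerm 276 g600) (Net.toPerm 276 g591) :=
  not_cjIn tt_nc30_28_cnt

noncomputable def tt_nc31_24_cnt_L : List ℕ := [0, 4, TT_s0_O, 0, 0]

theorem tt_nc31_24_cnt_P : Prob 276 9 (grp 276 ht_c2_K) tt_nc31_24_cnt_EG [g604] [g565] tt_c24_K tt_nc31_24_cnt_L 0 0 :=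
  Sym.prob hn hk tt_c24_sym tt_nc31_24_cnt_EG_ok (grp_nil_le _) (Frames.cons TT_s0_F Frames.nil) (okE_cons.2 ⟨g604_ok, okE_nil _⟩) _

noncomputable def tt_nc31_24_cnt_t : BT := (BT.frm (nat_lit 0) (nat_lit 0) (nat_lit 0) [] (BT.pln (nat_lit 0) (nat_lit 0) (BT.fix (nat_lit 257) (BT.and (nat_lit 1) (nat_lit 0) (BT.cnt (nat_lit 0))))))

theorem tt_nc31_24_cnt : Cnt 276 (grp 276 ht_c2_K) [g604] [g565] 0 0 0 0 0 :=
  BT.sound tt_nc31_24_cnt_P Known.nil (t := tt_nc31_24_cnt_t) (d := 0) (by decide +kernel)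

theorem tt_nc31_24 : ¬ CjIn (grp 276 ht_c2_K) (Net.toPerm 276 g604) (Net.toPerm 276 g565) :=
  not_cjIn tt_nc31_24_cnt

noncomputable def tt_nc31_25_cnt_L : List ℕ := [0, 4, TT_s0_O, 0, 0]

theorem tt_nc31_25_cnt_P : Prob 276 9 (grp 276 ht_c2_K) tt_nc31_25_cnt_EG [g604] [g568] tt_c25_K tt_nc31_25_cnt_L 0 0 :=
  Sym.prob hn hk tt_c25_sym tt_nc31_25_cnt_EG_ok (grp_nil_le _) (Frames.cons TT_s0_F Frames.nil) (okE_cons.2 ⟨g604_ok, okE_nil _⟩) _

noncomputable def tt_nc31_25_cnt_t : BT := (BT.frm (nat_lit 0) (nat_lit 0) (nat_lit 0) [] (BT.pln (nat_lit 0) (nat_lit 0) (BT.fix (nat_lit 65793) (BT.and (nat_lit 1) (nat_lit 0) (BT.cnt (nat_lit 0))))))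

theorem tt_nc31_25_cnt : Cnt 276 (grp 276 ht_c2_K) [g604] [g568] 0 0 0 0 0 :=
  BT.sound tt_nc31_25_cnt_P Known.nil (t := tt_nc31_25_cnt_t) (d := 0) (by decide +kernel)

theorem tt_nc31_25 : ¬ CjIn (grp 276 ht_c2_K) (Net.toPerm 276 g604) (Net.toPerm 276 g568) :=
  not_cjIn tt_nc31_25_cnt

noncomputable def tt_nc31_27_cnt_L : List ℕ := [0, 4, TT_s0_O, 0, 0]

theorem tt_nc31_27_cnt_P : Prob 276 9 (grp 276 ht_c2_K) tt_nc31_27_cnt_EG [g604] [g581] tt_c27_K tt_nc31_27_cnt_L 0 0 :=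
  Sym.prob hn hk tt_c27_sym tt_nc31_27_cnt_EG_ok (grp_nil_le _) (Frames.cons TT_s0_F Frames.nil) (okE_cons.2 ⟨g604_ok, okE_nil _⟩) _

noncomputable def tt_nc31_27_cnt_t : BT := (BT.frm (nat_lit 0) (nat_lit 0) (nat_lit 0) [] (BT.pln (nat_lit 0) (nat_lit 0) (BT.fix (nat_lit 65793) (BT.and (nat_lit 1) (nat_lit 0) (BT.cnt (nat_lit 0))))))

theorem tt_nc31_27_cnt : Cnt 276 (grp 276 ht_c2_K) [g604] [g581] 0 0 0 0 0 :=
  BT.sound tt_nc31_27_cnt_P Known.nil (t := tt_nc31_27_cnt_t) (d := 0) (by decide +kernel)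

theorem tt_nc31_27 : ¬ CjIn (grp 276 ht_c2_K) (Net.toPerm 276 g604) (Net.toPerm 276 g581) :=
  not_cjIn tt_nc31_27_cnt

noncomputable def tt_nc31_29_cnt_L : List ℕ := [0, 4, TT_s0_O, 0, 0]

theorem tt_nc31_29_cnt_P : Prob 276 9 (grp 276 ht_c2_K) tt_nc31_29_cnt_EG [g604] [g595] tt_c29_K tt_nc31_29_cnt_L 0 0 :=
  Sym.prob hn hk tt_c29_sym tt_nc31_29_cnt_EG_ok (grp_nil_le _) (Frames.cons TT_s0_F Frames.nil) (okE_cons.2 ⟨g604_ok, okE_nil _⟩) _

noncomputable def tt_nc31_29_cnt_t : BT := (BT.frm (nat_lit 0) (nat_lit 0) (nat_lit 0) [] (BT.pln (nat_lit 0) (nat_lit 0) (BT.fix (nat_lit 257) (BT.and (nat_lit 1) (nat_lit 0) (BT.cnt (nat_lit 0))))))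

theorem tt_nc31_29_cnt : Cnt 276 (grp 276 ht_c2_K) [g604] [g595] 0 0 0 0 0 :=
  BT.sound tt_nc31_29_cnt_P Known.nil (t := tt_nc31_29_cnt_t) (d := 0) (by decide +kernel)

theorem tt_nc31_29 : ¬ CjIn (grp 276 ht_c2_K) (Net.toPerm 276 g604) (Net.toPerm 276 g595) :=
  not_cjIn tt_nc31_29_cnt

noncomputable def tt_nc32_24_cnt_L : List ℕ := [0, 4, TT_s0_O, 0, 0]

theorem tt_nc32_24_cnt_P : Prob 276 9 (grp 276 ht_c2_K) tt_nc32_24_cnt_EG [g609] [g565] tt_c24_K tt_nc32_24_cnt_L 0 0 :=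
  Sym.prob hn hk tt_c24_sym tt_nc32_24_cnt_EG_ok (grp_nil_le _) (Frames.cons TT_s0_F Frames.nil) (okE_cons.2 ⟨g609_ok, okE_nil _⟩) _

noncomputable def tt_nc32_24_cnt_t : BT := (BT.frm (nat_lit 0) (nat_lit 0) (nat_lit 0) [] (BT.pln (nat_lit 0) (nat_lit 0) (BT.fix (nat_lit 257) (BT.and (nat_lit 1) (nat_lit 0) (BT.cnt (nat_lit 0))))))

theorem tt_nc32_24_cnt : Cnt 276 (grp 276 ht_c2_K) [g609] [g565] 0 0 0 0 0 :=
  BT.sound tt_nc32_24_cnt_P Known.nil (t := tt_nc32_24_cnt_t) (d := 0) (by decide +kernel)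

theorem tt_nc32_24 : ¬ CjIn (grp 276 ht_c2_K) (Net.toPerm 276 g609) (Net.toPerm 276 g565) :=
  not_cjIn tt_nc32_24_cnt

noncomputable def tt_nc32_25_cnt_L : List ℕ := [0, 4, TT_s0_O, 0, 0]

theorem tt_nc32_25_cnt_P : Prob 276 9 (grp 276 ht_c2_K) tt_nc32_25_cnt_EG [g609] [g568] tt_c25_K tt_nc32_25_cnt_L 0 0 :=
  Sym.prob hn hk tt_c25_sym tt_nc32_25_cnt_EG_ok (grp_nil_le _) (Frames.cons TT_s0_F Frames.nil) (okE_cons.2 ⟨g609_ok, okE_nil _⟩) _

noncomputable def tt_nc32_25_cnt_t : BT := (BT.frm (nat_lit 0) (nat_lit 0) (nat_lit 0) [] (BT.pln (nat_lit 0) (nat_lit 0) (BT.fix (nat_lit 65793) (BT.and (nat_lit 1) (nat_lit 0) (BT.cnt (nat_lit 0))))))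

theorem tt_nc32_25_cnt : Cnt 276 (grp 276 ht_c2_K) [g609] [g568] 0 0 0 0 0 :=
  BT.sound tt_nc32_25_cnt_P Known.nil (t := tt_nc32_25_cnt_t) (d := 0) (by decide +kernel)

theorem tt_nc32_25 : ¬ CjIn (grp 276 ht_c2_K) (Net.toPerm 276 g609) (Net.toPerm 276 g568) :=
  not_cjIn tt_nc32_25_cnt

noncomputable def tt_nc32_27_cnt_L : List ℕ := [0, 4, TT_s0_O, 0, 0]

theorem tt_nc32_27_cnt_P : Prob 276 9 (grp 276 ht_c2_K) tt_nc32_27_cnt_EG [g609] [g581] tt_c27_K tt_nc32_27_cnt_L 0 0 :=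
  Sym.prob hn hk tt_c27_sym tt_nc32_27_cnt_EG_ok (grp_nil_le _) (Frames.cons TT_s0_F Frames.nil) (okE_cons.2 ⟨g609_ok, okE_nil _⟩) _

noncomputable def tt_nc32_27_cnt_t : BT := (BT.frm (nat_lit 0) (nat_lit 0) (nat_lit 0) [] (BT.pln (nat_lit 0) (nat_lit 0) (BT.fix (nat_lit 65793) (BT.and (nat_lit 1) (nat_lit 0) (BT.cnt (nat_lit 0))))))

theorem tt_nc32_27_cnt : Cnt 276 (grp 276 ht_c2_K) [g609] [g581] 0 0 0 0 0 :=
  BT.sound tt_nc32_27_cnt_P Known.nil (t := tt_nc32_27_cnt_t) (d := 0) (by decide +kernel)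

theorem tt_nc32_27 : ¬ CjIn (grp 276 ht_c2_K) (Net.toPerm 276 g609) (Net.toPerm 276 g581) :=
  not_cjIn tt_nc32_27_cnt

noncomputable def tt_nc32_29_cnt_L : List ℕ := [0, 4, TT_s0_O, 0, 0]

theorem tt_nc32_29_cnt_P : Prob 276 9 (grp 276 ht_c2_K) tt_nc32_29_cnt_EG [g609] [g595] tt_c29_K tt_nc32_29_cnt_L 0 0 :=
  Sym.prob hn hk tt_c29_sym tt_nc32_29_cnt_EG_ok (grp_nil_le _) (Frames.cons TT_s0_F Frames.nil) (okE_cons.2 ⟨g609_ok, okE_nil _⟩) _

noncomputable def tt_nc32_29_cnt_t : BT := (BT.frm (nat_lit 0) (nat_lit 0) (nat_lit 0) [] (BT.pln (nat_lit 0) (nat_lit 0) (BT.fix (nat_lit 257) (BT.and (nat_lit 1) (nat_lit 0) (BT.cnt (nat_lit 0))))))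

theorem tt_nc32_29_cnt : Cnt 276 (grp 276 ht_c2_K) [g609] [g595] 0 0 0 0 0 :=
  BT.sound tt_nc32_29_cnt_P Known.nil (t := tt_nc32_29_cnt_t) (d := 0) (by decide +kernel)

theorem tt_nc32_29 : ¬ CjIn (grp 276 ht_c2_K) (Net.toPerm 276 g609) (Net.toPerm 276 g595) :=
  not_cjIn tt_nc32_29_cnt

noncomputable def tt_nc32_31_cnt_L : List ℕ := [0, 4, TT_s0_O, 0, 0]

theorem tt_nc32_31_cnt_P : Prob 276 9 (grp 276 ht_c2_K) tt_nc32_31_cnt_EG [g609] [g604] tt_c31_K tt_nc32_31_cnt_L 0 0 :=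
  Sym.prob hn hk tt_c31_sym tt_nc32_31_cnt_EG_ok (grp_nil_le _) (Frames.cons TT_s0_F Frames.nil) (okE_cons.2 ⟨g609_ok, okE_nil _⟩) _

noncomputable def tt_nc32_31_cnt_t : BT := (BT.frm (nat_lit 0) (nat_lit 0) (nat_lit 0) [] (BT.pln (nat_lit 0) (nat_lit 1) (BT.fix (nat_lit 257) (BT.and (nat_lit 1) (nat_lit 0) (BT.cnt (nat_lit 0))))))

theorem tt_nc32_31_cnt : Cnt 276 (grp 276 ht_c2_K) [g609] [g604] 0 0 0 0 0 :=
  BT.sound tt_nc32_31_cnt_P Known.nil (t := tt_nc32_31_cnt_t) (d := 0) (by decide +kernel)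

theorem tt_nc32_31 : ¬ CjIn (grp 276 ht_c2_K) (Net.toPerm 276 g609) (Net.toPerm 276 g604) :=
  not_cjIn tt_nc32_31_cnt

noncomputable def tt_nc34_33_cnt_L : List ℕ := [0, 4, TT_s0_O, 0, 0]

theorem tt_nc34_33_cnt_P : Prob 276 9 (grp 276 ht_c2_K) tt_nc34_33_cnt_EG [g616] [g613] tt_c33_K tt_nc34_33_cnt_L 0 0 :=
  Sym.prob hn hk tt_c33_sym tt_nc34_33_cnt_EG_ok (grp_nil_le _) (Frames.cons TT_s0_F Frames.nil) (okE_cons.2 ⟨g616_ok, okE_nil _⟩) _

noncomputable def tt_nc34_33_cnt_t : BT := (BT.frm (nat_lit 0) (nat_lit 0) (nat_lit 0) [] (BT.pln (nat_lit 0) (nat_lit 0) (BT.fix (nat_lit 65793) (BT.and (nat_lit 1) (nat_lit 0) (BT.cnt (nat_lit 0))))))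

theorem tt_nc34_33_cnt : Cnt 276 (grp 276 ht_c2_K) [g616] [g613] 0 0 0 0 0 :=
  BT.sound tt_nc34_33_cnt_P Known.nil (t := tt_nc34_33_cnt_t) (d := 0) (by decide +kernel)

theorem tt_nc34_33 : ¬ CjIn (grp 276 ht_c2_K) (Net.toPerm 276 g616) (Net.toPerm 276 g613) :=
  not_cjIn tt_nc34_33_cnt

noncomputable def tt_nc35_33_cnt_L : List ℕ := [0, 4, TT_s0_O, 0, 0]

theorem tt_nc35_33_cnt_P : Prob 276 9 (grp 276 ht_c2_K) tt_nc35_33_cnt_EG [g622] [g613] tt_c33_K tt_nc35_33_cnt_L 0 0 :=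
  Sym.prob hn hk tt_c33_sym tt_nc35_33_cnt_EG_ok (grp_nil_le _) (Frames.cons TT_s0_F Frames.nil) (okE_cons.2 ⟨g622_ok, okE_nil _⟩) _

noncomputable def tt_nc35_33_cnt_t : BT := (BT.frm (nat_lit 0) (nat_lit 0) (nat_lit 0) [] (BT.pln (nat_lit 0) (nat_lit 1) (BT.fix (nat_lit 65793) (BT.and (nat_lit 1) (nat_lit 0) (BT.cnt (nat_lit 0))))))

theorem tt_nc35_33_cnt : Cnt 276 (grp 276 ht_c2_K) [g622] [g613] 0 0 0 0 0 :=
  BT.sound tt_nc35_33_cnt_P Known.nil (t := tt_nc35_33_cnt_t) (d := 0) (by decide +kernel)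

theorem tt_nc35_33 : ¬ CjIn (grp 276 ht_c2_K) (Net.toPerm 276 g622) (Net.toPerm 276 g613) :=
  not_cjIn tt_nc35_33_cnt

noncomputable def tt_nc35_34_cnt_L : List ℕ := [0, 4, TT_s0_O, 0, 0]

theorem tt_nc35_34_cnt_P : Prob 276 9 (grp 276 ht_c2_K) tt_nc35_34_cnt_EG [g622] [g616] tt_c34_K tt_nc35_34_cnt_L 0 0 :=
  Sym.prob hn hk tt_c34_sym tt_nc35_34_cnt_EG_ok (grp_nil_le _) (Frames.cons TT_s0_F Frames.nil) (okE_cons.2 ⟨g622_ok, okE_nil _⟩) _

noncomputable def tt_nc35_34_cnt_t : BT := (BT.frm (nat_lit 0) (nat_lit 0) (nat_lit 0) [] (BT.pln (nat_lit 0) (nat_lit 0) (BT.fix (nat_lit 65793) (BT.and (nat_lit 1) (nat_lit 0) (BT.cnt (nat_lit 0))))))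

theorem tt_nc35_34_cnt : Cnt 276 (grp 276 ht_c2_K) [g622] [g616] 0 0 0 0 0 :=
  BT.sound tt_nc35_34_cnt_P Known.nil (t := tt_nc35_34_cnt_t) (d := 0) (by decide +kernel)

theorem tt_nc35_34 : ¬ CjIn (grp 276 ht_c2_K) (Net.toPerm 276 g622) (Net.toPerm 276 g616) :=
  not_cjIn tt_nc35_34_cnt

noncomputable def tt_nc38_36_cnt_L : List ℕ := [0, 4, TT_s0_O, 0, 0]

theorem tt_nc38_36_cnt_P : Prob 276 9 (grp 276 ht_c2_K) tt_nc38_36_cnt_EG [g636] [g625] tt_c36_K tt_nc38_36_cnt_L 0 0 :=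
  Sym.prob hn hk tt_c36_sym tt_nc38_36_cnt_EG_ok (grp_nil_le _) (Frames.cons TT_s0_F Frames.nil) (okE_cons.2 ⟨g636_ok, okE_nil _⟩) _

noncomputable def tt_nc38_36_cnt_t : BT := (BT.frm (nat_lit 0) (nat_lit 0) (nat_lit 0) [] (BT.pln (nat_lit 0) (nat_lit 1) (BT.fix (nat_lit 257) (BT.and (nat_lit 1) (nat_lit 0) (BT.cnt (nat_lit 0))))))

theorem tt_nc38_36_cnt : Cnt 276 (grp 276 ht_c2_K) [g636] [g625] 0 0 0 0 0 :=
  BT.sound tt_nc38_36_cnt_P Known.nil (t := tt_nc38_36_cnt_t) (d := 0) (by decide +kernel)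

theorem tt_nc38_36 : ¬ CjIn (grp 276 ht_c2_K) (Net.toPerm 276 g636) (Net.toPerm 276 g625) :=
  not_cjIn tt_nc38_36_cnt

noncomputable def tt_nc39_37_cnt_L : List ℕ := [0, 4, TT_s0_O, 0, 0]

theorem tt_nc39_37_cnt_P : Prob 276 9 (grp 276 ht_c2_K) tt_nc39_37_cnt_EG [g639] [g628] tt_c37_K tt_nc39_37_cnt_L 0 0 :=
  Sym.prob hn hk tt_c37_sym tt_nc39_37_cnt_EG_ok (grp_nil_le _) (Frames.cons TT_s0_F Frames.nil) (okE_cons.2 ⟨g639_ok, okE_nil _⟩) _

noncomputable def tt_nc39_37_cnt_t : BT := (BT.frm (nat_lit 0) (nat_lit 0) (nat_lit 0) [] (BT.pln (nat_lit 0) (nat_lit 1) (BT.fix (nat_lit 1) (BT.and (nat_lit 1) (nat_lit 0) (BT.cnt (nat_lit 0))))))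

theorem tt_nc39_37_cnt : Cnt 276 (grp 276 ht_c2_K) [g639] [g628] 0 0 0 0 0 :=
  BT.sound tt_nc39_37_cnt_P Known.nil (t := tt_nc39_37_cnt_t) (d := 0) (by decide +kernel)

theorem tt_nc39_37 : ¬ CjIn (grp 276 ht_c2_K) (Net.toPerm 276 g639) (Net.toPerm 276 g628) :=
  not_cjIn tt_nc39_37_cnt

noncomputable def tt_nc40_36_cnt_L : List ℕ := [0, 4, TT_s0_O, 0, 0]

theorem tt_nc40_36_cnt_P : Prob 276 9 (grp 276 ht_c2_K) tt_nc40_36_cnt_EG [g642] [g625] tt_c36_K tt_nc40_36_cnt_L 0 0 :=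
  Sym.prob hn hk tt_c36_sym tt_nc40_36_cnt_EG_ok (grp_nil_le _) (Frames.cons TT_s0_F Frames.nil) (okE_cons.2 ⟨g642_ok, okE_nil _⟩) _

noncomputable def tt_nc40_36_cnt_t : BT := (BT.frm (nat_lit 0) (nat_lit 0) (nat_lit 0) [] (BT.pln (nat_lit 0) (nat_lit 0) (BT.fix (nat_lit 257) (BT.and (nat_lit 1) (nat_lit 0) (BT.cnt (nat_lit 0))))))

theorem tt_nc40_36_cnt : Cnt 276 (grp 276 ht_c2_K) [g642] [g625] 0 0 0 0 0 :=
  BT.sound tt_nc40_36_cnt_P Known.nil (t := tt_nc40_36_cnt_t) (d := 0) (by decide +kernel)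

theorem tt_nc40_36 : ¬ CjIn (grp 276 ht_c2_K) (Net.toPerm 276 g642) (Net.toPerm 276 g625) :=
  not_cjIn tt_nc40_36_cnt

noncomputable def tt_nc40_38_cnt_L : List ℕ := [0, 4, TT_s0_O, 0, 0]

theorem tt_nc40_38_cnt_P : Prob 276 9 (grp 276 ht_c2_K) tt_nc40_38_cnt_EG [g642] [g636] tt_c38_K tt_nc40_38_cnt_L 0 0 :=
  Sym.prob hn hk tt_c38_sym tt_nc40_38_cnt_EG_ok (grp_nil_le _) (Frames.cons TT_s0_F Frames.nil) (okE_cons.2 ⟨g642_ok, okE_nil _⟩) _

noncomputable def tt_nc40_38_cnt_t : BT := (BT.frm (nat_lit 0) (nat_lit 0) (nat_lit 0) [] (BT.pln (nat_lit 0) (nat_lit 0) (BT.fix (nat_lit 257) (BT.and (nat_lit 1) (nat_lit 0) (BT.cnt (nat_lit 0))))))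

theorem tt_nc40_38_cnt : Cnt 276 (grp 276 ht_c2_K) [g642] [g636] 0 0 0 0 0 :=
  BT.sound tt_nc40_38_cnt_P Known.nil (t := tt_nc40_38_cnt_t) (d := 0) (by decide +kernel)

theorem tt_nc40_38 : ¬ CjIn (grp 276 ht_c2_K) (Net.toPerm 276 g642) (Net.toPerm 276 g636) :=
  not_cjIn tt_nc40_38_cnt

noncomputable def tt_nc41_37_cnt_L : List ℕ := [0, 4, TT_s0_O, 0, 0]

theorem tt_nc41_37_cnt_P : Prob 276 9 (grp 276 ht_c2_K) tt_nc41_37_cnt_EG [g650] [g628] tt_c37_K tt_nc41_37_cnt_L 0 0 :=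
  Sym.prob hn hk tt_c37_sym tt_nc41_37_cnt_EG_ok (grp_nil_le _) (Frames.cons TT_s0_F Frames.nil) (okE_cons.2 ⟨g650_ok, okE_nil _⟩) _

noncomputable def tt_nc41_37_cnt_t : BT := (BT.frm (nat_lit 0) (nat_lit 0) (nat_lit 0) [] (BT.pln (nat_lit 0) (nat_lit 0) (BT.fix (nat_lit 1) (BT.and (nat_lit 1) (nat_lit 0) (BT.cnt (nat_lit 0))))))

theorem tt_nc41_37_cnt : Cnt 276 (grp 276 ht_c2_K) [g650] [g628] 0 0 0 0 0 :=
  BT.sound tt_nc41_37_cnt_P Known.nil (t := tt_nc41_37_cnt_t) (d := 0) (by decide +kernel)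

theorem tt_nc41_37 : ¬ CjIn (grp 276 ht_c2_K) (Net.toPerm 276 g650) (Net.toPerm 276 g628) :=
  not_cjIn tt_nc41_37_cnt

noncomputable def tt_nc41_39_cnt_L : List ℕ := [0, 4, TT_s0_O, 0, 0]

theorem tt_nc41_39_cnt_P : Prob 276 9 (grp 276 ht_c2_K) tt_nc41_39_cnt_EG [g650] [g639] tt_c39_K tt_nc41_39_cnt_L 0 0 :=
  Sym.prob hn hk tt_c39_sym tt_nc41_39_cnt_EG_ok (grp_nil_le _) (Frames.cons TT_s0_F Frames.nil) (okE_cons.2 ⟨g650_ok, okE_nil _⟩) _

noncomputable def tt_nc41_39_cnt_t : BT := (BT.frm (nat_lit 0) (nat_lit 0) (nat_lit 0) [] (BT.pln (nat_lit 0) (nat_lit 0) (BT.fix (nat_lit 1) (BT.and (nat_lit 1) (nat_lit 0) (BT.cnt (nat_lit 0))))))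

theorem tt_nc41_39_cnt : Cnt 276 (grp 276 ht_c2_K) [g650] [g639] 0 0 0 0 0 :=
  BT.sound tt_nc41_39_cnt_P Known.nil (t := tt_nc41_39_cnt_t) (d := 0) (by decide +kernel)

theorem tt_nc41_39 : ¬ CjIn (grp 276 ht_c2_K) (Net.toPerm 276 g650) (Net.toPerm 276 g639) :=
  not_cjIn tt_nc41_39_cnt

noncomputable def tt_nc43_42_cnt_L : List ℕ := [0, 4, TT_s0_O, 0, 0]

theorem tt_nc43_42_cnt_P : Prob 276 9 (grp 276 ht_c2_K) tt_nc43_42_cnt_EG [g659] [g653] tt_c42_K tt_nc43_42_cnt_L 0 0 :=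
  Sym.prob hn hk tt_c42_sym tt_nc43_42_cnt_EG_ok (grp_nil_le _) (Frames.cons TT_s0_F Frames.nil) (okE_cons.2 ⟨g659_ok, okE_nil _⟩) _

noncomputable def tt_nc43_42_cnt_t : BT := (BT.frm (nat_lit 0) (nat_lit 0) (nat_lit 0) [] (BT.pln (nat_lit 0) (nat_lit 1) (BT.fix (nat_lit 1) (BT.and (nat_lit 1) (nat_lit 0) (BT.cnt (nat_lit 0))))))

theorem tt_nc43_42_cnt : Cnt 276 (grp 276 ht_c2_K) [g659] [g653] 0 0 0 0 0 :=
  BT.sound tt_nc43_42_cnt_P Known.nil (t := tt_nc43_42_cnt_t) (d := 0) (by decide +kernel)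

theorem tt_nc43_42 : ¬ CjIn (grp 276 ht_c2_K) (Net.toPerm 276 g659) (Net.toPerm 276 g653) :=
  not_cjIn tt_nc43_42_cnt

noncomputable def tt_nc44_42_cnt_L : List ℕ := [0, 4, TT_s0_O, 0, 0]

theorem tt_nc44_42_cnt_P : Prob 276 9 (grp 276 ht_c2_K) tt_nc44_42_cnt_EG [g662] [g653] tt_c42_K tt_nc44_42_cnt_L 0 0 :=
  Sym.prob hn hk tt_c42_sym tt_nc44_42_cnt_EG_ok (grp_nil_le _) (Frames.cons TT_s0_F Frames.nil) (okE_cons.2 ⟨g662_ok, okE_nil _⟩) _

noncomputable def tt_nc44_42_cnt_t : BT := (BT.frm (nat_lit 0) (nat_lit 0) (nat_lit 0) [] (BT.pln (nat_lit 0) (nat_lit 0) (BT.fix (nat_lit 1) (BT.and (nat_lit 1) (nat_lit 0) (BT.cnt (nat_lit 0))))))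

theorem tt_nc44_42_cnt : Cnt 276 (grp 276 ht_c2_K) [g662] [g653] 0 0 0 0 0 :=
  BT.sound tt_nc44_42_cnt_P Known.nil (t := tt_nc44_42_cnt_t) (d := 0) (by decide +kernel)

theorem tt_nc44_42 : ¬ CjIn (grp 276 ht_c2_K) (Net.toPerm 276 g662) (Net.toPerm 276 g653) :=
  not_cjIn tt_nc44_42_cnt

noncomputable def tt_nc44_43_cnt_L : List ℕ := [0, 4, TT_s0_O, 0, 0]

theorem tt_nc44_43_cnt_P : Prob 276 9 (grp 276 ht_c2_K) tt_nc44_43_cnt_EG [g662] [g659] tt_c43_K tt_nc44_43_cnt_L 0 0 :=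
  Sym.prob hn hk tt_c43_sym tt_nc44_43_cnt_EG_ok (grp_nil_le _) (Frames.cons TT_s0_F Frames.nil) (okE_cons.2 ⟨g662_ok, okE_nil _⟩) _

noncomputable def tt_nc44_43_cnt_t : BT := (BT.frm (nat_lit 0) (nat_lit 0) (nat_lit 0) [] (BT.pln (nat_lit 0) (nat_lit 0) (BT.fix (nat_lit 1) (BT.and (nat_lit 1) (nat_lit 0) (BT.cnt (nat_lit 0))))))

theorem tt_nc44_43_cnt : Cnt 276 (grp 276 ht_c2_K) [g662] [g659] 0 0 0 0 0 :=
  BT.sound tt_nc44_43_cnt_P Known.nil (t := tt_nc44_43_cnt_t) (d := 0) (by decide +kernel)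

theorem tt_nc44_43 : ¬ CjIn (grp 276 ht_c2_K) (Net.toPerm 276 g662) (Net.toPerm 276 g659) :=
  not_cjIn tt_nc44_43_cnt

noncomputable def tt_nc47_45_cnt_L : List ℕ := [0, 4, TT_s0_O, 0, 0]

theorem tt_nc47_45_cnt_P : Prob 276 9 (grp 276 ht_c2_K) tt_nc47_45_cnt_EG [g671] [g666] tt_c45_K tt_nc47_45_cnt_L 0 0 :=
  Sym.prob hn hk tt_c45_sym tt_nc47_45_cnt_EG_ok (grp_nil_le _) (Frames.cons TT_s0_F Frames.nil) (okE_cons.2 ⟨g671_ok, okE_nil _⟩) _

noncomputable def tt_nc47_45_cnt_t : BT := (BT.frm (nat_lit 0) (nat_lit 0) (nat_lit 0) [] (BT.pln (nat_lit 0) (nat_lit 0) (BT.fix (nat_lit 1) (BT.and (nat_lit 1) (nat_lit 0) (BT.cnt (nat_lit 0))))))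

theorem tt_nc47_45_cnt : Cnt 276 (grp 276 ht_c2_K) [g671] [g666] 0 0 0 0 0 :=
  BT.sound tt_nc47_45_cnt_P Known.nil (t := tt_nc47_45_cnt_t) (d := 0) (by decide +kernel)

theorem tt_nc47_45 : ¬ CjIn (grp 276 ht_c2_K) (Net.toPerm 276 g671) (Net.toPerm 276 g666) :=
  not_cjIn tt_nc47_45_cnt

noncomputable def tt_nc48_46_cnt_L : List ℕ := [0, 4, TT_s0_O, 0, 0]

theorem tt_nc48_46_cnt_P : Prob 276 9 (grp 276 ht_c2_K) tt_nc48_46_cnt_EG [g673] [g669] tt_c46_K tt_nc48_46_cnt_L 0 0 :=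
  Sym.prob hn hk tt_c46_sym tt_nc48_46_cnt_EG_ok (grp_nil_le _) (Frames.cons TT_s0_F Frames.nil) (okE_cons.2 ⟨g673_ok, okE_nil _⟩) _

noncomputable def tt_nc48_46_cnt_t : BT := (BT.frm (nat_lit 0) (nat_lit 0) (nat_lit 0) [] (BT.pln (nat_lit 0) (nat_lit 1) (BT.fix (nat_lit 1) (BT.and (nat_lit 1) (nat_lit 0) (BT.cnt (nat_lit 0))))))

theorem tt_nc48_46_cnt : Cnt 276 (grp 276 ht_c2_K) [g673] [g669] 0 0 0 0 0 :=
  BT.sound tt_nc48_46_cnt_P Known.nil (t := tt_nc48_46_cnt_t) (d := 0) (by decide +kernel)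

theorem tt_nc48_46 : ¬ CjIn (grp 276 ht_c2_K) (Net.toPerm 276 g673) (Net.toPerm 276 g669) :=
  not_cjIn tt_nc48_46_cnt

noncomputable def tt_nc49_45_cnt_L : List ℕ := [0, 4, TT_s0_O, 0, 0]

theorem tt_nc49_45_cnt_P : Prob 276 9 (grp 276 ht_c2_K) tt_nc49_45_cnt_EG [g675] [g666] tt_c45_K tt_nc49_45_cnt_L 0 0 :=
  Sym.prob hn hk tt_c45_sym tt_nc49_45_cnt_EG_ok (grp_nil_le _) (Frames.cons TT_s0_F Frames.nil) (okE_cons.2 ⟨g675_ok, okE_nil _⟩) _

noncomputable def tt_nc49_45_cnt_t : BT := (BT.frm (nat_lit 0) (nat_lit 0) (nat_lit 0) [] (BT.pln (nat_lit 0) (nat_lit 1) (BT.fix (nat_lit 1) (BT.and (nat_lit 1) (nat_lit 0) (BT.cnt (nat_lit 0))))))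

theorem tt_nc49_45_cnt : Cnt 276 (grp 276 ht_c2_K) [g675] [g666] 0 0 0 0 0 :=
  BT.sound tt_nc49_45_cnt_P Known.nil (t := tt_nc49_45_cnt_t) (d := 0) (by decide +kernel)

theorem tt_nc49_45 : ¬ CjIn (grp 276 ht_c2_K) (Net.toPerm 276 g675) (Net.toPerm 276 g666) :=
  not_cjIn tt_nc49_45_cnt

noncomputable def tt_nc49_47_cnt_L : List ℕ := [0, 4, TT_s0_O, 0, 0]

theorem tt_nc49_47_cnt_P : Prob 276 9 (grp 276 ht_c2_K) tt_nc49_47_cnt_EG [g675] [g671] tt_c47_K tt_nc49_47_cnt_L 0 0 :=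
  Sym.prob hn hk tt_c47_sym tt_nc49_47_cnt_EG_ok (grp_nil_le _) (Frames.cons TT_s0_F Frames.nil) (okE_cons.2 ⟨g675_ok, okE_nil _⟩) _

noncomputable def tt_nc49_47_cnt_t : BT := (BT.frm (nat_lit 0) (nat_lit 0) (nat_lit 0) [] (BT.pln (nat_lit 0) (nat_lit 0) (BT.fix (nat_lit 1) (BT.and (nat_lit 1) (nat_lit 0) (BT.cnt (nat_lit 0))))))

theorem tt_nc49_47_cnt : Cnt 276 (grp 276 ht_c2_K) [g675] [g671] 0 0 0 0 0 :=
  BT.sound tt_nc49_47_cnt_P Known.nil (t := tt_nc49_47_cnt_t) (d := 0) (by decide +kernel)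

theorem tt_nc49_47 : ¬ CjIn (grp 276 ht_c2_K) (Net.toPerm 276 g675) (Net.toPerm 276 g671) :=
  not_cjIn tt_nc49_47_cnt

noncomputable def tt_nc50_46_cnt_L : List ℕ := [0, 4, TT_s0_O, 0, 0]

theorem tt_nc50_46_cnt_P : Prob 276 9 (grp 276 ht_c2_K) tt_nc50_46_cnt_EG [g677] [g669] tt_c46_K tt_nc50_46_cnt_L 0 0 :=
  Sym.prob hn hk tt_c46_sym tt_nc50_46_cnt_EG_ok (grp_nil_le _) (Frames.cons TT_s0_F Frames.nil) (okE_cons.2 ⟨g677_ok, okE_nil _⟩) _

noncomputable def tt_nc50_46_cnt_t : BT := (BT.frm (nat_lit 0) (nat_lit 0) (nat_lit 0) [] (BT.pln (nat_lit 0) (nat_lit 0) (BT.fix (nat_lit 1) (BT.and (nat_lit 1) (nat_lit 0) (BT.cnt (nat_lit 0))))))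

theorem tt_nc50_46_cnt : Cnt 276 (grp 276 ht_c2_K) [g677] [g669] 0 0 0 0 0 :=
  BT.sound tt_nc50_46_cnt_P Known.nil (t := tt_nc50_46_cnt_t) (d := 0) (by decide +kernel)

theorem tt_nc50_46 : ¬ CjIn (grp 276 ht_c2_K) (Net.toPerm 276 g677) (Net.toPerm 276 g669) :=
  not_cjIn tt_nc50_46_cnt

noncomputable def tt_nc50_48_cnt_L : List ℕ := [0, 4, TT_s0_O, 0, 0]

theorem tt_nc50_48_cnt_P : Prob 276 9 (grp 276 ht_c2_K) tt_nc50_48_cnt_EG [g677] [g673] tt_c48_K tt_nc50_48_cnt_L 0 0 :=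
  Sym.prob hn hk tt_c48_sym tt_nc50_48_cnt_EG_ok (grp_nil_le _) (Frames.cons TT_s0_F Frames.nil) (okE_cons.2 ⟨g677_ok, okE_nil _⟩) _

noncomputable def tt_nc50_48_cnt_t : BT := (BT.frm (nat_lit 0) (nat_lit 0) (nat_lit 0) [] (BT.pln (nat_lit 0) (nat_lit 0) (BT.fix (nat_lit 1) (BT.and (nat_lit 1) (nat_lit 0) (BT.cnt (nat_lit 0))))))

theorem tt_nc50_48_cnt : Cnt 276 (grp 276 ht_c2_K) [g677] [g673] 0 0 0 0 0 :=
  BT.sound tt_nc50_48_cnt_P Known.nil (t := tt_nc50_48_cnt_t) (d := 0) (by decide +kernel)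

theorem tt_nc50_48 : ¬ CjIn (grp 276 ht_c2_K) (Net.toPerm 276 g677) (Net.toPerm 276 g673) :=
  not_cjIn tt_nc50_48_cnt

theorem tt_exc : Exc 276 (grp 276 ht_c2_K) tt_xs [50048, 50046, 49047, 49045, 48046, 47045, 44043, 44042, 43042, 41039, 41037, 40038, 40036, 39037, 38036, 35034, 35033, 34033, 32031, 32029, 32027, 32025, 32024, 31029, 31027, 31025, 31024, 30028, 30026, 29027, 29025, 29024, 28026, 27025, 27024, 25024, 23022, 23021, 22021, 19018, 19017, 18017, 16015, 16012, 15012, 14013, 14011, 13011, 9008, 9007, 8007, 3002, 3001, 2001] :=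
  (Exc.cons 50 48 (by decide) tt_nc50_48 (Exc.cons 50 46 (by decide) tt_nc50_46 (Exc.cons 49 47 (by decide) tt_nc49_47 (Exc.cons 49 45 (by decide) tt_nc49_45 (Exc.cons 48 46 (by decide) tt_nc48_46 (Exc.cons 47 45 (by decide) tt_nc47_45 (Exc.cons 44 43 (by decide) tt_nc44_43 (Exc.cons 44 42 (by decide) tt_nc44_42 (Exc.cons 43 42 (by decide) tt_nc43_42 (Exc.cons 41 39 (by decide) tt_nc41_39 (Exc.cons 41 37 (by decide) tt_nc41_37 (Exc.cons 40 38 (by decide) tt_nc40_38 (Exc.cons 40 36 (by decide) tt_nc40_36 (Exc.cons 39 37 (by decide) tt_nc39_37 (Exc.cons 38 36 (by decide) tt_nc38_36 (Exc.cons 35 34 (by decide) tt_nc35_34 (Exc.cons 35 33 (by decide) tt_nc35_33 (Exc.cons 34 33 (by decide) tt_nc34_33 (Exc.cons 32 31 (by decide) tt_nc32_31 (Exc.cons 32 29 (by decide) tt_nc32_29 (Exc.cons 32 27 (by decide) tt_nc32_27 (Exc.cons 32 25 (by decide) tt_nc32_25 (Exc.cons 32 24 (by decide) tt_nc32_24 (Exc.cons 31 29 (by decide) tt_nc31_29 (Exc.cons 31 27 (by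 decide) tt_nc31_27 (Exc.cons 31 25 (by decide) tt_nc31_25 (Exc.cons 31 24 (by decide) tt_nc31_24 (Exc.cons 30 28 (by decide) tt_nc30_28 (Exc.cons 30 26 (by decide) tt_nc30_26 (Exc.cons 29 27 (by decide) tt_nc29_27 (Exc.cons 29 25 (by decide) tt_nc29_25 (Exc.cons 29 24 (by decide) tt_nc29_24 (Exc.cons 28 26 (by decide) tt_nc28_26 (Exc.cons 27 25 (by decide) tt_nc27_25 (Exc.cons 27 24 (by decide) tt_nc27_24 (Exc.cons 25 24 (by decide) tt_nc25_24 (Exc.cons 23 22 (by decide) tt_nc23_22 (Exc.cons 23 21 (by decide) tt_nc23_21 (Exc.cons 22 21 (by decide) tt_nc22_21 (Exc.cons 19 18 (by decide) tt_nc19_18 (Exc.cons 19 17 (by decide) tt_nc19_17 (Exc.cons 18 17 (by decide) tt_nc18_17 (Exc.cons 16 15 (by decide) tt_nc16_15 (Exc.cons 16 12 (by decide) tt_nc16_12 (Exc.cons 15 12 (by decide) tt_nc15_12 (Exc.cons 14 13 (by decide) tt_nc14_13 (Exc.cons 14 11 (by decide) tt_nc14_11 (Exc.cons 13 11 (by decide) tt_nc13_11 (Exc.cons 9 8 (by decide) tt_nc9_8 (Exc.cons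 9 7 (by decide) tt_nc9_7 (Exc.cons 8 7 (by decide) tt_nc8_7 (Exc.cons 3 2 (by decide) tt_nc3_2 (Exc.cons 3 1 (by decide) tt_nc3_1 (Exc.cons 2 1 (by decide) tt_nc2_1 Exc.nil))))))))))))))))))))))))))))))))))))))))))))))))))))))

theorem tt : Table 276 (grp 276 ht_c2_K) tt_xs tt_cs tt_os :=
  Reps.table (D := 2) hn hk tt_reps tt_exc t_card2 (by decide +kernel)

theorem tt_v5 : CjIn (grp 276 h_K) (Net.toPerm 276 g449) (Net.toPerm 276 n_v) :=
  cjIn_of_cjB hn hk h_K_ok g449_ok n_v_ok (w := (nat_lit 0xf0d090b080505090405030f020205)) (by decide +kernel)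

theorem tt_v6 : CjIn (grp 276 h_K) (Net.toPerm 276 g454) (Net.toPerm 276 n_v) :=
  cjIn_of_cjB hn hk h_K_ok g454_ok n_v_ok (w := (nat_lit 0xf0d090b0706040604020205)) (by decide +kernel)

theorem c_card2 : Nat.card (grp 276 tt_c4_K) = 128 :=
  tt_c4_eq ▸ tt_c4_card

theorem TC_s0 : Stab 276 (grp 276 tt_c4_K) [] tt_c4_K 128 :=
  Stab.root tt_c4_K_ok c_card2

theorem le686 : grp 276 ct_c1_K ≤ grp 276 tt_c4_K :=
  grp_le_of_memB hn hk tt_c4_K_ok ct_c1_K_ok (ws := [nat_lit 590850, nat_lit 2308, nat_lit 591621, nat_lit 2311, nat_lit 9]) (by decide +kernel)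

theorem ct_c1_le : grp 276 ct_c1_K ≤ (grp 276 tt_c4_K) :=
  (le686.trans TC_s0.le)

theorem ct_c1_mem : Net.toPerm 276 n_t ∈ (grp 276 tt_c4_K) :=
  ct_c1_le (mem_grp_of_memB hn hk ct_c1_K_ok n_t_ok (w := (nat_lit 257)) (by decide +kernel))

theorem ct_c1_sym : Sym 276 (grp 276 tt_c4_K) [n_t] ct_c1_K 0 :=
  Sym.of_lab hn hk (okE_cons.2 ⟨n_t_ok, okE_nil _⟩) ct_c1_K_ok ct_c1_le (kT := 0) (by decide +kernel)

theorem TC_s1 : Stab 276 (grp 276 tt_c4_K) [nat_lit 220] V687 32 :=
  Stab.step (k := 9) (L := (lab 276 9)) hn TC_s0 V687_ok (grp_mono (List.subset_append_right [g444] _)) (c := (Ch.cons (nat_lit 84) [nat_lit 1] (Ch.cons (nat_lit 40) [nat_lit 3] (Ch.cons (nat_lit 212) [nat_lit 5] (Ch.cons (nat_lit 85) [nat_lit 7] Ch.nil))))) (by decide +kernel)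

theorem TC_s2 : Stab 276 (grp 276 tt_c4_K) [nat_lit 84, nat_lit 220] V688 8 :=
  Stab.step (k := 9) (L := (lab 276 9)) hn TC_s1 V688_ok (grp_mono (List.subset_append_right [g445] _)) (c := (Ch.cons (nat_lit 40) [nat_lit 1] (Ch.cons (nat_lit 212) [nat_lit 3] (Ch.cons (nat_lit 85) [nat_lit 5] Ch.nil)))) (by decide +kernel)

theorem TC_s3 : Stab 276 (grp 276 tt_c4_K) [nat_lit 40, nat_lit 84, nat_lit 220] V689 4 :=
  Stab.step (k := 9) (L := (lab 276 9)) hn TC_s2 V689_ok (grp_mono (List.subset_append_right [g446] _)) (c := (Ch.cons (nat_lit 212) [nat_lit 1] (Ch.cons (nat_lit 85) [nat_lit 3] Ch.nil))) (by decide +kernel)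

theorem TC_s4 : Stab 276 (grp 276 tt_c4_K) [nat_lit 212, nat_lit 40, nat_lit 84, nat_lit 220] V690 2 :=
  Stab.step (k := 9) (L := (lab 276 9)) hn TC_s3 V690_ok (grp_mono (List.subset_append_right [g447] _)) (c := (Ch.cons (nat_lit 85) [nat_lit 1] Ch.nil)) (by decide +kernel)

theorem TC_s5 : Stab 276 (grp 276 tt_c4_K) [nat_lit 85, nat_lit 212, nat_lit 40, nat_lit 84, nat_lit 220] V691 1 :=
  Stab.step (k := 9) (L := (lab 276 9)) hn TC_s4 V691_ok (grp_mono (List.subset_append_right [n_u] _)) (c := Ch.nil) (by decide +kernel)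

theorem g444_TC : Net.toPerm 276 g444 ∈ (grp 276 tt_c4_K) :=
  TC_s0.le (toPerm_mem_grp (E := tt_c4_K) (List.Mem.head _))

theorem g445_TC : Net.toPerm 276 g445 ∈ (grp 276 tt_c4_K) :=
  TC_s0.le (toPerm_mem_grp (E := tt_c4_K) (List.Mem.tail _ (List.Mem.head _)))

theorem g446_TC : Net.toPerm 276 g446 ∈ (grp 276 tt_c4_K) :=
  TC_s0.le (toPerm_mem_grp (E := tt_c4_K) (List.Mem.tail _ (List.Mem.tail _ (List.Mem.head _))))

theorem g447_TC : Net.toPerm 276 g447 ∈ (grp 276 tt_c4_K) :=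
  TC_s0.le (toPerm_mem_grp (E := tt_c4_K) (List.Mem.tail _ (List.Mem.tail _ (List.Mem.tail _ (List.Mem.head _)))))

theorem n_u_TC : Net.toPerm 276 n_u ∈ (grp 276 tt_c4_K) :=
  TC_s0.le (toPerm_mem_grp (E := tt_c4_K) (List.Mem.tail _ (List.Mem.tail _ (List.Mem.tail _ (List.Mem.tail _ (List.Mem.head _))))))

noncomputable def TC_s5_O : ℕ := (nat_lit 0x9993333366666ccccc99999b3333666664ccccd9999b3333266666ccccd9999933332c1f07c1f07c1f07c0f83e0f83e0f83e0f81f07c1f07c1f07c1f03e0f83e0f83e0f83e7319cc63398ce7319cc63398ce7319ce63398c67319ce63398c67319ce63398c6731826d926c93649b24db26d936c9b649b24d926d936c9b64db24d926c93649b64db26d92000000000000010000000000000000000000000000000000000000000000000000000000000000000000000000000000000000000000000000001000000000000000000000000000000000000000000000000000000000000000000000000000000010000000000000000000000000100000000000000000000000000000000000000000000000000000000000000000000000000000000000000000000000000002000000000000000000000)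

theorem TC_s5_F : Frame 276 (grp 276 tt_c4_K) 5 9 TC_s5_O 1 1 :=
  IsBase.frame TC_s5.isBase (by decide +kernel)

noncomputable def TC_s4_O : ℕ := (nat_lit 0x10006001000800822011052010808420200000011000c000100000000000000000000cffc8fcc2f274e549f40925f0a72734e17ffdfdce93e396cc08021000040180001002ca9d1bd22ff11e6c9bea885c8e4b2bcd0d00000004c1061227fffdf9ffe8180001002be7c6507b89fe4ee7c4c4081051d508308bfcefc868100102feffd820046fbffc100241638a92c0c4a228c6b5e77f3fc29082d2bbc9204d3e229227fc217de044fbc03fe02b0b6f7adacf3f258033985cec4043fe3e2fa37e141310be22f83e1781e44e43c3c1e0da16c0704e5af29c171bdaf13f2d7e3e1235b618550c8b9c24f33a6399869b333299838d7af08d249ce2e4d189cbac9d12d9ab4ad749678ab4c5aa2da9557552452aaab554000000000000010000000000000000000000000000000000000000000000000000000000000000000000000000000000000000000000000000001000000000000000000000000000000000000000000000000000000000000000000000000000000010000000000000000000000000100000000000000000000000000000000000000000000000000000)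

theorem TC_s4_F : Frame 276 (grp 276 tt_c4_K) 4 12 TC_s4_O 0 1 :=
  Stab.frame hn TC_s4 (by decide +kernel)

noncomputable def TC_s3_O : ℕ := (nat_lit 0x10006001000000832011052010808420200000000000c000108000000000080000002ccfc8d120fff4e040fe090520e7933cb15775f95f439182ec735f959a040100001000ef681e440d0ab024d34652db8b567a0609fed3dd98f62c38084825801eec93fc01000430a68ce97b8fc393e5a0a558e400eefc5218441344537d0e76fe1261deed803bd4021cc316e052ce1c2c4c176f2dc5b99dac369dea95990e1206670839725fc217c3a33e0d97c96aa4c3c5ca60a7969ed272d5a508412fda940d0fcd4445f1f0b1b6a2b331ab9a7b20aad2b146ca47d728a5cdd343bc9457dfaf336199b6a0d206b56a94247aaa94354000000000000010000000000000000000000000000000000000000000000000000000000000000000000000000000000000000000000000000001000000000000000000000000000000000000000000000000000000000000000000000000000000010000000000)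

theorem TC_s3_F : Frame 276 (grp 276 tt_c4_K) 3 10 TC_s3_O 0 1 :=
  Stab.frame hn TC_s3 (by decide +kernel)

noncomputable def TC_s2_O : ℕ := (nat_lit 0x5000600102800083221105700aa8842a202000010000c004018009000010080000002233c1b56057df62099c0d00b95432a5411428d6010782438145d3041be6cb30801010e05e1c889d3c0008c25e4ac412474671c98858a81c860ac0383374a303d279ffbd012b5d4f572480156b3acb6f792dc16c1870a21748ccda6ed0a1e3c649daea0117c027c08237c1931ac9da3874a5a4b4380080bb14ab35207cdb1b10f3fce66fe85c3ce2a1f381c5d5de667c96c566dcc4d04847cf6ad15d944ce9c4a91b447764847674a85d3134a6000000000000010000000000000000000000000000000000000000000000000000000000000000000000000000000000000000000000000000001000000000000000000000)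

theorem TC_s2_F : Frame 276 (grp 276 tt_c4_K) 2 8 TC_s2_O 0 1 :=
  Stab.frame hn TC_s2 (by decide +kernel)

noncomputable def TC_s1_O : ℕ := (nat_lit 0x200000000000000000000000000000000000000000000000000000000000000000004000000000000000000000000000000000000002000000000000000000000010080000020020000000000000000000000000000000000100000000000000200000100000000000000000000008000000000000000000000000000000000280000000000000000000080000000000000000010000000000000000000000000000000000000100000000000000000000000000001000000000010080000000200000000000000080000000000200000000000000000000000000000000000800000000000000000000000000000000000100000002000000000000000000000200000010000040000008000020000400000080000000000010000000000000000040000001000000020010000008100010020108000002000000100004000108021000000100000000023410000000800010004000000000000002010000100000001000010204010000000810000000800000000001082000000000000100000a02c08000004000020002000000000200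8010000008400000040000000000880000000002002000002200000082a00004000000000000000020808400228000000000000000000840002080001020001100000008880005000000006020000040020001002000400000000000000800000000003000000001000021220000080000000000000040210020000000008000088010000400010400012240014010048202000010008008010404800401000a04008420800004024800001024000400c000800000985000804140080000048101044400040540806000002000c00404000020000100000060046100024040c821010022800082100000801000848000000000000010000000000000000000000000000000000000000000000000000000)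

theorem TC_s1_F : Frame 276 (grp 276 tt_c4_K) 1 20 TC_s1_O 0 1 :=
  Stab.frame hn TC_s1 (by decide +kernel)

noncomputable def TC_s0_O : ℕ := (nat_lit 0x10080000020020000000000000000000000000000000000100000000000000200000100000000000000000000008000000000000000000000000000000000280000000000000000000080000000000000000010000000000000000000000000000000000000100000000000000000000000000001000000000010080000000200000000000000080000000000200000000000000000000000000000000000800000000000000000000000000000000000100000002000000000000000000000200000010000000000000010000000000000004200000000000000000000000000000000000002000040000008000020000400000080000000000010000000000000000040000001000000020010000008100010020108000002000000100004000108021000000100000000023410000000800010004000000000000002010000100000001000010204010000000810000000800000000001082000000000000100000a02c080000040000200020000000002008010000008400000040000000000880000000002002000002200000082a0000400000000000000002080840022800000000000000000084000208000102000110000000888000500000000602000004002000100200040000000000000080000000000300000000100002122000008000000000000004021002000000000800008801000040001)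

theorem TC_s0_F : Frame 276 (grp 276 tt_c4_K) 0 15 TC_s0_O 0 1 :=
  Stab.frame hn TC_s0 (by decide +kernel)

noncomputable def ct_c1_cnt_L : List ℕ := [0, 15, TC_s0_O, 0, 0, 1, 20, TC_s1_O, 0, 0, 2, 8, TC_s2_O, 0, 0, 3, 10, TC_s3_O, 0, 0, 4, 12, TC_s4_O, 0, 0, 5, 9, TC_s5_O, 1, 0]

theorem ct_c1_cnt_P : Prob 276 9 (grp 276 tt_c4_K) ct_c1_cnt_EG [n_t] [n_t] ct_c1_K ct_c1_cnt_L 0 0 :=
  Sym.prob hn hk ct_c1_sym ct_c1_cnt_EG_ok (grp_cons_le g444_TC (grp_cons_le g445_TC (grp_cons_le g446_TC (grp_cons_le g447_TC (grp_cons_le n_u_TC (grp_nil_le _)))))) (Frames.cons TC_s0_F (Frames.cons TC_s1_F (Frames.cons TC_s2_F (Frames.cons TC_s3_F (Frames.cons TC_s4_F (Frames.cons TC_s5_F Frames.nil)))))) (okE_cons.2 ⟨n_t_ok, okE_nil _⟩) _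

noncomputable def ct_c1_cnt_t : BT := (BT.frm (nat_lit 0) (nat_lit 0) (nat_lit 0) [] (BT.pln (nat_lit 0) (nat_lit 8) (BT.br (nat_lit 0) (nat_lit 220) [nat_lit 1] (BT.kid (nat_lit 220) (nat_lit 32) (BT.pln (nat_lit 2) (nat_lit 11) (BT.br (nat_lit 0) (nat_lit 200) [nat_lit 3] (BT.kid (nat_lit 200) (nat_lit 8) (BT.frm (nat_lit 2) (nat_lit 771) (nat_lit 771) [nat_lit 0, nat_lit 2] (BT.pln (nat_lit 0) (nat_lit 3) (BT.and (nat_lit 3) (nat_lit 0) (BT.br (nat_lit 0) (nat_lit 31) [nat_lit 5] (BT.kid (nat_lit 31) (nat_lit 4) (BT.pln (nat_lit 8) (nat_lit 6) (BT.dif (nat_lit 0) (nat_lit 3) (BT.pln (nat_lit 5) (nat_lit 4) (BT.and (nat_lit 1) (nat_lit 0) (BT.frm (nat_lit 3) (nat_lit 771) (nat_lit 771) [nat_lit 4, nat_lit 8, nat_lit 10] (BT.pln (nat_lit 0) (nat_lit 3) (BT.and (nat_lit 2) (nat_lit 0) (BT.br (nat_lit 0) (nat_lit 145) [nat_lit 7] (BT.kid (nat_lit 145) (nat_lit 2) (BT.frm (nat_lit 1) (nat_lit 0) (nat_lit 0) [nat_lit 14] (BT.pln (nat_lit 0) (nat_lit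 1) (BT.and (nat_lit 0) (nat_lit 7) (BT.pln (nat_lit 14) (nat_lit 2) (BT.dif (nat_lit 1) (nat_lit 0) (BT.dif (nat_lit 0) (nat_lit 7) (BT.frm (nat_lit 4) (nat_lit 459523) (nat_lit 459523) [nat_lit 6, nat_lit 14, nat_lit 18, nat_lit 20] (BT.pln (nat_lit 0) (nat_lit 7) (BT.and (nat_lit 2) (nat_lit 0) (BT.br (nat_lit 0) (nat_lit 113) [nat_lit 9] (BT.kid (nat_lit 113) (nat_lit 1) (BT.one (nat_lit 5) (nat_lit 0x9070303) (nat_lit 0x9070303) [nat_lit 0, nat_lit 10, nat_lit 18, nat_lit 22, nat_lit 24]) BT.nil))))))))))) BT.nil))))))))) BT.nil))))) BT.nil))) BT.nil))))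

theorem ct_c1_cnt : Cnt 276 (grp 276 tt_c4_K) [n_t] [n_t] 0 0 0 0 128 :=
  BT.sound ct_c1_cnt_P Known.nil (t := ct_c1_cnt_t) (d := 0) (by decide +kernel)

theorem ct_c1_ge : 128 ≤ Nat.card (grp 276 ct_c1_K) :=
  Ch.le_card_grp (k := 9) (L := (lab 276 9)) hn ct_c1_K_ok (c := (Ch.cons (nat_lit 220) [nat_lit 1] (Ch.cons (nat_lit 200) [nat_lit 3] (Ch.cons (nat_lit 31) [nat_lit 5] (Ch.cons (nat_lit 145) [nat_lit 7] (Ch.cons (nat_lit 113) [nat_lit 9] Ch.nil)))))) (by decide +kernel)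

theorem ct_c1_eq : (grp 276 tt_c4_K) ⊓ Subgroup.centralizer {Net.toPerm 276 n_t} = grp 276 ct_c1_K :=
  cent_eq ct_c1_sym ct_c1_cnt ct_c1_ge

theorem ct_c1_card : Nat.card ↥((grp 276 tt_c4_K) ⊓ Subgroup.centralizer {Net.toPerm 276 n_t}) = 128 :=
  card_cent ct_c1_sym ct_c1_cnt ct_c1_ge

theorem ct_c1_ord : orderOf (Net.toPerm 276 n_t) = 2 :=
  orderOf_net hn hk n_t_ok (by decide) (ps := [2]) (by set_option linter.unusedSimpArgs false in simp [Nat.primeFactorsList_ofNat]) (by decide +kernel)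

theorem le696 : grp 276 ct_c2_K ≤ grp 276 tt_c4_K :=
  grp_le_of_memB hn hk tt_c4_K_ok ct_c2_K_ok (ws := [nat_lit 591620, nat_lit 0x905030302, nat_lit 2, nat_lit 196865, nat_lit 771]) (by decide +kernel)

theorem ct_c2_le : grp 276 ct_c2_K ≤ (grp 276 tt_c4_K) :=
  (le696.trans TC_s0.le)

theorem ct_c2_mem : Net.toPerm 276 n_u ∈ (grp 276 tt_c4_K) :=
  ct_c2_le (mem_grp_of_memB hn hk ct_c2_K_ok n_u_ok (w := (nat_lit 590081)) (by decide +kernel))

theorem ct_c2_sym : Sym 276 (grp 276 tt_c4_K) [n_u] ct_c2_K 0 :=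
  Sym.of_lab hn hk (okE_cons.2 ⟨n_u_ok, okE_nil _⟩) ct_c2_K_ok ct_c2_le (kT := 0) (by decide +kernel)

theorem le700 : grp 276 V699 ≤ grp 276 tt_c4_K :=
  grp_le_of_memB hn hk tt_c4_K_ok V699_ok (ws := [nat_lit 0x905030101, nat_lit 1, nat_lit 262401, nat_lit 771]) (by decide +kernel)

theorem TC_s6 : Stab 276 (grp 276 tt_c4_K) [nat_lit 121] V699 32 :=
  Stab.step (k := 9) (L := (lab 276 9)) hn TC_s0 V699_ok le700 (c := (Ch.cons (nat_lit 4) [nat_lit 1] (Ch.cons (nat_lit 165) [nat_lit 3] (Ch.cons (nat_lit 21) [nat_lit 5] (Ch.cons (nat_lit 246) [nat_lit 7] Ch.nil))))) (by decide +kernel)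

theorem TC_s7 : Stab 276 (grp 276 tt_c4_K) [nat_lit 4, nat_lit 121] V701 16 :=
  Stab.step (k := 9) (L := (lab 276 9)) hn TC_s6 V701_ok (grp_mono (List.subset_append_right [g697] _)) (c := (Ch.cons (nat_lit 165) [nat_lit 1] (Ch.cons (nat_lit 21) [nat_lit 3] (Ch.cons (nat_lit 246) [nat_lit 5] Ch.nil)))) (by decide +kernel)

theorem TC_s8 : Stab 276 (grp 276 tt_c4_K) [nat_lit 165, nat_lit 4, nat_lit 121] V702 4 :=
  Stab.step (k := 9) (L := (lab 276 9)) hn TC_s7 V702_ok (grp_mono (List.subset_append_right [g444] _)) (c := (Ch.cons (nat_lit 21) [nat_lit 1] (Ch.cons (nat_lit 246) [nat_lit 3] Ch.nil))) (by decide +kernel)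

theorem TC_s9 : Stab 276 (grp 276 tt_c4_K) [nat_lit 21, nat_lit 165, nat_lit 4, nat_lit 121] V703 2 :=
  Stab.step (k := 9) (L := (lab 276 9)) hn TC_s8 V703_ok (grp_mono (List.subset_append_right [g698] _)) (c := (Ch.cons (nat_lit 246) [nat_lit 1] Ch.nil)) (by decide +kernel)

theorem TC_s10 : Stab 276 (grp 276 tt_c4_K) [nat_lit 246, nat_lit 21, nat_lit 165, nat_lit 4, nat_lit 121] V704 1 :=
  Stab.step (k := 9) (L := (lab 276 9)) hn TC_s9 V704_ok (grp_mono (List.subset_append_right [g548] _)) (c := Ch.nil) (by decide +kernel)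

theorem g697_TC : Net.toPerm 276 g697 ∈ (grp 276 tt_c4_K) :=
  TC_s6.le (toPerm_mem_grp (E := V699) (List.Mem.head _))

theorem g698_TC : Net.toPerm 276 g698 ∈ (grp 276 tt_c4_K) :=
  TC_s6.le (toPerm_mem_grp (E := V699) (List.Mem.tail _ (List.Mem.tail _ (List.Mem.head _))))

theorem g548_TC : Net.toPerm 276 g548 ∈ (grp 276 tt_c4_K) :=
  TC_s6.le (toPerm_mem_grp (E := V699) (List.Mem.tail _ (List.Mem.tail _ (List.Mem.tail _ (List.Mem.head _)))))

noncomputable def TC_s10_O : ℕ := (nat_lit 0x9993333366666ccccc99999b3333666664ccccd9999b3333266666ccccd9999933332c1f07c1f07c1f07c0f83e0f83e0f83e0f81f07c1f07c1f07c1f03e0f83e0f83e0f83e7319cc63398ce7319cc63398ce7319ce63398c67319ce63398c67319ce63398c6731826d926c93649b24db26d936c9b649b24d926d936c9b64db24d926c93649b64db26d92000000000000000000000000000000000000002000000000000000000000000000000000000000000000000000000000000000000000000000000000000000000000000010000000000000000000000000000200000000000000000000000000000000000000000000000000000000000000000000000000000000000000000000000000000000200000000000040000000000000000000000000000000000000000000000000000000000000)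

theorem TC_s10_F : Frame 276 (grp 276 tt_c4_K) 5 9 TC_s10_O 1 1 :=
  IsBase.frame TC_s10.isBase (by decide +kernel)

noncomputable def TC_s9_O : ℕ := (nat_lit 0x2002408010080108e0000404000084300088000010000200200000220000000000000df6dbf0ea776cad71d26b37a3da873ce7267ff5decec98000000000000402088a1002d8ec9976a8f54e311675f9f05fa87a8084100082000165ffd7bdff9ce0402088a10022abf7781bbaff57c173548832014084e36637f80001005fdd57a00411efefff8a100290112e004e411a84e21abfb53f148d6ff27400dfeb1225bf0ac7fc001bcea08dff802fb9779ad63251695e18bbdca40f8405cad9ef0dd16c945a2d645c3d01fd03e8d507802fe61a195eb95647d5c8a2f5f8e0b85912974c5ac496c758e3e53309985c7945ac668e6fdd66971860b45bae3daa5d6892f55114eaa14a64416969bd6aaa9566a15a4cb524000000000000000000000000000000000000002000000000000000000000000000000000000000000000000000000000000000000000000000000000000000000000000010000000000000000000000000000200000000000000000000000000000000000000000000000000000000000000000000000000000000000000000000000000000000200000)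

theorem TC_s9_F : Frame 276 (grp 276 tt_c4_K) 4 12 TC_s9_O 0 1 :=
  Stab.frame hn TC_s9 (by decide +kernel)

noncomputable def TC_s8_O : ℕ := (nat_lit 0x2000408000080108e0000404000000300088000010000200200000220040208a000009dabad2413b34cd71e217bba5c80df4e64753ed9a8acbdf4d5b1268000000000a10020b5f985db126da610436a23b1e94e706c0273f5cac994003024ec955fa9e9b00a1002fcda6fde787dfe33862bb9e435b8f49132408184044785aed0488014fba0607dbd002b06795527fc7235e91c2d5912b44aefe87ec6a94511185782f36481ce02ec074a3f02fc8e98191be01ba62bbabbd18d28036a8cb9644fa515d68d8dc97130997c7869b2ce851194c4bb05da547ca6e2d339bc998e784719d4e15e1fbd44c635d78560a76d18ba24000000000000000000000000000000000000002000000000000000000000000000000000000000000000000000000000000000000000000000000000000000000000000010000000000000000000000000000200000000000000000000000000000000000000000)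

theorem TC_s8_F : Frame 276 (grp 276 tt_c4_K) 3 10 TC_s8_O 0 1 :=
  Stab.frame hn TC_s8 (by decide +kernel)

noncomputable def TC_s7_O : ℕ := (nat_lit 0x3114500002888102a01005120802843a0020110010b0a801010004000254280801002926320eb381424cb500351bc5894389660aa08050c09c65a72f4a3b770a0b1b2a0000ea2a8d80dfe1081cf27c7cc4276a024807ca2080510007ad2d12086b01724befb2b0046e146a0c299054c7b8e4c4de22cbc7cde534c4e180f13d4e7375af5214aa385154ea8fe06525caf94c95141552bbfd81f15be66394cba9ec6d29dd9077c524385f640b824000000000000000000000000000000000000002000000000000000000000000000000000000000000000000000000000000000000000000000000000000000000000000010)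

theorem TC_s7_F : Frame 276 (grp 276 tt_c4_K) 2 7 TC_s7_O 0 1 :=
  Stab.frame hn TC_s7 (by decide +kernel)

noncomputable def TC_s6_O : ℕ := (nat_lit 0x200000000000000000000000000000000000000100000000000000000000000000000000000010000000000000000000000010080000020020000000000000000000000000000000000100000000000000200000100000000000000000000008000000000000000000000000000000000280000000000000000000080000000000000000010000000000000000000000000000000000000100000000000000000000000000001000000000010080000000200000000000000080000000000200000000000000000000000000000000000800000000000000000010000000000000004200000000000000000000000000000000000002000040000008000020000400000080000000000010000000000000000040000001000000020010000008100010020108000002000000100004000108021000000100000000023410000000800010004000000000000002010000100000001000010204010000000810000000800000000001082000000000000100000a02c08000004000020002000000000200801000000840000004000000000088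0000000002002000002200000082a00004000000000000000020808400228000000000000000000840002080001020001100000008880005000000006020000040020001002000400000000000000800000000003000000001000021220000080000000000000040210020000000008000088010000400010041002000100440000200084004380440000804080900504224029420008000000000c800100006008100000000185000000800104ca010400208800500000084040028200000024a20042000098000000010008018104000040210020041800050800010044c8000000000000000000000000000000000000002000000000000000000000000000000)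

theorem TC_s6_F : Frame 276 (grp 276 tt_c4_K) 1 20 TC_s6_O 0 1 :=
  Stab.frame hn TC_s6 (by decide +kernel)

noncomputable def ct_c2_cnt_L : List ℕ := [0, 15, TC_s0_O, 0, 0, 1, 20, TC_s6_O, 0, 0, 2, 7, TC_s7_O, 0, 0, 3, 10, TC_s8_O, 0, 0, 4, 12, TC_s9_O, 0, 0, 5, 9, TC_s10_O, 1, 0]

theorem ct_c2_cnt_P : Prob 276 9 (grp 276 tt_c4_K) ct_c2_cnt_EG [n_u] [n_u] ct_c2_K ct_c2_cnt_L 0 0 :=
  Sym.prob hn hk ct_c2_sym ct_c2_cnt_EG_ok (grp_cons_le g444_TC (grp_cons_le g445_TC (grp_cons_le g446_TC (grp_cons_le g447_TC (grp_cons_le n_u_TC (grp_cons_le g697_TC (grp_cons_le g698_TC (grp_cons_le g548_TC (grp_nil_le _))))))))) (Frames.cons TC_s0_F (Frames.cons TC_s6_F (Frames.cons TC_s7_F (Frames.cons TC_s8_F (Frames.cons TC_s9_F (Frames.cons TC_s10_F Frames.nil)))))) (okE_cons.2 ⟨n_u_ok, okE_nil _⟩) _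

noncomputable def ct_c2_cnt_t : BT := (BT.frm (nat_lit 0) (nat_lit 0) (nat_lit 0) [] (BT.pln (nat_lit 0) (nat_lit 9) (BT.br (nat_lit 0) (nat_lit 121) [nat_lit 1] (BT.kid (nat_lit 121) (nat_lit 32) (BT.frm (nat_lit 1) (nat_lit 0) (nat_lit 0) [nat_lit 0] (BT.pln (nat_lit 0) (nat_lit 18) (BT.and (nat_lit 3) (nat_lit 0) (BT.br (nat_lit 0) (nat_lit 4) [nat_lit 3] (BT.kid (nat_lit 4) (nat_lit 16) (BT.pln (nat_lit 6) (nat_lit 10) (BT.br (nat_lit 0) (nat_lit 165) [nat_lit 5] (BT.kid (nat_lit 165) (nat_lit 4) (BT.pln (nat_lit 8) (nat_lit 3) (BT.frm (nat_lit 2) (nat_lit 0) (nat_lit 0) [nat_lit 3, nat_lit 7] (BT.pln (nat_lit 0) (nat_lit 3) (BT.dif (nat_lit 2) (nat_lit 0) (BT.frm (nat_lit 3) (nat_lit 0) (nat_lit 0) [nat_lit 4, nat_lit 6, nat_lit 10] (BT.pln (nat_lit 0) (nat_lit 4) (BT.dif (nat_lit 2) (nat_lit 0) (BT.br (nat_lit 0) (nat_lit 21) [nat_lit 7] (BT.kid (nat_lit 21) (nat_lit 2) (BT.dif (nat_lit 19) (nat_lit 2) (BT.pln (nat_lit 4) (nat_lit 7) (BT.and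 (nat_lit 1) (nat_lit 0) (BT.dif (nat_lit 0) (nat_lit 8) (BT.pln (nat_lit 10) (nat_lit 2) (BT.and (nat_lit 1) (nat_lit 0) (BT.pln (nat_lit 9) (nat_lit 3) (BT.dif (nat_lit 1) (nat_lit 0) (BT.frm (nat_lit 4) (nat_lit 0) (nat_lit 0) [nat_lit 8, nat_lit 16, nat_lit 18, nat_lit 22] (BT.pln (nat_lit 0) (nat_lit 5) (BT.dif (nat_lit 2) (nat_lit 0) (BT.br (nat_lit 0) (nat_lit 246) [nat_lit 9] (BT.kid (nat_lit 246) (nat_lit 1) (BT.one (nat_lit 5) (nat_lit 0) (nat_lit 0) [nat_lit 0, nat_lit 12, nat_lit 20, nat_lit 22, nat_lit 26]) BT.nil))))))))))))) BT.nil))))))))) BT.nil))) BT.nil))))) BT.nil))))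

theorem ct_c2_cnt : Cnt 276 (grp 276 tt_c4_K) [n_u] [n_u] 0 0 0 0 128 :=
  BT.sound ct_c2_cnt_P Known.nil (t := ct_c2_cnt_t) (d := 0) (by decide +kernel)

theorem ct_c2_ge : 128 ≤ Nat.card (grp 276 ct_c2_K) :=
  Ch.le_card_grp (k := 9) (L := (lab 276 9)) hn ct_c2_K_ok (c := (Ch.cons (nat_lit 121) [nat_lit 1] (Ch.cons (nat_lit 4) [nat_lit 3] (Ch.cons (nat_lit 165) [nat_lit 5] (Ch.cons (nat_lit 21) [nat_lit 7] (Ch.cons (nat_lit 246) [nat_lit 9] Ch.nil)))))) (by decide +kernel)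

theorem ct_c2_eq : (grp 276 tt_c4_K) ⊓ Subgroup.centralizer {Net.toPerm 276 n_u} = grp 276 ct_c2_K :=
  cent_eq ct_c2_sym ct_c2_cnt ct_c2_ge

theorem ct_c2_card : Nat.card ↥((grp 276 tt_c4_K) ⊓ Subgroup.centralizer {Net.toPerm 276 n_u}) = 128 :=
  card_cent ct_c2_sym ct_c2_cnt ct_c2_ge

theorem ct_c2_ord : orderOf (Net.toPerm 276 n_u) = 2 :=
  orderOf_net hn hk n_u_ok (by decide) (ps := [2]) (by set_option linter.unusedSimpArgs false in simp [Nat.primeFactorsList_ofNat]) (by decide +kernel)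

theorem le707 : grp 276 ct_c3_K ≤ grp 276 tt_c4_K :=
  grp_le_of_memB hn hk tt_c4_K_ok ct_c3_K_ok (ws := [nat_lit 2305, nat_lit 2308, nat_lit 1797, nat_lit 2311, nat_lit 9]) (by decide +kernel)

theorem ct_c3_le : grp 276 ct_c3_K ≤ (grp 276 tt_c4_K) :=
  (le707.trans TC_s0.le)

theorem ct_c3_mem : Net.toPerm 276 n_tu ∈ (grp 276 tt_c4_K) :=
  ct_c3_le (mem_grp_of_memB hn hk ct_c3_K_ok n_tu_ok (w := (nat_lit 0x903030101)) (by decide +kernel))

theorem ct_c3_sym : Sym 276 (grp 276 tt_c4_K) [n_tu] ct_c3_K 0 :=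
  Sym.of_lab hn hk (okE_cons.2 ⟨n_tu_ok, okE_nil _⟩) ct_c3_K_ok ct_c3_le (kT := 0) (by decide +kernel)

noncomputable def ct_c3_cnt_L : List ℕ := [0, 15, TC_s0_O, 0, 0, 1, 20, TC_s1_O, 0, 0, 2, 8, TC_s2_O, 0, 0, 3, 10, TC_s3_O, 0, 0, 4, 12, TC_s4_O, 0, 0, 5, 9, TC_s5_O, 1, 0]

theorem ct_c3_cnt_P : Prob 276 9 (grp 276 tt_c4_K) ct_c3_cnt_EG [n_tu] [n_tu] ct_c3_K ct_c3_cnt_L 0 0 :=
  Sym.prob hn hk ct_c3_sym ct_c3_cnt_EG_ok (grp_cons_le g444_TC (grp_cons_le g445_TC (grp_cons_le g446_TC (grp_cons_le g447_TC (grp_cons_le n_u_TC (grp_nil_le _)))))) (Frames.cons TC_s0_F (Frames.cons TC_s1_F (Frames.cons TC_s2_F (Frames.cons TC_s3_F (Frames.cons TC_s4_F (Frames.cons TC_s5_F Frames.nil)))))) (okE_cons.2 ⟨n_tu_ok, okE_nil _⟩) _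

noncomputable def ct_c3_cnt_t : BT := (BT.frm (nat_lit 0) (nat_lit 0) (nat_lit 0) [] (BT.pln (nat_lit 0) (nat_lit 8) (BT.br (nat_lit 0) (nat_lit 220) [nat_lit 1] (BT.kid (nat_lit 220) (nat_lit 32) (BT.pln (nat_lit 2) (nat_lit 11) (BT.br (nat_lit 0) (nat_lit 200) [nat_lit 3] (BT.kid (nat_lit 200) (nat_lit 8) (BT.frm (nat_lit 2) (nat_lit 771) (nat_lit 771) [nat_lit 0, nat_lit 2] (BT.pln (nat_lit 0) (nat_lit 3) (BT.and (nat_lit 3) (nat_lit 0) (BT.br (nat_lit 0) (nat_lit 31) [nat_lit 5] (BT.kid (nat_lit 31) (nat_lit 4) (BT.pln (nat_lit 8) (nat_lit 6) (BT.dif (nat_lit 0) (nat_lit 3) (BT.pln (nat_lit 5) (nat_lit 4) (BT.and (nat_lit 1) (nat_lit 0) (BT.frm (nat_lit 3) (nat_lit 771) (nat_lit 771) [nat_lit 4, nat_lit 8, nat_lit 10] (BT.pln (nat_lit 0) (nat_lit 3) (BT.and (nat_lit 2) (nat_lit 0) (BT.br (nat_lit 0) (nat_lit 145) [nat_lit 7] (BT.kid (nat_lit 145) (nat_lit 2) (BT.frm (nat_lit 1) (nat_lit 0) (nat_lit 0) [nat_lit 14] (BT.pln (nat_lit 0) (nat_lit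 1) (BT.and (nat_lit 0) (nat_lit 7) (BT.pln (nat_lit 14) (nat_lit 2) (BT.dif (nat_lit 1) (nat_lit 0) (BT.dif (nat_lit 0) (nat_lit 7) (BT.frm (nat_lit 4) (nat_lit 459523) (nat_lit 459523) [nat_lit 6, nat_lit 14, nat_lit 18, nat_lit 20] (BT.pln (nat_lit 0) (nat_lit 7) (BT.and (nat_lit 2) (nat_lit 0) (BT.br (nat_lit 0) (nat_lit 113) [nat_lit 9] (BT.kid (nat_lit 113) (nat_lit 1) (BT.one (nat_lit 5) (nat_lit 0x9070303) (nat_lit 0x9070303) [nat_lit 0, nat_lit 10, nat_lit 18, nat_lit 22, nat_lit 24]) BT.nil))))))))))) BT.nil))))))))) BT.nil))))) BT.nil))) BT.nil))))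

theorem ct_c3_cnt : Cnt 276 (grp 276 tt_c4_K) [n_tu] [n_tu] 0 0 0 0 128 :=
  BT.sound ct_c3_cnt_P Known.nil (t := ct_c3_cnt_t) (d := 0) (by decide +kernel)

theorem ct_c3_ge : 128 ≤ Nat.card (grp 276 ct_c3_K) :=
  Ch.le_card_grp (k := 9) (L := (lab 276 9)) hn ct_c3_K_ok (c := (Ch.cons (nat_lit 220) [nat_lit 1] (Ch.cons (nat_lit 200) [nat_lit 3] (Ch.cons (nat_lit 31) [nat_lit 5] (Ch.cons (nat_lit 145) [nat_lit 7] (Ch.cons (nat_lit 113) [nat_lit 9] Ch.nil)))))) (by decide +kernel)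

theorem ct_c3_eq : (grp 276 tt_c4_K) ⊓ Subgroup.centralizer {Net.toPerm 276 n_tu} = grp 276 ct_c3_K :=
  cent_eq ct_c3_sym ct_c3_cnt ct_c3_ge

theorem ct_c3_card : Nat.card ↥((grp 276 tt_c4_K) ⊓ Subgroup.centralizer {Net.toPerm 276 n_tu}) = 128 :=
  card_cent ct_c3_sym ct_c3_cnt ct_c3_ge

theorem ct_c3_ord : orderOf (Net.toPerm 276 n_tu) = 2 :=
  orderOf_net hn hk n_tu_ok (by decide) (ps := [2]) (by set_option linter.unusedSimpArgs false in simp [Nat.primeFactorsList_ofNat]) (by decide +kernel)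

theorem le711 : grp 276 ct_c4_K ≤ grp 276 tt_c4_K :=
  grp_le_of_memB hn hk tt_c4_K_ok ct_c4_K_ok (ws := [nat_lit 0x7040101, nat_lit 0x9050402, nat_lit 769, nat_lit 262401, nat_lit 771]) (by decide +kernel)

theorem ct_c4_le : grp 276 ct_c4_K ≤ (grp 276 tt_c4_K) :=
  (le711.trans TC_s0.le)

theorem ct_c4_mem : Net.toPerm 276 n_w ∈ (grp 276 tt_c4_K) :=
  ct_c4_le (mem_grp_of_memB hn hk ct_c4_K_ok n_w_ok (w := (nat_lit 257)) (by decide +kernel))

theorem ct_c4_sym : Sym 276 (grp 276 tt_c4_K) [n_w] ct_c4_K 0 :=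
  Sym.of_lab hn hk (okE_cons.2 ⟨n_w_ok, okE_nil _⟩) ct_c4_K_ok ct_c4_le (kT := 0) (by decide +kernel)

noncomputable def ct_c4_cnt_L : List ℕ := [0, 15, TC_s0_O, 0, 0, 1, 20, TC_s6_O, 0, 0, 2, 7, TC_s7_O, 0, 0, 3, 10, TC_s8_O, 0, 0, 4, 12, TC_s9_O, 0, 0, 5, 9, TC_s10_O, 1, 0]

theorem ct_c4_cnt_P : Prob 276 9 (grp 276 tt_c4_K) ct_c4_cnt_EG [n_w] [n_w] ct_c4_K ct_c4_cnt_L 0 0 :=
  Sym.prob hn hk ct_c4_sym ct_c4_cnt_EG_ok (grp_cons_le g444_TC (grp_cons_le g445_TC (grp_cons_le g446_TC (grp_cons_le g447_TC (grp_cons_le n_u_TC (grp_cons_le g697_TC (grp_cons_le g698_TC (grp_cons_le g548_TC (grp_nil_le _))))))))) (Frames.cons TC_s0_F (Frames.cons TC_s6_F (Frames.cons TC_s7_F (Frames.cons TC_s8_F (Frames.cons TC_s9_F (Frames.cons TC_s10_F Frames.nil)))))) (okE_cons.2 ⟨n_w_ok, okE_nil _⟩) _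

noncomputable def ct_c4_cnt_t : BT := (BT.frm (nat_lit 0) (nat_lit 0) (nat_lit 0) [] (BT.pln (nat_lit 0) (nat_lit 9) (BT.br (nat_lit 0) (nat_lit 121) [nat_lit 1] (BT.kid (nat_lit 121) (nat_lit 32) (BT.frm (nat_lit 1) (nat_lit 0) (nat_lit 0) [nat_lit 0] (BT.pln (nat_lit 0) (nat_lit 18) (BT.and (nat_lit 3) (nat_lit 0) (BT.br (nat_lit 0) (nat_lit 4) [nat_lit 3] (BT.kid (nat_lit 4) (nat_lit 16) (BT.pln (nat_lit 6) (nat_lit 10) (BT.br (nat_lit 0) (nat_lit 165) [nat_lit 5] (BT.kid (nat_lit 165) (nat_lit 4) (BT.pln (nat_lit 8) (nat_lit 3) (BT.frm (nat_lit 2) (nat_lit 0) (nat_lit 0) [nat_lit 3, nat_lit 7] (BT.pln (nat_lit 0) (nat_lit 3) (BT.dif (nat_lit 2) (nat_lit 0) (BT.frm (nat_lit 3) (nat_lit 0) (nat_lit 0) [nat_lit 4, nat_lit 6, nat_lit 10] (BT.pln (nat_lit 0) (nat_lit 4) (BT.dif (nat_lit 2) (nat_lit 0) (BT.br (nat_lit 0) (nat_lit 21) [nat_lit 7] (BT.kid (nat_lit 21) (nat_lit 2) (BT.dif (nat_lit 19) (nat_lit 2) (BT.pln (nat_lit 4) (nat_lit 7) (BT.and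 (nat_lit 1) (nat_lit 0) (BT.dif (nat_lit 0) (nat_lit 8) (BT.pln (nat_lit 10) (nat_lit 2) (BT.and (nat_lit 1) (nat_lit 0) (BT.pln (nat_lit 9) (nat_lit 3) (BT.dif (nat_lit 1) (nat_lit 0) (BT.frm (nat_lit 4) (nat_lit 0) (nat_lit 0) [nat_lit 8, nat_lit 16, nat_lit 18, nat_lit 22] (BT.pln (nat_lit 0) (nat_lit 5) (BT.dif (nat_lit 2) (nat_lit 0) (BT.br (nat_lit 0) (nat_lit 246) [nat_lit 9] (BT.kid (nat_lit 246) (nat_lit 1) (BT.one (nat_lit 5) (nat_lit 0) (nat_lit 0) [nat_lit 0, nat_lit 12, nat_lit 20, nat_lit 22, nat_lit 26]) BT.nil))))))))))))) BT.nil))))))))) BT.nil))) BT.nil))))) BT.nil))))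

theorem ct_c4_cnt : Cnt 276 (grp 276 tt_c4_K) [n_w] [n_w] 0 0 0 0 128 :=
  BT.sound ct_c4_cnt_P Known.nil (t := ct_c4_cnt_t) (d := 0) (by decide +kernel)

theorem ct_c4_ge : 128 ≤ Nat.card (grp 276 ct_c4_K) :=
  Ch.le_card_grp (k := 9) (L := (lab 276 9)) hn ct_c4_K_ok (c := (Ch.cons (nat_lit 121) [nat_lit 1] (Ch.cons (nat_lit 4) [nat_lit 3] (Ch.cons (nat_lit 165) [nat_lit 5] (Ch.cons (nat_lit 21) [nat_lit 7] (Ch.cons (nat_lit 246) [nat_lit 9] Ch.nil)))))) (by decide +kernel)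

theorem ct_c4_eq : (grp 276 tt_c4_K) ⊓ Subgroup.centralizer {Net.toPerm 276 n_w} = grp 276 ct_c4_K :=
  cent_eq ct_c4_sym ct_c4_cnt ct_c4_ge

theorem ct_c4_card : Nat.card ↥((grp 276 tt_c4_K) ⊓ Subgroup.centralizer {Net.toPerm 276 n_w}) = 128 :=
  card_cent ct_c4_sym ct_c4_cnt ct_c4_ge

theorem ct_c4_ord : orderOf (Net.toPerm 276 n_w) = 2 :=
  orderOf_net hn hk n_w_ok (by decide) (ps := [2]) (by set_option linter.unusedSimpArgs false in simp [Nat.primeFactorsList_ofNat]) (by decide +kernel)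

theorem le715 : grp 276 ct_c5_K ≤ grp 276 tt_c4_K :=
  grp_le_of_memB hn hk tt_c4_K_ok ct_c5_K_ok (ws := [nat_lit 0x9030301, nat_lit 591108, nat_lit 0x9070303, nat_lit 3, nat_lit 771]) (by decide +kernel)

theorem ct_c5_le : grp 276 ct_c5_K ≤ (grp 276 tt_c4_K) :=
  (le715.trans TC_s0.le)

theorem ct_c5_mem : Net.toPerm 276 n_tw ∈ (grp 276 tt_c4_K) :=
  ct_c5_le (mem_grp_of_memB hn hk ct_c5_K_ok n_tw_ok (w := (nat_lit 0x5050101)) (by decide +kernel))

theorem ct_c5_sym : Sym 276 (grp 276 tt_c4_K) [n_tw] ct_c5_K 0 :=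
  Sym.of_lab hn hk (okE_cons.2 ⟨n_tw_ok, okE_nil _⟩) ct_c5_K_ok ct_c5_le (kT := 0) (by decide +kernel)

theorem le719 : grp 276 V718 ≤ grp 276 V687 :=
  grp_le_of_memB hn hk V687_ok V718_ok (ws := [nat_lit 327937, nat_lit 2, nat_lit 257]) (by decide +kernel)

theorem TC_s11 : Stab 276 (grp 276 tt_c4_K) [nat_lit 1, nat_lit 220] V718 16 :=
  Stab.step (k := 9) (L := (lab 276 9)) hn TC_s1 V718_ok le719 (c := (Ch.cons (nat_lit 121) [nat_lit 1] (Ch.cons (nat_lit 210) [nat_lit 3] (Ch.cons (nat_lit 66) [nat_lit 5] Ch.nil)))) (by decide +kernel)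

theorem TC_s12 : Stab 276 (grp 276 tt_c4_K) [nat_lit 121, nat_lit 1, nat_lit 220] V720 4 :=
  Stab.step (k := 9) (L := (lab 276 9)) hn TC_s11 V720_ok (grp_mono (List.subset_append_right [g716] _)) (c := (Ch.cons (nat_lit 210) [nat_lit 1] (Ch.cons (nat_lit 66) [nat_lit 3] Ch.nil))) (by decide +kernel)

theorem TC_s13 : Stab 276 (grp 276 tt_c4_K) [nat_lit 210, nat_lit 121, nat_lit 1, nat_lit 220] V721 2 :=
  Stab.step (k := 9) (L := (lab 276 9)) hn TC_s12 V721_ok (grp_mono (List.subset_append_right [g717] _)) (c := (Ch.cons (nat_lit 66) [nat_lit 1] Ch.nil)) (by decide +kernel)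

theorem TC_s14 : Stab 276 (grp 276 tt_c4_K) [nat_lit 66, nat_lit 210, nat_lit 121, nat_lit 1, nat_lit 220] V722 1 :=
  Stab.step (k := 9) (L := (lab 276 9)) hn TC_s13 V722_ok (grp_mono (List.subset_append_right [g548] _)) (c := Ch.nil) (by decide +kernel)

theorem g716_TC : Net.toPerm 276 g716 ∈ (grp 276 tt_c4_K) :=
  TC_s11.le (toPerm_mem_grp (E := V718) (List.Mem.head _))

theorem g717_TC : Net.toPerm 276 g717 ∈ (grp 276 tt_c4_K) :=
  TC_s11.le (toPerm_mem_grp (E := V718) (List.Mem.tail _ (List.Mem.head _)))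

noncomputable def TC_s14_O : ℕ := (nat_lit 0x9993333366666ccccc99999b3333666664ccccd9999b3333266666ccccd9999933332c1f07c1f07c1f07c0f83e0f83e0f83e0f81f07c1f07c1f07c1f03e0f83e0f83e0f83e7319cc63398ce7319cc63398ce7319ce63398c67319ce63398c67319ce63398c6731826d926c93649b24db26d936c9b649b24d926d936c9b64db24d926c93649b64db26d92000000000000010000000000000000000000000000000000000000000000000000000000000000000000000000000000000000000000000000000000000000000000000002000000000000000000000000000000000000002000000000000000000000000000000000000000000000040000000000000000000000000000000000000000000000000000000000000000000000000000000000000000000000000000000040000000000000000)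

theorem TC_s14_F : Frame 276 (grp 276 tt_c4_K) 5 9 TC_s14_O 1 1 :=
  IsBase.frame TC_s14.isBase (by decide +kernel)

noncomputable def TC_s13_O : ℕ := (nat_lit 0x2002408010080008a0000404000284300088000010000200200000220040000000000df6dbf0ea776cad71d26b37a3da873ce7267ff5decec9800000000000000208aa1010d8ec9976a8f54e311675f9f05fa87a8084100082000165ffd7bdff9ce000208aa10102abf7781bbaff47c973548832014084e36637f80001005fdd57a00411ebefffaa101090112e004e411a84221abfb53f168d7ff27400dfeb1225bf0ac7fc001b8ea08fff810fb9779ad63251695218bbdce40fa404cad9ef0dd16c947a2d645c3d01f903e8f507802fe61a195eb9564735c8a6f1f8e0bc49129f4c5ac496c558e3e53329981c79c5ac668e6fdd66971860a4d3ae3daa5d689ab6511c6aa14b6441496bbd6aa8b562a352ccb524000000000000010000000000000000000000000000000000000000000000000000000000000000000000000000000000000000000000000000000000000000000000000002000000000000000000000000000000000000002000000000000000000000000000000000000000000000040000000000000000000000000000000000000000000000000000)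

theorem TC_s13_F : Frame 276 (grp 276 tt_c4_K) 4 12 TC_s13_O 0 1 :=
  Stab.frame hn TC_s13 (by decide +kernel)

noncomputable def TC_s12_O : ℕ := (nat_lit 0x2000408010080008e000040400020430000800001000020020000020004020880001095e3260ca7d44e471c07dbfa7da0f94ef2e53c5eecacbcd0d334560200000002a10004b163c7fa576ca840454a2323d1cd1c266e6b311ecd1400104c221dff696df42a100094977f72c84bbc1e0a4c39ec37308cf432d10748021ed59ec8c1a98efba42037f7010d42a8a315f8362c3dcf9f7900ace863a19ad2e91d105d76b11b2a99ea0329837a1f80541b08c49ad0ba07a367a9518dee5d4ec4adc5962b45c0be37c6f1585f6aa632d0a784682e2df684f58c18c030e719dbb43a331338ecdb76679e8b2e72523dcaa35a66c924000000000000010000000000000000000000000000000000000000000000000000000000000000000000000000000000000000000000000000000000000000000000000002000000000000000000000000000000000000002000000000000000000000000000000)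

theorem TC_s12_F : Frame 276 (grp 276 tt_c4_K) 3 10 TC_s12_O 0 1 :=
  Stab.frame hn TC_s12 (by decide +kernel)

noncomputable def TC_s11_O : ℕ := (nat_lit 0x30006010028a0203a01185301882843a2024023010008001110000008050280801010973612831840dcaa5c02539e0d1004a214ab150582bcfe08669c25630aa513a2e0001688ac88597b830ace27c2844026e5348419820496a034287a18ba93a0953d8dbf43014481436752c96c906e8a0e49873ccdbc1c89846db04d5396cfc6a9f475cab695934b00ef635a7c2b1e09d159746347894f5ca6a7345cdb9174123bb95a3972294d95627cc8000000000000010000000000000000000000000000000000000000000000000000000000000000000000000000000000000000000000000000000000000000000000000002)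

theorem TC_s11_F : Frame 276 (grp 276 tt_c4_K) 2 7 TC_s11_O 0 1 :=
  Stab.frame hn TC_s11 (by decide +kernel)

noncomputable def ct_c5_cnt_L : List ℕ := [0, 15, TC_s0_O, 0, 0, 1, 20, TC_s1_O, 0, 0, 2, 7, TC_s11_O, 0, 0, 3, 10, TC_s12_O, 0, 0, 4, 12, TC_s13_O, 0, 0, 5, 9, TC_s14_O, 1, 0]

theorem ct_c5_cnt_P : Prob 276 9 (grp 276 tt_c4_K) ct_c5_cnt_EG [n_tw] [n_tw] ct_c5_K ct_c5_cnt_L 0 0 :=
  Sym.prob hn hk ct_c5_sym ct_c5_cnt_EG_ok (grp_cons_le g444_TC (grp_cons_le g445_TC (grp_cons_le g446_TC (grp_cons_le g447_TC (grp_cons_le n_u_TC (grp_cons_le g716_TC (grp_cons_le g717_TC (grp_cons_le g548_TC (grp_nil_le _))))))))) (Frames.cons TC_s0_F (Frames.cons TC_s1_F (Frames.cons TC_s11_F (Frames.cons TC_s12_F (Frames.cons TC_s13_F (Frames.cons TC_s14_F Frames.nil)))))) (okE_cons.2 ⟨n_tw_ok, okE_nil _⟩) _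

noncomputable def ct_c5_cnt_t : BT := (BT.frm (nat_lit 0) (nat_lit 0) (nat_lit 0) [] (BT.pln (nat_lit 0) (nat_lit 8) (BT.br (nat_lit 0) (nat_lit 220) [nat_lit 1] (BT.kid (nat_lit 220) (nat_lit 32) (BT.frm (nat_lit 1) (nat_lit 0) (nat_lit 0) [nat_lit 0] (BT.pln (nat_lit 0) (nat_lit 18) (BT.and (nat_lit 3) (nat_lit 0) (BT.br (nat_lit 0) (nat_lit 1) [nat_lit 3] (BT.kid (nat_lit 1) (nat_lit 16) (BT.pln (nat_lit 6) (nat_lit 9) (BT.br (nat_lit 0) (nat_lit 121) [nat_lit 5] (BT.kid (nat_lit 121) (nat_lit 4) (BT.pln (nat_lit 8) (nat_lit 3) (BT.frm (nat_lit 2) (nat_lit 0) (nat_lit 0) [nat_lit 3, nat_lit 7] (BT.pln (nat_lit 0) (nat_lit 2) (BT.dif (nat_lit 2) (nat_lit 0) (BT.frm (nat_lit 3) (nat_lit 0) (nat_lit 0) [nat_lit 4, nat_lit 6, nat_lit 10] (BT.pln (nat_lit 0) (nat_lit 4) (BT.dif (nat_lit 2) (nat_lit 0) (BT.pln (nat_lit 2) (nat_lit 3) (BT.dif (nat_lit 1) (nat_lit 0) (BT.br (nat_lit 0) (nat_lit 210) [nat_lit 7] (BT.kid (nat_lit 210) (nat_lit 2) (BT.pln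 (nat_lit 5) (nat_lit 8) (BT.and (nat_lit 5) (nat_lit 0) (BT.dif (nat_lit 0) (nat_lit 9) (BT.pln (nat_lit 8) (nat_lit 6) (BT.dif (nat_lit 1) (nat_lit 0) (BT.pln (nat_lit 23) (nat_lit 0) (BT.dif (nat_lit 1) (nat_lit 0) (BT.frm (nat_lit 4) (nat_lit 0) (nat_lit 0) [nat_lit 7, nat_lit 17, nat_lit 19, nat_lit 23] (BT.pln (nat_lit 0) (nat_lit 5) (BT.dif (nat_lit 2) (nat_lit 0) (BT.br (nat_lit 0) (nat_lit 66) [nat_lit 9] (BT.kid (nat_lit 66) (nat_lit 1) (BT.one (nat_lit 5) (nat_lit 0) (nat_lit 0) [nat_lit 0, nat_lit 11, nat_lit 21, nat_lit 23, nat_lit 27]) BT.nil)))))))))))) BT.nil))))))))))) BT.nil))) BT.nil))))) BT.nil))))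

theorem ct_c5_cnt : Cnt 276 (grp 276 tt_c4_K) [n_tw] [n_tw] 0 0 0 0 128 :=
  BT.sound ct_c5_cnt_P Known.nil (t := ct_c5_cnt_t) (d := 0) (by decide +kernel)

theorem ct_c5_ge : 128 ≤ Nat.card (grp 276 ct_c5_K) :=
  Ch.le_card_grp (k := 9) (L := (lab 276 9)) hn ct_c5_K_ok (c := (Ch.cons (nat_lit 220) [nat_lit 1] (Ch.cons (nat_lit 1) [nat_lit 3] (Ch.cons (nat_lit 121) [nat_lit 5] (Ch.cons (nat_lit 210) [nat_lit 7] (Ch.cons (nat_lit 66) [nat_lit 9] Ch.nil)))))) (by decide +kernel)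

theorem ct_c5_eq : (grp 276 tt_c4_K) ⊓ Subgroup.centralizer {Net.toPerm 276 n_tw} = grp 276 ct_c5_K :=
  cent_eq ct_c5_sym ct_c5_cnt ct_c5_ge

theorem ct_c5_card : Nat.card ↥((grp 276 tt_c4_K) ⊓ Subgroup.centralizer {Net.toPerm 276 n_tw}) = 128 :=
  card_cent ct_c5_sym ct_c5_cnt ct_c5_ge

theorem ct_c5_ord : orderOf (Net.toPerm 276 n_tw) = 2 :=
  orderOf_net hn hk n_tw_ok (by decide) (ps := [2]) (by set_option linter.unusedSimpArgs false in simp [Nat.primeFactorsList_ofNat]) (by decide +kernel)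

theorem le726 : grp 276 ct_c6_K ≤ grp 276 tt_c4_K :=
  grp_le_of_memB hn hk tt_c4_K_ok ct_c6_K_ok (ws := [nat_lit 0x9070402, nat_lit 1281, nat_lit 1793, nat_lit 2305, nat_lit 257]) (by decide +kernel)

theorem ct_c6_le : grp 276 ct_c6_K ≤ (grp 276 tt_c4_K) :=
  (le726.trans TC_s0.le)

theorem ct_c6_mem : Net.toPerm 276 g548 ∈ (grp 276 tt_c4_K) :=
  ct_c6_le (mem_grp_of_memB hn hk ct_c6_K_ok g548_ok (w := (nat_lit 0x5050101)) (by decide +kernel))

theorem ct_c6_sym : Sym 276 (grp 276 tt_c4_K) [g548] ct_c6_K 0 :=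
  Sym.of_lab hn hk (okE_cons.2 ⟨g548_ok, okE_nil _⟩) ct_c6_K_ok ct_c6_le (kT := 0) (by decide +kernel)

theorem le728 : grp 276 V727 ≤ grp 276 tt_c4_K :=
  grp_le_of_memB hn hk tt_c4_K_ok V727_ok (ws := [nat_lit 1797, nat_lit 591618, nat_lit 2305, nat_lit 257]) (by decide +kernel)

theorem TC_s15 : Stab 276 (grp 276 tt_c4_K) [nat_lit 200] V727 32 :=
  Stab.step (k := 9) (L := (lab 276 9)) hn TC_s0 V727_ok le728 (c := (Ch.cons (nat_lit 31) [nat_lit 1] (Ch.cons (nat_lit 237) [nat_lit 3] (Ch.cons (nat_lit 95) [nat_lit 5] (Ch.cons (nat_lit 106) [nat_lit 7] Ch.nil))))) (by decide +kernel)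

theorem TC_s16 : Stab 276 (grp 276 tt_c4_K) [nat_lit 31, nat_lit 200] V729 16 :=
  Stab.step (k := 9) (L := (lab 276 9)) hn TC_s15 V729_ok (grp_mono (List.subset_append_right [g706] _)) (c := (Ch.cons (nat_lit 237) [nat_lit 1] (Ch.cons (nat_lit 95) [nat_lit 3] (Ch.cons (nat_lit 106) [nat_lit 5] Ch.nil)))) (by decide +kernel)

theorem TC_s17 : Stab 276 (grp 276 tt_c4_K) [nat_lit 237, nat_lit 31, nat_lit 200] V730 4 :=
  Stab.step (k := 9) (L := (lab 276 9)) hn TC_s16 V730_ok (grp_mono (List.subset_append_right [g524] _)) (c := (Ch.cons (nat_lit 95) [nat_lit 1] (Ch.cons (nat_lit 106) [nat_lit 3] Ch.nil))) (by decide +kernel)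

theorem TC_s18 : Stab 276 (grp 276 tt_c4_K) [nat_lit 95, nat_lit 237, nat_lit 31, nat_lit 200] V731 2 :=
  Stab.step (k := 9) (L := (lab 276 9)) hn TC_s17 V731_ok (grp_mono (List.subset_append_right [g705] _)) (c := (Ch.cons (nat_lit 106) [nat_lit 1] Ch.nil)) (by decide +kernel)

theorem TC_s19 : Stab 276 (grp 276 tt_c4_K) [nat_lit 106, nat_lit 95, nat_lit 237, nat_lit 31, nat_lit 200] V732 1 :=
  Stab.step (k := 9) (L := (lab 276 9)) hn TC_s18 V732_ok (grp_mono (List.subset_append_right [g491] _)) (c := Ch.nil) (by decide +kernel)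

theorem g524_TC : Net.toPerm 276 g524 ∈ (grp 276 tt_c4_K) :=
  TC_s16.le (toPerm_mem_grp (E := V729) (List.Mem.head _))

theorem g705_TC : Net.toPerm 276 g705 ∈ (grp 276 tt_c4_K) :=
  TC_s16.le (toPerm_mem_grp (E := V729) (List.Mem.tail _ (List.Mem.head _)))

theorem g491_TC : Net.toPerm 276 g491 ∈ (grp 276 tt_c4_K) :=
  TC_s16.le (toPerm_mem_grp (E := V729) (List.Mem.tail _ (List.Mem.tail _ (List.Mem.head _))))

theorem g706_TC : Net.toPerm 276 g706 ∈ (grp 276 tt_c4_K) :=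
  TC_s15.le (toPerm_mem_grp (E := V727) (List.Mem.head _))

noncomputable def TC_s19_O : ℕ := (nat_lit 0x9993333366666ccccc99999b3333666664ccccd9999b3333266666ccccd9999933332c1f07c1f07c1f07c0f83e0f83e0f83e0f81f07c1f07c1f07c1f03e0f83e0f83e0f83e7319cc63398ce7319cc63398ce7319ce63398c67319ce63398c67319ce63398c6731826d926c93649b24db26d936c9b649b24d926d936c9b64db24d926c93649b64db26d92000000000000000000100000000000000000000000000000000000000000000000000000000000000000000000000000000000000000000000000000000000000080000000000000000200000000000000000000000000000000000000000000000000000000000000000000000000000000000000000000000000000000800000000000000000000000000000000000000000000000000000000000000000400000000000000000000000000)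

theorem TC_s19_F : Frame 276 (grp 276 tt_c4_K) 5 9 TC_s19_O 1 1 :=
  IsBase.frame TC_s19.isBase (by decide +kernel)

noncomputable def TC_s18_O : ℕ := (nat_lit 0x810040000888000020001482000080180000102010a024090100000000000000000001eacb9fc5573e74b96478358bbff7b26fff6cf49e10ed154000004000070202001010587f3aeba476618cd263c33d5bfe63a0000100920e010082fe7dbffef378202001010bbad56dbf9cb1c09304cd125840108c3ffffcc840a110202fefbb40100f7f7fd810104440a906d131b6b54e2d2cbe9df09059e7c113e4e9190022fe840ffc0477f6227fa10cf4750de28709eaf818f4e9edb0ec002f437235d9eb6f202e0784dc3e4f781d2781e0e13fbe6a259d86a25d4b04a8b6cd229edb31e39870d4876a98e58d33924671ae6658cec66f333b0d75a71faa0cc3aaeab2d13a2a4ba495d34459354532cab5125654955d4a000000000000000000100000000000000000000000000000000000000000000000000000000000000000000000000000000000000000000000000000000000000080000000000000000200000000000000000000000000000000000000000000000000000000000000000000000000000000000000000000000000000000800000000000000000000000)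

theorem TC_s18_F : Frame 276 (grp 276 tt_c4_K) 4 12 TC_s18_O 0 1 :=
  Stab.frame hn TC_s18 (by decide +kernel)

noncomputable def TC_s17_O : ℕ := (nat_lit 0x810000000888000020001482000080080000100010a02c09010004000050000000000187bc3ebd456e0cb5063c3399a1d6396b8f0c1294707d0d2163db3be53202020010103a0cf526e07178428248017cadb329579a73c8bfc114c356bcc2000180aff7fd01010c8e572a561cb52bd5a0dfa11dca0e19bb77906368210002181f9b9e0a43ff422ffa1053afd84d14921e2337e8c90e206112d8688af6baf2be9b01283cea1f842f23e2f91f02e2c984e6cd762e4b963c28bd4565b448a4a7ae6de59047a4b5c115970bce33ae658cc1716e4c2030e7701a8c5abfc9f14deacc20fbaf8c8776107bf59e94628ab29455d4a000000000000000000100000000000000000000000000000000000000000000000000000000000000000000000000000000000000000000000000000000000000080000000000000000200000000000000000000000000000000000000000000000000000000000)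

theorem TC_s17_F : Frame 276 (grp 276 tt_c4_K) 3 10 TC_s17_O 0 1 :=
  Stab.frame hn TC_s17 (by decide +kernel)

noncomputable def TC_s15_O : ℕ := (nat_lit 0x1000000000000000000000000000000000000000000000000000000000000000000000000000000010080000000000000000000000000000010080000020020000000000000000000000000000000000100000000000000200000100000000000000000000008000000000000000000000000000000000280000000000000000000080000000000000000010000000000000000000200000000000000080000000000200000000000000000000000000000000000800000000000000000000000000000000000100000002000000000000000000000200000010000000000000010000000000000004200000000000000000000000000000000000002000040000008000020000400000080000000000010000000000000000040000001000000020010000008100010020108000002000000100004000108021000000100000000023410000000800010004000000000000002010000100000001000010204010000000810000000800000000001082000000000000100000a02c08000004000020002000000000200801000000840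0000040000000000880000000002002000002200000082a0000400000000000000002080840022800000000000000000084000208000102000110000000888000500000000602000004002000100200040000000000000080000000000300000000100002122000008000000000000004021002000000000800008801000040001004006000034000000020209010548400800c888000400000801108010800214000000080014a8001440008800000c4000104c20004000100004204040010240040000c04000010000000008100404000020000081040100002c031100c220c2044000044000c28000000000000000000100000000000000000000000000000000000000000000000000)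

theorem TC_s15_F : Frame 276 (grp 276 tt_c4_K) 1 20 TC_s15_O 0 1 :=
  Stab.frame hn TC_s15 (by decide +kernel)

noncomputable def ct_c6_cnt_L : List ℕ := [0, 15, TC_s0_O, 0, 0, 1, 20, TC_s15_O, 0, 0, 3, 10, TC_s17_O, 0, 0, 4, 12, TC_s18_O, 0, 0, 5, 9, TC_s19_O, 1, 0]

theorem ct_c6_cnt_P : Prob 276 9 (grp 276 tt_c4_K) ct_c6_cnt_EG [g548] [g548] ct_c6_K ct_c6_cnt_L 0 0 :=
  Sym.prob hn hk ct_c6_sym ct_c6_cnt_EG_ok (grp_cons_le g444_TC (grp_cons_le g445_TC (grp_cons_le g446_TC (grp_cons_le g447_TC (grp_cons_le n_u_TC (grp_cons_le g524_TC (grp_cons_le g705_TC (grp_cons_le g491_TC (grp_cons_le g706_TC (grp_nil_le _)))))))))) (Frames.cons TC_s0_F (Frames.cons TC_s15_F (Frames.cons TC_s17_F (Frames.cons TC_s18_F (Frames.cons TC_s19_F Frames.nil))))) (okE_cons.2 ⟨g548_ok, okE_nil _⟩) _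

noncomputable def ct_c6_cnt_t : BT := (BT.frm (nat_lit 0) (nat_lit 0) (nat_lit 0) [] (BT.pln (nat_lit 0) (nat_lit 11) (BT.br (nat_lit 0) (nat_lit 200) [nat_lit 1] (BT.kid (nat_lit 200) (nat_lit 32) (BT.frm (nat_lit 1) (nat_lit 0) (nat_lit 0) [nat_lit 0] (BT.pln (nat_lit 0) (nat_lit 18) (BT.and (nat_lit 3) (nat_lit 0) (BT.br (nat_lit 0) (nat_lit 31) [nat_lit 3] (BT.kid (nat_lit 31) (nat_lit 16) (BT.pln (nat_lit 6) (nat_lit 12) (BT.br (nat_lit 0) (nat_lit 237) [nat_lit 5] (BT.kid (nat_lit 237) (nat_lit 4) (BT.pln (nat_lit 8) (nat_lit 4) (BT.frm (nat_lit 2) (nat_lit 0) (nat_lit 0) [nat_lit 1, nat_lit 3, nat_lit 7] (BT.pln (nat_lit 0) (nat_lit 3) (BT.dif (nat_lit 2) (nat_lit 0) (BT.pln (nat_lit 2) (nat_lit 4) (BT.dif (nat_lit 1) (nat_lit 0) (BT.br (nat_lit 0) (nat_lit 95) [nat_lit 7] (BT.kid (nat_lit 95) (nat_lit 2) (BT.dif (nat_lit 2) (nat_lit 4) (BT.pln (nat_lit 6) (nat_lit 5) (BT.dif (nat_lit 1) (nat_lit 0) (BT.pln (nat_lit 8) (nat_lit 6) (BT.dif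 (nat_lit 1) (nat_lit 0) (BT.pln (nat_lit 10) (nat_lit 7) (BT.dif (nat_lit 1) (nat_lit 0) (BT.pln (nat_lit 12) (nat_lit 8) (BT.dif (nat_lit 1) (nat_lit 0) (BT.dif (nat_lit 0) (nat_lit 15) (BT.frm (nat_lit 3) (nat_lit 0) (nat_lit 0) [nat_lit 10, nat_lit 17, nat_lit 19, nat_lit 23] (BT.pln (nat_lit 0) (nat_lit 4) (BT.dif (nat_lit 2) (nat_lit 0) (BT.br (nat_lit 0) (nat_lit 106) [nat_lit 9] (BT.kid (nat_lit 106) (nat_lit 1) (BT.one (nat_lit 4) (nat_lit 0) (nat_lit 0) [nat_lit 0, nat_lit 14, nat_lit 21, nat_lit 23, nat_lit 27]) BT.nil))))))))))))))) BT.nil)))))))) BT.nil))) BT.nil))))) BT.nil))))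

theorem ct_c6_cnt : Cnt 276 (grp 276 tt_c4_K) [g548] [g548] 0 0 0 0 128 :=
  BT.sound ct_c6_cnt_P Known.nil (t := ct_c6_cnt_t) (d := 0) (by decide +kernel)

theorem ct_c6_ge : 128 ≤ Nat.card (grp 276 ct_c6_K) :=
  Ch.le_card_grp (k := 9) (L := (lab 276 9)) hn ct_c6_K_ok (c := (Ch.cons (nat_lit 200) [nat_lit 1] (Ch.cons (nat_lit 31) [nat_lit 3] (Ch.cons (nat_lit 237) [nat_lit 5] (Ch.cons (nat_lit 95) [nat_lit 7] (Ch.cons (nat_lit 106) [nat_lit 9] Ch.nil)))))) (by decide +kernel)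

theorem ct_c6_eq : (grp 276 tt_c4_K) ⊓ Subgroup.centralizer {Net.toPerm 276 g548} = grp 276 ct_c6_K :=
  cent_eq ct_c6_sym ct_c6_cnt ct_c6_ge

theorem ct_c6_card : Nat.card ↥((grp 276 tt_c4_K) ⊓ Subgroup.centralizer {Net.toPerm 276 g548}) = 128 :=
  card_cent ct_c6_sym ct_c6_cnt ct_c6_ge

theorem ct_c6_ord : orderOf (Net.toPerm 276 g548) = 2 :=
  orderOf_net hn hk g548_ok (by decide) (ps := [2]) (by set_option linter.unusedSimpArgs false in simp [Nat.primeFactorsList_ofNat]) (by decide +kernel)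

theorem le736 : grp 276 ct_c7_K ≤ grp 276 tt_c4_K :=
  grp_le_of_memB hn hk tt_c4_K_ok ct_c7_K_ok (ws := [nat_lit 1794, nat_lit 591621, nat_lit 591619, nat_lit 2307, nat_lit 771]) (by decide +kernel)

theorem ct_c7_le : grp 276 ct_c7_K ≤ (grp 276 tt_c4_K) :=
  (le736.trans TC_s0.le)

theorem ct_c7_mem : Net.toPerm 276 g491 ∈ (grp 276 tt_c4_K) :=
  ct_c7_le (mem_grp_of_memB hn hk ct_c7_K_ok g491_ok (w := (nat_lit 0x905050101)) (by decide +kernel))

theorem ct_c7_sym : Sym 276 (grp 276 tt_c4_K) [g491] ct_c7_K 0 :=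
  Sym.of_lab hn hk (okE_cons.2 ⟨g491_ok, okE_nil _⟩) ct_c7_K_ok ct_c7_le (kT := 0) (by decide +kernel)

theorem le738 : grp 276 V737 ≤ grp 276 V718 :=
  grp_le_of_memB hn hk V718_ok V737_ok (ws := [nat_lit 196865, nat_lit 5]) (by decide +kernel)

theorem TC_s20 : Stab 276 (grp 276 tt_c4_K) [nat_lit 165, nat_lit 1, nat_lit 220] V737 4 :=
  Stab.step (k := 9) (L := (lab 276 9)) hn TC_s11 V737_ok le738 (c := (Ch.cons (nat_lit 27) [nat_lit 1] (Ch.cons (nat_lit 90) [nat_lit 3] Ch.nil))) (by decide +kernel)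

theorem TC_s21 : Stab 276 (grp 276 tt_c4_K) [nat_lit 27, nat_lit 165, nat_lit 1, nat_lit 220] V739 2 :=
  Stab.step (k := 9) (L := (lab 276 9)) hn TC_s20 V739_ok (grp_mono (List.subset_append_right [g684] _)) (c := (Ch.cons (nat_lit 90) [nat_lit 1] Ch.nil)) (by decide +kernel)

theorem TC_s22 : Stab 276 (grp 276 tt_c4_K) [nat_lit 90, nat_lit 27, nat_lit 165, nat_lit 1, nat_lit 220] V740 1 :=
  Stab.step (k := 9) (L := (lab 276 9)) hn TC_s21 V740_ok (grp_mono (List.subset_append_right [g548] _)) (c := Ch.nil) (by decide +kernel)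

theorem g684_TC : Net.toPerm 276 g684 ∈ (grp 276 tt_c4_K) :=
  TC_s20.le (toPerm_mem_grp (E := V737) (List.Mem.head _))

noncomputable def TC_s22_O : ℕ := (nat_lit 0x9993333366666ccccc99999b3333666664ccccd9999b3333266666ccccd9999933332c1f07c1f07c1f07c0f83e0f83e0f83e0f81f07c1f07c1f07c1f03e0f83e0f83e0f83e7319cc63398ce7319cc63398ce7319ce63398c67319ce63398c67319ce63398c6731826d926c93649b24db26d936c9b649b24d926d936c9b64db24d926c93649b64db26d92000000000000010000000000000000000000000000000000000000000000000000000000000000000000000000000000000000000000000000000000000000000000000002000000000000000000000000000200000000000000000000000000000000000000000000000000000000000000000000000000000000000000000000000000000008000000000000000000000000000000000000000000000000000040000000000000000000000)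

theorem TC_s22_F : Frame 276 (grp 276 tt_c4_K) 5 9 TC_s22_O 1 1 :=
  IsBase.frame TC_s22.isBase (by decide +kernel)

noncomputable def TC_s21_O : ℕ := (nat_lit 0x2002408010080008e0000404000084300088002010000200200000220000000000000df6dbf0ea776cad71d26b37a3da873ce7267ff5decec9800000000000040200aa1010d8ec9976a8f54e311675f9f05fa87a8084100082000165ffd7bdff9ce040200aa10102abf7781bbaff47c973548832014084e36637f80001005fdd57a00411efeff7aa101090112e004e411a84621abfb53f148d7ff27400dfeb1225bf0ac7fc001bcea00fff810fb9779ad63251695618bbdce40f8404cad9ef0fd16c945a2d645c3d01fd03e0f507802fe61a195eb9564775c8a2f1f8e0bc49129f4c5ac496c758e3e53309985c7945ac668e6fdd66971860a4d5ae3dea1d689ab6511c6aa34a64416969bd6aaa9566a152ccb524000000000000010000000000000000000000000000000000000000000000000000000000000000000000000000000000000000000000000000000000000000000000000002000000000000000000000000000200000000000000000000000000000000000000000000000000000000000000000000000000000000000000000000000000000008000000)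

theorem TC_s21_F : Frame 276 (grp 276 tt_c4_K) 4 12 TC_s21_O 0 1 :=
  Stab.frame hn TC_s21 (by decide +kernel)

noncomputable def TC_s20_O : ℕ := (nat_lit 0x2002408010080008e00004040000042000800020100002002000002200402088000001f8cba0eabe4c6430f27ebba7980c39a763f7ddcacacbcecd531060000000002a10108c3db85b8122eac41436b2311e148bd6202d2f5da415401302c6a951d6bedf72a101079996fd4c83b141a8a2c29f83a3cdc373268028203baddbecac6b900db86800fff8107105917377c69a93c8db854d25e88e9c0f8c239552a8d87135e021ecfd181e07f17907a7e9931d97280973afd6f8881d83361449ba74bb85ad48d1695318b82d4594fac6689ba2e16ddfa912d39085d3a79291ca29a18fbc33c6e0ed18bb967d834caa3524cb524000000000000010000000000000000000000000000000000000000000000000000000000000000000000000000000000000000000000000000000000000000000000000002000000000000000000000000000200000000000000000000000000000000000000000)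

theorem TC_s20_F : Frame 276 (grp 276 tt_c4_K) 3 10 TC_s20_O 0 1 :=
  Stab.frame hn TC_s20 (by decide +kernel)

noncomputable def ct_c7_cnt_L : List ℕ := [0, 15, TC_s0_O, 0, 0, 1, 20, TC_s1_O, 0, 0, 2, 7, TC_s11_O, 0, 0, 3, 10, TC_s20_O, 0, 0, 4, 12, TC_s21_O, 0, 0, 5, 9, TC_s22_O, 1, 0]

theorem ct_c7_cnt_P : Prob 276 9 (grp 276 tt_c4_K) ct_c7_cnt_EG [g491] [g491] ct_c7_K ct_c7_cnt_L 0 0 :=
  Sym.prob hn hk ct_c7_sym ct_c7_cnt_EG_ok (grp_cons_le g444_TC (grp_cons_le g445_TC (grp_cons_le g446_TC (grp_cons_le g447_TC (grp_cons_le n_u_TC (grp_cons_le g716_TC (grp_cons_le g717_TC (grp_cons_le g548_TC (grp_cons_le g684_TC (grp_nil_le _)))))))))) (Frames.cons TC_s0_F (Frames.cons TC_s1_F (Frames.cons TC_s11_F (Frames.cons TC_s20_F (Frames.cons TC_s21_F (Frames.cons TC_s22_F Frames.nil)))))) (okE_cons.2 ⟨g491_ok, okE_nil _⟩) _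

noncomputable def ct_c7_cnt_t : BT := (BT.frm (nat_lit 0) (nat_lit 0) (nat_lit 0) [] (BT.pln (nat_lit 0) (nat_lit 8) (BT.br (nat_lit 0) (nat_lit 220) [nat_lit 1] (BT.kid (nat_lit 220) (nat_lit 32) (BT.frm (nat_lit 1) (nat_lit 0) (nat_lit 0) [nat_lit 0] (BT.pln (nat_lit 0) (nat_lit 18) (BT.and (nat_lit 3) (nat_lit 0) (BT.br (nat_lit 0) (nat_lit 1) [nat_lit 3] (BT.kid (nat_lit 1) (nat_lit 16) (BT.pln (nat_lit 6) (nat_lit 10) (BT.br (nat_lit 0) (nat_lit 165) [nat_lit 5] (BT.kid (nat_lit 165) (nat_lit 4) (BT.pln (nat_lit 8) (nat_lit 3) (BT.frm (nat_lit 3) (nat_lit 0) (nat_lit 0) [nat_lit 1, nat_lit 3, nat_lit 7] (BT.pln (nat_lit 0) (nat_lit 5) (BT.dif (nat_lit 2) (nat_lit 0) (BT.frm (nat_lit 2) (nat_lit 0) (nat_lit 0) [nat_lit 6, nat_lit 10] (BT.pln (nat_lit 0) (nat_lit 2) (BT.dif (nat_lit 2) (nat_lit 0) (BT.br (nat_lit 0) (nat_lit 27) [nat_lit 7] (BT.kid (nat_lit 27) (nat_lit 2) (BT.pln (nat_lit 6) (nat_lit 8) (BT.and (nat_lit 6) (nat_lit 0) (BT.pln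 (nat_lit 8) (nat_lit 3) (BT.dif (nat_lit 1) (nat_lit 0) (BT.dif (nat_lit 0) (nat_lit 6) (BT.pln (nat_lit 8) (nat_lit 3) (BT.dif (nat_lit 1) (nat_lit 0) (BT.frm (nat_lit 4) (nat_lit 0) (nat_lit 0) [nat_lit 7, nat_lit 15, nat_lit 17, nat_lit 21] (BT.pln (nat_lit 0) (nat_lit 4) (BT.dif (nat_lit 2) (nat_lit 0) (BT.br (nat_lit 0) (nat_lit 90) [nat_lit 9] (BT.kid (nat_lit 90) (nat_lit 1) (BT.one (nat_lit 5) (nat_lit 0) (nat_lit 0) [nat_lit 0, nat_lit 11, nat_lit 19, nat_lit 21, nat_lit 25]) BT.nil)))))))))))) BT.nil))))))))) BT.nil))) BT.nil))))) BT.nil))))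

theorem ct_c7_cnt : Cnt 276 (grp 276 tt_c4_K) [g491] [g491] 0 0 0 0 128 :=
  BT.sound ct_c7_cnt_P Known.nil (t := ct_c7_cnt_t) (d := 0) (by decide +kernel)

theorem ct_c7_ge : 128 ≤ Nat.card (grp 276 ct_c7_K) :=
  Ch.le_card_grp (k := 9) (L := (lab 276 9)) hn ct_c7_K_ok (c := (Ch.cons (nat_lit 220) [nat_lit 1] (Ch.cons (nat_lit 1) [nat_lit 3] (Ch.cons (nat_lit 165) [nat_lit 5] (Ch.cons (nat_lit 27) [nat_lit 7] (Ch.cons (nat_lit 90) [nat_lit 9] Ch.nil)))))) (by decide +kernel)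

theorem ct_c7_eq : (grp 276 tt_c4_K) ⊓ Subgroup.centralizer {Net.toPerm 276 g491} = grp 276 ct_c7_K :=
  cent_eq ct_c7_sym ct_c7_cnt ct_c7_ge

theorem ct_c7_card : Nat.card ↥((grp 276 tt_c4_K) ⊓ Subgroup.centralizer {Net.toPerm 276 g491}) = 128 :=
  card_cent ct_c7_sym ct_c7_cnt ct_c7_ge

theorem ct_c7_ord : orderOf (Net.toPerm 276 g491) = 2 :=
  orderOf_net hn hk g491_ok (by decide) (ps := [2]) (by set_option linter.unusedSimpArgs false in simp [Nat.primeFactorsList_ofNat]) (by decide +kernel)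

theorem le741 : grp 276 ct_c8_K ≤ grp 276 tt_c4_K :=
  grp_le_of_memB hn hk tt_c4_K_ok ct_c8_K_ok (ws := [nat_lit 0x7050301, nat_lit 0x3030101, nat_lit 9, nat_lit 771]) (by decide +kernel)

theorem ct_c8_le : grp 276 ct_c8_K ≤ (grp 276 tt_c4_K) :=
  (le741.trans TC_s0.le)

theorem ct_c8_mem : Net.toPerm 276 n_x ∈ (grp 276 tt_c4_K) :=
  ct_c8_le (toPerm_mem_grp (E := ct_c8_K) (List.Mem.head _))

theorem ct_c8_sym : Sym 276 (grp 276 tt_c4_K) [n_x] ct_c8_K 0 :=
  Sym.of_lab hn hk (okE_cons.2 ⟨n_x_ok, okE_nil _⟩) ct_c8_K_ok ct_c8_le (kT := 0) (by decide +kernel)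

noncomputable def ct_c8_cnt_L : List ℕ := [0, 15, TC_s0_O, 0, 0, 2, 7, TC_s11_O, 0, 0, 3, 10, TC_s12_O, 0, 0, 4, 12, TC_s13_O, 0, 0, 5, 9, TC_s14_O, 1, 0]

theorem ct_c8_cnt_P : Prob 276 9 (grp 276 tt_c4_K) ct_c8_cnt_EG [n_x] [n_x] ct_c8_K ct_c8_cnt_L 0 0 :=
  Sym.prob hn hk ct_c8_sym ct_c8_cnt_EG_ok (grp_cons_le g445_TC (grp_cons_le g446_TC (grp_cons_le g447_TC (grp_cons_le n_u_TC (grp_cons_le g444_TC (grp_cons_le g716_TC (grp_cons_le g717_TC (grp_cons_le g548_TC (grp_nil_le _))))))))) (Frames.cons TC_s0_F (Frames.cons TC_s11_F (Frames.cons TC_s12_F (Frames.cons TC_s13_F (Frames.cons TC_s14_F Frames.nil))))) (okE_cons.2 ⟨n_x_ok, okE_nil _⟩) _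

noncomputable def ct_c8_cnt_t : BT := (BT.frm (nat_lit 0) (nat_lit 0) (nat_lit 0) [] (BT.pln (nat_lit 0) (nat_lit 8) (BT.br (nat_lit 0) (nat_lit 220) [nat_lit 1, nat_lit 3] (BT.kid (nat_lit 220) (nat_lit 4) (BT.pln (nat_lit 2) (nat_lit 9) (BT.br (nat_lit 0) (nat_lit 121) [nat_lit 5] (BT.dead (nat_lit 152) (BT.img (nat_lit 1) (nat_lit 2) (BT.and (nat_lit 4) (nat_lit 0) (BT.frm (nat_lit 2) (nat_lit 723715) (nat_lit 3075) [nat_lit 2, nat_lit 0, nat_lit 4] (BT.pln (nat_lit 0) (nat_lit 3) (BT.fix (nat_lit 1) (BT.and (nat_lit 1) (nat_lit 0) (BT.cnt (nat_lit 0)))))))) (BT.kid (nat_lit 121) (nat_lit 2) (BT.pln (nat_lit 4) (nat_lit 3) (BT.img (nat_lit 1) (nat_lit 3) (BT.and (nat_lit 5) (nat_lit 0) (BT.frm (nat_lit 1) (nat_lit 3) (nat_lit 3) [nat_lit 0, nat_lit 5] (BT.pln (nat_lit 0) (nat_lit 2) (BT.dif (nat_lit 4) (nat_lit 0) (BT.frm (nat_lit 2) (nat_lit 723715) (nat_lit 723715) [nat_lit 6, nat_lit 3, nat_lit 8] (BT.pln (nat_lit 0) (nat_lit 4) (BT.dif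 (nat_lit 2) (nat_lit 0) (BT.pln (nat_lit 2) (nat_lit 3) (BT.dif (nat_lit 1) (nat_lit 0) (BT.br (nat_lit 0) (nat_lit 261) [] (BT.dead (nat_lit 21) (BT.frm (nat_lit 3) (nat_lit 0xd0b0b03) (nat_lit 723715) [nat_lit 0, nat_lit 12, nat_lit 9, nat_lit 14] (BT.pln (nat_lit 0) (nat_lit 4) (BT.fix (nat_lit 1) (BT.and (nat_lit 1) (nat_lit 0) (BT.cnt (nat_lit 0)))))) (BT.kid (nat_lit 261) (nat_lit 2) (BT.pln (nat_lit 5) (nat_lit 8) (BT.and (nat_lit 5) (nat_lit 0) (BT.dif (nat_lit 0) (nat_lit 9) (BT.pln (nat_lit 8) (nat_lit 6) (BT.dif (nat_lit 1) (nat_lit 0) (BT.pln (nat_lit 21) (nat_lit 0) (BT.dif (nat_lit 1) (nat_lit 0) (BT.frm (nat_lit 3) (nat_lit 0xd0b0b03) (nat_lit 0xd0b0b03) [nat_lit 7, nat_lit 19, nat_lit 16, nat_lit 21] (BT.pln (nat_lit 0) (nat_lit 5) (BT.dif (nat_lit 2) (nat_lit 0) (BT.br (nat_lit 0) (nat_lit 233) [nat_lit 7] (BT.kid (nat_lit 233) (nat_lit 1) (BT.one (nat_lit 4) (nat_lit 0xf0d0b0b03) (nat_lit 0xf0d0b0b03) [nat_lit 0, nat_lit 11, nat_lit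 23, nat_lit 20, nat_lit 25]) BT.nil)))))))))))) BT.nil)))))))))))))) BT.nil)))) BT.nil))))

theorem ct_c8_cnt : Cnt 276 (grp 276 tt_c4_K) [n_x] [n_x] 0 0 0 0 16 :=
  BT.sound ct_c8_cnt_P Known.nil (t := ct_c8_cnt_t) (d := 0) (by decide +kernel)

theorem ct_c8_ge : 16 ≤ Nat.card (grp 276 ct_c8_K) :=
  Ch.le_card_grp (k := 9) (L := (lab 276 9)) hn ct_c8_K_ok (c := (Ch.cons (nat_lit 220) [nat_lit 1, nat_lit 3] (Ch.cons (nat_lit 121) [nat_lit 5] (Ch.cons (nat_lit 233) [nat_lit 7] Ch.nil)))) (by decide +kernel)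

theorem ct_c8_eq : (grp 276 tt_c4_K) ⊓ Subgroup.centralizer {Net.toPerm 276 n_x} = grp 276 ct_c8_K :=
  cent_eq ct_c8_sym ct_c8_cnt ct_c8_ge

theorem ct_c8_card : Nat.card ↥((grp 276 tt_c4_K) ⊓ Subgroup.centralizer {Net.toPerm 276 n_x}) = 16 :=
  card_cent ct_c8_sym ct_c8_cnt ct_c8_ge

theorem ct_c8_ord : orderOf (Net.toPerm 276 n_x) = 2 :=
  orderOf_net hn hk n_x_ok (by decide) (ps := [2]) (by set_option linter.unusedSimpArgs false in simp [Nat.primeFactorsList_ofNat]) (by decide +kernel)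

theorem le745 : grp 276 ct_c9_K ≤ grp 276 tt_c4_K :=
  grp_le_of_memB hn hk tt_c4_K_ok ct_c9_K_ok (ws := [nat_lit 327937, nat_lit 2309, nat_lit 0x9050303, nat_lit 328451]) (by decide +kernel)

theorem ct_c9_le : grp 276 ct_c9_K ≤ (grp 276 tt_c4_K) :=
  (le745.trans TC_s0.le)

theorem ct_c9_mem : Net.toPerm 276 g742 ∈ (grp 276 tt_c4_K) :=
  ct_c9_le (toPerm_mem_grp (E := ct_c9_K) (List.Mem.head _))

theorem ct_c9_sym : Sym 276 (grp 276 tt_c4_K) [g742] ct_c9_K 0 :=
  Sym.of_lab hn hk (okE_cons.2 ⟨g742_ok, okE_nil _⟩) ct_c9_K_ok ct_c9_le (kT := 0) (by decide +kernel)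

theorem le747 : grp 276 V746 ≤ grp 276 V688 :=
  grp_le_of_memB hn hk V688_ok V746_ok (ws := [nat_lit 1]) (by decide +kernel)

theorem TC_s23 : Stab 276 (grp 276 tt_c4_K) [nat_lit 274, nat_lit 84, nat_lit 220] V746 2 :=
  Stab.step (k := 9) (L := (lab 276 9)) hn TC_s2 V746_ok le747 (c := (Ch.cons (nat_lit 243) [nat_lit 1] Ch.nil)) (by decide +kernel)

theorem TC_s24 : Stab 276 (grp 276 tt_c4_K) [nat_lit 243, nat_lit 274, nat_lit 84, nat_lit 220] V748 1 :=
  Stab.step (k := 9) (L := (lab 276 9)) hn TC_s23 V748_ok (grp_mono (List.subset_append_right [g446] _)) (c := Ch.nil) (by decide +kernel)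

noncomputable def TC_s24_O : ℕ := (nat_lit 0x9993333366666ccccc99999b3333666664ccccd9999b3333266666ccccd9999933332c1f07c1f07c1f07c0f83e0f83e0f83e0f81f07c1f07c1f07c1f03e0f83e0f83e0f83e7319cc63398ce7319cc63398ce7319ce63398c67319ce63398c67319ce63398c6731826d926c93649b24db26d936c9b649b24d926d936c9b64db24d926c93649b64db26d92000000000000010000000000000000000000000000000000000000000000000000000000000000000000000000000000000000000000000000001000000000000000000000400000000000000000000000000000000000000000000000000000000000000000000000000008000000000000000000000000000000000000000000000000000000000000)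

theorem TC_s24_F : Frame 276 (grp 276 tt_c4_K) 4 8 TC_s24_O 1 1 :=
  IsBase.frame TC_s24.isBase (by decide +kernel)

noncomputable def TC_s23_O : ℕ := (nat_lit 0x40808004780000000100000020800320020000000000000000008000000000000010338177edb87de4ff3e63f7d4e9f7fb04dbdbe7cb5ff0fd3e8c0000000000000000000a0b653fbb034f6fb6fe7e57e1c53bacceb9a0810000a008041fff7e7fdaf80000000082465561185f4ebf86ede57119d441c92040ffeb5fce020031fdf72402103fffe000032152753b0357ebd7c9198a9070ff83d8041ddeaa03afd4053fd000bfe507f601fe00b3d0f14c103d7c0af0367d2211a7a24a5f20e525dc1ee0fc51e07cd3c1b87c9e1e1f03c7d9b8e603442d1d62e68f97b8f590a78f0e2e5631198b2b19ae38333c673199998c21effcdf2d1f14817acd4e4743c2d46f428886b912bd54ea0b54da32a9752a555554a000000000000010000000000000000000000000000000000000000000000000000000000000000000000000000000000000000000000000000001000000000000000000000400000000000000000000000000000000000000000000000000000000000000000000)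

theorem TC_s23_F : Frame 276 (grp 276 tt_c4_K) 3 11 TC_s23_O 0 1 :=
  Stab.frame hn TC_s23 (by decide +kernel)

noncomputable def ct_c9_cnt_L : List ℕ := [0, 15, TC_s0_O, 0, 0, 2, 8, TC_s2_O, 0, 0, 3, 11, TC_s23_O, 0, 0, 4, 8, TC_s24_O, 1, 0]

theorem ct_c9_cnt_P : Prob 276 9 (grp 276 tt_c4_K) ct_c9_cnt_EG [g742] [g742] ct_c9_K ct_c9_cnt_L 0 0 :=
  Sym.prob hn hk ct_c9_sym ct_c9_cnt_EG_ok (grp_cons_le g445_TC (grp_cons_le g446_TC (grp_cons_le g447_TC (grp_cons_le n_u_TC (grp_cons_le g444_TC (grp_nil_le _)))))) (Frames.cons TC_s0_F (Frames.cons TC_s2_F (Frames.cons TC_s23_F (Frames.cons TC_s24_F Frames.nil)))) (okE_cons.2 ⟨g742_ok, okE_nil _⟩) _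

noncomputable def ct_c9_cnt_t : BT := (BT.frm (nat_lit 0) (nat_lit 0) (nat_lit 0) [] (BT.pln (nat_lit 0) (nat_lit 8) (BT.fix (nat_lit 1) (BT.dif (nat_lit 1) (nat_lit 0) (BT.br (nat_lit 0) (nat_lit 220) [nat_lit 1] (BT.kid (nat_lit 220) (nat_lit 8) (BT.pln (nat_lit 4) (nat_lit 11) (BT.dif (nat_lit 0) (nat_lit 3) (BT.br (nat_lit 0) (nat_lit 40) [nat_lit 3] (BT.kid (nat_lit 40) (nat_lit 4) (BT.pln (nat_lit 7) (nat_lit 2) (BT.frm (nat_lit 1) (nat_lit 2) (nat_lit 2) [nat_lit 1, nat_lit 4] (BT.pln (nat_lit 0) (nat_lit 2) (BT.dif (nat_lit 2) (nat_lit 0) (BT.dif (nat_lit 0) (nat_lit 9) (BT.br (nat_lit 0) (nat_lit 20) [nat_lit 5] (BT.kid (nat_lit 20) (nat_lit 2) (BT.dif (nat_lit 16) (nat_lit 3) (BT.pln (nat_lit 5) (nat_lit 5) (BT.and (nat_lit 1) (nat_lit 0) (BT.pln (nat_lit 7) (nat_lit 3) (BT.dif (nat_lit 1) (nat_lit 0) (BT.pln (nat_lit 9) (nat_lit 4) (BT.dif (nat_lit 1) (nat_lit 0) (BT.pln (nat_lit 11) (nat_lit 6) (BT.dif (nat_lit 1) (nat_lit 0) (BT.dif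 (nat_lit 0) (nat_lit 14) (BT.frm (nat_lit 2) (nat_lit 1794) (nat_lit 1794) [nat_lit 10, nat_lit 16, nat_lit 19] (BT.pln (nat_lit 0) (nat_lit 5) (BT.dif (nat_lit 2) (nat_lit 0) (BT.br (nat_lit 0) (nat_lit 271) [nat_lit 7] (BT.kid (nat_lit 271) (nat_lit 1) (BT.one (nat_lit 3) (nat_lit 1794) (nat_lit 1794) [nat_lit 0, nat_lit 14, nat_lit 20, nat_lit 23]) BT.nil))))))))))))))) BT.nil))))))) BT.nil)))) BT.nil))))))

theorem ct_c9_cnt : Cnt 276 (grp 276 tt_c4_K) [g742] [g742] 0 0 0 0 16 :=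
  BT.sound ct_c9_cnt_P Known.nil (t := ct_c9_cnt_t) (d := 0) (by decide +kernel)

theorem ct_c9_ge : 16 ≤ Nat.card (grp 276 ct_c9_K) :=
  Ch.le_card_grp (k := 9) (L := (lab 276 9)) hn ct_c9_K_ok (c := (Ch.cons (nat_lit 220) [nat_lit 1] (Ch.cons (nat_lit 40) [nat_lit 3] (Ch.cons (nat_lit 20) [nat_lit 5] (Ch.cons (nat_lit 271) [nat_lit 7] Ch.nil))))) (by decide +kernel)

theorem ct_c9_eq : (grp 276 tt_c4_K) ⊓ Subgroup.centralizer {Net.toPerm 276 g742} = grp 276 ct_c9_K :=
  cent_eq ct_c9_sym ct_c9_cnt ct_c9_ge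

theorem ct_c9_card : Nat.card ↥((grp 276 tt_c4_K) ⊓ Subgroup.centralizer {Net.toPerm 276 g742}) = 16 :=
  card_cent ct_c9_sym ct_c9_cnt ct_c9_ge

theorem ct_c9_ord : orderOf (Net.toPerm 276 g742) = 2 :=
  orderOf_net hn hk g742_ok (by decide) (ps := [2]) (by set_option linter.unusedSimpArgs false in simp [Nat.primeFactorsList_ofNat]) (by decide +kernel)

theorem le750 : grp 276 ct_c10_K ≤ grp 276 tt_c4_K :=
  grp_le_of_memB hn hk tt_c4_K_ok ct_c10_K_ok (ws := [nat_lit 0x9070503030101, nat_lit 771, nat_lit 9, nat_lit 1797]) (by decide +kernel)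

theorem ct_c10_le : grp 276 ct_c10_K ≤ (grp 276 tt_c4_K) :=
  (le750.trans TC_s0.le)

theorem ct_c10_mem : Net.toPerm 276 g749 ∈ (grp 276 tt_c4_K) :=
  ct_c10_le (toPerm_mem_grp (E := ct_c10_K) (List.Mem.head _))

theorem ct_c10_sym : Sym 276 (grp 276 tt_c4_K) [g749] ct_c10_K 0 :=
  Sym.of_lab hn hk (okE_cons.2 ⟨g749_ok, okE_nil _⟩) ct_c10_K_ok ct_c10_le (kT := 0) (by decide +kernel)

noncomputable def ct_c10_cnt_L : List ℕ := [0, 15, TC_s0_O, 0, 0, 1, 20, TC_s1_O, 0, 0, 2, 8, TC_s2_O, 0, 0, 3, 11, TC_s23_O, 0, 0, 4, 8, TC_s24_O, 1, 0]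

theorem ct_c10_cnt_P : Prob 276 9 (grp 276 tt_c4_K) ct_c10_cnt_EG [g749] [g749] ct_c10_K ct_c10_cnt_L 0 0 :=
  Sym.prob hn hk ct_c10_sym ct_c10_cnt_EG_ok (grp_cons_le g444_TC (grp_cons_le g445_TC (grp_cons_le g446_TC (grp_cons_le g447_TC (grp_cons_le n_u_TC (grp_nil_le _)))))) (Frames.cons TC_s0_F (Frames.cons TC_s1_F (Frames.cons TC_s2_F (Frames.cons TC_s23_F (Frames.cons TC_s24_F Frames.nil))))) (okE_cons.2 ⟨g749_ok, okE_nil _⟩) _

noncomputable def ct_c10_cnt_t : BT := (BT.frm (nat_lit 0) (nat_lit 0) (nat_lit 0) [] (BT.pln (nat_lit 0) (nat_lit 8) (BT.fix (nat_lit 1) (BT.dif (nat_lit 1) (nat_lit 0) (BT.br (nat_lit 0) (nat_lit 220) [nat_lit 1] (BT.kid (nat_lit 220) (nat_lit 8) (BT.pln (nat_lit 4) (nat_lit 11) (BT.dif (nat_lit 0) (nat_lit 3) (BT.br (nat_lit 0) (nat_lit 200) [nat_lit 3] (BT.kid (nat_lit 200) (nat_lit 4) (BT.pln (nat_lit 7) (nat_lit 2) (BT.frm (nat_lit 2) (nat_lit 771) (nat_lit 771) [nat_lit 1, nat_lit 4] (BT.pln (nat_lit 0) (nat_lit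 2) (BT.dif (nat_lit 2) (nat_lit 0) (BT.br (nat_lit 0) (nat_lit 86) [nat_lit 5, nat_lit 7] (BT.kid (nat_lit 86) (nat_lit 1) (BT.pln (nat_lit 3) (nat_lit 5) (BT.dif (nat_lit 0) (nat_lit 3) (BT.pln (nat_lit 5) (nat_lit 3) (BT.dif (nat_lit 1) (nat_lit 0) (BT.pln (nat_lit 7) (nat_lit 4) (BT.dif (nat_lit 1) (nat_lit 0) (BT.pln (nat_lit 9) (nat_lit 6) (BT.dif (nat_lit 1) (nat_lit 0) (BT.dif (nat_lit 0) (nat_lit 12) (BT.frm (nat_lit 3) (nat_lit 525059) (nat_lit 525059) [nat_lit 9, nat_lit 14, nat_lit 17] (BT.pln (nat_lit 0) (nat_lit 5) (BT.dif (nat_lit 2) (nat_lit 0) (BT.frm (nat_lit 1) (nat_lit 0) (nat_lit 0) [nat_lit 20] (BT.pln (nat_lit 0) (nat_lit 2) (BT.dif (nat_lit 0) (nat_lit 7) (BT.pln (nat_lit 5) (nat_lit 3) (BT.and (nat_lit 1) (nat_lit 0) (BT.dif (nat_lit 8) (nat_lit 1) (BT.pln (nat_lit 8) (nat_lit 4) (BT.and (nat_lit 1) (nat_lit 0) (BT.img (nat_lit 1) (nat_lit 0) (BT.dif (nat_lit 4) (nat_lit 0) (BT.img (nat_lit 1) (nat_lit 0) (BT.and (nat_lit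 11) (nat_lit 0) (BT.one (nat_lit 4) (nat_lit 0x5080303) (nat_lit 0x5080303) [nat_lit 0, nat_lit 24, nat_lit 29, nat_lit 32]))))))))))))))))))))))))) BT.nil)))))) BT.nil)))) BT.nil))))))

theorem ct_c10_cnt : Cnt 276 (grp 276 tt_c4_K) [g749] [g749] 0 0 0 0 16 :=
  BT.sound ct_c10_cnt_P Known.nil (t := ct_c10_cnt_t) (d := 0) (by decide +kernel)

theorem ct_c10_ge : 16 ≤ Nat.card (grp 276 ct_c10_K) :=
  Ch.le_card_grp (k := 9) (L := (lab 276 9)) hn ct_c10_K_ok (c := (Ch.cons (nat_lit 220) [nat_lit 1] (Ch.cons (nat_lit 200) [nat_lit 3] (Ch.cons (nat_lit 86) [nat_lit 5, nat_lit 7] Ch.nil)))) (by decide +kernel)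

theorem ct_c10_eq : (grp 276 tt_c4_K) ⊓ Subgroup.centralizer {Net.toPerm 276 g749} = grp 276 ct_c10_K :=
  cent_eq ct_c10_sym ct_c10_cnt ct_c10_ge

theorem ct_c10_card : Nat.card ↥((grp 276 tt_c4_K) ⊓ Subgroup.centralizer {Net.toPerm 276 g749}) = 16 :=
  card_cent ct_c10_sym ct_c10_cnt ct_c10_ge

theorem ct_c10_ord : orderOf (Net.toPerm 276 g749) = 2 :=
  orderOf_net hn hk g749_ok (by decide) (ps := [2]) (by set_option linter.unusedSimpArgs false in simp [Nat.primeFactorsList_ofNat]) (by decide +kernel)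

theorem le752 : grp 276 ct_c11_K ≤ grp 276 tt_c4_K :=
  grp_le_of_memB hn hk tt_c4_K_ok ct_c11_K_ok (ws := [nat_lit 0x5030101, nat_lit 9, nat_lit 771, nat_lit 591108]) (by decide +kernel)

theorem ct_c11_le : grp 276 ct_c11_K ≤ (grp 276 tt_c4_K) :=
  (le752.trans TC_s0.le)

theorem ct_c11_mem : Net.toPerm 276 g751 ∈ (grp 276 tt_c4_K) :=
  ct_c11_le (toPerm_mem_grp (E := ct_c11_K) (List.Mem.head _))

theorem ct_c11_sym : Sym 276 (grp 276 tt_c4_K) [g751] ct_c11_K 0 :=
  Sym.of_lab hn hk (okE_cons.2 ⟨g751_ok, okE_nil _⟩) ct_c11_K_ok ct_c11_le (kT := 0) (by decide +kernel)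

theorem le754 : grp 276 V753 ≤ grp 276 V687 :=
  grp_le_of_memB hn hk V687_ok V753_ok (ws := [nat_lit 0x7030101, nat_lit 459522]) (by decide +kernel)

theorem TC_s25 : Stab 276 (grp 276 tt_c4_K) [nat_lit 121, nat_lit 220] V753 8 :=
  Stab.step (k := 9) (L := (lab 276 9)) hn TC_s1 V753_ok le754 (c := (Ch.cons (nat_lit 202) [nat_lit 1] (Ch.cons (nat_lit 241) [nat_lit 3] Ch.nil))) (by decide +kernel)

theorem TC_s26 : Stab 276 (grp 276 tt_c4_K) [nat_lit 202, nat_lit 121, nat_lit 220] V755 2 :=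
  Stab.step (k := 9) (L := (lab 276 9)) hn TC_s25 V755_ok (grp_mono (List.subset_append_right [n_r1] _)) (c := (Ch.cons (nat_lit 241) [nat_lit 1] Ch.nil)) (by decide +kernel)

theorem TC_s27 : Stab 276 (grp 276 tt_c4_K) [nat_lit 241, nat_lit 202, nat_lit 121, nat_lit 220] V756 1 :=
  Stab.step (k := 9) (L := (lab 276 9)) hn TC_s26 V756_ok (grp_mono (List.subset_append_right [g713] _)) (c := Ch.nil) (by decide +kernel)

theorem n_r1_TC : Net.toPerm 276 n_r1 ∈ (grp 276 tt_c4_K) :=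
  TC_s25.le (toPerm_mem_grp (E := V753) (List.Mem.head _))

theorem g713_TC : Net.toPerm 276 g713 ∈ (grp 276 tt_c4_K) :=
  TC_s25.le (toPerm_mem_grp (E := V753) (List.Mem.tail _ (List.Mem.head _)))

noncomputable def TC_s27_O : ℕ := (nat_lit 0x9993333366666ccccc99999b3333666664ccccd9999b3333266666ccccd9999933332c1f07c1f07c1f07c0f83e0f83e0f83e0f81f07c1f07c1f07c1f03e0f83e0f83e0f83e7319cc63398ce7319cc63398ce7319ce63398c67319ce63398c67319ce63398c6731826d926c93649b24db26d936c9b649b24d926d936c9b64db24d926c93649b64db26d92000000000000010000000000000000000000000000000000000000000000000000000000000000000000000000000000000000000002000000000000000000000000000000000000000000000000400000000000000000000000000000000000000000000000000000000002000000000000000000000000000000000000000000000000000000000000)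

theorem TC_s27_F : Frame 276 (grp 276 tt_c4_K) 4 8 TC_s27_O 1 1 :=
  IsBase.frame TC_s27.isBase (by decide +kernel)

noncomputable def TC_s26_O : ℕ := (nat_lit 0x123810805080400000200100000000200000000000000000010000080000200000000adc7cd4dae4b94fb41097edbfc2f5bcfdfffb889f9efcdfafc0000000000000000000ac032a6d867b9c395a8aee7bee0febcbbaf443140610300102ffe9f7fffb000000000c407ed35287b9051c4197eefe48c20046502791f7dee120402ffffb60004dfeff00003dceee21879f94177833771010f31a4bc1027f53f611d5e000fd9641fe04df600ff00f54722438476145fe79218ea9183cab07f823d880bd1fe1ac1f27b09e1e0f81f0f0f0267db8768aa6b8d68f85685d2c3321ae396a2259cb39998b33cc7291999cc71cccccca07c27cf1a3ab4458a295cc633cadd69125b14d7acb54b49aaab4acd555296caaaaaa000000000000010000000000000000000000000000000000000000000000000000000000000000000000000000000000000000000002000000000000000000000000000000000000000000000000400000000000000000000000000000000000000000000000000)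

theorem TC_s26_F : Frame 276 (grp 276 tt_c4_K) 3 11 TC_s26_O 0 1 :=
  Stab.frame hn TC_s26 (by decide +kernel)

noncomputable def TC_s25_O : ℕ := (nat_lit 0x300048801288000280502d500822043a0028000010008081210000080010280800012817b2665001084c97a2350ae70c4f90472c019052889565452f423b673409082b1200cb0e141c68275008662812962a48c53286f29202a6f22f0c04035c638d6667e7f52121e87f1a21d38045a42820d6c10301aa4ed8bacce597ceafceea475e725a447e2b2d8056bf5b4042d9ec5a7d68670d8748981c5483cdc8995c9372cd728849564e271783a780c43e754c7eb5c146c140e69f525ef4db741a602f24d53914dc07372dc58eec66b126000000000000010000000000000000000000000000000000000000000000000000000000000000000000000000000000000000000002000000000000000000000000000000)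

theorem TC_s25_F : Frame 276 (grp 276 tt_c4_K) 2 8 TC_s25_O 0 1 :=
  Stab.frame hn TC_s25 (by decide +kernel)

noncomputable def ct_c11_cnt_L : List ℕ := [0, 15, TC_s0_O, 0, 0, 2, 8, TC_s25_O, 0, 0, 3, 11, TC_s26_O, 0, 0, 4, 8, TC_s27_O, 1, 0]

theorem ct_c11_cnt_P : Prob 276 9 (grp 276 tt_c4_K) ct_c11_cnt_EG [g751] [g751] ct_c11_K ct_c11_cnt_L 0 0 :=
  Sym.prob hn hk ct_c11_sym ct_c11_cnt_EG_ok (grp_cons_le g445_TC (grp_cons_le g446_TC (grp_cons_le g447_TC (grp_cons_le n_u_TC (grp_cons_le g444_TC (grp_cons_le n_r1_TC (grp_cons_le g713_TC (grp_nil_le _)))))))) (Frames.cons TC_s0_F (Frames.cons TC_s25_F (Frames.cons TC_s26_F (Frames.cons TC_s27_F Frames.nil)))) (okE_cons.2 ⟨g751_ok, okE_nil _⟩) _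

noncomputable def ct_c11_cnt_t : BT := (BT.frm (nat_lit 0) (nat_lit 0) (nat_lit 0) [] (BT.pln (nat_lit 0) (nat_lit 8) (BT.fix (nat_lit 1) (BT.dif (nat_lit 1) (nat_lit 0) (BT.br (nat_lit 0) (nat_lit 220) [nat_lit 1] (BT.kid (nat_lit 220) (nat_lit 8) (BT.pln (nat_lit 4) (nat_lit 9) (BT.dif (nat_lit 0) (nat_lit 3) (BT.br (nat_lit 0) (nat_lit 121) [nat_lit 3] (BT.kid (nat_lit 121) (nat_lit 4) (BT.pln (nat_lit 7) (nat_lit 1) (BT.frm (nat_lit 1) (nat_lit 0) (nat_lit 0) [nat_lit 1, nat_lit 4] (BT.pln (nat_lit 0) (nat_lit 7) (BT.and (nat_lit 2) (nat_lit 0) (BT.dif (nat_lit 0) (nat_lit 9) (BT.br (nat_lit 0) (nat_lit 202) [nat_lit 5] (BT.kid (nat_lit 202) (nat_lit 2) (BT.pln (nat_lit 4) (nat_lit 5) (BT.pln (nat_lit 5) (nat_lit 2) (BT.dif (nat_lit 1) (nat_lit 0) (BT.pln (nat_lit 7) (nat_lit 3) (BT.dif (nat_lit 1) (nat_lit 0) (BT.pln (nat_lit 18) (nat_lit 4) (BT.dif (nat_lit 1) (nat_lit 0) (BT.pln (nat_lit 11) (nat_lit 4) (BT.dif (nat_lit 1) (nat_lit 0) (BT.pln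 (nat_lit 22) (nat_lit 14) (BT.dif (nat_lit 1) (nat_lit 0) (BT.frm (nat_lit 2) (nat_lit 0) (nat_lit 0) [nat_lit 11, nat_lit 17, nat_lit 20] (BT.pln (nat_lit 0) (nat_lit 3) (BT.dif (nat_lit 2) (nat_lit 0) (BT.pln (nat_lit 2) (nat_lit 4) (BT.dif (nat_lit 1) (nat_lit 0) (BT.br (nat_lit 0) (nat_lit 241) [nat_lit 7] (BT.kid (nat_lit 241) (nat_lit 1) (BT.one (nat_lit 3) (nat_lit 0) (nat_lit 0) [nat_lit 0, nat_lit 17, nat_lit 23, nat_lit 26]) BT.nil)))))))))))))))))) BT.nil))))))) BT.nil)))) BT.nil))))))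

theorem ct_c11_cnt : Cnt 276 (grp 276 tt_c4_K) [g751] [g751] 0 0 0 0 16 :=
  BT.sound ct_c11_cnt_P Known.nil (t := ct_c11_cnt_t) (d := 0) (by decide +kernel)

theorem ct_c11_ge : 16 ≤ Nat.card (grp 276 ct_c11_K) :=
  Ch.le_card_grp (k := 9) (L := (lab 276 9)) hn ct_c11_K_ok (c := (Ch.cons (nat_lit 220) [nat_lit 1] (Ch.cons (nat_lit 121) [nat_lit 3] (Ch.cons (nat_lit 202) [nat_lit 5] (Ch.cons (nat_lit 241) [nat_lit 7] Ch.nil))))) (by decide +kernel)

theorem ct_c11_eq : (grp 276 tt_c4_K) ⊓ Subgroup.centralizer {Net.toPerm 276 g751} = grp 276 ct_c11_K :=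
  cent_eq ct_c11_sym ct_c11_cnt ct_c11_ge

theorem ct_c11_card : Nat.card ↥((grp 276 tt_c4_K) ⊓ Subgroup.centralizer {Net.toPerm 276 g751}) = 16 :=
  card_cent ct_c11_sym ct_c11_cnt ct_c11_ge

theorem ct_c11_ord : orderOf (Net.toPerm 276 g751) = 2 :=
  orderOf_net hn hk g751_ok (by decide) (ps := [2]) (by set_option linter.unusedSimpArgs false in simp [Nat.primeFactorsList_ofNat]) (by decide +kernel)

theorem le760 : grp 276 ct_c12_K ≤ grp 276 tt_c4_K :=
  grp_le_of_memB hn hk tt_c4_K_ok ct_c12_K_ok (ws := [nat_lit 0x9070504, nat_lit 0x90705030101, nat_lit 0x705030101, nat_lit 771]) (by decide +kernel)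

theorem ct_c12_le : grp 276 ct_c12_K ≤ (grp 276 tt_c4_K) :=
  (le760.trans TC_s0.le)

theorem ct_c12_mem : Net.toPerm 276 g757 ∈ (grp 276 tt_c4_K) :=
  ct_c12_le (toPerm_mem_grp (E := ct_c12_K) (List.Mem.head _))

theorem ct_c12_sym : Sym 276 (grp 276 tt_c4_K) [g757] ct_c12_K 0 :=
  Sym.of_lab hn hk (okE_cons.2 ⟨g757_ok, okE_nil _⟩) ct_c12_K_ok ct_c12_le (kT := 0) (by decide +kernel)

theorem le762 : grp 276 V761 ≤ grp 276 V753 :=
  grp_le_of_memB hn hk V753_ok V761_ok (ws := [nat_lit 259]) (by decide +kernel)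

theorem TC_s28 : Stab 276 (grp 276 tt_c4_K) [nat_lit 4, nat_lit 121, nat_lit 220] V761 4 :=
  Stab.step (k := 9) (L := (lab 276 9)) hn TC_s25 V761_ok le762 (c := (Ch.cons (nat_lit 128) [nat_lit 1] Ch.nil)) (by decide +kernel)

theorem TC_s29 : Stab 276 (grp 276 tt_c4_K) [nat_lit 128, nat_lit 4, nat_lit 121, nat_lit 220] V763 1 :=
  Stab.step (k := 9) (L := (lab 276 9)) hn TC_s28 V763_ok (grp_mono (List.subset_append_right [g445] _)) (c := Ch.nil) (by decide +kernel)

noncomputable def TC_s29_O : ℕ := (nat_lit 0x9993333366666ccccc99999b3333666664ccccd9999b3333266666ccccd9999933332c1f07c1f07c1f07c0f83e0f83e0f83e0f81f07c1f07c1f07c1f03e0f83e0f83e0f83e7319cc63398ce7319cc63398ce7319ce63398c67319ce63398c67319ce63398c6731826d926c93649b24db26d936c9b649b24d926d936c9b64db24d926c93649b64db26d92000000000000010000000000000000000000000000000000000000000000000000000000000000000000000000000000000000000002000000000000000000000000000000000000000000000000000000000000000000000000000000000000000000000000010000000000000000000000000000000000000100000000000000000000000000000000)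

theorem TC_s29_F : Frame 276 (grp 276 tt_c4_K) 4 8 TC_s29_O 1 1 :=
  IsBase.frame TC_s29.isBase (by decide +kernel)

noncomputable def TC_s28_O : ℕ := (nat_lit 0x2000408010080008e000040400020430000800001000020020000020004020880000295e3260ca7d44e471c07dbfa7da0f94ef2e53c5eecacbcd0d334560200000002a10004b163c7fa576ca840454a2323d1cd1c266e6b311ecd1400104c221dff696df42a100094977f72c84bbc1e0a4c39ec37308cf432d10748021ed59ec8c1a98efba42037f7002d42a8a315f8362c3dcf9f7900ace863a19ad2e91d105d76b11b2a99ea0329837a1f80541b08c49ad0ba07a367a9518dee5d4ec4adc5962b45c0be37c6f1585f6aa632d0a6a4682e2df684f58c18c030e719dbb43a331338ecdb76679e8b2e72523dcaa35a66c924000000000000010000000000000000000000000000000000000000000000000000000000000000000000000000000000000000000002000000000000000000000000000000000000000000000000000000000000000000000000000000000000000000000000010)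

theorem TC_s28_F : Frame 276 (grp 276 tt_c4_K) 3 10 TC_s28_O 0 1 :=
  Stab.frame hn TC_s28 (by decide +kernel)

noncomputable def ct_c12_cnt_L : List ℕ := [0, 15, TC_s0_O, 0, 0, 3, 10, TC_s28_O, 0, 0, 4, 8, TC_s29_O, 1, 0]

theorem ct_c12_cnt_P : Prob 276 9 (grp 276 tt_c4_K) ct_c12_cnt_EG [g757] [g757] ct_c12_K ct_c12_cnt_L 0 0 :=
  Sym.prob hn hk ct_c12_sym ct_c12_cnt_EG_ok (grp_cons_le n_r1_TC (grp_cons_le g713_TC (grp_cons_le g445_TC (grp_cons_le g446_TC (grp_cons_le g447_TC (grp_cons_le n_u_TC (grp_cons_le g444_TC (grp_nil_le _)))))))) (Frames.cons TC_s0_F (Frames.cons TC_s28_F (Frames.cons TC_s29_F Frames.nil))) (okE_cons.2 ⟨g757_ok, okE_nil _⟩) _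

noncomputable def ct_c12_cnt_t : BT := (BT.frm (nat_lit 0) (nat_lit 0) (nat_lit 0) [] (BT.pln (nat_lit 0) (nat_lit 8) (BT.fix (nat_lit 1) (BT.dif (nat_lit 1) (nat_lit 0) (BT.br (nat_lit 0) (nat_lit 158) [nat_lit 1] (BT.kid (nat_lit 158) (nat_lit 8) (BT.pln (nat_lit 4) (nat_lit 9) (BT.br (nat_lit 0) (nat_lit 121) [nat_lit 3, nat_lit 5] (BT.kid (nat_lit 121) (nat_lit 2) (BT.pln (nat_lit 6) (nat_lit 4) (BT.dif (nat_lit 0) (nat_lit 5) (BT.img (nat_lit 1) (nat_lit 2) (BT.and (nat_lit 4) (nat_lit 0) (BT.frm (nat_lit 1) (nat_lit 269) (nat_lit 269) [nat_lit 0, nat_lit 4, nat_lit 6] (BT.pln (nat_lit 0) (nat_lit 7) (BT.and (nat_lit 4) (nat_lit 0) (BT.br (nat_lit 0) (nat_lit 239) [nat_lit 7] (BT.kid (nat_lit 239) (nat_lit 1) (BT.one (nat_lit 2) (nat_lit 393485) (nat_lit 393485) [nat_lit 0, nat_lit 4, nat_lit 8, nat_lit 10]) BT.nil))))))))) BT.nil))) BT.nil))))))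

theorem ct_c12_cnt : Cnt 276 (grp 276 tt_c4_K) [g757] [g757] 0 0 0 0 16 :=
  BT.sound ct_c12_cnt_P Known.nil (t := ct_c12_cnt_t) (d := 0) (by decide +kernel)

theorem ct_c12_ge : 16 ≤ Nat.card (grp 276 ct_c12_K) :=
  Ch.le_card_grp (k := 9) (L := (lab 276 9)) hn ct_c12_K_ok (c := (Ch.cons (nat_lit 158) [nat_lit 1] (Ch.cons (nat_lit 121) [nat_lit 3, nat_lit 5] (Ch.cons (nat_lit 239) [nat_lit 7] Ch.nil)))) (by decide +kernel)

theorem ct_c12_eq : (grp 276 tt_c4_K) ⊓ Subgroup.centralizer {Net.toPerm 276 g757} = grp 276 ct_c12_K :=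
  cent_eq ct_c12_sym ct_c12_cnt ct_c12_ge

theorem ct_c12_card : Nat.card ↥((grp 276 tt_c4_K) ⊓ Subgroup.centralizer {Net.toPerm 276 g757}) = 16 :=
  card_cent ct_c12_sym ct_c12_cnt ct_c12_ge

theorem ct_c12_ord : orderOf (Net.toPerm 276 g757) = 2 :=
  orderOf_net hn hk g757_ok (by decide) (ps := [2]) (by set_option linter.unusedSimpArgs false in simp [Nat.primeFactorsList_ofNat]) (by decide +kernel)

theorem le766 : grp 276 ct_c13_K ≤ grp 276 tt_c4_K :=
  grp_le_of_memB hn hk tt_c4_K_ok ct_c13_K_ok (ws := [nat_lit 0x705030302, nat_lit 590081, nat_lit 257, nat_lit 460034]) (by decide +kernel)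

theorem ct_c13_le : grp 276 ct_c13_K ≤ (grp 276 tt_c4_K) :=
  (le766.trans TC_s0.le)

theorem ct_c13_mem : Net.toPerm 276 g764 ∈ (grp 276 tt_c4_K) :=
  ct_c13_le (toPerm_mem_grp (E := ct_c13_K) (List.Mem.head _))

theorem ct_c13_sym : Sym 276 (grp 276 tt_c4_K) [g764] ct_c13_K 0 :=
  Sym.of_lab hn hk (okE_cons.2 ⟨g764_ok, okE_nil _⟩) ct_c13_K_ok ct_c13_le (kT := 0) (by decide +kernel)

theorem le768 : grp 276 V767 ≤ grp 276 V727 :=
  grp_le_of_memB hn hk V727_ok V767_ok (ws := [nat_lit 5, nat_lit 0x705030301]) (by decide +kernel)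

theorem TC_s30 : Stab 276 (grp 276 tt_c4_K) [nat_lit 237, nat_lit 200] V767 8 :=
  Stab.step (k := 9) (L := (lab 276 9)) hn TC_s15 V767_ok le768 (c := (Ch.cons (nat_lit 188) [nat_lit 1] (Ch.cons (nat_lit 58) [nat_lit 3] Ch.nil))) (by decide +kernel)

theorem TC_s31 : Stab 276 (grp 276 tt_c4_K) [nat_lit 188, nat_lit 237, nat_lit 200] V769 2 :=
  Stab.step (k := 9) (L := (lab 276 9)) hn TC_s30 V769_ok (grp_mono (List.subset_append_right [g705] _)) (c := (Ch.cons (nat_lit 58) [nat_lit 1] Ch.nil)) (by decide +kernel)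

theorem TC_s32 : Stab 276 (grp 276 tt_c4_K) [nat_lit 58, nat_lit 188, nat_lit 237, nat_lit 200] V770 1 :=
  Stab.step (k := 9) (L := (lab 276 9)) hn TC_s31 V770_ok (grp_mono (List.subset_append_right [g765] _)) (c := Ch.nil) (by decide +kernel)

theorem g765_TC : Net.toPerm 276 g765 ∈ (grp 276 tt_c4_K) :=
  TC_s30.le (toPerm_mem_grp (E := V767) (List.Mem.tail _ (List.Mem.head _)))

noncomputable def TC_s32_O : ℕ := (nat_lit 0x9993333366666ccccc99999b3333666664ccccd9999b3333266666ccccd9999933332c1f07c1f07c1f07c0f83e0f83e0f83e0f81f07c1f07c1f07c1f03e0f83e0f83e0f83e7319cc63398ce7319cc63398ce7319ce63398c67319ce63398c67319ce63398c6731826d926c93649b24db26d936c9b649b24d926d936c9b64db24d926c93649b64db26d92000000000000000000100000000000000000000000000000000000000000000000000000000000200000000000000000000000000000000000000000000000000000000000000000000000000000000100000000000000000000000000000000000000000000000000000000000000000000000000000000000000000000000000000400000000000000)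

theorem TC_s32_F : Frame 276 (grp 276 tt_c4_K) 4 8 TC_s32_O 1 1 :=
  IsBase.frame TC_s32.isBase (by decide +kernel)

noncomputable def TC_s31_O : ℕ := (nat_lit 0x1000c402910c000000000010080000080088000000000001000000000000000080000afd523fd20314e5f0feffeadb3d757a67b753bdefdfbfce4f0000000000000000000066e3394868b3f6bc28ef72af97ff4fe76e76e001000403020ddbb6fbefe60000000004a95227040f1309cddebf686b3d418111502cbdfdef4000a0fdfbfc41011ffff20000fbfb0b5554f35cb21946f2d84c03cdbc50031fde020bef120dfe013fc811fd001fb0030d3285c20e18cda4e8a0c6dd6235950bfc94fe1db0f82ff0f85b03a2789e2f09e4f026718277d9438018e2e5e077e4c3bca3adbb1318e74e72c2ce71c731b67998cc198cc2ba879dfd0991b4cea05c66e38b2d88622a48e9596ad5ba9a94d6dad654d54a9156aa000000000000000000100000000000000000000000000000000000000000000000000000000000200000000000000000000000000000000000000000000000000000000000000000000000000000000100000000000000000000000000000000000000000000000)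

theorem TC_s31_F : Frame 276 (grp 276 tt_c4_K) 3 11 TC_s31_O 0 1 :=
  Stab.frame hn TC_s31 (by decide +kernel)

noncomputable def TC_s30_O : ℕ := (nat_lit 0x9116100010808002200015920800000a00a0110010b0ac010100040202540800000002840634be85b11818209822916abc4352a49c03d030650ca94cd33948123f42aa101262a0458388ac294dd802487469168c7e202a0ca10501437f3f12286174b02bffbf012b369ca840d1a181ad36cf38f226bdac80d0af89ac6adaf882a3994a9c1ab03faa1b807b7b86c879f5c51ad4c66b4d850745b0cfc2c12c68a48a0d6177d8b31220e1ad10e7a9ea32d22fc744c923aaf5789f3ec6394dcda6464154185cb06f0910b7572b966ac954000000000000000000100000000000000000000000000000000000000000000000000000000000200000000000000000000000000000000000000000000000000000000000)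

theorem TC_s30_F : Frame 276 (grp 276 tt_c4_K) 2 8 TC_s30_O 0 1 :=
  Stab.frame hn TC_s30 (by decide +kernel)

noncomputable def ct_c13_cnt_L : List ℕ := [0, 15, TC_s0_O, 0, 0, 2, 8, TC_s30_O, 0, 0, 3, 11, TC_s31_O, 0, 0, 4, 8, TC_s32_O, 1, 0]

theorem ct_c13_cnt_P : Prob 276 9 (grp 276 tt_c4_K) ct_c13_cnt_EG [g764] [g764] ct_c13_K ct_c13_cnt_L 0 0 :=
  Sym.prob hn hk ct_c13_sym ct_c13_cnt_EG_ok (grp_cons_le g706_TC (grp_cons_le g524_TC (grp_cons_le g705_TC (grp_cons_le g491_TC (grp_cons_le g444_TC (grp_cons_le g445_TC (grp_cons_le g446_TC (grp_cons_le g447_TC (grp_cons_le n_u_TC (grp_cons_le g765_TC (grp_nil_le _))))))))))) (Frames.cons TC_s0_F (Frames.cons TC_s30_F (Frames.cons TC_s31_F (Frames.cons TC_s32_F Frames.nil)))) (okE_cons.2 ⟨g764_ok, okE_nil _⟩) _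

noncomputable def ct_c13_cnt_t : BT := (BT.frm (nat_lit 0) (nat_lit 0) (nat_lit 0) [] (BT.pln (nat_lit 0) (nat_lit 11) (BT.fix (nat_lit 1) (BT.dif (nat_lit 1) (nat_lit 0) (BT.br (nat_lit 0) (nat_lit 200) [nat_lit 1] (BT.kid (nat_lit 200) (nat_lit 8) (BT.pln (nat_lit 4) (nat_lit 12) (BT.dif (nat_lit 0) (nat_lit 3) (BT.br (nat_lit 0) (nat_lit 237) [nat_lit 3] (BT.kid (nat_lit 237) (nat_lit 4) (BT.pln (nat_lit 7) (nat_lit 13) (BT.dif (nat_lit 0) (nat_lit 6) (BT.br (nat_lit 0) (nat_lit 188) [nat_lit 5] (BT.kid (nat_lit 188) (nat_lit 2) (BT.frm (nat_lit 1) (nat_lit 0) (nat_lit 0) [nat_lit 3, nat_lit 6] (BT.pln (nat_lit 0) (nat_lit 5) (BT.pln (nat_lit 1) (nat_lit 2) (BT.dif (nat_lit 1) (nat_lit 0) (BT.pln (nat_lit 3) (nat_lit 3) (BT.dif (nat_lit 1) (nat_lit 0) (BT.pln (nat_lit 5) (nat_lit 4) (BT.dif (nat_lit 1) (nat_lit 0) (BT.pln (nat_lit 18) (nat_lit 6) (BT.dif (nat_lit 1) (nat_lit 0) (BT.pln (nat_lit 20) (nat_lit 14) (BT.dif (nat_lit 1) (nat_lit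 0) (BT.frm (nat_lit 2) (nat_lit 0) (nat_lit 0) [nat_lit 12, nat_lit 15, nat_lit 18] (BT.pln (nat_lit 0) (nat_lit 3) (BT.dif (nat_lit 2) (nat_lit 0) (BT.pln (nat_lit 2) (nat_lit 5) (BT.dif (nat_lit 1) (nat_lit 0) (BT.br (nat_lit 0) (nat_lit 58) [nat_lit 7] (BT.kid (nat_lit 58) (nat_lit 1) (BT.one (nat_lit 3) (nat_lit 0) (nat_lit 0) [nat_lit 0, nat_lit 18, nat_lit 21, nat_lit 24]) BT.nil))))))))))))))))))) BT.nil)))) BT.nil)))) BT.nil))))))

theorem ct_c13_cnt : Cnt 276 (grp 276 tt_c4_K) [g764] [g764] 0 0 0 0 16 :=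
  BT.sound ct_c13_cnt_P Known.nil (t := ct_c13_cnt_t) (d := 0) (by decide +kernel)

theorem ct_c13_ge : 16 ≤ Nat.card (grp 276 ct_c13_K) :=
  Ch.le_card_grp (k := 9) (L := (lab 276 9)) hn ct_c13_K_ok (c := (Ch.cons (nat_lit 200) [nat_lit 1] (Ch.cons (nat_lit 237) [nat_lit 3] (Ch.cons (nat_lit 188) [nat_lit 5] (Ch.cons (nat_lit 58) [nat_lit 7] Ch.nil))))) (by decide +kernel)

theorem ct_c13_eq : (grp 276 tt_c4_K) ⊓ Subgroup.centralizer {Net.toPerm 276 g764} = grp 276 ct_c13_K :=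
  cent_eq ct_c13_sym ct_c13_cnt ct_c13_ge

theorem ct_c13_card : Nat.card ↥((grp 276 tt_c4_K) ⊓ Subgroup.centralizer {Net.toPerm 276 g764}) = 16 :=
  card_cent ct_c13_sym ct_c13_cnt ct_c13_ge

theorem ct_c13_ord : orderOf (Net.toPerm 276 g764) = 2 :=
  orderOf_net hn hk g764_ok (by decide) (ps := [2]) (by set_option linter.unusedSimpArgs false in simp [Nat.primeFactorsList_ofNat]) (by decide +kernel)

theorem le774 : grp 276 ct_c14_K ≤ grp 276 tt_c4_K :=
  grp_le_of_memB hn hk tt_c4_K_ok ct_c14_K_ok (ws := [nat_lit 0x905030301, nat_lit 0x5030302, nat_lit 0x5030301, nat_lit 1281]) (by decide +kernel)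

theorem ct_c14_le : grp 276 ct_c14_K ≤ (grp 276 tt_c4_K) :=
  (le774.trans TC_s0.le)

theorem ct_c14_mem : Net.toPerm 276 g771 ∈ (grp 276 tt_c4_K) :=
  ct_c14_le (toPerm_mem_grp (E := ct_c14_K) (List.Mem.head _))

theorem ct_c14_sym : Sym 276 (grp 276 tt_c4_K) [g771] ct_c14_K 0 :=
  Sym.of_lab hn hk (okE_cons.2 ⟨g771_ok, okE_nil _⟩) ct_c14_K_ok ct_c14_le (kT := 0) (by decide +kernel)

theorem le776 : grp 276 V775 ≤ grp 276 V699 :=
  grp_le_of_memB hn hk V699_ok V775_ok (ws := [nat_lit 459777, nat_lit 328705]) (by decide +kernel)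

theorem TC_s33 : Stab 276 (grp 276 tt_c4_K) [nat_lit 211, nat_lit 121] V775 8 :=
  Stab.step (k := 9) (L := (lab 276 9)) hn TC_s6 V775_ok le776 (c := (Ch.cons (nat_lit 31) [nat_lit 1] (Ch.cons (nat_lit 142) [nat_lit 3] Ch.nil))) (by decide +kernel)

theorem TC_s34 : Stab 276 (grp 276 tt_c4_K) [nat_lit 31, nat_lit 211, nat_lit 121] V777 2 :=
  Stab.step (k := 9) (L := (lab 276 9)) hn TC_s33 V777_ok (grp_mono (List.subset_append_right [g709] _)) (c := (Ch.cons (nat_lit 142) [nat_lit 1] Ch.nil)) (by decide +kernel)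

theorem TC_s35 : Stab 276 (grp 276 tt_c4_K) [nat_lit 142, nat_lit 31, nat_lit 211, nat_lit 121] V778 1 :=
  Stab.step (k := 9) (L := (lab 276 9)) hn TC_s34 V778_ok (grp_mono (List.subset_append_right [g771] _)) (c := Ch.nil) (by decide +kernel)

theorem g709_TC : Net.toPerm 276 g709 ∈ (grp 276 tt_c4_K) :=
  TC_s33.le (toPerm_mem_grp (E := V775) (List.Mem.head _))

theorem g771_TC : Net.toPerm 276 g771 ∈ (grp 276 tt_c4_K) :=
  TC_s33.le (toPerm_mem_grp (E := V775) (List.Mem.tail _ (List.Mem.head _)))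

noncomputable def TC_s35_O : ℕ := (nat_lit 0x9993333366666ccccc99999b3333666664ccccd9999b3333266666ccccd9999933332c1f07c1f07c1f07c0f83e0f83e0f83e0f81f07c1f07c1f07c1f03e0f83e0f83e0f83e7319cc63398ce7319cc63398ce7319ce63398c67319ce63398c67319ce63398c6731826d926c93649b24db26d936c9b649b24d926d936c9b64db24d926c93649b64db26d92000000000000000000000000000000000000002000000000000000000000000000000000000000000000080000000000000000000000000000000000000000000000000000000000000000000000000000000000000000000000000000000000000000080000000000000000000000000000000000000000400000000000000000000000000000000000)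

theorem TC_s35_F : Frame 276 (grp 276 tt_c4_K) 4 8 TC_s35_O 1 1 :=
  IsBase.frame TC_s35.isBase (by decide +kernel)

noncomputable def TC_s34_O : ℕ := (nat_lit 0x2e00001102020a400080000002000000000200000080000000000000102000000005d51be27ece94d153eff39b95dddffcbed6fac5e34ef7ebb1e00000000000000000009611fb94668961d43b4d6b727dfd7fcfbda341810a10004041ff6ef7bfef000000000bc81b720ce78a8e432ab2b4c53ddf80442d4fc5dbedd0004e1df67f00000d7fbf00005e81b8bf02bbab823b2cb5d9f10207cb024cfd5cc2307fe0c1ff910fb600d7600ff00a140dbb3ae1e49903abd3ca600d88794be50ef013592f95f81d0ff07c1f0f41b0f0f0316d1dcdc7bc83f731635320c8c1c648b17ca2d3b268e758d9ace8c6718cc39ccccccd8f66767e27c035926cd8154b0b5156289d2cbc8e76655d2356a5da5255a92d2aaaaa000000000000000000000000000000000000002000000000000000000000000000000000000000000000080000000000000000000000000000000000000000000000000000000000000000000000000000000000000000000000000000000000000000080000000)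

theorem TC_s34_F : Frame 276 (grp 276 tt_c4_K) 3 11 TC_s34_O 0 1 :=
  Stab.frame hn TC_s34 (by decide +kernel)

noncomputable def TC_s33_O : ℕ := (nat_lit 0x30004011028a0282200081100802001a00ac02110000c200018021208040300800010886fb9a41120495d543374ad5480ee64e4012ccc18392c7134304696201c0882a10026f9a88829970ad084a3c2e560f2e97b200333548b084108de20708430332ebfbb1012969326ac96d3c4cf45d513a451d6514d3546cb11e466ad03f7c4a6cb1290cbc2ac700314026d6a81767070c17872e9094fde17cdc9216b9cb935b5e259076e0b0aa3a0f8eac318ed085b9b841163bb3cabb08d9219e2cef3961de92fad5b4454311678ada58bc34000000000000000000000000000000000000002000000000000000000000000000000000000000000000080000000000000000000000000000000000000000000000000000)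

theorem TC_s33_F : Frame 276 (grp 276 tt_c4_K) 2 8 TC_s33_O 0 1 :=
  Stab.frame hn TC_s33 (by decide +kernel)

noncomputable def ct_c14_cnt_L : List ℕ := [0, 15, TC_s0_O, 0, 0, 2, 8, TC_s33_O, 0, 0, 3, 11, TC_s34_O, 0, 0, 4, 8, TC_s35_O, 1, 0]

theorem ct_c14_cnt_P : Prob 276 9 (grp 276 tt_c4_K) ct_c14_cnt_EG [g771] [g771] ct_c14_K ct_c14_cnt_L 0 0 :=
  Sym.prob hn hk ct_c14_sym ct_c14_cnt_EG_ok (grp_cons_le g697_TC (grp_cons_le g444_TC (grp_cons_le g698_TC (grp_cons_le g548_TC (grp_cons_le g445_TC (grp_cons_le g446_TC (grp_cons_le g447_TC (grp_cons_le n_u_TC (grp_cons_le g709_TC (grp_cons_le g771_TC (grp_nil_le _))))))))))) (Frames.cons TC_s0_F (Frames.cons TC_s33_F (Frames.cons TC_s34_F (Frames.cons TC_s35_F Frames.nil)))) (okE_cons.2 ⟨g771_ok, okE_nil _⟩) _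

noncomputable def ct_c14_cnt_t : BT := (BT.frm (nat_lit 0) (nat_lit 0) (nat_lit 0) [] (BT.pln (nat_lit 0) (nat_lit 9) (BT.fix (nat_lit 1) (BT.dif (nat_lit 1) (nat_lit 0) (BT.br (nat_lit 0) (nat_lit 152) [nat_lit 1] (BT.kid (nat_lit 152) (nat_lit 8) (BT.pln (nat_lit 4) (nat_lit 10) (BT.dif (nat_lit 0) (nat_lit 3) (BT.br (nat_lit 0) (nat_lit 273) [nat_lit 3] (BT.kid (nat_lit 273) (nat_lit 4) (BT.pln (nat_lit 7) (nat_lit 11) (BT.dif (nat_lit 0) (nat_lit 6) (BT.br (nat_lit 0) (nat_lit 200) [nat_lit 5] (BT.kid (nat_lit 200) (nat_lit 2) (BT.frm (nat_lit 1) (nat_lit 66574) (nat_lit 66574) [nat_lit 3, nat_lit 6] (BT.pln (nat_lit 0) (nat_lit 6) (BT.pln (nat_lit 1) (nat_lit 3) (BT.and (nat_lit 1) (nat_lit 0) (BT.pln (nat_lit 3) (nat_lit 2) (BT.dif (nat_lit 1) (nat_lit 0) (BT.pln (nat_lit 5) (nat_lit 4) (BT.and (nat_lit 1) (nat_lit 0) (BT.pln (nat_lit 18) (nat_lit 3) (BT.dif (nat_lit 1) (nat_lit 0) (BT.frm (nat_lit 2) (nat_lit 0x11131101040e) (nat_lit 0x11131101040e)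 [nat_lit 10, nat_lit 13, nat_lit 16] (BT.pln (nat_lit 0) (nat_lit 5) (BT.and (nat_lit 2) (nat_lit 0) (BT.br (nat_lit 0) (nat_lit 144) [nat_lit 7] (BT.kid (nat_lit 144) (nat_lit 1) (BT.one (nat_lit 3) (nat_lit 0x11131101040e) (nat_lit 0x11131101040e) [nat_lit 0, nat_lit 14, nat_lit 17, nat_lit 20]) BT.nil))))))))))))))) BT.nil)))) BT.nil)))) BT.nil))))))

theorem ct_c14_cnt : Cnt 276 (grp 276 tt_c4_K) [g771] [g771] 0 0 0 0 16 :=
  BT.sound ct_c14_cnt_P Known.nil (t := ct_c14_cnt_t) (d := 0) (by decide +kernel)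

theorem ct_c14_ge : 16 ≤ Nat.card (grp 276 ct_c14_K) :=
  Ch.le_card_grp (k := 9) (L := (lab 276 9)) hn ct_c14_K_ok (c := (Ch.cons (nat_lit 152) [nat_lit 1] (Ch.cons (nat_lit 273) [nat_lit 3] (Ch.cons (nat_lit 200) [nat_lit 5] (Ch.cons (nat_lit 144) [nat_lit 7] Ch.nil))))) (by decide +kernel)

theorem ct_c14_eq : (grp 276 tt_c4_K) ⊓ Subgroup.centralizer {Net.toPerm 276 g771} = grp 276 ct_c14_K :=
  cent_eq ct_c14_sym ct_c14_cnt ct_c14_ge

theorem ct_c14_card : Nat.card ↥((grp 276 tt_c4_K) ⊓ Subgroup.centralizer {Net.toPerm 276 g771}) = 16 :=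
  card_cent ct_c14_sym ct_c14_cnt ct_c14_ge

theorem ct_c14_ord : orderOf (Net.toPerm 276 g771) = 2 :=
  orderOf_net hn hk g771_ok (by decide) (ps := [2]) (by set_option linter.unusedSimpArgs false in simp [Nat.primeFactorsList_ofNat]) (by decide +kernel)

theorem le782 : grp 276 ct_c15_K ≤ grp 276 tt_c4_K :=
  grp_le_of_memB hn hk tt_c4_K_ok ct_c15_K_ok (ws := [nat_lit 328706, nat_lit 0x9050401, nat_lit 0x9050402, nat_lit 0x9050302]) (by decide +kernel)

theorem ct_c15_le : grp 276 ct_c15_K ≤ (grp 276 tt_c4_K) :=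
  (le782.trans TC_s0.le)

theorem ct_c15_mem : Net.toPerm 276 g779 ∈ (grp 276 tt_c4_K) :=
  ct_c15_le (toPerm_mem_grp (E := ct_c15_K) (List.Mem.head _))

theorem ct_c15_sym : Sym 276 (grp 276 tt_c4_K) [g779] ct_c15_K 0 :=
  Sym.of_lab hn hk (okE_cons.2 ⟨g779_ok, okE_nil _⟩) ct_c15_K_ok ct_c15_le (kT := 0) (by decide +kernel)

theorem le784 : grp 276 V783 ≤ grp 276 V775 :=
  grp_le_of_memB hn hk V775_ok V783_ok (ws := [nat_lit 196867]) (by decide +kernel)

theorem TC_s36 : Stab 276 (grp 276 tt_c4_K) [nat_lit 60, nat_lit 211, nat_lit 121] V783 2 :=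
  Stab.step (k := 9) (L := (lab 276 9)) hn TC_s33 V783_ok le784 (c := (Ch.cons (nat_lit 78) [nat_lit 1] Ch.nil)) (by decide +kernel)

theorem TC_s37 : Stab 276 (grp 276 tt_c4_K) [nat_lit 78, nat_lit 60, nat_lit 211, nat_lit 121] V785 1 :=
  Stab.step (k := 9) (L := (lab 276 9)) hn TC_s36 V785_ok (grp_mono (List.subset_append_right [g781] _)) (c := Ch.nil) (by decide +kernel)

theorem g781_TC : Net.toPerm 276 g781 ∈ (grp 276 tt_c4_K) :=
  TC_s36.le (toPerm_mem_grp (E := V783) (List.Mem.head _))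

noncomputable def TC_s37_O : ℕ := (nat_lit 0x9993333366666ccccc99999b3333666664ccccd9999b3333266666ccccd9999933332c1f07c1f07c1f07c0f83e0f83e0f83e0f81f07c1f07c1f07c1f03e0f83e0f83e0f83e7319cc63398ce7319cc63398ce7319ce63398c67319ce63398c67319ce63398c6731826d926c93649b24db26d936c9b649b24d926d936c9b64db24d926c93649b64db26d92000000000000000000000000000000000000002000000000000000000000000000000000000000000000080000000000000000000000000000000000000000000000000000000000000000000000000000000000000000000000000000000001000000000000000000000000000000000000000000000000000000000000000040000000000000000000)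

theorem TC_s37_F : Frame 276 (grp 276 tt_c4_K) 4 8 TC_s37_O 1 1 :=
  IsBase.frame TC_s37.isBase (by decide +kernel)

noncomputable def TC_s36_O : ℕ := (nat_lit 0x100120300080028300000010080200000000000100004000010000000000200000000cacada4c8f63f8543f6f7723f7adc6ebecf7f7de8f79afcefc00000000000000000000dbcd94a0f38e4542ef5e6cf73a9feef3c7b6c006002003002fdeeffa1ffc00000000a284d083dd13385c7fe76acb77293104d00c0bdeaffd102102f5eef00e001fffe0000025cd443d79a68842cecf7140cd2ff68fd8493dcd086aff90277d00fb2c01fe01df00633c47816cc0f0542dd315c75414bff380f60bc35f00fe07c3f22e0f443c3e1e1f0f0eb8bd63b3a172a9069badd7303a09a0f2265c3196c60d99732cf38ccf333199998ccc59c3c9614b5755c63622ad86c918b0cdd95da2954a56b544aba6b4aacfaa955556aaa000000000000000000000000000000000000002000000000000000000000000000000000000000000000080000000000000000000000000000000000000000000000000000000000000000000000000000000000000000000000000000000001000000000000000)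

theorem TC_s36_F : Frame 276 (grp 276 tt_c4_K) 3 11 TC_s36_O 0 1 :=
  Stab.frame hn TC_s36 (by decide +kernel)

noncomputable def ct_c15_cnt_L : List ℕ := [0, 15, TC_s0_O, 0, 0, 2, 8, TC_s33_O, 0, 0, 3, 11, TC_s36_O, 0, 0, 4, 8, TC_s37_O, 1, 0]

theorem ct_c15_cnt_P : Prob 276 9 (grp 276 tt_c4_K) ct_c15_cnt_EG [g779] [g779] ct_c15_K ct_c15_cnt_L 0 0 :=
  Sym.prob hn hk ct_c15_sym ct_c15_cnt_EG_ok (grp_cons_le g697_TC (grp_cons_le g444_TC (grp_cons_le g698_TC (grp_cons_le g548_TC (grp_cons_le g445_TC (grp_cons_le g446_TC (grp_cons_le g447_TC (grp_cons_le n_u_TC (grp_cons_le g709_TC (grp_cons_le g771_TC (grp_cons_le g781_TC (grp_nil_le _)))))))))))) (Frames.cons TC_s0_F (Frames.cons TC_s33_F (Frames.cons TC_s36_F (Frames.cons TC_s37_F Frames.nil)))) (okE_cons.2 ⟨g779_ok, okE_nil _⟩) _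

noncomputable def ct_c15_cnt_t : BT := (BT.frm (nat_lit 0) (nat_lit 0) (nat_lit 0) [] (BT.pln (nat_lit 0) (nat_lit 9) (BT.fix (nat_lit 1) (BT.dif (nat_lit 1) (nat_lit 0) (BT.br (nat_lit 0) (nat_lit 121) [nat_lit 1] (BT.kid (nat_lit 121) (nat_lit 8) (BT.pln (nat_lit 4) (nat_lit 10) (BT.dif (nat_lit 0) (nat_lit 3) (BT.br (nat_lit 0) (nat_lit 165) [nat_lit 3] (BT.kid (nat_lit 165) (nat_lit 4) (BT.pln (nat_lit 7) (nat_lit 6) (BT.frm (nat_lit 1) (nat_lit 260) (nat_lit 260) [nat_lit 1, nat_lit 4] (BT.pln (nat_lit 0) (nat_lit 4) (BT.dif (nat_lit 2) (nat_lit 0) (BT.dif (nat_lit 0) (nat_lit 9) (BT.br (nat_lit 0) (nat_lit 219) [nat_lit 5] (BT.kid (nat_lit 219) (nat_lit 2) (BT.pln (nat_lit 4) (nat_lit 6) (BT.and (nat_lit 4) (nat_lit 0) (BT.pln (nat_lit 6) (nat_lit 2) (BT.dif (nat_lit 1) (nat_lit 0) (BT.pln (nat_lit 8) (nat_lit 3) (BT.and (nat_lit 1) (nat_lit 0) (BT.pln (nat_lit 19) (nat_lit 3) (BT.dif (nat_lit 1) (nat_lit 0) (BT.frm (nat_lit 2) (nat_lit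 260) (nat_lit 260) [nat_lit 8, nat_lit 14, nat_lit 17] (BT.pln (nat_lit 0) (nat_lit 6) (BT.dif (nat_lit 2) (nat_lit 0) (BT.br (nat_lit 0) (nat_lit 243) [nat_lit 7] (BT.kid (nat_lit 243) (nat_lit 1) (BT.one (nat_lit 3) (nat_lit 0x150104) (nat_lit 0x150104) [nat_lit 0, nat_lit 12, nat_lit 18, nat_lit 21]) BT.nil))))))))))))) BT.nil))))))) BT.nil)))) BT.nil))))))

theorem ct_c15_cnt : Cnt 276 (grp 276 tt_c4_K) [g779] [g779] 0 0 0 0 16 :=
  BT.sound ct_c15_cnt_P Known.nil (t := ct_c15_cnt_t) (d := 0) (by decide +kernel)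

theorem ct_c15_ge : 16 ≤ Nat.card (grp 276 ct_c15_K) :=
  Ch.le_card_grp (k := 9) (L := (lab 276 9)) hn ct_c15_K_ok (c := (Ch.cons (nat_lit 121) [nat_lit 1] (Ch.cons (nat_lit 165) [nat_lit 3] (Ch.cons (nat_lit 219) [nat_lit 5] (Ch.cons (nat_lit 243) [nat_lit 7] Ch.nil))))) (by decide +kernel)

theorem ct_c15_eq : (grp 276 tt_c4_K) ⊓ Subgroup.centralizer {Net.toPerm 276 g779} = grp 276 ct_c15_K :=
  cent_eq ct_c15_sym ct_c15_cnt ct_c15_ge

theorem ct_c15_card : Nat.card ↥((grp 276 tt_c4_K) ⊓ Subgroup.centralizer {Net.toPerm 276 g779}) = 16 :=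
  card_cent ct_c15_sym ct_c15_cnt ct_c15_ge

theorem ct_c15_ord : orderOf (Net.toPerm 276 g779) = 2 :=
  orderOf_net hn hk g779_ok (by decide) (ps := [2]) (by set_option linter.unusedSimpArgs false in simp [Nat.primeFactorsList_ofNat]) (by decide +kernel)

theorem le786 : grp 276 ct_c16_K ≤ grp 276 tt_c4_K :=
  grp_le_of_memB hn hk tt_c4_K_ok ct_c16_K_ok (ws := [nat_lit 2305, nat_lit 7, nat_lit 2307, nat_lit 771]) (by decide +kernel)

theorem ct_c16_le : grp 276 ct_c16_K ≤ (grp 276 tt_c4_K) :=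
  (le786.trans TC_s0.le)

theorem ct_c16_mem : Net.toPerm 276 g705 ∈ (grp 276 tt_c4_K) :=
  ct_c16_le (toPerm_mem_grp (E := ct_c16_K) (List.Mem.head _))

theorem ct_c16_sym : Sym 276 (grp 276 tt_c4_K) [g705] ct_c16_K 0 :=
  Sym.of_lab hn hk (okE_cons.2 ⟨g705_ok, okE_nil _⟩) ct_c16_K_ok ct_c16_le (kT := 0) (by decide +kernel)

noncomputable def ct_c16_cnt_L : List ℕ := [0, 15, TC_s0_O, 0, 0, 2, 7, TC_s11_O, 0, 0, 3, 10, TC_s20_O, 0, 0, 4, 12, TC_s21_O, 0, 0, 5, 9, TC_s22_O, 1, 0]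

theorem ct_c16_cnt_P : Prob 276 9 (grp 276 tt_c4_K) ct_c16_cnt_EG [g705] [g705] ct_c16_K ct_c16_cnt_L 0 0 :=
  Sym.prob hn hk ct_c16_sym ct_c16_cnt_EG_ok (grp_cons_le g445_TC (grp_cons_le g446_TC (grp_cons_le g447_TC (grp_cons_le n_u_TC (grp_cons_le g444_TC (grp_cons_le g716_TC (grp_cons_le g717_TC (grp_cons_le g548_TC (grp_cons_le g684_TC (grp_nil_le _)))))))))) (Frames.cons TC_s0_F (Frames.cons TC_s11_F (Frames.cons TC_s20_F (Frames.cons TC_s21_F (Frames.cons TC_s22_F Frames.nil))))) (okE_cons.2 ⟨g705_ok, okE_nil _⟩) _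

noncomputable def ct_c16_cnt_t : BT := (BT.frm (nat_lit 0) (nat_lit 0) (nat_lit 0) [] (BT.pln (nat_lit 0) (nat_lit 8) (BT.br (nat_lit 0) (nat_lit 220) [nat_lit 1] (BT.kid (nat_lit 220) (nat_lit 16) (BT.pln (nat_lit 2) (nat_lit 10) (BT.br (nat_lit 0) (nat_lit 165) [nat_lit 3] (BT.kid (nat_lit 165) (nat_lit 4) (BT.pln (nat_lit 4) (nat_lit 3) (BT.img (nat_lit 1) (nat_lit 3) (BT.and (nat_lit 5) (nat_lit 0) (BT.frm (nat_lit 2) (nat_lit 3075) (nat_lit 3075) [nat_lit 3, nat_lit 0, nat_lit 5] (BT.pln (nat_lit 0) (nat_lit 5) (BT.dif (nat_lit 4) (nat_lit 0) (BT.frm (nat_lit 1) (nat_lit 3) (nat_lit 3) [nat_lit 3, nat_lit 8] (BT.pln (nat_lit 0) (nat_lit 2) (BT.dif (nat_lit 2) (nat_lit 0) (BT.br (nat_lit 0) (nat_lit 251) [nat_lit 5] (BT.kid (nat_lit 251) (nat_lit 2) (BT.pln (nat_lit 6) (nat_lit 8) (BT.and (nat_lit 6) (nat_lit 0) (BT.pln (nat_lit 8) (nat_lit 3) (BT.dif (nat_lit 1) (nat_lit 0) (BT.dif (nat_lit 0) (nat_lit 6) (BT.pln (nat_lit 8) (nat_lit 3) (BT.dif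 (nat_lit 1) (nat_lit 0) (BT.frm (nat_lit 3) (nat_lit 3075) (nat_lit 3075) [nat_lit 7, nat_lit 17, nat_lit 14, nat_lit 19] (BT.pln (nat_lit 0) (nat_lit 4) (BT.dif (nat_lit 2) (nat_lit 0) (BT.br (nat_lit 0) (nat_lit 243) [nat_lit 7] (BT.kid (nat_lit 243) (nat_lit 1) (BT.one (nat_lit 4) (nat_lit 986115) (nat_lit 986115) [nat_lit 0, nat_lit 11, nat_lit 21, nat_lit 18, nat_lit 23]) BT.nil)))))))))))) BT.nil))))))))))) BT.nil))) BT.nil))))

theorem ct_c16_cnt : Cnt 276 (grp 276 tt_c4_K) [g705] [g705] 0 0 0 0 64 :=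
  BT.sound ct_c16_cnt_P Known.nil (t := ct_c16_cnt_t) (d := 0) (by decide +kernel)

theorem ct_c16_ge : 64 ≤ Nat.card (grp 276 ct_c16_K) :=
  Ch.le_card_grp (k := 9) (L := (lab 276 9)) hn ct_c16_K_ok (c := (Ch.cons (nat_lit 220) [nat_lit 1] (Ch.cons (nat_lit 165) [nat_lit 3] (Ch.cons (nat_lit 251) [nat_lit 5] (Ch.cons (nat_lit 243) [nat_lit 7] Ch.nil))))) (by decide +kernel)

theorem ct_c16_eq : (grp 276 tt_c4_K) ⊓ Subgroup.centralizer {Net.toPerm 276 g705} = grp 276 ct_c16_K :=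
  cent_eq ct_c16_sym ct_c16_cnt ct_c16_ge

theorem ct_c16_card : Nat.card ↥((grp 276 tt_c4_K) ⊓ Subgroup.centralizer {Net.toPerm 276 g705}) = 64 :=
  card_cent ct_c16_sym ct_c16_cnt ct_c16_ge

theorem ct_c16_ord : orderOf (Net.toPerm 276 g705) = 4 :=
  orderOf_net hn hk g705_ok (by decide) (ps := [2]) (by set_option linter.unusedSimpArgs false in simp [Nat.primeFactorsList_ofNat]) (by decide +kernel)

theorem le787 : grp 276 ct_c17_K ≤ grp 276 tt_c4_K :=
  grp_le_of_memB hn hk tt_c4_K_ok ct_c17_K_ok (ws := [nat_lit 1025, nat_lit 0x9070303, nat_lit 2307, nat_lit 771]) (by decide +kernel)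

theorem ct_c17_le : grp 276 ct_c17_K ≤ (grp 276 tt_c4_K) :=
  (le787.trans TC_s0.le)

theorem ct_c17_mem : Net.toPerm 276 g127 ∈ (grp 276 tt_c4_K) :=
  ct_c17_le (toPerm_mem_grp (E := ct_c17_K) (List.Mem.head _))

theorem ct_c17_sym : Sym 276 (grp 276 tt_c4_K) [g127] ct_c17_K 0 :=
  Sym.of_lab hn hk (okE_cons.2 ⟨g127_ok, okE_nil _⟩) ct_c17_K_ok ct_c17_le (kT := 0) (by decide +kernel)

noncomputable def ct_c17_cnt_L : List ℕ := [0, 15, TC_s0_O, 0, 0, 2, 7, TC_s11_O, 0, 0, 3, 10, TC_s20_O, 0, 0, 4, 12, TC_s21_O, 0, 0, 5, 9, TC_s22_O, 1, 0]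

theorem ct_c17_cnt_P : Prob 276 9 (grp 276 tt_c4_K) ct_c17_cnt_EG [g127] [g127] ct_c17_K ct_c17_cnt_L 0 0 :=
  Sym.prob hn hk ct_c17_sym ct_c17_cnt_EG_ok (grp_cons_le g445_TC (grp_cons_le g446_TC (grp_cons_le g447_TC (grp_cons_le n_u_TC (grp_cons_le g444_TC (grp_cons_le g716_TC (grp_cons_le g717_TC (grp_cons_le g548_TC (grp_cons_le g684_TC (grp_nil_le _)))))))))) (Frames.cons TC_s0_F (Frames.cons TC_s11_F (Frames.cons TC_s20_F (Frames.cons TC_s21_F (Frames.cons TC_s22_F Frames.nil))))) (okE_cons.2 ⟨g127_ok, okE_nil _⟩) _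

noncomputable def ct_c17_cnt_t : BT := (BT.frm (nat_lit 0) (nat_lit 0) (nat_lit 0) [] (BT.pln (nat_lit 0) (nat_lit 8) (BT.br (nat_lit 0) (nat_lit 220) [nat_lit 1] (BT.kid (nat_lit 220) (nat_lit 16) (BT.pln (nat_lit 2) (nat_lit 10) (BT.br (nat_lit 0) (nat_lit 165) [nat_lit 3] (BT.kid (nat_lit 165) (nat_lit 4) (BT.pln (nat_lit 4) (nat_lit 3) (BT.img (nat_lit 1) (nat_lit 3) (BT.and (nat_lit 5) (nat_lit 0) (BT.frm (nat_lit 2) (nat_lit 3075) (nat_lit 3075) [nat_lit 3, nat_lit 0, nat_lit 5] (BT.pln (nat_lit 0) (nat_lit 5) (BT.dif (nat_lit 4) (nat_lit 0) (BT.frm (nat_lit 1) (nat_lit 3) (nat_lit 3) [nat_lit 3, nat_lit 8] (BT.pln (nat_lit 0) (nat_lit 2) (BT.dif (nat_lit 2) (nat_lit 0) (BT.br (nat_lit 0) (nat_lit 251) [nat_lit 5] (BT.kid (nat_lit 251) (nat_lit 2) (BT.pln (nat_lit 6) (nat_lit 8) (BT.and (nat_lit 6) (nat_lit 0) (BT.pln (nat_lit 8) (nat_lit 3) (BT.dif (nat_lit 1) (nat_lit 0) (BT.dif (nat_lit 0) (nat_lit 6) (BT.pln (nat_lit 8) (nat_lit 3) (BT.dif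 (nat_lit 1) (nat_lit 0) (BT.frm (nat_lit 3) (nat_lit 3075) (nat_lit 3075) [nat_lit 7, nat_lit 17, nat_lit 14, nat_lit 19] (BT.pln (nat_lit 0) (nat_lit 4) (BT.dif (nat_lit 2) (nat_lit 0) (BT.br (nat_lit 0) (nat_lit 243) [nat_lit 7] (BT.kid (nat_lit 243) (nat_lit 1) (BT.one (nat_lit 4) (nat_lit 986115) (nat_lit 986115) [nat_lit 0, nat_lit 11, nat_lit 21, nat_lit 18, nat_lit 23]) BT.nil)))))))))))) BT.nil))))))))))) BT.nil))) BT.nil))))

theorem ct_c17_cnt : Cnt 276 (grp 276 tt_c4_K) [g127] [g127] 0 0 0 0 64 :=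
  BT.sound ct_c17_cnt_P Known.nil (t := ct_c17_cnt_t) (d := 0) (by decide +kernel)

theorem ct_c17_ge : 64 ≤ Nat.card (grp 276 ct_c17_K) :=
  Ch.le_card_grp (k := 9) (L := (lab 276 9)) hn ct_c17_K_ok (c := (Ch.cons (nat_lit 220) [nat_lit 1] (Ch.cons (nat_lit 165) [nat_lit 3] (Ch.cons (nat_lit 251) [nat_lit 5] (Ch.cons (nat_lit 243) [nat_lit 7] Ch.nil))))) (by decide +kernel)

theorem ct_c17_eq : (grp 276 tt_c4_K) ⊓ Subgroup.centralizer {Net.toPerm 276 g127} = grp 276 ct_c17_K :=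
  cent_eq ct_c17_sym ct_c17_cnt ct_c17_ge

theorem ct_c17_card : Nat.card ↥((grp 276 tt_c4_K) ⊓ Subgroup.centralizer {Net.toPerm 276 g127}) = 64 :=
  card_cent ct_c17_sym ct_c17_cnt ct_c17_ge

theorem ct_c17_ord : orderOf (Net.toPerm 276 g127) = 4 :=
  orderOf_net hn hk g127_ok (by decide) (ps := [2]) (by set_option linter.unusedSimpArgs false in simp [Nat.primeFactorsList_ofNat]) (by decide +kernel)

theorem le788 : grp 276 ct_c18_K ≤ grp 276 tt_c4_K :=
  grp_le_of_memB hn hk tt_c4_K_ok ct_c18_K_ok (ws := [nat_lit 0x9030301, nat_lit 591620, nat_lit 2307, nat_lit 771]) (by decide +kernel)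

theorem ct_c18_le : grp 276 ct_c18_K ≤ (grp 276 tt_c4_K) :=
  (le788.trans TC_s0.le)

theorem ct_c18_mem : Net.toPerm 276 g712 ∈ (grp 276 tt_c4_K) :=
  ct_c18_le (toPerm_mem_grp (E := ct_c18_K) (List.Mem.head _))

theorem ct_c18_sym : Sym 276 (grp 276 tt_c4_K) [g712] ct_c18_K 0 :=
  Sym.of_lab hn hk (okE_cons.2 ⟨g712_ok, okE_nil _⟩) ct_c18_K_ok ct_c18_le (kT := 0) (by decide +kernel)

noncomputable def ct_c18_cnt_L : List ℕ := [0, 15, TC_s0_O, 0, 0, 2, 7, TC_s11_O, 0, 0, 3, 10, TC_s20_O, 0, 0, 4, 12, TC_s21_O, 0, 0, 5, 9, TC_s22_O, 1, 0]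

theorem ct_c18_cnt_P : Prob 276 9 (grp 276 tt_c4_K) ct_c18_cnt_EG [g712] [g712] ct_c18_K ct_c18_cnt_L 0 0 :=
  Sym.prob hn hk ct_c18_sym ct_c18_cnt_EG_ok (grp_cons_le g445_TC (grp_cons_le g446_TC (grp_cons_le g447_TC (grp_cons_le n_u_TC (grp_cons_le g444_TC (grp_cons_le g716_TC (grp_cons_le g717_TC (grp_cons_le g548_TC (grp_cons_le g684_TC (grp_nil_le _)))))))))) (Frames.cons TC_s0_F (Frames.cons TC_s11_F (Frames.cons TC_s20_F (Frames.cons TC_s21_F (Frames.cons TC_s22_F Frames.nil))))) (okE_cons.2 ⟨g712_ok, okE_nil _⟩) _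

noncomputable def ct_c18_cnt_t : BT := (BT.frm (nat_lit 0) (nat_lit 0) (nat_lit 0) [] (BT.pln (nat_lit 0) (nat_lit 8) (BT.br (nat_lit 0) (nat_lit 220) [nat_lit 1] (BT.kid (nat_lit 220) (nat_lit 16) (BT.pln (nat_lit 2) (nat_lit 10) (BT.br (nat_lit 0) (nat_lit 165) [nat_lit 3] (BT.kid (nat_lit 165) (nat_lit 4) (BT.pln (nat_lit 4) (nat_lit 3) (BT.img (nat_lit 1) (nat_lit 3) (BT.and (nat_lit 5) (nat_lit 0) (BT.frm (nat_lit 2) (nat_lit 3075) (nat_lit 3075) [nat_lit 3, nat_lit 0, nat_lit 5] (BT.pln (nat_lit 0) (nat_lit 5) (BT.dif (nat_lit 4) (nat_lit 0) (BT.frm (nat_lit 1) (nat_lit 3) (nat_lit 3) [nat_lit 3, nat_lit 8] (BT.pln (nat_lit 0) (nat_lit 2) (BT.dif (nat_lit 2) (nat_lit 0) (BT.br (nat_lit 0) (nat_lit 251) [nat_lit 5] (BT.kid (nat_lit 251) (nat_lit 2) (BT.pln (nat_lit 6) (nat_lit 8) (BT.and (nat_lit 6) (nat_lit 0) (BT.pln (nat_lit 8) (nat_lit 3) (BT.dif (nat_lit 1) (nat_lit 0) (BT.dif (nat_lit 0) (nat_lit 6) (BT.pln (nat_lit 8) (nat_lit 3) (BT.dif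 (nat_lit 1) (nat_lit 0) (BT.frm (nat_lit 3) (nat_lit 3075) (nat_lit 3075) [nat_lit 7, nat_lit 17, nat_lit 14, nat_lit 19] (BT.pln (nat_lit 0) (nat_lit 4) (BT.dif (nat_lit 2) (nat_lit 0) (BT.br (nat_lit 0) (nat_lit 198) [nat_lit 7] (BT.kid (nat_lit 198) (nat_lit 1) (BT.one (nat_lit 4) (nat_lit 3075) (nat_lit 3075) [nat_lit 0, nat_lit 11, nat_lit 21, nat_lit 18, nat_lit 23]) BT.nil)))))))))))) BT.nil))))))))))) BT.nil))) BT.nil))))

theorem ct_c18_cnt : Cnt 276 (grp 276 tt_c4_K) [g712] [g712] 0 0 0 0 64 :=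
  BT.sound ct_c18_cnt_P Known.nil (t := ct_c18_cnt_t) (d := 0) (by decide +kernel)

theorem ct_c18_ge : 64 ≤ Nat.card (grp 276 ct_c18_K) :=
  Ch.le_card_grp (k := 9) (L := (lab 276 9)) hn ct_c18_K_ok (c := (Ch.cons (nat_lit 220) [nat_lit 1] (Ch.cons (nat_lit 165) [nat_lit 3] (Ch.cons (nat_lit 251) [nat_lit 5] (Ch.cons (nat_lit 198) [nat_lit 7] Ch.nil))))) (by decide +kernel)

theorem ct_c18_eq : (grp 276 tt_c4_K) ⊓ Subgroup.centralizer {Net.toPerm 276 g712} = grp 276 ct_c18_K :=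
  cent_eq ct_c18_sym ct_c18_cnt ct_c18_ge

theorem ct_c18_card : Nat.card ↥((grp 276 tt_c4_K) ⊓ Subgroup.centralizer {Net.toPerm 276 g712}) = 64 :=
  card_cent ct_c18_sym ct_c18_cnt ct_c18_ge

theorem ct_c18_ord : orderOf (Net.toPerm 276 g712) = 4 :=
  orderOf_net hn hk g712_ok (by decide) (ps := [2]) (by set_option linter.unusedSimpArgs false in simp [Nat.primeFactorsList_ofNat]) (by decide +kernel)

theorem le789 : grp 276 ct_c19_K ≤ grp 276 tt_c4_K :=
  grp_le_of_memB hn hk tt_c4_K_ok ct_c19_K_ok (ws := [nat_lit 4, nat_lit 7, nat_lit 2305, nat_lit 257]) (by decide +kernel)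

theorem ct_c19_le : grp 276 ct_c19_K ≤ (grp 276 tt_c4_K) :=
  (le789.trans TC_s0.le)

theorem ct_c19_mem : Net.toPerm 276 g717 ∈ (grp 276 tt_c4_K) :=
  ct_c19_le (toPerm_mem_grp (E := ct_c19_K) (List.Mem.head _))

theorem ct_c19_sym : Sym 276 (grp 276 tt_c4_K) [g717] ct_c19_K 0 :=
  Sym.of_lab hn hk (okE_cons.2 ⟨g717_ok, okE_nil _⟩) ct_c19_K_ok ct_c19_le (kT := 0) (by decide +kernel)

noncomputable def ct_c19_cnt_L : List ℕ := [0, 15, TC_s0_O, 0, 0, 3, 10, TC_s17_O, 0, 0, 4, 12, TC_s18_O, 0, 0, 5, 9, TC_s19_O, 1, 0]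

theorem ct_c19_cnt_P : Prob 276 9 (grp 276 tt_c4_K) ct_c19_cnt_EG [g717] [g717] ct_c19_K ct_c19_cnt_L 0 0 :=
  Sym.prob hn hk ct_c19_sym ct_c19_cnt_EG_ok (grp_cons_le g524_TC (grp_cons_le g705_TC (grp_cons_le g491_TC (grp_cons_le g706_TC (grp_cons_le g444_TC (grp_cons_le g445_TC (grp_cons_le g446_TC (grp_cons_le g447_TC (grp_cons_le n_u_TC (grp_nil_le _)))))))))) (Frames.cons TC_s0_F (Frames.cons TC_s17_F (Frames.cons TC_s18_F (Frames.cons TC_s19_F Frames.nil)))) (okE_cons.2 ⟨g717_ok, okE_nil _⟩) _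

noncomputable def ct_c19_cnt_t : BT := (BT.frm (nat_lit 0) (nat_lit 0) (nat_lit 0) [] (BT.pln (nat_lit 0) (nat_lit 11) (BT.br (nat_lit 0) (nat_lit 200) [nat_lit 1] (BT.kid (nat_lit 200) (nat_lit 16) (BT.pln (nat_lit 2) (nat_lit 12) (BT.br (nat_lit 0) (nat_lit 237) [nat_lit 3] (BT.kid (nat_lit 237) (nat_lit 4) (BT.pln (nat_lit 4) (nat_lit 4) (BT.img (nat_lit 1) (nat_lit 3) (BT.and (nat_lit 5) (nat_lit 0) (BT.frm (nat_lit 1) (nat_lit 0) (nat_lit 0) [nat_lit 3, nat_lit 0, nat_lit 5] (BT.pln (nat_lit 0) (nat_lit 3) (BT.dif (nat_lit 4) (nat_lit 0) (BT.pln (nat_lit 2) (nat_lit 4) (BT.dif (nat_lit 1) (nat_lit 0) (BT.br (nat_lit 0) (nat_lit 95) [nat_lit 5] (BT.kid (nat_lit 95) (nat_lit 2) (BT.dif (nat_lit 2) (nat_lit 4) (BT.pln (nat_lit 6) (nat_lit 5) (BT.dif (nat_lit 1) (nat_lit 0) (BT.pln (nat_lit 8) (nat_lit 6) (BT.dif (nat_lit 1) (nat_lit 0) (BT.pln (nat_lit 10) (nat_lit 7) (BT.dif (nat_lit 1) (nat_lit 0) (BT.pln (nat_lit 12) (nat_lit 8) (BT.dif (nat_lit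 1) (nat_lit 0) (BT.dif (nat_lit 0) (nat_lit 17) (BT.frm (nat_lit 2) (nat_lit 0) (nat_lit 0) [nat_lit 10, nat_lit 19, nat_lit 16, nat_lit 21] (BT.pln (nat_lit 0) (nat_lit 4) (BT.dif (nat_lit 2) (nat_lit 0) (BT.br (nat_lit 0) (nat_lit 106) [nat_lit 7] (BT.kid (nat_lit 106) (nat_lit 1) (BT.one (nat_lit 3) (nat_lit 0) (nat_lit 0) [nat_lit 0, nat_lit 14, nat_lit 23, nat_lit 20, nat_lit 25]) BT.nil))))))))))))))) BT.nil)))))))))) BT.nil))) BT.nil))))

theorem ct_c19_cnt : Cnt 276 (grp 276 tt_c4_K) [g717] [g717] 0 0 0 0 64 :=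
  BT.sound ct_c19_cnt_P Known.nil (t := ct_c19_cnt_t) (d := 0) (by decide +kernel)

theorem ct_c19_ge : 64 ≤ Nat.card (grp 276 ct_c19_K) :=
  Ch.le_card_grp (k := 9) (L := (lab 276 9)) hn ct_c19_K_ok (c := (Ch.cons (nat_lit 200) [nat_lit 1] (Ch.cons (nat_lit 237) [nat_lit 3] (Ch.cons (nat_lit 95) [nat_lit 5] (Ch.cons (nat_lit 106) [nat_lit 7] Ch.nil))))) (by decide +kernel)

theorem ct_c19_eq : (grp 276 tt_c4_K) ⊓ Subgroup.centralizer {Net.toPerm 276 g717} = grp 276 ct_c19_K :=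
  cent_eq ct_c19_sym ct_c19_cnt ct_c19_ge

theorem ct_c19_card : Nat.card ↥((grp 276 tt_c4_K) ⊓ Subgroup.centralizer {Net.toPerm 276 g717}) = 64 :=
  card_cent ct_c19_sym ct_c19_cnt ct_c19_ge

theorem ct_c19_ord : orderOf (Net.toPerm 276 g717) = 4 :=
  orderOf_net hn hk g717_ok (by decide) (ps := [2]) (by set_option linter.unusedSimpArgs false in simp [Nat.primeFactorsList_ofNat]) (by decide +kernel)

theorem le791 : grp 276 ct_c20_K ≤ grp 276 tt_c4_K :=
  grp_le_of_memB hn hk tt_c4_K_ok ct_c20_K_ok (ws := [nat_lit 0x907040101, nat_lit 1, nat_lit 262401, nat_lit 771]) (by decide +kernel)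

theorem ct_c20_le : grp 276 ct_c20_K ≤ (grp 276 tt_c4_K) :=
  (le791.trans TC_s0.le)

theorem ct_c20_mem : Net.toPerm 276 g790 ∈ (grp 276 tt_c4_K) :=
  ct_c20_le (toPerm_mem_grp (E := ct_c20_K) (List.Mem.head _))

theorem ct_c20_sym : Sym 276 (grp 276 tt_c4_K) [g790] ct_c20_K 0 :=
  Sym.of_lab hn hk (okE_cons.2 ⟨g790_ok, okE_nil _⟩) ct_c20_K_ok ct_c20_le (kT := 0) (by decide +kernel)

noncomputable def ct_c20_cnt_L : List ℕ := [0, 15, TC_s0_O, 0, 0, 1, 20, TC_s6_O, 0, 0, 2, 7, TC_s7_O, 0, 0, 3, 10, TC_s8_O, 0, 0, 4, 12, TC_s9_O, 0, 0, 5, 9, TC_s10_O, 1, 0]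

theorem ct_c20_cnt_P : Prob 276 9 (grp 276 tt_c4_K) ct_c20_cnt_EG [g790] [g790] ct_c20_K ct_c20_cnt_L 0 0 :=
  Sym.prob hn hk ct_c20_sym ct_c20_cnt_EG_ok (grp_cons_le g444_TC (grp_cons_le g445_TC (grp_cons_le g446_TC (grp_cons_le g447_TC (grp_cons_le n_u_TC (grp_cons_le g697_TC (grp_cons_le g698_TC (grp_cons_le g548_TC (grp_nil_le _))))))))) (Frames.cons TC_s0_F (Frames.cons TC_s6_F (Frames.cons TC_s7_F (Frames.cons TC_s8_F (Frames.cons TC_s9_F (Frames.cons TC_s10_F Frames.nil)))))) (okE_cons.2 ⟨g790_ok, okE_nil _⟩) _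

noncomputable def ct_c20_cnt_t : BT := (BT.frm (nat_lit 0) (nat_lit 0) (nat_lit 0) [] (BT.pln (nat_lit 0) (nat_lit 9) (BT.br (nat_lit 0) (nat_lit 121) [nat_lit 1] (BT.kid (nat_lit 121) (nat_lit 16) (BT.pln (nat_lit 2) (nat_lit 10) (BT.br (nat_lit 0) (nat_lit 165) [nat_lit 3] (BT.kid (nat_lit 165) (nat_lit 4) (BT.pln (nat_lit 4) (nat_lit 3) (BT.img (nat_lit 1) (nat_lit 3) (BT.and (nat_lit 5) (nat_lit 0) (BT.frm (nat_lit 2) (nat_lit 11) (nat_lit 11) [nat_lit 0, nat_lit 5] (BT.pln (nat_lit 0) (nat_lit 3) (BT.dif (nat_lit 4) (nat_lit 0) (BT.frm (nat_lit 3) (nat_lit 523) (nat_lit 523) [nat_lit 6, nat_lit 3, nat_lit 8] (BT.pln (nat_lit 0) (nat_lit 4) (BT.dif (nat_lit 2) (nat_lit 0) (BT.br (nat_lit 0) (nat_lit 251) [nat_lit 5] (BT.kid (nat_lit 251) (nat_lit 2) (BT.frm (nat_lit 1) (nat_lit 0) (nat_lit 0) [nat_lit 12] (BT.pln (nat_lit 0) (nat_lit 3) (BT.img (nat_lit 1) (nat_lit 0) (BT.dif (nat_lit 0) (nat_lit 5) (BT.pln (nat_lit 7) (nat_lit 7) (BT.and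 (nat_lit 1) (nat_lit 0) (BT.frm (nat_lit 4) (nat_lit 523) (nat_lit 523) [nat_lit 6, nat_lit 16, nat_lit 13, nat_lit 18] (BT.pln (nat_lit 0) (nat_lit 5) (BT.dif (nat_lit 2) (nat_lit 0) (BT.br (nat_lit 0) (nat_lit 78) [nat_lit 7] (BT.kid (nat_lit 78) (nat_lit 1) (BT.one (nat_lit 5) (nat_lit 523) (nat_lit 523) [nat_lit 0, nat_lit 10, nat_lit 20, nat_lit 17, nat_lit 22]) BT.nil))))))))))) BT.nil))))))))))) BT.nil))) BT.nil))))

theorem ct_c20_cnt : Cnt 276 (grp 276 tt_c4_K) [g790] [g790] 0 0 0 0 64 :=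
  BT.sound ct_c20_cnt_P Known.nil (t := ct_c20_cnt_t) (d := 0) (by decide +kernel)

theorem ct_c20_ge : 64 ≤ Nat.card (grp 276 ct_c20_K) :=
  Ch.le_card_grp (k := 9) (L := (lab 276 9)) hn ct_c20_K_ok (c := (Ch.cons (nat_lit 121) [nat_lit 1] (Ch.cons (nat_lit 165) [nat_lit 3] (Ch.cons (nat_lit 251) [nat_lit 5] (Ch.cons (nat_lit 78) [nat_lit 7] Ch.nil))))) (by decide +kernel)

theorem ct_c20_eq : (grp 276 tt_c4_K) ⊓ Subgroup.centralizer {Net.toPerm 276 g790} = grp 276 ct_c20_K :=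
  cent_eq ct_c20_sym ct_c20_cnt ct_c20_ge

theorem ct_c20_card : Nat.card ↥((grp 276 tt_c4_K) ⊓ Subgroup.centralizer {Net.toPerm 276 g790}) = 64 :=
  card_cent ct_c20_sym ct_c20_cnt ct_c20_ge

theorem ct_c20_ord : orderOf (Net.toPerm 276 g790) = 4 :=
  orderOf_net hn hk g790_ok (by decide) (ps := [2]) (by set_option linter.unusedSimpArgs false in simp [Nat.primeFactorsList_ofNat]) (by decide +kernel)

theorem le793 : grp 276 ct_c21_K ≤ grp 276 tt_c4_K :=
  grp_le_of_memB hn hk tt_c4_K_ok ct_c21_K_ok (ws := [nat_lit 0x907030302, nat_lit 459523, nat_lit 4, nat_lit 771]) (by decide +kernel)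

theorem ct_c21_le : grp 276 ct_c21_K ≤ (grp 276 tt_c4_K) :=
  (le793.trans TC_s0.le)

theorem ct_c21_mem : Net.toPerm 276 g792 ∈ (grp 276 tt_c4_K) :=
  ct_c21_le (toPerm_mem_grp (E := ct_c21_K) (List.Mem.head _))

theorem ct_c21_sym : Sym 276 (grp 276 tt_c4_K) [g792] ct_c21_K 0 :=
  Sym.of_lab hn hk (okE_cons.2 ⟨g792_ok, okE_nil _⟩) ct_c21_K_ok ct_c21_le (kT := 0) (by decide +kernel)

noncomputable def ct_c21_cnt_L : List ℕ := [0, 15, TC_s0_O, 0, 0, 2, 7, TC_s11_O, 0, 0, 3, 10, TC_s12_O, 0, 0, 4, 12, TC_s13_O, 0, 0, 5, 9, TC_s14_O, 1, 0]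

theorem ct_c21_cnt_P : Prob 276 9 (grp 276 tt_c4_K) ct_c21_cnt_EG [g792] [g792] ct_c21_K ct_c21_cnt_L 0 0 :=
  Sym.prob hn hk ct_c21_sym ct_c21_cnt_EG_ok (grp_cons_le g445_TC (grp_cons_le g446_TC (grp_cons_le g447_TC (grp_cons_le n_u_TC (grp_cons_le g444_TC (grp_cons_le g716_TC (grp_cons_le g717_TC (grp_cons_le g548_TC (grp_nil_le _))))))))) (Frames.cons TC_s0_F (Frames.cons TC_s11_F (Frames.cons TC_s12_F (Frames.cons TC_s13_F (Frames.cons TC_s14_F Frames.nil))))) (okE_cons.2 ⟨g792_ok, okE_nil _⟩) _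

noncomputable def ct_c21_cnt_t : BT := (BT.frm (nat_lit 0) (nat_lit 0) (nat_lit 0) [] (BT.pln (nat_lit 0) (nat_lit 8) (BT.br (nat_lit 0) (nat_lit 220) [nat_lit 1] (BT.kid (nat_lit 220) (nat_lit 16) (BT.pln (nat_lit 2) (nat_lit 9) (BT.br (nat_lit 0) (nat_lit 121) [nat_lit 3] (BT.kid (nat_lit 121) (nat_lit 4) (BT.pln (nat_lit 4) (nat_lit 3) (BT.img (nat_lit 1) (nat_lit 3) (BT.and (nat_lit 5) (nat_lit 0) (BT.frm (nat_lit 1) (nat_lit 0) (nat_lit 0) [nat_lit 0, nat_lit 5] (BT.pln (nat_lit 0) (nat_lit 2) (BT.dif (nat_lit 4) (nat_lit 0) (BT.frm (nat_lit 2) (nat_lit 0) (nat_lit 0) [nat_lit 6, nat_lit 3, nat_lit 8] (BT.pln (nat_lit 0) (nat_lit 4) (BT.dif (nat_lit 2) (nat_lit 0) (BT.pln (nat_lit 2) (nat_lit 3) (BT.dif (nat_lit 1) (nat_lit 0) (BT.br (nat_lit 0) (nat_lit 210) [nat_lit 5] (BT.kid (nat_lit 210) (nat_lit 2) (BT.pln (nat_lit 5) (nat_lit 8) (BT.and (nat_lit 5) (nat_lit 0) (BT.dif (nat_lit 0) (nat_lit 9) (BT.pln (nat_lit 8) (nat_lit 6) (BT.dif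 (nat_lit 1) (nat_lit 0) (BT.pln (nat_lit 21) (nat_lit 0) (BT.dif (nat_lit 1) (nat_lit 0) (BT.frm (nat_lit 3) (nat_lit 0) (nat_lit 0) [nat_lit 7, nat_lit 19, nat_lit 16, nat_lit 21] (BT.pln (nat_lit 0) (nat_lit 5) (BT.dif (nat_lit 2) (nat_lit 0) (BT.br (nat_lit 0) (nat_lit 66) [nat_lit 7] (BT.kid (nat_lit 66) (nat_lit 1) (BT.one (nat_lit 4) (nat_lit 0) (nat_lit 0) [nat_lit 0, nat_lit 11, nat_lit 23, nat_lit 20, nat_lit 25]) BT.nil)))))))))))) BT.nil))))))))))))) BT.nil))) BT.nil))))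

theorem ct_c21_cnt : Cnt 276 (grp 276 tt_c4_K) [g792] [g792] 0 0 0 0 64 :=
  BT.sound ct_c21_cnt_P Known.nil (t := ct_c21_cnt_t) (d := 0) (by decide +kernel)

theorem ct_c21_ge : 64 ≤ Nat.card (grp 276 ct_c21_K) :=
  Ch.le_card_grp (k := 9) (L := (lab 276 9)) hn ct_c21_K_ok (c := (Ch.cons (nat_lit 220) [nat_lit 1] (Ch.cons (nat_lit 121) [nat_lit 3] (Ch.cons (nat_lit 210) [nat_lit 5] (Ch.cons (nat_lit 66) [nat_lit 7] Ch.nil))))) (by decide +kernel)

theorem ct_c21_eq : (grp 276 tt_c4_K) ⊓ Subgroup.centralizer {Net.toPerm 276 g792} = grp 276 ct_c21_K :=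
  cent_eq ct_c21_sym ct_c21_cnt ct_c21_ge

theorem ct_c21_card : Nat.card ↥((grp 276 tt_c4_K) ⊓ Subgroup.centralizer {Net.toPerm 276 g792}) = 64 :=
  card_cent ct_c21_sym ct_c21_cnt ct_c21_ge

theorem ct_c21_ord : orderOf (Net.toPerm 276 g792) = 4 :=
  orderOf_net hn hk g792_ok (by decide) (ps := [2]) (by set_option linter.unusedSimpArgs false in simp [Nat.primeFactorsList_ofNat]) (by decide +kernel)

theorem le796 : grp 276 ct_c22_K ≤ grp 276 tt_c4_K :=
  grp_le_of_memB hn hk tt_c4_K_ok ct_c22_K_ok (ws := [nat_lit 459521, nat_lit 1795, nat_lit 3, nat_lit 771]) (by decide +kernel)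

theorem ct_c22_le : grp 276 ct_c22_K ≤ (grp 276 tt_c4_K) :=
  (le796.trans TC_s0.le)

theorem ct_c22_mem : Net.toPerm 276 g794 ∈ (grp 276 tt_c4_K) :=
  ct_c22_le (toPerm_mem_grp (E := ct_c22_K) (List.Mem.head _))

theorem ct_c22_sym : Sym 276 (grp 276 tt_c4_K) [g794] ct_c22_K 0 :=
  Sym.of_lab hn hk (okE_cons.2 ⟨g794_ok, okE_nil _⟩) ct_c22_K_ok ct_c22_le (kT := 0) (by decide +kernel)

noncomputable def ct_c22_cnt_L : List ℕ := [0, 15, TC_s0_O, 0, 0, 2, 7, TC_s11_O, 0, 0, 3, 10, TC_s12_O, 0, 0, 4, 12, TC_s13_O, 0, 0, 5, 9, TC_s14_O, 1, 0]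

theorem ct_c22_cnt_P : Prob 276 9 (grp 276 tt_c4_K) ct_c22_cnt_EG [g794] [g794] ct_c22_K ct_c22_cnt_L 0 0 :=
  Sym.prob hn hk ct_c22_sym ct_c22_cnt_EG_ok (grp_cons_le g445_TC (grp_cons_le g446_TC (grp_cons_le g447_TC (grp_cons_le n_u_TC (grp_cons_le g444_TC (grp_cons_le g716_TC (grp_cons_le g717_TC (grp_cons_le g548_TC (grp_nil_le _))))))))) (Frames.cons TC_s0_F (Frames.cons TC_s11_F (Frames.cons TC_s12_F (Frames.cons TC_s13_F (Frames.cons TC_s14_F Frames.nil))))) (okE_cons.2 ⟨g794_ok, okE_nil _⟩) _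

noncomputable def ct_c22_cnt_t : BT := (BT.frm (nat_lit 0) (nat_lit 0) (nat_lit 0) [] (BT.pln (nat_lit 0) (nat_lit 8) (BT.br (nat_lit 0) (nat_lit 220) [nat_lit 1] (BT.kid (nat_lit 220) (nat_lit 16) (BT.pln (nat_lit 2) (nat_lit 9) (BT.br (nat_lit 0) (nat_lit 121) [nat_lit 3] (BT.kid (nat_lit 121) (nat_lit 4) (BT.pln (nat_lit 4) (nat_lit 3) (BT.img (nat_lit 1) (nat_lit 3) (BT.and (nat_lit 5) (nat_lit 0) (BT.frm (nat_lit 1) (nat_lit 3) (nat_lit 3) [nat_lit 0, nat_lit 5] (BT.pln (nat_lit 0) (nat_lit 2) (BT.dif (nat_lit 4) (nat_lit 0) (BT.frm (nat_lit 2) (nat_lit 723715) (nat_lit 723715) [nat_lit 6, nat_lit 3, nat_lit 8] (BT.pln (nat_lit 0) (nat_lit 4) (BT.dif (nat_lit 2) (nat_lit 0) (BT.pln (nat_lit 2) (nat_lit 3) (BT.dif (nat_lit 1) (nat_lit 0) (BT.br (nat_lit 0) (nat_lit 21) [nat_lit 5] (BT.kid (nat_lit 21) (nat_lit 2) (BT.pln (nat_lit 5) (nat_lit 8) (BT.and (nat_lit 5) (nat_lit 0) (BT.dif (nat_lit 0) (nat_lit 9) (BT.pln (nat_lit 8) (nat_lit 6)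 (BT.dif (nat_lit 1) (nat_lit 0) (BT.pln (nat_lit 21) (nat_lit 0) (BT.dif (nat_lit 1) (nat_lit 0) (BT.frm (nat_lit 3) (nat_lit 723715) (nat_lit 723715) [nat_lit 7, nat_lit 19, nat_lit 16, nat_lit 21] (BT.pln (nat_lit 0) (nat_lit 5) (BT.dif (nat_lit 2) (nat_lit 0) (BT.br (nat_lit 0) (nat_lit 26) [nat_lit 7] (BT.kid (nat_lit 26) (nat_lit 1) (BT.one (nat_lit 4) (nat_lit 723715) (nat_lit 723715) [nat_lit 0, nat_lit 11, nat_lit 23, nat_lit 20, nat_lit 25]) BT.nil)))))))))))) BT.nil))))))))))))) BT.nil))) BT.nil))))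

theorem ct_c22_cnt : Cnt 276 (grp 276 tt_c4_K) [g794] [g794] 0 0 0 0 64 :=
  BT.sound ct_c22_cnt_P Known.nil (t := ct_c22_cnt_t) (d := 0) (by decide +kernel)

theorem ct_c22_ge : 64 ≤ Nat.card (grp 276 ct_c22_K) :=
  Ch.le_card_grp (k := 9) (L := (lab 276 9)) hn ct_c22_K_ok (c := (Ch.cons (nat_lit 220) [nat_lit 1] (Ch.cons (nat_lit 121) [nat_lit 3] (Ch.cons (nat_lit 21) [nat_lit 5] (Ch.cons (nat_lit 26) [nat_lit 7] Ch.nil))))) (by decide +kernel)

theorem ct_c22_eq : (grp 276 tt_c4_K) ⊓ Subgroup.centralizer {Net.toPerm 276 g794} = grp 276 ct_c22_K :=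
  cent_eq ct_c22_sym ct_c22_cnt ct_c22_ge

theorem ct_c22_card : Nat.card ↥((grp 276 tt_c4_K) ⊓ Subgroup.centralizer {Net.toPerm 276 g794}) = 64 :=
  card_cent ct_c22_sym ct_c22_cnt ct_c22_ge

theorem ct_c22_ord : orderOf (Net.toPerm 276 g794) = 4 :=
  orderOf_net hn hk g794_ok (by decide) (ps := [2]) (by set_option linter.unusedSimpArgs false in simp [Nat.primeFactorsList_ofNat]) (by decide +kernel)

theorem le798 : grp 276 ct_c23_K ≤ grp 276 tt_c4_K :=
  grp_le_of_memB hn hk tt_c4_K_ok ct_c23_K_ok (ws := [nat_lit 0x7030302, nat_lit 2311, nat_lit 3, nat_lit 771]) (by decide +kernel)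

theorem ct_c23_le : grp 276 ct_c23_K ≤ (grp 276 tt_c4_K) :=
  (le798.trans TC_s0.le)

theorem ct_c23_mem : Net.toPerm 276 g797 ∈ (grp 276 tt_c4_K) :=
  ct_c23_le (toPerm_mem_grp (E := ct_c23_K) (List.Mem.head _))

theorem ct_c23_sym : Sym 276 (grp 276 tt_c4_K) [g797] ct_c23_K 0 :=
  Sym.of_lab hn hk (okE_cons.2 ⟨g797_ok, okE_nil _⟩) ct_c23_K_ok ct_c23_le (kT := 0) (by decide +kernel)

noncomputable def ct_c23_cnt_L : List ℕ := [0, 15, TC_s0_O, 0, 0, 2, 7, TC_s11_O, 0, 0, 3, 10, TC_s12_O, 0, 0, 4, 12, TC_s13_O, 0, 0, 5, 9, TC_s14_O, 1, 0]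

theorem ct_c23_cnt_P : Prob 276 9 (grp 276 tt_c4_K) ct_c23_cnt_EG [g797] [g797] ct_c23_K ct_c23_cnt_L 0 0 :=
  Sym.prob hn hk ct_c23_sym ct_c23_cnt_EG_ok (grp_cons_le g445_TC (grp_cons_le g446_TC (grp_cons_le g447_TC (grp_cons_le n_u_TC (grp_cons_le g444_TC (grp_cons_le g716_TC (grp_cons_le g717_TC (grp_cons_le g548_TC (grp_nil_le _))))))))) (Frames.cons TC_s0_F (Frames.cons TC_s11_F (Frames.cons TC_s12_F (Frames.cons TC_s13_F (Frames.cons TC_s14_F Frames.nil))))) (okE_cons.2 ⟨g797_ok, okE_nil _⟩) _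

noncomputable def ct_c23_cnt_t : BT := (BT.frm (nat_lit 0) (nat_lit 0) (nat_lit 0) [] (BT.pln (nat_lit 0) (nat_lit 8) (BT.br (nat_lit 0) (nat_lit 220) [nat_lit 1] (BT.kid (nat_lit 220) (nat_lit 16) (BT.pln (nat_lit 2) (nat_lit 9) (BT.br (nat_lit 0) (nat_lit 121) [nat_lit 3] (BT.kid (nat_lit 121) (nat_lit 4) (BT.pln (nat_lit 4) (nat_lit 3) (BT.img (nat_lit 1) (nat_lit 3) (BT.and (nat_lit 5) (nat_lit 0) (BT.frm (nat_lit 1) (nat_lit 0) (nat_lit 0) [nat_lit 0, nat_lit 5] (BT.pln (nat_lit 0) (nat_lit 2) (BT.dif (nat_lit 4) (nat_lit 0) (BT.frm (nat_lit 2) (nat_lit 0) (nat_lit 0) [nat_lit 6, nat_lit 3, nat_lit 8] (BT.pln (nat_lit 0) (nat_lit 4) (BT.dif (nat_lit 2) (nat_lit 0) (BT.pln (nat_lit 2) (nat_lit 3) (BT.dif (nat_lit 1) (nat_lit 0) (BT.br (nat_lit 0) (nat_lit 210) [nat_lit 5] (BT.kid (nat_lit 210) (nat_lit 2) (BT.pln (nat_lit 5) (nat_lit 8) (BT.and (nat_lit 5) (nat_lit 0) (BT.dif (nat_lit 0) (nat_lit 9) (BT.pln (nat_lit 8) (nat_lit 6) (BT.dif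 (nat_lit 1) (nat_lit 0) (BT.pln (nat_lit 21) (nat_lit 0) (BT.dif (nat_lit 1) (nat_lit 0) (BT.frm (nat_lit 3) (nat_lit 0) (nat_lit 0) [nat_lit 7, nat_lit 19, nat_lit 16, nat_lit 21] (BT.pln (nat_lit 0) (nat_lit 5) (BT.dif (nat_lit 2) (nat_lit 0) (BT.br (nat_lit 0) (nat_lit 66) [nat_lit 7] (BT.kid (nat_lit 66) (nat_lit 1) (BT.one (nat_lit 4) (nat_lit 0) (nat_lit 0) [nat_lit 0, nat_lit 11, nat_lit 23, nat_lit 20, nat_lit 25]) BT.nil)))))))))))) BT.nil))))))))))))) BT.nil))) BT.nil))))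

theorem ct_c23_cnt : Cnt 276 (grp 276 tt_c4_K) [g797] [g797] 0 0 0 0 64 :=
  BT.sound ct_c23_cnt_P Known.nil (t := ct_c23_cnt_t) (d := 0) (by decide +kernel)

theorem ct_c23_ge : 64 ≤ Nat.card (grp 276 ct_c23_K) :=
  Ch.le_card_grp (k := 9) (L := (lab 276 9)) hn ct_c23_K_ok (c := (Ch.cons (nat_lit 220) [nat_lit 1] (Ch.cons (nat_lit 121) [nat_lit 3] (Ch.cons (nat_lit 210) [nat_lit 5] (Ch.cons (nat_lit 66) [nat_lit 7] Ch.nil))))) (by decide +kernel)

theorem ct_c23_eq : (grp 276 tt_c4_K) ⊓ Subgroup.centralizer {Net.toPerm 276 g797} = grp 276 ct_c23_K :=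
  cent_eq ct_c23_sym ct_c23_cnt ct_c23_ge

theorem ct_c23_card : Nat.card ↥((grp 276 tt_c4_K) ⊓ Subgroup.centralizer {Net.toPerm 276 g797}) = 64 :=
  card_cent ct_c23_sym ct_c23_cnt ct_c23_ge

theorem ct_c23_ord : orderOf (Net.toPerm 276 g797) = 4 :=
  orderOf_net hn hk g797_ok (by decide) (ps := [2]) (by set_option linter.unusedSimpArgs false in simp [Nat.primeFactorsList_ofNat]) (by decide +kernel)

theorem le800 : grp 276 ct_c24_K ≤ grp 276 tt_c4_K :=
  grp_le_of_memB hn hk tt_c4_K_ok ct_c24_K_ok (ws := [nat_lit 459009, nat_lit 770, nat_lit 196865, nat_lit 771]) (by decide +kernel)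

theorem ct_c24_le : grp 276 ct_c24_K ≤ (grp 276 tt_c4_K) :=
  (le800.trans TC_s0.le)

theorem ct_c24_mem : Net.toPerm 276 g799 ∈ (grp 276 tt_c4_K) :=
  ct_c24_le (toPerm_mem_grp (E := ct_c24_K) (List.Mem.head _))

theorem ct_c24_sym : Sym 276 (grp 276 tt_c4_K) [g799] ct_c24_K 0 :=
  Sym.of_lab hn hk (okE_cons.2 ⟨g799_ok, okE_nil _⟩) ct_c24_K_ok ct_c24_le (kT := 0) (by decide +kernel)

noncomputable def ct_c24_cnt_L : List ℕ := [0, 15, TC_s0_O, 0, 0, 1, 20, TC_s6_O, 0, 0, 2, 7, TC_s7_O, 0, 0, 3, 10, TC_s8_O, 0, 0, 4, 12, TC_s9_O, 0, 0, 5, 9, TC_s10_O, 1, 0]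

theorem ct_c24_cnt_P : Prob 276 9 (grp 276 tt_c4_K) ct_c24_cnt_EG [g799] [g799] ct_c24_K ct_c24_cnt_L 0 0 :=
  Sym.prob hn hk ct_c24_sym ct_c24_cnt_EG_ok (grp_cons_le g444_TC (grp_cons_le g445_TC (grp_cons_le g446_TC (grp_cons_le g447_TC (grp_cons_le n_u_TC (grp_cons_le g697_TC (grp_cons_le g698_TC (grp_cons_le g548_TC (grp_nil_le _))))))))) (Frames.cons TC_s0_F (Frames.cons TC_s6_F (Frames.cons TC_s7_F (Frames.cons TC_s8_F (Frames.cons TC_s9_F (Frames.cons TC_s10_F Frames.nil)))))) (okE_cons.2 ⟨g799_ok, okE_nil _⟩) _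

noncomputable def ct_c24_cnt_t : BT := (BT.frm (nat_lit 0) (nat_lit 0) (nat_lit 0) [] (BT.pln (nat_lit 0) (nat_lit 9) (BT.br (nat_lit 0) (nat_lit 121) [nat_lit 1] (BT.kid (nat_lit 121) (nat_lit 16) (BT.pln (nat_lit 2) (nat_lit 10) (BT.br (nat_lit 0) (nat_lit 165) [nat_lit 3] (BT.kid (nat_lit 165) (nat_lit 4) (BT.pln (nat_lit 4) (nat_lit 3) (BT.img (nat_lit 1) (nat_lit 3) (BT.and (nat_lit 5) (nat_lit 0) (BT.frm (nat_lit 2) (nat_lit 0) (nat_lit 0) [nat_lit 0, nat_lit 5] (BT.pln (nat_lit 0) (nat_lit 3) (BT.dif (nat_lit 4) (nat_lit 0) (BT.frm (nat_lit 3) (nat_lit 0) (nat_lit 0) [nat_lit 6, nat_lit 3, nat_lit 8] (BT.pln (nat_lit 0) (nat_lit 4) (BT.dif (nat_lit 2) (nat_lit 0) (BT.br (nat_lit 0) (nat_lit 21) [nat_lit 5] (BT.kid (nat_lit 21) (nat_lit 2) (BT.frm (nat_lit 1) (nat_lit 0) (nat_lit 0) [nat_lit 12] (BT.pln (nat_lit 0) (nat_lit 3) (BT.img (nat_lit 1) (nat_lit 0) (BT.dif (nat_lit 0) (nat_lit 5) (BT.pln (nat_lit 7) (nat_lit 7) (BT.and (nat_lit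 1) (nat_lit 0) (BT.frm (nat_lit 4) (nat_lit 0) (nat_lit 0) [nat_lit 6, nat_lit 16, nat_lit 13, nat_lit 18] (BT.pln (nat_lit 0) (nat_lit 5) (BT.dif (nat_lit 2) (nat_lit 0) (BT.br (nat_lit 0) (nat_lit 246) [nat_lit 7] (BT.kid (nat_lit 246) (nat_lit 1) (BT.one (nat_lit 5) (nat_lit 0) (nat_lit 0) [nat_lit 0, nat_lit 10, nat_lit 20, nat_lit 17, nat_lit 22]) BT.nil))))))))))) BT.nil))))))))))) BT.nil))) BT.nil))))

theorem ct_c24_cnt : Cnt 276 (grp 276 tt_c4_K) [g799] [g799] 0 0 0 0 64 :=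
  BT.sound ct_c24_cnt_P Known.nil (t := ct_c24_cnt_t) (d := 0) (by decide +kernel)

theorem ct_c24_ge : 64 ≤ Nat.card (grp 276 ct_c24_K) :=
  Ch.le_card_grp (k := 9) (L := (lab 276 9)) hn ct_c24_K_ok (c := (Ch.cons (nat_lit 121) [nat_lit 1] (Ch.cons (nat_lit 165) [nat_lit 3] (Ch.cons (nat_lit 21) [nat_lit 5] (Ch.cons (nat_lit 246) [nat_lit 7] Ch.nil))))) (by decide +kernel)

theorem ct_c24_eq : (grp 276 tt_c4_K) ⊓ Subgroup.centralizer {Net.toPerm 276 g799} = grp 276 ct_c24_K :=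
  cent_eq ct_c24_sym ct_c24_cnt ct_c24_ge

theorem ct_c24_card : Nat.card ↥((grp 276 tt_c4_K) ⊓ Subgroup.centralizer {Net.toPerm 276 g799}) = 64 :=
  card_cent ct_c24_sym ct_c24_cnt ct_c24_ge

theorem ct_c24_ord : orderOf (Net.toPerm 276 g799) = 4 :=
  orderOf_net hn hk g799_ok (by decide) (ps := [2]) (by set_option linter.unusedSimpArgs false in simp [Nat.primeFactorsList_ofNat]) (by decide +kernel)

theorem le801 : grp 276 ct_c25_K ≤ grp 276 tt_c4_K :=
  grp_le_of_memB hn hk tt_c4_K_ok ct_c25_K_ok (ws := [nat_lit 2307, nat_lit 7, nat_lit 2305, nat_lit 257]) (by decide +kernel)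

theorem ct_c25_le : grp 276 ct_c25_K ≤ (grp 276 tt_c4_K) :=
  (le801.trans TC_s0.le)

theorem ct_c25_mem : Net.toPerm 276 g735 ∈ (grp 276 tt_c4_K) :=
  ct_c25_le (toPerm_mem_grp (E := ct_c25_K) (List.Mem.head _))

theorem ct_c25_sym : Sym 276 (grp 276 tt_c4_K) [g735] ct_c25_K 0 :=
  Sym.of_lab hn hk (okE_cons.2 ⟨g735_ok, okE_nil _⟩) ct_c25_K_ok ct_c25_le (kT := 0) (by decide +kernel)

noncomputable def ct_c25_cnt_L : List ℕ := [0, 15, TC_s0_O, 0, 0, 3, 10, TC_s17_O, 0, 0, 4, 12, TC_s18_O, 0, 0, 5, 9, TC_s19_O, 1, 0]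

theorem ct_c25_cnt_P : Prob 276 9 (grp 276 tt_c4_K) ct_c25_cnt_EG [g735] [g735] ct_c25_K ct_c25_cnt_L 0 0 :=
  Sym.prob hn hk ct_c25_sym ct_c25_cnt_EG_ok (grp_cons_le g524_TC (grp_cons_le g705_TC (grp_cons_le g491_TC (grp_cons_le g706_TC (grp_cons_le g444_TC (grp_cons_le g445_TC (grp_cons_le g446_TC (grp_cons_le g447_TC (grp_cons_le n_u_TC (grp_nil_le _)))))))))) (Frames.cons TC_s0_F (Frames.cons TC_s17_F (Frames.cons TC_s18_F (Frames.cons TC_s19_F Frames.nil)))) (okE_cons.2 ⟨g735_ok, okE_nil _⟩) _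

noncomputable def ct_c25_cnt_t : BT := (BT.frm (nat_lit 0) (nat_lit 0) (nat_lit 0) [] (BT.pln (nat_lit 0) (nat_lit 11) (BT.br (nat_lit 0) (nat_lit 200) [nat_lit 1] (BT.kid (nat_lit 200) (nat_lit 16) (BT.pln (nat_lit 2) (nat_lit 12) (BT.br (nat_lit 0) (nat_lit 237) [nat_lit 3] (BT.kid (nat_lit 237) (nat_lit 4) (BT.pln (nat_lit 4) (nat_lit 4) (BT.img (nat_lit 1) (nat_lit 3) (BT.and (nat_lit 5) (nat_lit 0) (BT.frm (nat_lit 1) (nat_lit 65799) (nat_lit 65799) [nat_lit 3, nat_lit 0, nat_lit 5] (BT.pln (nat_lit 0) (nat_lit 3) (BT.dif (nat_lit 4) (nat_lit 0) (BT.pln (nat_lit 2) (nat_lit 4) (BT.dif (nat_lit 1) (nat_lit 0) (BT.br (nat_lit 0) (nat_lit 107) [nat_lit 5] (BT.kid (nat_lit 107) (nat_lit 2) (BT.dif (nat_lit 2) (nat_lit 4) (BT.pln (nat_lit 6) (nat_lit 5) (BT.dif (nat_lit 1) (nat_lit 0) (BT.pln (nat_lit 8) (nat_lit 6) (BT.dif (nat_lit 1) (nat_lit 0) (BT.pln (nat_lit 10) (nat_lit 7) (BT.dif (nat_lit 1) (nat_lit 0) (BT.pln (nat_lit 12) (nat_lit 8)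 (BT.dif (nat_lit 1) (nat_lit 0) (BT.dif (nat_lit 0) (nat_lit 17) (BT.frm (nat_lit 2) (nat_lit 65799) (nat_lit 65799) [nat_lit 10, nat_lit 19, nat_lit 16, nat_lit 21] (BT.pln (nat_lit 0) (nat_lit 4) (BT.dif (nat_lit 2) (nat_lit 0) (BT.br (nat_lit 0) (nat_lit 144) [nat_lit 7] (BT.kid (nat_lit 144) (nat_lit 1) (BT.one (nat_lit 3) (nat_lit 0x5010107) (nat_lit 0x5010107) [nat_lit 0, nat_lit 14, nat_lit 23, nat_lit 20, nat_lit 25]) BT.nil))))))))))))))) BT.nil)))))))))) BT.nil))) BT.nil))))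

theorem ct_c25_cnt : Cnt 276 (grp 276 tt_c4_K) [g735] [g735] 0 0 0 0 64 :=
  BT.sound ct_c25_cnt_P Known.nil (t := ct_c25_cnt_t) (d := 0) (by decide +kernel)

theorem ct_c25_ge : 64 ≤ Nat.card (grp 276 ct_c25_K) :=
  Ch.le_card_grp (k := 9) (L := (lab 276 9)) hn ct_c25_K_ok (c := (Ch.cons (nat_lit 200) [nat_lit 1] (Ch.cons (nat_lit 237) [nat_lit 3] (Ch.cons (nat_lit 107) [nat_lit 5] (Ch.cons (nat_lit 144) [nat_lit 7] Ch.nil))))) (by decide +kernel)

theorem ct_c25_eq : (grp 276 tt_c4_K) ⊓ Subgroup.centralizer {Net.toPerm 276 g735} = grp 276 ct_c25_K :=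
  cent_eq ct_c25_sym ct_c25_cnt ct_c25_ge

theorem ct_c25_card : Nat.card ↥((grp 276 tt_c4_K) ⊓ Subgroup.centralizer {Net.toPerm 276 g735}) = 64 :=
  card_cent ct_c25_sym ct_c25_cnt ct_c25_ge

theorem ct_c25_ord : orderOf (Net.toPerm 276 g735) = 4 :=
  orderOf_net hn hk g735_ok (by decide) (ps := [2]) (by set_option linter.unusedSimpArgs false in simp [Nat.primeFactorsList_ofNat]) (by decide +kernel)

theorem le802 : grp 276 ct_c26_K ≤ grp 276 tt_c4_K :=
  grp_le_of_memB hn hk tt_c4_K_ok ct_c26_K_ok (ws := [nat_lit 1795, nat_lit 769, nat_lit 262401, nat_lit 771]) (by decide +kernel)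

theorem ct_c26_le : grp 276 ct_c26_K ≤ (grp 276 tt_c4_K) :=
  (le802.trans TC_s0.le)

theorem ct_c26_mem : Net.toPerm 276 g795 ∈ (grp 276 tt_c4_K) :=
  ct_c26_le (toPerm_mem_grp (E := ct_c26_K) (List.Mem.head _))

theorem ct_c26_sym : Sym 276 (grp 276 tt_c4_K) [g795] ct_c26_K 0 :=
  Sym.of_lab hn hk (okE_cons.2 ⟨g795_ok, okE_nil _⟩) ct_c26_K_ok ct_c26_le (kT := 0) (by decide +kernel)

noncomputable def ct_c26_cnt_L : List ℕ := [0, 15, TC_s0_O, 0, 0, 1, 20, TC_s6_O, 0, 0, 2, 7, TC_s7_O, 0, 0, 3, 10, TC_s8_O, 0, 0, 4, 12, TC_s9_O, 0, 0, 5, 9, TC_s10_O, 1, 0]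

theorem ct_c26_cnt_P : Prob 276 9 (grp 276 tt_c4_K) ct_c26_cnt_EG [g795] [g795] ct_c26_K ct_c26_cnt_L 0 0 :=
  Sym.prob hn hk ct_c26_sym ct_c26_cnt_EG_ok (grp_cons_le g444_TC (grp_cons_le g445_TC (grp_cons_le g446_TC (grp_cons_le g447_TC (grp_cons_le n_u_TC (grp_cons_le g697_TC (grp_cons_le g698_TC (grp_cons_le g548_TC (grp_nil_le _))))))))) (Frames.cons TC_s0_F (Frames.cons TC_s6_F (Frames.cons TC_s7_F (Frames.cons TC_s8_F (Frames.cons TC_s9_F (Frames.cons TC_s10_F Frames.nil)))))) (okE_cons.2 ⟨g795_ok, okE_nil _⟩) _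

noncomputable def ct_c26_cnt_t : BT := (BT.frm (nat_lit 0) (nat_lit 0) (nat_lit 0) [] (BT.pln (nat_lit 0) (nat_lit 9) (BT.br (nat_lit 0) (nat_lit 121) [nat_lit 1] (BT.kid (nat_lit 121) (nat_lit 16) (BT.pln (nat_lit 2) (nat_lit 10) (BT.br (nat_lit 0) (nat_lit 165) [nat_lit 3] (BT.kid (nat_lit 165) (nat_lit 4) (BT.pln (nat_lit 4) (nat_lit 3) (BT.img (nat_lit 1) (nat_lit 3) (BT.and (nat_lit 5) (nat_lit 0) (BT.frm (nat_lit 2) (nat_lit 0) (nat_lit 0) [nat_lit 0, nat_lit 5] (BT.pln (nat_lit 0) (nat_lit 3) (BT.dif (nat_lit 4) (nat_lit 0) (BT.frm (nat_lit 3) (nat_lit 0) (nat_lit 0) [nat_lit 6, nat_lit 3, nat_lit 8] (BT.pln (nat_lit 0) (nat_lit 4) (BT.dif (nat_lit 2) (nat_lit 0) (BT.br (nat_lit 0) (nat_lit 21) [nat_lit 5] (BT.kid (nat_lit 21) (nat_lit 2) (BT.frm (nat_lit 1) (nat_lit 0) (nat_lit 0) [nat_lit 12] (BT.pln (nat_lit 0) (nat_lit 3) (BT.img (nat_lit 1) (nat_lit 0) (BT.dif (nat_lit 0) (nat_lit 5) (BT.pln (nat_lit 7) (nat_lit 7) (BT.and (nat_lit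 1) (nat_lit 0) (BT.frm (nat_lit 4) (nat_lit 0) (nat_lit 0) [nat_lit 6, nat_lit 16, nat_lit 13, nat_lit 18] (BT.pln (nat_lit 0) (nat_lit 5) (BT.dif (nat_lit 2) (nat_lit 0) (BT.br (nat_lit 0) (nat_lit 246) [nat_lit 7] (BT.kid (nat_lit 246) (nat_lit 1) (BT.one (nat_lit 5) (nat_lit 0) (nat_lit 0) [nat_lit 0, nat_lit 10, nat_lit 20, nat_lit 17, nat_lit 22]) BT.nil))))))))))) BT.nil))))))))))) BT.nil))) BT.nil))))

theorem ct_c26_cnt : Cnt 276 (grp 276 tt_c4_K) [g795] [g795] 0 0 0 0 64 :=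
  BT.sound ct_c26_cnt_P Known.nil (t := ct_c26_cnt_t) (d := 0) (by decide +kernel)

theorem ct_c26_ge : 64 ≤ Nat.card (grp 276 ct_c26_K) :=
  Ch.le_card_grp (k := 9) (L := (lab 276 9)) hn ct_c26_K_ok (c := (Ch.cons (nat_lit 121) [nat_lit 1] (Ch.cons (nat_lit 165) [nat_lit 3] (Ch.cons (nat_lit 21) [nat_lit 5] (Ch.cons (nat_lit 246) [nat_lit 7] Ch.nil))))) (by decide +kernel)

theorem ct_c26_eq : (grp 276 tt_c4_K) ⊓ Subgroup.centralizer {Net.toPerm 276 g795} = grp 276 ct_c26_K :=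
  cent_eq ct_c26_sym ct_c26_cnt ct_c26_ge

theorem ct_c26_card : Nat.card ↥((grp 276 tt_c4_K) ⊓ Subgroup.centralizer {Net.toPerm 276 g795}) = 64 :=
  card_cent ct_c26_sym ct_c26_cnt ct_c26_ge

theorem ct_c26_ord : orderOf (Net.toPerm 276 g795) = 4 :=
  orderOf_net hn hk g795_ok (by decide) (ps := [2]) (by set_option linter.unusedSimpArgs false in simp [Nat.primeFactorsList_ofNat]) (by decide +kernel)

theorem le803 : grp 276 ct_c27_K ≤ grp 276 tt_c4_K :=
  grp_le_of_memB hn hk tt_c4_K_ok ct_c27_K_ok (ws := [nat_lit 591618, nat_lit 591620, nat_lit 4, nat_lit 771]) (by decide +kernel)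

theorem ct_c27_le : grp 276 ct_c27_K ≤ (grp 276 tt_c4_K) :=
  (le803.trans TC_s0.le)

theorem ct_c27_mem : Net.toPerm 276 g524 ∈ (grp 276 tt_c4_K) :=
  ct_c27_le (toPerm_mem_grp (E := ct_c27_K) (List.Mem.head _))

theorem ct_c27_sym : Sym 276 (grp 276 tt_c4_K) [g524] ct_c27_K 0 :=
  Sym.of_lab hn hk (okE_cons.2 ⟨g524_ok, okE_nil _⟩) ct_c27_K_ok ct_c27_le (kT := 0) (by decide +kernel)

noncomputable def ct_c27_cnt_L : List ℕ := [0, 15, TC_s0_O, 0, 0, 2, 7, TC_s11_O, 0, 0, 3, 10, TC_s12_O, 0, 0, 4, 12, TC_s13_O, 0, 0, 5, 9, TC_s14_O, 1, 0]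

theorem ct_c27_cnt_P : Prob 276 9 (grp 276 tt_c4_K) ct_c27_cnt_EG [g524] [g524] ct_c27_K ct_c27_cnt_L 0 0 :=
  Sym.prob hn hk ct_c27_sym ct_c27_cnt_EG_ok (grp_cons_le g445_TC (grp_cons_le g446_TC (grp_cons_le g447_TC (grp_cons_le n_u_TC (grp_cons_le g444_TC (grp_cons_le g716_TC (grp_cons_le g717_TC (grp_cons_le g548_TC (grp_nil_le _))))))))) (Frames.cons TC_s0_F (Frames.cons TC_s11_F (Frames.cons TC_s12_F (Frames.cons TC_s13_F (Frames.cons TC_s14_F Frames.nil))))) (okE_cons.2 ⟨g524_ok, okE_nil _⟩) _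

noncomputable def ct_c27_cnt_t : BT := (BT.frm (nat_lit 0) (nat_lit 0) (nat_lit 0) [] (BT.pln (nat_lit 0) (nat_lit 8) (BT.br (nat_lit 0) (nat_lit 220) [nat_lit 1] (BT.kid (nat_lit 220) (nat_lit 16) (BT.pln (nat_lit 2) (nat_lit 9) (BT.br (nat_lit 0) (nat_lit 121) [nat_lit 3] (BT.kid (nat_lit 121) (nat_lit 4) (BT.pln (nat_lit 4) (nat_lit 3) (BT.img (nat_lit 1) (nat_lit 3) (BT.and (nat_lit 5) (nat_lit 0) (BT.frm (nat_lit 1) (nat_lit 0) (nat_lit 0) [nat_lit 0, nat_lit 5] (BT.pln (nat_lit 0) (nat_lit 2) (BT.dif (nat_lit 4) (nat_lit 0) (BT.frm (nat_lit 2) (nat_lit 0) (nat_lit 0) [nat_lit 6, nat_lit 3, nat_lit 8] (BT.pln (nat_lit 0) (nat_lit 4) (BT.dif (nat_lit 2) (nat_lit 0) (BT.pln (nat_lit 2) (nat_lit 3) (BT.dif (nat_lit 1) (nat_lit 0) (BT.br (nat_lit 0) (nat_lit 210) [nat_lit 5] (BT.kid (nat_lit 210) (nat_lit 2) (BT.pln (nat_lit 5) (nat_lit 8) (BT.and (nat_lit 5) (nat_lit 0) (BT.dif (nat_lit 0) (nat_lit 9) (BT.pln (nat_lit 8) (nat_lit 6) (BT.dif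 (nat_lit 1) (nat_lit 0) (BT.pln (nat_lit 21) (nat_lit 0) (BT.dif (nat_lit 1) (nat_lit 0) (BT.frm (nat_lit 3) (nat_lit 0) (nat_lit 0) [nat_lit 7, nat_lit 19, nat_lit 16, nat_lit 21] (BT.pln (nat_lit 0) (nat_lit 5) (BT.dif (nat_lit 2) (nat_lit 0) (BT.br (nat_lit 0) (nat_lit 147) [nat_lit 7] (BT.kid (nat_lit 147) (nat_lit 1) (BT.one (nat_lit 4) (nat_lit 15) (nat_lit 15) [nat_lit 0, nat_lit 11, nat_lit 23, nat_lit 20, nat_lit 25]) BT.nil)))))))))))) BT.nil))))))))))))) BT.nil))) BT.nil))))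

theorem ct_c27_cnt : Cnt 276 (grp 276 tt_c4_K) [g524] [g524] 0 0 0 0 64 :=
  BT.sound ct_c27_cnt_P Known.nil (t := ct_c27_cnt_t) (d := 0) (by decide +kernel)

theorem ct_c27_ge : 64 ≤ Nat.card (grp 276 ct_c27_K) :=
  Ch.le_card_grp (k := 9) (L := (lab 276 9)) hn ct_c27_K_ok (c := (Ch.cons (nat_lit 220) [nat_lit 1] (Ch.cons (nat_lit 121) [nat_lit 3] (Ch.cons (nat_lit 210) [nat_lit 5] (Ch.cons (nat_lit 147) [nat_lit 7] Ch.nil))))) (by decide +kernel)

theorem ct_c27_eq : (grp 276 tt_c4_K) ⊓ Subgroup.centralizer {Net.toPerm 276 g524} = grp 276 ct_c27_K :=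
  cent_eq ct_c27_sym ct_c27_cnt ct_c27_ge

theorem ct_c27_card : Nat.card ↥((grp 276 tt_c4_K) ⊓ Subgroup.centralizer {Net.toPerm 276 g524}) = 64 :=
  card_cent ct_c27_sym ct_c27_cnt ct_c27_ge

theorem ct_c27_ord : orderOf (Net.toPerm 276 g524) = 4 :=
  orderOf_net hn hk g524_ok (by decide) (ps := [2]) (by set_option linter.unusedSimpArgs false in simp [Nat.primeFactorsList_ofNat]) (by decide +kernel)

theorem le805 : grp 276 ct_c28_K ≤ grp 276 tt_c4_K :=
  grp_le_of_memB hn hk tt_c4_K_ok ct_c28_K_ok (ws := [nat_lit 197377, nat_lit 0x9070303, nat_lit 2307, nat_lit 771]) (by decide +kernel)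

theorem ct_c28_le : grp 276 ct_c28_K ≤ (grp 276 tt_c4_K) :=
  (le805.trans TC_s0.le)

theorem ct_c28_mem : Net.toPerm 276 g804 ∈ (grp 276 tt_c4_K) :=
  ct_c28_le (toPerm_mem_grp (E := ct_c28_K) (List.Mem.head _))

theorem ct_c28_sym : Sym 276 (grp 276 tt_c4_K) [g804] ct_c28_K 0 :=
  Sym.of_lab hn hk (okE_cons.2 ⟨g804_ok, okE_nil _⟩) ct_c28_K_ok ct_c28_le (kT := 0) (by decide +kernel)

noncomputable def ct_c28_cnt_L : List ℕ := [0, 15, TC_s0_O, 0, 0, 2, 7, TC_s11_O, 0, 0, 3, 10, TC_s20_O, 0, 0, 4, 12, TC_s21_O, 0, 0, 5, 9, TC_s22_O, 1, 0]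

theorem ct_c28_cnt_P : Prob 276 9 (grp 276 tt_c4_K) ct_c28_cnt_EG [g804] [g804] ct_c28_K ct_c28_cnt_L 0 0 :=
  Sym.prob hn hk ct_c28_sym ct_c28_cnt_EG_ok (grp_cons_le g445_TC (grp_cons_le g446_TC (grp_cons_le g447_TC (grp_cons_le n_u_TC (grp_cons_le g444_TC (grp_cons_le g716_TC (grp_cons_le g717_TC (grp_cons_le g548_TC (grp_cons_le g684_TC (grp_nil_le _)))))))))) (Frames.cons TC_s0_F (Frames.cons TC_s11_F (Frames.cons TC_s20_F (Frames.cons TC_s21_F (Frames.cons TC_s22_F Frames.nil))))) (okE_cons.2 ⟨g804_ok, okE_nil _⟩) _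

noncomputable def ct_c28_cnt_t : BT := (BT.frm (nat_lit 0) (nat_lit 0) (nat_lit 0) [] (BT.pln (nat_lit 0) (nat_lit 8) (BT.br (nat_lit 0) (nat_lit 220) [nat_lit 1] (BT.kid (nat_lit 220) (nat_lit 16) (BT.pln (nat_lit 2) (nat_lit 10) (BT.br (nat_lit 0) (nat_lit 165) [nat_lit 3] (BT.kid (nat_lit 165) (nat_lit 4) (BT.pln (nat_lit 4) (nat_lit 3) (BT.img (nat_lit 1) (nat_lit 3) (BT.and (nat_lit 5) (nat_lit 0) (BT.frm (nat_lit 2) (nat_lit 3075) (nat_lit 3075) [nat_lit 3, nat_lit 0, nat_lit 5] (BT.pln (nat_lit 0) (nat_lit 5) (BT.dif (nat_lit 4) (nat_lit 0) (BT.frm (nat_lit 1) (nat_lit 3) (nat_lit 3) [nat_lit 3, nat_lit 8] (BT.pln (nat_lit 0) (nat_lit 2) (BT.dif (nat_lit 2) (nat_lit 0) (BT.br (nat_lit 0) (nat_lit 251) [nat_lit 5] (BT.kid (nat_lit 251) (nat_lit 2) (BT.pln (nat_lit 6) (nat_lit 8) (BT.and (nat_lit 6) (nat_lit 0) (BT.pln (nat_lit 8) (nat_lit 3) (BT.dif (nat_lit 1) (nat_lit 0) (BT.dif (nat_lit 0) (nat_lit 6) (BT.pln (nat_lit 8) (nat_lit 3) (BT.dif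 (nat_lit 1) (nat_lit 0) (BT.frm (nat_lit 3) (nat_lit 3075) (nat_lit 3075) [nat_lit 7, nat_lit 17, nat_lit 14, nat_lit 19] (BT.pln (nat_lit 0) (nat_lit 4) (BT.dif (nat_lit 2) (nat_lit 0) (BT.br (nat_lit 0) (nat_lit 243) [nat_lit 7] (BT.kid (nat_lit 243) (nat_lit 1) (BT.one (nat_lit 4) (nat_lit 986115) (nat_lit 986115) [nat_lit 0, nat_lit 11, nat_lit 21, nat_lit 18, nat_lit 23]) BT.nil)))))))))))) BT.nil))))))))))) BT.nil))) BT.nil))))

theorem ct_c28_cnt : Cnt 276 (grp 276 tt_c4_K) [g804] [g804] 0 0 0 0 64 :=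
  BT.sound ct_c28_cnt_P Known.nil (t := ct_c28_cnt_t) (d := 0) (by decide +kernel)

theorem ct_c28_ge : 64 ≤ Nat.card (grp 276 ct_c28_K) :=
  Ch.le_card_grp (k := 9) (L := (lab 276 9)) hn ct_c28_K_ok (c := (Ch.cons (nat_lit 220) [nat_lit 1] (Ch.cons (nat_lit 165) [nat_lit 3] (Ch.cons (nat_lit 251) [nat_lit 5] (Ch.cons (nat_lit 243) [nat_lit 7] Ch.nil))))) (by decide +kernel)

theorem ct_c28_eq : (grp 276 tt_c4_K) ⊓ Subgroup.centralizer {Net.toPerm 276 g804} = grp 276 ct_c28_K :=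
  cent_eq ct_c28_sym ct_c28_cnt ct_c28_ge

theorem ct_c28_card : Nat.card ↥((grp 276 tt_c4_K) ⊓ Subgroup.centralizer {Net.toPerm 276 g804}) = 64 :=
  card_cent ct_c28_sym ct_c28_cnt ct_c28_ge

theorem ct_c28_ord : orderOf (Net.toPerm 276 g804) = 4 :=
  orderOf_net hn hk g804_ok (by decide) (ps := [2]) (by set_option linter.unusedSimpArgs false in simp [Nat.primeFactorsList_ofNat]) (by decide +kernel)

theorem le806 : grp 276 ct_c29_K ≤ grp 276 tt_c4_K :=
  grp_le_of_memB hn hk tt_c4_K_ok ct_c29_K_ok (ws := [nat_lit 590593, nat_lit 0x9070303, nat_lit 2308, nat_lit 771]) (by decide +kernel)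

theorem ct_c29_le : grp 276 ct_c29_K ≤ (grp 276 tt_c4_K) :=
  (le806.trans TC_s0.le)

theorem ct_c29_mem : Net.toPerm 276 g546 ∈ (grp 276 tt_c4_K) :=
  ct_c29_le (toPerm_mem_grp (E := ct_c29_K) (List.Mem.head _))

theorem ct_c29_sym : Sym 276 (grp 276 tt_c4_K) [g546] ct_c29_K 0 :=
  Sym.of_lab hn hk (okE_cons.2 ⟨g546_ok, okE_nil _⟩) ct_c29_K_ok ct_c29_le (kT := 0) (by decide +kernel)

noncomputable def ct_c29_cnt_L : List ℕ := [0, 15, TC_s0_O, 0, 0, 2, 7, TC_s11_O, 0, 0, 3, 10, TC_s20_O, 0, 0, 4, 12, TC_s21_O, 0, 0, 5, 9, TC_s22_O, 1, 0]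

theorem ct_c29_cnt_P : Prob 276 9 (grp 276 tt_c4_K) ct_c29_cnt_EG [g546] [g546] ct_c29_K ct_c29_cnt_L 0 0 :=
  Sym.prob hn hk ct_c29_sym ct_c29_cnt_EG_ok (grp_cons_le g445_TC (grp_cons_le g446_TC (grp_cons_le g447_TC (grp_cons_le n_u_TC (grp_cons_le g444_TC (grp_cons_le g716_TC (grp_cons_le g717_TC (grp_cons_le g548_TC (grp_cons_le g684_TC (grp_nil_le _)))))))))) (Frames.cons TC_s0_F (Frames.cons TC_s11_F (Frames.cons TC_s20_F (Frames.cons TC_s21_F (Frames.cons TC_s22_F Frames.nil))))) (okE_cons.2 ⟨g546_ok, okE_nil _⟩) _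

noncomputable def ct_c29_cnt_t : BT := (BT.frm (nat_lit 0) (nat_lit 0) (nat_lit 0) [] (BT.pln (nat_lit 0) (nat_lit 8) (BT.br (nat_lit 0) (nat_lit 220) [nat_lit 1] (BT.kid (nat_lit 220) (nat_lit 16) (BT.pln (nat_lit 2) (nat_lit 10) (BT.br (nat_lit 0) (nat_lit 165) [nat_lit 3] (BT.kid (nat_lit 165) (nat_lit 4) (BT.pln (nat_lit 4) (nat_lit 3) (BT.img (nat_lit 1) (nat_lit 3) (BT.and (nat_lit 5) (nat_lit 0) (BT.frm (nat_lit 2) (nat_lit 3075) (nat_lit 3075) [nat_lit 3, nat_lit 0, nat_lit 5] (BT.pln (nat_lit 0) (nat_lit 5) (BT.dif (nat_lit 4) (nat_lit 0) (BT.frm (nat_lit 1) (nat_lit 3) (nat_lit 3) [nat_lit 3, nat_lit 8] (BT.pln (nat_lit 0) (nat_lit 2) (BT.dif (nat_lit 2) (nat_lit 0) (BT.br (nat_lit 0) (nat_lit 251) [nat_lit 5] (BT.kid (nat_lit 251) (nat_lit 2) (BT.pln (nat_lit 6) (nat_lit 8) (BT.and (nat_lit 6) (nat_lit 0) (BT.pln (nat_lit 8) (nat_lit 3) (BT.dif (nat_lit 1) (nat_lit 0) (BT.dif (nat_lit 0) (nat_lit 6) (BT.pln (nat_lit 8) (nat_lit 3) (BT.dif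 (nat_lit 1) (nat_lit 0) (BT.frm (nat_lit 3) (nat_lit 3075) (nat_lit 3075) [nat_lit 7, nat_lit 17, nat_lit 14, nat_lit 19] (BT.pln (nat_lit 0) (nat_lit 4) (BT.dif (nat_lit 2) (nat_lit 0) (BT.br (nat_lit 0) (nat_lit 243) [nat_lit 7] (BT.kid (nat_lit 243) (nat_lit 1) (BT.one (nat_lit 4) (nat_lit 986115) (nat_lit 986115) [nat_lit 0, nat_lit 11, nat_lit 21, nat_lit 18, nat_lit 23]) BT.nil)))))))))))) BT.nil))))))))))) BT.nil))) BT.nil))))

theorem ct_c29_cnt : Cnt 276 (grp 276 tt_c4_K) [g546] [g546] 0 0 0 0 64 :=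
  BT.sound ct_c29_cnt_P Known.nil (t := ct_c29_cnt_t) (d := 0) (by decide +kernel)

theorem ct_c29_ge : 64 ≤ Nat.card (grp 276 ct_c29_K) :=
  Ch.le_card_grp (k := 9) (L := (lab 276 9)) hn ct_c29_K_ok (c := (Ch.cons (nat_lit 220) [nat_lit 1] (Ch.cons (nat_lit 165) [nat_lit 3] (Ch.cons (nat_lit 251) [nat_lit 5] (Ch.cons (nat_lit 243) [nat_lit 7] Ch.nil))))) (by decide +kernel)

theorem ct_c29_eq : (grp 276 tt_c4_K) ⊓ Subgroup.centralizer {Net.toPerm 276 g546} = grp 276 ct_c29_K :=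
  cent_eq ct_c29_sym ct_c29_cnt ct_c29_ge

theorem ct_c29_card : Nat.card ↥((grp 276 tt_c4_K) ⊓ Subgroup.centralizer {Net.toPerm 276 g546}) = 64 :=
  card_cent ct_c29_sym ct_c29_cnt ct_c29_ge

theorem ct_c29_ord : orderOf (Net.toPerm 276 g546) = 4 :=
  orderOf_net hn hk g546_ok (by decide) (ps := [2]) (by set_option linter.unusedSimpArgs false in simp [Nat.primeFactorsList_ofNat]) (by decide +kernel)

theorem le808 : grp 276 ct_c30_K ≤ grp 276 tt_c4_K :=
  grp_le_of_memB hn hk tt_c4_K_ok ct_c30_K_ok (ws := [nat_lit 0x703030101, nat_lit 1026, nat_lit 196865, nat_lit 771]) (by decide +kernel)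

theorem ct_c30_le : grp 276 ct_c30_K ≤ (grp 276 tt_c4_K) :=
  (le808.trans TC_s0.le)

theorem ct_c30_mem : Net.toPerm 276 g522 ∈ (grp 276 tt_c4_K) :=
  ct_c30_le (toPerm_mem_grp (E := ct_c30_K) (List.Mem.head _))

theorem ct_c30_sym : Sym 276 (grp 276 tt_c4_K) [g522] ct_c30_K 0 :=
  Sym.of_lab hn hk (okE_cons.2 ⟨g522_ok, okE_nil _⟩) ct_c30_K_ok ct_c30_le (kT := 0) (by decide +kernel)

noncomputable def ct_c30_cnt_L : List ℕ := [0, 15, TC_s0_O, 0, 0, 1, 20, TC_s6_O, 0, 0, 2, 7, TC_s7_O, 0, 0, 3, 10, TC_s8_O, 0, 0, 4, 12, TC_s9_O, 0, 0, 5, 9, TC_s10_O, 1, 0]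

theorem ct_c30_cnt_P : Prob 276 9 (grp 276 tt_c4_K) ct_c30_cnt_EG [g522] [g522] ct_c30_K ct_c30_cnt_L 0 0 :=
  Sym.prob hn hk ct_c30_sym ct_c30_cnt_EG_ok (grp_cons_le g444_TC (grp_cons_le g445_TC (grp_cons_le g446_TC (grp_cons_le g447_TC (grp_cons_le n_u_TC (grp_cons_le g697_TC (grp_cons_le g698_TC (grp_cons_le g548_TC (grp_nil_le _))))))))) (Frames.cons TC_s0_F (Frames.cons TC_s6_F (Frames.cons TC_s7_F (Frames.cons TC_s8_F (Frames.cons TC_s9_F (Frames.cons TC_s10_F Frames.nil)))))) (okE_cons.2 ⟨g522_ok, okE_nil _⟩) _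

noncomputable def ct_c30_cnt_t : BT := (BT.frm (nat_lit 0) (nat_lit 0) (nat_lit 0) [] (BT.pln (nat_lit 0) (nat_lit 9) (BT.br (nat_lit 0) (nat_lit 121) [nat_lit 1] (BT.kid (nat_lit 121) (nat_lit 16) (BT.pln (nat_lit 2) (nat_lit 10) (BT.br (nat_lit 0) (nat_lit 165) [nat_lit 3] (BT.kid (nat_lit 165) (nat_lit 4) (BT.pln (nat_lit 4) (nat_lit 3) (BT.img (nat_lit 1) (nat_lit 3) (BT.and (nat_lit 5) (nat_lit 0) (BT.frm (nat_lit 2) (nat_lit 0) (nat_lit 0) [nat_lit 0, nat_lit 5] (BT.pln (nat_lit 0) (nat_lit 3) (BT.dif (nat_lit 4) (nat_lit 0) (BT.frm (nat_lit 3) (nat_lit 0) (nat_lit 0) [nat_lit 6, nat_lit 3, nat_lit 8] (BT.pln (nat_lit 0) (nat_lit 4) (BT.dif (nat_lit 2) (nat_lit 0) (BT.br (nat_lit 0) (nat_lit 21) [nat_lit 5] (BT.kid (nat_lit 21) (nat_lit 2) (BT.frm (nat_lit 1) (nat_lit 0) (nat_lit 0) [nat_lit 12] (BT.pln (nat_lit 0) (nat_lit 3) (BT.img (nat_lit 1) (nat_lit 0) (BT.dif (nat_lit 0) (nat_lit 5) (BT.pln (nat_lit 7) (nat_lit 7) (BT.and (nat_lit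 1) (nat_lit 0) (BT.frm (nat_lit 4) (nat_lit 0) (nat_lit 0) [nat_lit 6, nat_lit 16, nat_lit 13, nat_lit 18] (BT.pln (nat_lit 0) (nat_lit 5) (BT.dif (nat_lit 2) (nat_lit 0) (BT.br (nat_lit 0) (nat_lit 162) [nat_lit 7] (BT.kid (nat_lit 162) (nat_lit 1) (BT.one (nat_lit 5) (nat_lit 15) (nat_lit 15) [nat_lit 0, nat_lit 10, nat_lit 20, nat_lit 17, nat_lit 22]) BT.nil))))))))))) BT.nil))))))))))) BT.nil))) BT.nil))))

theorem ct_c30_cnt : Cnt 276 (grp 276 tt_c4_K) [g522] [g522] 0 0 0 0 64 :=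
  BT.sound ct_c30_cnt_P Known.nil (t := ct_c30_cnt_t) (d := 0) (by decide +kernel)

theorem ct_c30_ge : 64 ≤ Nat.card (grp 276 ct_c30_K) :=
  Ch.le_card_grp (k := 9) (L := (lab 276 9)) hn ct_c30_K_ok (c := (Ch.cons (nat_lit 121) [nat_lit 1] (Ch.cons (nat_lit 165) [nat_lit 3] (Ch.cons (nat_lit 21) [nat_lit 5] (Ch.cons (nat_lit 162) [nat_lit 7] Ch.nil))))) (by decide +kernel)

theorem ct_c30_eq : (grp 276 tt_c4_K) ⊓ Subgroup.centralizer {Net.toPerm 276 g522} = grp 276 ct_c30_K :=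
  cent_eq ct_c30_sym ct_c30_cnt ct_c30_ge

theorem ct_c30_card : Nat.card ↥((grp 276 tt_c4_K) ⊓ Subgroup.centralizer {Net.toPerm 276 g522}) = 64 :=
  card_cent ct_c30_sym ct_c30_cnt ct_c30_ge

theorem ct_c30_ord : orderOf (Net.toPerm 276 g522) = 4 :=
  orderOf_net hn hk g522_ok (by decide) (ps := [2]) (by set_option linter.unusedSimpArgs false in simp [Nat.primeFactorsList_ofNat]) (by decide +kernel)

theorem le810 : grp 276 ct_c31_K ≤ grp 276 tt_c4_K :=
  grp_le_of_memB hn hk tt_c4_K_ok ct_c31_K_ok (ws := [nat_lit 262401, nat_lit 591617, nat_lit 2305, nat_lit 257]) (by decide +kernel)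

theorem ct_c31_le : grp 276 ct_c31_K ≤ (grp 276 tt_c4_K) :=
  (le810.trans TC_s0.le)

theorem ct_c31_mem : Net.toPerm 276 g698 ∈ (grp 276 tt_c4_K) :=
  ct_c31_le (toPerm_mem_grp (E := ct_c31_K) (List.Mem.head _))

theorem ct_c31_sym : Sym 276 (grp 276 tt_c4_K) [g698] ct_c31_K 0 :=
  Sym.of_lab hn hk (okE_cons.2 ⟨g698_ok, okE_nil _⟩) ct_c31_K_ok ct_c31_le (kT := 0) (by decide +kernel)

noncomputable def ct_c31_cnt_L : List ℕ := [0, 15, TC_s0_O, 0, 0, 3, 10, TC_s17_O, 0, 0, 4, 12, TC_s18_O, 0, 0, 5, 9, TC_s19_O, 1, 0]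

theorem ct_c31_cnt_P : Prob 276 9 (grp 276 tt_c4_K) ct_c31_cnt_EG [g698] [g698] ct_c31_K ct_c31_cnt_L 0 0 :=
  Sym.prob hn hk ct_c31_sym ct_c31_cnt_EG_ok (grp_cons_le g524_TC (grp_cons_le g705_TC (grp_cons_le g491_TC (grp_cons_le g706_TC (grp_cons_le g444_TC (grp_cons_le g445_TC (grp_cons_le g446_TC (grp_cons_le g447_TC (grp_cons_le n_u_TC (grp_nil_le _)))))))))) (Frames.cons TC_s0_F (Frames.cons TC_s17_F (Frames.cons TC_s18_F (Frames.cons TC_s19_F Frames.nil)))) (okE_cons.2 ⟨g698_ok, okE_nil _⟩) _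

noncomputable def ct_c31_cnt_t : BT := (BT.frm (nat_lit 0) (nat_lit 0) (nat_lit 0) [] (BT.pln (nat_lit 0) (nat_lit 11) (BT.br (nat_lit 0) (nat_lit 200) [nat_lit 1] (BT.kid (nat_lit 200) (nat_lit 16) (BT.pln (nat_lit 2) (nat_lit 12) (BT.br (nat_lit 0) (nat_lit 237) [nat_lit 3] (BT.kid (nat_lit 237) (nat_lit 4) (BT.pln (nat_lit 4) (nat_lit 4) (BT.img (nat_lit 1) (nat_lit 3) (BT.and (nat_lit 5) (nat_lit 0) (BT.frm (nat_lit 1) (nat_lit 0) (nat_lit 0) [nat_lit 3, nat_lit 0, nat_lit 5] (BT.pln (nat_lit 0) (nat_lit 3) (BT.dif (nat_lit 4) (nat_lit 0) (BT.pln (nat_lit 2) (nat_lit 4) (BT.dif (nat_lit 1) (nat_lit 0) (BT.br (nat_lit 0) (nat_lit 95) [nat_lit 5] (BT.kid (nat_lit 95) (nat_lit 2) (BT.dif (nat_lit 2) (nat_lit 4) (BT.pln (nat_lit 6) (nat_lit 5) (BT.dif (nat_lit 1) (nat_lit 0) (BT.pln (nat_lit 8) (nat_lit 6) (BT.dif (nat_lit 1) (nat_lit 0) (BT.pln (nat_lit 10) (nat_lit 7) (BT.dif (nat_lit 1) (nat_lit 0) (BT.pln (nat_lit 12) (nat_lit 8) (BT.dif (nat_lit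 1) (nat_lit 0) (BT.dif (nat_lit 0) (nat_lit 17) (BT.frm (nat_lit 2) (nat_lit 0) (nat_lit 0) [nat_lit 10, nat_lit 19, nat_lit 16, nat_lit 21] (BT.pln (nat_lit 0) (nat_lit 4) (BT.dif (nat_lit 2) (nat_lit 0) (BT.br (nat_lit 0) (nat_lit 106) [nat_lit 7] (BT.kid (nat_lit 106) (nat_lit 1) (BT.one (nat_lit 3) (nat_lit 0) (nat_lit 0) [nat_lit 0, nat_lit 14, nat_lit 23, nat_lit 20, nat_lit 25]) BT.nil))))))))))))))) BT.nil)))))))))) BT.nil))) BT.nil))))

theorem ct_c31_cnt : Cnt 276 (grp 276 tt_c4_K) [g698] [g698] 0 0 0 0 64 :=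
  BT.sound ct_c31_cnt_P Known.nil (t := ct_c31_cnt_t) (d := 0) (by decide +kernel)

theorem ct_c31_ge : 64 ≤ Nat.card (grp 276 ct_c31_K) :=
  Ch.le_card_grp (k := 9) (L := (lab 276 9)) hn ct_c31_K_ok (c := (Ch.cons (nat_lit 200) [nat_lit 1] (Ch.cons (nat_lit 237) [nat_lit 3] (Ch.cons (nat_lit 95) [nat_lit 5] (Ch.cons (nat_lit 106) [nat_lit 7] Ch.nil))))) (by decide +kernel)

theorem ct_c31_eq : (grp 276 tt_c4_K) ⊓ Subgroup.centralizer {Net.toPerm 276 g698} = grp 276 ct_c31_K :=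
  cent_eq ct_c31_sym ct_c31_cnt ct_c31_ge

theorem ct_c31_card : Nat.card ↥((grp 276 tt_c4_K) ⊓ Subgroup.centralizer {Net.toPerm 276 g698}) = 64 :=
  card_cent ct_c31_sym ct_c31_cnt ct_c31_ge

theorem ct_c31_ord : orderOf (Net.toPerm 276 g698) = 4 :=
  orderOf_net hn hk g698_ok (by decide) (ps := [2]) (by set_option linter.unusedSimpArgs false in simp [Nat.primeFactorsList_ofNat]) (by decide +kernel)

theorem le812 : grp 276 ct_c32_K ≤ grp 276 tt_c4_K :=
  grp_le_of_memB hn hk tt_c4_K_ok ct_c32_K_ok (ws := [nat_lit 0x9070401, nat_lit 1796, nat_lit 3, nat_lit 771]) (by decide +kernel)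

theorem ct_c32_le : grp 276 ct_c32_K ≤ (grp 276 tt_c4_K) :=
  (le812.trans TC_s0.le)

theorem ct_c32_mem : Net.toPerm 276 g545 ∈ (grp 276 tt_c4_K) :=
  ct_c32_le (toPerm_mem_grp (E := ct_c32_K) (List.Mem.head _))

theorem ct_c32_sym : Sym 276 (grp 276 tt_c4_K) [g545] ct_c32_K 0 :=
  Sym.of_lab hn hk (okE_cons.2 ⟨g545_ok, okE_nil _⟩) ct_c32_K_ok ct_c32_le (kT := 0) (by decide +kernel)

noncomputable def ct_c32_cnt_L : List ℕ := [0, 15, TC_s0_O, 0, 0, 2, 7, TC_s11_O, 0, 0, 3, 10, TC_s12_O, 0, 0, 4, 12, TC_s13_O, 0, 0, 5, 9, TC_s14_O, 1, 0]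

theorem ct_c32_cnt_P : Prob 276 9 (grp 276 tt_c4_K) ct_c32_cnt_EG [g545] [g545] ct_c32_K ct_c32_cnt_L 0 0 :=
  Sym.prob hn hk ct_c32_sym ct_c32_cnt_EG_ok (grp_cons_le g445_TC (grp_cons_le g446_TC (grp_cons_le g447_TC (grp_cons_le n_u_TC (grp_cons_le g444_TC (grp_cons_le g716_TC (grp_cons_le g717_TC (grp_cons_le g548_TC (grp_nil_le _))))))))) (Frames.cons TC_s0_F (Frames.cons TC_s11_F (Frames.cons TC_s12_F (Frames.cons TC_s13_F (Frames.cons TC_s14_F Frames.nil))))) (okE_cons.2 ⟨g545_ok, okE_nil _⟩) _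

noncomputable def ct_c32_cnt_t : BT := (BT.frm (nat_lit 0) (nat_lit 0) (nat_lit 0) [] (BT.pln (nat_lit 0) (nat_lit 8) (BT.br (nat_lit 0) (nat_lit 220) [nat_lit 1] (BT.kid (nat_lit 220) (nat_lit 16) (BT.pln (nat_lit 2) (nat_lit 9) (BT.br (nat_lit 0) (nat_lit 121) [nat_lit 3] (BT.kid (nat_lit 121) (nat_lit 4) (BT.pln (nat_lit 4) (nat_lit 3) (BT.img (nat_lit 1) (nat_lit 3) (BT.and (nat_lit 5) (nat_lit 0) (BT.frm (nat_lit 1) (nat_lit 3) (nat_lit 3) [nat_lit 0, nat_lit 5] (BT.pln (nat_lit 0) (nat_lit 2) (BT.dif (nat_lit 4) (nat_lit 0) (BT.frm (nat_lit 2) (nat_lit 723715) (nat_lit 723715) [nat_lit 6, nat_lit 3, nat_lit 8] (BT.pln (nat_lit 0) (nat_lit 4) (BT.dif (nat_lit 2) (nat_lit 0) (BT.pln (nat_lit 2) (nat_lit 3) (BT.dif (nat_lit 1) (nat_lit 0) (BT.br (nat_lit 0) (nat_lit 21) [nat_lit 5] (BT.kid (nat_lit 21) (nat_lit 2) (BT.pln (nat_lit 5) (nat_lit 8) (BT.and (nat_lit 5) (nat_lit 0) (BT.dif (nat_lit 0) (nat_lit 9) (BT.pln (nat_lit 8) (nat_lit 6)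 (BT.dif (nat_lit 1) (nat_lit 0) (BT.pln (nat_lit 21) (nat_lit 0) (BT.dif (nat_lit 1) (nat_lit 0) (BT.frm (nat_lit 3) (nat_lit 723715) (nat_lit 723715) [nat_lit 7, nat_lit 19, nat_lit 16, nat_lit 21] (BT.pln (nat_lit 0) (nat_lit 5) (BT.dif (nat_lit 2) (nat_lit 0) (BT.br (nat_lit 0) (nat_lit 26) [nat_lit 7] (BT.kid (nat_lit 26) (nat_lit 1) (BT.one (nat_lit 4) (nat_lit 723715) (nat_lit 723715) [nat_lit 0, nat_lit 11, nat_lit 23, nat_lit 20, nat_lit 25]) BT.nil)))))))))))) BT.nil))))))))))))) BT.nil))) BT.nil))))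

theorem ct_c32_cnt : Cnt 276 (grp 276 tt_c4_K) [g545] [g545] 0 0 0 0 64 :=
  BT.sound ct_c32_cnt_P Known.nil (t := ct_c32_cnt_t) (d := 0) (by decide +kernel)

theorem ct_c32_ge : 64 ≤ Nat.card (grp 276 ct_c32_K) :=
  Ch.le_card_grp (k := 9) (L := (lab 276 9)) hn ct_c32_K_ok (c := (Ch.cons (nat_lit 220) [nat_lit 1] (Ch.cons (nat_lit 121) [nat_lit 3] (Ch.cons (nat_lit 21) [nat_lit 5] (Ch.cons (nat_lit 26) [nat_lit 7] Ch.nil))))) (by decide +kernel)

theorem ct_c32_eq : (grp 276 tt_c4_K) ⊓ Subgroup.centralizer {Net.toPerm 276 g545} = grp 276 ct_c32_K :=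
  cent_eq ct_c32_sym ct_c32_cnt ct_c32_ge

theorem ct_c32_card : Nat.card ↥((grp 276 tt_c4_K) ⊓ Subgroup.centralizer {Net.toPerm 276 g545}) = 64 :=
  card_cent ct_c32_sym ct_c32_cnt ct_c32_ge

theorem ct_c32_ord : orderOf (Net.toPerm 276 g545) = 4 :=
  orderOf_net hn hk g545_ok (by decide) (ps := [2]) (by set_option linter.unusedSimpArgs false in simp [Nat.primeFactorsList_ofNat]) (by decide +kernel)

theorem le813 : grp 276 ct_c33_K ≤ grp 276 tt_c4_K :=
  grp_le_of_memB hn hk tt_c4_K_ok ct_c33_K_ok (ws := [nat_lit 0x9030101, nat_lit 1794, nat_lit 2305, nat_lit 257]) (by decide +kernel)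

theorem ct_c33_le : grp 276 ct_c33_K ≤ (grp 276 tt_c4_K) :=
  (le813.trans TC_s0.le)

theorem ct_c33_mem : Net.toPerm 276 g544 ∈ (grp 276 tt_c4_K) :=
  ct_c33_le (toPerm_mem_grp (E := ct_c33_K) (List.Mem.head _))

theorem ct_c33_sym : Sym 276 (grp 276 tt_c4_K) [g544] ct_c33_K 0 :=
  Sym.of_lab hn hk (okE_cons.2 ⟨g544_ok, okE_nil _⟩) ct_c33_K_ok ct_c33_le (kT := 0) (by decide +kernel)

noncomputable def ct_c33_cnt_L : List ℕ := [0, 15, TC_s0_O, 0, 0, 3, 10, TC_s17_O, 0, 0, 4, 12, TC_s18_O, 0, 0, 5, 9, TC_s19_O, 1, 0]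

theorem ct_c33_cnt_P : Prob 276 9 (grp 276 tt_c4_K) ct_c33_cnt_EG [g544] [g544] ct_c33_K ct_c33_cnt_L 0 0 :=
  Sym.prob hn hk ct_c33_sym ct_c33_cnt_EG_ok (grp_cons_le g524_TC (grp_cons_le g705_TC (grp_cons_le g491_TC (grp_cons_le g706_TC (grp_cons_le g444_TC (grp_cons_le g445_TC (grp_cons_le g446_TC (grp_cons_le g447_TC (grp_cons_le n_u_TC (grp_nil_le _)))))))))) (Frames.cons TC_s0_F (Frames.cons TC_s17_F (Frames.cons TC_s18_F (Frames.cons TC_s19_F Frames.nil)))) (okE_cons.2 ⟨g544_ok, okE_nil _⟩) _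

noncomputable def ct_c33_cnt_t : BT := (BT.frm (nat_lit 0) (nat_lit 0) (nat_lit 0) [] (BT.pln (nat_lit 0) (nat_lit 11) (BT.br (nat_lit 0) (nat_lit 200) [nat_lit 1] (BT.kid (nat_lit 200) (nat_lit 16) (BT.pln (nat_lit 2) (nat_lit 12) (BT.br (nat_lit 0) (nat_lit 237) [nat_lit 3] (BT.kid (nat_lit 237) (nat_lit 4) (BT.pln (nat_lit 4) (nat_lit 4) (BT.img (nat_lit 1) (nat_lit 3) (BT.and (nat_lit 5) (nat_lit 0) (BT.frm (nat_lit 1) (nat_lit 65799) (nat_lit 65799) [nat_lit 3, nat_lit 0, nat_lit 5] (BT.pln (nat_lit 0) (nat_lit 3) (BT.dif (nat_lit 4) (nat_lit 0) (BT.pln (nat_lit 2) (nat_lit 4) (BT.dif (nat_lit 1) (nat_lit 0) (BT.br (nat_lit 0) (nat_lit 107) [nat_lit 5] (BT.kid (nat_lit 107) (nat_lit 2) (BT.dif (nat_lit 2) (nat_lit 4) (BT.pln (nat_lit 6) (nat_lit 5) (BT.dif (nat_lit 1) (nat_lit 0) (BT.pln (nat_lit 8) (nat_lit 6) (BT.dif (nat_lit 1) (nat_lit 0) (BT.pln (nat_lit 10) (nat_lit 7) (BT.dif (nat_lit 1) (nat_lit 0) (BT.pln (nat_lit 12) (nat_lit 8)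 (BT.dif (nat_lit 1) (nat_lit 0) (BT.dif (nat_lit 0) (nat_lit 17) (BT.frm (nat_lit 2) (nat_lit 65799) (nat_lit 65799) [nat_lit 10, nat_lit 19, nat_lit 16, nat_lit 21] (BT.pln (nat_lit 0) (nat_lit 4) (BT.dif (nat_lit 2) (nat_lit 0) (BT.br (nat_lit 0) (nat_lit 144) [nat_lit 7] (BT.kid (nat_lit 144) (nat_lit 1) (BT.one (nat_lit 3) (nat_lit 0x5010107) (nat_lit 0x5010107) [nat_lit 0, nat_lit 14, nat_lit 23, nat_lit 20, nat_lit 25]) BT.nil))))))))))))))) BT.nil)))))))))) BT.nil))) BT.nil))))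

theorem ct_c33_cnt : Cnt 276 (grp 276 tt_c4_K) [g544] [g544] 0 0 0 0 64 :=
  BT.sound ct_c33_cnt_P Known.nil (t := ct_c33_cnt_t) (d := 0) (by decide +kernel)

theorem ct_c33_ge : 64 ≤ Nat.card (grp 276 ct_c33_K) :=
  Ch.le_card_grp (k := 9) (L := (lab 276 9)) hn ct_c33_K_ok (c := (Ch.cons (nat_lit 200) [nat_lit 1] (Ch.cons (nat_lit 237) [nat_lit 3] (Ch.cons (nat_lit 107) [nat_lit 5] (Ch.cons (nat_lit 144) [nat_lit 7] Ch.nil))))) (by decide +kernel)

theorem ct_c33_eq : (grp 276 tt_c4_K) ⊓ Subgroup.centralizer {Net.toPerm 276 g544} = grp 276 ct_c33_K :=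
  cent_eq ct_c33_sym ct_c33_cnt ct_c33_ge

theorem ct_c33_card : Nat.card ↥((grp 276 tt_c4_K) ⊓ Subgroup.centralizer {Net.toPerm 276 g544}) = 64 :=
  card_cent ct_c33_sym ct_c33_cnt ct_c33_ge

theorem ct_c33_ord : orderOf (Net.toPerm 276 g544) = 4 :=
  orderOf_net hn hk g544_ok (by decide) (ps := [2]) (by set_option linter.unusedSimpArgs false in simp [Nat.primeFactorsList_ofNat]) (by decide +kernel)

theorem le814 : grp 276 ct_c34_K ≤ grp 276 tt_c4_K :=
  grp_le_of_memB hn hk tt_c4_K_ok ct_c34_K_ok (ws := [nat_lit 1, nat_lit 2311, nat_lit 2307, nat_lit 771]) (by decide +kernel)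

theorem ct_c34_le : grp 276 ct_c34_K ≤ (grp 276 tt_c4_K) :=
  (le814.trans TC_s0.le)

theorem ct_c34_mem : Net.toPerm 276 g444 ∈ (grp 276 tt_c4_K) :=
  ct_c34_le (toPerm_mem_grp (E := ct_c34_K) (List.Mem.head _))

theorem ct_c34_sym : Sym 276 (grp 276 tt_c4_K) [g444] ct_c34_K 0 :=
  Sym.of_lab hn hk (okE_cons.2 ⟨g444_ok, okE_nil _⟩) ct_c34_K_ok ct_c34_le (kT := 0) (by decide +kernel)

noncomputable def ct_c34_cnt_L : List ℕ := [0, 15, TC_s0_O, 0, 0, 2, 7, TC_s11_O, 0, 0, 3, 10, TC_s20_O, 0, 0, 4, 12, TC_s21_O, 0, 0, 5, 9, TC_s22_O, 1, 0]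

theorem ct_c34_cnt_P : Prob 276 9 (grp 276 tt_c4_K) ct_c34_cnt_EG [g444] [g444] ct_c34_K ct_c34_cnt_L 0 0 :=
  Sym.prob hn hk ct_c34_sym ct_c34_cnt_EG_ok (grp_cons_le g445_TC (grp_cons_le g446_TC (grp_cons_le g447_TC (grp_cons_le n_u_TC (grp_cons_le g444_TC (grp_cons_le g716_TC (grp_cons_le g717_TC (grp_cons_le g548_TC (grp_cons_le g684_TC (grp_nil_le _)))))))))) (Frames.cons TC_s0_F (Frames.cons TC_s11_F (Frames.cons TC_s20_F (Frames.cons TC_s21_F (Frames.cons TC_s22_F Frames.nil))))) (okE_cons.2 ⟨g444_ok, okE_nil _⟩) _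

noncomputable def ct_c34_cnt_t : BT := (BT.frm (nat_lit 0) (nat_lit 0) (nat_lit 0) [] (BT.pln (nat_lit 0) (nat_lit 8) (BT.br (nat_lit 0) (nat_lit 220) [nat_lit 1] (BT.kid (nat_lit 220) (nat_lit 16) (BT.pln (nat_lit 2) (nat_lit 10) (BT.br (nat_lit 0) (nat_lit 165) [nat_lit 3] (BT.kid (nat_lit 165) (nat_lit 4) (BT.pln (nat_lit 4) (nat_lit 3) (BT.img (nat_lit 1) (nat_lit 3) (BT.and (nat_lit 5) (nat_lit 0) (BT.frm (nat_lit 2) (nat_lit 3075) (nat_lit 3075) [nat_lit 3, nat_lit 0, nat_lit 5] (BT.pln (nat_lit 0) (nat_lit 5) (BT.dif (nat_lit 4) (nat_lit 0) (BT.frm (nat_lit 1) (nat_lit 3) (nat_lit 3) [nat_lit 3, nat_lit 8] (BT.pln (nat_lit 0) (nat_lit 2) (BT.dif (nat_lit 2) (nat_lit 0) (BT.br (nat_lit 0) (nat_lit 251) [nat_lit 5] (BT.kid (nat_lit 251) (nat_lit 2) (BT.pln (nat_lit 6) (nat_lit 8) (BT.and (nat_lit 6) (nat_lit 0) (BT.pln (nat_lit 8) (nat_lit 3) (BT.dif (nat_lit 1) (nat_lit 0) (BT.dif (nat_lit 0) (nat_lit 6) (BT.pln (nat_lit 8) (nat_lit 3) (BT.dif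 (nat_lit 1) (nat_lit 0) (BT.frm (nat_lit 3) (nat_lit 3075) (nat_lit 3075) [nat_lit 7, nat_lit 17, nat_lit 14, nat_lit 19] (BT.pln (nat_lit 0) (nat_lit 4) (BT.dif (nat_lit 2) (nat_lit 0) (BT.br (nat_lit 0) (nat_lit 243) [nat_lit 7] (BT.kid (nat_lit 243) (nat_lit 1) (BT.one (nat_lit 4) (nat_lit 986115) (nat_lit 986115) [nat_lit 0, nat_lit 11, nat_lit 21, nat_lit 18, nat_lit 23]) BT.nil)))))))))))) BT.nil))))))))))) BT.nil))) BT.nil))))

theorem ct_c34_cnt : Cnt 276 (grp 276 tt_c4_K) [g444] [g444] 0 0 0 0 64 :=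
  BT.sound ct_c34_cnt_P Known.nil (t := ct_c34_cnt_t) (d := 0) (by decide +kernel)

theorem ct_c34_ge : 64 ≤ Nat.card (grp 276 ct_c34_K) :=
  Ch.le_card_grp (k := 9) (L := (lab 276 9)) hn ct_c34_K_ok (c := (Ch.cons (nat_lit 220) [nat_lit 1] (Ch.cons (nat_lit 165) [nat_lit 3] (Ch.cons (nat_lit 251) [nat_lit 5] (Ch.cons (nat_lit 243) [nat_lit 7] Ch.nil))))) (by decide +kernel)

theorem ct_c34_eq : (grp 276 tt_c4_K) ⊓ Subgroup.centralizer {Net.toPerm 276 g444} = grp 276 ct_c34_K :=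
  cent_eq ct_c34_sym ct_c34_cnt ct_c34_ge

theorem ct_c34_card : Nat.card ↥((grp 276 tt_c4_K) ⊓ Subgroup.centralizer {Net.toPerm 276 g444}) = 64 :=
  card_cent ct_c34_sym ct_c34_cnt ct_c34_ge

theorem ct_c34_ord : orderOf (Net.toPerm 276 g444) = 4 :=
  orderOf_net hn hk g444_ok (by decide) (ps := [2]) (by set_option linter.unusedSimpArgs false in simp [Nat.primeFactorsList_ofNat]) (by decide +kernel)

theorem le815 : grp 276 ct_c35_K ≤ grp 276 tt_c4_K :=
  grp_le_of_memB hn hk tt_c4_K_ok ct_c35_K_ok (ws := [nat_lit 2311, nat_lit 770, nat_lit 196865, nat_lit 771]) (by decide +kernel)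

theorem ct_c35_le : grp 276 ct_c35_K ≤ (grp 276 tt_c4_K) :=
  (le815.trans TC_s0.le)

theorem ct_c35_mem : Net.toPerm 276 g526 ∈ (grp 276 tt_c4_K) :=
  ct_c35_le (toPerm_mem_grp (E := ct_c35_K) (List.Mem.head _))

theorem ct_c35_sym : Sym 276 (grp 276 tt_c4_K) [g526] ct_c35_K 0 :=
  Sym.of_lab hn hk (okE_cons.2 ⟨g526_ok, okE_nil _⟩) ct_c35_K_ok ct_c35_le (kT := 0) (by decide +kernel)

noncomputable def ct_c35_cnt_L : List ℕ := [0, 15, TC_s0_O, 0, 0, 1, 20, TC_s6_O, 0, 0, 2, 7, TC_s7_O, 0, 0, 3, 10, TC_s8_O, 0, 0, 4, 12, TC_s9_O, 0, 0, 5, 9, TC_s10_O, 1, 0]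

theorem ct_c35_cnt_P : Prob 276 9 (grp 276 tt_c4_K) ct_c35_cnt_EG [g526] [g526] ct_c35_K ct_c35_cnt_L 0 0 :=
  Sym.prob hn hk ct_c35_sym ct_c35_cnt_EG_ok (grp_cons_le g444_TC (grp_cons_le g445_TC (grp_cons_le g446_TC (grp_cons_le g447_TC (grp_cons_le n_u_TC (grp_cons_le g697_TC (grp_cons_le g698_TC (grp_cons_le g548_TC (grp_nil_le _))))))))) (Frames.cons TC_s0_F (Frames.cons TC_s6_F (Frames.cons TC_s7_F (Frames.cons TC_s8_F (Frames.cons TC_s9_F (Frames.cons TC_s10_F Frames.nil)))))) (okE_cons.2 ⟨g526_ok, okE_nil _⟩) _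

noncomputable def ct_c35_cnt_t : BT := (BT.frm (nat_lit 0) (nat_lit 0) (nat_lit 0) [] (BT.pln (nat_lit 0) (nat_lit 9) (BT.br (nat_lit 0) (nat_lit 121) [nat_lit 1] (BT.kid (nat_lit 121) (nat_lit 16) (BT.pln (nat_lit 2) (nat_lit 10) (BT.br (nat_lit 0) (nat_lit 165) [nat_lit 3] (BT.kid (nat_lit 165) (nat_lit 4) (BT.pln (nat_lit 4) (nat_lit 3) (BT.img (nat_lit 1) (nat_lit 3) (BT.and (nat_lit 5) (nat_lit 0) (BT.frm (nat_lit 2) (nat_lit 11) (nat_lit 11) [nat_lit 0, nat_lit 5] (BT.pln (nat_lit 0) (nat_lit 3) (BT.dif (nat_lit 4) (nat_lit 0) (BT.frm (nat_lit 3) (nat_lit 523) (nat_lit 523) [nat_lit 6, nat_lit 3, nat_lit 8] (BT.pln (nat_lit 0) (nat_lit 4) (BT.dif (nat_lit 2) (nat_lit 0) (BT.br (nat_lit 0) (nat_lit 251) [nat_lit 5] (BT.kid (nat_lit 251) (nat_lit 2) (BT.frm (nat_lit 1) (nat_lit 0) (nat_lit 0) [nat_lit 12] (BT.pln (nat_lit 0) (nat_lit 3) (BT.img (nat_lit 1) (nat_lit 0) (BT.dif (nat_lit 0) (nat_lit 5) (BT.pln (nat_lit 7) (nat_lit 7) (BT.and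 (nat_lit 1) (nat_lit 0) (BT.frm (nat_lit 4) (nat_lit 523) (nat_lit 523) [nat_lit 6, nat_lit 16, nat_lit 13, nat_lit 18] (BT.pln (nat_lit 0) (nat_lit 5) (BT.dif (nat_lit 2) (nat_lit 0) (BT.br (nat_lit 0) (nat_lit 142) [nat_lit 7] (BT.kid (nat_lit 142) (nat_lit 1) (BT.one (nat_lit 5) (nat_lit 983563) (nat_lit 983563) [nat_lit 0, nat_lit 10, nat_lit 20, nat_lit 17, nat_lit 22]) BT.nil))))))))))) BT.nil))))))))))) BT.nil))) BT.nil))))

theorem ct_c35_cnt : Cnt 276 (grp 276 tt_c4_K) [g526] [g526] 0 0 0 0 64 :=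
  BT.sound ct_c35_cnt_P Known.nil (t := ct_c35_cnt_t) (d := 0) (by decide +kernel)

theorem ct_c35_ge : 64 ≤ Nat.card (grp 276 ct_c35_K) :=
  Ch.le_card_grp (k := 9) (L := (lab 276 9)) hn ct_c35_K_ok (c := (Ch.cons (nat_lit 121) [nat_lit 1] (Ch.cons (nat_lit 165) [nat_lit 3] (Ch.cons (nat_lit 251) [nat_lit 5] (Ch.cons (nat_lit 142) [nat_lit 7] Ch.nil))))) (by decide +kernel)

theorem ct_c35_eq : (grp 276 tt_c4_K) ⊓ Subgroup.centralizer {Net.toPerm 276 g526} = grp 276 ct_c35_K :=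
  cent_eq ct_c35_sym ct_c35_cnt ct_c35_ge

theorem ct_c35_card : Nat.card ↥((grp 276 tt_c4_K) ⊓ Subgroup.centralizer {Net.toPerm 276 g526}) = 64 :=
  card_cent ct_c35_sym ct_c35_cnt ct_c35_ge

theorem ct_c35_ord : orderOf (Net.toPerm 276 g526) = 4 :=
  orderOf_net hn hk g526_ok (by decide) (ps := [2]) (by set_option linter.unusedSimpArgs false in simp [Nat.primeFactorsList_ofNat]) (by decide +kernel)

theorem le816 : grp 276 ct_c36_K ≤ grp 276 tt_c4_K :=
  grp_le_of_memB hn hk tt_c4_K_ok ct_c36_K_ok (ws := [nat_lit 1794, nat_lit 591619, nat_lit 3, nat_lit 771]) (by decide +kernel)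

theorem ct_c36_le : grp 276 ct_c36_K ≤ (grp 276 tt_c4_K) :=
  (le816.trans TC_s0.le)

theorem ct_c36_mem : Net.toPerm 276 g733 ∈ (grp 276 tt_c4_K) :=
  ct_c36_le (toPerm_mem_grp (E := ct_c36_K) (List.Mem.head _))

theorem ct_c36_sym : Sym 276 (grp 276 tt_c4_K) [g733] ct_c36_K 0 :=
  Sym.of_lab hn hk (okE_cons.2 ⟨g733_ok, okE_nil _⟩) ct_c36_K_ok ct_c36_le (kT := 0) (by decide +kernel)

noncomputable def ct_c36_cnt_L : List ℕ := [0, 15, TC_s0_O, 0, 0, 2, 7, TC_s11_O, 0, 0, 3, 10, TC_s12_O, 0, 0, 4, 12, TC_s13_O, 0, 0, 5, 9, TC_s14_O, 1, 0]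

theorem ct_c36_cnt_P : Prob 276 9 (grp 276 tt_c4_K) ct_c36_cnt_EG [g733] [g733] ct_c36_K ct_c36_cnt_L 0 0 :=
  Sym.prob hn hk ct_c36_sym ct_c36_cnt_EG_ok (grp_cons_le g445_TC (grp_cons_le g446_TC (grp_cons_le g447_TC (grp_cons_le n_u_TC (grp_cons_le g444_TC (grp_cons_le g716_TC (grp_cons_le g717_TC (grp_cons_le g548_TC (grp_nil_le _))))))))) (Frames.cons TC_s0_F (Frames.cons TC_s11_F (Frames.cons TC_s12_F (Frames.cons TC_s13_F (Frames.cons TC_s14_F Frames.nil))))) (okE_cons.2 ⟨g733_ok, okE_nil _⟩) _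

noncomputable def ct_c36_cnt_t : BT := (BT.frm (nat_lit 0) (nat_lit 0) (nat_lit 0) [] (BT.pln (nat_lit 0) (nat_lit 8) (BT.br (nat_lit 0) (nat_lit 220) [nat_lit 1] (BT.kid (nat_lit 220) (nat_lit 16) (BT.pln (nat_lit 2) (nat_lit 9) (BT.br (nat_lit 0) (nat_lit 121) [nat_lit 3] (BT.kid (nat_lit 121) (nat_lit 4) (BT.pln (nat_lit 4) (nat_lit 3) (BT.img (nat_lit 1) (nat_lit 3) (BT.and (nat_lit 5) (nat_lit 0) (BT.frm (nat_lit 1) (nat_lit 0) (nat_lit 0) [nat_lit 0, nat_lit 5] (BT.pln (nat_lit 0) (nat_lit 2) (BT.dif (nat_lit 4) (nat_lit 0) (BT.frm (nat_lit 2) (nat_lit 0) (nat_lit 0) [nat_lit 6, nat_lit 3, nat_lit 8] (BT.pln (nat_lit 0) (nat_lit 4) (BT.dif (nat_lit 2) (nat_lit 0) (BT.pln (nat_lit 2) (nat_lit 3) (BT.dif (nat_lit 1) (nat_lit 0) (BT.br (nat_lit 0) (nat_lit 210) [nat_lit 5] (BT.kid (nat_lit 210) (nat_lit 2) (BT.pln (nat_lit 5) (nat_lit 8) (BT.and (nat_lit 5) (nat_lit 0) (BT.dif (nat_lit 0) (nat_lit 9) (BT.pln (nat_lit 8) (nat_lit 6) (BT.dif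 (nat_lit 1) (nat_lit 0) (BT.pln (nat_lit 21) (nat_lit 0) (BT.dif (nat_lit 1) (nat_lit 0) (BT.frm (nat_lit 3) (nat_lit 0) (nat_lit 0) [nat_lit 7, nat_lit 19, nat_lit 16, nat_lit 21] (BT.pln (nat_lit 0) (nat_lit 5) (BT.dif (nat_lit 2) (nat_lit 0) (BT.br (nat_lit 0) (nat_lit 66) [nat_lit 7] (BT.kid (nat_lit 66) (nat_lit 1) (BT.one (nat_lit 4) (nat_lit 0) (nat_lit 0) [nat_lit 0, nat_lit 11, nat_lit 23, nat_lit 20, nat_lit 25]) BT.nil)))))))))))) BT.nil))))))))))))) BT.nil))) BT.nil))))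

theorem ct_c36_cnt : Cnt 276 (grp 276 tt_c4_K) [g733] [g733] 0 0 0 0 64 :=
  BT.sound ct_c36_cnt_P Known.nil (t := ct_c36_cnt_t) (d := 0) (by decide +kernel)

theorem ct_c36_ge : 64 ≤ Nat.card (grp 276 ct_c36_K) :=
  Ch.le_card_grp (k := 9) (L := (lab 276 9)) hn ct_c36_K_ok (c := (Ch.cons (nat_lit 220) [nat_lit 1] (Ch.cons (nat_lit 121) [nat_lit 3] (Ch.cons (nat_lit 210) [nat_lit 5] (Ch.cons (nat_lit 66) [nat_lit 7] Ch.nil))))) (by decide +kernel)

theorem ct_c36_eq : (grp 276 tt_c4_K) ⊓ Subgroup.centralizer {Net.toPerm 276 g733} = grp 276 ct_c36_K :=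
  cent_eq ct_c36_sym ct_c36_cnt ct_c36_ge

theorem ct_c36_card : Nat.card ↥((grp 276 tt_c4_K) ⊓ Subgroup.centralizer {Net.toPerm 276 g733}) = 64 :=
  card_cent ct_c36_sym ct_c36_cnt ct_c36_ge

theorem ct_c36_ord : orderOf (Net.toPerm 276 g733) = 4 :=
  orderOf_net hn hk g733_ok (by decide) (ps := [2]) (by set_option linter.unusedSimpArgs false in simp [Nat.primeFactorsList_ofNat]) (by decide +kernel)

theorem le818 : grp 276 ct_c37_K ≤ grp 276 tt_c4_K :=
  grp_le_of_memB hn hk tt_c4_K_ok ct_c37_K_ok (ws := [nat_lit 0x907030101, nat_lit 1025, nat_lit 196865, nat_lit 771]) (by decide +kernel)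

theorem ct_c37_le : grp 276 ct_c37_K ≤ (grp 276 tt_c4_K) :=
  (le818.trans TC_s0.le)

theorem ct_c37_mem : Net.toPerm 276 g817 ∈ (grp 276 tt_c4_K) :=
  ct_c37_le (toPerm_mem_grp (E := ct_c37_K) (List.Mem.head _))

theorem ct_c37_sym : Sym 276 (grp 276 tt_c4_K) [g817] ct_c37_K 0 :=
  Sym.of_lab hn hk (okE_cons.2 ⟨g817_ok, okE_nil _⟩) ct_c37_K_ok ct_c37_le (kT := 0) (by decide +kernel)

noncomputable def ct_c37_cnt_L : List ℕ := [0, 15, TC_s0_O, 0, 0, 1, 20, TC_s6_O, 0, 0, 2, 7, TC_s7_O, 0, 0, 3, 10, TC_s8_O, 0, 0, 4, 12, TC_s9_O, 0, 0, 5, 9, TC_s10_O, 1, 0]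

theorem ct_c37_cnt_P : Prob 276 9 (grp 276 tt_c4_K) ct_c37_cnt_EG [g817] [g817] ct_c37_K ct_c37_cnt_L 0 0 :=
  Sym.prob hn hk ct_c37_sym ct_c37_cnt_EG_ok (grp_cons_le g444_TC (grp_cons_le g445_TC (grp_cons_le g446_TC (grp_cons_le g447_TC (grp_cons_le n_u_TC (grp_cons_le g697_TC (grp_cons_le g698_TC (grp_cons_le g548_TC (grp_nil_le _))))))))) (Frames.cons TC_s0_F (Frames.cons TC_s6_F (Frames.cons TC_s7_F (Frames.cons TC_s8_F (Frames.cons TC_s9_F (Frames.cons TC_s10_F Frames.nil)))))) (okE_cons.2 ⟨g817_ok, okE_nil _⟩) _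

noncomputable def ct_c37_cnt_t : BT := (BT.frm (nat_lit 0) (nat_lit 0) (nat_lit 0) [] (BT.pln (nat_lit 0) (nat_lit 9) (BT.br (nat_lit 0) (nat_lit 121) [nat_lit 1] (BT.kid (nat_lit 121) (nat_lit 16) (BT.pln (nat_lit 2) (nat_lit 10) (BT.br (nat_lit 0) (nat_lit 165) [nat_lit 3] (BT.kid (nat_lit 165) (nat_lit 4) (BT.pln (nat_lit 4) (nat_lit 3) (BT.img (nat_lit 1) (nat_lit 3) (BT.and (nat_lit 5) (nat_lit 0) (BT.frm (nat_lit 2) (nat_lit 11) (nat_lit 11) [nat_lit 0, nat_lit 5] (BT.pln (nat_lit 0) (nat_lit 3) (BT.dif (nat_lit 4) (nat_lit 0) (BT.frm (nat_lit 3) (nat_lit 523) (nat_lit 523) [nat_lit 6, nat_lit 3, nat_lit 8] (BT.pln (nat_lit 0) (nat_lit 4) (BT.dif (nat_lit 2) (nat_lit 0) (BT.br (nat_lit 0) (nat_lit 251) [nat_lit 5] (BT.kid (nat_lit 251) (nat_lit 2) (BT.frm (nat_lit 1) (nat_lit 0) (nat_lit 0) [nat_lit 12] (BT.pln (nat_lit 0) (nat_lit 3) (BT.img (nat_lit 1) (nat_lit 0) (BT.dif (nat_lit 0) (nat_lit 5) (BT.pln (nat_lit 7) (nat_lit 7) (BT.and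 (nat_lit 1) (nat_lit 0) (BT.frm (nat_lit 4) (nat_lit 523) (nat_lit 523) [nat_lit 6, nat_lit 16, nat_lit 13, nat_lit 18] (BT.pln (nat_lit 0) (nat_lit 5) (BT.dif (nat_lit 2) (nat_lit 0) (BT.br (nat_lit 0) (nat_lit 142) [nat_lit 7] (BT.kid (nat_lit 142) (nat_lit 1) (BT.one (nat_lit 5) (nat_lit 983563) (nat_lit 983563) [nat_lit 0, nat_lit 10, nat_lit 20, nat_lit 17, nat_lit 22]) BT.nil))))))))))) BT.nil))))))))))) BT.nil))) BT.nil))))

theorem ct_c37_cnt : Cnt 276 (grp 276 tt_c4_K) [g817] [g817] 0 0 0 0 64 :=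
  BT.sound ct_c37_cnt_P Known.nil (t := ct_c37_cnt_t) (d := 0) (by decide +kernel)

theorem ct_c37_ge : 64 ≤ Nat.card (grp 276 ct_c37_K) :=
  Ch.le_card_grp (k := 9) (L := (lab 276 9)) hn ct_c37_K_ok (c := (Ch.cons (nat_lit 121) [nat_lit 1] (Ch.cons (nat_lit 165) [nat_lit 3] (Ch.cons (nat_lit 251) [nat_lit 5] (Ch.cons (nat_lit 142) [nat_lit 7] Ch.nil))))) (by decide +kernel)

theorem ct_c37_eq : (grp 276 tt_c4_K) ⊓ Subgroup.centralizer {Net.toPerm 276 g817} = grp 276 ct_c37_K :=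
  cent_eq ct_c37_sym ct_c37_cnt ct_c37_ge

theorem ct_c37_card : Nat.card ↥((grp 276 tt_c4_K) ⊓ Subgroup.centralizer {Net.toPerm 276 g817}) = 64 :=
  card_cent ct_c37_sym ct_c37_cnt ct_c37_ge

theorem ct_c37_ord : orderOf (Net.toPerm 276 g817) = 4 :=
  orderOf_net hn hk g817_ok (by decide) (ps := [2]) (by set_option linter.unusedSimpArgs false in simp [Nat.primeFactorsList_ofNat]) (by decide +kernel)

theorem le819 : grp 276 ct_c38_K ≤ grp 276 tt_c4_K :=
  grp_le_of_memB hn hk tt_c4_K_ok ct_c38_K_ok (ws := [nat_lit 1796, nat_lit 1, nat_lit 196865, nat_lit 771]) (by decide +kernel)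

theorem ct_c38_le : grp 276 ct_c38_K ≤ (grp 276 tt_c4_K) :=
  (le819.trans TC_s0.le)

theorem ct_c38_mem : Net.toPerm 276 g811 ∈ (grp 276 tt_c4_K) :=
  ct_c38_le (toPerm_mem_grp (E := ct_c38_K) (List.Mem.head _))

theorem ct_c38_sym : Sym 276 (grp 276 tt_c4_K) [g811] ct_c38_K 0 :=
  Sym.of_lab hn hk (okE_cons.2 ⟨g811_ok, okE_nil _⟩) ct_c38_K_ok ct_c38_le (kT := 0) (by decide +kernel)

noncomputable def ct_c38_cnt_L : List ℕ := [0, 15, TC_s0_O, 0, 0, 1, 20, TC_s6_O, 0, 0, 2, 7, TC_s7_O, 0, 0, 3, 10, TC_s8_O, 0, 0, 4, 12, TC_s9_O, 0, 0, 5, 9, TC_s10_O, 1, 0]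

theorem ct_c38_cnt_P : Prob 276 9 (grp 276 tt_c4_K) ct_c38_cnt_EG [g811] [g811] ct_c38_K ct_c38_cnt_L 0 0 :=
  Sym.prob hn hk ct_c38_sym ct_c38_cnt_EG_ok (grp_cons_le g444_TC (grp_cons_le g445_TC (grp_cons_le g446_TC (grp_cons_le g447_TC (grp_cons_le n_u_TC (grp_cons_le g697_TC (grp_cons_le g698_TC (grp_cons_le g548_TC (grp_nil_le _))))))))) (Frames.cons TC_s0_F (Frames.cons TC_s6_F (Frames.cons TC_s7_F (Frames.cons TC_s8_F (Frames.cons TC_s9_F (Frames.cons TC_s10_F Frames.nil)))))) (okE_cons.2 ⟨g811_ok, okE_nil _⟩) _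

noncomputable def ct_c38_cnt_t : BT := (BT.frm (nat_lit 0) (nat_lit 0) (nat_lit 0) [] (BT.pln (nat_lit 0) (nat_lit 9) (BT.br (nat_lit 0) (nat_lit 121) [nat_lit 1] (BT.kid (nat_lit 121) (nat_lit 16) (BT.pln (nat_lit 2) (nat_lit 10) (BT.br (nat_lit 0) (nat_lit 165) [nat_lit 3] (BT.kid (nat_lit 165) (nat_lit 4) (BT.pln (nat_lit 4) (nat_lit 3) (BT.img (nat_lit 1) (nat_lit 3) (BT.and (nat_lit 5) (nat_lit 0) (BT.frm (nat_lit 2) (nat_lit 0) (nat_lit 0) [nat_lit 0, nat_lit 5] (BT.pln (nat_lit 0) (nat_lit 3) (BT.dif (nat_lit 4) (nat_lit 0) (BT.frm (nat_lit 3) (nat_lit 0) (nat_lit 0) [nat_lit 6, nat_lit 3, nat_lit 8] (BT.pln (nat_lit 0) (nat_lit 4) (BT.dif (nat_lit 2) (nat_lit 0) (BT.br (nat_lit 0) (nat_lit 21) [nat_lit 5] (BT.kid (nat_lit 21) (nat_lit 2) (BT.frm (nat_lit 1) (nat_lit 0) (nat_lit 0) [nat_lit 12] (BT.pln (nat_lit 0) (nat_lit 3) (BT.img (nat_lit 1) (nat_lit 0) (BT.dif (nat_lit 0) (nat_lit 5) (BT.pln (nat_lit 7) (nat_lit 7) (BT.and (nat_lit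 1) (nat_lit 0) (BT.frm (nat_lit 4) (nat_lit 0) (nat_lit 0) [nat_lit 6, nat_lit 16, nat_lit 13, nat_lit 18] (BT.pln (nat_lit 0) (nat_lit 5) (BT.dif (nat_lit 2) (nat_lit 0) (BT.br (nat_lit 0) (nat_lit 162) [nat_lit 7] (BT.kid (nat_lit 162) (nat_lit 1) (BT.one (nat_lit 5) (nat_lit 15) (nat_lit 15) [nat_lit 0, nat_lit 10, nat_lit 20, nat_lit 17, nat_lit 22]) BT.nil))))))))))) BT.nil))))))))))) BT.nil))) BT.nil))))

theorem ct_c38_cnt : Cnt 276 (grp 276 tt_c4_K) [g811] [g811] 0 0 0 0 64 :=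
  BT.sound ct_c38_cnt_P Known.nil (t := ct_c38_cnt_t) (d := 0) (by decide +kernel)

theorem ct_c38_ge : 64 ≤ Nat.card (grp 276 ct_c38_K) :=
  Ch.le_card_grp (k := 9) (L := (lab 276 9)) hn ct_c38_K_ok (c := (Ch.cons (nat_lit 121) [nat_lit 1] (Ch.cons (nat_lit 165) [nat_lit 3] (Ch.cons (nat_lit 21) [nat_lit 5] (Ch.cons (nat_lit 162) [nat_lit 7] Ch.nil))))) (by decide +kernel)

theorem ct_c38_eq : (grp 276 tt_c4_K) ⊓ Subgroup.centralizer {Net.toPerm 276 g811} = grp 276 ct_c38_K :=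
  cent_eq ct_c38_sym ct_c38_cnt ct_c38_ge

theorem ct_c38_card : Nat.card ↥((grp 276 tt_c4_K) ⊓ Subgroup.centralizer {Net.toPerm 276 g811}) = 64 :=
  card_cent ct_c38_sym ct_c38_cnt ct_c38_ge

theorem ct_c38_ord : orderOf (Net.toPerm 276 g811) = 4 :=
  orderOf_net hn hk g811_ok (by decide) (ps := [2]) (by set_option linter.unusedSimpArgs false in simp [Nat.primeFactorsList_ofNat]) (by decide +kernel)

theorem le821 : grp 276 ct_c39_K ≤ grp 276 tt_c4_K :=
  grp_le_of_memB hn hk tt_c4_K_ok ct_c39_K_ok (ws := [nat_lit 459778, nat_lit 1795, nat_lit 4, nat_lit 771]) (by decide +kernel)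

theorem ct_c39_le : grp 276 ct_c39_K ≤ (grp 276 tt_c4_K) :=
  (le821.trans TC_s0.le)

theorem ct_c39_mem : Net.toPerm 276 g820 ∈ (grp 276 tt_c4_K) :=
  ct_c39_le (toPerm_mem_grp (E := ct_c39_K) (List.Mem.head _))

theorem ct_c39_sym : Sym 276 (grp 276 tt_c4_K) [g820] ct_c39_K 0 :=
  Sym.of_lab hn hk (okE_cons.2 ⟨g820_ok, okE_nil _⟩) ct_c39_K_ok ct_c39_le (kT := 0) (by decide +kernel)

noncomputable def ct_c39_cnt_L : List ℕ := [0, 15, TC_s0_O, 0, 0, 2, 7, TC_s11_O, 0, 0, 3, 10, TC_s12_O, 0, 0, 4, 12, TC_s13_O, 0, 0, 5, 9, TC_s14_O, 1, 0]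

theorem ct_c39_cnt_P : Prob 276 9 (grp 276 tt_c4_K) ct_c39_cnt_EG [g820] [g820] ct_c39_K ct_c39_cnt_L 0 0 :=
  Sym.prob hn hk ct_c39_sym ct_c39_cnt_EG_ok (grp_cons_le g445_TC (grp_cons_le g446_TC (grp_cons_le g447_TC (grp_cons_le n_u_TC (grp_cons_le g444_TC (grp_cons_le g716_TC (grp_cons_le g717_TC (grp_cons_le g548_TC (grp_nil_le _))))))))) (Frames.cons TC_s0_F (Frames.cons TC_s11_F (Frames.cons TC_s12_F (Frames.cons TC_s13_F (Frames.cons TC_s14_F Frames.nil))))) (okE_cons.2 ⟨g820_ok, okE_nil _⟩) _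

noncomputable def ct_c39_cnt_t : BT := (BT.frm (nat_lit 0) (nat_lit 0) (nat_lit 0) [] (BT.pln (nat_lit 0) (nat_lit 8) (BT.br (nat_lit 0) (nat_lit 220) [nat_lit 1] (BT.kid (nat_lit 220) (nat_lit 16) (BT.pln (nat_lit 2) (nat_lit 9) (BT.br (nat_lit 0) (nat_lit 121) [nat_lit 3] (BT.kid (nat_lit 121) (nat_lit 4) (BT.pln (nat_lit 4) (nat_lit 3) (BT.img (nat_lit 1) (nat_lit 3) (BT.and (nat_lit 5) (nat_lit 0) (BT.frm (nat_lit 1) (nat_lit 0) (nat_lit 0) [nat_lit 0, nat_lit 5] (BT.pln (nat_lit 0) (nat_lit 2) (BT.dif (nat_lit 4) (nat_lit 0) (BT.frm (nat_lit 2) (nat_lit 0) (nat_lit 0) [nat_lit 6, nat_lit 3, nat_lit 8] (BT.pln (nat_lit 0) (nat_lit 4) (BT.dif (nat_lit 2) (nat_lit 0) (BT.pln (nat_lit 2) (nat_lit 3) (BT.dif (nat_lit 1) (nat_lit 0) (BT.br (nat_lit 0) (nat_lit 210) [nat_lit 5] (BT.kid (nat_lit 210) (nat_lit 2) (BT.pln (nat_lit 5) (nat_lit 8) (BT.and (nat_lit 5) (nat_lit 0) (BT.dif (nat_lit 0) (nat_lit 9) (BT.pln (nat_lit 8) (nat_lit 6) (BT.dif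 (nat_lit 1) (nat_lit 0) (BT.pln (nat_lit 21) (nat_lit 0) (BT.dif (nat_lit 1) (nat_lit 0) (BT.frm (nat_lit 3) (nat_lit 0) (nat_lit 0) [nat_lit 7, nat_lit 19, nat_lit 16, nat_lit 21] (BT.pln (nat_lit 0) (nat_lit 5) (BT.dif (nat_lit 2) (nat_lit 0) (BT.br (nat_lit 0) (nat_lit 66) [nat_lit 7] (BT.kid (nat_lit 66) (nat_lit 1) (BT.one (nat_lit 4) (nat_lit 0) (nat_lit 0) [nat_lit 0, nat_lit 11, nat_lit 23, nat_lit 20, nat_lit 25]) BT.nil)))))))))))) BT.nil))))))))))))) BT.nil))) BT.nil))))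

theorem ct_c39_cnt : Cnt 276 (grp 276 tt_c4_K) [g820] [g820] 0 0 0 0 64 :=
  BT.sound ct_c39_cnt_P Known.nil (t := ct_c39_cnt_t) (d := 0) (by decide +kernel)

theorem ct_c39_ge : 64 ≤ Nat.card (grp 276 ct_c39_K) :=
  Ch.le_card_grp (k := 9) (L := (lab 276 9)) hn ct_c39_K_ok (c := (Ch.cons (nat_lit 220) [nat_lit 1] (Ch.cons (nat_lit 121) [nat_lit 3] (Ch.cons (nat_lit 210) [nat_lit 5] (Ch.cons (nat_lit 66) [nat_lit 7] Ch.nil))))) (by decide +kernel)

theorem ct_c39_eq : (grp 276 tt_c4_K) ⊓ Subgroup.centralizer {Net.toPerm 276 g820} = grp 276 ct_c39_K :=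
  cent_eq ct_c39_sym ct_c39_cnt ct_c39_ge

theorem ct_c39_card : Nat.card ↥((grp 276 tt_c4_K) ⊓ Subgroup.centralizer {Net.toPerm 276 g820}) = 64 :=
  card_cent ct_c39_sym ct_c39_cnt ct_c39_ge

theorem ct_c39_ord : orderOf (Net.toPerm 276 g820) = 4 :=
  orderOf_net hn hk g820_ok (by decide) (ps := [2]) (by set_option linter.unusedSimpArgs false in simp [Nat.primeFactorsList_ofNat]) (by decide +kernel)

theorem le823 : grp 276 ct_c40_K ≤ grp 276 tt_c4_K :=
  grp_le_of_memB hn hk tt_c4_K_ok ct_c40_K_ok (ws := [nat_lit 459777, nat_lit 591620, nat_lit 4, nat_lit 771]) (by decide +kernel)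

theorem ct_c40_le : grp 276 ct_c40_K ≤ (grp 276 tt_c4_K) :=
  (le823.trans TC_s0.le)

theorem ct_c40_mem : Net.toPerm 276 g822 ∈ (grp 276 tt_c4_K) :=
  ct_c40_le (toPerm_mem_grp (E := ct_c40_K) (List.Mem.head _))

theorem ct_c40_sym : Sym 276 (grp 276 tt_c4_K) [g822] ct_c40_K 0 :=
  Sym.of_lab hn hk (okE_cons.2 ⟨g822_ok, okE_nil _⟩) ct_c40_K_ok ct_c40_le (kT := 0) (by decide +kernel)

noncomputable def ct_c40_cnt_L : List ℕ := [0, 15, TC_s0_O, 0, 0, 2, 7, TC_s11_O, 0, 0, 3, 10, TC_s12_O, 0, 0, 4, 12, TC_s13_O, 0, 0, 5, 9, TC_s14_O, 1, 0]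

theorem ct_c40_cnt_P : Prob 276 9 (grp 276 tt_c4_K) ct_c40_cnt_EG [g822] [g822] ct_c40_K ct_c40_cnt_L 0 0 :=
  Sym.prob hn hk ct_c40_sym ct_c40_cnt_EG_ok (grp_cons_le g445_TC (grp_cons_le g446_TC (grp_cons_le g447_TC (grp_cons_le n_u_TC (grp_cons_le g444_TC (grp_cons_le g716_TC (grp_cons_le g717_TC (grp_cons_le g548_TC (grp_nil_le _))))))))) (Frames.cons TC_s0_F (Frames.cons TC_s11_F (Frames.cons TC_s12_F (Frames.cons TC_s13_F (Frames.cons TC_s14_F Frames.nil))))) (okE_cons.2 ⟨g822_ok, okE_nil _⟩) _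

noncomputable def ct_c40_cnt_t : BT := (BT.frm (nat_lit 0) (nat_lit 0) (nat_lit 0) [] (BT.pln (nat_lit 0) (nat_lit 8) (BT.br (nat_lit 0) (nat_lit 220) [nat_lit 1] (BT.kid (nat_lit 220) (nat_lit 16) (BT.pln (nat_lit 2) (nat_lit 9) (BT.br (nat_lit 0) (nat_lit 121) [nat_lit 3] (BT.kid (nat_lit 121) (nat_lit 4) (BT.pln (nat_lit 4) (nat_lit 3) (BT.img (nat_lit 1) (nat_lit 3) (BT.and (nat_lit 5) (nat_lit 0) (BT.frm (nat_lit 1) (nat_lit 3) (nat_lit 3) [nat_lit 0, nat_lit 5] (BT.pln (nat_lit 0) (nat_lit 2) (BT.dif (nat_lit 4) (nat_lit 0) (BT.frm (nat_lit 2) (nat_lit 723715) (nat_lit 723715) [nat_lit 6, nat_lit 3, nat_lit 8] (BT.pln (nat_lit 0) (nat_lit 4) (BT.dif (nat_lit 2) (nat_lit 0) (BT.pln (nat_lit 2) (nat_lit 3) (BT.dif (nat_lit 1) (nat_lit 0) (BT.br (nat_lit 0) (nat_lit 21) [nat_lit 5] (BT.kid (nat_lit 21) (nat_lit 2) (BT.pln (nat_lit 5) (nat_lit 8) (BT.and (nat_lit 5) (nat_lit 0) (BT.dif (nat_lit 0) (nat_lit 9) (BT.pln (nat_lit 8) (nat_lit 6)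 (BT.dif (nat_lit 1) (nat_lit 0) (BT.pln (nat_lit 21) (nat_lit 0) (BT.dif (nat_lit 1) (nat_lit 0) (BT.frm (nat_lit 3) (nat_lit 723715) (nat_lit 723715) [nat_lit 7, nat_lit 19, nat_lit 16, nat_lit 21] (BT.pln (nat_lit 0) (nat_lit 5) (BT.dif (nat_lit 2) (nat_lit 0) (BT.br (nat_lit 0) (nat_lit 34) [nat_lit 7] (BT.kid (nat_lit 34) (nat_lit 1) (BT.one (nat_lit 4) (nat_lit 0xf0b0b03) (nat_lit 0xf0b0b03) [nat_lit 0, nat_lit 11, nat_lit 23, nat_lit 20, nat_lit 25]) BT.nil)))))))))))) BT.nil))))))))))))) BT.nil))) BT.nil))))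

theorem ct_c40_cnt : Cnt 276 (grp 276 tt_c4_K) [g822] [g822] 0 0 0 0 64 :=
  BT.sound ct_c40_cnt_P Known.nil (t := ct_c40_cnt_t) (d := 0) (by decide +kernel)

theorem ct_c40_ge : 64 ≤ Nat.card (grp 276 ct_c40_K) :=
  Ch.le_card_grp (k := 9) (L := (lab 276 9)) hn ct_c40_K_ok (c := (Ch.cons (nat_lit 220) [nat_lit 1] (Ch.cons (nat_lit 121) [nat_lit 3] (Ch.cons (nat_lit 21) [nat_lit 5] (Ch.cons (nat_lit 34) [nat_lit 7] Ch.nil))))) (by decide +kernel)

theorem ct_c40_eq : (grp 276 tt_c4_K) ⊓ Subgroup.centralizer {Net.toPerm 276 g822} = grp 276 ct_c40_K :=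
  cent_eq ct_c40_sym ct_c40_cnt ct_c40_ge

theorem ct_c40_card : Nat.card ↥((grp 276 tt_c4_K) ⊓ Subgroup.centralizer {Net.toPerm 276 g822}) = 64 :=
  card_cent ct_c40_sym ct_c40_cnt ct_c40_ge

theorem ct_c40_ord : orderOf (Net.toPerm 276 g822) = 4 :=
  orderOf_net hn hk g822_ok (by decide) (ps := [2]) (by set_option linter.unusedSimpArgs false in simp [Nat.primeFactorsList_ofNat]) (by decide +kernel)

theorem le824 : grp 276 ct_c41_K ≤ grp 276 tt_c4_K :=
  grp_le_of_memB hn hk tt_c4_K_ok ct_c41_K_ok (ws := [nat_lit 459523, nat_lit 197377, nat_lit 196865, nat_lit 771]) (by decide +kernel)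

theorem ct_c41_le : grp 276 ct_c41_K ≤ (grp 276 tt_c4_K) :=
  (le824.trans TC_s0.le)

theorem ct_c41_mem : Net.toPerm 276 g716 ∈ (grp 276 tt_c4_K) :=
  ct_c41_le (toPerm_mem_grp (E := ct_c41_K) (List.Mem.head _))

theorem ct_c41_sym : Sym 276 (grp 276 tt_c4_K) [g716] ct_c41_K 0 :=
  Sym.of_lab hn hk (okE_cons.2 ⟨g716_ok, okE_nil _⟩) ct_c41_K_ok ct_c41_le (kT := 0) (by decide +kernel)

noncomputable def ct_c41_cnt_L : List ℕ := [0, 15, TC_s0_O, 0, 0, 1, 20, TC_s6_O, 0, 0, 2, 7, TC_s7_O, 0, 0, 3, 10, TC_s8_O, 0, 0, 4, 12, TC_s9_O, 0, 0, 5, 9, TC_s10_O, 1, 0]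

theorem ct_c41_cnt_P : Prob 276 9 (grp 276 tt_c4_K) ct_c41_cnt_EG [g716] [g716] ct_c41_K ct_c41_cnt_L 0 0 :=
  Sym.prob hn hk ct_c41_sym ct_c41_cnt_EG_ok (grp_cons_le g444_TC (grp_cons_le g445_TC (grp_cons_le g446_TC (grp_cons_le g447_TC (grp_cons_le n_u_TC (grp_cons_le g697_TC (grp_cons_le g698_TC (grp_cons_le g548_TC (grp_nil_le _))))))))) (Frames.cons TC_s0_F (Frames.cons TC_s6_F (Frames.cons TC_s7_F (Frames.cons TC_s8_F (Frames.cons TC_s9_F (Frames.cons TC_s10_F Frames.nil)))))) (okE_cons.2 ⟨g716_ok, okE_nil _⟩) _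

noncomputable def ct_c41_cnt_t : BT := (BT.frm (nat_lit 0) (nat_lit 0) (nat_lit 0) [] (BT.pln (nat_lit 0) (nat_lit 9) (BT.br (nat_lit 0) (nat_lit 121) [nat_lit 1] (BT.kid (nat_lit 121) (nat_lit 16) (BT.pln (nat_lit 2) (nat_lit 10) (BT.br (nat_lit 0) (nat_lit 165) [nat_lit 3] (BT.kid (nat_lit 165) (nat_lit 4) (BT.pln (nat_lit 4) (nat_lit 3) (BT.img (nat_lit 1) (nat_lit 3) (BT.and (nat_lit 5) (nat_lit 0) (BT.frm (nat_lit 2) (nat_lit 0) (nat_lit 0) [nat_lit 0, nat_lit 5] (BT.pln (nat_lit 0) (nat_lit 3) (BT.dif (nat_lit 4) (nat_lit 0) (BT.frm (nat_lit 3) (nat_lit 0) (nat_lit 0) [nat_lit 6, nat_lit 3, nat_lit 8] (BT.pln (nat_lit 0) (nat_lit 4) (BT.dif (nat_lit 2) (nat_lit 0) (BT.br (nat_lit 0) (nat_lit 21) [nat_lit 5] (BT.kid (nat_lit 21) (nat_lit 2) (BT.frm (nat_lit 1) (nat_lit 0) (nat_lit 0) [nat_lit 12] (BT.pln (nat_lit 0) (nat_lit 3) (BT.img (nat_lit 1) (nat_lit 0) (BT.dif (nat_lit 0) (nat_lit 5) (BT.pln (nat_lit 7) (nat_lit 7) (BT.and (nat_lit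 1) (nat_lit 0) (BT.frm (nat_lit 4) (nat_lit 0) (nat_lit 0) [nat_lit 6, nat_lit 16, nat_lit 13, nat_lit 18] (BT.pln (nat_lit 0) (nat_lit 5) (BT.dif (nat_lit 2) (nat_lit 0) (BT.br (nat_lit 0) (nat_lit 162) [nat_lit 7] (BT.kid (nat_lit 162) (nat_lit 1) (BT.one (nat_lit 5) (nat_lit 15) (nat_lit 15) [nat_lit 0, nat_lit 10, nat_lit 20, nat_lit 17, nat_lit 22]) BT.nil))))))))))) BT.nil))))))))))) BT.nil))) BT.nil))))

theorem ct_c41_cnt : Cnt 276 (grp 276 tt_c4_K) [g716] [g716] 0 0 0 0 64 :=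
  BT.sound ct_c41_cnt_P Known.nil (t := ct_c41_cnt_t) (d := 0) (by decide +kernel)

theorem ct_c41_ge : 64 ≤ Nat.card (grp 276 ct_c41_K) :=
  Ch.le_card_grp (k := 9) (L := (lab 276 9)) hn ct_c41_K_ok (c := (Ch.cons (nat_lit 121) [nat_lit 1] (Ch.cons (nat_lit 165) [nat_lit 3] (Ch.cons (nat_lit 21) [nat_lit 5] (Ch.cons (nat_lit 162) [nat_lit 7] Ch.nil))))) (by decide +kernel)

theorem ct_c41_eq : (grp 276 tt_c4_K) ⊓ Subgroup.centralizer {Net.toPerm 276 g716} = grp 276 ct_c41_K :=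
  cent_eq ct_c41_sym ct_c41_cnt ct_c41_ge

theorem ct_c41_card : Nat.card ↥((grp 276 tt_c4_K) ⊓ Subgroup.centralizer {Net.toPerm 276 g716}) = 64 :=
  card_cent ct_c41_sym ct_c41_cnt ct_c41_ge

theorem ct_c41_ord : orderOf (Net.toPerm 276 g716) = 4 :=
  orderOf_net hn hk g716_ok (by decide) (ps := [2]) (by set_option linter.unusedSimpArgs false in simp [Nat.primeFactorsList_ofNat]) (by decide +kernel)

theorem le825 : grp 276 ct_c42_K ≤ grp 276 tt_c4_K :=
  grp_le_of_memB hn hk tt_c4_K_ok ct_c42_K_ok (ws := [nat_lit 1026, nat_lit 459523, nat_lit 2308, nat_lit 771]) (by decide +kernel)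

theorem ct_c42_le : grp 276 ct_c42_K ≤ (grp 276 tt_c4_K) :=
  (le825.trans TC_s0.le)

theorem ct_c42_mem : Net.toPerm 276 g807 ∈ (grp 276 tt_c4_K) :=
  ct_c42_le (toPerm_mem_grp (E := ct_c42_K) (List.Mem.head _))

theorem ct_c42_sym : Sym 276 (grp 276 tt_c4_K) [g807] ct_c42_K 0 :=
  Sym.of_lab hn hk (okE_cons.2 ⟨g807_ok, okE_nil _⟩) ct_c42_K_ok ct_c42_le (kT := 0) (by decide +kernel)

noncomputable def ct_c42_cnt_L : List ℕ := [0, 15, TC_s0_O, 0, 0, 2, 7, TC_s11_O, 0, 0, 3, 10, TC_s20_O, 0, 0, 4, 12, TC_s21_O, 0, 0, 5, 9, TC_s22_O, 1, 0]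

theorem ct_c42_cnt_P : Prob 276 9 (grp 276 tt_c4_K) ct_c42_cnt_EG [g807] [g807] ct_c42_K ct_c42_cnt_L 0 0 :=
  Sym.prob hn hk ct_c42_sym ct_c42_cnt_EG_ok (grp_cons_le g445_TC (grp_cons_le g446_TC (grp_cons_le g447_TC (grp_cons_le n_u_TC (grp_cons_le g444_TC (grp_cons_le g716_TC (grp_cons_le g717_TC (grp_cons_le g548_TC (grp_cons_le g684_TC (grp_nil_le _)))))))))) (Frames.cons TC_s0_F (Frames.cons TC_s11_F (Frames.cons TC_s20_F (Frames.cons TC_s21_F (Frames.cons TC_s22_F Frames.nil))))) (okE_cons.2 ⟨g807_ok, okE_nil _⟩) _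

noncomputable def ct_c42_cnt_t : BT := (BT.frm (nat_lit 0) (nat_lit 0) (nat_lit 0) [] (BT.pln (nat_lit 0) (nat_lit 8) (BT.br (nat_lit 0) (nat_lit 220) [nat_lit 1] (BT.kid (nat_lit 220) (nat_lit 16) (BT.pln (nat_lit 2) (nat_lit 10) (BT.br (nat_lit 0) (nat_lit 165) [nat_lit 3] (BT.kid (nat_lit 165) (nat_lit 4) (BT.pln (nat_lit 4) (nat_lit 3) (BT.img (nat_lit 1) (nat_lit 3) (BT.and (nat_lit 5) (nat_lit 0) (BT.frm (nat_lit 2) (nat_lit 0) (nat_lit 0) [nat_lit 3, nat_lit 0, nat_lit 5] (BT.pln (nat_lit 0) (nat_lit 5) (BT.dif (nat_lit 4) (nat_lit 0) (BT.frm (nat_lit 1) (nat_lit 0) (nat_lit 0) [nat_lit 3, nat_lit 8] (BT.pln (nat_lit 0) (nat_lit 2) (BT.dif (nat_lit 2) (nat_lit 0) (BT.br (nat_lit 0) (nat_lit 27) [nat_lit 5] (BT.kid (nat_lit 27) (nat_lit 2) (BT.pln (nat_lit 6) (nat_lit 8) (BT.and (nat_lit 6) (nat_lit 0) (BT.pln (nat_lit 8) (nat_lit 3) (BT.dif (nat_lit 1) (nat_lit 0) (BT.dif (nat_lit 0) (nat_lit 6) (BT.pln (nat_lit 8) (nat_lit 3) (BT.dif (nat_lit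 1) (nat_lit 0) (BT.frm (nat_lit 3) (nat_lit 0) (nat_lit 0) [nat_lit 7, nat_lit 17, nat_lit 14, nat_lit 19] (BT.pln (nat_lit 0) (nat_lit 4) (BT.dif (nat_lit 2) (nat_lit 0) (BT.br (nat_lit 0) (nat_lit 73) [nat_lit 7] (BT.kid (nat_lit 73) (nat_lit 1) (BT.one (nat_lit 4) (nat_lit 15) (nat_lit 15) [nat_lit 0, nat_lit 11, nat_lit 21, nat_lit 18, nat_lit 23]) BT.nil)))))))))))) BT.nil))))))))))) BT.nil))) BT.nil))))

theorem ct_c42_cnt : Cnt 276 (grp 276 tt_c4_K) [g807] [g807] 0 0 0 0 64 :=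
  BT.sound ct_c42_cnt_P Known.nil (t := ct_c42_cnt_t) (d := 0) (by decide +kernel)

theorem ct_c42_ge : 64 ≤ Nat.card (grp 276 ct_c42_K) :=
  Ch.le_card_grp (k := 9) (L := (lab 276 9)) hn ct_c42_K_ok (c := (Ch.cons (nat_lit 220) [nat_lit 1] (Ch.cons (nat_lit 165) [nat_lit 3] (Ch.cons (nat_lit 27) [nat_lit 5] (Ch.cons (nat_lit 73) [nat_lit 7] Ch.nil))))) (by decide +kernel)

theorem ct_c42_eq : (grp 276 tt_c4_K) ⊓ Subgroup.centralizer {Net.toPerm 276 g807} = grp 276 ct_c42_K :=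
  cent_eq ct_c42_sym ct_c42_cnt ct_c42_ge

theorem ct_c42_card : Nat.card ↥((grp 276 tt_c4_K) ⊓ Subgroup.centralizer {Net.toPerm 276 g807}) = 64 :=
  card_cent ct_c42_sym ct_c42_cnt ct_c42_ge

theorem ct_c42_ord : orderOf (Net.toPerm 276 g807) = 4 :=
  orderOf_net hn hk g807_ok (by decide) (ps := [2]) (by set_option linter.unusedSimpArgs false in simp [Nat.primeFactorsList_ofNat]) (by decide +kernel)

theorem le826 : grp 276 ct_c43_K ≤ grp 276 tt_c4_K :=
  grp_le_of_memB hn hk tt_c4_K_ok ct_c43_K_ok (ws := [nat_lit 590849, nat_lit 7, nat_lit 2308, nat_lit 771]) (by decide +kernel)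

theorem ct_c43_le : grp 276 ct_c43_K ≤ (grp 276 tt_c4_K) :=
  (le826.trans TC_s0.le)

theorem ct_c43_mem : Net.toPerm 276 g537 ∈ (grp 276 tt_c4_K) :=
  ct_c43_le (toPerm_mem_grp (E := ct_c43_K) (List.Mem.head _))

theorem ct_c43_sym : Sym 276 (grp 276 tt_c4_K) [g537] ct_c43_K 0 :=
  Sym.of_lab hn hk (okE_cons.2 ⟨g537_ok, okE_nil _⟩) ct_c43_K_ok ct_c43_le (kT := 0) (by decide +kernel)

noncomputable def ct_c43_cnt_L : List ℕ := [0, 15, TC_s0_O, 0, 0, 2, 7, TC_s11_O, 0, 0, 3, 10, TC_s20_O, 0, 0, 4, 12, TC_s21_O, 0, 0, 5, 9, TC_s22_O, 1, 0]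

theorem ct_c43_cnt_P : Prob 276 9 (grp 276 tt_c4_K) ct_c43_cnt_EG [g537] [g537] ct_c43_K ct_c43_cnt_L 0 0 :=
  Sym.prob hn hk ct_c43_sym ct_c43_cnt_EG_ok (grp_cons_le g445_TC (grp_cons_le g446_TC (grp_cons_le g447_TC (grp_cons_le n_u_TC (grp_cons_le g444_TC (grp_cons_le g716_TC (grp_cons_le g717_TC (grp_cons_le g548_TC (grp_cons_le g684_TC (grp_nil_le _)))))))))) (Frames.cons TC_s0_F (Frames.cons TC_s11_F (Frames.cons TC_s20_F (Frames.cons TC_s21_F (Frames.cons TC_s22_F Frames.nil))))) (okE_cons.2 ⟨g537_ok, okE_nil _⟩) _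

noncomputable def ct_c43_cnt_t : BT := (BT.frm (nat_lit 0) (nat_lit 0) (nat_lit 0) [] (BT.pln (nat_lit 0) (nat_lit 8) (BT.br (nat_lit 0) (nat_lit 220) [nat_lit 1] (BT.kid (nat_lit 220) (nat_lit 16) (BT.pln (nat_lit 2) (nat_lit 10) (BT.br (nat_lit 0) (nat_lit 165) [nat_lit 3] (BT.kid (nat_lit 165) (nat_lit 4) (BT.pln (nat_lit 4) (nat_lit 3) (BT.img (nat_lit 1) (nat_lit 3) (BT.and (nat_lit 5) (nat_lit 0) (BT.frm (nat_lit 2) (nat_lit 3075) (nat_lit 3075) [nat_lit 3, nat_lit 0, nat_lit 5] (BT.pln (nat_lit 0) (nat_lit 5) (BT.dif (nat_lit 4) (nat_lit 0) (BT.frm (nat_lit 1) (nat_lit 3) (nat_lit 3) [nat_lit 3, nat_lit 8] (BT.pln (nat_lit 0) (nat_lit 2) (BT.dif (nat_lit 2) (nat_lit 0) (BT.br (nat_lit 0) (nat_lit 251) [nat_lit 5] (BT.kid (nat_lit 251) (nat_lit 2) (BT.pln (nat_lit 6) (nat_lit 8) (BT.and (nat_lit 6) (nat_lit 0) (BT.pln (nat_lit 8) (nat_lit 3) (BT.dif (nat_lit 1) (nat_lit 0) (BT.dif (nat_lit 0) (nat_lit 6) (BT.pln (nat_lit 8) (nat_lit 3) (BT.dif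 (nat_lit 1) (nat_lit 0) (BT.frm (nat_lit 3) (nat_lit 3075) (nat_lit 3075) [nat_lit 7, nat_lit 17, nat_lit 14, nat_lit 19] (BT.pln (nat_lit 0) (nat_lit 4) (BT.dif (nat_lit 2) (nat_lit 0) (BT.br (nat_lit 0) (nat_lit 243) [nat_lit 7] (BT.kid (nat_lit 243) (nat_lit 1) (BT.one (nat_lit 4) (nat_lit 986115) (nat_lit 986115) [nat_lit 0, nat_lit 11, nat_lit 21, nat_lit 18, nat_lit 23]) BT.nil)))))))))))) BT.nil))))))))))) BT.nil))) BT.nil))))

theorem ct_c43_cnt : Cnt 276 (grp 276 tt_c4_K) [g537] [g537] 0 0 0 0 64 :=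
  BT.sound ct_c43_cnt_P Known.nil (t := ct_c43_cnt_t) (d := 0) (by decide +kernel)

theorem ct_c43_ge : 64 ≤ Nat.card (grp 276 ct_c43_K) :=
  Ch.le_card_grp (k := 9) (L := (lab 276 9)) hn ct_c43_K_ok (c := (Ch.cons (nat_lit 220) [nat_lit 1] (Ch.cons (nat_lit 165) [nat_lit 3] (Ch.cons (nat_lit 251) [nat_lit 5] (Ch.cons (nat_lit 243) [nat_lit 7] Ch.nil))))) (by decide +kernel)

theorem ct_c43_eq : (grp 276 tt_c4_K) ⊓ Subgroup.centralizer {Net.toPerm 276 g537} = grp 276 ct_c43_K :=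
  cent_eq ct_c43_sym ct_c43_cnt ct_c43_ge

theorem ct_c43_card : Nat.card ↥((grp 276 tt_c4_K) ⊓ Subgroup.centralizer {Net.toPerm 276 g537}) = 64 :=
  card_cent ct_c43_sym ct_c43_cnt ct_c43_ge

theorem ct_c43_ord : orderOf (Net.toPerm 276 g537) = 4 :=
  orderOf_net hn hk g537_ok (by decide) (ps := [2]) (by set_option linter.unusedSimpArgs false in simp [Nat.primeFactorsList_ofNat]) (by decide +kernel)

noncomputable def ct_xs : List Net := [Net.nil, n_t, n_u, n_tu, n_w, n_tw, g548, g491, n_x, g742, g749, g751, g757, g764, g771, g779, g705, g127, g712, g717, g790, g792, g794, g797, g799, g735, g795, g524, g804, g546, g522, g698, g545, g544, g444, g526, g733, g817, g811, g820, g822, g716, g807, g537]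

noncomputable def ct_cs : List ℕ := [128, 128, 128, 128, 128, 128, 128, 128, 16, 16, 16, 16, 16, 16, 16, 16, 64, 64, 64, 64, 64, 64, 64, 64, 64, 64, 64, 64, 64, 64, 64, 64, 64, 64, 64, 64, 64, 64, 64, 64, 64, 64, 64, 64]

noncomputable def ct_os : List ℕ := [1, 2, 2, 2, 2, 2, 2, 2, 2, 2, 2, 2, 2, 2, 2, 2, 4, 4, 4, 4, 4, 4, 4, 4, 4, 4, 4, 4, 4, 4, 4, 4, 4, 4, 4, 4, 4, 4, 4, 4, 4, 4, 4, 4]

theorem ct_reps : Reps 276 (grp 276 tt_c4_K) ct_xs ct_cs ct_os :=
  (Reps.cons rfl (one_mem _) (card_cent_nil c_card2) orderOf_one (Reps.cons n_t_ok ct_c1_mem ct_c1_card ct_c1_ord (Reps.cons n_u_ok ct_c2_mem ct_c2_card ct_c2_ord (Reps.cons n_tu_ok ct_c3_mem ct_c3_card ct_c3_ord (Reps.cons n_w_ok ct_c4_mem ct_c4_card ct_c4_ord (Reps.cons n_tw_ok ct_c5_mem ct_c5_card ct_c5_ord (Reps.cons g548_ok ct_c6_mem ct_c6_card ct_c6_ord (Reps.cons g491_ok ct_c7_mem ct_c7_card ct_c7_ord (Reps.cons n_x_ok ct_c8_mem ct_c8_card ct_c8_ord (Reps.cons g742_ok ct_c9_mem ct_c9_card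 ct_c9_ord (Reps.cons g749_ok ct_c10_mem ct_c10_card ct_c10_ord (Reps.cons g751_ok ct_c11_mem ct_c11_card ct_c11_ord (Reps.cons g757_ok ct_c12_mem ct_c12_card ct_c12_ord (Reps.cons g764_ok ct_c13_mem ct_c13_card ct_c13_ord (Reps.cons g771_ok ct_c14_mem ct_c14_card ct_c14_ord (Reps.cons g779_ok ct_c15_mem ct_c15_card ct_c15_ord (Reps.cons g705_ok ct_c16_mem ct_c16_card ct_c16_ord (Reps.cons g127_ok ct_c17_mem ct_c17_card ct_c17_ord (Reps.cons g712_ok ct_c18_mem ct_c18_card ct_c18_ord (Reps.cons g717_ok ct_c19_mem ct_c19_card ct_c19_ord (Reps.cons g790_ok ct_c20_mem ct_c20_card ct_c20_ord (Reps.cons g792_ok ct_c21_mem ct_c21_card ct_c21_ord (Reps.cons g794_ok ct_c22_mem ct_c22_card ct_c22_ord (Reps.cons g797_ok ct_c23_mem ct_c23_card ct_c23_ord (Reps.cons g799_ok ct_c24_mem ct_c24_card ct_c24_ord (Reps.cons g735_ok ct_c25_mem ct_c25_card ct_c25_ord (Reps.cons g795_ok ct_c26_mem ct_c26_card ct_c26_ord (Reps.cons g524_ok ct_c27_mem ct_c27_card ct_c27_ord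 (Reps.cons g804_ok ct_c28_mem ct_c28_card ct_c28_ord (Reps.cons g546_ok ct_c29_mem ct_c29_card ct_c29_ord (Reps.cons g522_ok ct_c30_mem ct_c30_card ct_c30_ord (Reps.cons g698_ok ct_c31_mem ct_c31_card ct_c31_ord (Reps.cons g545_ok ct_c32_mem ct_c32_card ct_c32_ord (Reps.cons g544_ok ct_c33_mem ct_c33_card ct_c33_ord (Reps.cons g444_ok ct_c34_mem ct_c34_card ct_c34_ord (Reps.cons g526_ok ct_c35_mem ct_c35_card ct_c35_ord (Reps.cons g733_ok ct_c36_mem ct_c36_card ct_c36_ord (Reps.cons g817_ok ct_c37_mem ct_c37_card ct_c37_ord (Reps.cons g811_ok ct_c38_mem ct_c38_card ct_c38_ord (Reps.cons g820_ok ct_c39_mem ct_c39_card ct_c39_ord (Reps.cons g822_ok ct_c40_mem ct_c40_card ct_c40_ord (Reps.cons g716_ok ct_c41_mem ct_c41_card ct_c41_ord (Reps.cons g807_ok ct_c42_mem ct_c42_card ct_c42_ord (Reps.cons g537_ok ct_c43_mem ct_c43_card ct_c43_ord Reps.nil))))))))))))))))))))))))))))))))))))))))))))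

noncomputable def ct_nc2_1_cnt_L : List ℕ := [0, 15, TC_s0_O, 0, 0]

theorem ct_nc2_1_cnt_P : Prob 276 9 (grp 276 tt_c4_K) ct_nc2_1_cnt_EG [n_u] [n_t] ct_c1_K ct_nc2_1_cnt_L 0 0 :=
  Sym.prob hn hk ct_c1_sym ct_nc2_1_cnt_EG_ok (grp_nil_le _) (Frames.cons TC_s0_F Frames.nil) (okE_cons.2 ⟨n_u_ok, okE_nil _⟩) _

noncomputable def ct_nc2_1_cnt_t : BT := (BT.frm (nat_lit 0) (nat_lit 0) (nat_lit 0) [] (BT.pln (nat_lit 0) (nat_lit 5) (BT.fix (nat_lit 1) (BT.and (nat_lit 1) (nat_lit 0) (BT.cnt (nat_lit 0))))))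

theorem ct_nc2_1_cnt : Cnt 276 (grp 276 tt_c4_K) [n_u] [n_t] 0 0 0 0 0 :=
  BT.sound ct_nc2_1_cnt_P Known.nil (t := ct_nc2_1_cnt_t) (d := 0) (by decide +kernel)

theorem ct_nc2_1 : ¬ CjIn (grp 276 tt_c4_K) (Net.toPerm 276 n_u) (Net.toPerm 276 n_t) :=
  not_cjIn ct_nc2_1_cnt

noncomputable def ct_nc3_1_cnt_L : List ℕ := [0, 15, TC_s0_O, 0, 0]

theorem ct_nc3_1_cnt_P : Prob 276 9 (grp 276 tt_c4_K) ct_nc3_1_cnt_EG [n_tu] [n_t] ct_c1_K ct_nc3_1_cnt_L 0 0 :=
  Sym.prob hn hk ct_c1_sym ct_nc3_1_cnt_EG_ok (grp_nil_le _) (Frames.cons TC_s0_F Frames.nil) (okE_cons.2 ⟨n_tu_ok, okE_nil _⟩) _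

noncomputable def ct_nc3_1_cnt_t : BT := (BT.frm (nat_lit 0) (nat_lit 0) (nat_lit 0) [] (BT.pln (nat_lit 0) (nat_lit 2) (BT.fix (nat_lit 1) (BT.and (nat_lit 1) (nat_lit 0) (BT.cnt (nat_lit 0))))))

theorem ct_nc3_1_cnt : Cnt 276 (grp 276 tt_c4_K) [n_tu] [n_t] 0 0 0 0 0 :=
  BT.sound ct_nc3_1_cnt_P Known.nil (t := ct_nc3_1_cnt_t) (d := 0) (by decide +kernel)

theorem ct_nc3_1 : ¬ CjIn (grp 276 tt_c4_K) (Net.toPerm 276 n_tu) (Net.toPerm 276 n_t) :=
  not_cjIn ct_nc3_1_cnt

noncomputable def ct_nc3_2_cnt_L : List ℕ := [0, 15, TC_s0_O, 0, 0]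

theorem ct_nc3_2_cnt_P : Prob 276 9 (grp 276 tt_c4_K) ct_nc3_2_cnt_EG [n_tu] [n_u] ct_c2_K ct_nc3_2_cnt_L 0 0 :=
  Sym.prob hn hk ct_c2_sym ct_nc3_2_cnt_EG_ok (grp_nil_le _) (Frames.cons TC_s0_F Frames.nil) (okE_cons.2 ⟨n_tu_ok, okE_nil _⟩) _

noncomputable def ct_nc3_2_cnt_t : BT := (BT.frm (nat_lit 0) (nat_lit 0) (nat_lit 0) [] (BT.pln (nat_lit 0) (nat_lit 2) (BT.fix (nat_lit 1) (BT.and (nat_lit 1) (nat_lit 0) (BT.cnt (nat_lit 0))))))

theorem ct_nc3_2_cnt : Cnt 276 (grp 276 tt_c4_K) [n_tu] [n_u] 0 0 0 0 0 :=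
  BT.sound ct_nc3_2_cnt_P Known.nil (t := ct_nc3_2_cnt_t) (d := 0) (by decide +kernel)

theorem ct_nc3_2 : ¬ CjIn (grp 276 tt_c4_K) (Net.toPerm 276 n_tu) (Net.toPerm 276 n_u) :=
  not_cjIn ct_nc3_2_cnt

noncomputable def ct_nc4_1_cnt_L : List ℕ := [0, 15, TC_s0_O, 0, 0]

theorem ct_nc4_1_cnt_P : Prob 276 9 (grp 276 tt_c4_K) ct_nc4_1_cnt_EG [n_w] [n_t] ct_c1_K ct_nc4_1_cnt_L 0 0 :=
  Sym.prob hn hk ct_c1_sym ct_nc4_1_cnt_EG_ok (grp_nil_le _) (Frames.cons TC_s0_F Frames.nil) (okE_cons.2 ⟨n_w_ok, okE_nil _⟩) _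

noncomputable def ct_nc4_1_cnt_t : BT := (BT.frm (nat_lit 0) (nat_lit 0) (nat_lit 0) [] (BT.pln (nat_lit 0) (nat_lit 0) (BT.fix (nat_lit 1) (BT.and (nat_lit 1) (nat_lit 0) (BT.cnt (nat_lit 0))))))

theorem ct_nc4_1_cnt : Cnt 276 (grp 276 tt_c4_K) [n_w] [n_t] 0 0 0 0 0 :=
  BT.sound ct_nc4_1_cnt_P Known.nil (t := ct_nc4_1_cnt_t) (d := 0) (by decide +kernel)

theorem ct_nc4_1 : ¬ CjIn (grp 276 tt_c4_K) (Net.toPerm 276 n_w) (Net.toPerm 276 n_t) :=
  not_cjIn ct_nc4_1_cnt

noncomputable def ct_nc4_2_cnt_L : List ℕ := [0, 15, TC_s0_O, 0, 0]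

theorem ct_nc4_2_cnt_P : Prob 276 9 (grp 276 tt_c4_K) ct_nc4_2_cnt_EG [n_w] [n_u] ct_c2_K ct_nc4_2_cnt_L 0 0 :=
  Sym.prob hn hk ct_c2_sym ct_nc4_2_cnt_EG_ok (grp_nil_le _) (Frames.cons TC_s0_F Frames.nil) (okE_cons.2 ⟨n_w_ok, okE_nil _⟩) _

noncomputable def ct_nc4_2_cnt_t : BT := (BT.frm (nat_lit 0) (nat_lit 0) (nat_lit 0) [] (BT.pln (nat_lit 0) (nat_lit 0) (BT.fix (nat_lit 1) (BT.and (nat_lit 1) (nat_lit 0) (BT.cnt (nat_lit 0))))))

theorem ct_nc4_2_cnt : Cnt 276 (grp 276 tt_c4_K) [n_w] [n_u] 0 0 0 0 0 :=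
  BT.sound ct_nc4_2_cnt_P Known.nil (t := ct_nc4_2_cnt_t) (d := 0) (by decide +kernel)

theorem ct_nc4_2 : ¬ CjIn (grp 276 tt_c4_K) (Net.toPerm 276 n_w) (Net.toPerm 276 n_u) :=
  not_cjIn ct_nc4_2_cnt

noncomputable def ct_nc4_3_cnt_L : List ℕ := [0, 15, TC_s0_O, 0, 0]

theorem ct_nc4_3_cnt_P : Prob 276 9 (grp 276 tt_c4_K) ct_nc4_3_cnt_EG [n_w] [n_tu] ct_c3_K ct_nc4_3_cnt_L 0 0 :=
  Sym.prob hn hk ct_c3_sym ct_nc4_3_cnt_EG_ok (grp_nil_le _) (Frames.cons TC_s0_F Frames.nil) (okE_cons.2 ⟨n_w_ok, okE_nil _⟩) _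

noncomputable def ct_nc4_3_cnt_t : BT := (BT.frm (nat_lit 0) (nat_lit 0) (nat_lit 0) [] (BT.pln (nat_lit 0) (nat_lit 0) (BT.fix (nat_lit 1) (BT.and (nat_lit 1) (nat_lit 0) (BT.cnt (nat_lit 0))))))

theorem ct_nc4_3_cnt : Cnt 276 (grp 276 tt_c4_K) [n_w] [n_tu] 0 0 0 0 0 :=
  BT.sound ct_nc4_3_cnt_P Known.nil (t := ct_nc4_3_cnt_t) (d := 0) (by decide +kernel)

theorem ct_nc4_3 : ¬ CjIn (grp 276 tt_c4_K) (Net.toPerm 276 n_w) (Net.toPerm 276 n_tu) :=
  not_cjIn ct_nc4_3_cnt

noncomputable def ct_nc5_1_cnt_L : List ℕ := [0, 15, TC_s0_O, 0, 0]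

theorem ct_nc5_1_cnt_P : Prob 276 9 (grp 276 tt_c4_K) ct_nc5_1_cnt_EG [n_tw] [n_t] ct_c1_K ct_nc5_1_cnt_L 0 0 :=
  Sym.prob hn hk ct_c1_sym ct_nc5_1_cnt_EG_ok (grp_nil_le _) (Frames.cons TC_s0_F Frames.nil) (okE_cons.2 ⟨n_tw_ok, okE_nil _⟩) _

noncomputable def ct_nc5_1_cnt_t : BT := (BT.frm (nat_lit 0) (nat_lit 0) (nat_lit 0) [] (BT.pln (nat_lit 0) (nat_lit 1) (BT.fix (nat_lit 1) (BT.and (nat_lit 1) (nat_lit 0) (BT.cnt (nat_lit 0))))))

theorem ct_nc5_1_cnt : Cnt 276 (grp 276 tt_c4_K) [n_tw] [n_t] 0 0 0 0 0 :=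
  BT.sound ct_nc5_1_cnt_P Known.nil (t := ct_nc5_1_cnt_t) (d := 0) (by decide +kernel)

theorem ct_nc5_1 : ¬ CjIn (grp 276 tt_c4_K) (Net.toPerm 276 n_tw) (Net.toPerm 276 n_t) :=
  not_cjIn ct_nc5_1_cnt

noncomputable def ct_nc5_2_cnt_L : List ℕ := [0, 15, TC_s0_O, 0, 0]

theorem ct_nc5_2_cnt_P : Prob 276 9 (grp 276 tt_c4_K) ct_nc5_2_cnt_EG [n_tw] [n_u] ct_c2_K ct_nc5_2_cnt_L 0 0 :=
  Sym.prob hn hk ct_c2_sym ct_nc5_2_cnt_EG_ok (grp_nil_le _) (Frames.cons TC_s0_F Frames.nil) (okE_cons.2 ⟨n_tw_ok, okE_nil _⟩) _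

noncomputable def ct_nc5_2_cnt_t : BT := (BT.frm (nat_lit 0) (nat_lit 0) (nat_lit 0) [] (BT.pln (nat_lit 0) (nat_lit 1) (BT.fix (nat_lit 1) (BT.and (nat_lit 1) (nat_lit 0) (BT.cnt (nat_lit 0))))))

theorem ct_nc5_2_cnt : Cnt 276 (grp 276 tt_c4_K) [n_tw] [n_u] 0 0 0 0 0 :=
  BT.sound ct_nc5_2_cnt_P Known.nil (t := ct_nc5_2_cnt_t) (d := 0) (by decide +kernel)

theorem ct_nc5_2 : ¬ CjIn (grp 276 tt_c4_K) (Net.toPerm 276 n_tw) (Net.toPerm 276 n_u) :=
  not_cjIn ct_nc5_2_cnt

noncomputable def ct_nc5_3_cnt_L : List ℕ := [0, 15, TC_s0_O, 0, 0]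

theorem ct_nc5_3_cnt_P : Prob 276 9 (grp 276 tt_c4_K) ct_nc5_3_cnt_EG [n_tw] [n_tu] ct_c3_K ct_nc5_3_cnt_L 0 0 :=
  Sym.prob hn hk ct_c3_sym ct_nc5_3_cnt_EG_ok (grp_nil_le _) (Frames.cons TC_s0_F Frames.nil) (okE_cons.2 ⟨n_tw_ok, okE_nil _⟩) _

noncomputable def ct_nc5_3_cnt_t : BT := (BT.frm (nat_lit 0) (nat_lit 0) (nat_lit 0) [] (BT.pln (nat_lit 0) (nat_lit 1) (BT.fix (nat_lit 1) (BT.and (nat_lit 1) (nat_lit 0) (BT.cnt (nat_lit 0))))))

theorem ct_nc5_3_cnt : Cnt 276 (grp 276 tt_c4_K) [n_tw] [n_tu] 0 0 0 0 0 :=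
  BT.sound ct_nc5_3_cnt_P Known.nil (t := ct_nc5_3_cnt_t) (d := 0) (by decide +kernel)

theorem ct_nc5_3 : ¬ CjIn (grp 276 tt_c4_K) (Net.toPerm 276 n_tw) (Net.toPerm 276 n_tu) :=
  not_cjIn ct_nc5_3_cnt

noncomputable def ct_nc5_4_cnt_L : List ℕ := [0, 15, TC_s0_O, 0, 0]

theorem ct_nc5_4_cnt_P : Prob 276 9 (grp 276 tt_c4_K) ct_nc5_4_cnt_EG [n_tw] [n_w] ct_c4_K ct_nc5_4_cnt_L 0 0 :=
  Sym.prob hn hk ct_c4_sym ct_nc5_4_cnt_EG_ok (grp_nil_le _) (Frames.cons TC_s0_F Frames.nil) (okE_cons.2 ⟨n_tw_ok, okE_nil _⟩) _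

noncomputable def ct_nc5_4_cnt_t : BT := (BT.frm (nat_lit 0) (nat_lit 0) (nat_lit 0) [] (BT.pln (nat_lit 0) (nat_lit 0) (BT.fix (nat_lit 1) (BT.and (nat_lit 1) (nat_lit 0) (BT.cnt (nat_lit 0))))))

theorem ct_nc5_4_cnt : Cnt 276 (grp 276 tt_c4_K) [n_tw] [n_w] 0 0 0 0 0 :=
  BT.sound ct_nc5_4_cnt_P Known.nil (t := ct_nc5_4_cnt_t) (d := 0) (by decide +kernel)

theorem ct_nc5_4 : ¬ CjIn (grp 276 tt_c4_K) (Net.toPerm 276 n_tw) (Net.toPerm 276 n_w) :=
  not_cjIn ct_nc5_4_cnt

noncomputable def ct_nc6_1_cnt_L : List ℕ := [0, 15, TC_s0_O, 0, 0]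

theorem ct_nc6_1_cnt_P : Prob 276 9 (grp 276 tt_c4_K) ct_nc6_1_cnt_EG [g548] [n_t] ct_c1_K ct_nc6_1_cnt_L 0 0 :=
  Sym.prob hn hk ct_c1_sym ct_nc6_1_cnt_EG_ok (grp_nil_le _) (Frames.cons TC_s0_F Frames.nil) (okE_cons.2 ⟨g548_ok, okE_nil _⟩) _

noncomputable def ct_nc6_1_cnt_t : BT := (BT.frm (nat_lit 0) (nat_lit 0) (nat_lit 0) [] (BT.pln (nat_lit 0) (nat_lit 3) (BT.fix (nat_lit 1) (BT.and (nat_lit 1) (nat_lit 0) (BT.cnt (nat_lit 0))))))

theorem ct_nc6_1_cnt : Cnt 276 (grp 276 tt_c4_K) [g548] [n_t] 0 0 0 0 0 :=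
  BT.sound ct_nc6_1_cnt_P Known.nil (t := ct_nc6_1_cnt_t) (d := 0) (by decide +kernel)

theorem ct_nc6_1 : ¬ CjIn (grp 276 tt_c4_K) (Net.toPerm 276 g548) (Net.toPerm 276 n_t) :=
  not_cjIn ct_nc6_1_cnt

noncomputable def ct_nc6_2_cnt_L : List ℕ := [0, 15, TC_s0_O, 0, 0]

theorem ct_nc6_2_cnt_P : Prob 276 9 (grp 276 tt_c4_K) ct_nc6_2_cnt_EG [g548] [n_u] ct_c2_K ct_nc6_2_cnt_L 0 0 :=
  Sym.prob hn hk ct_c2_sym ct_nc6_2_cnt_EG_ok (grp_nil_le _) (Frames.cons TC_s0_F Frames.nil) (okE_cons.2 ⟨g548_ok, okE_nil _⟩) _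

noncomputable def ct_nc6_2_cnt_t : BT := (BT.frm (nat_lit 0) (nat_lit 0) (nat_lit 0) [] (BT.pln (nat_lit 0) (nat_lit 3) (BT.fix (nat_lit 1) (BT.and (nat_lit 1) (nat_lit 0) (BT.cnt (nat_lit 0))))))

theorem ct_nc6_2_cnt : Cnt 276 (grp 276 tt_c4_K) [g548] [n_u] 0 0 0 0 0 :=
  BT.sound ct_nc6_2_cnt_P Known.nil (t := ct_nc6_2_cnt_t) (d := 0) (by decide +kernel)

theorem ct_nc6_2 : ¬ CjIn (grp 276 tt_c4_K) (Net.toPerm 276 g548) (Net.toPerm 276 n_u) :=
  not_cjIn ct_nc6_2_cnt

noncomputable def ct_nc6_3_cnt_L : List ℕ := [0, 15, TC_s0_O, 0, 0]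

theorem ct_nc6_3_cnt_P : Prob 276 9 (grp 276 tt_c4_K) ct_nc6_3_cnt_EG [g548] [n_tu] ct_c3_K ct_nc6_3_cnt_L 0 0 :=
  Sym.prob hn hk ct_c3_sym ct_nc6_3_cnt_EG_ok (grp_nil_le _) (Frames.cons TC_s0_F Frames.nil) (okE_cons.2 ⟨g548_ok, okE_nil _⟩) _

noncomputable def ct_nc6_3_cnt_t : BT := (BT.frm (nat_lit 0) (nat_lit 0) (nat_lit 0) [] (BT.pln (nat_lit 0) (nat_lit 2) (BT.fix (nat_lit 1) (BT.and (nat_lit 1) (nat_lit 0) (BT.cnt (nat_lit 0))))))

theorem ct_nc6_3_cnt : Cnt 276 (grp 276 tt_c4_K) [g548] [n_tu] 0 0 0 0 0 :=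
  BT.sound ct_nc6_3_cnt_P Known.nil (t := ct_nc6_3_cnt_t) (d := 0) (by decide +kernel)

theorem ct_nc6_3 : ¬ CjIn (grp 276 tt_c4_K) (Net.toPerm 276 g548) (Net.toPerm 276 n_tu) :=
  not_cjIn ct_nc6_3_cnt

noncomputable def ct_nc6_4_cnt_L : List ℕ := [0, 15, TC_s0_O, 0, 0]

theorem ct_nc6_4_cnt_P : Prob 276 9 (grp 276 tt_c4_K) ct_nc6_4_cnt_EG [g548] [n_w] ct_c4_K ct_nc6_4_cnt_L 0 0 :=
  Sym.prob hn hk ct_c4_sym ct_nc6_4_cnt_EG_ok (grp_nil_le _) (Frames.cons TC_s0_F Frames.nil) (okE_cons.2 ⟨g548_ok, okE_nil _⟩) _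

noncomputable def ct_nc6_4_cnt_t : BT := (BT.frm (nat_lit 0) (nat_lit 0) (nat_lit 0) [] (BT.pln (nat_lit 0) (nat_lit 0) (BT.fix (nat_lit 1) (BT.and (nat_lit 1) (nat_lit 0) (BT.cnt (nat_lit 0))))))

theorem ct_nc6_4_cnt : Cnt 276 (grp 276 tt_c4_K) [g548] [n_w] 0 0 0 0 0 :=
  BT.sound ct_nc6_4_cnt_P Known.nil (t := ct_nc6_4_cnt_t) (d := 0) (by decide +kernel)

theorem ct_nc6_4 : ¬ CjIn (grp 276 tt_c4_K) (Net.toPerm 276 g548) (Net.toPerm 276 n_w) :=
  not_cjIn ct_nc6_4_cnt

noncomputable def ct_nc6_5_cnt_L : List ℕ := [0, 15, TC_s0_O, 0, 0]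

theorem ct_nc6_5_cnt_P : Prob 276 9 (grp 276 tt_c4_K) ct_nc6_5_cnt_EG [g548] [n_tw] ct_c5_K ct_nc6_5_cnt_L 0 0 :=
  Sym.prob hn hk ct_c5_sym ct_nc6_5_cnt_EG_ok (grp_nil_le _) (Frames.cons TC_s0_F Frames.nil) (okE_cons.2 ⟨g548_ok, okE_nil _⟩) _

noncomputable def ct_nc6_5_cnt_t : BT := (BT.frm (nat_lit 0) (nat_lit 0) (nat_lit 0) [] (BT.pln (nat_lit 0) (nat_lit 1) (BT.fix (nat_lit 1) (BT.and (nat_lit 1) (nat_lit 0) (BT.cnt (nat_lit 0))))))

theorem ct_nc6_5_cnt : Cnt 276 (grp 276 tt_c4_K) [g548] [n_tw] 0 0 0 0 0 :=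
  BT.sound ct_nc6_5_cnt_P Known.nil (t := ct_nc6_5_cnt_t) (d := 0) (by decide +kernel)

theorem ct_nc6_5 : ¬ CjIn (grp 276 tt_c4_K) (Net.toPerm 276 g548) (Net.toPerm 276 n_tw) :=
  not_cjIn ct_nc6_5_cnt

noncomputable def ct_nc7_1_cnt_L : List ℕ := [0, 15, TC_s0_O, 0, 0]

theorem ct_nc7_1_cnt_P : Prob 276 9 (grp 276 tt_c4_K) ct_nc7_1_cnt_EG [g491] [n_t] ct_c1_K ct_nc7_1_cnt_L 0 0 :=
  Sym.prob hn hk ct_c1_sym ct_nc7_1_cnt_EG_ok (grp_nil_le _) (Frames.cons TC_s0_F Frames.nil) (okE_cons.2 ⟨g491_ok, okE_nil _⟩) _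

noncomputable def ct_nc7_1_cnt_t : BT := (BT.frm (nat_lit 0) (nat_lit 0) (nat_lit 0) [] (BT.pln (nat_lit 0) (nat_lit 4) (BT.fix (nat_lit 1) (BT.and (nat_lit 1) (nat_lit 0) (BT.cnt (nat_lit 0))))))

theorem ct_nc7_1_cnt : Cnt 276 (grp 276 tt_c4_K) [g491] [n_t] 0 0 0 0 0 :=
  BT.sound ct_nc7_1_cnt_P Known.nil (t := ct_nc7_1_cnt_t) (d := 0) (by decide +kernel)

theorem ct_nc7_1 : ¬ CjIn (grp 276 tt_c4_K) (Net.toPerm 276 g491) (Net.toPerm 276 n_t) :=
  not_cjIn ct_nc7_1_cnt

noncomputable def ct_nc7_2_cnt_L : List ℕ := [0, 15, TC_s0_O, 0, 0]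

theorem ct_nc7_2_cnt_P : Prob 276 9 (grp 276 tt_c4_K) ct_nc7_2_cnt_EG [g491] [n_u] ct_c2_K ct_nc7_2_cnt_L 0 0 :=
  Sym.prob hn hk ct_c2_sym ct_nc7_2_cnt_EG_ok (grp_nil_le _) (Frames.cons TC_s0_F Frames.nil) (okE_cons.2 ⟨g491_ok, okE_nil _⟩) _

noncomputable def ct_nc7_2_cnt_t : BT := (BT.frm (nat_lit 0) (nat_lit 0) (nat_lit 0) [] (BT.pln (nat_lit 0) (nat_lit 4) (BT.fix (nat_lit 1) (BT.and (nat_lit 1) (nat_lit 0) (BT.cnt (nat_lit 0))))))

theorem ct_nc7_2_cnt : Cnt 276 (grp 276 tt_c4_K) [g491] [n_u] 0 0 0 0 0 :=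
  BT.sound ct_nc7_2_cnt_P Known.nil (t := ct_nc7_2_cnt_t) (d := 0) (by decide +kernel)

theorem ct_nc7_2 : ¬ CjIn (grp 276 tt_c4_K) (Net.toPerm 276 g491) (Net.toPerm 276 n_u) :=
  not_cjIn ct_nc7_2_cnt

noncomputable def ct_nc7_3_cnt_L : List ℕ := [0, 15, TC_s0_O, 0, 0]

theorem ct_nc7_3_cnt_P : Prob 276 9 (grp 276 tt_c4_K) ct_nc7_3_cnt_EG [g491] [n_tu] ct_c3_K ct_nc7_3_cnt_L 0 0 :=
  Sym.prob hn hk ct_c3_sym ct_nc7_3_cnt_EG_ok (grp_nil_le _) (Frames.cons TC_s0_F Frames.nil) (okE_cons.2 ⟨g491_ok, okE_nil _⟩) _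

noncomputable def ct_nc7_3_cnt_t : BT := (BT.frm (nat_lit 0) (nat_lit 0) (nat_lit 0) [] (BT.pln (nat_lit 0) (nat_lit 2) (BT.fix (nat_lit 1) (BT.and (nat_lit 1) (nat_lit 0) (BT.cnt (nat_lit 0))))))

theorem ct_nc7_3_cnt : Cnt 276 (grp 276 tt_c4_K) [g491] [n_tu] 0 0 0 0 0 :=
  BT.sound ct_nc7_3_cnt_P Known.nil (t := ct_nc7_3_cnt_t) (d := 0) (by decide +kernel)

theorem ct_nc7_3 : ¬ CjIn (grp 276 tt_c4_K) (Net.toPerm 276 g491) (Net.toPerm 276 n_tu) :=
  not_cjIn ct_nc7_3_cnt

noncomputable def ct_nc7_4_cnt_L : List ℕ := [0, 15, TC_s0_O, 0, 0]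

theorem ct_nc7_4_cnt_P : Prob 276 9 (grp 276 tt_c4_K) ct_nc7_4_cnt_EG [g491] [n_w] ct_c4_K ct_nc7_4_cnt_L 0 0 :=
  Sym.prob hn hk ct_c4_sym ct_nc7_4_cnt_EG_ok (grp_nil_le _) (Frames.cons TC_s0_F Frames.nil) (okE_cons.2 ⟨g491_ok, okE_nil _⟩) _

noncomputable def ct_nc7_4_cnt_t : BT := (BT.frm (nat_lit 0) (nat_lit 0) (nat_lit 0) [] (BT.pln (nat_lit 0) (nat_lit 0) (BT.fix (nat_lit 1) (BT.and (nat_lit 1) (nat_lit 0) (BT.cnt (nat_lit 0))))))

theorem ct_nc7_4_cnt : Cnt 276 (grp 276 tt_c4_K) [g491] [n_w] 0 0 0 0 0 :=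
  BT.sound ct_nc7_4_cnt_P Known.nil (t := ct_nc7_4_cnt_t) (d := 0) (by decide +kernel)

theorem ct_nc7_4 : ¬ CjIn (grp 276 tt_c4_K) (Net.toPerm 276 g491) (Net.toPerm 276 n_w) :=
  not_cjIn ct_nc7_4_cnt

noncomputable def ct_nc7_5_cnt_L : List ℕ := [0, 15, TC_s0_O, 0, 0]

theorem ct_nc7_5_cnt_P : Prob 276 9 (grp 276 tt_c4_K) ct_nc7_5_cnt_EG [g491] [n_tw] ct_c5_K ct_nc7_5_cnt_L 0 0 :=
  Sym.prob hn hk ct_c5_sym ct_nc7_5_cnt_EG_ok (grp_nil_le _) (Frames.cons TC_s0_F Frames.nil) (okE_cons.2 ⟨g491_ok, okE_nil _⟩) _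

noncomputable def ct_nc7_5_cnt_t : BT := (BT.frm (nat_lit 0) (nat_lit 0) (nat_lit 0) [] (BT.pln (nat_lit 0) (nat_lit 1) (BT.fix (nat_lit 1) (BT.and (nat_lit 1) (nat_lit 0) (BT.cnt (nat_lit 0))))))

theorem ct_nc7_5_cnt : Cnt 276 (grp 276 tt_c4_K) [g491] [n_tw] 0 0 0 0 0 :=
  BT.sound ct_nc7_5_cnt_P Known.nil (t := ct_nc7_5_cnt_t) (d := 0) (by decide +kernel)

theorem ct_nc7_5 : ¬ CjIn (grp 276 tt_c4_K) (Net.toPerm 276 g491) (Net.toPerm 276 n_tw) :=
  not_cjIn ct_nc7_5_cnt

noncomputable def ct_nc7_6_cnt_L : List ℕ := [0, 15, TC_s0_O, 0, 0]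

theorem ct_nc7_6_cnt_P : Prob 276 9 (grp 276 tt_c4_K) ct_nc7_6_cnt_EG [g491] [g548] ct_c6_K ct_nc7_6_cnt_L 0 0 :=
  Sym.prob hn hk ct_c6_sym ct_nc7_6_cnt_EG_ok (grp_nil_le _) (Frames.cons TC_s0_F Frames.nil) (okE_cons.2 ⟨g491_ok, okE_nil _⟩) _

noncomputable def ct_nc7_6_cnt_t : BT := (BT.frm (nat_lit 0) (nat_lit 0) (nat_lit 0) [] (BT.pln (nat_lit 0) (nat_lit 3) (BT.fix (nat_lit 1) (BT.and (nat_lit 1) (nat_lit 0) (BT.cnt (nat_lit 0))))))

theorem ct_nc7_6_cnt : Cnt 276 (grp 276 tt_c4_K) [g491] [g548] 0 0 0 0 0 :=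
  BT.sound ct_nc7_6_cnt_P Known.nil (t := ct_nc7_6_cnt_t) (d := 0) (by decide +kernel)

theorem ct_nc7_6 : ¬ CjIn (grp 276 tt_c4_K) (Net.toPerm 276 g491) (Net.toPerm 276 g548) :=
  not_cjIn ct_nc7_6_cnt

noncomputable def ct_nc10_9_cnt_L : List ℕ := [0, 15, TC_s0_O, 0, 0]

theorem ct_nc10_9_cnt_P : Prob 276 9 (grp 276 tt_c4_K) ct_nc10_9_cnt_EG [g749] [g742] ct_c9_K ct_nc10_9_cnt_L 0 0 :=
  Sym.prob hn hk ct_c9_sym ct_nc10_9_cnt_EG_ok (grp_nil_le _) (Frames.cons TC_s0_F Frames.nil) (okE_cons.2 ⟨g749_ok, okE_nil _⟩) _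

noncomputable def ct_nc10_9_cnt_t : BT := (BT.frm (nat_lit 0) (nat_lit 0) (nat_lit 0) [] (BT.pln (nat_lit 0) (nat_lit 2) (BT.fix (nat_lit 1) (BT.and (nat_lit 1) (nat_lit 0) (BT.cnt (nat_lit 0))))))

theorem ct_nc10_9_cnt : Cnt 276 (grp 276 tt_c4_K) [g749] [g742] 0 0 0 0 0 :=
  BT.sound ct_nc10_9_cnt_P Known.nil (t := ct_nc10_9_cnt_t) (d := 0) (by decide +kernel)

theorem ct_nc10_9 : ¬ CjIn (grp 276 tt_c4_K) (Net.toPerm 276 g749) (Net.toPerm 276 g742) :=
  not_cjIn ct_nc10_9_cnt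

noncomputable def ct_nc11_9_cnt_L : List ℕ := [0, 15, TC_s0_O, 0, 0]

theorem ct_nc11_9_cnt_P : Prob 276 9 (grp 276 tt_c4_K) ct_nc11_9_cnt_EG [g751] [g742] ct_c9_K ct_nc11_9_cnt_L 0 0 :=
  Sym.prob hn hk ct_c9_sym ct_nc11_9_cnt_EG_ok (grp_nil_le _) (Frames.cons TC_s0_F Frames.nil) (okE_cons.2 ⟨g751_ok, okE_nil _⟩) _

noncomputable def ct_nc11_9_cnt_t : BT := (BT.frm (nat_lit 0) (nat_lit 0) (nat_lit 0) [] (BT.pln (nat_lit 0) (nat_lit 1) (BT.fix (nat_lit 1) (BT.and (nat_lit 1) (nat_lit 0) (BT.cnt (nat_lit 0))))))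

theorem ct_nc11_9_cnt : Cnt 276 (grp 276 tt_c4_K) [g751] [g742] 0 0 0 0 0 :=
  BT.sound ct_nc11_9_cnt_P Known.nil (t := ct_nc11_9_cnt_t) (d := 0) (by decide +kernel)

theorem ct_nc11_9 : ¬ CjIn (grp 276 tt_c4_K) (Net.toPerm 276 g751) (Net.toPerm 276 g742) :=
  not_cjIn ct_nc11_9_cnt

noncomputable def ct_nc11_10_cnt_L : List ℕ := [0, 15, TC_s0_O, 0, 0]

theorem ct_nc11_10_cnt_P : Prob 276 9 (grp 276 tt_c4_K) ct_nc11_10_cnt_EG [g751] [g749] ct_c10_K ct_nc11_10_cnt_L 0 0 :=
  Sym.prob hn hk ct_c10_sym ct_nc11_10_cnt_EG_ok (grp_nil_le _) (Frames.cons TC_s0_F Frames.nil) (okE_cons.2 ⟨g751_ok, okE_nil _⟩) _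

noncomputable def ct_nc11_10_cnt_t : BT := (BT.frm (nat_lit 0) (nat_lit 0) (nat_lit 0) [] (BT.pln (nat_lit 0) (nat_lit 1) (BT.fix (nat_lit 1) (BT.and (nat_lit 1) (nat_lit 0) (BT.cnt (nat_lit 0))))))

theorem ct_nc11_10_cnt : Cnt 276 (grp 276 tt_c4_K) [g751] [g749] 0 0 0 0 0 :=
  BT.sound ct_nc11_10_cnt_P Known.nil (t := ct_nc11_10_cnt_t) (d := 0) (by decide +kernel)

theorem ct_nc11_10 : ¬ CjIn (grp 276 tt_c4_K) (Net.toPerm 276 g751) (Net.toPerm 276 g749) :=
  not_cjIn ct_nc11_10_cnt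

noncomputable def ct_nc12_9_cnt_L : List ℕ := [0, 15, TC_s0_O, 0, 0]

theorem ct_nc12_9_cnt_P : Prob 276 9 (grp 276 tt_c4_K) ct_nc12_9_cnt_EG [g757] [g742] ct_c9_K ct_nc12_9_cnt_L 0 0 :=
  Sym.prob hn hk ct_c9_sym ct_nc12_9_cnt_EG_ok (grp_nil_le _) (Frames.cons TC_s0_F Frames.nil) (okE_cons.2 ⟨g757_ok, okE_nil _⟩) _

noncomputable def ct_nc12_9_cnt_t : BT := (BT.frm (nat_lit 0) (nat_lit 0) (nat_lit 0) [] (BT.pln (nat_lit 0) (nat_lit 2) (BT.fix (nat_lit 1) (BT.and (nat_lit 1) (nat_lit 0) (BT.cnt (nat_lit 0))))))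

theorem ct_nc12_9_cnt : Cnt 276 (grp 276 tt_c4_K) [g757] [g742] 0 0 0 0 0 :=
  BT.sound ct_nc12_9_cnt_P Known.nil (t := ct_nc12_9_cnt_t) (d := 0) (by decide +kernel)

theorem ct_nc12_9 : ¬ CjIn (grp 276 tt_c4_K) (Net.toPerm 276 g757) (Net.toPerm 276 g742) :=
  not_cjIn ct_nc12_9_cnt

noncomputable def ct_nc12_10_cnt_L : List ℕ := [0, 15, TC_s0_O, 0, 0]

theorem ct_nc12_10_cnt_P : Prob 276 9 (grp 276 tt_c4_K) ct_nc12_10_cnt_EG [g757] [g749] ct_c10_K ct_nc12_10_cnt_L 0 0 :=
  Sym.prob hn hk ct_c10_sym ct_nc12_10_cnt_EG_ok (grp_nil_le _) (Frames.cons TC_s0_F Frames.nil) (okE_cons.2 ⟨g757_ok, okE_nil _⟩) _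

noncomputable def ct_nc12_10_cnt_t : BT := (BT.frm (nat_lit 0) (nat_lit 0) (nat_lit 0) [] (BT.pln (nat_lit 0) (nat_lit 4) (BT.fix (nat_lit 1) (BT.and (nat_lit 1) (nat_lit 0) (BT.cnt (nat_lit 0))))))

theorem ct_nc12_10_cnt : Cnt 276 (grp 276 tt_c4_K) [g757] [g749] 0 0 0 0 0 :=
  BT.sound ct_nc12_10_cnt_P Known.nil (t := ct_nc12_10_cnt_t) (d := 0) (by decide +kernel)

theorem ct_nc12_10 : ¬ CjIn (grp 276 tt_c4_K) (Net.toPerm 276 g757) (Net.toPerm 276 g749) :=
  not_cjIn ct_nc12_10_cnt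

noncomputable def ct_nc12_11_cnt_L : List ℕ := [0, 15, TC_s0_O, 0, 0]

theorem ct_nc12_11_cnt_P : Prob 276 9 (grp 276 tt_c4_K) ct_nc12_11_cnt_EG [g757] [g751] ct_c11_K ct_nc12_11_cnt_L 0 0 :=
  Sym.prob hn hk ct_c11_sym ct_nc12_11_cnt_EG_ok (grp_nil_le _) (Frames.cons TC_s0_F Frames.nil) (okE_cons.2 ⟨g757_ok, okE_nil _⟩) _

noncomputable def ct_nc12_11_cnt_t : BT := (BT.frm (nat_lit 0) (nat_lit 0) (nat_lit 0) [] (BT.pln (nat_lit 0) (nat_lit 1) (BT.fix (nat_lit 1) (BT.and (nat_lit 1) (nat_lit 0) (BT.cnt (nat_lit 0))))))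

theorem ct_nc12_11_cnt : Cnt 276 (grp 276 tt_c4_K) [g757] [g751] 0 0 0 0 0 :=
  BT.sound ct_nc12_11_cnt_P Known.nil (t := ct_nc12_11_cnt_t) (d := 0) (by decide +kernel)

theorem ct_nc12_11 : ¬ CjIn (grp 276 tt_c4_K) (Net.toPerm 276 g757) (Net.toPerm 276 g751) :=
  not_cjIn ct_nc12_11_cnt

noncomputable def ct_nc13_9_cnt_L : List ℕ := [0, 15, TC_s0_O, 0, 0]

theorem ct_nc13_9_cnt_P : Prob 276 9 (grp 276 tt_c4_K) ct_nc13_9_cnt_EG [g764] [g742] ct_c9_K ct_nc13_9_cnt_L 0 0 :=
  Sym.prob hn hk ct_c9_sym ct_nc13_9_cnt_EG_ok (grp_nil_le _) (Frames.cons TC_s0_F Frames.nil) (okE_cons.2 ⟨g764_ok, okE_nil _⟩) _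

noncomputable def ct_nc13_9_cnt_t : BT := (BT.frm (nat_lit 0) (nat_lit 0) (nat_lit 0) [] (BT.pln (nat_lit 0) (nat_lit 2) (BT.fix (nat_lit 1) (BT.and (nat_lit 1) (nat_lit 0) (BT.cnt (nat_lit 0))))))

theorem ct_nc13_9_cnt : Cnt 276 (grp 276 tt_c4_K) [g764] [g742] 0 0 0 0 0 :=
  BT.sound ct_nc13_9_cnt_P Known.nil (t := ct_nc13_9_cnt_t) (d := 0) (by decide +kernel)

theorem ct_nc13_9 : ¬ CjIn (grp 276 tt_c4_K) (Net.toPerm 276 g764) (Net.toPerm 276 g742) :=
  not_cjIn ct_nc13_9_cnt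

noncomputable def ct_nc13_10_cnt_L : List ℕ := [0, 15, TC_s0_O, 0, 0]

theorem ct_nc13_10_cnt_P : Prob 276 9 (grp 276 tt_c4_K) ct_nc13_10_cnt_EG [g764] [g749] ct_c10_K ct_nc13_10_cnt_L 0 0 :=
  Sym.prob hn hk ct_c10_sym ct_nc13_10_cnt_EG_ok (grp_nil_le _) (Frames.cons TC_s0_F Frames.nil) (okE_cons.2 ⟨g764_ok, okE_nil _⟩) _

noncomputable def ct_nc13_10_cnt_t : BT := (BT.frm (nat_lit 0) (nat_lit 0) (nat_lit 0) [] (BT.pln (nat_lit 0) (nat_lit 3) (BT.fix (nat_lit 1) (BT.and (nat_lit 1) (nat_lit 0) (BT.cnt (nat_lit 0))))))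

theorem ct_nc13_10_cnt : Cnt 276 (grp 276 tt_c4_K) [g764] [g749] 0 0 0 0 0 :=
  BT.sound ct_nc13_10_cnt_P Known.nil (t := ct_nc13_10_cnt_t) (d := 0) (by decide +kernel)

theorem ct_nc13_10 : ¬ CjIn (grp 276 tt_c4_K) (Net.toPerm 276 g764) (Net.toPerm 276 g749) :=
  not_cjIn ct_nc13_10_cnt

noncomputable def ct_nc13_11_cnt_L : List ℕ := [0, 15, TC_s0_O, 0, 0]

theorem ct_nc13_11_cnt_P : Prob 276 9 (grp 276 tt_c4_K) ct_nc13_11_cnt_EG [g764] [g751] ct_c11_K ct_nc13_11_cnt_L 0 0 :=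
  Sym.prob hn hk ct_c11_sym ct_nc13_11_cnt_EG_ok (grp_nil_le _) (Frames.cons TC_s0_F Frames.nil) (okE_cons.2 ⟨g764_ok, okE_nil _⟩) _

noncomputable def ct_nc13_11_cnt_t : BT := (BT.frm (nat_lit 0) (nat_lit 0) (nat_lit 0) [] (BT.pln (nat_lit 0) (nat_lit 1) (BT.fix (nat_lit 1) (BT.and (nat_lit 1) (nat_lit 0) (BT.cnt (nat_lit 0))))))

theorem ct_nc13_11_cnt : Cnt 276 (grp 276 tt_c4_K) [g764] [g751] 0 0 0 0 0 :=
  BT.sound ct_nc13_11_cnt_P Known.nil (t := ct_nc13_11_cnt_t) (d := 0) (by decide +kernel)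

theorem ct_nc13_11 : ¬ CjIn (grp 276 tt_c4_K) (Net.toPerm 276 g764) (Net.toPerm 276 g751) :=
  not_cjIn ct_nc13_11_cnt

noncomputable def ct_nc13_12_cnt_L : List ℕ := [0, 15, TC_s0_O, 0, 0]

theorem ct_nc13_12_cnt_P : Prob 276 9 (grp 276 tt_c4_K) ct_nc13_12_cnt_EG [g764] [g757] ct_c12_K ct_nc13_12_cnt_L 0 0 :=
  Sym.prob hn hk ct_c12_sym ct_nc13_12_cnt_EG_ok (grp_nil_le _) (Frames.cons TC_s0_F Frames.nil) (okE_cons.2 ⟨g764_ok, okE_nil _⟩) _

noncomputable def ct_nc13_12_cnt_t : BT := (BT.frm (nat_lit 0) (nat_lit 0) (nat_lit 0) [] (BT.pln (nat_lit 0) (nat_lit 3) (BT.fix (nat_lit 1) (BT.and (nat_lit 1) (nat_lit 0) (BT.cnt (nat_lit 0))))))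

theorem ct_nc13_12_cnt : Cnt 276 (grp 276 tt_c4_K) [g764] [g757] 0 0 0 0 0 :=
  BT.sound ct_nc13_12_cnt_P Known.nil (t := ct_nc13_12_cnt_t) (d := 0) (by decide +kernel)

theorem ct_nc13_12 : ¬ CjIn (grp 276 tt_c4_K) (Net.toPerm 276 g764) (Net.toPerm 276 g757) :=
  not_cjIn ct_nc13_12_cnt

noncomputable def ct_nc14_9_cnt_L : List ℕ := [0, 15, TC_s0_O, 0, 0]

theorem ct_nc14_9_cnt_P : Prob 276 9 (grp 276 tt_c4_K) ct_nc14_9_cnt_EG [g771] [g742] ct_c9_K ct_nc14_9_cnt_L 0 0 :=
  Sym.prob hn hk ct_c9_sym ct_nc14_9_cnt_EG_ok (grp_nil_le _) (Frames.cons TC_s0_F Frames.nil) (okE_cons.2 ⟨g771_ok, okE_nil _⟩) _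

noncomputable def ct_nc14_9_cnt_t : BT := (BT.frm (nat_lit 0) (nat_lit 0) (nat_lit 0) [] (BT.pln (nat_lit 0) (nat_lit 0) (BT.fix (nat_lit 1) (BT.and (nat_lit 1) (nat_lit 0) (BT.cnt (nat_lit 0))))))

theorem ct_nc14_9_cnt : Cnt 276 (grp 276 tt_c4_K) [g771] [g742] 0 0 0 0 0 :=
  BT.sound ct_nc14_9_cnt_P Known.nil (t := ct_nc14_9_cnt_t) (d := 0) (by decide +kernel)

theorem ct_nc14_9 : ¬ CjIn (grp 276 tt_c4_K) (Net.toPerm 276 g771) (Net.toPerm 276 g742) :=
  not_cjIn ct_nc14_9_cnt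

noncomputable def ct_nc14_10_cnt_L : List ℕ := [0, 15, TC_s0_O, 0, 0]

theorem ct_nc14_10_cnt_P : Prob 276 9 (grp 276 tt_c4_K) ct_nc14_10_cnt_EG [g771] [g749] ct_c10_K ct_nc14_10_cnt_L 0 0 :=
  Sym.prob hn hk ct_c10_sym ct_nc14_10_cnt_EG_ok (grp_nil_le _) (Frames.cons TC_s0_F Frames.nil) (okE_cons.2 ⟨g771_ok, okE_nil _⟩) _

noncomputable def ct_nc14_10_cnt_t : BT := (BT.frm (nat_lit 0) (nat_lit 0) (nat_lit 0) [] (BT.pln (nat_lit 0) (nat_lit 0) (BT.fix (nat_lit 1) (BT.and (nat_lit 1) (nat_lit 0) (BT.cnt (nat_lit 0))))))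

theorem ct_nc14_10_cnt : Cnt 276 (grp 276 tt_c4_K) [g771] [g749] 0 0 0 0 0 :=
  BT.sound ct_nc14_10_cnt_P Known.nil (t := ct_nc14_10_cnt_t) (d := 0) (by decide +kernel)

theorem ct_nc14_10 : ¬ CjIn (grp 276 tt_c4_K) (Net.toPerm 276 g771) (Net.toPerm 276 g749) :=
  not_cjIn ct_nc14_10_cnt

noncomputable def ct_nc14_11_cnt_L : List ℕ := [0, 15, TC_s0_O, 0, 0]

theorem ct_nc14_11_cnt_P : Prob 276 9 (grp 276 tt_c4_K) ct_nc14_11_cnt_EG [g771] [g751] ct_c11_K ct_nc14_11_cnt_L 0 0 :=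
  Sym.prob hn hk ct_c11_sym ct_nc14_11_cnt_EG_ok (grp_nil_le _) (Frames.cons TC_s0_F Frames.nil) (okE_cons.2 ⟨g771_ok, okE_nil _⟩) _

noncomputable def ct_nc14_11_cnt_t : BT := (BT.frm (nat_lit 0) (nat_lit 0) (nat_lit 0) [] (BT.pln (nat_lit 0) (nat_lit 0) (BT.fix (nat_lit 1) (BT.and (nat_lit 1) (nat_lit 0) (BT.cnt (nat_lit 0))))))

theorem ct_nc14_11_cnt : Cnt 276 (grp 276 tt_c4_K) [g771] [g751] 0 0 0 0 0 :=
  BT.sound ct_nc14_11_cnt_P Known.nil (t := ct_nc14_11_cnt_t) (d := 0) (by decide +kernel)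

theorem ct_nc14_11 : ¬ CjIn (grp 276 tt_c4_K) (Net.toPerm 276 g771) (Net.toPerm 276 g751) :=
  not_cjIn ct_nc14_11_cnt

noncomputable def ct_nc14_12_cnt_L : List ℕ := [0, 15, TC_s0_O, 0, 0]

theorem ct_nc14_12_cnt_P : Prob 276 9 (grp 276 tt_c4_K) ct_nc14_12_cnt_EG [g771] [g757] ct_c12_K ct_nc14_12_cnt_L 0 0 :=
  Sym.prob hn hk ct_c12_sym ct_nc14_12_cnt_EG_ok (grp_nil_le _) (Frames.cons TC_s0_F Frames.nil) (okE_cons.2 ⟨g771_ok, okE_nil _⟩) _

noncomputable def ct_nc14_12_cnt_t : BT := (BT.frm (nat_lit 0) (nat_lit 0) (nat_lit 0) [] (BT.pln (nat_lit 0) (nat_lit 0) (BT.fix (nat_lit 1) (BT.and (nat_lit 1) (nat_lit 0) (BT.cnt (nat_lit 0))))))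

theorem ct_nc14_12_cnt : Cnt 276 (grp 276 tt_c4_K) [g771] [g757] 0 0 0 0 0 :=
  BT.sound ct_nc14_12_cnt_P Known.nil (t := ct_nc14_12_cnt_t) (d := 0) (by decide +kernel)

theorem ct_nc14_12 : ¬ CjIn (grp 276 tt_c4_K) (Net.toPerm 276 g771) (Net.toPerm 276 g757) :=
  not_cjIn ct_nc14_12_cnt

noncomputable def ct_nc14_13_cnt_L : List ℕ := [0, 15, TC_s0_O, 0, 0]

theorem ct_nc14_13_cnt_P : Prob 276 9 (grp 276 tt_c4_K) ct_nc14_13_cnt_EG [g771] [g764] ct_c13_K ct_nc14_13_cnt_L 0 0 :=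
  Sym.prob hn hk ct_c13_sym ct_nc14_13_cnt_EG_ok (grp_nil_le _) (Frames.cons TC_s0_F Frames.nil) (okE_cons.2 ⟨g771_ok, okE_nil _⟩) _

noncomputable def ct_nc14_13_cnt_t : BT := (BT.frm (nat_lit 0) (nat_lit 0) (nat_lit 0) [] (BT.pln (nat_lit 0) (nat_lit 0) (BT.fix (nat_lit 1) (BT.and (nat_lit 1) (nat_lit 0) (BT.cnt (nat_lit 0))))))

theorem ct_nc14_13_cnt : Cnt 276 (grp 276 tt_c4_K) [g771] [g764] 0 0 0 0 0 :=
  BT.sound ct_nc14_13_cnt_P Known.nil (t := ct_nc14_13_cnt_t) (d := 0) (by decide +kernel)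

theorem ct_nc14_13 : ¬ CjIn (grp 276 tt_c4_K) (Net.toPerm 276 g771) (Net.toPerm 276 g764) :=
  not_cjIn ct_nc14_13_cnt

noncomputable def ct_nc15_9_cnt_L : List ℕ := [0, 15, TC_s0_O, 0, 0]

theorem ct_nc15_9_cnt_P : Prob 276 9 (grp 276 tt_c4_K) ct_nc15_9_cnt_EG [g779] [g742] ct_c9_K ct_nc15_9_cnt_L 0 0 :=
  Sym.prob hn hk ct_c9_sym ct_nc15_9_cnt_EG_ok (grp_nil_le _) (Frames.cons TC_s0_F Frames.nil) (okE_cons.2 ⟨g779_ok, okE_nil _⟩) _

noncomputable def ct_nc15_9_cnt_t : BT := (BT.frm (nat_lit 0) (nat_lit 0) (nat_lit 0) [] (BT.pln (nat_lit 0) (nat_lit 2) (BT.fix (nat_lit 1) (BT.and (nat_lit 1) (nat_lit 0) (BT.cnt (nat_lit 0))))))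

theorem ct_nc15_9_cnt : Cnt 276 (grp 276 tt_c4_K) [g779] [g742] 0 0 0 0 0 :=
  BT.sound ct_nc15_9_cnt_P Known.nil (t := ct_nc15_9_cnt_t) (d := 0) (by decide +kernel)

theorem ct_nc15_9 : ¬ CjIn (grp 276 tt_c4_K) (Net.toPerm 276 g779) (Net.toPerm 276 g742) :=
  not_cjIn ct_nc15_9_cnt

noncomputable def ct_nc15_10_cnt_L : List ℕ := [0, 15, TC_s0_O, 0, 0]

theorem ct_nc15_10_cnt_P : Prob 276 9 (grp 276 tt_c4_K) ct_nc15_10_cnt_EG [g779] [g749] ct_c10_K ct_nc15_10_cnt_L 0 0 :=
  Sym.prob hn hk ct_c10_sym ct_nc15_10_cnt_EG_ok (grp_nil_le _) (Frames.cons TC_s0_F Frames.nil) (okE_cons.2 ⟨g779_ok, okE_nil _⟩) _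

noncomputable def ct_nc15_10_cnt_t : BT := (BT.frm (nat_lit 0) (nat_lit 0) (nat_lit 0) [] (BT.pln (nat_lit 0) (nat_lit 5) (BT.fix (nat_lit 1) (BT.and (nat_lit 1) (nat_lit 0) (BT.cnt (nat_lit 0))))))

theorem ct_nc15_10_cnt : Cnt 276 (grp 276 tt_c4_K) [g779] [g749] 0 0 0 0 0 :=
  BT.sound ct_nc15_10_cnt_P Known.nil (t := ct_nc15_10_cnt_t) (d := 0) (by decide +kernel)

theorem ct_nc15_10 : ¬ CjIn (grp 276 tt_c4_K) (Net.toPerm 276 g779) (Net.toPerm 276 g749) :=
  not_cjIn ct_nc15_10_cnt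

noncomputable def ct_nc15_11_cnt_L : List ℕ := [0, 15, TC_s0_O, 0, 0]

theorem ct_nc15_11_cnt_P : Prob 276 9 (grp 276 tt_c4_K) ct_nc15_11_cnt_EG [g779] [g751] ct_c11_K ct_nc15_11_cnt_L 0 0 :=
  Sym.prob hn hk ct_c11_sym ct_nc15_11_cnt_EG_ok (grp_nil_le _) (Frames.cons TC_s0_F Frames.nil) (okE_cons.2 ⟨g779_ok, okE_nil _⟩) _

noncomputable def ct_nc15_11_cnt_t : BT := (BT.frm (nat_lit 0) (nat_lit 0) (nat_lit 0) [] (BT.pln (nat_lit 0) (nat_lit 1) (BT.fix (nat_lit 1) (BT.and (nat_lit 1) (nat_lit 0) (BT.cnt (nat_lit 0))))))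

theorem ct_nc15_11_cnt : Cnt 276 (grp 276 tt_c4_K) [g779] [g751] 0 0 0 0 0 :=
  BT.sound ct_nc15_11_cnt_P Known.nil (t := ct_nc15_11_cnt_t) (d := 0) (by decide +kernel)

theorem ct_nc15_11 : ¬ CjIn (grp 276 tt_c4_K) (Net.toPerm 276 g779) (Net.toPerm 276 g751) :=
  not_cjIn ct_nc15_11_cnt

noncomputable def ct_nc15_12_cnt_L : List ℕ := [0, 15, TC_s0_O, 0, 0]

theorem ct_nc15_12_cnt_P : Prob 276 9 (grp 276 tt_c4_K) ct_nc15_12_cnt_EG [g779] [g757] ct_c12_K ct_nc15_12_cnt_L 0 0 :=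
  Sym.prob hn hk ct_c12_sym ct_nc15_12_cnt_EG_ok (grp_nil_le _) (Frames.cons TC_s0_F Frames.nil) (okE_cons.2 ⟨g779_ok, okE_nil _⟩) _

noncomputable def ct_nc15_12_cnt_t : BT := (BT.frm (nat_lit 0) (nat_lit 0) (nat_lit 0) [] (BT.pln (nat_lit 0) (nat_lit 4) (BT.fix (nat_lit 1) (BT.and (nat_lit 1) (nat_lit 0) (BT.cnt (nat_lit 0))))))

theorem ct_nc15_12_cnt : Cnt 276 (grp 276 tt_c4_K) [g779] [g757] 0 0 0 0 0 :=
  BT.sound ct_nc15_12_cnt_P Known.nil (t := ct_nc15_12_cnt_t) (d := 0) (by decide +kernel)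

theorem ct_nc15_12 : ¬ CjIn (grp 276 tt_c4_K) (Net.toPerm 276 g779) (Net.toPerm 276 g757) :=
  not_cjIn ct_nc15_12_cnt

noncomputable def ct_nc15_13_cnt_L : List ℕ := [0, 15, TC_s0_O, 0, 0]

theorem ct_nc15_13_cnt_P : Prob 276 9 (grp 276 tt_c4_K) ct_nc15_13_cnt_EG [g779] [g764] ct_c13_K ct_nc15_13_cnt_L 0 0 :=
  Sym.prob hn hk ct_c13_sym ct_nc15_13_cnt_EG_ok (grp_nil_le _) (Frames.cons TC_s0_F Frames.nil) (okE_cons.2 ⟨g779_ok, okE_nil _⟩) _

noncomputable def ct_nc15_13_cnt_t : BT := (BT.frm (nat_lit 0) (nat_lit 0) (nat_lit 0) [] (BT.pln (nat_lit 0) (nat_lit 3) (BT.fix (nat_lit 1) (BT.and (nat_lit 1) (nat_lit 0) (BT.cnt (nat_lit 0))))))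

theorem ct_nc15_13_cnt : Cnt 276 (grp 276 tt_c4_K) [g779] [g764] 0 0 0 0 0 :=
  BT.sound ct_nc15_13_cnt_P Known.nil (t := ct_nc15_13_cnt_t) (d := 0) (by decide +kernel)

theorem ct_nc15_13 : ¬ CjIn (grp 276 tt_c4_K) (Net.toPerm 276 g779) (Net.toPerm 276 g764) :=
  not_cjIn ct_nc15_13_cnt

noncomputable def ct_nc15_14_cnt_L : List ℕ := [0, 15, TC_s0_O, 0, 0]

theorem ct_nc15_14_cnt_P : Prob 276 9 (grp 276 tt_c4_K) ct_nc15_14_cnt_EG [g779] [g771] ct_c14_K ct_nc15_14_cnt_L 0 0 :=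
  Sym.prob hn hk ct_c14_sym ct_nc15_14_cnt_EG_ok (grp_nil_le _) (Frames.cons TC_s0_F Frames.nil) (okE_cons.2 ⟨g779_ok, okE_nil _⟩) _

noncomputable def ct_nc15_14_cnt_t : BT := (BT.frm (nat_lit 0) (nat_lit 0) (nat_lit 0) [] (BT.pln (nat_lit 0) (nat_lit 0) (BT.fix (nat_lit 1) (BT.and (nat_lit 1) (nat_lit 0) (BT.cnt (nat_lit 0))))))

theorem ct_nc15_14_cnt : Cnt 276 (grp 276 tt_c4_K) [g779] [g771] 0 0 0 0 0 :=
  BT.sound ct_nc15_14_cnt_P Known.nil (t := ct_nc15_14_cnt_t) (d := 0) (by decide +kernel)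

theorem ct_nc15_14 : ¬ CjIn (grp 276 tt_c4_K) (Net.toPerm 276 g779) (Net.toPerm 276 g771) :=
  not_cjIn ct_nc15_14_cnt

noncomputable def ct_nc17_16_cnt_L : List ℕ := [0, 15, TC_s0_O, 0, 0]

theorem ct_nc17_16_cnt_P : Prob 276 9 (grp 276 tt_c4_K) ct_nc17_16_cnt_EG [g127] [g705] ct_c16_K ct_nc17_16_cnt_L 0 0 :=
  Sym.prob hn hk ct_c16_sym ct_nc17_16_cnt_EG_ok (grp_nil_le _) (Frames.cons TC_s0_F Frames.nil) (okE_cons.2 ⟨g127_ok, okE_nil _⟩) _

noncomputable def ct_nc17_16_cnt_t : BT := (BT.frm (nat_lit 0) (nat_lit 0) (nat_lit 0) [] (BT.pln (nat_lit 0) (nat_lit 4) (BT.fix (nat_lit 257) (BT.and (nat_lit 1) (nat_lit 0) (BT.cnt (nat_lit 0))))))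

theorem ct_nc17_16_cnt : Cnt 276 (grp 276 tt_c4_K) [g127] [g705] 0 0 0 0 0 :=
  BT.sound ct_nc17_16_cnt_P Known.nil (t := ct_nc17_16_cnt_t) (d := 0) (by decide +kernel)

theorem ct_nc17_16 : ¬ CjIn (grp 276 tt_c4_K) (Net.toPerm 276 g127) (Net.toPerm 276 g705) :=
  not_cjIn ct_nc17_16_cnt

noncomputable def ct_nc19_16_cnt_L : List ℕ := [0, 15, TC_s0_O, 0, 0]

theorem ct_nc19_16_cnt_P : Prob 276 9 (grp 276 tt_c4_K) ct_nc19_16_cnt_EG [g717] [g705] ct_c16_K ct_nc19_16_cnt_L 0 0 :=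
  Sym.prob hn hk ct_c16_sym ct_nc19_16_cnt_EG_ok (grp_nil_le _) (Frames.cons TC_s0_F Frames.nil) (okE_cons.2 ⟨g717_ok, okE_nil _⟩) _

noncomputable def ct_nc19_16_cnt_t : BT := (BT.frm (nat_lit 0) (nat_lit 0) (nat_lit 0) [] (BT.pln (nat_lit 0) (nat_lit 3) (BT.fix (nat_lit 257) (BT.and (nat_lit 1) (nat_lit 0) (BT.cnt (nat_lit 0))))))

theorem ct_nc19_16_cnt : Cnt 276 (grp 276 tt_c4_K) [g717] [g705] 0 0 0 0 0 :=
  BT.sound ct_nc19_16_cnt_P Known.nil (t := ct_nc19_16_cnt_t) (d := 0) (by decide +kernel)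

theorem ct_nc19_16 : ¬ CjIn (grp 276 tt_c4_K) (Net.toPerm 276 g717) (Net.toPerm 276 g705) :=
  not_cjIn ct_nc19_16_cnt

noncomputable def ct_nc19_17_cnt_L : List ℕ := [0, 15, TC_s0_O, 0, 0]

theorem ct_nc19_17_cnt_P : Prob 276 9 (grp 276 tt_c4_K) ct_nc19_17_cnt_EG [g717] [g127] ct_c17_K ct_nc19_17_cnt_L 0 0 :=
  Sym.prob hn hk ct_c17_sym ct_nc19_17_cnt_EG_ok (grp_nil_le _) (Frames.cons TC_s0_F Frames.nil) (okE_cons.2 ⟨g717_ok, okE_nil _⟩) _

noncomputable def ct_nc19_17_cnt_t : BT := (BT.frm (nat_lit 0) (nat_lit 0) (nat_lit 0) [] (BT.pln (nat_lit 0) (nat_lit 3) (BT.fix (nat_lit 257) (BT.and (nat_lit 1) (nat_lit 0) (BT.cnt (nat_lit 0))))))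

theorem ct_nc19_17_cnt : Cnt 276 (grp 276 tt_c4_K) [g717] [g127] 0 0 0 0 0 :=
  BT.sound ct_nc19_17_cnt_P Known.nil (t := ct_nc19_17_cnt_t) (d := 0) (by decide +kernel)

theorem ct_nc19_17 : ¬ CjIn (grp 276 tt_c4_K) (Net.toPerm 276 g717) (Net.toPerm 276 g127) :=
  not_cjIn ct_nc19_17_cnt

noncomputable def ct_nc20_16_cnt_L : List ℕ := [0, 15, TC_s0_O, 0, 0]

theorem ct_nc20_16_cnt_P : Prob 276 9 (grp 276 tt_c4_K) ct_nc20_16_cnt_EG [g790] [g705] ct_c16_K ct_nc20_16_cnt_L 0 0 :=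
  Sym.prob hn hk ct_c16_sym ct_nc20_16_cnt_EG_ok (grp_nil_le _) (Frames.cons TC_s0_F Frames.nil) (okE_cons.2 ⟨g790_ok, okE_nil _⟩) _

noncomputable def ct_nc20_16_cnt_t : BT := (BT.frm (nat_lit 0) (nat_lit 0) (nat_lit 0) [] (BT.pln (nat_lit 0) (nat_lit 0) (BT.fix (nat_lit 257) (BT.and (nat_lit 1) (nat_lit 0) (BT.cnt (nat_lit 0))))))

theorem ct_nc20_16_cnt : Cnt 276 (grp 276 tt_c4_K) [g790] [g705] 0 0 0 0 0 :=
  BT.sound ct_nc20_16_cnt_P Known.nil (t := ct_nc20_16_cnt_t) (d := 0) (by decide +kernel)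

theorem ct_nc20_16 : ¬ CjIn (grp 276 tt_c4_K) (Net.toPerm 276 g790) (Net.toPerm 276 g705) :=
  not_cjIn ct_nc20_16_cnt

noncomputable def ct_nc20_17_cnt_L : List ℕ := [0, 15, TC_s0_O, 0, 0]

theorem ct_nc20_17_cnt_P : Prob 276 9 (grp 276 tt_c4_K) ct_nc20_17_cnt_EG [g790] [g127] ct_c17_K ct_nc20_17_cnt_L 0 0 :=
  Sym.prob hn hk ct_c17_sym ct_nc20_17_cnt_EG_ok (grp_nil_le _) (Frames.cons TC_s0_F Frames.nil) (okE_cons.2 ⟨g790_ok, okE_nil _⟩) _

noncomputable def ct_nc20_17_cnt_t : BT := (BT.frm (nat_lit 0) (nat_lit 0) (nat_lit 0) [] (BT.pln (nat_lit 0) (nat_lit 0) (BT.fix (nat_lit 257) (BT.and (nat_lit 1) (nat_lit 0) (BT.cnt (nat_lit 0))))))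

theorem ct_nc20_17_cnt : Cnt 276 (grp 276 tt_c4_K) [g790] [g127] 0 0 0 0 0 :=
  BT.sound ct_nc20_17_cnt_P Known.nil (t := ct_nc20_17_cnt_t) (d := 0) (by decide +kernel)

theorem ct_nc20_17 : ¬ CjIn (grp 276 tt_c4_K) (Net.toPerm 276 g790) (Net.toPerm 276 g127) :=
  not_cjIn ct_nc20_17_cnt

noncomputable def ct_nc20_19_cnt_L : List ℕ := [0, 15, TC_s0_O, 0, 0]

theorem ct_nc20_19_cnt_P : Prob 276 9 (grp 276 tt_c4_K) ct_nc20_19_cnt_EG [g790] [g717] ct_c19_K ct_nc20_19_cnt_L 0 0 :=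
  Sym.prob hn hk ct_c19_sym ct_nc20_19_cnt_EG_ok (grp_nil_le _) (Frames.cons TC_s0_F Frames.nil) (okE_cons.2 ⟨g790_ok, okE_nil _⟩) _

noncomputable def ct_nc20_19_cnt_t : BT := (BT.frm (nat_lit 0) (nat_lit 0) (nat_lit 0) [] (BT.pln (nat_lit 0) (nat_lit 0) (BT.fix (nat_lit 257) (BT.and (nat_lit 1) (nat_lit 0) (BT.cnt (nat_lit 0))))))

theorem ct_nc20_19_cnt : Cnt 276 (grp 276 tt_c4_K) [g790] [g717] 0 0 0 0 0 :=
  BT.sound ct_nc20_19_cnt_P Known.nil (t := ct_nc20_19_cnt_t) (d := 0) (by decide +kernel)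

theorem ct_nc20_19 : ¬ CjIn (grp 276 tt_c4_K) (Net.toPerm 276 g790) (Net.toPerm 276 g717) :=
  not_cjIn ct_nc20_19_cnt

noncomputable def ct_nc21_16_cnt_L : List ℕ := [0, 15, TC_s0_O, 0, 0]

theorem ct_nc21_16_cnt_P : Prob 276 9 (grp 276 tt_c4_K) ct_nc21_16_cnt_EG [g792] [g705] ct_c16_K ct_nc21_16_cnt_L 0 0 :=
  Sym.prob hn hk ct_c16_sym ct_nc21_16_cnt_EG_ok (grp_nil_le _) (Frames.cons TC_s0_F Frames.nil) (okE_cons.2 ⟨g792_ok, okE_nil _⟩) _

noncomputable def ct_nc21_16_cnt_t : BT := (BT.frm (nat_lit 0) (nat_lit 0) (nat_lit 0) [] (BT.pln (nat_lit 0) (nat_lit 1) (BT.fix (nat_lit 257) (BT.and (nat_lit 1) (nat_lit 0) (BT.cnt (nat_lit 0))))))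

theorem ct_nc21_16_cnt : Cnt 276 (grp 276 tt_c4_K) [g792] [g705] 0 0 0 0 0 :=
  BT.sound ct_nc21_16_cnt_P Known.nil (t := ct_nc21_16_cnt_t) (d := 0) (by decide +kernel)

theorem ct_nc21_16 : ¬ CjIn (grp 276 tt_c4_K) (Net.toPerm 276 g792) (Net.toPerm 276 g705) :=
  not_cjIn ct_nc21_16_cnt

noncomputable def ct_nc21_17_cnt_L : List ℕ := [0, 15, TC_s0_O, 0, 0]

theorem ct_nc21_17_cnt_P : Prob 276 9 (grp 276 tt_c4_K) ct_nc21_17_cnt_EG [g792] [g127] ct_c17_K ct_nc21_17_cnt_L 0 0 :=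
  Sym.prob hn hk ct_c17_sym ct_nc21_17_cnt_EG_ok (grp_nil_le _) (Frames.cons TC_s0_F Frames.nil) (okE_cons.2 ⟨g792_ok, okE_nil _⟩) _

noncomputable def ct_nc21_17_cnt_t : BT := (BT.frm (nat_lit 0) (nat_lit 0) (nat_lit 0) [] (BT.pln (nat_lit 0) (nat_lit 1) (BT.fix (nat_lit 257) (BT.and (nat_lit 1) (nat_lit 0) (BT.cnt (nat_lit 0))))))

theorem ct_nc21_17_cnt : Cnt 276 (grp 276 tt_c4_K) [g792] [g127] 0 0 0 0 0 :=
  BT.sound ct_nc21_17_cnt_P Known.nil (t := ct_nc21_17_cnt_t) (d := 0) (by decide +kernel)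

theorem ct_nc21_17 : ¬ CjIn (grp 276 tt_c4_K) (Net.toPerm 276 g792) (Net.toPerm 276 g127) :=
  not_cjIn ct_nc21_17_cnt

noncomputable def ct_nc21_19_cnt_L : List ℕ := [0, 15, TC_s0_O, 0, 0]

theorem ct_nc21_19_cnt_P : Prob 276 9 (grp 276 tt_c4_K) ct_nc21_19_cnt_EG [g792] [g717] ct_c19_K ct_nc21_19_cnt_L 0 0 :=
  Sym.prob hn hk ct_c19_sym ct_nc21_19_cnt_EG_ok (grp_nil_le _) (Frames.cons TC_s0_F Frames.nil) (okE_cons.2 ⟨g792_ok, okE_nil _⟩) _

noncomputable def ct_nc21_19_cnt_t : BT := (BT.frm (nat_lit 0) (nat_lit 0) (nat_lit 0) [] (BT.pln (nat_lit 0) (nat_lit 1) (BT.fix (nat_lit 257) (BT.and (nat_lit 1) (nat_lit 0) (BT.cnt (nat_lit 0))))))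

theorem ct_nc21_19_cnt : Cnt 276 (grp 276 tt_c4_K) [g792] [g717] 0 0 0 0 0 :=
  BT.sound ct_nc21_19_cnt_P Known.nil (t := ct_nc21_19_cnt_t) (d := 0) (by decide +kernel)

theorem ct_nc21_19 : ¬ CjIn (grp 276 tt_c4_K) (Net.toPerm 276 g792) (Net.toPerm 276 g717) :=
  not_cjIn ct_nc21_19_cnt

noncomputable def ct_nc21_20_cnt_L : List ℕ := [0, 15, TC_s0_O, 0, 0]

theorem ct_nc21_20_cnt_P : Prob 276 9 (grp 276 tt_c4_K) ct_nc21_20_cnt_EG [g792] [g790] ct_c20_K ct_nc21_20_cnt_L 0 0 :=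
  Sym.prob hn hk ct_c20_sym ct_nc21_20_cnt_EG_ok (grp_nil_le _) (Frames.cons TC_s0_F Frames.nil) (okE_cons.2 ⟨g792_ok, okE_nil _⟩) _

noncomputable def ct_nc21_20_cnt_t : BT := (BT.frm (nat_lit 0) (nat_lit 0) (nat_lit 0) [] (BT.pln (nat_lit 0) (nat_lit 0) (BT.fix (nat_lit 257) (BT.and (nat_lit 1) (nat_lit 0) (BT.cnt (nat_lit 0))))))

theorem ct_nc21_20_cnt : Cnt 276 (grp 276 tt_c4_K) [g792] [g790] 0 0 0 0 0 :=
  BT.sound ct_nc21_20_cnt_P Known.nil (t := ct_nc21_20_cnt_t) (d := 0) (by decide +kernel)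

theorem ct_nc21_20 : ¬ CjIn (grp 276 tt_c4_K) (Net.toPerm 276 g792) (Net.toPerm 276 g790) :=
  not_cjIn ct_nc21_20_cnt

noncomputable def ct_nc22_18_cnt_L : List ℕ := [0, 15, TC_s0_O, 0, 0]

theorem ct_nc22_18_cnt_P : Prob 276 9 (grp 276 tt_c4_K) ct_nc22_18_cnt_EG [g794] [g712] ct_c18_K ct_nc22_18_cnt_L 0 0 :=
  Sym.prob hn hk ct_c18_sym ct_nc22_18_cnt_EG_ok (grp_nil_le _) (Frames.cons TC_s0_F Frames.nil) (okE_cons.2 ⟨g794_ok, okE_nil _⟩) _

noncomputable def ct_nc22_18_cnt_t : BT := (BT.frm (nat_lit 0) (nat_lit 0) (nat_lit 0) [] (BT.pln (nat_lit 0) (nat_lit 2) (BT.fix (nat_lit 1) (BT.and (nat_lit 1) (nat_lit 0) (BT.cnt (nat_lit 0))))))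

theorem ct_nc22_18_cnt : Cnt 276 (grp 276 tt_c4_K) [g794] [g712] 0 0 0 0 0 :=
  BT.sound ct_nc22_18_cnt_P Known.nil (t := ct_nc22_18_cnt_t) (d := 0) (by decide +kernel)

theorem ct_nc22_18 : ¬ CjIn (grp 276 tt_c4_K) (Net.toPerm 276 g794) (Net.toPerm 276 g712) :=
  not_cjIn ct_nc22_18_cnt

noncomputable def ct_nc23_18_cnt_L : List ℕ := [0, 15, TC_s0_O, 0, 0]

theorem ct_nc23_18_cnt_P : Prob 276 9 (grp 276 tt_c4_K) ct_nc23_18_cnt_EG [g797] [g712] ct_c18_K ct_nc23_18_cnt_L 0 0 :=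
  Sym.prob hn hk ct_c18_sym ct_nc23_18_cnt_EG_ok (grp_nil_le _) (Frames.cons TC_s0_F Frames.nil) (okE_cons.2 ⟨g797_ok, okE_nil _⟩) _

noncomputable def ct_nc23_18_cnt_t : BT := (BT.frm (nat_lit 0) (nat_lit 0) (nat_lit 0) [] (BT.pln (nat_lit 0) (nat_lit 1) (BT.fix (nat_lit 1) (BT.and (nat_lit 1) (nat_lit 0) (BT.cnt (nat_lit 0))))))

theorem ct_nc23_18_cnt : Cnt 276 (grp 276 tt_c4_K) [g797] [g712] 0 0 0 0 0 :=
  BT.sound ct_nc23_18_cnt_P Known.nil (t := ct_nc23_18_cnt_t) (d := 0) (by decide +kernel)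

theorem ct_nc23_18 : ¬ CjIn (grp 276 tt_c4_K) (Net.toPerm 276 g797) (Net.toPerm 276 g712) :=
  not_cjIn ct_nc23_18_cnt

noncomputable def ct_nc23_22_cnt_L : List ℕ := [0, 15, TC_s0_O, 0, 0]

theorem ct_nc23_22_cnt_P : Prob 276 9 (grp 276 tt_c4_K) ct_nc23_22_cnt_EG [g797] [g794] ct_c22_K ct_nc23_22_cnt_L 0 0 :=
  Sym.prob hn hk ct_c22_sym ct_nc23_22_cnt_EG_ok (grp_nil_le _) (Frames.cons TC_s0_F Frames.nil) (okE_cons.2 ⟨g797_ok, okE_nil _⟩) _

noncomputable def ct_nc23_22_cnt_t : BT := (BT.frm (nat_lit 0) (nat_lit 0) (nat_lit 0) [] (BT.pln (nat_lit 0) (nat_lit 1) (BT.fix (nat_lit 1) (BT.and (nat_lit 1) (nat_lit 0) (BT.cnt (nat_lit 0))))))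

theorem ct_nc23_22_cnt : Cnt 276 (grp 276 tt_c4_K) [g797] [g794] 0 0 0 0 0 :=
  BT.sound ct_nc23_22_cnt_P Known.nil (t := ct_nc23_22_cnt_t) (d := 0) (by decide +kernel)

theorem ct_nc23_22 : ¬ CjIn (grp 276 tt_c4_K) (Net.toPerm 276 g797) (Net.toPerm 276 g794) :=
  not_cjIn ct_nc23_22_cnt

noncomputable def ct_nc24_16_cnt_L : List ℕ := [0, 15, TC_s0_O, 0, 0]

theorem ct_nc24_16_cnt_P : Prob 276 9 (grp 276 tt_c4_K) ct_nc24_16_cnt_EG [g799] [g705] ct_c16_K ct_nc24_16_cnt_L 0 0 :=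
  Sym.prob hn hk ct_c16_sym ct_nc24_16_cnt_EG_ok (grp_nil_le _) (Frames.cons TC_s0_F Frames.nil) (okE_cons.2 ⟨g799_ok, okE_nil _⟩) _

noncomputable def ct_nc24_16_cnt_t : BT := (BT.frm (nat_lit 0) (nat_lit 0) (nat_lit 0) [] (BT.pln (nat_lit 0) (nat_lit 4) (BT.fix (nat_lit 257) (BT.and (nat_lit 1) (nat_lit 0) (BT.cnt (nat_lit 0))))))

theorem ct_nc24_16_cnt : Cnt 276 (grp 276 tt_c4_K) [g799] [g705] 0 0 0 0 0 :=
  BT.sound ct_nc24_16_cnt_P Known.nil (t := ct_nc24_16_cnt_t) (d := 0) (by decide +kernel)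

theorem ct_nc24_16 : ¬ CjIn (grp 276 tt_c4_K) (Net.toPerm 276 g799) (Net.toPerm 276 g705) :=
  not_cjIn ct_nc24_16_cnt

noncomputable def ct_nc24_17_cnt_L : List ℕ := [0, 15, TC_s0_O, 0, 0]

theorem ct_nc24_17_cnt_P : Prob 276 9 (grp 276 tt_c4_K) ct_nc24_17_cnt_EG [g799] [g127] ct_c17_K ct_nc24_17_cnt_L 0 0 :=
  Sym.prob hn hk ct_c17_sym ct_nc24_17_cnt_EG_ok (grp_nil_le _) (Frames.cons TC_s0_F Frames.nil) (okE_cons.2 ⟨g799_ok, okE_nil _⟩) _

noncomputable def ct_nc24_17_cnt_t : BT := (BT.frm (nat_lit 0) (nat_lit 0) (nat_lit 0) [] (BT.pln (nat_lit 0) (nat_lit 5) (BT.fix (nat_lit 257) (BT.and (nat_lit 1) (nat_lit 0) (BT.cnt (nat_lit 0))))))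

theorem ct_nc24_17_cnt : Cnt 276 (grp 276 tt_c4_K) [g799] [g127] 0 0 0 0 0 :=
  BT.sound ct_nc24_17_cnt_P Known.nil (t := ct_nc24_17_cnt_t) (d := 0) (by decide +kernel)

theorem ct_nc24_17 : ¬ CjIn (grp 276 tt_c4_K) (Net.toPerm 276 g799) (Net.toPerm 276 g127) :=
  not_cjIn ct_nc24_17_cnt

noncomputable def ct_nc24_19_cnt_L : List ℕ := [0, 15, TC_s0_O, 0, 0]

theorem ct_nc24_19_cnt_P : Prob 276 9 (grp 276 tt_c4_K) ct_nc24_19_cnt_EG [g799] [g717] ct_c19_K ct_nc24_19_cnt_L 0 0 :=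
  Sym.prob hn hk ct_c19_sym ct_nc24_19_cnt_EG_ok (grp_nil_le _) (Frames.cons TC_s0_F Frames.nil) (okE_cons.2 ⟨g799_ok, okE_nil _⟩) _

noncomputable def ct_nc24_19_cnt_t : BT := (BT.frm (nat_lit 0) (nat_lit 0) (nat_lit 0) [] (BT.pln (nat_lit 0) (nat_lit 3) (BT.fix (nat_lit 257) (BT.and (nat_lit 1) (nat_lit 0) (BT.cnt (nat_lit 0))))))

theorem ct_nc24_19_cnt : Cnt 276 (grp 276 tt_c4_K) [g799] [g717] 0 0 0 0 0 :=
  BT.sound ct_nc24_19_cnt_P Known.nil (t := ct_nc24_19_cnt_t) (d := 0) (by decide +kernel)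

theorem ct_nc24_19 : ¬ CjIn (grp 276 tt_c4_K) (Net.toPerm 276 g799) (Net.toPerm 276 g717) :=
  not_cjIn ct_nc24_19_cnt

noncomputable def ct_nc24_20_cnt_L : List ℕ := [0, 15, TC_s0_O, 0, 0]

theorem ct_nc24_20_cnt_P : Prob 276 9 (grp 276 tt_c4_K) ct_nc24_20_cnt_EG [g799] [g790] ct_c20_K ct_nc24_20_cnt_L 0 0 :=
  Sym.prob hn hk ct_c20_sym ct_nc24_20_cnt_EG_ok (grp_nil_le _) (Frames.cons TC_s0_F Frames.nil) (okE_cons.2 ⟨g799_ok, okE_nil _⟩) _

noncomputable def ct_nc24_20_cnt_t : BT := (BT.frm (nat_lit 0) (nat_lit 0) (nat_lit 0) [] (BT.pln (nat_lit 0) (nat_lit 0) (BT.fix (nat_lit 257) (BT.and (nat_lit 1) (nat_lit 0) (BT.cnt (nat_lit 0))))))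

theorem ct_nc24_20_cnt : Cnt 276 (grp 276 tt_c4_K) [g799] [g790] 0 0 0 0 0 :=
  BT.sound ct_nc24_20_cnt_P Known.nil (t := ct_nc24_20_cnt_t) (d := 0) (by decide +kernel)

theorem ct_nc24_20 : ¬ CjIn (grp 276 tt_c4_K) (Net.toPerm 276 g799) (Net.toPerm 276 g790) :=
  not_cjIn ct_nc24_20_cnt

noncomputable def ct_nc24_21_cnt_L : List ℕ := [0, 15, TC_s0_O, 0, 0]

theorem ct_nc24_21_cnt_P : Prob 276 9 (grp 276 tt_c4_K) ct_nc24_21_cnt_EG [g799] [g792] ct_c21_K ct_nc24_21_cnt_L 0 0 :=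
  Sym.prob hn hk ct_c21_sym ct_nc24_21_cnt_EG_ok (grp_nil_le _) (Frames.cons TC_s0_F Frames.nil) (okE_cons.2 ⟨g799_ok, okE_nil _⟩) _

noncomputable def ct_nc24_21_cnt_t : BT := (BT.frm (nat_lit 0) (nat_lit 0) (nat_lit 0) [] (BT.pln (nat_lit 0) (nat_lit 1) (BT.fix (nat_lit 257) (BT.and (nat_lit 1) (nat_lit 0) (BT.cnt (nat_lit 0))))))

theorem ct_nc24_21_cnt : Cnt 276 (grp 276 tt_c4_K) [g799] [g792] 0 0 0 0 0 :=
  BT.sound ct_nc24_21_cnt_P Known.nil (t := ct_nc24_21_cnt_t) (d := 0) (by decide +kernel)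

theorem ct_nc24_21 : ¬ CjIn (grp 276 tt_c4_K) (Net.toPerm 276 g799) (Net.toPerm 276 g792) :=
  not_cjIn ct_nc24_21_cnt

noncomputable def ct_nc25_16_cnt_L : List ℕ := [0, 15, TC_s0_O, 0, 0]

theorem ct_nc25_16_cnt_P : Prob 276 9 (grp 276 tt_c4_K) ct_nc25_16_cnt_EG [g735] [g705] ct_c16_K ct_nc25_16_cnt_L 0 0 :=
  Sym.prob hn hk ct_c16_sym ct_nc25_16_cnt_EG_ok (grp_nil_le _) (Frames.cons TC_s0_F Frames.nil) (okE_cons.2 ⟨g735_ok, okE_nil _⟩) _

noncomputable def ct_nc25_16_cnt_t : BT := (BT.frm (nat_lit 0) (nat_lit 0) (nat_lit 0) [] (BT.pln (nat_lit 0) (nat_lit 3) (BT.fix (nat_lit 257) (BT.and (nat_lit 1) (nat_lit 0) (BT.cnt (nat_lit 0))))))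

theorem ct_nc25_16_cnt : Cnt 276 (grp 276 tt_c4_K) [g735] [g705] 0 0 0 0 0 :=
  BT.sound ct_nc25_16_cnt_P Known.nil (t := ct_nc25_16_cnt_t) (d := 0) (by decide +kernel)

theorem ct_nc25_16 : ¬ CjIn (grp 276 tt_c4_K) (Net.toPerm 276 g735) (Net.toPerm 276 g705) :=
  not_cjIn ct_nc25_16_cnt

noncomputable def ct_nc25_17_cnt_L : List ℕ := [0, 15, TC_s0_O, 0, 0]

theorem ct_nc25_17_cnt_P : Prob 276 9 (grp 276 tt_c4_K) ct_nc25_17_cnt_EG [g735] [g127] ct_c17_K ct_nc25_17_cnt_L 0 0 :=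
  Sym.prob hn hk ct_c17_sym ct_nc25_17_cnt_EG_ok (grp_nil_le _) (Frames.cons TC_s0_F Frames.nil) (okE_cons.2 ⟨g735_ok, okE_nil _⟩) _

noncomputable def ct_nc25_17_cnt_t : BT := (BT.frm (nat_lit 0) (nat_lit 0) (nat_lit 0) [] (BT.pln (nat_lit 0) (nat_lit 3) (BT.fix (nat_lit 257) (BT.and (nat_lit 1) (nat_lit 0) (BT.cnt (nat_lit 0))))))

theorem ct_nc25_17_cnt : Cnt 276 (grp 276 tt_c4_K) [g735] [g127] 0 0 0 0 0 :=
  BT.sound ct_nc25_17_cnt_P Known.nil (t := ct_nc25_17_cnt_t) (d := 0) (by decide +kernel)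

theorem ct_nc25_17 : ¬ CjIn (grp 276 tt_c4_K) (Net.toPerm 276 g735) (Net.toPerm 276 g127) :=
  not_cjIn ct_nc25_17_cnt

noncomputable def ct_nc25_19_cnt_L : List ℕ := [0, 15, TC_s0_O, 0, 0]

theorem ct_nc25_19_cnt_P : Prob 276 9 (grp 276 tt_c4_K) ct_nc25_19_cnt_EG [g735] [g717] ct_c19_K ct_nc25_19_cnt_L 0 0 :=
  Sym.prob hn hk ct_c19_sym ct_nc25_19_cnt_EG_ok (grp_nil_le _) (Frames.cons TC_s0_F Frames.nil) (okE_cons.2 ⟨g735_ok, okE_nil _⟩) _

noncomputable def ct_nc25_19_cnt_t : BT := (BT.frm (nat_lit 0) (nat_lit 0) (nat_lit 0) [] (BT.pln (nat_lit 0) (nat_lit 9) (BT.fix (nat_lit 1) (BT.and (nat_lit 1) (nat_lit 0) (BT.cnt (nat_lit 0))))))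

theorem ct_nc25_19_cnt : Cnt 276 (grp 276 tt_c4_K) [g735] [g717] 0 0 0 0 0 :=
  BT.sound ct_nc25_19_cnt_P Known.nil (t := ct_nc25_19_cnt_t) (d := 0) (by decide +kernel)

theorem ct_nc25_19 : ¬ CjIn (grp 276 tt_c4_K) (Net.toPerm 276 g735) (Net.toPerm 276 g717) :=
  not_cjIn ct_nc25_19_cnt

noncomputable def ct_nc25_20_cnt_L : List ℕ := [0, 15, TC_s0_O, 0, 0]

theorem ct_nc25_20_cnt_P : Prob 276 9 (grp 276 tt_c4_K) ct_nc25_20_cnt_EG [g735] [g790] ct_c20_K ct_nc25_20_cnt_L 0 0 :=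
  Sym.prob hn hk ct_c20_sym ct_nc25_20_cnt_EG_ok (grp_nil_le _) (Frames.cons TC_s0_F Frames.nil) (okE_cons.2 ⟨g735_ok, okE_nil _⟩) _

noncomputable def ct_nc25_20_cnt_t : BT := (BT.frm (nat_lit 0) (nat_lit 0) (nat_lit 0) [] (BT.pln (nat_lit 0) (nat_lit 0) (BT.fix (nat_lit 257) (BT.and (nat_lit 1) (nat_lit 0) (BT.cnt (nat_lit 0))))))

theorem ct_nc25_20_cnt : Cnt 276 (grp 276 tt_c4_K) [g735] [g790] 0 0 0 0 0 :=
  BT.sound ct_nc25_20_cnt_P Known.nil (t := ct_nc25_20_cnt_t) (d := 0) (by decide +kernel)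

theorem ct_nc25_20 : ¬ CjIn (grp 276 tt_c4_K) (Net.toPerm 276 g735) (Net.toPerm 276 g790) :=
  not_cjIn ct_nc25_20_cnt

noncomputable def ct_nc25_21_cnt_L : List ℕ := [0, 15, TC_s0_O, 0, 0]

theorem ct_nc25_21_cnt_P : Prob 276 9 (grp 276 tt_c4_K) ct_nc25_21_cnt_EG [g735] [g792] ct_c21_K ct_nc25_21_cnt_L 0 0 :=
  Sym.prob hn hk ct_c21_sym ct_nc25_21_cnt_EG_ok (grp_nil_le _) (Frames.cons TC_s0_F Frames.nil) (okE_cons.2 ⟨g735_ok, okE_nil _⟩) _

noncomputable def ct_nc25_21_cnt_t : BT := (BT.frm (nat_lit 0) (nat_lit 0) (nat_lit 0) [] (BT.pln (nat_lit 0) (nat_lit 1) (BT.fix (nat_lit 257) (BT.and (nat_lit 1) (nat_lit 0) (BT.cnt (nat_lit 0))))))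

theorem ct_nc25_21_cnt : Cnt 276 (grp 276 tt_c4_K) [g735] [g792] 0 0 0 0 0 :=
  BT.sound ct_nc25_21_cnt_P Known.nil (t := ct_nc25_21_cnt_t) (d := 0) (by decide +kernel)

theorem ct_nc25_21 : ¬ CjIn (grp 276 tt_c4_K) (Net.toPerm 276 g735) (Net.toPerm 276 g792) :=
  not_cjIn ct_nc25_21_cnt

noncomputable def ct_nc25_24_cnt_L : List ℕ := [0, 15, TC_s0_O, 0, 0]

theorem ct_nc25_24_cnt_P : Prob 276 9 (grp 276 tt_c4_K) ct_nc25_24_cnt_EG [g735] [g799] ct_c24_K ct_nc25_24_cnt_L 0 0 :=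
  Sym.prob hn hk ct_c24_sym ct_nc25_24_cnt_EG_ok (grp_nil_le _) (Frames.cons TC_s0_F Frames.nil) (okE_cons.2 ⟨g735_ok, okE_nil _⟩) _

noncomputable def ct_nc25_24_cnt_t : BT := (BT.frm (nat_lit 0) (nat_lit 0) (nat_lit 0) [] (BT.pln (nat_lit 0) (nat_lit 3) (BT.fix (nat_lit 257) (BT.and (nat_lit 1) (nat_lit 0) (BT.cnt (nat_lit 0))))))

theorem ct_nc25_24_cnt : Cnt 276 (grp 276 tt_c4_K) [g735] [g799] 0 0 0 0 0 :=
  BT.sound ct_nc25_24_cnt_P Known.nil (t := ct_nc25_24_cnt_t) (d := 0) (by decide +kernel)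

theorem ct_nc25_24 : ¬ CjIn (grp 276 tt_c4_K) (Net.toPerm 276 g735) (Net.toPerm 276 g799) :=
  not_cjIn ct_nc25_24_cnt

noncomputable def ct_nc26_16_cnt_L : List ℕ := [0, 15, TC_s0_O, 0, 0]

theorem ct_nc26_16_cnt_P : Prob 276 9 (grp 276 tt_c4_K) ct_nc26_16_cnt_EG [g795] [g705] ct_c16_K ct_nc26_16_cnt_L 0 0 :=
  Sym.prob hn hk ct_c16_sym ct_nc26_16_cnt_EG_ok (grp_nil_le _) (Frames.cons TC_s0_F Frames.nil) (okE_cons.2 ⟨g795_ok, okE_nil _⟩) _

noncomputable def ct_nc26_16_cnt_t : BT := (BT.frm (nat_lit 0) (nat_lit 0) (nat_lit 0) [] (BT.pln (nat_lit 0) (nat_lit 0) (BT.fix (nat_lit 257) (BT.and (nat_lit 1) (nat_lit 0) (BT.cnt (nat_lit 0))))))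

theorem ct_nc26_16_cnt : Cnt 276 (grp 276 tt_c4_K) [g795] [g705] 0 0 0 0 0 :=
  BT.sound ct_nc26_16_cnt_P Known.nil (t := ct_nc26_16_cnt_t) (d := 0) (by decide +kernel)

theorem ct_nc26_16 : ¬ CjIn (grp 276 tt_c4_K) (Net.toPerm 276 g795) (Net.toPerm 276 g705) :=
  not_cjIn ct_nc26_16_cnt

noncomputable def ct_nc26_17_cnt_L : List ℕ := [0, 15, TC_s0_O, 0, 0]

theorem ct_nc26_17_cnt_P : Prob 276 9 (grp 276 tt_c4_K) ct_nc26_17_cnt_EG [g795] [g127] ct_c17_K ct_nc26_17_cnt_L 0 0 :=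
  Sym.prob hn hk ct_c17_sym ct_nc26_17_cnt_EG_ok (grp_nil_le _) (Frames.cons TC_s0_F Frames.nil) (okE_cons.2 ⟨g795_ok, okE_nil _⟩) _

noncomputable def ct_nc26_17_cnt_t : BT := (BT.frm (nat_lit 0) (nat_lit 0) (nat_lit 0) [] (BT.pln (nat_lit 0) (nat_lit 0) (BT.fix (nat_lit 257) (BT.and (nat_lit 1) (nat_lit 0) (BT.cnt (nat_lit 0))))))

theorem ct_nc26_17_cnt : Cnt 276 (grp 276 tt_c4_K) [g795] [g127] 0 0 0 0 0 :=
  BT.sound ct_nc26_17_cnt_P Known.nil (t := ct_nc26_17_cnt_t) (d := 0) (by decide +kernel)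

theorem ct_nc26_17 : ¬ CjIn (grp 276 tt_c4_K) (Net.toPerm 276 g795) (Net.toPerm 276 g127) :=
  not_cjIn ct_nc26_17_cnt

noncomputable def ct_nc26_19_cnt_L : List ℕ := [0, 15, TC_s0_O, 0, 0]

theorem ct_nc26_19_cnt_P : Prob 276 9 (grp 276 tt_c4_K) ct_nc26_19_cnt_EG [g795] [g717] ct_c19_K ct_nc26_19_cnt_L 0 0 :=
  Sym.prob hn hk ct_c19_sym ct_nc26_19_cnt_EG_ok (grp_nil_le _) (Frames.cons TC_s0_F Frames.nil) (okE_cons.2 ⟨g795_ok, okE_nil _⟩) _

noncomputable def ct_nc26_19_cnt_t : BT := (BT.frm (nat_lit 0) (nat_lit 0) (nat_lit 0) [] (BT.pln (nat_lit 0) (nat_lit 0) (BT.fix (nat_lit 257) (BT.and (nat_lit 1) (nat_lit 0) (BT.cnt (nat_lit 0))))))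

theorem ct_nc26_19_cnt : Cnt 276 (grp 276 tt_c4_K) [g795] [g717] 0 0 0 0 0 :=
  BT.sound ct_nc26_19_cnt_P Known.nil (t := ct_nc26_19_cnt_t) (d := 0) (by decide +kernel)

theorem ct_nc26_19 : ¬ CjIn (grp 276 tt_c4_K) (Net.toPerm 276 g795) (Net.toPerm 276 g717) :=
  not_cjIn ct_nc26_19_cnt

noncomputable def ct_nc26_20_cnt_L : List ℕ := [0, 15, TC_s0_O, 0, 0]

theorem ct_nc26_20_cnt_P : Prob 276 9 (grp 276 tt_c4_K) ct_nc26_20_cnt_EG [g795] [g790] ct_c20_K ct_nc26_20_cnt_L 0 0 :=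
  Sym.prob hn hk ct_c20_sym ct_nc26_20_cnt_EG_ok (grp_nil_le _) (Frames.cons TC_s0_F Frames.nil) (okE_cons.2 ⟨g795_ok, okE_nil _⟩) _

noncomputable def ct_nc26_20_cnt_t : BT := (BT.frm (nat_lit 0) (nat_lit 0) (nat_lit 0) [] (BT.pln (nat_lit 0) (nat_lit 8) (BT.fix (nat_lit 1) (BT.and (nat_lit 1) (nat_lit 0) (BT.cnt (nat_lit 0))))))

theorem ct_nc26_20_cnt : Cnt 276 (grp 276 tt_c4_K) [g795] [g790] 0 0 0 0 0 :=
  BT.sound ct_nc26_20_cnt_P Known.nil (t := ct_nc26_20_cnt_t) (d := 0) (by decide +kernel)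

theorem ct_nc26_20 : ¬ CjIn (grp 276 tt_c4_K) (Net.toPerm 276 g795) (Net.toPerm 276 g790) :=
  not_cjIn ct_nc26_20_cnt

noncomputable def ct_nc26_21_cnt_L : List ℕ := [0, 15, TC_s0_O, 0, 0]

theorem ct_nc26_21_cnt_P : Prob 276 9 (grp 276 tt_c4_K) ct_nc26_21_cnt_EG [g795] [g792] ct_c21_K ct_nc26_21_cnt_L 0 0 :=
  Sym.prob hn hk ct_c21_sym ct_nc26_21_cnt_EG_ok (grp_nil_le _) (Frames.cons TC_s0_F Frames.nil) (okE_cons.2 ⟨g795_ok, okE_nil _⟩) _

noncomputable def ct_nc26_21_cnt_t : BT := (BT.frm (nat_lit 0) (nat_lit 0) (nat_lit 0) [] (BT.pln (nat_lit 0) (nat_lit 0) (BT.fix (nat_lit 257) (BT.and (nat_lit 1) (nat_lit 0) (BT.cnt (nat_lit 0))))))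

theorem ct_nc26_21_cnt : Cnt 276 (grp 276 tt_c4_K) [g795] [g792] 0 0 0 0 0 :=
  BT.sound ct_nc26_21_cnt_P Known.nil (t := ct_nc26_21_cnt_t) (d := 0) (by decide +kernel)

theorem ct_nc26_21 : ¬ CjIn (grp 276 tt_c4_K) (Net.toPerm 276 g795) (Net.toPerm 276 g792) :=
  not_cjIn ct_nc26_21_cnt

noncomputable def ct_nc26_24_cnt_L : List ℕ := [0, 15, TC_s0_O, 0, 0]

theorem ct_nc26_24_cnt_P : Prob 276 9 (grp 276 tt_c4_K) ct_nc26_24_cnt_EG [g795] [g799] ct_c24_K ct_nc26_24_cnt_L 0 0 :=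
  Sym.prob hn hk ct_c24_sym ct_nc26_24_cnt_EG_ok (grp_nil_le _) (Frames.cons TC_s0_F Frames.nil) (okE_cons.2 ⟨g795_ok, okE_nil _⟩) _

noncomputable def ct_nc26_24_cnt_t : BT := (BT.frm (nat_lit 0) (nat_lit 0) (nat_lit 0) [] (BT.pln (nat_lit 0) (nat_lit 0) (BT.fix (nat_lit 257) (BT.and (nat_lit 1) (nat_lit 0) (BT.cnt (nat_lit 0))))))

theorem ct_nc26_24_cnt : Cnt 276 (grp 276 tt_c4_K) [g795] [g799] 0 0 0 0 0 :=
  BT.sound ct_nc26_24_cnt_P Known.nil (t := ct_nc26_24_cnt_t) (d := 0) (by decide +kernel)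

theorem ct_nc26_24 : ¬ CjIn (grp 276 tt_c4_K) (Net.toPerm 276 g795) (Net.toPerm 276 g799) :=
  not_cjIn ct_nc26_24_cnt

noncomputable def ct_nc26_25_cnt_L : List ℕ := [0, 15, TC_s0_O, 0, 0]

theorem ct_nc26_25_cnt_P : Prob 276 9 (grp 276 tt_c4_K) ct_nc26_25_cnt_EG [g795] [g735] ct_c25_K ct_nc26_25_cnt_L 0 0 :=
  Sym.prob hn hk ct_c25_sym ct_nc26_25_cnt_EG_ok (grp_nil_le _) (Frames.cons TC_s0_F Frames.nil) (okE_cons.2 ⟨g795_ok, okE_nil _⟩) _

noncomputable def ct_nc26_25_cnt_t : BT := (BT.frm (nat_lit 0) (nat_lit 0) (nat_lit 0) [] (BT.pln (nat_lit 0) (nat_lit 0) (BT.fix (nat_lit 257) (BT.and (nat_lit 1) (nat_lit 0) (BT.cnt (nat_lit 0))))))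

theorem ct_nc26_25_cnt : Cnt 276 (grp 276 tt_c4_K) [g795] [g735] 0 0 0 0 0 :=
  BT.sound ct_nc26_25_cnt_P Known.nil (t := ct_nc26_25_cnt_t) (d := 0) (by decide +kernel)

theorem ct_nc26_25 : ¬ CjIn (grp 276 tt_c4_K) (Net.toPerm 276 g795) (Net.toPerm 276 g735) :=
  not_cjIn ct_nc26_25_cnt

noncomputable def ct_nc27_16_cnt_L : List ℕ := [0, 15, TC_s0_O, 0, 0]

theorem ct_nc27_16_cnt_P : Prob 276 9 (grp 276 tt_c4_K) ct_nc27_16_cnt_EG [g524] [g705] ct_c16_K ct_nc27_16_cnt_L 0 0 :=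
  Sym.prob hn hk ct_c16_sym ct_nc27_16_cnt_EG_ok (grp_nil_le _) (Frames.cons TC_s0_F Frames.nil) (okE_cons.2 ⟨g524_ok, okE_nil _⟩) _

noncomputable def ct_nc27_16_cnt_t : BT := (BT.frm (nat_lit 0) (nat_lit 0) (nat_lit 0) [] (BT.pln (nat_lit 0) (nat_lit 1) (BT.fix (nat_lit 257) (BT.and (nat_lit 1) (nat_lit 0) (BT.cnt (nat_lit 0))))))

theorem ct_nc27_16_cnt : Cnt 276 (grp 276 tt_c4_K) [g524] [g705] 0 0 0 0 0 :=
  BT.sound ct_nc27_16_cnt_P Known.nil (t := ct_nc27_16_cnt_t) (d := 0) (by decide +kernel)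

theorem ct_nc27_16 : ¬ CjIn (grp 276 tt_c4_K) (Net.toPerm 276 g524) (Net.toPerm 276 g705) :=
  not_cjIn ct_nc27_16_cnt

noncomputable def ct_nc27_17_cnt_L : List ℕ := [0, 15, TC_s0_O, 0, 0]

theorem ct_nc27_17_cnt_P : Prob 276 9 (grp 276 tt_c4_K) ct_nc27_17_cnt_EG [g524] [g127] ct_c17_K ct_nc27_17_cnt_L 0 0 :=
  Sym.prob hn hk ct_c17_sym ct_nc27_17_cnt_EG_ok (grp_nil_le _) (Frames.cons TC_s0_F Frames.nil) (okE_cons.2 ⟨g524_ok, okE_nil _⟩) _

noncomputable def ct_nc27_17_cnt_t : BT := (BT.frm (nat_lit 0) (nat_lit 0) (nat_lit 0) [] (BT.pln (nat_lit 0) (nat_lit 1) (BT.fix (nat_lit 257) (BT.and (nat_lit 1) (nat_lit 0) (BT.cnt (nat_lit 0))))))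

theorem ct_nc27_17_cnt : Cnt 276 (grp 276 tt_c4_K) [g524] [g127] 0 0 0 0 0 :=
  BT.sound ct_nc27_17_cnt_P Known.nil (t := ct_nc27_17_cnt_t) (d := 0) (by decide +kernel)

theorem ct_nc27_17 : ¬ CjIn (grp 276 tt_c4_K) (Net.toPerm 276 g524) (Net.toPerm 276 g127) :=
  not_cjIn ct_nc27_17_cnt

noncomputable def ct_nc27_19_cnt_L : List ℕ := [0, 15, TC_s0_O, 0, 0]

theorem ct_nc27_19_cnt_P : Prob 276 9 (grp 276 tt_c4_K) ct_nc27_19_cnt_EG [g524] [g717] ct_c19_K ct_nc27_19_cnt_L 0 0 :=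
  Sym.prob hn hk ct_c19_sym ct_nc27_19_cnt_EG_ok (grp_nil_le _) (Frames.cons TC_s0_F Frames.nil) (okE_cons.2 ⟨g524_ok, okE_nil _⟩) _

noncomputable def ct_nc27_19_cnt_t : BT := (BT.frm (nat_lit 0) (nat_lit 0) (nat_lit 0) [] (BT.pln (nat_lit 0) (nat_lit 1) (BT.fix (nat_lit 257) (BT.and (nat_lit 1) (nat_lit 0) (BT.cnt (nat_lit 0))))))

theorem ct_nc27_19_cnt : Cnt 276 (grp 276 tt_c4_K) [g524] [g717] 0 0 0 0 0 :=
  BT.sound ct_nc27_19_cnt_P Known.nil (t := ct_nc27_19_cnt_t) (d := 0) (by decide +kernel)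

theorem ct_nc27_19 : ¬ CjIn (grp 276 tt_c4_K) (Net.toPerm 276 g524) (Net.toPerm 276 g717) :=
  not_cjIn ct_nc27_19_cnt

noncomputable def ct_nc27_20_cnt_L : List ℕ := [0, 15, TC_s0_O, 0, 0]

theorem ct_nc27_20_cnt_P : Prob 276 9 (grp 276 tt_c4_K) ct_nc27_20_cnt_EG [g524] [g790] ct_c20_K ct_nc27_20_cnt_L 0 0 :=
  Sym.prob hn hk ct_c20_sym ct_nc27_20_cnt_EG_ok (grp_nil_le _) (Frames.cons TC_s0_F Frames.nil) (okE_cons.2 ⟨g524_ok, okE_nil _⟩) _

noncomputable def ct_nc27_20_cnt_t : BT := (BT.frm (nat_lit 0) (nat_lit 0) (nat_lit 0) [] (BT.pln (nat_lit 0) (nat_lit 0) (BT.fix (nat_lit 257) (BT.and (nat_lit 1) (nat_lit 0) (BT.cnt (nat_lit 0))))))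

theorem ct_nc27_20_cnt : Cnt 276 (grp 276 tt_c4_K) [g524] [g790] 0 0 0 0 0 :=
  BT.sound ct_nc27_20_cnt_P Known.nil (t := ct_nc27_20_cnt_t) (d := 0) (by decide +kernel)

theorem ct_nc27_20 : ¬ CjIn (grp 276 tt_c4_K) (Net.toPerm 276 g524) (Net.toPerm 276 g790) :=
  not_cjIn ct_nc27_20_cnt

noncomputable def ct_nc27_21_cnt_L : List ℕ := [0, 15, TC_s0_O, 0, 0]

theorem ct_nc27_21_cnt_P : Prob 276 9 (grp 276 tt_c4_K) ct_nc27_21_cnt_EG [g524] [g792] ct_c21_K ct_nc27_21_cnt_L 0 0 :=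
  Sym.prob hn hk ct_c21_sym ct_nc27_21_cnt_EG_ok (grp_nil_le _) (Frames.cons TC_s0_F Frames.nil) (okE_cons.2 ⟨g524_ok, okE_nil _⟩) _

noncomputable def ct_nc27_21_cnt_t : BT := (BT.frm (nat_lit 0) (nat_lit 0) (nat_lit 0) [] (BT.pln (nat_lit 0) (nat_lit 11) (BT.fix (nat_lit 1) (BT.and (nat_lit 1) (nat_lit 0) (BT.cnt (nat_lit 0))))))

theorem ct_nc27_21_cnt : Cnt 276 (grp 276 tt_c4_K) [g524] [g792] 0 0 0 0 0 :=
  BT.sound ct_nc27_21_cnt_P Known.nil (t := ct_nc27_21_cnt_t) (d := 0) (by decide +kernel)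

theorem ct_nc27_21 : ¬ CjIn (grp 276 tt_c4_K) (Net.toPerm 276 g524) (Net.toPerm 276 g792) :=
  not_cjIn ct_nc27_21_cnt

noncomputable def ct_nc27_24_cnt_L : List ℕ := [0, 15, TC_s0_O, 0, 0]

theorem ct_nc27_24_cnt_P : Prob 276 9 (grp 276 tt_c4_K) ct_nc27_24_cnt_EG [g524] [g799] ct_c24_K ct_nc27_24_cnt_L 0 0 :=
  Sym.prob hn hk ct_c24_sym ct_nc27_24_cnt_EG_ok (grp_nil_le _) (Frames.cons TC_s0_F Frames.nil) (okE_cons.2 ⟨g524_ok, okE_nil _⟩) _

noncomputable def ct_nc27_24_cnt_t : BT := (BT.frm (nat_lit 0) (nat_lit 0) (nat_lit 0) [] (BT.pln (nat_lit 0) (nat_lit 1) (BT.fix (nat_lit 257) (BT.and (nat_lit 1) (nat_lit 0) (BT.cnt (nat_lit 0))))))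

theorem ct_nc27_24_cnt : Cnt 276 (grp 276 tt_c4_K) [g524] [g799] 0 0 0 0 0 :=
  BT.sound ct_nc27_24_cnt_P Known.nil (t := ct_nc27_24_cnt_t) (d := 0) (by decide +kernel)

theorem ct_nc27_24 : ¬ CjIn (grp 276 tt_c4_K) (Net.toPerm 276 g524) (Net.toPerm 276 g799) :=
  not_cjIn ct_nc27_24_cnt

noncomputable def ct_nc27_25_cnt_L : List ℕ := [0, 15, TC_s0_O, 0, 0]

theorem ct_nc27_25_cnt_P : Prob 276 9 (grp 276 tt_c4_K) ct_nc27_25_cnt_EG [g524] [g735] ct_c25_K ct_nc27_25_cnt_L 0 0 :=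
  Sym.prob hn hk ct_c25_sym ct_nc27_25_cnt_EG_ok (grp_nil_le _) (Frames.cons TC_s0_F Frames.nil) (okE_cons.2 ⟨g524_ok, okE_nil _⟩) _

noncomputable def ct_nc27_25_cnt_t : BT := (BT.frm (nat_lit 0) (nat_lit 0) (nat_lit 0) [] (BT.pln (nat_lit 0) (nat_lit 1) (BT.fix (nat_lit 257) (BT.and (nat_lit 1) (nat_lit 0) (BT.cnt (nat_lit 0))))))

theorem ct_nc27_25_cnt : Cnt 276 (grp 276 tt_c4_K) [g524] [g735] 0 0 0 0 0 :=
  BT.sound ct_nc27_25_cnt_P Known.nil (t := ct_nc27_25_cnt_t) (d := 0) (by decide +kernel)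

theorem ct_nc27_25 : ¬ CjIn (grp 276 tt_c4_K) (Net.toPerm 276 g524) (Net.toPerm 276 g735) :=
  not_cjIn ct_nc27_25_cnt

noncomputable def ct_nc27_26_cnt_L : List ℕ := [0, 15, TC_s0_O, 0, 0]

theorem ct_nc27_26_cnt_P : Prob 276 9 (grp 276 tt_c4_K) ct_nc27_26_cnt_EG [g524] [g795] ct_c26_K ct_nc27_26_cnt_L 0 0 :=
  Sym.prob hn hk ct_c26_sym ct_nc27_26_cnt_EG_ok (grp_nil_le _) (Frames.cons TC_s0_F Frames.nil) (okE_cons.2 ⟨g524_ok, okE_nil _⟩) _

noncomputable def ct_nc27_26_cnt_t : BT := (BT.frm (nat_lit 0) (nat_lit 0) (nat_lit 0) [] (BT.pln (nat_lit 0) (nat_lit 0) (BT.fix (nat_lit 257) (BT.and (nat_lit 1) (nat_lit 0) (BT.cnt (nat_lit 0))))))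

theorem ct_nc27_26_cnt : Cnt 276 (grp 276 tt_c4_K) [g524] [g795] 0 0 0 0 0 :=
  BT.sound ct_nc27_26_cnt_P Known.nil (t := ct_nc27_26_cnt_t) (d := 0) (by decide +kernel)

theorem ct_nc27_26 : ¬ CjIn (grp 276 tt_c4_K) (Net.toPerm 276 g524) (Net.toPerm 276 g795) :=
  not_cjIn ct_nc27_26_cnt

noncomputable def ct_nc28_16_cnt_L : List ℕ := [0, 15, TC_s0_O, 0, 0]

theorem ct_nc28_16_cnt_P : Prob 276 9 (grp 276 tt_c4_K) ct_nc28_16_cnt_EG [g804] [g705] ct_c16_K ct_nc28_16_cnt_L 0 0 :=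
  Sym.prob hn hk ct_c16_sym ct_nc28_16_cnt_EG_ok (grp_nil_le _) (Frames.cons TC_s0_F Frames.nil) (okE_cons.2 ⟨g804_ok, okE_nil _⟩) _

noncomputable def ct_nc28_16_cnt_t : BT := (BT.frm (nat_lit 0) (nat_lit 0) (nat_lit 0) [] (BT.pln (nat_lit 0) (nat_lit 9) (BT.fix (nat_lit 1) (BT.and (nat_lit 1) (nat_lit 0) (BT.cnt (nat_lit 0))))))

theorem ct_nc28_16_cnt : Cnt 276 (grp 276 tt_c4_K) [g804] [g705] 0 0 0 0 0 :=
  BT.sound ct_nc28_16_cnt_P Known.nil (t := ct_nc28_16_cnt_t) (d := 0) (by decide +kernel)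

theorem ct_nc28_16 : ¬ CjIn (grp 276 tt_c4_K) (Net.toPerm 276 g804) (Net.toPerm 276 g705) :=
  not_cjIn ct_nc28_16_cnt

noncomputable def ct_nc28_17_cnt_L : List ℕ := [0, 15, TC_s0_O, 0, 0]

theorem ct_nc28_17_cnt_P : Prob 276 9 (grp 276 tt_c4_K) ct_nc28_17_cnt_EG [g804] [g127] ct_c17_K ct_nc28_17_cnt_L 0 0 :=
  Sym.prob hn hk ct_c17_sym ct_nc28_17_cnt_EG_ok (grp_nil_le _) (Frames.cons TC_s0_F Frames.nil) (okE_cons.2 ⟨g804_ok, okE_nil _⟩) _

noncomputable def ct_nc28_17_cnt_t : BT := (BT.frm (nat_lit 0) (nat_lit 0) (nat_lit 0) [] (BT.pln (nat_lit 0) (nat_lit 4) (BT.fix (nat_lit 257) (BT.and (nat_lit 1) (nat_lit 0) (BT.cnt (nat_lit 0))))))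

theorem ct_nc28_17_cnt : Cnt 276 (grp 276 tt_c4_K) [g804] [g127] 0 0 0 0 0 :=
  BT.sound ct_nc28_17_cnt_P Known.nil (t := ct_nc28_17_cnt_t) (d := 0) (by decide +kernel)

theorem ct_nc28_17 : ¬ CjIn (grp 276 tt_c4_K) (Net.toPerm 276 g804) (Net.toPerm 276 g127) :=
  not_cjIn ct_nc28_17_cnt

noncomputable def ct_nc28_19_cnt_L : List ℕ := [0, 15, TC_s0_O, 0, 0]

theorem ct_nc28_19_cnt_P : Prob 276 9 (grp 276 tt_c4_K) ct_nc28_19_cnt_EG [g804] [g717] ct_c19_K ct_nc28_19_cnt_L 0 0 :=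
  Sym.prob hn hk ct_c19_sym ct_nc28_19_cnt_EG_ok (grp_nil_le _) (Frames.cons TC_s0_F Frames.nil) (okE_cons.2 ⟨g804_ok, okE_nil _⟩) _

noncomputable def ct_nc28_19_cnt_t : BT := (BT.frm (nat_lit 0) (nat_lit 0) (nat_lit 0) [] (BT.pln (nat_lit 0) (nat_lit 3) (BT.fix (nat_lit 257) (BT.and (nat_lit 1) (nat_lit 0) (BT.cnt (nat_lit 0))))))

theorem ct_nc28_19_cnt : Cnt 276 (grp 276 tt_c4_K) [g804] [g717] 0 0 0 0 0 :=
  BT.sound ct_nc28_19_cnt_P Known.nil (t := ct_nc28_19_cnt_t) (d := 0) (by decide +kernel)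

theorem ct_nc28_19 : ¬ CjIn (grp 276 tt_c4_K) (Net.toPerm 276 g804) (Net.toPerm 276 g717) :=
  not_cjIn ct_nc28_19_cnt

noncomputable def ct_nc28_20_cnt_L : List ℕ := [0, 15, TC_s0_O, 0, 0]

theorem ct_nc28_20_cnt_P : Prob 276 9 (grp 276 tt_c4_K) ct_nc28_20_cnt_EG [g804] [g790] ct_c20_K ct_nc28_20_cnt_L 0 0 :=
  Sym.prob hn hk ct_c20_sym ct_nc28_20_cnt_EG_ok (grp_nil_le _) (Frames.cons TC_s0_F Frames.nil) (okE_cons.2 ⟨g804_ok, okE_nil _⟩) _

noncomputable def ct_nc28_20_cnt_t : BT := (BT.frm (nat_lit 0) (nat_lit 0) (nat_lit 0) [] (BT.pln (nat_lit 0) (nat_lit 0) (BT.fix (nat_lit 257) (BT.and (nat_lit 1) (nat_lit 0) (BT.cnt (nat_lit 0))))))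

theorem ct_nc28_20_cnt : Cnt 276 (grp 276 tt_c4_K) [g804] [g790] 0 0 0 0 0 :=
  BT.sound ct_nc28_20_cnt_P Known.nil (t := ct_nc28_20_cnt_t) (d := 0) (by decide +kernel)

theorem ct_nc28_20 : ¬ CjIn (grp 276 tt_c4_K) (Net.toPerm 276 g804) (Net.toPerm 276 g790) :=
  not_cjIn ct_nc28_20_cnt

noncomputable def ct_nc28_21_cnt_L : List ℕ := [0, 15, TC_s0_O, 0, 0]

theorem ct_nc28_21_cnt_P : Prob 276 9 (grp 276 tt_c4_K) ct_nc28_21_cnt_EG [g804] [g792] ct_c21_K ct_nc28_21_cnt_L 0 0 :=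
  Sym.prob hn hk ct_c21_sym ct_nc28_21_cnt_EG_ok (grp_nil_le _) (Frames.cons TC_s0_F Frames.nil) (okE_cons.2 ⟨g804_ok, okE_nil _⟩) _

noncomputable def ct_nc28_21_cnt_t : BT := (BT.frm (nat_lit 0) (nat_lit 0) (nat_lit 0) [] (BT.pln (nat_lit 0) (nat_lit 1) (BT.fix (nat_lit 257) (BT.and (nat_lit 1) (nat_lit 0) (BT.cnt (nat_lit 0))))))

theorem ct_nc28_21_cnt : Cnt 276 (grp 276 tt_c4_K) [g804] [g792] 0 0 0 0 0 :=
  BT.sound ct_nc28_21_cnt_P Known.nil (t := ct_nc28_21_cnt_t) (d := 0) (by decide +kernel)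

theorem ct_nc28_21 : ¬ CjIn (grp 276 tt_c4_K) (Net.toPerm 276 g804) (Net.toPerm 276 g792) :=
  not_cjIn ct_nc28_21_cnt

noncomputable def ct_nc28_24_cnt_L : List ℕ := [0, 15, TC_s0_O, 0, 0]

theorem ct_nc28_24_cnt_P : Prob 276 9 (grp 276 tt_c4_K) ct_nc28_24_cnt_EG [g804] [g799] ct_c24_K ct_nc28_24_cnt_L 0 0 :=
  Sym.prob hn hk ct_c24_sym ct_nc28_24_cnt_EG_ok (grp_nil_le _) (Frames.cons TC_s0_F Frames.nil) (okE_cons.2 ⟨g804_ok, okE_nil _⟩) _

noncomputable def ct_nc28_24_cnt_t : BT := (BT.frm (nat_lit 0) (nat_lit 0) (nat_lit 0) [] (BT.pln (nat_lit 0) (nat_lit 4) (BT.fix (nat_lit 257) (BT.and (nat_lit 1) (nat_lit 0) (BT.cnt (nat_lit 0))))))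

theorem ct_nc28_24_cnt : Cnt 276 (grp 276 tt_c4_K) [g804] [g799] 0 0 0 0 0 :=
  BT.sound ct_nc28_24_cnt_P Known.nil (t := ct_nc28_24_cnt_t) (d := 0) (by decide +kernel)

theorem ct_nc28_24 : ¬ CjIn (grp 276 tt_c4_K) (Net.toPerm 276 g804) (Net.toPerm 276 g799) :=
  not_cjIn ct_nc28_24_cnt

noncomputable def ct_nc28_25_cnt_L : List ℕ := [0, 15, TC_s0_O, 0, 0]

theorem ct_nc28_25_cnt_P : Prob 276 9 (grp 276 tt_c4_K) ct_nc28_25_cnt_EG [g804] [g735] ct_c25_K ct_nc28_25_cnt_L 0 0 :=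
  Sym.prob hn hk ct_c25_sym ct_nc28_25_cnt_EG_ok (grp_nil_le _) (Frames.cons TC_s0_F Frames.nil) (okE_cons.2 ⟨g804_ok, okE_nil _⟩) _

noncomputable def ct_nc28_25_cnt_t : BT := (BT.frm (nat_lit 0) (nat_lit 0) (nat_lit 0) [] (BT.pln (nat_lit 0) (nat_lit 3) (BT.fix (nat_lit 257) (BT.and (nat_lit 1) (nat_lit 0) (BT.cnt (nat_lit 0))))))

theorem ct_nc28_25_cnt : Cnt 276 (grp 276 tt_c4_K) [g804] [g735] 0 0 0 0 0 :=
  BT.sound ct_nc28_25_cnt_P Known.nil (t := ct_nc28_25_cnt_t) (d := 0) (by decide +kernel)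

theorem ct_nc28_25 : ¬ CjIn (grp 276 tt_c4_K) (Net.toPerm 276 g804) (Net.toPerm 276 g735) :=
  not_cjIn ct_nc28_25_cnt

noncomputable def ct_nc28_26_cnt_L : List ℕ := [0, 15, TC_s0_O, 0, 0]

theorem ct_nc28_26_cnt_P : Prob 276 9 (grp 276 tt_c4_K) ct_nc28_26_cnt_EG [g804] [g795] ct_c26_K ct_nc28_26_cnt_L 0 0 :=
  Sym.prob hn hk ct_c26_sym ct_nc28_26_cnt_EG_ok (grp_nil_le _) (Frames.cons TC_s0_F Frames.nil) (okE_cons.2 ⟨g804_ok, okE_nil _⟩) _

noncomputable def ct_nc28_26_cnt_t : BT := (BT.frm (nat_lit 0) (nat_lit 0) (nat_lit 0) [] (BT.pln (nat_lit 0) (nat_lit 0) (BT.fix (nat_lit 257) (BT.and (nat_lit 1) (nat_lit 0) (BT.cnt (nat_lit 0))))))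

theorem ct_nc28_26_cnt : Cnt 276 (grp 276 tt_c4_K) [g804] [g795] 0 0 0 0 0 :=
  BT.sound ct_nc28_26_cnt_P Known.nil (t := ct_nc28_26_cnt_t) (d := 0) (by decide +kernel)

theorem ct_nc28_26 : ¬ CjIn (grp 276 tt_c4_K) (Net.toPerm 276 g804) (Net.toPerm 276 g795) :=
  not_cjIn ct_nc28_26_cnt

noncomputable def ct_nc28_27_cnt_L : List ℕ := [0, 15, TC_s0_O, 0, 0]

theorem ct_nc28_27_cnt_P : Prob 276 9 (grp 276 tt_c4_K) ct_nc28_27_cnt_EG [g804] [g524] ct_c27_K ct_nc28_27_cnt_L 0 0 :=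
  Sym.prob hn hk ct_c27_sym ct_nc28_27_cnt_EG_ok (grp_nil_le _) (Frames.cons TC_s0_F Frames.nil) (okE_cons.2 ⟨g804_ok, okE_nil _⟩) _

noncomputable def ct_nc28_27_cnt_t : BT := (BT.frm (nat_lit 0) (nat_lit 0) (nat_lit 0) [] (BT.pln (nat_lit 0) (nat_lit 1) (BT.fix (nat_lit 257) (BT.and (nat_lit 1) (nat_lit 0) (BT.cnt (nat_lit 0))))))

theorem ct_nc28_27_cnt : Cnt 276 (grp 276 tt_c4_K) [g804] [g524] 0 0 0 0 0 :=
  BT.sound ct_nc28_27_cnt_P Known.nil (t := ct_nc28_27_cnt_t) (d := 0) (by decide +kernel)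

theorem ct_nc28_27 : ¬ CjIn (grp 276 tt_c4_K) (Net.toPerm 276 g804) (Net.toPerm 276 g524) :=
  not_cjIn ct_nc28_27_cnt

noncomputable def ct_nc29_16_cnt_L : List ℕ := [0, 15, TC_s0_O, 0, 0]

theorem ct_nc29_16_cnt_P : Prob 276 9 (grp 276 tt_c4_K) ct_nc29_16_cnt_EG [g546] [g705] ct_c16_K ct_nc29_16_cnt_L 0 0 :=
  Sym.prob hn hk ct_c16_sym ct_nc29_16_cnt_EG_ok (grp_nil_le _) (Frames.cons TC_s0_F Frames.nil) (okE_cons.2 ⟨g546_ok, okE_nil _⟩) _

noncomputable def ct_nc29_16_cnt_t : BT := (BT.frm (nat_lit 0) (nat_lit 0) (nat_lit 0) [] (BT.pln (nat_lit 0) (nat_lit 4) (BT.fix (nat_lit 257) (BT.and (nat_lit 1) (nat_lit 0) (BT.cnt (nat_lit 0))))))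

theorem ct_nc29_16_cnt : Cnt 276 (grp 276 tt_c4_K) [g546] [g705] 0 0 0 0 0 :=
  BT.sound ct_nc29_16_cnt_P Known.nil (t := ct_nc29_16_cnt_t) (d := 0) (by decide +kernel)

theorem ct_nc29_16 : ¬ CjIn (grp 276 tt_c4_K) (Net.toPerm 276 g546) (Net.toPerm 276 g705) :=
  not_cjIn ct_nc29_16_cnt

noncomputable def ct_nc29_17_cnt_L : List ℕ := [0, 15, TC_s0_O, 0, 0]

theorem ct_nc29_17_cnt_P : Prob 276 9 (grp 276 tt_c4_K) ct_nc29_17_cnt_EG [g546] [g127] ct_c17_K ct_nc29_17_cnt_L 0 0 :=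
  Sym.prob hn hk ct_c17_sym ct_nc29_17_cnt_EG_ok (grp_nil_le _) (Frames.cons TC_s0_F Frames.nil) (okE_cons.2 ⟨g546_ok, okE_nil _⟩) _

noncomputable def ct_nc29_17_cnt_t : BT := (BT.frm (nat_lit 0) (nat_lit 0) (nat_lit 0) [] (BT.pln (nat_lit 0) (nat_lit 9) (BT.fix (nat_lit 1) (BT.and (nat_lit 1) (nat_lit 0) (BT.cnt (nat_lit 0))))))

theorem ct_nc29_17_cnt : Cnt 276 (grp 276 tt_c4_K) [g546] [g127] 0 0 0 0 0 :=
  BT.sound ct_nc29_17_cnt_P Known.nil (t := ct_nc29_17_cnt_t) (d := 0) (by decide +kernel)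

theorem ct_nc29_17 : ¬ CjIn (grp 276 tt_c4_K) (Net.toPerm 276 g546) (Net.toPerm 276 g127) :=
  not_cjIn ct_nc29_17_cnt

noncomputable def ct_nc29_19_cnt_L : List ℕ := [0, 15, TC_s0_O, 0, 0]

theorem ct_nc29_19_cnt_P : Prob 276 9 (grp 276 tt_c4_K) ct_nc29_19_cnt_EG [g546] [g717] ct_c19_K ct_nc29_19_cnt_L 0 0 :=
  Sym.prob hn hk ct_c19_sym ct_nc29_19_cnt_EG_ok (grp_nil_le _) (Frames.cons TC_s0_F Frames.nil) (okE_cons.2 ⟨g546_ok, okE_nil _⟩) _

noncomputable def ct_nc29_19_cnt_t : BT := (BT.frm (nat_lit 0) (nat_lit 0) (nat_lit 0) [] (BT.pln (nat_lit 0) (nat_lit 3) (BT.fix (nat_lit 257) (BT.and (nat_lit 1) (nat_lit 0) (BT.cnt (nat_lit 0))))))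

theorem ct_nc29_19_cnt : Cnt 276 (grp 276 tt_c4_K) [g546] [g717] 0 0 0 0 0 :=
  BT.sound ct_nc29_19_cnt_P Known.nil (t := ct_nc29_19_cnt_t) (d := 0) (by decide +kernel)

theorem ct_nc29_19 : ¬ CjIn (grp 276 tt_c4_K) (Net.toPerm 276 g546) (Net.toPerm 276 g717) :=
  not_cjIn ct_nc29_19_cnt

noncomputable def ct_nc29_20_cnt_L : List ℕ := [0, 15, TC_s0_O, 0, 0]

theorem ct_nc29_20_cnt_P : Prob 276 9 (grp 276 tt_c4_K) ct_nc29_20_cnt_EG [g546] [g790] ct_c20_K ct_nc29_20_cnt_L 0 0 :=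
  Sym.prob hn hk ct_c20_sym ct_nc29_20_cnt_EG_ok (grp_nil_le _) (Frames.cons TC_s0_F Frames.nil) (okE_cons.2 ⟨g546_ok, okE_nil _⟩) _

noncomputable def ct_nc29_20_cnt_t : BT := (BT.frm (nat_lit 0) (nat_lit 0) (nat_lit 0) [] (BT.pln (nat_lit 0) (nat_lit 0) (BT.fix (nat_lit 257) (BT.and (nat_lit 1) (nat_lit 0) (BT.cnt (nat_lit 0))))))

theorem ct_nc29_20_cnt : Cnt 276 (grp 276 tt_c4_K) [g546] [g790] 0 0 0 0 0 :=
  BT.sound ct_nc29_20_cnt_P Known.nil (t := ct_nc29_20_cnt_t) (d := 0) (by decide +kernel)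

theorem ct_nc29_20 : ¬ CjIn (grp 276 tt_c4_K) (Net.toPerm 276 g546) (Net.toPerm 276 g790) :=
  not_cjIn ct_nc29_20_cnt

noncomputable def ct_nc29_21_cnt_L : List ℕ := [0, 15, TC_s0_O, 0, 0]

theorem ct_nc29_21_cnt_P : Prob 276 9 (grp 276 tt_c4_K) ct_nc29_21_cnt_EG [g546] [g792] ct_c21_K ct_nc29_21_cnt_L 0 0 :=
  Sym.prob hn hk ct_c21_sym ct_nc29_21_cnt_EG_ok (grp_nil_le _) (Frames.cons TC_s0_F Frames.nil) (okE_cons.2 ⟨g546_ok, okE_nil _⟩) _

noncomputable def ct_nc29_21_cnt_t : BT := (BT.frm (nat_lit 0) (nat_lit 0) (nat_lit 0) [] (BT.pln (nat_lit 0) (nat_lit 1) (BT.fix (nat_lit 257) (BT.and (nat_lit 1) (nat_lit 0) (BT.cnt (nat_lit 0))))))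

theorem ct_nc29_21_cnt : Cnt 276 (grp 276 tt_c4_K) [g546] [g792] 0 0 0 0 0 :=
  BT.sound ct_nc29_21_cnt_P Known.nil (t := ct_nc29_21_cnt_t) (d := 0) (by decide +kernel)

theorem ct_nc29_21 : ¬ CjIn (grp 276 tt_c4_K) (Net.toPerm 276 g546) (Net.toPerm 276 g792) :=
  not_cjIn ct_nc29_21_cnt

noncomputable def ct_nc29_24_cnt_L : List ℕ := [0, 15, TC_s0_O, 0, 0]

theorem ct_nc29_24_cnt_P : Prob 276 9 (grp 276 tt_c4_K) ct_nc29_24_cnt_EG [g546] [g799] ct_c24_K ct_nc29_24_cnt_L 0 0 :=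
  Sym.prob hn hk ct_c24_sym ct_nc29_24_cnt_EG_ok (grp_nil_le _) (Frames.cons TC_s0_F Frames.nil) (okE_cons.2 ⟨g546_ok, okE_nil _⟩) _

noncomputable def ct_nc29_24_cnt_t : BT := (BT.frm (nat_lit 0) (nat_lit 0) (nat_lit 0) [] (BT.pln (nat_lit 0) (nat_lit 5) (BT.fix (nat_lit 257) (BT.and (nat_lit 1) (nat_lit 0) (BT.cnt (nat_lit 0))))))

theorem ct_nc29_24_cnt : Cnt 276 (grp 276 tt_c4_K) [g546] [g799] 0 0 0 0 0 :=
  BT.sound ct_nc29_24_cnt_P Known.nil (t := ct_nc29_24_cnt_t) (d := 0) (by decide +kernel)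

theorem ct_nc29_24 : ¬ CjIn (grp 276 tt_c4_K) (Net.toPerm 276 g546) (Net.toPerm 276 g799) :=
  not_cjIn ct_nc29_24_cnt

noncomputable def ct_nc29_25_cnt_L : List ℕ := [0, 15, TC_s0_O, 0, 0]

theorem ct_nc29_25_cnt_P : Prob 276 9 (grp 276 tt_c4_K) ct_nc29_25_cnt_EG [g546] [g735] ct_c25_K ct_nc29_25_cnt_L 0 0 :=
  Sym.prob hn hk ct_c25_sym ct_nc29_25_cnt_EG_ok (grp_nil_le _) (Frames.cons TC_s0_F Frames.nil) (okE_cons.2 ⟨g546_ok, okE_nil _⟩) _

noncomputable def ct_nc29_25_cnt_t : BT := (BT.frm (nat_lit 0) (nat_lit 0) (nat_lit 0) [] (BT.pln (nat_lit 0) (nat_lit 3) (BT.fix (nat_lit 257) (BT.and (nat_lit 1) (nat_lit 0) (BT.cnt (nat_lit 0))))))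

theorem ct_nc29_25_cnt : Cnt 276 (grp 276 tt_c4_K) [g546] [g735] 0 0 0 0 0 :=
  BT.sound ct_nc29_25_cnt_P Known.nil (t := ct_nc29_25_cnt_t) (d := 0) (by decide +kernel)

theorem ct_nc29_25 : ¬ CjIn (grp 276 tt_c4_K) (Net.toPerm 276 g546) (Net.toPerm 276 g735) :=
  not_cjIn ct_nc29_25_cnt

noncomputable def ct_nc29_26_cnt_L : List ℕ := [0, 15, TC_s0_O, 0, 0]

theorem ct_nc29_26_cnt_P : Prob 276 9 (grp 276 tt_c4_K) ct_nc29_26_cnt_EG [g546] [g795] ct_c26_K ct_nc29_26_cnt_L 0 0 :=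
  Sym.prob hn hk ct_c26_sym ct_nc29_26_cnt_EG_ok (grp_nil_le _) (Frames.cons TC_s0_F Frames.nil) (okE_cons.2 ⟨g546_ok, okE_nil _⟩) _

noncomputable def ct_nc29_26_cnt_t : BT := (BT.frm (nat_lit 0) (nat_lit 0) (nat_lit 0) [] (BT.pln (nat_lit 0) (nat_lit 0) (BT.fix (nat_lit 257) (BT.and (nat_lit 1) (nat_lit 0) (BT.cnt (nat_lit 0))))))

theorem ct_nc29_26_cnt : Cnt 276 (grp 276 tt_c4_K) [g546] [g795] 0 0 0 0 0 :=
  BT.sound ct_nc29_26_cnt_P Known.nil (t := ct_nc29_26_cnt_t) (d := 0) (by decide +kernel)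

theorem ct_nc29_26 : ¬ CjIn (grp 276 tt_c4_K) (Net.toPerm 276 g546) (Net.toPerm 276 g795) :=
  not_cjIn ct_nc29_26_cnt

noncomputable def ct_nc29_27_cnt_L : List ℕ := [0, 15, TC_s0_O, 0, 0]

theorem ct_nc29_27_cnt_P : Prob 276 9 (grp 276 tt_c4_K) ct_nc29_27_cnt_EG [g546] [g524] ct_c27_K ct_nc29_27_cnt_L 0 0 :=
  Sym.prob hn hk ct_c27_sym ct_nc29_27_cnt_EG_ok (grp_nil_le _) (Frames.cons TC_s0_F Frames.nil) (okE_cons.2 ⟨g546_ok, okE_nil _⟩) _

noncomputable def ct_nc29_27_cnt_t : BT := (BT.frm (nat_lit 0) (nat_lit 0) (nat_lit 0) [] (BT.pln (nat_lit 0) (nat_lit 1) (BT.fix (nat_lit 257) (BT.and (nat_lit 1) (nat_lit 0) (BT.cnt (nat_lit 0))))))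

theorem ct_nc29_27_cnt : Cnt 276 (grp 276 tt_c4_K) [g546] [g524] 0 0 0 0 0 :=
  BT.sound ct_nc29_27_cnt_P Known.nil (t := ct_nc29_27_cnt_t) (d := 0) (by decide +kernel)

theorem ct_nc29_27 : ¬ CjIn (grp 276 tt_c4_K) (Net.toPerm 276 g546) (Net.toPerm 276 g524) :=
  not_cjIn ct_nc29_27_cnt

noncomputable def ct_nc29_28_cnt_L : List ℕ := [0, 15, TC_s0_O, 0, 0]

theorem ct_nc29_28_cnt_P : Prob 276 9 (grp 276 tt_c4_K) ct_nc29_28_cnt_EG [g546] [g804] ct_c28_K ct_nc29_28_cnt_L 0 0 :=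
  Sym.prob hn hk ct_c28_sym ct_nc29_28_cnt_EG_ok (grp_nil_le _) (Frames.cons TC_s0_F Frames.nil) (okE_cons.2 ⟨g546_ok, okE_nil _⟩) _

noncomputable def ct_nc29_28_cnt_t : BT := (BT.frm (nat_lit 0) (nat_lit 0) (nat_lit 0) [] (BT.pln (nat_lit 0) (nat_lit 4) (BT.fix (nat_lit 257) (BT.and (nat_lit 1) (nat_lit 0) (BT.cnt (nat_lit 0))))))

theorem ct_nc29_28_cnt : Cnt 276 (grp 276 tt_c4_K) [g546] [g804] 0 0 0 0 0 :=
  BT.sound ct_nc29_28_cnt_P Known.nil (t := ct_nc29_28_cnt_t) (d := 0) (by decide +kernel)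

theorem ct_nc29_28 : ¬ CjIn (grp 276 tt_c4_K) (Net.toPerm 276 g546) (Net.toPerm 276 g804) :=
  not_cjIn ct_nc29_28_cnt

noncomputable def ct_nc30_18_cnt_L : List ℕ := [0, 15, TC_s0_O, 0, 0]

theorem ct_nc30_18_cnt_P : Prob 276 9 (grp 276 tt_c4_K) ct_nc30_18_cnt_EG [g522] [g712] ct_c18_K ct_nc30_18_cnt_L 0 0 :=
  Sym.prob hn hk ct_c18_sym ct_nc30_18_cnt_EG_ok (grp_nil_le _) (Frames.cons TC_s0_F Frames.nil) (okE_cons.2 ⟨g522_ok, okE_nil _⟩) _

noncomputable def ct_nc30_18_cnt_t : BT := (BT.frm (nat_lit 0) (nat_lit 0) (nat_lit 0) [] (BT.pln (nat_lit 0) (nat_lit 4) (BT.fix (nat_lit 1) (BT.and (nat_lit 1) (nat_lit 0) (BT.cnt (nat_lit 0))))))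

theorem ct_nc30_18_cnt : Cnt 276 (grp 276 tt_c4_K) [g522] [g712] 0 0 0 0 0 :=
  BT.sound ct_nc30_18_cnt_P Known.nil (t := ct_nc30_18_cnt_t) (d := 0) (by decide +kernel)

theorem ct_nc30_18 : ¬ CjIn (grp 276 tt_c4_K) (Net.toPerm 276 g522) (Net.toPerm 276 g712) :=
  not_cjIn ct_nc30_18_cnt

noncomputable def ct_nc30_22_cnt_L : List ℕ := [0, 15, TC_s0_O, 0, 0]

theorem ct_nc30_22_cnt_P : Prob 276 9 (grp 276 tt_c4_K) ct_nc30_22_cnt_EG [g522] [g794] ct_c22_K ct_nc30_22_cnt_L 0 0 :=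
  Sym.prob hn hk ct_c22_sym ct_nc30_22_cnt_EG_ok (grp_nil_le _) (Frames.cons TC_s0_F Frames.nil) (okE_cons.2 ⟨g522_ok, okE_nil _⟩) _

noncomputable def ct_nc30_22_cnt_t : BT := (BT.frm (nat_lit 0) (nat_lit 0) (nat_lit 0) [] (BT.pln (nat_lit 0) (nat_lit 2) (BT.fix (nat_lit 1) (BT.and (nat_lit 1) (nat_lit 0) (BT.cnt (nat_lit 0))))))

theorem ct_nc30_22_cnt : Cnt 276 (grp 276 tt_c4_K) [g522] [g794] 0 0 0 0 0 :=
  BT.sound ct_nc30_22_cnt_P Known.nil (t := ct_nc30_22_cnt_t) (d := 0) (by decide +kernel)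

theorem ct_nc30_22 : ¬ CjIn (grp 276 tt_c4_K) (Net.toPerm 276 g522) (Net.toPerm 276 g794) :=
  not_cjIn ct_nc30_22_cnt

noncomputable def ct_nc30_23_cnt_L : List ℕ := [0, 15, TC_s0_O, 0, 0]

theorem ct_nc30_23_cnt_P : Prob 276 9 (grp 276 tt_c4_K) ct_nc30_23_cnt_EG [g522] [g797] ct_c23_K ct_nc30_23_cnt_L 0 0 :=
  Sym.prob hn hk ct_c23_sym ct_nc30_23_cnt_EG_ok (grp_nil_le _) (Frames.cons TC_s0_F Frames.nil) (okE_cons.2 ⟨g522_ok, okE_nil _⟩) _

noncomputable def ct_nc30_23_cnt_t : BT := (BT.frm (nat_lit 0) (nat_lit 0) (nat_lit 0) [] (BT.pln (nat_lit 0) (nat_lit 1) (BT.fix (nat_lit 1) (BT.and (nat_lit 1) (nat_lit 0) (BT.cnt (nat_lit 0))))))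

theorem ct_nc30_23_cnt : Cnt 276 (grp 276 tt_c4_K) [g522] [g797] 0 0 0 0 0 :=
  BT.sound ct_nc30_23_cnt_P Known.nil (t := ct_nc30_23_cnt_t) (d := 0) (by decide +kernel)

theorem ct_nc30_23 : ¬ CjIn (grp 276 tt_c4_K) (Net.toPerm 276 g522) (Net.toPerm 276 g797) :=
  not_cjIn ct_nc30_23_cnt

noncomputable def ct_nc31_16_cnt_L : List ℕ := [0, 15, TC_s0_O, 0, 0]

theorem ct_nc31_16_cnt_P : Prob 276 9 (grp 276 tt_c4_K) ct_nc31_16_cnt_EG [g698] [g705] ct_c16_K ct_nc31_16_cnt_L 0 0 :=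
  Sym.prob hn hk ct_c16_sym ct_nc31_16_cnt_EG_ok (grp_nil_le _) (Frames.cons TC_s0_F Frames.nil) (okE_cons.2 ⟨g698_ok, okE_nil _⟩) _

noncomputable def ct_nc31_16_cnt_t : BT := (BT.frm (nat_lit 0) (nat_lit 0) (nat_lit 0) [] (BT.pln (nat_lit 0) (nat_lit 3) (BT.fix (nat_lit 257) (BT.and (nat_lit 1) (nat_lit 0) (BT.cnt (nat_lit 0))))))

theorem ct_nc31_16_cnt : Cnt 276 (grp 276 tt_c4_K) [g698] [g705] 0 0 0 0 0 :=
  BT.sound ct_nc31_16_cnt_P Known.nil (t := ct_nc31_16_cnt_t) (d := 0) (by decide +kernel)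

theorem ct_nc31_16 : ¬ CjIn (grp 276 tt_c4_K) (Net.toPerm 276 g698) (Net.toPerm 276 g705) :=
  not_cjIn ct_nc31_16_cnt

noncomputable def ct_nc31_17_cnt_L : List ℕ := [0, 15, TC_s0_O, 0, 0]

theorem ct_nc31_17_cnt_P : Prob 276 9 (grp 276 tt_c4_K) ct_nc31_17_cnt_EG [g698] [g127] ct_c17_K ct_nc31_17_cnt_L 0 0 :=
  Sym.prob hn hk ct_c17_sym ct_nc31_17_cnt_EG_ok (grp_nil_le _) (Frames.cons TC_s0_F Frames.nil) (okE_cons.2 ⟨g698_ok, okE_nil _⟩) _

noncomputable def ct_nc31_17_cnt_t : BT := (BT.frm (nat_lit 0) (nat_lit 0) (nat_lit 0) [] (BT.pln (nat_lit 0) (nat_lit 3) (BT.fix (nat_lit 257) (BT.and (nat_lit 1) (nat_lit 0) (BT.cnt (nat_lit 0))))))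

theorem ct_nc31_17_cnt : Cnt 276 (grp 276 tt_c4_K) [g698] [g127] 0 0 0 0 0 :=
  BT.sound ct_nc31_17_cnt_P Known.nil (t := ct_nc31_17_cnt_t) (d := 0) (by decide +kernel)

theorem ct_nc31_17 : ¬ CjIn (grp 276 tt_c4_K) (Net.toPerm 276 g698) (Net.toPerm 276 g127) :=
  not_cjIn ct_nc31_17_cnt

noncomputable def ct_nc31_19_cnt_L : List ℕ := [0, 15, TC_s0_O, 0, 0]

theorem ct_nc31_19_cnt_P : Prob 276 9 (grp 276 tt_c4_K) ct_nc31_19_cnt_EG [g698] [g717] ct_c19_K ct_nc31_19_cnt_L 0 0 :=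
  Sym.prob hn hk ct_c19_sym ct_nc31_19_cnt_EG_ok (grp_nil_le _) (Frames.cons TC_s0_F Frames.nil) (okE_cons.2 ⟨g698_ok, okE_nil _⟩) _

noncomputable def ct_nc31_19_cnt_t : BT := (BT.frm (nat_lit 0) (nat_lit 0) (nat_lit 0) [] (BT.pln (nat_lit 0) (nat_lit 8) (BT.fix (nat_lit 1) (BT.and (nat_lit 1) (nat_lit 0) (BT.cnt (nat_lit 0))))))

theorem ct_nc31_19_cnt : Cnt 276 (grp 276 tt_c4_K) [g698] [g717] 0 0 0 0 0 :=
  BT.sound ct_nc31_19_cnt_P Known.nil (t := ct_nc31_19_cnt_t) (d := 0) (by decide +kernel)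

theorem ct_nc31_19 : ¬ CjIn (grp 276 tt_c4_K) (Net.toPerm 276 g698) (Net.toPerm 276 g717) :=
  not_cjIn ct_nc31_19_cnt

noncomputable def ct_nc31_20_cnt_L : List ℕ := [0, 15, TC_s0_O, 0, 0]

theorem ct_nc31_20_cnt_P : Prob 276 9 (grp 276 tt_c4_K) ct_nc31_20_cnt_EG [g698] [g790] ct_c20_K ct_nc31_20_cnt_L 0 0 :=
  Sym.prob hn hk ct_c20_sym ct_nc31_20_cnt_EG_ok (grp_nil_le _) (Frames.cons TC_s0_F Frames.nil) (okE_cons.2 ⟨g698_ok, okE_nil _⟩) _

noncomputable def ct_nc31_20_cnt_t : BT := (BT.frm (nat_lit 0) (nat_lit 0) (nat_lit 0) [] (BT.pln (nat_lit 0) (nat_lit 0) (BT.fix (nat_lit 257) (BT.and (nat_lit 1) (nat_lit 0) (BT.cnt (nat_lit 0))))))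

theorem ct_nc31_20_cnt : Cnt 276 (grp 276 tt_c4_K) [g698] [g790] 0 0 0 0 0 :=
  BT.sound ct_nc31_20_cnt_P Known.nil (t := ct_nc31_20_cnt_t) (d := 0) (by decide +kernel)

theorem ct_nc31_20 : ¬ CjIn (grp 276 tt_c4_K) (Net.toPerm 276 g698) (Net.toPerm 276 g790) :=
  not_cjIn ct_nc31_20_cnt

noncomputable def ct_nc31_21_cnt_L : List ℕ := [0, 15, TC_s0_O, 0, 0]

theorem ct_nc31_21_cnt_P : Prob 276 9 (grp 276 tt_c4_K) ct_nc31_21_cnt_EG [g698] [g792] ct_c21_K ct_nc31_21_cnt_L 0 0 :=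
  Sym.prob hn hk ct_c21_sym ct_nc31_21_cnt_EG_ok (grp_nil_le _) (Frames.cons TC_s0_F Frames.nil) (okE_cons.2 ⟨g698_ok, okE_nil _⟩) _

noncomputable def ct_nc31_21_cnt_t : BT := (BT.frm (nat_lit 0) (nat_lit 0) (nat_lit 0) [] (BT.pln (nat_lit 0) (nat_lit 1) (BT.fix (nat_lit 257) (BT.and (nat_lit 1) (nat_lit 0) (BT.cnt (nat_lit 0))))))

theorem ct_nc31_21_cnt : Cnt 276 (grp 276 tt_c4_K) [g698] [g792] 0 0 0 0 0 :=
  BT.sound ct_nc31_21_cnt_P Known.nil (t := ct_nc31_21_cnt_t) (d := 0) (by decide +kernel)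

theorem ct_nc31_21 : ¬ CjIn (grp 276 tt_c4_K) (Net.toPerm 276 g698) (Net.toPerm 276 g792) :=
  not_cjIn ct_nc31_21_cnt

noncomputable def ct_nc31_24_cnt_L : List ℕ := [0, 15, TC_s0_O, 0, 0]

theorem ct_nc31_24_cnt_P : Prob 276 9 (grp 276 tt_c4_K) ct_nc31_24_cnt_EG [g698] [g799] ct_c24_K ct_nc31_24_cnt_L 0 0 :=
  Sym.prob hn hk ct_c24_sym ct_nc31_24_cnt_EG_ok (grp_nil_le _) (Frames.cons TC_s0_F Frames.nil) (okE_cons.2 ⟨g698_ok, okE_nil _⟩) _

noncomputable def ct_nc31_24_cnt_t : BT := (BT.frm (nat_lit 0) (nat_lit 0) (nat_lit 0) [] (BT.pln (nat_lit 0) (nat_lit 3) (BT.fix (nat_lit 257) (BT.and (nat_lit 1) (nat_lit 0) (BT.cnt (nat_lit 0))))))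

theorem ct_nc31_24_cnt : Cnt 276 (grp 276 tt_c4_K) [g698] [g799] 0 0 0 0 0 :=
  BT.sound ct_nc31_24_cnt_P Known.nil (t := ct_nc31_24_cnt_t) (d := 0) (by decide +kernel)

theorem ct_nc31_24 : ¬ CjIn (grp 276 tt_c4_K) (Net.toPerm 276 g698) (Net.toPerm 276 g799) :=
  not_cjIn ct_nc31_24_cnt

noncomputable def ct_nc31_25_cnt_L : List ℕ := [0, 15, TC_s0_O, 0, 0]

theorem ct_nc31_25_cnt_P : Prob 276 9 (grp 276 tt_c4_K) ct_nc31_25_cnt_EG [g698] [g735] ct_c25_K ct_nc31_25_cnt_L 0 0 :=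
  Sym.prob hn hk ct_c25_sym ct_nc31_25_cnt_EG_ok (grp_nil_le _) (Frames.cons TC_s0_F Frames.nil) (okE_cons.2 ⟨g698_ok, okE_nil _⟩) _

noncomputable def ct_nc31_25_cnt_t : BT := (BT.frm (nat_lit 0) (nat_lit 0) (nat_lit 0) [] (BT.pln (nat_lit 0) (nat_lit 8) (BT.fix (nat_lit 1) (BT.and (nat_lit 1) (nat_lit 0) (BT.cnt (nat_lit 0))))))

theorem ct_nc31_25_cnt : Cnt 276 (grp 276 tt_c4_K) [g698] [g735] 0 0 0 0 0 :=
  BT.sound ct_nc31_25_cnt_P Known.nil (t := ct_nc31_25_cnt_t) (d := 0) (by decide +kernel)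

theorem ct_nc31_25 : ¬ CjIn (grp 276 tt_c4_K) (Net.toPerm 276 g698) (Net.toPerm 276 g735) :=
  not_cjIn ct_nc31_25_cnt

noncomputable def ct_nc31_26_cnt_L : List ℕ := [0, 15, TC_s0_O, 0, 0]

theorem ct_nc31_26_cnt_P : Prob 276 9 (grp 276 tt_c4_K) ct_nc31_26_cnt_EG [g698] [g795] ct_c26_K ct_nc31_26_cnt_L 0 0 :=
  Sym.prob hn hk ct_c26_sym ct_nc31_26_cnt_EG_ok (grp_nil_le _) (Frames.cons TC_s0_F Frames.nil) (okE_cons.2 ⟨g698_ok, okE_nil _⟩) _

noncomputable def ct_nc31_26_cnt_t : BT := (BT.frm (nat_lit 0) (nat_lit 0) (nat_lit 0) [] (BT.pln (nat_lit 0) (nat_lit 0) (BT.fix (nat_lit 257) (BT.and (nat_lit 1) (nat_lit 0) (BT.cnt (nat_lit 0))))))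

theorem ct_nc31_26_cnt : Cnt 276 (grp 276 tt_c4_K) [g698] [g795] 0 0 0 0 0 :=
  BT.sound ct_nc31_26_cnt_P Known.nil (t := ct_nc31_26_cnt_t) (d := 0) (by decide +kernel)

theorem ct_nc31_26 : ¬ CjIn (grp 276 tt_c4_K) (Net.toPerm 276 g698) (Net.toPerm 276 g795) :=
  not_cjIn ct_nc31_26_cnt

noncomputable def ct_nc31_27_cnt_L : List ℕ := [0, 15, TC_s0_O, 0, 0]

theorem ct_nc31_27_cnt_P : Prob 276 9 (grp 276 tt_c4_K) ct_nc31_27_cnt_EG [g698] [g524] ct_c27_K ct_nc31_27_cnt_L 0 0 :=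
  Sym.prob hn hk ct_c27_sym ct_nc31_27_cnt_EG_ok (grp_nil_le _) (Frames.cons TC_s0_F Frames.nil) (okE_cons.2 ⟨g698_ok, okE_nil _⟩) _

noncomputable def ct_nc31_27_cnt_t : BT := (BT.frm (nat_lit 0) (nat_lit 0) (nat_lit 0) [] (BT.pln (nat_lit 0) (nat_lit 1) (BT.fix (nat_lit 257) (BT.and (nat_lit 1) (nat_lit 0) (BT.cnt (nat_lit 0))))))

theorem ct_nc31_27_cnt : Cnt 276 (grp 276 tt_c4_K) [g698] [g524] 0 0 0 0 0 :=
  BT.sound ct_nc31_27_cnt_P Known.nil (t := ct_nc31_27_cnt_t) (d := 0) (by decide +kernel)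

theorem ct_nc31_27 : ¬ CjIn (grp 276 tt_c4_K) (Net.toPerm 276 g698) (Net.toPerm 276 g524) :=
  not_cjIn ct_nc31_27_cnt

noncomputable def ct_nc31_28_cnt_L : List ℕ := [0, 15, TC_s0_O, 0, 0]

theorem ct_nc31_28_cnt_P : Prob 276 9 (grp 276 tt_c4_K) ct_nc31_28_cnt_EG [g698] [g804] ct_c28_K ct_nc31_28_cnt_L 0 0 :=
  Sym.prob hn hk ct_c28_sym ct_nc31_28_cnt_EG_ok (grp_nil_le _) (Frames.cons TC_s0_F Frames.nil) (okE_cons.2 ⟨g698_ok, okE_nil _⟩) _

noncomputable def ct_nc31_28_cnt_t : BT := (BT.frm (nat_lit 0) (nat_lit 0) (nat_lit 0) [] (BT.pln (nat_lit 0) (nat_lit 3) (BT.fix (nat_lit 257) (BT.and (nat_lit 1) (nat_lit 0) (BT.cnt (nat_lit 0))))))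

theorem ct_nc31_28_cnt : Cnt 276 (grp 276 tt_c4_K) [g698] [g804] 0 0 0 0 0 :=
  BT.sound ct_nc31_28_cnt_P Known.nil (t := ct_nc31_28_cnt_t) (d := 0) (by decide +kernel)

theorem ct_nc31_28 : ¬ CjIn (grp 276 tt_c4_K) (Net.toPerm 276 g698) (Net.toPerm 276 g804) :=
  not_cjIn ct_nc31_28_cnt

noncomputable def ct_nc31_29_cnt_L : List ℕ := [0, 15, TC_s0_O, 0, 0]

theorem ct_nc31_29_cnt_P : Prob 276 9 (grp 276 tt_c4_K) ct_nc31_29_cnt_EG [g698] [g546] ct_c29_K ct_nc31_29_cnt_L 0 0 :=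
  Sym.prob hn hk ct_c29_sym ct_nc31_29_cnt_EG_ok (grp_nil_le _) (Frames.cons TC_s0_F Frames.nil) (okE_cons.2 ⟨g698_ok, okE_nil _⟩) _

noncomputable def ct_nc31_29_cnt_t : BT := (BT.frm (nat_lit 0) (nat_lit 0) (nat_lit 0) [] (BT.pln (nat_lit 0) (nat_lit 3) (BT.fix (nat_lit 257) (BT.and (nat_lit 1) (nat_lit 0) (BT.cnt (nat_lit 0))))))

theorem ct_nc31_29_cnt : Cnt 276 (grp 276 tt_c4_K) [g698] [g546] 0 0 0 0 0 :=
  BT.sound ct_nc31_29_cnt_P Known.nil (t := ct_nc31_29_cnt_t) (d := 0) (by decide +kernel)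

theorem ct_nc31_29 : ¬ CjIn (grp 276 tt_c4_K) (Net.toPerm 276 g698) (Net.toPerm 276 g546) :=
  not_cjIn ct_nc31_29_cnt

noncomputable def ct_nc32_16_cnt_L : List ℕ := [0, 15, TC_s0_O, 0, 0]

theorem ct_nc32_16_cnt_P : Prob 276 9 (grp 276 tt_c4_K) ct_nc32_16_cnt_EG [g545] [g705] ct_c16_K ct_nc32_16_cnt_L 0 0 :=
  Sym.prob hn hk ct_c16_sym ct_nc32_16_cnt_EG_ok (grp_nil_le _) (Frames.cons TC_s0_F Frames.nil) (okE_cons.2 ⟨g545_ok, okE_nil _⟩) _

noncomputable def ct_nc32_16_cnt_t : BT := (BT.frm (nat_lit 0) (nat_lit 0) (nat_lit 0) [] (BT.pln (nat_lit 0) (nat_lit 2) (BT.fix (nat_lit 257) (BT.and (nat_lit 1) (nat_lit 0) (BT.cnt (nat_lit 0))))))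

theorem ct_nc32_16_cnt : Cnt 276 (grp 276 tt_c4_K) [g545] [g705] 0 0 0 0 0 :=
  BT.sound ct_nc32_16_cnt_P Known.nil (t := ct_nc32_16_cnt_t) (d := 0) (by decide +kernel)

theorem ct_nc32_16 : ¬ CjIn (grp 276 tt_c4_K) (Net.toPerm 276 g545) (Net.toPerm 276 g705) :=
  not_cjIn ct_nc32_16_cnt

noncomputable def ct_nc32_17_cnt_L : List ℕ := [0, 15, TC_s0_O, 0, 0]

theorem ct_nc32_17_cnt_P : Prob 276 9 (grp 276 tt_c4_K) ct_nc32_17_cnt_EG [g545] [g127] ct_c17_K ct_nc32_17_cnt_L 0 0 :=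
  Sym.prob hn hk ct_c17_sym ct_nc32_17_cnt_EG_ok (grp_nil_le _) (Frames.cons TC_s0_F Frames.nil) (okE_cons.2 ⟨g545_ok, okE_nil _⟩) _

noncomputable def ct_nc32_17_cnt_t : BT := (BT.frm (nat_lit 0) (nat_lit 0) (nat_lit 0) [] (BT.pln (nat_lit 0) (nat_lit 2) (BT.fix (nat_lit 257) (BT.and (nat_lit 1) (nat_lit 0) (BT.cnt (nat_lit 0))))))

theorem ct_nc32_17_cnt : Cnt 276 (grp 276 tt_c4_K) [g545] [g127] 0 0 0 0 0 :=
  BT.sound ct_nc32_17_cnt_P Known.nil (t := ct_nc32_17_cnt_t) (d := 0) (by decide +kernel)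

theorem ct_nc32_17 : ¬ CjIn (grp 276 tt_c4_K) (Net.toPerm 276 g545) (Net.toPerm 276 g127) :=
  not_cjIn ct_nc32_17_cnt

noncomputable def ct_nc32_19_cnt_L : List ℕ := [0, 15, TC_s0_O, 0, 0]

theorem ct_nc32_19_cnt_P : Prob 276 9 (grp 276 tt_c4_K) ct_nc32_19_cnt_EG [g545] [g717] ct_c19_K ct_nc32_19_cnt_L 0 0 :=
  Sym.prob hn hk ct_c19_sym ct_nc32_19_cnt_EG_ok (grp_nil_le _) (Frames.cons TC_s0_F Frames.nil) (okE_cons.2 ⟨g545_ok, okE_nil _⟩) _

noncomputable def ct_nc32_19_cnt_t : BT := (BT.frm (nat_lit 0) (nat_lit 0) (nat_lit 0) [] (BT.pln (nat_lit 0) (nat_lit 2) (BT.fix (nat_lit 257) (BT.and (nat_lit 1) (nat_lit 0) (BT.cnt (nat_lit 0))))))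

theorem ct_nc32_19_cnt : Cnt 276 (grp 276 tt_c4_K) [g545] [g717] 0 0 0 0 0 :=
  BT.sound ct_nc32_19_cnt_P Known.nil (t := ct_nc32_19_cnt_t) (d := 0) (by decide +kernel)

theorem ct_nc32_19 : ¬ CjIn (grp 276 tt_c4_K) (Net.toPerm 276 g545) (Net.toPerm 276 g717) :=
  not_cjIn ct_nc32_19_cnt

noncomputable def ct_nc32_20_cnt_L : List ℕ := [0, 15, TC_s0_O, 0, 0]

theorem ct_nc32_20_cnt_P : Prob 276 9 (grp 276 tt_c4_K) ct_nc32_20_cnt_EG [g545] [g790] ct_c20_K ct_nc32_20_cnt_L 0 0 :=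
  Sym.prob hn hk ct_c20_sym ct_nc32_20_cnt_EG_ok (grp_nil_le _) (Frames.cons TC_s0_F Frames.nil) (okE_cons.2 ⟨g545_ok, okE_nil _⟩) _

noncomputable def ct_nc32_20_cnt_t : BT := (BT.frm (nat_lit 0) (nat_lit 0) (nat_lit 0) [] (BT.pln (nat_lit 0) (nat_lit 0) (BT.fix (nat_lit 257) (BT.and (nat_lit 1) (nat_lit 0) (BT.cnt (nat_lit 0))))))

theorem ct_nc32_20_cnt : Cnt 276 (grp 276 tt_c4_K) [g545] [g790] 0 0 0 0 0 :=
  BT.sound ct_nc32_20_cnt_P Known.nil (t := ct_nc32_20_cnt_t) (d := 0) (by decide +kernel)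

theorem ct_nc32_20 : ¬ CjIn (grp 276 tt_c4_K) (Net.toPerm 276 g545) (Net.toPerm 276 g790) :=
  not_cjIn ct_nc32_20_cnt

noncomputable def ct_nc32_21_cnt_L : List ℕ := [0, 15, TC_s0_O, 0, 0]

theorem ct_nc32_21_cnt_P : Prob 276 9 (grp 276 tt_c4_K) ct_nc32_21_cnt_EG [g545] [g792] ct_c21_K ct_nc32_21_cnt_L 0 0 :=
  Sym.prob hn hk ct_c21_sym ct_nc32_21_cnt_EG_ok (grp_nil_le _) (Frames.cons TC_s0_F Frames.nil) (okE_cons.2 ⟨g545_ok, okE_nil _⟩) _

noncomputable def ct_nc32_21_cnt_t : BT := (BT.frm (nat_lit 0) (nat_lit 0) (nat_lit 0) [] (BT.pln (nat_lit 0) (nat_lit 1) (BT.fix (nat_lit 257) (BT.and (nat_lit 1) (nat_lit 0) (BT.cnt (nat_lit 0))))))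

theorem ct_nc32_21_cnt : Cnt 276 (grp 276 tt_c4_K) [g545] [g792] 0 0 0 0 0 :=
  BT.sound ct_nc32_21_cnt_P Known.nil (t := ct_nc32_21_cnt_t) (d := 0) (by decide +kernel)

theorem ct_nc32_21 : ¬ CjIn (grp 276 tt_c4_K) (Net.toPerm 276 g545) (Net.toPerm 276 g792) :=
  not_cjIn ct_nc32_21_cnt

noncomputable def ct_nc32_24_cnt_L : List ℕ := [0, 15, TC_s0_O, 0, 0]

theorem ct_nc32_24_cnt_P : Prob 276 9 (grp 276 tt_c4_K) ct_nc32_24_cnt_EG [g545] [g799] ct_c24_K ct_nc32_24_cnt_L 0 0 :=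
  Sym.prob hn hk ct_c24_sym ct_nc32_24_cnt_EG_ok (grp_nil_le _) (Frames.cons TC_s0_F Frames.nil) (okE_cons.2 ⟨g545_ok, okE_nil _⟩) _

noncomputable def ct_nc32_24_cnt_t : BT := (BT.frm (nat_lit 0) (nat_lit 0) (nat_lit 0) [] (BT.pln (nat_lit 0) (nat_lit 2) (BT.fix (nat_lit 257) (BT.and (nat_lit 1) (nat_lit 0) (BT.cnt (nat_lit 0))))))

theorem ct_nc32_24_cnt : Cnt 276 (grp 276 tt_c4_K) [g545] [g799] 0 0 0 0 0 :=
  BT.sound ct_nc32_24_cnt_P Known.nil (t := ct_nc32_24_cnt_t) (d := 0) (by decide +kernel)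

theorem ct_nc32_24 : ¬ CjIn (grp 276 tt_c4_K) (Net.toPerm 276 g545) (Net.toPerm 276 g799) :=
  not_cjIn ct_nc32_24_cnt

noncomputable def ct_nc32_25_cnt_L : List ℕ := [0, 15, TC_s0_O, 0, 0]

theorem ct_nc32_25_cnt_P : Prob 276 9 (grp 276 tt_c4_K) ct_nc32_25_cnt_EG [g545] [g735] ct_c25_K ct_nc32_25_cnt_L 0 0 :=
  Sym.prob hn hk ct_c25_sym ct_nc32_25_cnt_EG_ok (grp_nil_le _) (Frames.cons TC_s0_F Frames.nil) (okE_cons.2 ⟨g545_ok, okE_nil _⟩) _

noncomputable def ct_nc32_25_cnt_t : BT := (BT.frm (nat_lit 0) (nat_lit 0) (nat_lit 0) [] (BT.pln (nat_lit 0) (nat_lit 2) (BT.fix (nat_lit 257) (BT.and (nat_lit 1) (nat_lit 0) (BT.cnt (nat_lit 0))))))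

theorem ct_nc32_25_cnt : Cnt 276 (grp 276 tt_c4_K) [g545] [g735] 0 0 0 0 0 :=
  BT.sound ct_nc32_25_cnt_P Known.nil (t := ct_nc32_25_cnt_t) (d := 0) (by decide +kernel)

theorem ct_nc32_25 : ¬ CjIn (grp 276 tt_c4_K) (Net.toPerm 276 g545) (Net.toPerm 276 g735) :=
  not_cjIn ct_nc32_25_cnt

noncomputable def ct_nc32_26_cnt_L : List ℕ := [0, 15, TC_s0_O, 0, 0]

theorem ct_nc32_26_cnt_P : Prob 276 9 (grp 276 tt_c4_K) ct_nc32_26_cnt_EG [g545] [g795] ct_c26_K ct_nc32_26_cnt_L 0 0 :=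
  Sym.prob hn hk ct_c26_sym ct_nc32_26_cnt_EG_ok (grp_nil_le _) (Frames.cons TC_s0_F Frames.nil) (okE_cons.2 ⟨g545_ok, okE_nil _⟩) _

noncomputable def ct_nc32_26_cnt_t : BT := (BT.frm (nat_lit 0) (nat_lit 0) (nat_lit 0) [] (BT.pln (nat_lit 0) (nat_lit 0) (BT.fix (nat_lit 257) (BT.and (nat_lit 1) (nat_lit 0) (BT.cnt (nat_lit 0))))))

theorem ct_nc32_26_cnt : Cnt 276 (grp 276 tt_c4_K) [g545] [g795] 0 0 0 0 0 :=
  BT.sound ct_nc32_26_cnt_P Known.nil (t := ct_nc32_26_cnt_t) (d := 0) (by decide +kernel)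

theorem ct_nc32_26 : ¬ CjIn (grp 276 tt_c4_K) (Net.toPerm 276 g545) (Net.toPerm 276 g795) :=
  not_cjIn ct_nc32_26_cnt

noncomputable def ct_nc32_27_cnt_L : List ℕ := [0, 15, TC_s0_O, 0, 0]

theorem ct_nc32_27_cnt_P : Prob 276 9 (grp 276 tt_c4_K) ct_nc32_27_cnt_EG [g545] [g524] ct_c27_K ct_nc32_27_cnt_L 0 0 :=
  Sym.prob hn hk ct_c27_sym ct_nc32_27_cnt_EG_ok (grp_nil_le _) (Frames.cons TC_s0_F Frames.nil) (okE_cons.2 ⟨g545_ok, okE_nil _⟩) _

noncomputable def ct_nc32_27_cnt_t : BT := (BT.frm (nat_lit 0) (nat_lit 0) (nat_lit 0) [] (BT.pln (nat_lit 0) (nat_lit 1) (BT.fix (nat_lit 257) (BT.and (nat_lit 1) (nat_lit 0) (BT.cnt (nat_lit 0))))))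

theorem ct_nc32_27_cnt : Cnt 276 (grp 276 tt_c4_K) [g545] [g524] 0 0 0 0 0 :=
  BT.sound ct_nc32_27_cnt_P Known.nil (t := ct_nc32_27_cnt_t) (d := 0) (by decide +kernel)

theorem ct_nc32_27 : ¬ CjIn (grp 276 tt_c4_K) (Net.toPerm 276 g545) (Net.toPerm 276 g524) :=
  not_cjIn ct_nc32_27_cnt

noncomputable def ct_nc32_28_cnt_L : List ℕ := [0, 15, TC_s0_O, 0, 0]

theorem ct_nc32_28_cnt_P : Prob 276 9 (grp 276 tt_c4_K) ct_nc32_28_cnt_EG [g545] [g804] ct_c28_K ct_nc32_28_cnt_L 0 0 :=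
  Sym.prob hn hk ct_c28_sym ct_nc32_28_cnt_EG_ok (grp_nil_le _) (Frames.cons TC_s0_F Frames.nil) (okE_cons.2 ⟨g545_ok, okE_nil _⟩) _

noncomputable def ct_nc32_28_cnt_t : BT := (BT.frm (nat_lit 0) (nat_lit 0) (nat_lit 0) [] (BT.pln (nat_lit 0) (nat_lit 2) (BT.fix (nat_lit 257) (BT.and (nat_lit 1) (nat_lit 0) (BT.cnt (nat_lit 0))))))

theorem ct_nc32_28_cnt : Cnt 276 (grp 276 tt_c4_K) [g545] [g804] 0 0 0 0 0 :=
  BT.sound ct_nc32_28_cnt_P Known.nil (t := ct_nc32_28_cnt_t) (d := 0) (by decide +kernel)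

theorem ct_nc32_28 : ¬ CjIn (grp 276 tt_c4_K) (Net.toPerm 276 g545) (Net.toPerm 276 g804) :=
  not_cjIn ct_nc32_28_cnt

noncomputable def ct_nc32_29_cnt_L : List ℕ := [0, 15, TC_s0_O, 0, 0]

theorem ct_nc32_29_cnt_P : Prob 276 9 (grp 276 tt_c4_K) ct_nc32_29_cnt_EG [g545] [g546] ct_c29_K ct_nc32_29_cnt_L 0 0 :=
  Sym.prob hn hk ct_c29_sym ct_nc32_29_cnt_EG_ok (grp_nil_le _) (Frames.cons TC_s0_F Frames.nil) (okE_cons.2 ⟨g545_ok, okE_nil _⟩) _

noncomputable def ct_nc32_29_cnt_t : BT := (BT.frm (nat_lit 0) (nat_lit 0) (nat_lit 0) [] (BT.pln (nat_lit 0) (nat_lit 2) (BT.fix (nat_lit 257) (BT.and (nat_lit 1) (nat_lit 0) (BT.cnt (nat_lit 0))))))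

theorem ct_nc32_29_cnt : Cnt 276 (grp 276 tt_c4_K) [g545] [g546] 0 0 0 0 0 :=
  BT.sound ct_nc32_29_cnt_P Known.nil (t := ct_nc32_29_cnt_t) (d := 0) (by decide +kernel)

theorem ct_nc32_29 : ¬ CjIn (grp 276 tt_c4_K) (Net.toPerm 276 g545) (Net.toPerm 276 g546) :=
  not_cjIn ct_nc32_29_cnt

noncomputable def ct_nc32_31_cnt_L : List ℕ := [0, 15, TC_s0_O, 0, 0]

theorem ct_nc32_31_cnt_P : Prob 276 9 (grp 276 tt_c4_K) ct_nc32_31_cnt_EG [g545] [g698] ct_c31_K ct_nc32_31_cnt_L 0 0 :=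
  Sym.prob hn hk ct_c31_sym ct_nc32_31_cnt_EG_ok (grp_nil_le _) (Frames.cons TC_s0_F Frames.nil) (okE_cons.2 ⟨g545_ok, okE_nil _⟩) _

noncomputable def ct_nc32_31_cnt_t : BT := (BT.frm (nat_lit 0) (nat_lit 0) (nat_lit 0) [] (BT.pln (nat_lit 0) (nat_lit 2) (BT.fix (nat_lit 257) (BT.and (nat_lit 1) (nat_lit 0) (BT.cnt (nat_lit 0))))))

theorem ct_nc32_31_cnt : Cnt 276 (grp 276 tt_c4_K) [g545] [g698] 0 0 0 0 0 :=
  BT.sound ct_nc32_31_cnt_P Known.nil (t := ct_nc32_31_cnt_t) (d := 0) (by decide +kernel)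

theorem ct_nc32_31 : ¬ CjIn (grp 276 tt_c4_K) (Net.toPerm 276 g545) (Net.toPerm 276 g698) :=
  not_cjIn ct_nc32_31_cnt

noncomputable def ct_nc33_18_cnt_L : List ℕ := [0, 15, TC_s0_O, 0, 0]

theorem ct_nc33_18_cnt_P : Prob 276 9 (grp 276 tt_c4_K) ct_nc33_18_cnt_EG [g544] [g712] ct_c18_K ct_nc33_18_cnt_L 0 0 :=
  Sym.prob hn hk ct_c18_sym ct_nc33_18_cnt_EG_ok (grp_nil_le _) (Frames.cons TC_s0_F Frames.nil) (okE_cons.2 ⟨g544_ok, okE_nil _⟩) _

noncomputable def ct_nc33_18_cnt_t : BT := (BT.frm (nat_lit 0) (nat_lit 0) (nat_lit 0) [] (BT.pln (nat_lit 0) (nat_lit 3) (BT.fix (nat_lit 1) (BT.and (nat_lit 1) (nat_lit 0) (BT.cnt (nat_lit 0))))))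

theorem ct_nc33_18_cnt : Cnt 276 (grp 276 tt_c4_K) [g544] [g712] 0 0 0 0 0 :=
  BT.sound ct_nc33_18_cnt_P Known.nil (t := ct_nc33_18_cnt_t) (d := 0) (by decide +kernel)

theorem ct_nc33_18 : ¬ CjIn (grp 276 tt_c4_K) (Net.toPerm 276 g544) (Net.toPerm 276 g712) :=
  not_cjIn ct_nc33_18_cnt

noncomputable def ct_nc33_22_cnt_L : List ℕ := [0, 15, TC_s0_O, 0, 0]

theorem ct_nc33_22_cnt_P : Prob 276 9 (grp 276 tt_c4_K) ct_nc33_22_cnt_EG [g544] [g794] ct_c22_K ct_nc33_22_cnt_L 0 0 :=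
  Sym.prob hn hk ct_c22_sym ct_nc33_22_cnt_EG_ok (grp_nil_le _) (Frames.cons TC_s0_F Frames.nil) (okE_cons.2 ⟨g544_ok, okE_nil _⟩) _

noncomputable def ct_nc33_22_cnt_t : BT := (BT.frm (nat_lit 0) (nat_lit 0) (nat_lit 0) [] (BT.pln (nat_lit 0) (nat_lit 2) (BT.fix (nat_lit 1) (BT.and (nat_lit 1) (nat_lit 0) (BT.cnt (nat_lit 0))))))

theorem ct_nc33_22_cnt : Cnt 276 (grp 276 tt_c4_K) [g544] [g794] 0 0 0 0 0 :=
  BT.sound ct_nc33_22_cnt_P Known.nil (t := ct_nc33_22_cnt_t) (d := 0) (by decide +kernel)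

theorem ct_nc33_22 : ¬ CjIn (grp 276 tt_c4_K) (Net.toPerm 276 g544) (Net.toPerm 276 g794) :=
  not_cjIn ct_nc33_22_cnt

noncomputable def ct_nc33_23_cnt_L : List ℕ := [0, 15, TC_s0_O, 0, 0]

theorem ct_nc33_23_cnt_P : Prob 276 9 (grp 276 tt_c4_K) ct_nc33_23_cnt_EG [g544] [g797] ct_c23_K ct_nc33_23_cnt_L 0 0 :=
  Sym.prob hn hk ct_c23_sym ct_nc33_23_cnt_EG_ok (grp_nil_le _) (Frames.cons TC_s0_F Frames.nil) (okE_cons.2 ⟨g544_ok, okE_nil _⟩) _

noncomputable def ct_nc33_23_cnt_t : BT := (BT.frm (nat_lit 0) (nat_lit 0) (nat_lit 0) [] (BT.pln (nat_lit 0) (nat_lit 1) (BT.fix (nat_lit 1) (BT.and (nat_lit 1) (nat_lit 0) (BT.cnt (nat_lit 0))))))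

theorem ct_nc33_23_cnt : Cnt 276 (grp 276 tt_c4_K) [g544] [g797] 0 0 0 0 0 :=
  BT.sound ct_nc33_23_cnt_P Known.nil (t := ct_nc33_23_cnt_t) (d := 0) (by decide +kernel)

theorem ct_nc33_23 : ¬ CjIn (grp 276 tt_c4_K) (Net.toPerm 276 g544) (Net.toPerm 276 g797) :=
  not_cjIn ct_nc33_23_cnt

noncomputable def ct_nc33_30_cnt_L : List ℕ := [0, 15, TC_s0_O, 0, 0]

theorem ct_nc33_30_cnt_P : Prob 276 9 (grp 276 tt_c4_K) ct_nc33_30_cnt_EG [g544] [g522] ct_c30_K ct_nc33_30_cnt_L 0 0 :=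
  Sym.prob hn hk ct_c30_sym ct_nc33_30_cnt_EG_ok (grp_nil_le _) (Frames.cons TC_s0_F Frames.nil) (okE_cons.2 ⟨g544_ok, okE_nil _⟩) _

noncomputable def ct_nc33_30_cnt_t : BT := (BT.frm (nat_lit 0) (nat_lit 0) (nat_lit 0) [] (BT.pln (nat_lit 0) (nat_lit 3) (BT.fix (nat_lit 1) (BT.and (nat_lit 1) (nat_lit 0) (BT.cnt (nat_lit 0))))))

theorem ct_nc33_30_cnt : Cnt 276 (grp 276 tt_c4_K) [g544] [g522] 0 0 0 0 0 :=
  BT.sound ct_nc33_30_cnt_P Known.nil (t := ct_nc33_30_cnt_t) (d := 0) (by decide +kernel)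

theorem ct_nc33_30 : ¬ CjIn (grp 276 tt_c4_K) (Net.toPerm 276 g544) (Net.toPerm 276 g522) :=
  not_cjIn ct_nc33_30_cnt

noncomputable def ct_nc34_16_cnt_L : List ℕ := [0, 15, TC_s0_O, 0, 0]

theorem ct_nc34_16_cnt_P : Prob 276 9 (grp 276 tt_c4_K) ct_nc34_16_cnt_EG [g444] [g705] ct_c16_K ct_nc34_16_cnt_L 0 0 :=
  Sym.prob hn hk ct_c16_sym ct_nc34_16_cnt_EG_ok (grp_nil_le _) (Frames.cons TC_s0_F Frames.nil) (okE_cons.2 ⟨g444_ok, okE_nil _⟩) _

noncomputable def ct_nc34_16_cnt_t : BT := (BT.frm (nat_lit 0) (nat_lit 0) (nat_lit 0) [] (BT.pln (nat_lit 0) (nat_lit 9) (BT.fix (nat_lit 1) (BT.and (nat_lit 1) (nat_lit 0) (BT.cnt (nat_lit 0))))))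

theorem ct_nc34_16_cnt : Cnt 276 (grp 276 tt_c4_K) [g444] [g705] 0 0 0 0 0 :=
  BT.sound ct_nc34_16_cnt_P Known.nil (t := ct_nc34_16_cnt_t) (d := 0) (by decide +kernel)

theorem ct_nc34_16 : ¬ CjIn (grp 276 tt_c4_K) (Net.toPerm 276 g444) (Net.toPerm 276 g705) :=
  not_cjIn ct_nc34_16_cnt

noncomputable def ct_nc34_17_cnt_L : List ℕ := [0, 15, TC_s0_O, 0, 0]

theorem ct_nc34_17_cnt_P : Prob 276 9 (grp 276 tt_c4_K) ct_nc34_17_cnt_EG [g444] [g127] ct_c17_K ct_nc34_17_cnt_L 0 0 :=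
  Sym.prob hn hk ct_c17_sym ct_nc34_17_cnt_EG_ok (grp_nil_le _) (Frames.cons TC_s0_F Frames.nil) (okE_cons.2 ⟨g444_ok, okE_nil _⟩) _

noncomputable def ct_nc34_17_cnt_t : BT := (BT.frm (nat_lit 0) (nat_lit 0) (nat_lit 0) [] (BT.pln (nat_lit 0) (nat_lit 4) (BT.fix (nat_lit 257) (BT.and (nat_lit 1) (nat_lit 0) (BT.cnt (nat_lit 0))))))

theorem ct_nc34_17_cnt : Cnt 276 (grp 276 tt_c4_K) [g444] [g127] 0 0 0 0 0 :=
  BT.sound ct_nc34_17_cnt_P Known.nil (t := ct_nc34_17_cnt_t) (d := 0) (by decide +kernel)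

theorem ct_nc34_17 : ¬ CjIn (grp 276 tt_c4_K) (Net.toPerm 276 g444) (Net.toPerm 276 g127) :=
  not_cjIn ct_nc34_17_cnt

noncomputable def ct_nc34_19_cnt_L : List ℕ := [0, 15, TC_s0_O, 0, 0]

theorem ct_nc34_19_cnt_P : Prob 276 9 (grp 276 tt_c4_K) ct_nc34_19_cnt_EG [g444] [g717] ct_c19_K ct_nc34_19_cnt_L 0 0 :=
  Sym.prob hn hk ct_c19_sym ct_nc34_19_cnt_EG_ok (grp_nil_le _) (Frames.cons TC_s0_F Frames.nil) (okE_cons.2 ⟨g444_ok, okE_nil _⟩) _

noncomputable def ct_nc34_19_cnt_t : BT := (BT.frm (nat_lit 0) (nat_lit 0) (nat_lit 0) [] (BT.pln (nat_lit 0) (nat_lit 3) (BT.fix (nat_lit 257) (BT.and (nat_lit 1) (nat_lit 0) (BT.cnt (nat_lit 0))))))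

theorem ct_nc34_19_cnt : Cnt 276 (grp 276 tt_c4_K) [g444] [g717] 0 0 0 0 0 :=
  BT.sound ct_nc34_19_cnt_P Known.nil (t := ct_nc34_19_cnt_t) (d := 0) (by decide +kernel)

theorem ct_nc34_19 : ¬ CjIn (grp 276 tt_c4_K) (Net.toPerm 276 g444) (Net.toPerm 276 g717) :=
  not_cjIn ct_nc34_19_cnt

noncomputable def ct_nc34_20_cnt_L : List ℕ := [0, 15, TC_s0_O, 0, 0]

theorem ct_nc34_20_cnt_P : Prob 276 9 (grp 276 tt_c4_K) ct_nc34_20_cnt_EG [g444] [g790] ct_c20_K ct_nc34_20_cnt_L 0 0 :=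
  Sym.prob hn hk ct_c20_sym ct_nc34_20_cnt_EG_ok (grp_nil_le _) (Frames.cons TC_s0_F Frames.nil) (okE_cons.2 ⟨g444_ok, okE_nil _⟩) _

noncomputable def ct_nc34_20_cnt_t : BT := (BT.frm (nat_lit 0) (nat_lit 0) (nat_lit 0) [] (BT.pln (nat_lit 0) (nat_lit 0) (BT.fix (nat_lit 257) (BT.and (nat_lit 1) (nat_lit 0) (BT.cnt (nat_lit 0))))))

theorem ct_nc34_20_cnt : Cnt 276 (grp 276 tt_c4_K) [g444] [g790] 0 0 0 0 0 :=
  BT.sound ct_nc34_20_cnt_P Known.nil (t := ct_nc34_20_cnt_t) (d := 0) (by decide +kernel)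

theorem ct_nc34_20 : ¬ CjIn (grp 276 tt_c4_K) (Net.toPerm 276 g444) (Net.toPerm 276 g790) :=
  not_cjIn ct_nc34_20_cnt

noncomputable def ct_nc34_21_cnt_L : List ℕ := [0, 15, TC_s0_O, 0, 0]

theorem ct_nc34_21_cnt_P : Prob 276 9 (grp 276 tt_c4_K) ct_nc34_21_cnt_EG [g444] [g792] ct_c21_K ct_nc34_21_cnt_L 0 0 :=
  Sym.prob hn hk ct_c21_sym ct_nc34_21_cnt_EG_ok (grp_nil_le _) (Frames.cons TC_s0_F Frames.nil) (okE_cons.2 ⟨g444_ok, okE_nil _⟩) _

noncomputable def ct_nc34_21_cnt_t : BT := (BT.frm (nat_lit 0) (nat_lit 0) (nat_lit 0) [] (BT.pln (nat_lit 0) (nat_lit 1) (BT.fix (nat_lit 257) (BT.and (nat_lit 1) (nat_lit 0) (BT.cnt (nat_lit 0))))))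

theorem ct_nc34_21_cnt : Cnt 276 (grp 276 tt_c4_K) [g444] [g792] 0 0 0 0 0 :=
  BT.sound ct_nc34_21_cnt_P Known.nil (t := ct_nc34_21_cnt_t) (d := 0) (by decide +kernel)

theorem ct_nc34_21 : ¬ CjIn (grp 276 tt_c4_K) (Net.toPerm 276 g444) (Net.toPerm 276 g792) :=
  not_cjIn ct_nc34_21_cnt

noncomputable def ct_nc34_24_cnt_L : List ℕ := [0, 15, TC_s0_O, 0, 0]

theorem ct_nc34_24_cnt_P : Prob 276 9 (grp 276 tt_c4_K) ct_nc34_24_cnt_EG [g444] [g799] ct_c24_K ct_nc34_24_cnt_L 0 0 :=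
  Sym.prob hn hk ct_c24_sym ct_nc34_24_cnt_EG_ok (grp_nil_le _) (Frames.cons TC_s0_F Frames.nil) (okE_cons.2 ⟨g444_ok, okE_nil _⟩) _

noncomputable def ct_nc34_24_cnt_t : BT := (BT.frm (nat_lit 0) (nat_lit 0) (nat_lit 0) [] (BT.pln (nat_lit 0) (nat_lit 4) (BT.fix (nat_lit 257) (BT.and (nat_lit 1) (nat_lit 0) (BT.cnt (nat_lit 0))))))

theorem ct_nc34_24_cnt : Cnt 276 (grp 276 tt_c4_K) [g444] [g799] 0 0 0 0 0 :=
  BT.sound ct_nc34_24_cnt_P Known.nil (t := ct_nc34_24_cnt_t) (d := 0) (by decide +kernel)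

theorem ct_nc34_24 : ¬ CjIn (grp 276 tt_c4_K) (Net.toPerm 276 g444) (Net.toPerm 276 g799) :=
  not_cjIn ct_nc34_24_cnt

noncomputable def ct_nc34_25_cnt_L : List ℕ := [0, 15, TC_s0_O, 0, 0]

theorem ct_nc34_25_cnt_P : Prob 276 9 (grp 276 tt_c4_K) ct_nc34_25_cnt_EG [g444] [g735] ct_c25_K ct_nc34_25_cnt_L 0 0 :=
  Sym.prob hn hk ct_c25_sym ct_nc34_25_cnt_EG_ok (grp_nil_le _) (Frames.cons TC_s0_F Frames.nil) (okE_cons.2 ⟨g444_ok, okE_nil _⟩) _

noncomputable def ct_nc34_25_cnt_t : BT := (BT.frm (nat_lit 0) (nat_lit 0) (nat_lit 0) [] (BT.pln (nat_lit 0) (nat_lit 3) (BT.fix (nat_lit 257) (BT.and (nat_lit 1) (nat_lit 0) (BT.cnt (nat_lit 0))))))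

theorem ct_nc34_25_cnt : Cnt 276 (grp 276 tt_c4_K) [g444] [g735] 0 0 0 0 0 :=
  BT.sound ct_nc34_25_cnt_P Known.nil (t := ct_nc34_25_cnt_t) (d := 0) (by decide +kernel)

theorem ct_nc34_25 : ¬ CjIn (grp 276 tt_c4_K) (Net.toPerm 276 g444) (Net.toPerm 276 g735) :=
  not_cjIn ct_nc34_25_cnt

noncomputable def ct_nc34_26_cnt_L : List ℕ := [0, 15, TC_s0_O, 0, 0]

theorem ct_nc34_26_cnt_P : Prob 276 9 (grp 276 tt_c4_K) ct_nc34_26_cnt_EG [g444] [g795] ct_c26_K ct_nc34_26_cnt_L 0 0 :=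
  Sym.prob hn hk ct_c26_sym ct_nc34_26_cnt_EG_ok (grp_nil_le _) (Frames.cons TC_s0_F Frames.nil) (okE_cons.2 ⟨g444_ok, okE_nil _⟩) _

noncomputable def ct_nc34_26_cnt_t : BT := (BT.frm (nat_lit 0) (nat_lit 0) (nat_lit 0) [] (BT.pln (nat_lit 0) (nat_lit 0) (BT.fix (nat_lit 257) (BT.and (nat_lit 1) (nat_lit 0) (BT.cnt (nat_lit 0))))))

theorem ct_nc34_26_cnt : Cnt 276 (grp 276 tt_c4_K) [g444] [g795] 0 0 0 0 0 :=
  BT.sound ct_nc34_26_cnt_P Known.nil (t := ct_nc34_26_cnt_t) (d := 0) (by decide +kernel)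

theorem ct_nc34_26 : ¬ CjIn (grp 276 tt_c4_K) (Net.toPerm 276 g444) (Net.toPerm 276 g795) :=
  not_cjIn ct_nc34_26_cnt

noncomputable def ct_nc34_27_cnt_L : List ℕ := [0, 15, TC_s0_O, 0, 0]

theorem ct_nc34_27_cnt_P : Prob 276 9 (grp 276 tt_c4_K) ct_nc34_27_cnt_EG [g444] [g524] ct_c27_K ct_nc34_27_cnt_L 0 0 :=
  Sym.prob hn hk ct_c27_sym ct_nc34_27_cnt_EG_ok (grp_nil_le _) (Frames.cons TC_s0_F Frames.nil) (okE_cons.2 ⟨g444_ok, okE_nil _⟩) _

noncomputable def ct_nc34_27_cnt_t : BT := (BT.frm (nat_lit 0) (nat_lit 0) (nat_lit 0) [] (BT.pln (nat_lit 0) (nat_lit 1) (BT.fix (nat_lit 257) (BT.and (nat_lit 1) (nat_lit 0) (BT.cnt (nat_lit 0))))))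

theorem ct_nc34_27_cnt : Cnt 276 (grp 276 tt_c4_K) [g444] [g524] 0 0 0 0 0 :=
  BT.sound ct_nc34_27_cnt_P Known.nil (t := ct_nc34_27_cnt_t) (d := 0) (by decide +kernel)

theorem ct_nc34_27 : ¬ CjIn (grp 276 tt_c4_K) (Net.toPerm 276 g444) (Net.toPerm 276 g524) :=
  not_cjIn ct_nc34_27_cnt

noncomputable def ct_nc34_28_cnt_L : List ℕ := [0, 15, TC_s0_O, 0, 0]

theorem ct_nc34_28_cnt_P : Prob 276 9 (grp 276 tt_c4_K) ct_nc34_28_cnt_EG [g444] [g804] ct_c28_K ct_nc34_28_cnt_L 0 0 :=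
  Sym.prob hn hk ct_c28_sym ct_nc34_28_cnt_EG_ok (grp_nil_le _) (Frames.cons TC_s0_F Frames.nil) (okE_cons.2 ⟨g444_ok, okE_nil _⟩) _

noncomputable def ct_nc34_28_cnt_t : BT := (BT.frm (nat_lit 0) (nat_lit 0) (nat_lit 0) [] (BT.pln (nat_lit 0) (nat_lit 11) (BT.fix (nat_lit 1) (BT.and (nat_lit 1) (nat_lit 0) (BT.cnt (nat_lit 0))))))

theorem ct_nc34_28_cnt : Cnt 276 (grp 276 tt_c4_K) [g444] [g804] 0 0 0 0 0 :=
  BT.sound ct_nc34_28_cnt_P Known.nil (t := ct_nc34_28_cnt_t) (d := 0) (by decide +kernel)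

theorem ct_nc34_28 : ¬ CjIn (grp 276 tt_c4_K) (Net.toPerm 276 g444) (Net.toPerm 276 g804) :=
  not_cjIn ct_nc34_28_cnt

noncomputable def ct_nc34_29_cnt_L : List ℕ := [0, 15, TC_s0_O, 0, 0]

theorem ct_nc34_29_cnt_P : Prob 276 9 (grp 276 tt_c4_K) ct_nc34_29_cnt_EG [g444] [g546] ct_c29_K ct_nc34_29_cnt_L 0 0 :=
  Sym.prob hn hk ct_c29_sym ct_nc34_29_cnt_EG_ok (grp_nil_le _) (Frames.cons TC_s0_F Frames.nil) (okE_cons.2 ⟨g444_ok, okE_nil _⟩) _

noncomputable def ct_nc34_29_cnt_t : BT := (BT.frm (nat_lit 0) (nat_lit 0) (nat_lit 0) [] (BT.pln (nat_lit 0) (nat_lit 4) (BT.fix (nat_lit 257) (BT.and (nat_lit 1) (nat_lit 0) (BT.cnt (nat_lit 0))))))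

theorem ct_nc34_29_cnt : Cnt 276 (grp 276 tt_c4_K) [g444] [g546] 0 0 0 0 0 :=
  BT.sound ct_nc34_29_cnt_P Known.nil (t := ct_nc34_29_cnt_t) (d := 0) (by decide +kernel)

theorem ct_nc34_29 : ¬ CjIn (grp 276 tt_c4_K) (Net.toPerm 276 g444) (Net.toPerm 276 g546) :=
  not_cjIn ct_nc34_29_cnt

noncomputable def ct_nc34_31_cnt_L : List ℕ := [0, 15, TC_s0_O, 0, 0]

theorem ct_nc34_31_cnt_P : Prob 276 9 (grp 276 tt_c4_K) ct_nc34_31_cnt_EG [g444] [g698] ct_c31_K ct_nc34_31_cnt_L 0 0 :=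
  Sym.prob hn hk ct_c31_sym ct_nc34_31_cnt_EG_ok (grp_nil_le _) (Frames.cons TC_s0_F Frames.nil) (okE_cons.2 ⟨g444_ok, okE_nil _⟩) _

noncomputable def ct_nc34_31_cnt_t : BT := (BT.frm (nat_lit 0) (nat_lit 0) (nat_lit 0) [] (BT.pln (nat_lit 0) (nat_lit 3) (BT.fix (nat_lit 257) (BT.and (nat_lit 1) (nat_lit 0) (BT.cnt (nat_lit 0))))))

theorem ct_nc34_31_cnt : Cnt 276 (grp 276 tt_c4_K) [g444] [g698] 0 0 0 0 0 :=
  BT.sound ct_nc34_31_cnt_P Known.nil (t := ct_nc34_31_cnt_t) (d := 0) (by decide +kernel)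

theorem ct_nc34_31 : ¬ CjIn (grp 276 tt_c4_K) (Net.toPerm 276 g444) (Net.toPerm 276 g698) :=
  not_cjIn ct_nc34_31_cnt

noncomputable def ct_nc34_32_cnt_L : List ℕ := [0, 15, TC_s0_O, 0, 0]

theorem ct_nc34_32_cnt_P : Prob 276 9 (grp 276 tt_c4_K) ct_nc34_32_cnt_EG [g444] [g545] ct_c32_K ct_nc34_32_cnt_L 0 0 :=
  Sym.prob hn hk ct_c32_sym ct_nc34_32_cnt_EG_ok (grp_nil_le _) (Frames.cons TC_s0_F Frames.nil) (okE_cons.2 ⟨g444_ok, okE_nil _⟩) _

noncomputable def ct_nc34_32_cnt_t : BT := (BT.frm (nat_lit 0) (nat_lit 0) (nat_lit 0) [] (BT.pln (nat_lit 0) (nat_lit 2) (BT.fix (nat_lit 257) (BT.and (nat_lit 1) (nat_lit 0) (BT.cnt (nat_lit 0))))))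

theorem ct_nc34_32_cnt : Cnt 276 (grp 276 tt_c4_K) [g444] [g545] 0 0 0 0 0 :=
  BT.sound ct_nc34_32_cnt_P Known.nil (t := ct_nc34_32_cnt_t) (d := 0) (by decide +kernel)

theorem ct_nc34_32 : ¬ CjIn (grp 276 tt_c4_K) (Net.toPerm 276 g444) (Net.toPerm 276 g545) :=
  not_cjIn ct_nc34_32_cnt

noncomputable def ct_nc35_16_cnt_L : List ℕ := [0, 15, TC_s0_O, 0, 0]

theorem ct_nc35_16_cnt_P : Prob 276 9 (grp 276 tt_c4_K) ct_nc35_16_cnt_EG [g526] [g705] ct_c16_K ct_nc35_16_cnt_L 0 0 :=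
  Sym.prob hn hk ct_c16_sym ct_nc35_16_cnt_EG_ok (grp_nil_le _) (Frames.cons TC_s0_F Frames.nil) (okE_cons.2 ⟨g526_ok, okE_nil _⟩) _

noncomputable def ct_nc35_16_cnt_t : BT := (BT.frm (nat_lit 0) (nat_lit 0) (nat_lit 0) [] (BT.pln (nat_lit 0) (nat_lit 4) (BT.fix (nat_lit 257) (BT.and (nat_lit 1) (nat_lit 0) (BT.cnt (nat_lit 0))))))

theorem ct_nc35_16_cnt : Cnt 276 (grp 276 tt_c4_K) [g526] [g705] 0 0 0 0 0 :=
  BT.sound ct_nc35_16_cnt_P Known.nil (t := ct_nc35_16_cnt_t) (d := 0) (by decide +kernel)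

theorem ct_nc35_16 : ¬ CjIn (grp 276 tt_c4_K) (Net.toPerm 276 g526) (Net.toPerm 276 g705) :=
  not_cjIn ct_nc35_16_cnt

noncomputable def ct_nc35_17_cnt_L : List ℕ := [0, 15, TC_s0_O, 0, 0]

theorem ct_nc35_17_cnt_P : Prob 276 9 (grp 276 tt_c4_K) ct_nc35_17_cnt_EG [g526] [g127] ct_c17_K ct_nc35_17_cnt_L 0 0 :=
  Sym.prob hn hk ct_c17_sym ct_nc35_17_cnt_EG_ok (grp_nil_le _) (Frames.cons TC_s0_F Frames.nil) (okE_cons.2 ⟨g526_ok, okE_nil _⟩) _

noncomputable def ct_nc35_17_cnt_t : BT := (BT.frm (nat_lit 0) (nat_lit 0) (nat_lit 0) [] (BT.pln (nat_lit 0) (nat_lit 5) (BT.fix (nat_lit 257) (BT.and (nat_lit 1) (nat_lit 0) (BT.cnt (nat_lit 0))))))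

theorem ct_nc35_17_cnt : Cnt 276 (grp 276 tt_c4_K) [g526] [g127] 0 0 0 0 0 :=
  BT.sound ct_nc35_17_cnt_P Known.nil (t := ct_nc35_17_cnt_t) (d := 0) (by decide +kernel)

theorem ct_nc35_17 : ¬ CjIn (grp 276 tt_c4_K) (Net.toPerm 276 g526) (Net.toPerm 276 g127) :=
  not_cjIn ct_nc35_17_cnt

noncomputable def ct_nc35_19_cnt_L : List ℕ := [0, 15, TC_s0_O, 0, 0]

theorem ct_nc35_19_cnt_P : Prob 276 9 (grp 276 tt_c4_K) ct_nc35_19_cnt_EG [g526] [g717] ct_c19_K ct_nc35_19_cnt_L 0 0 :=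
  Sym.prob hn hk ct_c19_sym ct_nc35_19_cnt_EG_ok (grp_nil_le _) (Frames.cons TC_s0_F Frames.nil) (okE_cons.2 ⟨g526_ok, okE_nil _⟩) _

noncomputable def ct_nc35_19_cnt_t : BT := (BT.frm (nat_lit 0) (nat_lit 0) (nat_lit 0) [] (BT.pln (nat_lit 0) (nat_lit 3) (BT.fix (nat_lit 257) (BT.and (nat_lit 1) (nat_lit 0) (BT.cnt (nat_lit 0))))))

theorem ct_nc35_19_cnt : Cnt 276 (grp 276 tt_c4_K) [g526] [g717] 0 0 0 0 0 :=
  BT.sound ct_nc35_19_cnt_P Known.nil (t := ct_nc35_19_cnt_t) (d := 0) (by decide +kernel)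

theorem ct_nc35_19 : ¬ CjIn (grp 276 tt_c4_K) (Net.toPerm 276 g526) (Net.toPerm 276 g717) :=
  not_cjIn ct_nc35_19_cnt

noncomputable def ct_nc35_20_cnt_L : List ℕ := [0, 15, TC_s0_O, 0, 0]

theorem ct_nc35_20_cnt_P : Prob 276 9 (grp 276 tt_c4_K) ct_nc35_20_cnt_EG [g526] [g790] ct_c20_K ct_nc35_20_cnt_L 0 0 :=
  Sym.prob hn hk ct_c20_sym ct_nc35_20_cnt_EG_ok (grp_nil_le _) (Frames.cons TC_s0_F Frames.nil) (okE_cons.2 ⟨g526_ok, okE_nil _⟩) _

noncomputable def ct_nc35_20_cnt_t : BT := (BT.frm (nat_lit 0) (nat_lit 0) (nat_lit 0) [] (BT.pln (nat_lit 0) (nat_lit 0) (BT.fix (nat_lit 257) (BT.and (nat_lit 1) (nat_lit 0) (BT.cnt (nat_lit 0))))))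

theorem ct_nc35_20_cnt : Cnt 276 (grp 276 tt_c4_K) [g526] [g790] 0 0 0 0 0 :=
  BT.sound ct_nc35_20_cnt_P Known.nil (t := ct_nc35_20_cnt_t) (d := 0) (by decide +kernel)

theorem ct_nc35_20 : ¬ CjIn (grp 276 tt_c4_K) (Net.toPerm 276 g526) (Net.toPerm 276 g790) :=
  not_cjIn ct_nc35_20_cnt

noncomputable def ct_nc35_21_cnt_L : List ℕ := [0, 15, TC_s0_O, 0, 0]

theorem ct_nc35_21_cnt_P : Prob 276 9 (grp 276 tt_c4_K) ct_nc35_21_cnt_EG [g526] [g792] ct_c21_K ct_nc35_21_cnt_L 0 0 :=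
  Sym.prob hn hk ct_c21_sym ct_nc35_21_cnt_EG_ok (grp_nil_le _) (Frames.cons TC_s0_F Frames.nil) (okE_cons.2 ⟨g526_ok, okE_nil _⟩) _

noncomputable def ct_nc35_21_cnt_t : BT := (BT.frm (nat_lit 0) (nat_lit 0) (nat_lit 0) [] (BT.pln (nat_lit 0) (nat_lit 1) (BT.fix (nat_lit 257) (BT.and (nat_lit 1) (nat_lit 0) (BT.cnt (nat_lit 0))))))

theorem ct_nc35_21_cnt : Cnt 276 (grp 276 tt_c4_K) [g526] [g792] 0 0 0 0 0 :=
  BT.sound ct_nc35_21_cnt_P Known.nil (t := ct_nc35_21_cnt_t) (d := 0) (by decide +kernel)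

theorem ct_nc35_21 : ¬ CjIn (grp 276 tt_c4_K) (Net.toPerm 276 g526) (Net.toPerm 276 g792) :=
  not_cjIn ct_nc35_21_cnt

noncomputable def ct_nc35_24_cnt_L : List ℕ := [0, 15, TC_s0_O, 0, 0]

theorem ct_nc35_24_cnt_P : Prob 276 9 (grp 276 tt_c4_K) ct_nc35_24_cnt_EG [g526] [g799] ct_c24_K ct_nc35_24_cnt_L 0 0 :=
  Sym.prob hn hk ct_c24_sym ct_nc35_24_cnt_EG_ok (grp_nil_le _) (Frames.cons TC_s0_F Frames.nil) (okE_cons.2 ⟨g526_ok, okE_nil _⟩) _

noncomputable def ct_nc35_24_cnt_t : BT := (BT.frm (nat_lit 0) (nat_lit 0) (nat_lit 0) [] (BT.pln (nat_lit 0) (nat_lit 8) (BT.fix (nat_lit 1) (BT.and (nat_lit 1) (nat_lit 0) (BT.cnt (nat_lit 0))))))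

theorem ct_nc35_24_cnt : Cnt 276 (grp 276 tt_c4_K) [g526] [g799] 0 0 0 0 0 :=
  BT.sound ct_nc35_24_cnt_P Known.nil (t := ct_nc35_24_cnt_t) (d := 0) (by decide +kernel)

theorem ct_nc35_24 : ¬ CjIn (grp 276 tt_c4_K) (Net.toPerm 276 g526) (Net.toPerm 276 g799) :=
  not_cjIn ct_nc35_24_cnt

noncomputable def ct_nc35_25_cnt_L : List ℕ := [0, 15, TC_s0_O, 0, 0]

theorem ct_nc35_25_cnt_P : Prob 276 9 (grp 276 tt_c4_K) ct_nc35_25_cnt_EG [g526] [g735] ct_c25_K ct_nc35_25_cnt_L 0 0 :=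
  Sym.prob hn hk ct_c25_sym ct_nc35_25_cnt_EG_ok (grp_nil_le _) (Frames.cons TC_s0_F Frames.nil) (okE_cons.2 ⟨g526_ok, okE_nil _⟩) _

noncomputable def ct_nc35_25_cnt_t : BT := (BT.frm (nat_lit 0) (nat_lit 0) (nat_lit 0) [] (BT.pln (nat_lit 0) (nat_lit 3) (BT.fix (nat_lit 257) (BT.and (nat_lit 1) (nat_lit 0) (BT.cnt (nat_lit 0))))))

theorem ct_nc35_25_cnt : Cnt 276 (grp 276 tt_c4_K) [g526] [g735] 0 0 0 0 0 :=
  BT.sound ct_nc35_25_cnt_P Known.nil (t := ct_nc35_25_cnt_t) (d := 0) (by decide +kernel)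

theorem ct_nc35_25 : ¬ CjIn (grp 276 tt_c4_K) (Net.toPerm 276 g526) (Net.toPerm 276 g735) :=
  not_cjIn ct_nc35_25_cnt

noncomputable def ct_nc35_26_cnt_L : List ℕ := [0, 15, TC_s0_O, 0, 0]

theorem ct_nc35_26_cnt_P : Prob 276 9 (grp 276 tt_c4_K) ct_nc35_26_cnt_EG [g526] [g795] ct_c26_K ct_nc35_26_cnt_L 0 0 :=
  Sym.prob hn hk ct_c26_sym ct_nc35_26_cnt_EG_ok (grp_nil_le _) (Frames.cons TC_s0_F Frames.nil) (okE_cons.2 ⟨g526_ok, okE_nil _⟩) _

noncomputable def ct_nc35_26_cnt_t : BT := (BT.frm (nat_lit 0) (nat_lit 0) (nat_lit 0) [] (BT.pln (nat_lit 0) (nat_lit 0) (BT.fix (nat_lit 257) (BT.and (nat_lit 1) (nat_lit 0) (BT.cnt (nat_lit 0))))))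

theorem ct_nc35_26_cnt : Cnt 276 (grp 276 tt_c4_K) [g526] [g795] 0 0 0 0 0 :=
  BT.sound ct_nc35_26_cnt_P Known.nil (t := ct_nc35_26_cnt_t) (d := 0) (by decide +kernel)

theorem ct_nc35_26 : ¬ CjIn (grp 276 tt_c4_K) (Net.toPerm 276 g526) (Net.toPerm 276 g795) :=
  not_cjIn ct_nc35_26_cnt

noncomputable def ct_nc35_27_cnt_L : List ℕ := [0, 15, TC_s0_O, 0, 0]

theorem ct_nc35_27_cnt_P : Prob 276 9 (grp 276 tt_c4_K) ct_nc35_27_cnt_EG [g526] [g524] ct_c27_K ct_nc35_27_cnt_L 0 0 :=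
  Sym.prob hn hk ct_c27_sym ct_nc35_27_cnt_EG_ok (grp_nil_le _) (Frames.cons TC_s0_F Frames.nil) (okE_cons.2 ⟨g526_ok, okE_nil _⟩) _

noncomputable def ct_nc35_27_cnt_t : BT := (BT.frm (nat_lit 0) (nat_lit 0) (nat_lit 0) [] (BT.pln (nat_lit 0) (nat_lit 1) (BT.fix (nat_lit 257) (BT.and (nat_lit 1) (nat_lit 0) (BT.cnt (nat_lit 0))))))

theorem ct_nc35_27_cnt : Cnt 276 (grp 276 tt_c4_K) [g526] [g524] 0 0 0 0 0 :=
  BT.sound ct_nc35_27_cnt_P Known.nil (t := ct_nc35_27_cnt_t) (d := 0) (by decide +kernel)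

theorem ct_nc35_27 : ¬ CjIn (grp 276 tt_c4_K) (Net.toPerm 276 g526) (Net.toPerm 276 g524) :=
  not_cjIn ct_nc35_27_cnt

noncomputable def ct_nc35_28_cnt_L : List ℕ := [0, 15, TC_s0_O, 0, 0]

theorem ct_nc35_28_cnt_P : Prob 276 9 (grp 276 tt_c4_K) ct_nc35_28_cnt_EG [g526] [g804] ct_c28_K ct_nc35_28_cnt_L 0 0 :=
  Sym.prob hn hk ct_c28_sym ct_nc35_28_cnt_EG_ok (grp_nil_le _) (Frames.cons TC_s0_F Frames.nil) (okE_cons.2 ⟨g526_ok, okE_nil _⟩) _

noncomputable def ct_nc35_28_cnt_t : BT := (BT.frm (nat_lit 0) (nat_lit 0) (nat_lit 0) [] (BT.pln (nat_lit 0) (nat_lit 4) (BT.fix (nat_lit 257) (BT.and (nat_lit 1) (nat_lit 0) (BT.cnt (nat_lit 0))))))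

theorem ct_nc35_28_cnt : Cnt 276 (grp 276 tt_c4_K) [g526] [g804] 0 0 0 0 0 :=
  BT.sound ct_nc35_28_cnt_P Known.nil (t := ct_nc35_28_cnt_t) (d := 0) (by decide +kernel)

theorem ct_nc35_28 : ¬ CjIn (grp 276 tt_c4_K) (Net.toPerm 276 g526) (Net.toPerm 276 g804) :=
  not_cjIn ct_nc35_28_cnt

noncomputable def ct_nc35_29_cnt_L : List ℕ := [0, 15, TC_s0_O, 0, 0]

theorem ct_nc35_29_cnt_P : Prob 276 9 (grp 276 tt_c4_K) ct_nc35_29_cnt_EG [g526] [g546] ct_c29_K ct_nc35_29_cnt_L 0 0 :=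
  Sym.prob hn hk ct_c29_sym ct_nc35_29_cnt_EG_ok (grp_nil_le _) (Frames.cons TC_s0_F Frames.nil) (okE_cons.2 ⟨g526_ok, okE_nil _⟩) _

noncomputable def ct_nc35_29_cnt_t : BT := (BT.frm (nat_lit 0) (nat_lit 0) (nat_lit 0) [] (BT.pln (nat_lit 0) (nat_lit 5) (BT.fix (nat_lit 257) (BT.and (nat_lit 1) (nat_lit 0) (BT.cnt (nat_lit 0))))))

theorem ct_nc35_29_cnt : Cnt 276 (grp 276 tt_c4_K) [g526] [g546] 0 0 0 0 0 :=
  BT.sound ct_nc35_29_cnt_P Known.nil (t := ct_nc35_29_cnt_t) (d := 0) (by decide +kernel)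

theorem ct_nc35_29 : ¬ CjIn (grp 276 tt_c4_K) (Net.toPerm 276 g526) (Net.toPerm 276 g546) :=
  not_cjIn ct_nc35_29_cnt

noncomputable def ct_nc35_31_cnt_L : List ℕ := [0, 15, TC_s0_O, 0, 0]

theorem ct_nc35_31_cnt_P : Prob 276 9 (grp 276 tt_c4_K) ct_nc35_31_cnt_EG [g526] [g698] ct_c31_K ct_nc35_31_cnt_L 0 0 :=
  Sym.prob hn hk ct_c31_sym ct_nc35_31_cnt_EG_ok (grp_nil_le _) (Frames.cons TC_s0_F Frames.nil) (okE_cons.2 ⟨g526_ok, okE_nil _⟩) _

noncomputable def ct_nc35_31_cnt_t : BT := (BT.frm (nat_lit 0) (nat_lit 0) (nat_lit 0) [] (BT.pln (nat_lit 0) (nat_lit 3) (BT.fix (nat_lit 257) (BT.and (nat_lit 1) (nat_lit 0) (BT.cnt (nat_lit 0))))))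

theorem ct_nc35_31_cnt : Cnt 276 (grp 276 tt_c4_K) [g526] [g698] 0 0 0 0 0 :=
  BT.sound ct_nc35_31_cnt_P Known.nil (t := ct_nc35_31_cnt_t) (d := 0) (by decide +kernel)

theorem ct_nc35_31 : ¬ CjIn (grp 276 tt_c4_K) (Net.toPerm 276 g526) (Net.toPerm 276 g698) :=
  not_cjIn ct_nc35_31_cnt

noncomputable def ct_nc35_32_cnt_L : List ℕ := [0, 15, TC_s0_O, 0, 0]

theorem ct_nc35_32_cnt_P : Prob 276 9 (grp 276 tt_c4_K) ct_nc35_32_cnt_EG [g526] [g545] ct_c32_K ct_nc35_32_cnt_L 0 0 :=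
  Sym.prob hn hk ct_c32_sym ct_nc35_32_cnt_EG_ok (grp_nil_le _) (Frames.cons TC_s0_F Frames.nil) (okE_cons.2 ⟨g526_ok, okE_nil _⟩) _

noncomputable def ct_nc35_32_cnt_t : BT := (BT.frm (nat_lit 0) (nat_lit 0) (nat_lit 0) [] (BT.pln (nat_lit 0) (nat_lit 2) (BT.fix (nat_lit 257) (BT.and (nat_lit 1) (nat_lit 0) (BT.cnt (nat_lit 0))))))

theorem ct_nc35_32_cnt : Cnt 276 (grp 276 tt_c4_K) [g526] [g545] 0 0 0 0 0 :=
  BT.sound ct_nc35_32_cnt_P Known.nil (t := ct_nc35_32_cnt_t) (d := 0) (by decide +kernel)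

theorem ct_nc35_32 : ¬ CjIn (grp 276 tt_c4_K) (Net.toPerm 276 g526) (Net.toPerm 276 g545) :=
  not_cjIn ct_nc35_32_cnt

noncomputable def ct_nc35_34_cnt_L : List ℕ := [0, 15, TC_s0_O, 0, 0]

theorem ct_nc35_34_cnt_P : Prob 276 9 (grp 276 tt_c4_K) ct_nc35_34_cnt_EG [g526] [g444] ct_c34_K ct_nc35_34_cnt_L 0 0 :=
  Sym.prob hn hk ct_c34_sym ct_nc35_34_cnt_EG_ok (grp_nil_le _) (Frames.cons TC_s0_F Frames.nil) (okE_cons.2 ⟨g526_ok, okE_nil _⟩) _

noncomputable def ct_nc35_34_cnt_t : BT := (BT.frm (nat_lit 0) (nat_lit 0) (nat_lit 0) [] (BT.pln (nat_lit 0) (nat_lit 4) (BT.fix (nat_lit 257) (BT.and (nat_lit 1) (nat_lit 0) (BT.cnt (nat_lit 0))))))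

theorem ct_nc35_34_cnt : Cnt 276 (grp 276 tt_c4_K) [g526] [g444] 0 0 0 0 0 :=
  BT.sound ct_nc35_34_cnt_P Known.nil (t := ct_nc35_34_cnt_t) (d := 0) (by decide +kernel)

theorem ct_nc35_34 : ¬ CjIn (grp 276 tt_c4_K) (Net.toPerm 276 g526) (Net.toPerm 276 g444) :=
  not_cjIn ct_nc35_34_cnt

noncomputable def ct_nc36_16_cnt_L : List ℕ := [0, 15, TC_s0_O, 0, 0]

theorem ct_nc36_16_cnt_P : Prob 276 9 (grp 276 tt_c4_K) ct_nc36_16_cnt_EG [g733] [g705] ct_c16_K ct_nc36_16_cnt_L 0 0 :=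
  Sym.prob hn hk ct_c16_sym ct_nc36_16_cnt_EG_ok (grp_nil_le _) (Frames.cons TC_s0_F Frames.nil) (okE_cons.2 ⟨g733_ok, okE_nil _⟩) _

noncomputable def ct_nc36_16_cnt_t : BT := (BT.frm (nat_lit 0) (nat_lit 0) (nat_lit 0) [] (BT.pln (nat_lit 0) (nat_lit 1) (BT.fix (nat_lit 257) (BT.and (nat_lit 1) (nat_lit 0) (BT.cnt (nat_lit 0))))))

theorem ct_nc36_16_cnt : Cnt 276 (grp 276 tt_c4_K) [g733] [g705] 0 0 0 0 0 :=
  BT.sound ct_nc36_16_cnt_P Known.nil (t := ct_nc36_16_cnt_t) (d := 0) (by decide +kernel)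

theorem ct_nc36_16 : ¬ CjIn (grp 276 tt_c4_K) (Net.toPerm 276 g733) (Net.toPerm 276 g705) :=
  not_cjIn ct_nc36_16_cnt

noncomputable def ct_nc36_17_cnt_L : List ℕ := [0, 15, TC_s0_O, 0, 0]

theorem ct_nc36_17_cnt_P : Prob 276 9 (grp 276 tt_c4_K) ct_nc36_17_cnt_EG [g733] [g127] ct_c17_K ct_nc36_17_cnt_L 0 0 :=
  Sym.prob hn hk ct_c17_sym ct_nc36_17_cnt_EG_ok (grp_nil_le _) (Frames.cons TC_s0_F Frames.nil) (okE_cons.2 ⟨g733_ok, okE_nil _⟩) _

noncomputable def ct_nc36_17_cnt_t : BT := (BT.frm (nat_lit 0) (nat_lit 0) (nat_lit 0) [] (BT.pln (nat_lit 0) (nat_lit 1) (BT.fix (nat_lit 257) (BT.and (nat_lit 1) (nat_lit 0) (BT.cnt (nat_lit 0))))))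

theorem ct_nc36_17_cnt : Cnt 276 (grp 276 tt_c4_K) [g733] [g127] 0 0 0 0 0 :=
  BT.sound ct_nc36_17_cnt_P Known.nil (t := ct_nc36_17_cnt_t) (d := 0) (by decide +kernel)

theorem ct_nc36_17 : ¬ CjIn (grp 276 tt_c4_K) (Net.toPerm 276 g733) (Net.toPerm 276 g127) :=
  not_cjIn ct_nc36_17_cnt

noncomputable def ct_nc36_19_cnt_L : List ℕ := [0, 15, TC_s0_O, 0, 0]

theorem ct_nc36_19_cnt_P : Prob 276 9 (grp 276 tt_c4_K) ct_nc36_19_cnt_EG [g733] [g717] ct_c19_K ct_nc36_19_cnt_L 0 0 :=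
  Sym.prob hn hk ct_c19_sym ct_nc36_19_cnt_EG_ok (grp_nil_le _) (Frames.cons TC_s0_F Frames.nil) (okE_cons.2 ⟨g733_ok, okE_nil _⟩) _

noncomputable def ct_nc36_19_cnt_t : BT := (BT.frm (nat_lit 0) (nat_lit 0) (nat_lit 0) [] (BT.pln (nat_lit 0) (nat_lit 1) (BT.fix (nat_lit 257) (BT.and (nat_lit 1) (nat_lit 0) (BT.cnt (nat_lit 0))))))

theorem ct_nc36_19_cnt : Cnt 276 (grp 276 tt_c4_K) [g733] [g717] 0 0 0 0 0 :=
  BT.sound ct_nc36_19_cnt_P Known.nil (t := ct_nc36_19_cnt_t) (d := 0) (by decide +kernel)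

theorem ct_nc36_19 : ¬ CjIn (grp 276 tt_c4_K) (Net.toPerm 276 g733) (Net.toPerm 276 g717) :=
  not_cjIn ct_nc36_19_cnt

noncomputable def ct_nc36_20_cnt_L : List ℕ := [0, 15, TC_s0_O, 0, 0]

theorem ct_nc36_20_cnt_P : Prob 276 9 (grp 276 tt_c4_K) ct_nc36_20_cnt_EG [g733] [g790] ct_c20_K ct_nc36_20_cnt_L 0 0 :=
  Sym.prob hn hk ct_c20_sym ct_nc36_20_cnt_EG_ok (grp_nil_le _) (Frames.cons TC_s0_F Frames.nil) (okE_cons.2 ⟨g733_ok, okE_nil _⟩) _

noncomputable def ct_nc36_20_cnt_t : BT := (BT.frm (nat_lit 0) (nat_lit 0) (nat_lit 0) [] (BT.pln (nat_lit 0) (nat_lit 0) (BT.fix (nat_lit 257) (BT.and (nat_lit 1) (nat_lit 0) (BT.cnt (nat_lit 0))))))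

theorem ct_nc36_20_cnt : Cnt 276 (grp 276 tt_c4_K) [g733] [g790] 0 0 0 0 0 :=
  BT.sound ct_nc36_20_cnt_P Known.nil (t := ct_nc36_20_cnt_t) (d := 0) (by decide +kernel)

theorem ct_nc36_20 : ¬ CjIn (grp 276 tt_c4_K) (Net.toPerm 276 g733) (Net.toPerm 276 g790) :=
  not_cjIn ct_nc36_20_cnt

noncomputable def ct_nc36_21_cnt_L : List ℕ := [0, 15, TC_s0_O, 0, 0]

theorem ct_nc36_21_cnt_P : Prob 276 9 (grp 276 tt_c4_K) ct_nc36_21_cnt_EG [g733] [g792] ct_c21_K ct_nc36_21_cnt_L 0 0 :=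
  Sym.prob hn hk ct_c21_sym ct_nc36_21_cnt_EG_ok (grp_nil_le _) (Frames.cons TC_s0_F Frames.nil) (okE_cons.2 ⟨g733_ok, okE_nil _⟩) _

noncomputable def ct_nc36_21_cnt_t : BT := (BT.frm (nat_lit 0) (nat_lit 0) (nat_lit 0) [] (BT.pln (nat_lit 0) (nat_lit 10) (BT.fix (nat_lit 1) (BT.and (nat_lit 1) (nat_lit 0) (BT.cnt (nat_lit 0))))))

theorem ct_nc36_21_cnt : Cnt 276 (grp 276 tt_c4_K) [g733] [g792] 0 0 0 0 0 :=
  BT.sound ct_nc36_21_cnt_P Known.nil (t := ct_nc36_21_cnt_t) (d := 0) (by decide +kernel)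

theorem ct_nc36_21 : ¬ CjIn (grp 276 tt_c4_K) (Net.toPerm 276 g733) (Net.toPerm 276 g792) :=
  not_cjIn ct_nc36_21_cnt

noncomputable def ct_nc36_24_cnt_L : List ℕ := [0, 15, TC_s0_O, 0, 0]

theorem ct_nc36_24_cnt_P : Prob 276 9 (grp 276 tt_c4_K) ct_nc36_24_cnt_EG [g733] [g799] ct_c24_K ct_nc36_24_cnt_L 0 0 :=
  Sym.prob hn hk ct_c24_sym ct_nc36_24_cnt_EG_ok (grp_nil_le _) (Frames.cons TC_s0_F Frames.nil) (okE_cons.2 ⟨g733_ok, okE_nil _⟩) _

noncomputable def ct_nc36_24_cnt_t : BT := (BT.frm (nat_lit 0) (nat_lit 0) (nat_lit 0) [] (BT.pln (nat_lit 0) (nat_lit 1) (BT.fix (nat_lit 257) (BT.and (nat_lit 1) (nat_lit 0) (BT.cnt (nat_lit 0))))))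

theorem ct_nc36_24_cnt : Cnt 276 (grp 276 tt_c4_K) [g733] [g799] 0 0 0 0 0 :=
  BT.sound ct_nc36_24_cnt_P Known.nil (t := ct_nc36_24_cnt_t) (d := 0) (by decide +kernel)

theorem ct_nc36_24 : ¬ CjIn (grp 276 tt_c4_K) (Net.toPerm 276 g733) (Net.toPerm 276 g799) :=
  not_cjIn ct_nc36_24_cnt

noncomputable def ct_nc36_25_cnt_L : List ℕ := [0, 15, TC_s0_O, 0, 0]

theorem ct_nc36_25_cnt_P : Prob 276 9 (grp 276 tt_c4_K) ct_nc36_25_cnt_EG [g733] [g735] ct_c25_K ct_nc36_25_cnt_L 0 0 :=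
  Sym.prob hn hk ct_c25_sym ct_nc36_25_cnt_EG_ok (grp_nil_le _) (Frames.cons TC_s0_F Frames.nil) (okE_cons.2 ⟨g733_ok, okE_nil _⟩) _

noncomputable def ct_nc36_25_cnt_t : BT := (BT.frm (nat_lit 0) (nat_lit 0) (nat_lit 0) [] (BT.pln (nat_lit 0) (nat_lit 1) (BT.fix (nat_lit 257) (BT.and (nat_lit 1) (nat_lit 0) (BT.cnt (nat_lit 0))))))

theorem ct_nc36_25_cnt : Cnt 276 (grp 276 tt_c4_K) [g733] [g735] 0 0 0 0 0 :=
  BT.sound ct_nc36_25_cnt_P Known.nil (t := ct_nc36_25_cnt_t) (d := 0) (by decide +kernel)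

theorem ct_nc36_25 : ¬ CjIn (grp 276 tt_c4_K) (Net.toPerm 276 g733) (Net.toPerm 276 g735) :=
  not_cjIn ct_nc36_25_cnt

noncomputable def ct_nc36_26_cnt_L : List ℕ := [0, 15, TC_s0_O, 0, 0]

theorem ct_nc36_26_cnt_P : Prob 276 9 (grp 276 tt_c4_K) ct_nc36_26_cnt_EG [g733] [g795] ct_c26_K ct_nc36_26_cnt_L 0 0 :=
  Sym.prob hn hk ct_c26_sym ct_nc36_26_cnt_EG_ok (grp_nil_le _) (Frames.cons TC_s0_F Frames.nil) (okE_cons.2 ⟨g733_ok, okE_nil _⟩) _

noncomputable def ct_nc36_26_cnt_t : BT := (BT.frm (nat_lit 0) (nat_lit 0) (nat_lit 0) [] (BT.pln (nat_lit 0) (nat_lit 0) (BT.fix (nat_lit 257) (BT.and (nat_lit 1) (nat_lit 0) (BT.cnt (nat_lit 0))))))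

theorem ct_nc36_26_cnt : Cnt 276 (grp 276 tt_c4_K) [g733] [g795] 0 0 0 0 0 :=
  BT.sound ct_nc36_26_cnt_P Known.nil (t := ct_nc36_26_cnt_t) (d := 0) (by decide +kernel)

theorem ct_nc36_26 : ¬ CjIn (grp 276 tt_c4_K) (Net.toPerm 276 g733) (Net.toPerm 276 g795) :=
  not_cjIn ct_nc36_26_cnt

noncomputable def ct_nc36_27_cnt_L : List ℕ := [0, 15, TC_s0_O, 0, 0]

theorem ct_nc36_27_cnt_P : Prob 276 9 (grp 276 tt_c4_K) ct_nc36_27_cnt_EG [g733] [g524] ct_c27_K ct_nc36_27_cnt_L 0 0 :=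
  Sym.prob hn hk ct_c27_sym ct_nc36_27_cnt_EG_ok (grp_nil_le _) (Frames.cons TC_s0_F Frames.nil) (okE_cons.2 ⟨g733_ok, okE_nil _⟩) _

noncomputable def ct_nc36_27_cnt_t : BT := (BT.frm (nat_lit 0) (nat_lit 0) (nat_lit 0) [] (BT.pln (nat_lit 0) (nat_lit 10) (BT.fix (nat_lit 1) (BT.and (nat_lit 1) (nat_lit 0) (BT.cnt (nat_lit 0))))))

theorem ct_nc36_27_cnt : Cnt 276 (grp 276 tt_c4_K) [g733] [g524] 0 0 0 0 0 :=
  BT.sound ct_nc36_27_cnt_P Known.nil (t := ct_nc36_27_cnt_t) (d := 0) (by decide +kernel)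

theorem ct_nc36_27 : ¬ CjIn (grp 276 tt_c4_K) (Net.toPerm 276 g733) (Net.toPerm 276 g524) :=
  not_cjIn ct_nc36_27_cnt

noncomputable def ct_nc36_28_cnt_L : List ℕ := [0, 15, TC_s0_O, 0, 0]

theorem ct_nc36_28_cnt_P : Prob 276 9 (grp 276 tt_c4_K) ct_nc36_28_cnt_EG [g733] [g804] ct_c28_K ct_nc36_28_cnt_L 0 0 :=
  Sym.prob hn hk ct_c28_sym ct_nc36_28_cnt_EG_ok (grp_nil_le _) (Frames.cons TC_s0_F Frames.nil) (okE_cons.2 ⟨g733_ok, okE_nil _⟩) _

noncomputable def ct_nc36_28_cnt_t : BT := (BT.frm (nat_lit 0) (nat_lit 0) (nat_lit 0) [] (BT.pln (nat_lit 0) (nat_lit 1) (BT.fix (nat_lit 257) (BT.and (nat_lit 1) (nat_lit 0) (BT.cnt (nat_lit 0))))))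

theorem ct_nc36_28_cnt : Cnt 276 (grp 276 tt_c4_K) [g733] [g804] 0 0 0 0 0 :=
  BT.sound ct_nc36_28_cnt_P Known.nil (t := ct_nc36_28_cnt_t) (d := 0) (by decide +kernel)

theorem ct_nc36_28 : ¬ CjIn (grp 276 tt_c4_K) (Net.toPerm 276 g733) (Net.toPerm 276 g804) :=
  not_cjIn ct_nc36_28_cnt

noncomputable def ct_nc36_29_cnt_L : List ℕ := [0, 15, TC_s0_O, 0, 0]

theorem ct_nc36_29_cnt_P : Prob 276 9 (grp 276 tt_c4_K) ct_nc36_29_cnt_EG [g733] [g546] ct_c29_K ct_nc36_29_cnt_L 0 0 :=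
  Sym.prob hn hk ct_c29_sym ct_nc36_29_cnt_EG_ok (grp_nil_le _) (Frames.cons TC_s0_F Frames.nil) (okE_cons.2 ⟨g733_ok, okE_nil _⟩) _

noncomputable def ct_nc36_29_cnt_t : BT := (BT.frm (nat_lit 0) (nat_lit 0) (nat_lit 0) [] (BT.pln (nat_lit 0) (nat_lit 1) (BT.fix (nat_lit 257) (BT.and (nat_lit 1) (nat_lit 0) (BT.cnt (nat_lit 0))))))

theorem ct_nc36_29_cnt : Cnt 276 (grp 276 tt_c4_K) [g733] [g546] 0 0 0 0 0 :=
  BT.sound ct_nc36_29_cnt_P Known.nil (t := ct_nc36_29_cnt_t) (d := 0) (by decide +kernel)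

theorem ct_nc36_29 : ¬ CjIn (grp 276 tt_c4_K) (Net.toPerm 276 g733) (Net.toPerm 276 g546) :=
  not_cjIn ct_nc36_29_cnt

noncomputable def ct_nc36_31_cnt_L : List ℕ := [0, 15, TC_s0_O, 0, 0]

theorem ct_nc36_31_cnt_P : Prob 276 9 (grp 276 tt_c4_K) ct_nc36_31_cnt_EG [g733] [g698] ct_c31_K ct_nc36_31_cnt_L 0 0 :=
  Sym.prob hn hk ct_c31_sym ct_nc36_31_cnt_EG_ok (grp_nil_le _) (Frames.cons TC_s0_F Frames.nil) (okE_cons.2 ⟨g733_ok, okE_nil _⟩) _

noncomputable def ct_nc36_31_cnt_t : BT := (BT.frm (nat_lit 0) (nat_lit 0) (nat_lit 0) [] (BT.pln (nat_lit 0) (nat_lit 1) (BT.fix (nat_lit 257) (BT.and (nat_lit 1) (nat_lit 0) (BT.cnt (nat_lit 0))))))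

theorem ct_nc36_31_cnt : Cnt 276 (grp 276 tt_c4_K) [g733] [g698] 0 0 0 0 0 :=
  BT.sound ct_nc36_31_cnt_P Known.nil (t := ct_nc36_31_cnt_t) (d := 0) (by decide +kernel)

theorem ct_nc36_31 : ¬ CjIn (grp 276 tt_c4_K) (Net.toPerm 276 g733) (Net.toPerm 276 g698) :=
  not_cjIn ct_nc36_31_cnt

noncomputable def ct_nc36_32_cnt_L : List ℕ := [0, 15, TC_s0_O, 0, 0]

theorem ct_nc36_32_cnt_P : Prob 276 9 (grp 276 tt_c4_K) ct_nc36_32_cnt_EG [g733] [g545] ct_c32_K ct_nc36_32_cnt_L 0 0 :=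
  Sym.prob hn hk ct_c32_sym ct_nc36_32_cnt_EG_ok (grp_nil_le _) (Frames.cons TC_s0_F Frames.nil) (okE_cons.2 ⟨g733_ok, okE_nil _⟩) _

noncomputable def ct_nc36_32_cnt_t : BT := (BT.frm (nat_lit 0) (nat_lit 0) (nat_lit 0) [] (BT.pln (nat_lit 0) (nat_lit 1) (BT.fix (nat_lit 257) (BT.and (nat_lit 1) (nat_lit 0) (BT.cnt (nat_lit 0))))))

theorem ct_nc36_32_cnt : Cnt 276 (grp 276 tt_c4_K) [g733] [g545] 0 0 0 0 0 :=
  BT.sound ct_nc36_32_cnt_P Known.nil (t := ct_nc36_32_cnt_t) (d := 0) (by decide +kernel)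

theorem ct_nc36_32 : ¬ CjIn (grp 276 tt_c4_K) (Net.toPerm 276 g733) (Net.toPerm 276 g545) :=
  not_cjIn ct_nc36_32_cnt

noncomputable def ct_nc36_34_cnt_L : List ℕ := [0, 15, TC_s0_O, 0, 0]

theorem ct_nc36_34_cnt_P : Prob 276 9 (grp 276 tt_c4_K) ct_nc36_34_cnt_EG [g733] [g444] ct_c34_K ct_nc36_34_cnt_L 0 0 :=
  Sym.prob hn hk ct_c34_sym ct_nc36_34_cnt_EG_ok (grp_nil_le _) (Frames.cons TC_s0_F Frames.nil) (okE_cons.2 ⟨g733_ok, okE_nil _⟩) _

noncomputable def ct_nc36_34_cnt_t : BT := (BT.frm (nat_lit 0) (nat_lit 0) (nat_lit 0) [] (BT.pln (nat_lit 0) (nat_lit 1) (BT.fix (nat_lit 257) (BT.and (nat_lit 1) (nat_lit 0) (BT.cnt (nat_lit 0))))))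

theorem ct_nc36_34_cnt : Cnt 276 (grp 276 tt_c4_K) [g733] [g444] 0 0 0 0 0 :=
  BT.sound ct_nc36_34_cnt_P Known.nil (t := ct_nc36_34_cnt_t) (d := 0) (by decide +kernel)

theorem ct_nc36_34 : ¬ CjIn (grp 276 tt_c4_K) (Net.toPerm 276 g733) (Net.toPerm 276 g444) :=
  not_cjIn ct_nc36_34_cnt

noncomputable def ct_nc36_35_cnt_L : List ℕ := [0, 15, TC_s0_O, 0, 0]

theorem ct_nc36_35_cnt_P : Prob 276 9 (grp 276 tt_c4_K) ct_nc36_35_cnt_EG [g733] [g526] ct_c35_K ct_nc36_35_cnt_L 0 0 :=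
  Sym.prob hn hk ct_c35_sym ct_nc36_35_cnt_EG_ok (grp_nil_le _) (Frames.cons TC_s0_F Frames.nil) (okE_cons.2 ⟨g733_ok, okE_nil _⟩) _

noncomputable def ct_nc36_35_cnt_t : BT := (BT.frm (nat_lit 0) (nat_lit 0) (nat_lit 0) [] (BT.pln (nat_lit 0) (nat_lit 1) (BT.fix (nat_lit 257) (BT.and (nat_lit 1) (nat_lit 0) (BT.cnt (nat_lit 0))))))

theorem ct_nc36_35_cnt : Cnt 276 (grp 276 tt_c4_K) [g733] [g526] 0 0 0 0 0 :=
  BT.sound ct_nc36_35_cnt_P Known.nil (t := ct_nc36_35_cnt_t) (d := 0) (by decide +kernel)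

theorem ct_nc36_35 : ¬ CjIn (grp 276 tt_c4_K) (Net.toPerm 276 g733) (Net.toPerm 276 g526) :=
  not_cjIn ct_nc36_35_cnt

noncomputable def ct_nc37_18_cnt_L : List ℕ := [0, 15, TC_s0_O, 0, 0]

theorem ct_nc37_18_cnt_P : Prob 276 9 (grp 276 tt_c4_K) ct_nc37_18_cnt_EG [g817] [g712] ct_c18_K ct_nc37_18_cnt_L 0 0 :=
  Sym.prob hn hk ct_c18_sym ct_nc37_18_cnt_EG_ok (grp_nil_le _) (Frames.cons TC_s0_F Frames.nil) (okE_cons.2 ⟨g817_ok, okE_nil _⟩) _

noncomputable def ct_nc37_18_cnt_t : BT := (BT.frm (nat_lit 0) (nat_lit 0) (nat_lit 0) [] (BT.pln (nat_lit 0) (nat_lit 0) (BT.fix (nat_lit 1) (BT.and (nat_lit 1) (nat_lit 0) (BT.cnt (nat_lit 0))))))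

theorem ct_nc37_18_cnt : Cnt 276 (grp 276 tt_c4_K) [g817] [g712] 0 0 0 0 0 :=
  BT.sound ct_nc37_18_cnt_P Known.nil (t := ct_nc37_18_cnt_t) (d := 0) (by decide +kernel)

theorem ct_nc37_18 : ¬ CjIn (grp 276 tt_c4_K) (Net.toPerm 276 g817) (Net.toPerm 276 g712) :=
  not_cjIn ct_nc37_18_cnt

noncomputable def ct_nc37_22_cnt_L : List ℕ := [0, 15, TC_s0_O, 0, 0]

theorem ct_nc37_22_cnt_P : Prob 276 9 (grp 276 tt_c4_K) ct_nc37_22_cnt_EG [g817] [g794] ct_c22_K ct_nc37_22_cnt_L 0 0 :=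
  Sym.prob hn hk ct_c22_sym ct_nc37_22_cnt_EG_ok (grp_nil_le _) (Frames.cons TC_s0_F Frames.nil) (okE_cons.2 ⟨g817_ok, okE_nil _⟩) _

noncomputable def ct_nc37_22_cnt_t : BT := (BT.frm (nat_lit 0) (nat_lit 0) (nat_lit 0) [] (BT.pln (nat_lit 0) (nat_lit 0) (BT.fix (nat_lit 1) (BT.and (nat_lit 1) (nat_lit 0) (BT.cnt (nat_lit 0))))))

theorem ct_nc37_22_cnt : Cnt 276 (grp 276 tt_c4_K) [g817] [g794] 0 0 0 0 0 :=
  BT.sound ct_nc37_22_cnt_P Known.nil (t := ct_nc37_22_cnt_t) (d := 0) (by decide +kernel)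

theorem ct_nc37_22 : ¬ CjIn (grp 276 tt_c4_K) (Net.toPerm 276 g817) (Net.toPerm 276 g794) :=
  not_cjIn ct_nc37_22_cnt

noncomputable def ct_nc37_23_cnt_L : List ℕ := [0, 15, TC_s0_O, 0, 0]

theorem ct_nc37_23_cnt_P : Prob 276 9 (grp 276 tt_c4_K) ct_nc37_23_cnt_EG [g817] [g797] ct_c23_K ct_nc37_23_cnt_L 0 0 :=
  Sym.prob hn hk ct_c23_sym ct_nc37_23_cnt_EG_ok (grp_nil_le _) (Frames.cons TC_s0_F Frames.nil) (okE_cons.2 ⟨g817_ok, okE_nil _⟩) _

noncomputable def ct_nc37_23_cnt_t : BT := (BT.frm (nat_lit 0) (nat_lit 0) (nat_lit 0) [] (BT.pln (nat_lit 0) (nat_lit 0) (BT.fix (nat_lit 1) (BT.and (nat_lit 1) (nat_lit 0) (BT.cnt (nat_lit 0))))))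

theorem ct_nc37_23_cnt : Cnt 276 (grp 276 tt_c4_K) [g817] [g797] 0 0 0 0 0 :=
  BT.sound ct_nc37_23_cnt_P Known.nil (t := ct_nc37_23_cnt_t) (d := 0) (by decide +kernel)

theorem ct_nc37_23 : ¬ CjIn (grp 276 tt_c4_K) (Net.toPerm 276 g817) (Net.toPerm 276 g797) :=
  not_cjIn ct_nc37_23_cnt

noncomputable def ct_nc37_30_cnt_L : List ℕ := [0, 15, TC_s0_O, 0, 0]

theorem ct_nc37_30_cnt_P : Prob 276 9 (grp 276 tt_c4_K) ct_nc37_30_cnt_EG [g817] [g522] ct_c30_K ct_nc37_30_cnt_L 0 0 :=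
  Sym.prob hn hk ct_c30_sym ct_nc37_30_cnt_EG_ok (grp_nil_le _) (Frames.cons TC_s0_F Frames.nil) (okE_cons.2 ⟨g817_ok, okE_nil _⟩) _

noncomputable def ct_nc37_30_cnt_t : BT := (BT.frm (nat_lit 0) (nat_lit 0) (nat_lit 0) [] (BT.pln (nat_lit 0) (nat_lit 0) (BT.fix (nat_lit 1) (BT.and (nat_lit 1) (nat_lit 0) (BT.cnt (nat_lit 0))))))

theorem ct_nc37_30_cnt : Cnt 276 (grp 276 tt_c4_K) [g817] [g522] 0 0 0 0 0 :=
  BT.sound ct_nc37_30_cnt_P Known.nil (t := ct_nc37_30_cnt_t) (d := 0) (by decide +kernel)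

theorem ct_nc37_30 : ¬ CjIn (grp 276 tt_c4_K) (Net.toPerm 276 g817) (Net.toPerm 276 g522) :=
  not_cjIn ct_nc37_30_cnt

noncomputable def ct_nc37_33_cnt_L : List ℕ := [0, 15, TC_s0_O, 0, 0]

theorem ct_nc37_33_cnt_P : Prob 276 9 (grp 276 tt_c4_K) ct_nc37_33_cnt_EG [g817] [g544] ct_c33_K ct_nc37_33_cnt_L 0 0 :=
  Sym.prob hn hk ct_c33_sym ct_nc37_33_cnt_EG_ok (grp_nil_le _) (Frames.cons TC_s0_F Frames.nil) (okE_cons.2 ⟨g817_ok, okE_nil _⟩) _

noncomputable def ct_nc37_33_cnt_t : BT := (BT.frm (nat_lit 0) (nat_lit 0) (nat_lit 0) [] (BT.pln (nat_lit 0) (nat_lit 0) (BT.fix (nat_lit 1) (BT.and (nat_lit 1) (nat_lit 0) (BT.cnt (nat_lit 0))))))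

theorem ct_nc37_33_cnt : Cnt 276 (grp 276 tt_c4_K) [g817] [g544] 0 0 0 0 0 :=
  BT.sound ct_nc37_33_cnt_P Known.nil (t := ct_nc37_33_cnt_t) (d := 0) (by decide +kernel)

theorem ct_nc37_33 : ¬ CjIn (grp 276 tt_c4_K) (Net.toPerm 276 g817) (Net.toPerm 276 g544) :=
  not_cjIn ct_nc37_33_cnt

noncomputable def ct_nc38_16_cnt_L : List ℕ := [0, 15, TC_s0_O, 0, 0]

theorem ct_nc38_16_cnt_P : Prob 276 9 (grp 276 tt_c4_K) ct_nc38_16_cnt_EG [g811] [g705] ct_c16_K ct_nc38_16_cnt_L 0 0 :=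
  Sym.prob hn hk ct_c16_sym ct_nc38_16_cnt_EG_ok (grp_nil_le _) (Frames.cons TC_s0_F Frames.nil) (okE_cons.2 ⟨g811_ok, okE_nil _⟩) _

noncomputable def ct_nc38_16_cnt_t : BT := (BT.frm (nat_lit 0) (nat_lit 0) (nat_lit 0) [] (BT.pln (nat_lit 0) (nat_lit 0) (BT.fix (nat_lit 257) (BT.and (nat_lit 1) (nat_lit 0) (BT.cnt (nat_lit 0))))))

theorem ct_nc38_16_cnt : Cnt 276 (grp 276 tt_c4_K) [g811] [g705] 0 0 0 0 0 :=
  BT.sound ct_nc38_16_cnt_P Known.nil (t := ct_nc38_16_cnt_t) (d := 0) (by decide +kernel)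

theorem ct_nc38_16 : ¬ CjIn (grp 276 tt_c4_K) (Net.toPerm 276 g811) (Net.toPerm 276 g705) :=
  not_cjIn ct_nc38_16_cnt

noncomputable def ct_nc38_17_cnt_L : List ℕ := [0, 15, TC_s0_O, 0, 0]

theorem ct_nc38_17_cnt_P : Prob 276 9 (grp 276 tt_c4_K) ct_nc38_17_cnt_EG [g811] [g127] ct_c17_K ct_nc38_17_cnt_L 0 0 :=
  Sym.prob hn hk ct_c17_sym ct_nc38_17_cnt_EG_ok (grp_nil_le _) (Frames.cons TC_s0_F Frames.nil) (okE_cons.2 ⟨g811_ok, okE_nil _⟩) _

noncomputable def ct_nc38_17_cnt_t : BT := (BT.frm (nat_lit 0) (nat_lit 0) (nat_lit 0) [] (BT.pln (nat_lit 0) (nat_lit 0) (BT.fix (nat_lit 257) (BT.and (nat_lit 1) (nat_lit 0) (BT.cnt (nat_lit 0))))))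

theorem ct_nc38_17_cnt : Cnt 276 (grp 276 tt_c4_K) [g811] [g127] 0 0 0 0 0 :=
  BT.sound ct_nc38_17_cnt_P Known.nil (t := ct_nc38_17_cnt_t) (d := 0) (by decide +kernel)

theorem ct_nc38_17 : ¬ CjIn (grp 276 tt_c4_K) (Net.toPerm 276 g811) (Net.toPerm 276 g127) :=
  not_cjIn ct_nc38_17_cnt

noncomputable def ct_nc38_19_cnt_L : List ℕ := [0, 15, TC_s0_O, 0, 0]

theorem ct_nc38_19_cnt_P : Prob 276 9 (grp 276 tt_c4_K) ct_nc38_19_cnt_EG [g811] [g717] ct_c19_K ct_nc38_19_cnt_L 0 0 :=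
  Sym.prob hn hk ct_c19_sym ct_nc38_19_cnt_EG_ok (grp_nil_le _) (Frames.cons TC_s0_F Frames.nil) (okE_cons.2 ⟨g811_ok, okE_nil _⟩) _

noncomputable def ct_nc38_19_cnt_t : BT := (BT.frm (nat_lit 0) (nat_lit 0) (nat_lit 0) [] (BT.pln (nat_lit 0) (nat_lit 0) (BT.fix (nat_lit 257) (BT.and (nat_lit 1) (nat_lit 0) (BT.cnt (nat_lit 0))))))

theorem ct_nc38_19_cnt : Cnt 276 (grp 276 tt_c4_K) [g811] [g717] 0 0 0 0 0 :=
  BT.sound ct_nc38_19_cnt_P Known.nil (t := ct_nc38_19_cnt_t) (d := 0) (by decide +kernel)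

theorem ct_nc38_19 : ¬ CjIn (grp 276 tt_c4_K) (Net.toPerm 276 g811) (Net.toPerm 276 g717) :=
  not_cjIn ct_nc38_19_cnt

noncomputable def ct_nc38_20_cnt_L : List ℕ := [0, 15, TC_s0_O, 0, 0]

theorem ct_nc38_20_cnt_P : Prob 276 9 (grp 276 tt_c4_K) ct_nc38_20_cnt_EG [g811] [g790] ct_c20_K ct_nc38_20_cnt_L 0 0 :=
  Sym.prob hn hk ct_c20_sym ct_nc38_20_cnt_EG_ok (grp_nil_le _) (Frames.cons TC_s0_F Frames.nil) (okE_cons.2 ⟨g811_ok, okE_nil _⟩) _

noncomputable def ct_nc38_20_cnt_t : BT := (BT.frm (nat_lit 0) (nat_lit 0) (nat_lit 0) [] (BT.pln (nat_lit 0) (nat_lit 8) (BT.fix (nat_lit 1) (BT.and (nat_lit 1) (nat_lit 0) (BT.cnt (nat_lit 0))))))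

theorem ct_nc38_20_cnt : Cnt 276 (grp 276 tt_c4_K) [g811] [g790] 0 0 0 0 0 :=
  BT.sound ct_nc38_20_cnt_P Known.nil (t := ct_nc38_20_cnt_t) (d := 0) (by decide +kernel)

theorem ct_nc38_20 : ¬ CjIn (grp 276 tt_c4_K) (Net.toPerm 276 g811) (Net.toPerm 276 g790) :=
  not_cjIn ct_nc38_20_cnt

noncomputable def ct_nc38_21_cnt_L : List ℕ := [0, 15, TC_s0_O, 0, 0]

theorem ct_nc38_21_cnt_P : Prob 276 9 (grp 276 tt_c4_K) ct_nc38_21_cnt_EG [g811] [g792] ct_c21_K ct_nc38_21_cnt_L 0 0 :=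
  Sym.prob hn hk ct_c21_sym ct_nc38_21_cnt_EG_ok (grp_nil_le _) (Frames.cons TC_s0_F Frames.nil) (okE_cons.2 ⟨g811_ok, okE_nil _⟩) _

noncomputable def ct_nc38_21_cnt_t : BT := (BT.frm (nat_lit 0) (nat_lit 0) (nat_lit 0) [] (BT.pln (nat_lit 0) (nat_lit 0) (BT.fix (nat_lit 257) (BT.and (nat_lit 1) (nat_lit 0) (BT.cnt (nat_lit 0))))))

theorem ct_nc38_21_cnt : Cnt 276 (grp 276 tt_c4_K) [g811] [g792] 0 0 0 0 0 :=
  BT.sound ct_nc38_21_cnt_P Known.nil (t := ct_nc38_21_cnt_t) (d := 0) (by decide +kernel)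

theorem ct_nc38_21 : ¬ CjIn (grp 276 tt_c4_K) (Net.toPerm 276 g811) (Net.toPerm 276 g792) :=
  not_cjIn ct_nc38_21_cnt

noncomputable def ct_nc38_24_cnt_L : List ℕ := [0, 15, TC_s0_O, 0, 0]

theorem ct_nc38_24_cnt_P : Prob 276 9 (grp 276 tt_c4_K) ct_nc38_24_cnt_EG [g811] [g799] ct_c24_K ct_nc38_24_cnt_L 0 0 :=
  Sym.prob hn hk ct_c24_sym ct_nc38_24_cnt_EG_ok (grp_nil_le _) (Frames.cons TC_s0_F Frames.nil) (okE_cons.2 ⟨g811_ok, okE_nil _⟩) _

noncomputable def ct_nc38_24_cnt_t : BT := (BT.frm (nat_lit 0) (nat_lit 0) (nat_lit 0) [] (BT.pln (nat_lit 0) (nat_lit 0) (BT.fix (nat_lit 257) (BT.and (nat_lit 1) (nat_lit 0) (BT.cnt (nat_lit 0))))))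

theorem ct_nc38_24_cnt : Cnt 276 (grp 276 tt_c4_K) [g811] [g799] 0 0 0 0 0 :=
  BT.sound ct_nc38_24_cnt_P Known.nil (t := ct_nc38_24_cnt_t) (d := 0) (by decide +kernel)

theorem ct_nc38_24 : ¬ CjIn (grp 276 tt_c4_K) (Net.toPerm 276 g811) (Net.toPerm 276 g799) :=
  not_cjIn ct_nc38_24_cnt

noncomputable def ct_nc38_25_cnt_L : List ℕ := [0, 15, TC_s0_O, 0, 0]

theorem ct_nc38_25_cnt_P : Prob 276 9 (grp 276 tt_c4_K) ct_nc38_25_cnt_EG [g811] [g735] ct_c25_K ct_nc38_25_cnt_L 0 0 :=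
  Sym.prob hn hk ct_c25_sym ct_nc38_25_cnt_EG_ok (grp_nil_le _) (Frames.cons TC_s0_F Frames.nil) (okE_cons.2 ⟨g811_ok, okE_nil _⟩) _

noncomputable def ct_nc38_25_cnt_t : BT := (BT.frm (nat_lit 0) (nat_lit 0) (nat_lit 0) [] (BT.pln (nat_lit 0) (nat_lit 0) (BT.fix (nat_lit 257) (BT.and (nat_lit 1) (nat_lit 0) (BT.cnt (nat_lit 0))))))

theorem ct_nc38_25_cnt : Cnt 276 (grp 276 tt_c4_K) [g811] [g735] 0 0 0 0 0 :=
  BT.sound ct_nc38_25_cnt_P Known.nil (t := ct_nc38_25_cnt_t) (d := 0) (by decide +kernel)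

theorem ct_nc38_25 : ¬ CjIn (grp 276 tt_c4_K) (Net.toPerm 276 g811) (Net.toPerm 276 g735) :=
  not_cjIn ct_nc38_25_cnt

noncomputable def ct_nc38_26_cnt_L : List ℕ := [0, 15, TC_s0_O, 0, 0]

theorem ct_nc38_26_cnt_P : Prob 276 9 (grp 276 tt_c4_K) ct_nc38_26_cnt_EG [g811] [g795] ct_c26_K ct_nc38_26_cnt_L 0 0 :=
  Sym.prob hn hk ct_c26_sym ct_nc38_26_cnt_EG_ok (grp_nil_le _) (Frames.cons TC_s0_F Frames.nil) (okE_cons.2 ⟨g811_ok, okE_nil _⟩) _

noncomputable def ct_nc38_26_cnt_t : BT := (BT.frm (nat_lit 0) (nat_lit 0) (nat_lit 0) [] (BT.pln (nat_lit 0) (nat_lit 12) (BT.fix (nat_lit 1) (BT.and (nat_lit 1) (nat_lit 0) (BT.cnt (nat_lit 0))))))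

theorem ct_nc38_26_cnt : Cnt 276 (grp 276 tt_c4_K) [g811] [g795] 0 0 0 0 0 :=
  BT.sound ct_nc38_26_cnt_P Known.nil (t := ct_nc38_26_cnt_t) (d := 0) (by decide +kernel)

theorem ct_nc38_26 : ¬ CjIn (grp 276 tt_c4_K) (Net.toPerm 276 g811) (Net.toPerm 276 g795) :=
  not_cjIn ct_nc38_26_cnt

noncomputable def ct_nc38_27_cnt_L : List ℕ := [0, 15, TC_s0_O, 0, 0]

theorem ct_nc38_27_cnt_P : Prob 276 9 (grp 276 tt_c4_K) ct_nc38_27_cnt_EG [g811] [g524] ct_c27_K ct_nc38_27_cnt_L 0 0 :=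
  Sym.prob hn hk ct_c27_sym ct_nc38_27_cnt_EG_ok (grp_nil_le _) (Frames.cons TC_s0_F Frames.nil) (okE_cons.2 ⟨g811_ok, okE_nil _⟩) _

noncomputable def ct_nc38_27_cnt_t : BT := (BT.frm (nat_lit 0) (nat_lit 0) (nat_lit 0) [] (BT.pln (nat_lit 0) (nat_lit 0) (BT.fix (nat_lit 257) (BT.and (nat_lit 1) (nat_lit 0) (BT.cnt (nat_lit 0))))))

theorem ct_nc38_27_cnt : Cnt 276 (grp 276 tt_c4_K) [g811] [g524] 0 0 0 0 0 :=
  BT.sound ct_nc38_27_cnt_P Known.nil (t := ct_nc38_27_cnt_t) (d := 0) (by decide +kernel)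

theorem ct_nc38_27 : ¬ CjIn (grp 276 tt_c4_K) (Net.toPerm 276 g811) (Net.toPerm 276 g524) :=
  not_cjIn ct_nc38_27_cnt

noncomputable def ct_nc38_28_cnt_L : List ℕ := [0, 15, TC_s0_O, 0, 0]

theorem ct_nc38_28_cnt_P : Prob 276 9 (grp 276 tt_c4_K) ct_nc38_28_cnt_EG [g811] [g804] ct_c28_K ct_nc38_28_cnt_L 0 0 :=
  Sym.prob hn hk ct_c28_sym ct_nc38_28_cnt_EG_ok (grp_nil_le _) (Frames.cons TC_s0_F Frames.nil) (okE_cons.2 ⟨g811_ok, okE_nil _⟩) _

noncomputable def ct_nc38_28_cnt_t : BT := (BT.frm (nat_lit 0) (nat_lit 0) (nat_lit 0) [] (BT.pln (nat_lit 0) (nat_lit 0) (BT.fix (nat_lit 257) (BT.and (nat_lit 1) (nat_lit 0) (BT.cnt (nat_lit 0))))))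

theorem ct_nc38_28_cnt : Cnt 276 (grp 276 tt_c4_K) [g811] [g804] 0 0 0 0 0 :=
  BT.sound ct_nc38_28_cnt_P Known.nil (t := ct_nc38_28_cnt_t) (d := 0) (by decide +kernel)

theorem ct_nc38_28 : ¬ CjIn (grp 276 tt_c4_K) (Net.toPerm 276 g811) (Net.toPerm 276 g804) :=
  not_cjIn ct_nc38_28_cnt

noncomputable def ct_nc38_29_cnt_L : List ℕ := [0, 15, TC_s0_O, 0, 0]

theorem ct_nc38_29_cnt_P : Prob 276 9 (grp 276 tt_c4_K) ct_nc38_29_cnt_EG [g811] [g546] ct_c29_K ct_nc38_29_cnt_L 0 0 :=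
  Sym.prob hn hk ct_c29_sym ct_nc38_29_cnt_EG_ok (grp_nil_le _) (Frames.cons TC_s0_F Frames.nil) (okE_cons.2 ⟨g811_ok, okE_nil _⟩) _

noncomputable def ct_nc38_29_cnt_t : BT := (BT.frm (nat_lit 0) (nat_lit 0) (nat_lit 0) [] (BT.pln (nat_lit 0) (nat_lit 0) (BT.fix (nat_lit 257) (BT.and (nat_lit 1) (nat_lit 0) (BT.cnt (nat_lit 0))))))

theorem ct_nc38_29_cnt : Cnt 276 (grp 276 tt_c4_K) [g811] [g546] 0 0 0 0 0 :=
  BT.sound ct_nc38_29_cnt_P Known.nil (t := ct_nc38_29_cnt_t) (d := 0) (by decide +kernel)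

theorem ct_nc38_29 : ¬ CjIn (grp 276 tt_c4_K) (Net.toPerm 276 g811) (Net.toPerm 276 g546) :=
  not_cjIn ct_nc38_29_cnt

noncomputable def ct_nc38_31_cnt_L : List ℕ := [0, 15, TC_s0_O, 0, 0]

theorem ct_nc38_31_cnt_P : Prob 276 9 (grp 276 tt_c4_K) ct_nc38_31_cnt_EG [g811] [g698] ct_c31_K ct_nc38_31_cnt_L 0 0 :=
  Sym.prob hn hk ct_c31_sym ct_nc38_31_cnt_EG_ok (grp_nil_le _) (Frames.cons TC_s0_F Frames.nil) (okE_cons.2 ⟨g811_ok, okE_nil _⟩) _

noncomputable def ct_nc38_31_cnt_t : BT := (BT.frm (nat_lit 0) (nat_lit 0) (nat_lit 0) [] (BT.pln (nat_lit 0) (nat_lit 0) (BT.fix (nat_lit 257) (BT.and (nat_lit 1) (nat_lit 0) (BT.cnt (nat_lit 0))))))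

theorem ct_nc38_31_cnt : Cnt 276 (grp 276 tt_c4_K) [g811] [g698] 0 0 0 0 0 :=
  BT.sound ct_nc38_31_cnt_P Known.nil (t := ct_nc38_31_cnt_t) (d := 0) (by decide +kernel)

theorem ct_nc38_31 : ¬ CjIn (grp 276 tt_c4_K) (Net.toPerm 276 g811) (Net.toPerm 276 g698) :=
  not_cjIn ct_nc38_31_cnt

noncomputable def ct_nc38_32_cnt_L : List ℕ := [0, 15, TC_s0_O, 0, 0]

theorem ct_nc38_32_cnt_P : Prob 276 9 (grp 276 tt_c4_K) ct_nc38_32_cnt_EG [g811] [g545] ct_c32_K ct_nc38_32_cnt_L 0 0 :=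
  Sym.prob hn hk ct_c32_sym ct_nc38_32_cnt_EG_ok (grp_nil_le _) (Frames.cons TC_s0_F Frames.nil) (okE_cons.2 ⟨g811_ok, okE_nil _⟩) _

noncomputable def ct_nc38_32_cnt_t : BT := (BT.frm (nat_lit 0) (nat_lit 0) (nat_lit 0) [] (BT.pln (nat_lit 0) (nat_lit 0) (BT.fix (nat_lit 257) (BT.and (nat_lit 1) (nat_lit 0) (BT.cnt (nat_lit 0))))))

theorem ct_nc38_32_cnt : Cnt 276 (grp 276 tt_c4_K) [g811] [g545] 0 0 0 0 0 :=
  BT.sound ct_nc38_32_cnt_P Known.nil (t := ct_nc38_32_cnt_t) (d := 0) (by decide +kernel)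

theorem ct_nc38_32 : ¬ CjIn (grp 276 tt_c4_K) (Net.toPerm 276 g811) (Net.toPerm 276 g545) :=
  not_cjIn ct_nc38_32_cnt

noncomputable def ct_nc38_34_cnt_L : List ℕ := [0, 15, TC_s0_O, 0, 0]

theorem ct_nc38_34_cnt_P : Prob 276 9 (grp 276 tt_c4_K) ct_nc38_34_cnt_EG [g811] [g444] ct_c34_K ct_nc38_34_cnt_L 0 0 :=
  Sym.prob hn hk ct_c34_sym ct_nc38_34_cnt_EG_ok (grp_nil_le _) (Frames.cons TC_s0_F Frames.nil) (okE_cons.2 ⟨g811_ok, okE_nil _⟩) _

noncomputable def ct_nc38_34_cnt_t : BT := (BT.frm (nat_lit 0) (nat_lit 0) (nat_lit 0) [] (BT.pln (nat_lit 0) (nat_lit 0) (BT.fix (nat_lit 257) (BT.and (nat_lit 1) (nat_lit 0) (BT.cnt (nat_lit 0))))))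

theorem ct_nc38_34_cnt : Cnt 276 (grp 276 tt_c4_K) [g811] [g444] 0 0 0 0 0 :=
  BT.sound ct_nc38_34_cnt_P Known.nil (t := ct_nc38_34_cnt_t) (d := 0) (by decide +kernel)

theorem ct_nc38_34 : ¬ CjIn (grp 276 tt_c4_K) (Net.toPerm 276 g811) (Net.toPerm 276 g444) :=
  not_cjIn ct_nc38_34_cnt

noncomputable def ct_nc38_35_cnt_L : List ℕ := [0, 15, TC_s0_O, 0, 0]

theorem ct_nc38_35_cnt_P : Prob 276 9 (grp 276 tt_c4_K) ct_nc38_35_cnt_EG [g811] [g526] ct_c35_K ct_nc38_35_cnt_L 0 0 :=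
  Sym.prob hn hk ct_c35_sym ct_nc38_35_cnt_EG_ok (grp_nil_le _) (Frames.cons TC_s0_F Frames.nil) (okE_cons.2 ⟨g811_ok, okE_nil _⟩) _

noncomputable def ct_nc38_35_cnt_t : BT := (BT.frm (nat_lit 0) (nat_lit 0) (nat_lit 0) [] (BT.pln (nat_lit 0) (nat_lit 0) (BT.fix (nat_lit 257) (BT.and (nat_lit 1) (nat_lit 0) (BT.cnt (nat_lit 0))))))

theorem ct_nc38_35_cnt : Cnt 276 (grp 276 tt_c4_K) [g811] [g526] 0 0 0 0 0 :=
  BT.sound ct_nc38_35_cnt_P Known.nil (t := ct_nc38_35_cnt_t) (d := 0) (by decide +kernel)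

theorem ct_nc38_35 : ¬ CjIn (grp 276 tt_c4_K) (Net.toPerm 276 g811) (Net.toPerm 276 g526) :=
  not_cjIn ct_nc38_35_cnt

noncomputable def ct_nc38_36_cnt_L : List ℕ := [0, 15, TC_s0_O, 0, 0]

theorem ct_nc38_36_cnt_P : Prob 276 9 (grp 276 tt_c4_K) ct_nc38_36_cnt_EG [g811] [g733] ct_c36_K ct_nc38_36_cnt_L 0 0 :=
  Sym.prob hn hk ct_c36_sym ct_nc38_36_cnt_EG_ok (grp_nil_le _) (Frames.cons TC_s0_F Frames.nil) (okE_cons.2 ⟨g811_ok, okE_nil _⟩) _

noncomputable def ct_nc38_36_cnt_t : BT := (BT.frm (nat_lit 0) (nat_lit 0) (nat_lit 0) [] (BT.pln (nat_lit 0) (nat_lit 0) (BT.fix (nat_lit 257) (BT.and (nat_lit 1) (nat_lit 0) (BT.cnt (nat_lit 0))))))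

theorem ct_nc38_36_cnt : Cnt 276 (grp 276 tt_c4_K) [g811] [g733] 0 0 0 0 0 :=
  BT.sound ct_nc38_36_cnt_P Known.nil (t := ct_nc38_36_cnt_t) (d := 0) (by decide +kernel)

theorem ct_nc38_36 : ¬ CjIn (grp 276 tt_c4_K) (Net.toPerm 276 g811) (Net.toPerm 276 g733) :=
  not_cjIn ct_nc38_36_cnt

noncomputable def ct_nc39_16_cnt_L : List ℕ := [0, 15, TC_s0_O, 0, 0]

theorem ct_nc39_16_cnt_P : Prob 276 9 (grp 276 tt_c4_K) ct_nc39_16_cnt_EG [g820] [g705] ct_c16_K ct_nc39_16_cnt_L 0 0 :=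
  Sym.prob hn hk ct_c16_sym ct_nc39_16_cnt_EG_ok (grp_nil_le _) (Frames.cons TC_s0_F Frames.nil) (okE_cons.2 ⟨g820_ok, okE_nil _⟩) _

noncomputable def ct_nc39_16_cnt_t : BT := (BT.frm (nat_lit 0) (nat_lit 0) (nat_lit 0) [] (BT.pln (nat_lit 0) (nat_lit 2) (BT.fix (nat_lit 257) (BT.and (nat_lit 1) (nat_lit 0) (BT.cnt (nat_lit 0))))))

theorem ct_nc39_16_cnt : Cnt 276 (grp 276 tt_c4_K) [g820] [g705] 0 0 0 0 0 :=
  BT.sound ct_nc39_16_cnt_P Known.nil (t := ct_nc39_16_cnt_t) (d := 0) (by decide +kernel)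

theorem ct_nc39_16 : ¬ CjIn (grp 276 tt_c4_K) (Net.toPerm 276 g820) (Net.toPerm 276 g705) :=
  not_cjIn ct_nc39_16_cnt

noncomputable def ct_nc39_17_cnt_L : List ℕ := [0, 15, TC_s0_O, 0, 0]

theorem ct_nc39_17_cnt_P : Prob 276 9 (grp 276 tt_c4_K) ct_nc39_17_cnt_EG [g820] [g127] ct_c17_K ct_nc39_17_cnt_L 0 0 :=
  Sym.prob hn hk ct_c17_sym ct_nc39_17_cnt_EG_ok (grp_nil_le _) (Frames.cons TC_s0_F Frames.nil) (okE_cons.2 ⟨g820_ok, okE_nil _⟩) _

noncomputable def ct_nc39_17_cnt_t : BT := (BT.frm (nat_lit 0) (nat_lit 0) (nat_lit 0) [] (BT.pln (nat_lit 0) (nat_lit 2) (BT.fix (nat_lit 257) (BT.and (nat_lit 1) (nat_lit 0) (BT.cnt (nat_lit 0))))))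

theorem ct_nc39_17_cnt : Cnt 276 (grp 276 tt_c4_K) [g820] [g127] 0 0 0 0 0 :=
  BT.sound ct_nc39_17_cnt_P Known.nil (t := ct_nc39_17_cnt_t) (d := 0) (by decide +kernel)

theorem ct_nc39_17 : ¬ CjIn (grp 276 tt_c4_K) (Net.toPerm 276 g820) (Net.toPerm 276 g127) :=
  not_cjIn ct_nc39_17_cnt

noncomputable def ct_nc39_19_cnt_L : List ℕ := [0, 15, TC_s0_O, 0, 0]

theorem ct_nc39_19_cnt_P : Prob 276 9 (grp 276 tt_c4_K) ct_nc39_19_cnt_EG [g820] [g717] ct_c19_K ct_nc39_19_cnt_L 0 0 :=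
  Sym.prob hn hk ct_c19_sym ct_nc39_19_cnt_EG_ok (grp_nil_le _) (Frames.cons TC_s0_F Frames.nil) (okE_cons.2 ⟨g820_ok, okE_nil _⟩) _

noncomputable def ct_nc39_19_cnt_t : BT := (BT.frm (nat_lit 0) (nat_lit 0) (nat_lit 0) [] (BT.pln (nat_lit 0) (nat_lit 2) (BT.fix (nat_lit 257) (BT.and (nat_lit 1) (nat_lit 0) (BT.cnt (nat_lit 0))))))

theorem ct_nc39_19_cnt : Cnt 276 (grp 276 tt_c4_K) [g820] [g717] 0 0 0 0 0 :=
  BT.sound ct_nc39_19_cnt_P Known.nil (t := ct_nc39_19_cnt_t) (d := 0) (by decide +kernel)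

theorem ct_nc39_19 : ¬ CjIn (grp 276 tt_c4_K) (Net.toPerm 276 g820) (Net.toPerm 276 g717) :=
  not_cjIn ct_nc39_19_cnt

noncomputable def ct_nc39_20_cnt_L : List ℕ := [0, 15, TC_s0_O, 0, 0]

theorem ct_nc39_20_cnt_P : Prob 276 9 (grp 276 tt_c4_K) ct_nc39_20_cnt_EG [g820] [g790] ct_c20_K ct_nc39_20_cnt_L 0 0 :=
  Sym.prob hn hk ct_c20_sym ct_nc39_20_cnt_EG_ok (grp_nil_le _) (Frames.cons TC_s0_F Frames.nil) (okE_cons.2 ⟨g820_ok, okE_nil _⟩) _

noncomputable def ct_nc39_20_cnt_t : BT := (BT.frm (nat_lit 0) (nat_lit 0) (nat_lit 0) [] (BT.pln (nat_lit 0) (nat_lit 0) (BT.fix (nat_lit 257) (BT.and (nat_lit 1) (nat_lit 0) (BT.cnt (nat_lit 0))))))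

theorem ct_nc39_20_cnt : Cnt 276 (grp 276 tt_c4_K) [g820] [g790] 0 0 0 0 0 :=
  BT.sound ct_nc39_20_cnt_P Known.nil (t := ct_nc39_20_cnt_t) (d := 0) (by decide +kernel)

theorem ct_nc39_20 : ¬ CjIn (grp 276 tt_c4_K) (Net.toPerm 276 g820) (Net.toPerm 276 g790) :=
  not_cjIn ct_nc39_20_cnt

noncomputable def ct_nc39_21_cnt_L : List ℕ := [0, 15, TC_s0_O, 0, 0]

theorem ct_nc39_21_cnt_P : Prob 276 9 (grp 276 tt_c4_K) ct_nc39_21_cnt_EG [g820] [g792] ct_c21_K ct_nc39_21_cnt_L 0 0 :=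
  Sym.prob hn hk ct_c21_sym ct_nc39_21_cnt_EG_ok (grp_nil_le _) (Frames.cons TC_s0_F Frames.nil) (okE_cons.2 ⟨g820_ok, okE_nil _⟩) _

noncomputable def ct_nc39_21_cnt_t : BT := (BT.frm (nat_lit 0) (nat_lit 0) (nat_lit 0) [] (BT.pln (nat_lit 0) (nat_lit 1) (BT.fix (nat_lit 257) (BT.and (nat_lit 1) (nat_lit 0) (BT.cnt (nat_lit 0))))))

theorem ct_nc39_21_cnt : Cnt 276 (grp 276 tt_c4_K) [g820] [g792] 0 0 0 0 0 :=
  BT.sound ct_nc39_21_cnt_P Known.nil (t := ct_nc39_21_cnt_t) (d := 0) (by decide +kernel)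

theorem ct_nc39_21 : ¬ CjIn (grp 276 tt_c4_K) (Net.toPerm 276 g820) (Net.toPerm 276 g792) :=
  not_cjIn ct_nc39_21_cnt

noncomputable def ct_nc39_24_cnt_L : List ℕ := [0, 15, TC_s0_O, 0, 0]

theorem ct_nc39_24_cnt_P : Prob 276 9 (grp 276 tt_c4_K) ct_nc39_24_cnt_EG [g820] [g799] ct_c24_K ct_nc39_24_cnt_L 0 0 :=
  Sym.prob hn hk ct_c24_sym ct_nc39_24_cnt_EG_ok (grp_nil_le _) (Frames.cons TC_s0_F Frames.nil) (okE_cons.2 ⟨g820_ok, okE_nil _⟩) _

noncomputable def ct_nc39_24_cnt_t : BT := (BT.frm (nat_lit 0) (nat_lit 0) (nat_lit 0) [] (BT.pln (nat_lit 0) (nat_lit 2) (BT.fix (nat_lit 257) (BT.and (nat_lit 1) (nat_lit 0) (BT.cnt (nat_lit 0))))))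

theorem ct_nc39_24_cnt : Cnt 276 (grp 276 tt_c4_K) [g820] [g799] 0 0 0 0 0 :=
  BT.sound ct_nc39_24_cnt_P Known.nil (t := ct_nc39_24_cnt_t) (d := 0) (by decide +kernel)

theorem ct_nc39_24 : ¬ CjIn (grp 276 tt_c4_K) (Net.toPerm 276 g820) (Net.toPerm 276 g799) :=
  not_cjIn ct_nc39_24_cnt

noncomputable def ct_nc39_25_cnt_L : List ℕ := [0, 15, TC_s0_O, 0, 0]

theorem ct_nc39_25_cnt_P : Prob 276 9 (grp 276 tt_c4_K) ct_nc39_25_cnt_EG [g820] [g735] ct_c25_K ct_nc39_25_cnt_L 0 0 :=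
  Sym.prob hn hk ct_c25_sym ct_nc39_25_cnt_EG_ok (grp_nil_le _) (Frames.cons TC_s0_F Frames.nil) (okE_cons.2 ⟨g820_ok, okE_nil _⟩) _

noncomputable def ct_nc39_25_cnt_t : BT := (BT.frm (nat_lit 0) (nat_lit 0) (nat_lit 0) [] (BT.pln (nat_lit 0) (nat_lit 2) (BT.fix (nat_lit 257) (BT.and (nat_lit 1) (nat_lit 0) (BT.cnt (nat_lit 0))))))

theorem ct_nc39_25_cnt : Cnt 276 (grp 276 tt_c4_K) [g820] [g735] 0 0 0 0 0 :=
  BT.sound ct_nc39_25_cnt_P Known.nil (t := ct_nc39_25_cnt_t) (d := 0) (by decide +kernel)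

theorem ct_nc39_25 : ¬ CjIn (grp 276 tt_c4_K) (Net.toPerm 276 g820) (Net.toPerm 276 g735) :=
  not_cjIn ct_nc39_25_cnt

noncomputable def ct_nc39_26_cnt_L : List ℕ := [0, 15, TC_s0_O, 0, 0]

theorem ct_nc39_26_cnt_P : Prob 276 9 (grp 276 tt_c4_K) ct_nc39_26_cnt_EG [g820] [g795] ct_c26_K ct_nc39_26_cnt_L 0 0 :=
  Sym.prob hn hk ct_c26_sym ct_nc39_26_cnt_EG_ok (grp_nil_le _) (Frames.cons TC_s0_F Frames.nil) (okE_cons.2 ⟨g820_ok, okE_nil _⟩) _

noncomputable def ct_nc39_26_cnt_t : BT := (BT.frm (nat_lit 0) (nat_lit 0) (nat_lit 0) [] (BT.pln (nat_lit 0) (nat_lit 0) (BT.fix (nat_lit 257) (BT.and (nat_lit 1) (nat_lit 0) (BT.cnt (nat_lit 0))))))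

theorem ct_nc39_26_cnt : Cnt 276 (grp 276 tt_c4_K) [g820] [g795] 0 0 0 0 0 :=
  BT.sound ct_nc39_26_cnt_P Known.nil (t := ct_nc39_26_cnt_t) (d := 0) (by decide +kernel)

theorem ct_nc39_26 : ¬ CjIn (grp 276 tt_c4_K) (Net.toPerm 276 g820) (Net.toPerm 276 g795) :=
  not_cjIn ct_nc39_26_cnt

noncomputable def ct_nc39_27_cnt_L : List ℕ := [0, 15, TC_s0_O, 0, 0]

theorem ct_nc39_27_cnt_P : Prob 276 9 (grp 276 tt_c4_K) ct_nc39_27_cnt_EG [g820] [g524] ct_c27_K ct_nc39_27_cnt_L 0 0 :=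
  Sym.prob hn hk ct_c27_sym ct_nc39_27_cnt_EG_ok (grp_nil_le _) (Frames.cons TC_s0_F Frames.nil) (okE_cons.2 ⟨g820_ok, okE_nil _⟩) _

noncomputable def ct_nc39_27_cnt_t : BT := (BT.frm (nat_lit 0) (nat_lit 0) (nat_lit 0) [] (BT.pln (nat_lit 0) (nat_lit 1) (BT.fix (nat_lit 257) (BT.and (nat_lit 1) (nat_lit 0) (BT.cnt (nat_lit 0))))))

theorem ct_nc39_27_cnt : Cnt 276 (grp 276 tt_c4_K) [g820] [g524] 0 0 0 0 0 :=
  BT.sound ct_nc39_27_cnt_P Known.nil (t := ct_nc39_27_cnt_t) (d := 0) (by decide +kernel)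

theorem ct_nc39_27 : ¬ CjIn (grp 276 tt_c4_K) (Net.toPerm 276 g820) (Net.toPerm 276 g524) :=
  not_cjIn ct_nc39_27_cnt

noncomputable def ct_nc39_28_cnt_L : List ℕ := [0, 15, TC_s0_O, 0, 0]

theorem ct_nc39_28_cnt_P : Prob 276 9 (grp 276 tt_c4_K) ct_nc39_28_cnt_EG [g820] [g804] ct_c28_K ct_nc39_28_cnt_L 0 0 :=
  Sym.prob hn hk ct_c28_sym ct_nc39_28_cnt_EG_ok (grp_nil_le _) (Frames.cons TC_s0_F Frames.nil) (okE_cons.2 ⟨g820_ok, okE_nil _⟩) _

noncomputable def ct_nc39_28_cnt_t : BT := (BT.frm (nat_lit 0) (nat_lit 0) (nat_lit 0) [] (BT.pln (nat_lit 0) (nat_lit 2) (BT.fix (nat_lit 257) (BT.and (nat_lit 1) (nat_lit 0) (BT.cnt (nat_lit 0))))))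

theorem ct_nc39_28_cnt : Cnt 276 (grp 276 tt_c4_K) [g820] [g804] 0 0 0 0 0 :=
  BT.sound ct_nc39_28_cnt_P Known.nil (t := ct_nc39_28_cnt_t) (d := 0) (by decide +kernel)

theorem ct_nc39_28 : ¬ CjIn (grp 276 tt_c4_K) (Net.toPerm 276 g820) (Net.toPerm 276 g804) :=
  not_cjIn ct_nc39_28_cnt

noncomputable def ct_nc39_29_cnt_L : List ℕ := [0, 15, TC_s0_O, 0, 0]

theorem ct_nc39_29_cnt_P : Prob 276 9 (grp 276 tt_c4_K) ct_nc39_29_cnt_EG [g820] [g546] ct_c29_K ct_nc39_29_cnt_L 0 0 :=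
  Sym.prob hn hk ct_c29_sym ct_nc39_29_cnt_EG_ok (grp_nil_le _) (Frames.cons TC_s0_F Frames.nil) (okE_cons.2 ⟨g820_ok, okE_nil _⟩) _

noncomputable def ct_nc39_29_cnt_t : BT := (BT.frm (nat_lit 0) (nat_lit 0) (nat_lit 0) [] (BT.pln (nat_lit 0) (nat_lit 2) (BT.fix (nat_lit 257) (BT.and (nat_lit 1) (nat_lit 0) (BT.cnt (nat_lit 0))))))

theorem ct_nc39_29_cnt : Cnt 276 (grp 276 tt_c4_K) [g820] [g546] 0 0 0 0 0 :=
  BT.sound ct_nc39_29_cnt_P Known.nil (t := ct_nc39_29_cnt_t) (d := 0) (by decide +kernel)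

theorem ct_nc39_29 : ¬ CjIn (grp 276 tt_c4_K) (Net.toPerm 276 g820) (Net.toPerm 276 g546) :=
  not_cjIn ct_nc39_29_cnt

noncomputable def ct_nc39_31_cnt_L : List ℕ := [0, 15, TC_s0_O, 0, 0]

theorem ct_nc39_31_cnt_P : Prob 276 9 (grp 276 tt_c4_K) ct_nc39_31_cnt_EG [g820] [g698] ct_c31_K ct_nc39_31_cnt_L 0 0 :=
  Sym.prob hn hk ct_c31_sym ct_nc39_31_cnt_EG_ok (grp_nil_le _) (Frames.cons TC_s0_F Frames.nil) (okE_cons.2 ⟨g820_ok, okE_nil _⟩) _

noncomputable def ct_nc39_31_cnt_t : BT := (BT.frm (nat_lit 0) (nat_lit 0) (nat_lit 0) [] (BT.pln (nat_lit 0) (nat_lit 2) (BT.fix (nat_lit 257) (BT.and (nat_lit 1) (nat_lit 0) (BT.cnt (nat_lit 0))))))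

theorem ct_nc39_31_cnt : Cnt 276 (grp 276 tt_c4_K) [g820] [g698] 0 0 0 0 0 :=
  BT.sound ct_nc39_31_cnt_P Known.nil (t := ct_nc39_31_cnt_t) (d := 0) (by decide +kernel)

theorem ct_nc39_31 : ¬ CjIn (grp 276 tt_c4_K) (Net.toPerm 276 g820) (Net.toPerm 276 g698) :=
  not_cjIn ct_nc39_31_cnt

noncomputable def ct_nc39_32_cnt_L : List ℕ := [0, 15, TC_s0_O, 0, 0]

theorem ct_nc39_32_cnt_P : Prob 276 9 (grp 276 tt_c4_K) ct_nc39_32_cnt_EG [g820] [g545] ct_c32_K ct_nc39_32_cnt_L 0 0 :=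
  Sym.prob hn hk ct_c32_sym ct_nc39_32_cnt_EG_ok (grp_nil_le _) (Frames.cons TC_s0_F Frames.nil) (okE_cons.2 ⟨g820_ok, okE_nil _⟩) _

noncomputable def ct_nc39_32_cnt_t : BT := (BT.frm (nat_lit 0) (nat_lit 0) (nat_lit 0) [] (BT.pln (nat_lit 0) (nat_lit 12) (BT.fix (nat_lit 1) (BT.and (nat_lit 1) (nat_lit 0) (BT.cnt (nat_lit 0))))))

theorem ct_nc39_32_cnt : Cnt 276 (grp 276 tt_c4_K) [g820] [g545] 0 0 0 0 0 :=
  BT.sound ct_nc39_32_cnt_P Known.nil (t := ct_nc39_32_cnt_t) (d := 0) (by decide +kernel)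

theorem ct_nc39_32 : ¬ CjIn (grp 276 tt_c4_K) (Net.toPerm 276 g820) (Net.toPerm 276 g545) :=
  not_cjIn ct_nc39_32_cnt

noncomputable def ct_nc39_34_cnt_L : List ℕ := [0, 15, TC_s0_O, 0, 0]

theorem ct_nc39_34_cnt_P : Prob 276 9 (grp 276 tt_c4_K) ct_nc39_34_cnt_EG [g820] [g444] ct_c34_K ct_nc39_34_cnt_L 0 0 :=
  Sym.prob hn hk ct_c34_sym ct_nc39_34_cnt_EG_ok (grp_nil_le _) (Frames.cons TC_s0_F Frames.nil) (okE_cons.2 ⟨g820_ok, okE_nil _⟩) _

noncomputable def ct_nc39_34_cnt_t : BT := (BT.frm (nat_lit 0) (nat_lit 0) (nat_lit 0) [] (BT.pln (nat_lit 0) (nat_lit 2) (BT.fix (nat_lit 257) (BT.and (nat_lit 1) (nat_lit 0) (BT.cnt (nat_lit 0))))))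

theorem ct_nc39_34_cnt : Cnt 276 (grp 276 tt_c4_K) [g820] [g444] 0 0 0 0 0 :=
  BT.sound ct_nc39_34_cnt_P Known.nil (t := ct_nc39_34_cnt_t) (d := 0) (by decide +kernel)

theorem ct_nc39_34 : ¬ CjIn (grp 276 tt_c4_K) (Net.toPerm 276 g820) (Net.toPerm 276 g444) :=
  not_cjIn ct_nc39_34_cnt

noncomputable def ct_nc39_35_cnt_L : List ℕ := [0, 15, TC_s0_O, 0, 0]

theorem ct_nc39_35_cnt_P : Prob 276 9 (grp 276 tt_c4_K) ct_nc39_35_cnt_EG [g820] [g526] ct_c35_K ct_nc39_35_cnt_L 0 0 :=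
  Sym.prob hn hk ct_c35_sym ct_nc39_35_cnt_EG_ok (grp_nil_le _) (Frames.cons TC_s0_F Frames.nil) (okE_cons.2 ⟨g820_ok, okE_nil _⟩) _

noncomputable def ct_nc39_35_cnt_t : BT := (BT.frm (nat_lit 0) (nat_lit 0) (nat_lit 0) [] (BT.pln (nat_lit 0) (nat_lit 2) (BT.fix (nat_lit 257) (BT.and (nat_lit 1) (nat_lit 0) (BT.cnt (nat_lit 0))))))

theorem ct_nc39_35_cnt : Cnt 276 (grp 276 tt_c4_K) [g820] [g526] 0 0 0 0 0 :=
  BT.sound ct_nc39_35_cnt_P Known.nil (t := ct_nc39_35_cnt_t) (d := 0) (by decide +kernel)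

theorem ct_nc39_35 : ¬ CjIn (grp 276 tt_c4_K) (Net.toPerm 276 g820) (Net.toPerm 276 g526) :=
  not_cjIn ct_nc39_35_cnt

noncomputable def ct_nc39_36_cnt_L : List ℕ := [0, 15, TC_s0_O, 0, 0]

theorem ct_nc39_36_cnt_P : Prob 276 9 (grp 276 tt_c4_K) ct_nc39_36_cnt_EG [g820] [g733] ct_c36_K ct_nc39_36_cnt_L 0 0 :=
  Sym.prob hn hk ct_c36_sym ct_nc39_36_cnt_EG_ok (grp_nil_le _) (Frames.cons TC_s0_F Frames.nil) (okE_cons.2 ⟨g820_ok, okE_nil _⟩) _

noncomputable def ct_nc39_36_cnt_t : BT := (BT.frm (nat_lit 0) (nat_lit 0) (nat_lit 0) [] (BT.pln (nat_lit 0) (nat_lit 1) (BT.fix (nat_lit 257) (BT.and (nat_lit 1) (nat_lit 0) (BT.cnt (nat_lit 0))))))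

theorem ct_nc39_36_cnt : Cnt 276 (grp 276 tt_c4_K) [g820] [g733] 0 0 0 0 0 :=
  BT.sound ct_nc39_36_cnt_P Known.nil (t := ct_nc39_36_cnt_t) (d := 0) (by decide +kernel)

theorem ct_nc39_36 : ¬ CjIn (grp 276 tt_c4_K) (Net.toPerm 276 g820) (Net.toPerm 276 g733) :=
  not_cjIn ct_nc39_36_cnt

noncomputable def ct_nc39_38_cnt_L : List ℕ := [0, 15, TC_s0_O, 0, 0]

theorem ct_nc39_38_cnt_P : Prob 276 9 (grp 276 tt_c4_K) ct_nc39_38_cnt_EG [g820] [g811] ct_c38_K ct_nc39_38_cnt_L 0 0 :=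
  Sym.prob hn hk ct_c38_sym ct_nc39_38_cnt_EG_ok (grp_nil_le _) (Frames.cons TC_s0_F Frames.nil) (okE_cons.2 ⟨g820_ok, okE_nil _⟩) _

noncomputable def ct_nc39_38_cnt_t : BT := (BT.frm (nat_lit 0) (nat_lit 0) (nat_lit 0) [] (BT.pln (nat_lit 0) (nat_lit 0) (BT.fix (nat_lit 257) (BT.and (nat_lit 1) (nat_lit 0) (BT.cnt (nat_lit 0))))))

theorem ct_nc39_38_cnt : Cnt 276 (grp 276 tt_c4_K) [g820] [g811] 0 0 0 0 0 :=
  BT.sound ct_nc39_38_cnt_P Known.nil (t := ct_nc39_38_cnt_t) (d := 0) (by decide +kernel)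

theorem ct_nc39_38 : ¬ CjIn (grp 276 tt_c4_K) (Net.toPerm 276 g820) (Net.toPerm 276 g811) :=
  not_cjIn ct_nc39_38_cnt

noncomputable def ct_nc40_16_cnt_L : List ℕ := [0, 15, TC_s0_O, 0, 0]

theorem ct_nc40_16_cnt_P : Prob 276 9 (grp 276 tt_c4_K) ct_nc40_16_cnt_EG [g822] [g705] ct_c16_K ct_nc40_16_cnt_L 0 0 :=
  Sym.prob hn hk ct_c16_sym ct_nc40_16_cnt_EG_ok (grp_nil_le _) (Frames.cons TC_s0_F Frames.nil) (okE_cons.2 ⟨g822_ok, okE_nil _⟩) _

noncomputable def ct_nc40_16_cnt_t : BT := (BT.frm (nat_lit 0) (nat_lit 0) (nat_lit 0) [] (BT.pln (nat_lit 0) (nat_lit 2) (BT.fix (nat_lit 257) (BT.and (nat_lit 1) (nat_lit 0) (BT.cnt (nat_lit 0))))))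

theorem ct_nc40_16_cnt : Cnt 276 (grp 276 tt_c4_K) [g822] [g705] 0 0 0 0 0 :=
  BT.sound ct_nc40_16_cnt_P Known.nil (t := ct_nc40_16_cnt_t) (d := 0) (by decide +kernel)

theorem ct_nc40_16 : ¬ CjIn (grp 276 tt_c4_K) (Net.toPerm 276 g822) (Net.toPerm 276 g705) :=
  not_cjIn ct_nc40_16_cnt

noncomputable def ct_nc40_17_cnt_L : List ℕ := [0, 15, TC_s0_O, 0, 0]

theorem ct_nc40_17_cnt_P : Prob 276 9 (grp 276 tt_c4_K) ct_nc40_17_cnt_EG [g822] [g127] ct_c17_K ct_nc40_17_cnt_L 0 0 :=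
  Sym.prob hn hk ct_c17_sym ct_nc40_17_cnt_EG_ok (grp_nil_le _) (Frames.cons TC_s0_F Frames.nil) (okE_cons.2 ⟨g822_ok, okE_nil _⟩) _

noncomputable def ct_nc40_17_cnt_t : BT := (BT.frm (nat_lit 0) (nat_lit 0) (nat_lit 0) [] (BT.pln (nat_lit 0) (nat_lit 2) (BT.fix (nat_lit 257) (BT.and (nat_lit 1) (nat_lit 0) (BT.cnt (nat_lit 0))))))

theorem ct_nc40_17_cnt : Cnt 276 (grp 276 tt_c4_K) [g822] [g127] 0 0 0 0 0 :=
  BT.sound ct_nc40_17_cnt_P Known.nil (t := ct_nc40_17_cnt_t) (d := 0) (by decide +kernel)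

theorem ct_nc40_17 : ¬ CjIn (grp 276 tt_c4_K) (Net.toPerm 276 g822) (Net.toPerm 276 g127) :=
  not_cjIn ct_nc40_17_cnt

noncomputable def ct_nc40_19_cnt_L : List ℕ := [0, 15, TC_s0_O, 0, 0]

theorem ct_nc40_19_cnt_P : Prob 276 9 (grp 276 tt_c4_K) ct_nc40_19_cnt_EG [g822] [g717] ct_c19_K ct_nc40_19_cnt_L 0 0 :=
  Sym.prob hn hk ct_c19_sym ct_nc40_19_cnt_EG_ok (grp_nil_le _) (Frames.cons TC_s0_F Frames.nil) (okE_cons.2 ⟨g822_ok, okE_nil _⟩) _

noncomputable def ct_nc40_19_cnt_t : BT := (BT.frm (nat_lit 0) (nat_lit 0) (nat_lit 0) [] (BT.pln (nat_lit 0) (nat_lit 2) (BT.fix (nat_lit 257) (BT.and (nat_lit 1) (nat_lit 0) (BT.cnt (nat_lit 0))))))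

theorem ct_nc40_19_cnt : Cnt 276 (grp 276 tt_c4_K) [g822] [g717] 0 0 0 0 0 :=
  BT.sound ct_nc40_19_cnt_P Known.nil (t := ct_nc40_19_cnt_t) (d := 0) (by decide +kernel)

theorem ct_nc40_19 : ¬ CjIn (grp 276 tt_c4_K) (Net.toPerm 276 g822) (Net.toPerm 276 g717) :=
  not_cjIn ct_nc40_19_cnt

noncomputable def ct_nc40_20_cnt_L : List ℕ := [0, 15, TC_s0_O, 0, 0]

theorem ct_nc40_20_cnt_P : Prob 276 9 (grp 276 tt_c4_K) ct_nc40_20_cnt_EG [g822] [g790] ct_c20_K ct_nc40_20_cnt_L 0 0 :=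
  Sym.prob hn hk ct_c20_sym ct_nc40_20_cnt_EG_ok (grp_nil_le _) (Frames.cons TC_s0_F Frames.nil) (okE_cons.2 ⟨g822_ok, okE_nil _⟩) _

noncomputable def ct_nc40_20_cnt_t : BT := (BT.frm (nat_lit 0) (nat_lit 0) (nat_lit 0) [] (BT.pln (nat_lit 0) (nat_lit 0) (BT.fix (nat_lit 257) (BT.and (nat_lit 1) (nat_lit 0) (BT.cnt (nat_lit 0))))))

theorem ct_nc40_20_cnt : Cnt 276 (grp 276 tt_c4_K) [g822] [g790] 0 0 0 0 0 :=
  BT.sound ct_nc40_20_cnt_P Known.nil (t := ct_nc40_20_cnt_t) (d := 0) (by decide +kernel)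

theorem ct_nc40_20 : ¬ CjIn (grp 276 tt_c4_K) (Net.toPerm 276 g822) (Net.toPerm 276 g790) :=
  not_cjIn ct_nc40_20_cnt

noncomputable def ct_nc40_21_cnt_L : List ℕ := [0, 15, TC_s0_O, 0, 0]

theorem ct_nc40_21_cnt_P : Prob 276 9 (grp 276 tt_c4_K) ct_nc40_21_cnt_EG [g822] [g792] ct_c21_K ct_nc40_21_cnt_L 0 0 :=
  Sym.prob hn hk ct_c21_sym ct_nc40_21_cnt_EG_ok (grp_nil_le _) (Frames.cons TC_s0_F Frames.nil) (okE_cons.2 ⟨g822_ok, okE_nil _⟩) _

noncomputable def ct_nc40_21_cnt_t : BT := (BT.frm (nat_lit 0) (nat_lit 0) (nat_lit 0) [] (BT.pln (nat_lit 0) (nat_lit 1) (BT.fix (nat_lit 257) (BT.and (nat_lit 1) (nat_lit 0) (BT.cnt (nat_lit 0))))))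

theorem ct_nc40_21_cnt : Cnt 276 (grp 276 tt_c4_K) [g822] [g792] 0 0 0 0 0 :=
  BT.sound ct_nc40_21_cnt_P Known.nil (t := ct_nc40_21_cnt_t) (d := 0) (by decide +kernel)

theorem ct_nc40_21 : ¬ CjIn (grp 276 tt_c4_K) (Net.toPerm 276 g822) (Net.toPerm 276 g792) :=
  not_cjIn ct_nc40_21_cnt

noncomputable def ct_nc40_24_cnt_L : List ℕ := [0, 15, TC_s0_O, 0, 0]

theorem ct_nc40_24_cnt_P : Prob 276 9 (grp 276 tt_c4_K) ct_nc40_24_cnt_EG [g822] [g799] ct_c24_K ct_nc40_24_cnt_L 0 0 :=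
  Sym.prob hn hk ct_c24_sym ct_nc40_24_cnt_EG_ok (grp_nil_le _) (Frames.cons TC_s0_F Frames.nil) (okE_cons.2 ⟨g822_ok, okE_nil _⟩) _

noncomputable def ct_nc40_24_cnt_t : BT := (BT.frm (nat_lit 0) (nat_lit 0) (nat_lit 0) [] (BT.pln (nat_lit 0) (nat_lit 2) (BT.fix (nat_lit 257) (BT.and (nat_lit 1) (nat_lit 0) (BT.cnt (nat_lit 0))))))

theorem ct_nc40_24_cnt : Cnt 276 (grp 276 tt_c4_K) [g822] [g799] 0 0 0 0 0 :=
  BT.sound ct_nc40_24_cnt_P Known.nil (t := ct_nc40_24_cnt_t) (d := 0) (by decide +kernel)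

theorem ct_nc40_24 : ¬ CjIn (grp 276 tt_c4_K) (Net.toPerm 276 g822) (Net.toPerm 276 g799) :=
  not_cjIn ct_nc40_24_cnt

noncomputable def ct_nc40_25_cnt_L : List ℕ := [0, 15, TC_s0_O, 0, 0]

theorem ct_nc40_25_cnt_P : Prob 276 9 (grp 276 tt_c4_K) ct_nc40_25_cnt_EG [g822] [g735] ct_c25_K ct_nc40_25_cnt_L 0 0 :=
  Sym.prob hn hk ct_c25_sym ct_nc40_25_cnt_EG_ok (grp_nil_le _) (Frames.cons TC_s0_F Frames.nil) (okE_cons.2 ⟨g822_ok, okE_nil _⟩) _

noncomputable def ct_nc40_25_cnt_t : BT := (BT.frm (nat_lit 0) (nat_lit 0) (nat_lit 0) [] (BT.pln (nat_lit 0) (nat_lit 2) (BT.fix (nat_lit 257) (BT.and (nat_lit 1) (nat_lit 0) (BT.cnt (nat_lit 0))))))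

theorem ct_nc40_25_cnt : Cnt 276 (grp 276 tt_c4_K) [g822] [g735] 0 0 0 0 0 :=
  BT.sound ct_nc40_25_cnt_P Known.nil (t := ct_nc40_25_cnt_t) (d := 0) (by decide +kernel)

theorem ct_nc40_25 : ¬ CjIn (grp 276 tt_c4_K) (Net.toPerm 276 g822) (Net.toPerm 276 g735) :=
  not_cjIn ct_nc40_25_cnt

noncomputable def ct_nc40_26_cnt_L : List ℕ := [0, 15, TC_s0_O, 0, 0]

theorem ct_nc40_26_cnt_P : Prob 276 9 (grp 276 tt_c4_K) ct_nc40_26_cnt_EG [g822] [g795] ct_c26_K ct_nc40_26_cnt_L 0 0 :=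
  Sym.prob hn hk ct_c26_sym ct_nc40_26_cnt_EG_ok (grp_nil_le _) (Frames.cons TC_s0_F Frames.nil) (okE_cons.2 ⟨g822_ok, okE_nil _⟩) _

noncomputable def ct_nc40_26_cnt_t : BT := (BT.frm (nat_lit 0) (nat_lit 0) (nat_lit 0) [] (BT.pln (nat_lit 0) (nat_lit 0) (BT.fix (nat_lit 257) (BT.and (nat_lit 1) (nat_lit 0) (BT.cnt (nat_lit 0))))))

theorem ct_nc40_26_cnt : Cnt 276 (grp 276 tt_c4_K) [g822] [g795] 0 0 0 0 0 :=
  BT.sound ct_nc40_26_cnt_P Known.nil (t := ct_nc40_26_cnt_t) (d := 0) (by decide +kernel)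

theorem ct_nc40_26 : ¬ CjIn (grp 276 tt_c4_K) (Net.toPerm 276 g822) (Net.toPerm 276 g795) :=
  not_cjIn ct_nc40_26_cnt

noncomputable def ct_nc40_27_cnt_L : List ℕ := [0, 15, TC_s0_O, 0, 0]

theorem ct_nc40_27_cnt_P : Prob 276 9 (grp 276 tt_c4_K) ct_nc40_27_cnt_EG [g822] [g524] ct_c27_K ct_nc40_27_cnt_L 0 0 :=
  Sym.prob hn hk ct_c27_sym ct_nc40_27_cnt_EG_ok (grp_nil_le _) (Frames.cons TC_s0_F Frames.nil) (okE_cons.2 ⟨g822_ok, okE_nil _⟩) _

noncomputable def ct_nc40_27_cnt_t : BT := (BT.frm (nat_lit 0) (nat_lit 0) (nat_lit 0) [] (BT.pln (nat_lit 0) (nat_lit 1) (BT.fix (nat_lit 257) (BT.and (nat_lit 1) (nat_lit 0) (BT.cnt (nat_lit 0))))))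

theorem ct_nc40_27_cnt : Cnt 276 (grp 276 tt_c4_K) [g822] [g524] 0 0 0 0 0 :=
  BT.sound ct_nc40_27_cnt_P Known.nil (t := ct_nc40_27_cnt_t) (d := 0) (by decide +kernel)

theorem ct_nc40_27 : ¬ CjIn (grp 276 tt_c4_K) (Net.toPerm 276 g822) (Net.toPerm 276 g524) :=
  not_cjIn ct_nc40_27_cnt

noncomputable def ct_nc40_28_cnt_L : List ℕ := [0, 15, TC_s0_O, 0, 0]

theorem ct_nc40_28_cnt_P : Prob 276 9 (grp 276 tt_c4_K) ct_nc40_28_cnt_EG [g822] [g804] ct_c28_K ct_nc40_28_cnt_L 0 0 :=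
  Sym.prob hn hk ct_c28_sym ct_nc40_28_cnt_EG_ok (grp_nil_le _) (Frames.cons TC_s0_F Frames.nil) (okE_cons.2 ⟨g822_ok, okE_nil _⟩) _

noncomputable def ct_nc40_28_cnt_t : BT := (BT.frm (nat_lit 0) (nat_lit 0) (nat_lit 0) [] (BT.pln (nat_lit 0) (nat_lit 2) (BT.fix (nat_lit 257) (BT.and (nat_lit 1) (nat_lit 0) (BT.cnt (nat_lit 0))))))

theorem ct_nc40_28_cnt : Cnt 276 (grp 276 tt_c4_K) [g822] [g804] 0 0 0 0 0 :=
  BT.sound ct_nc40_28_cnt_P Known.nil (t := ct_nc40_28_cnt_t) (d := 0) (by decide +kernel)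

theorem ct_nc40_28 : ¬ CjIn (grp 276 tt_c4_K) (Net.toPerm 276 g822) (Net.toPerm 276 g804) :=
  not_cjIn ct_nc40_28_cnt

noncomputable def ct_nc40_29_cnt_L : List ℕ := [0, 15, TC_s0_O, 0, 0]

theorem ct_nc40_29_cnt_P : Prob 276 9 (grp 276 tt_c4_K) ct_nc40_29_cnt_EG [g822] [g546] ct_c29_K ct_nc40_29_cnt_L 0 0 :=
  Sym.prob hn hk ct_c29_sym ct_nc40_29_cnt_EG_ok (grp_nil_le _) (Frames.cons TC_s0_F Frames.nil) (okE_cons.2 ⟨g822_ok, okE_nil _⟩) _

noncomputable def ct_nc40_29_cnt_t : BT := (BT.frm (nat_lit 0) (nat_lit 0) (nat_lit 0) [] (BT.pln (nat_lit 0) (nat_lit 2) (BT.fix (nat_lit 257) (BT.and (nat_lit 1) (nat_lit 0) (BT.cnt (nat_lit 0))))))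

theorem ct_nc40_29_cnt : Cnt 276 (grp 276 tt_c4_K) [g822] [g546] 0 0 0 0 0 :=
  BT.sound ct_nc40_29_cnt_P Known.nil (t := ct_nc40_29_cnt_t) (d := 0) (by decide +kernel)

theorem ct_nc40_29 : ¬ CjIn (grp 276 tt_c4_K) (Net.toPerm 276 g822) (Net.toPerm 276 g546) :=
  not_cjIn ct_nc40_29_cnt

noncomputable def ct_nc40_31_cnt_L : List ℕ := [0, 15, TC_s0_O, 0, 0]

theorem ct_nc40_31_cnt_P : Prob 276 9 (grp 276 tt_c4_K) ct_nc40_31_cnt_EG [g822] [g698] ct_c31_K ct_nc40_31_cnt_L 0 0 :=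
  Sym.prob hn hk ct_c31_sym ct_nc40_31_cnt_EG_ok (grp_nil_le _) (Frames.cons TC_s0_F Frames.nil) (okE_cons.2 ⟨g822_ok, okE_nil _⟩) _

noncomputable def ct_nc40_31_cnt_t : BT := (BT.frm (nat_lit 0) (nat_lit 0) (nat_lit 0) [] (BT.pln (nat_lit 0) (nat_lit 2) (BT.fix (nat_lit 257) (BT.and (nat_lit 1) (nat_lit 0) (BT.cnt (nat_lit 0))))))

theorem ct_nc40_31_cnt : Cnt 276 (grp 276 tt_c4_K) [g822] [g698] 0 0 0 0 0 :=
  BT.sound ct_nc40_31_cnt_P Known.nil (t := ct_nc40_31_cnt_t) (d := 0) (by decide +kernel)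

theorem ct_nc40_31 : ¬ CjIn (grp 276 tt_c4_K) (Net.toPerm 276 g822) (Net.toPerm 276 g698) :=
  not_cjIn ct_nc40_31_cnt

noncomputable def ct_nc40_32_cnt_L : List ℕ := [0, 15, TC_s0_O, 0, 0]

theorem ct_nc40_32_cnt_P : Prob 276 9 (grp 276 tt_c4_K) ct_nc40_32_cnt_EG [g822] [g545] ct_c32_K ct_nc40_32_cnt_L 0 0 :=
  Sym.prob hn hk ct_c32_sym ct_nc40_32_cnt_EG_ok (grp_nil_le _) (Frames.cons TC_s0_F Frames.nil) (okE_cons.2 ⟨g822_ok, okE_nil _⟩) _

noncomputable def ct_nc40_32_cnt_t : BT := (BT.frm (nat_lit 0) (nat_lit 0) (nat_lit 0) [] (BT.pln (nat_lit 0) (nat_lit 10) (BT.fix (nat_lit 1) (BT.and (nat_lit 1) (nat_lit 0) (BT.cnt (nat_lit 0))))))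

theorem ct_nc40_32_cnt : Cnt 276 (grp 276 tt_c4_K) [g822] [g545] 0 0 0 0 0 :=
  BT.sound ct_nc40_32_cnt_P Known.nil (t := ct_nc40_32_cnt_t) (d := 0) (by decide +kernel)

theorem ct_nc40_32 : ¬ CjIn (grp 276 tt_c4_K) (Net.toPerm 276 g822) (Net.toPerm 276 g545) :=
  not_cjIn ct_nc40_32_cnt

noncomputable def ct_nc40_34_cnt_L : List ℕ := [0, 15, TC_s0_O, 0, 0]

theorem ct_nc40_34_cnt_P : Prob 276 9 (grp 276 tt_c4_K) ct_nc40_34_cnt_EG [g822] [g444] ct_c34_K ct_nc40_34_cnt_L 0 0 :=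
  Sym.prob hn hk ct_c34_sym ct_nc40_34_cnt_EG_ok (grp_nil_le _) (Frames.cons TC_s0_F Frames.nil) (okE_cons.2 ⟨g822_ok, okE_nil _⟩) _

noncomputable def ct_nc40_34_cnt_t : BT := (BT.frm (nat_lit 0) (nat_lit 0) (nat_lit 0) [] (BT.pln (nat_lit 0) (nat_lit 2) (BT.fix (nat_lit 257) (BT.and (nat_lit 1) (nat_lit 0) (BT.cnt (nat_lit 0))))))

theorem ct_nc40_34_cnt : Cnt 276 (grp 276 tt_c4_K) [g822] [g444] 0 0 0 0 0 :=
  BT.sound ct_nc40_34_cnt_P Known.nil (t := ct_nc40_34_cnt_t) (d := 0) (by decide +kernel)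

theorem ct_nc40_34 : ¬ CjIn (grp 276 tt_c4_K) (Net.toPerm 276 g822) (Net.toPerm 276 g444) :=
  not_cjIn ct_nc40_34_cnt

noncomputable def ct_nc40_35_cnt_L : List ℕ := [0, 15, TC_s0_O, 0, 0]

theorem ct_nc40_35_cnt_P : Prob 276 9 (grp 276 tt_c4_K) ct_nc40_35_cnt_EG [g822] [g526] ct_c35_K ct_nc40_35_cnt_L 0 0 :=
  Sym.prob hn hk ct_c35_sym ct_nc40_35_cnt_EG_ok (grp_nil_le _) (Frames.cons TC_s0_F Frames.nil) (okE_cons.2 ⟨g822_ok, okE_nil _⟩) _

noncomputable def ct_nc40_35_cnt_t : BT := (BT.frm (nat_lit 0) (nat_lit 0) (nat_lit 0) [] (BT.pln (nat_lit 0) (nat_lit 2) (BT.fix (nat_lit 257) (BT.and (nat_lit 1) (nat_lit 0) (BT.cnt (nat_lit 0))))))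

theorem ct_nc40_35_cnt : Cnt 276 (grp 276 tt_c4_K) [g822] [g526] 0 0 0 0 0 :=
  BT.sound ct_nc40_35_cnt_P Known.nil (t := ct_nc40_35_cnt_t) (d := 0) (by decide +kernel)

theorem ct_nc40_35 : ¬ CjIn (grp 276 tt_c4_K) (Net.toPerm 276 g822) (Net.toPerm 276 g526) :=
  not_cjIn ct_nc40_35_cnt

noncomputable def ct_nc40_36_cnt_L : List ℕ := [0, 15, TC_s0_O, 0, 0]

theorem ct_nc40_36_cnt_P : Prob 276 9 (grp 276 tt_c4_K) ct_nc40_36_cnt_EG [g822] [g733] ct_c36_K ct_nc40_36_cnt_L 0 0 :=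
  Sym.prob hn hk ct_c36_sym ct_nc40_36_cnt_EG_ok (grp_nil_le _) (Frames.cons TC_s0_F Frames.nil) (okE_cons.2 ⟨g822_ok, okE_nil _⟩) _

noncomputable def ct_nc40_36_cnt_t : BT := (BT.frm (nat_lit 0) (nat_lit 0) (nat_lit 0) [] (BT.pln (nat_lit 0) (nat_lit 1) (BT.fix (nat_lit 257) (BT.and (nat_lit 1) (nat_lit 0) (BT.cnt (nat_lit 0))))))

theorem ct_nc40_36_cnt : Cnt 276 (grp 276 tt_c4_K) [g822] [g733] 0 0 0 0 0 :=
  BT.sound ct_nc40_36_cnt_P Known.nil (t := ct_nc40_36_cnt_t) (d := 0) (by decide +kernel)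

theorem ct_nc40_36 : ¬ CjIn (grp 276 tt_c4_K) (Net.toPerm 276 g822) (Net.toPerm 276 g733) :=
  not_cjIn ct_nc40_36_cnt

noncomputable def ct_nc40_38_cnt_L : List ℕ := [0, 15, TC_s0_O, 0, 0]

theorem ct_nc40_38_cnt_P : Prob 276 9 (grp 276 tt_c4_K) ct_nc40_38_cnt_EG [g822] [g811] ct_c38_K ct_nc40_38_cnt_L 0 0 :=
  Sym.prob hn hk ct_c38_sym ct_nc40_38_cnt_EG_ok (grp_nil_le _) (Frames.cons TC_s0_F Frames.nil) (okE_cons.2 ⟨g822_ok, okE_nil _⟩) _

noncomputable def ct_nc40_38_cnt_t : BT := (BT.frm (nat_lit 0) (nat_lit 0) (nat_lit 0) [] (BT.pln (nat_lit 0) (nat_lit 0) (BT.fix (nat_lit 257) (BT.and (nat_lit 1) (nat_lit 0) (BT.cnt (nat_lit 0))))))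

theorem ct_nc40_38_cnt : Cnt 276 (grp 276 tt_c4_K) [g822] [g811] 0 0 0 0 0 :=
  BT.sound ct_nc40_38_cnt_P Known.nil (t := ct_nc40_38_cnt_t) (d := 0) (by decide +kernel)

theorem ct_nc40_38 : ¬ CjIn (grp 276 tt_c4_K) (Net.toPerm 276 g822) (Net.toPerm 276 g811) :=
  not_cjIn ct_nc40_38_cnt

noncomputable def ct_nc40_39_cnt_L : List ℕ := [0, 15, TC_s0_O, 0, 0]

theorem ct_nc40_39_cnt_P : Prob 276 9 (grp 276 tt_c4_K) ct_nc40_39_cnt_EG [g822] [g820] ct_c39_K ct_nc40_39_cnt_L 0 0 :=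
  Sym.prob hn hk ct_c39_sym ct_nc40_39_cnt_EG_ok (grp_nil_le _) (Frames.cons TC_s0_F Frames.nil) (okE_cons.2 ⟨g822_ok, okE_nil _⟩) _

noncomputable def ct_nc40_39_cnt_t : BT := (BT.frm (nat_lit 0) (nat_lit 0) (nat_lit 0) [] (BT.pln (nat_lit 0) (nat_lit 10) (BT.fix (nat_lit 1) (BT.and (nat_lit 1) (nat_lit 0) (BT.cnt (nat_lit 0))))))

theorem ct_nc40_39_cnt : Cnt 276 (grp 276 tt_c4_K) [g822] [g820] 0 0 0 0 0 :=
  BT.sound ct_nc40_39_cnt_P Known.nil (t := ct_nc40_39_cnt_t) (d := 0) (by decide +kernel)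

theorem ct_nc40_39 : ¬ CjIn (grp 276 tt_c4_K) (Net.toPerm 276 g822) (Net.toPerm 276 g820) :=
  not_cjIn ct_nc40_39_cnt

noncomputable def ct_nc41_16_cnt_L : List ℕ := [0, 15, TC_s0_O, 0, 0]

theorem ct_nc41_16_cnt_P : Prob 276 9 (grp 276 tt_c4_K) ct_nc41_16_cnt_EG [g716] [g705] ct_c16_K ct_nc41_16_cnt_L 0 0 :=
  Sym.prob hn hk ct_c16_sym ct_nc41_16_cnt_EG_ok (grp_nil_le _) (Frames.cons TC_s0_F Frames.nil) (okE_cons.2 ⟨g716_ok, okE_nil _⟩) _

noncomputable def ct_nc41_16_cnt_t : BT := (BT.frm (nat_lit 0) (nat_lit 0) (nat_lit 0) [] (BT.pln (nat_lit 0) (nat_lit 4) (BT.fix (nat_lit 257) (BT.and (nat_lit 1) (nat_lit 0) (BT.cnt (nat_lit 0))))))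

theorem ct_nc41_16_cnt : Cnt 276 (grp 276 tt_c4_K) [g716] [g705] 0 0 0 0 0 :=
  BT.sound ct_nc41_16_cnt_P Known.nil (t := ct_nc41_16_cnt_t) (d := 0) (by decide +kernel)

theorem ct_nc41_16 : ¬ CjIn (grp 276 tt_c4_K) (Net.toPerm 276 g716) (Net.toPerm 276 g705) :=
  not_cjIn ct_nc41_16_cnt

noncomputable def ct_nc41_17_cnt_L : List ℕ := [0, 15, TC_s0_O, 0, 0]

theorem ct_nc41_17_cnt_P : Prob 276 9 (grp 276 tt_c4_K) ct_nc41_17_cnt_EG [g716] [g127] ct_c17_K ct_nc41_17_cnt_L 0 0 :=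
  Sym.prob hn hk ct_c17_sym ct_nc41_17_cnt_EG_ok (grp_nil_le _) (Frames.cons TC_s0_F Frames.nil) (okE_cons.2 ⟨g716_ok, okE_nil _⟩) _

noncomputable def ct_nc41_17_cnt_t : BT := (BT.frm (nat_lit 0) (nat_lit 0) (nat_lit 0) [] (BT.pln (nat_lit 0) (nat_lit 5) (BT.fix (nat_lit 257) (BT.and (nat_lit 1) (nat_lit 0) (BT.cnt (nat_lit 0))))))

theorem ct_nc41_17_cnt : Cnt 276 (grp 276 tt_c4_K) [g716] [g127] 0 0 0 0 0 :=
  BT.sound ct_nc41_17_cnt_P Known.nil (t := ct_nc41_17_cnt_t) (d := 0) (by decide +kernel)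

theorem ct_nc41_17 : ¬ CjIn (grp 276 tt_c4_K) (Net.toPerm 276 g716) (Net.toPerm 276 g127) :=
  not_cjIn ct_nc41_17_cnt

noncomputable def ct_nc41_19_cnt_L : List ℕ := [0, 15, TC_s0_O, 0, 0]

theorem ct_nc41_19_cnt_P : Prob 276 9 (grp 276 tt_c4_K) ct_nc41_19_cnt_EG [g716] [g717] ct_c19_K ct_nc41_19_cnt_L 0 0 :=
  Sym.prob hn hk ct_c19_sym ct_nc41_19_cnt_EG_ok (grp_nil_le _) (Frames.cons TC_s0_F Frames.nil) (okE_cons.2 ⟨g716_ok, okE_nil _⟩) _

noncomputable def ct_nc41_19_cnt_t : BT := (BT.frm (nat_lit 0) (nat_lit 0) (nat_lit 0) [] (BT.pln (nat_lit 0) (nat_lit 3) (BT.fix (nat_lit 257) (BT.and (nat_lit 1) (nat_lit 0) (BT.cnt (nat_lit 0))))))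

theorem ct_nc41_19_cnt : Cnt 276 (grp 276 tt_c4_K) [g716] [g717] 0 0 0 0 0 :=
  BT.sound ct_nc41_19_cnt_P Known.nil (t := ct_nc41_19_cnt_t) (d := 0) (by decide +kernel)

theorem ct_nc41_19 : ¬ CjIn (grp 276 tt_c4_K) (Net.toPerm 276 g716) (Net.toPerm 276 g717) :=
  not_cjIn ct_nc41_19_cnt

noncomputable def ct_nc41_20_cnt_L : List ℕ := [0, 15, TC_s0_O, 0, 0]

theorem ct_nc41_20_cnt_P : Prob 276 9 (grp 276 tt_c4_K) ct_nc41_20_cnt_EG [g716] [g790] ct_c20_K ct_nc41_20_cnt_L 0 0 :=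
  Sym.prob hn hk ct_c20_sym ct_nc41_20_cnt_EG_ok (grp_nil_le _) (Frames.cons TC_s0_F Frames.nil) (okE_cons.2 ⟨g716_ok, okE_nil _⟩) _

noncomputable def ct_nc41_20_cnt_t : BT := (BT.frm (nat_lit 0) (nat_lit 0) (nat_lit 0) [] (BT.pln (nat_lit 0) (nat_lit 0) (BT.fix (nat_lit 257) (BT.and (nat_lit 1) (nat_lit 0) (BT.cnt (nat_lit 0))))))

theorem ct_nc41_20_cnt : Cnt 276 (grp 276 tt_c4_K) [g716] [g790] 0 0 0 0 0 :=
  BT.sound ct_nc41_20_cnt_P Known.nil (t := ct_nc41_20_cnt_t) (d := 0) (by decide +kernel)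

theorem ct_nc41_20 : ¬ CjIn (grp 276 tt_c4_K) (Net.toPerm 276 g716) (Net.toPerm 276 g790) :=
  not_cjIn ct_nc41_20_cnt

noncomputable def ct_nc41_21_cnt_L : List ℕ := [0, 15, TC_s0_O, 0, 0]

theorem ct_nc41_21_cnt_P : Prob 276 9 (grp 276 tt_c4_K) ct_nc41_21_cnt_EG [g716] [g792] ct_c21_K ct_nc41_21_cnt_L 0 0 :=
  Sym.prob hn hk ct_c21_sym ct_nc41_21_cnt_EG_ok (grp_nil_le _) (Frames.cons TC_s0_F Frames.nil) (okE_cons.2 ⟨g716_ok, okE_nil _⟩) _

noncomputable def ct_nc41_21_cnt_t : BT := (BT.frm (nat_lit 0) (nat_lit 0) (nat_lit 0) [] (BT.pln (nat_lit 0) (nat_lit 1) (BT.fix (nat_lit 257) (BT.and (nat_lit 1) (nat_lit 0) (BT.cnt (nat_lit 0))))))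

theorem ct_nc41_21_cnt : Cnt 276 (grp 276 tt_c4_K) [g716] [g792] 0 0 0 0 0 :=
  BT.sound ct_nc41_21_cnt_P Known.nil (t := ct_nc41_21_cnt_t) (d := 0) (by decide +kernel)

theorem ct_nc41_21 : ¬ CjIn (grp 276 tt_c4_K) (Net.toPerm 276 g716) (Net.toPerm 276 g792) :=
  not_cjIn ct_nc41_21_cnt

noncomputable def ct_nc41_24_cnt_L : List ℕ := [0, 15, TC_s0_O, 0, 0]

theorem ct_nc41_24_cnt_P : Prob 276 9 (grp 276 tt_c4_K) ct_nc41_24_cnt_EG [g716] [g799] ct_c24_K ct_nc41_24_cnt_L 0 0 :=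
  Sym.prob hn hk ct_c24_sym ct_nc41_24_cnt_EG_ok (grp_nil_le _) (Frames.cons TC_s0_F Frames.nil) (okE_cons.2 ⟨g716_ok, okE_nil _⟩) _

noncomputable def ct_nc41_24_cnt_t : BT := (BT.frm (nat_lit 0) (nat_lit 0) (nat_lit 0) [] (BT.pln (nat_lit 0) (nat_lit 8) (BT.fix (nat_lit 1) (BT.and (nat_lit 1) (nat_lit 0) (BT.cnt (nat_lit 0))))))

theorem ct_nc41_24_cnt : Cnt 276 (grp 276 tt_c4_K) [g716] [g799] 0 0 0 0 0 :=
  BT.sound ct_nc41_24_cnt_P Known.nil (t := ct_nc41_24_cnt_t) (d := 0) (by decide +kernel)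

theorem ct_nc41_24 : ¬ CjIn (grp 276 tt_c4_K) (Net.toPerm 276 g716) (Net.toPerm 276 g799) :=
  not_cjIn ct_nc41_24_cnt

noncomputable def ct_nc41_25_cnt_L : List ℕ := [0, 15, TC_s0_O, 0, 0]

theorem ct_nc41_25_cnt_P : Prob 276 9 (grp 276 tt_c4_K) ct_nc41_25_cnt_EG [g716] [g735] ct_c25_K ct_nc41_25_cnt_L 0 0 :=
  Sym.prob hn hk ct_c25_sym ct_nc41_25_cnt_EG_ok (grp_nil_le _) (Frames.cons TC_s0_F Frames.nil) (okE_cons.2 ⟨g716_ok, okE_nil _⟩) _

noncomputable def ct_nc41_25_cnt_t : BT := (BT.frm (nat_lit 0) (nat_lit 0) (nat_lit 0) [] (BT.pln (nat_lit 0) (nat_lit 3) (BT.fix (nat_lit 257) (BT.and (nat_lit 1) (nat_lit 0) (BT.cnt (nat_lit 0))))))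

theorem ct_nc41_25_cnt : Cnt 276 (grp 276 tt_c4_K) [g716] [g735] 0 0 0 0 0 :=
  BT.sound ct_nc41_25_cnt_P Known.nil (t := ct_nc41_25_cnt_t) (d := 0) (by decide +kernel)

theorem ct_nc41_25 : ¬ CjIn (grp 276 tt_c4_K) (Net.toPerm 276 g716) (Net.toPerm 276 g735) :=
  not_cjIn ct_nc41_25_cnt

noncomputable def ct_nc41_26_cnt_L : List ℕ := [0, 15, TC_s0_O, 0, 0]

theorem ct_nc41_26_cnt_P : Prob 276 9 (grp 276 tt_c4_K) ct_nc41_26_cnt_EG [g716] [g795] ct_c26_K ct_nc41_26_cnt_L 0 0 :=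
  Sym.prob hn hk ct_c26_sym ct_nc41_26_cnt_EG_ok (grp_nil_le _) (Frames.cons TC_s0_F Frames.nil) (okE_cons.2 ⟨g716_ok, okE_nil _⟩) _

noncomputable def ct_nc41_26_cnt_t : BT := (BT.frm (nat_lit 0) (nat_lit 0) (nat_lit 0) [] (BT.pln (nat_lit 0) (nat_lit 0) (BT.fix (nat_lit 257) (BT.and (nat_lit 1) (nat_lit 0) (BT.cnt (nat_lit 0))))))

theorem ct_nc41_26_cnt : Cnt 276 (grp 276 tt_c4_K) [g716] [g795] 0 0 0 0 0 :=
  BT.sound ct_nc41_26_cnt_P Known.nil (t := ct_nc41_26_cnt_t) (d := 0) (by decide +kernel)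

theorem ct_nc41_26 : ¬ CjIn (grp 276 tt_c4_K) (Net.toPerm 276 g716) (Net.toPerm 276 g795) :=
  not_cjIn ct_nc41_26_cnt

noncomputable def ct_nc41_27_cnt_L : List ℕ := [0, 15, TC_s0_O, 0, 0]

theorem ct_nc41_27_cnt_P : Prob 276 9 (grp 276 tt_c4_K) ct_nc41_27_cnt_EG [g716] [g524] ct_c27_K ct_nc41_27_cnt_L 0 0 :=
  Sym.prob hn hk ct_c27_sym ct_nc41_27_cnt_EG_ok (grp_nil_le _) (Frames.cons TC_s0_F Frames.nil) (okE_cons.2 ⟨g716_ok, okE_nil _⟩) _

noncomputable def ct_nc41_27_cnt_t : BT := (BT.frm (nat_lit 0) (nat_lit 0) (nat_lit 0) [] (BT.pln (nat_lit 0) (nat_lit 1) (BT.fix (nat_lit 257) (BT.and (nat_lit 1) (nat_lit 0) (BT.cnt (nat_lit 0))))))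

theorem ct_nc41_27_cnt : Cnt 276 (grp 276 tt_c4_K) [g716] [g524] 0 0 0 0 0 :=
  BT.sound ct_nc41_27_cnt_P Known.nil (t := ct_nc41_27_cnt_t) (d := 0) (by decide +kernel)

theorem ct_nc41_27 : ¬ CjIn (grp 276 tt_c4_K) (Net.toPerm 276 g716) (Net.toPerm 276 g524) :=
  not_cjIn ct_nc41_27_cnt

noncomputable def ct_nc41_28_cnt_L : List ℕ := [0, 15, TC_s0_O, 0, 0]

theorem ct_nc41_28_cnt_P : Prob 276 9 (grp 276 tt_c4_K) ct_nc41_28_cnt_EG [g716] [g804] ct_c28_K ct_nc41_28_cnt_L 0 0 :=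
  Sym.prob hn hk ct_c28_sym ct_nc41_28_cnt_EG_ok (grp_nil_le _) (Frames.cons TC_s0_F Frames.nil) (okE_cons.2 ⟨g716_ok, okE_nil _⟩) _

noncomputable def ct_nc41_28_cnt_t : BT := (BT.frm (nat_lit 0) (nat_lit 0) (nat_lit 0) [] (BT.pln (nat_lit 0) (nat_lit 4) (BT.fix (nat_lit 257) (BT.and (nat_lit 1) (nat_lit 0) (BT.cnt (nat_lit 0))))))

theorem ct_nc41_28_cnt : Cnt 276 (grp 276 tt_c4_K) [g716] [g804] 0 0 0 0 0 :=
  BT.sound ct_nc41_28_cnt_P Known.nil (t := ct_nc41_28_cnt_t) (d := 0) (by decide +kernel)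

theorem ct_nc41_28 : ¬ CjIn (grp 276 tt_c4_K) (Net.toPerm 276 g716) (Net.toPerm 276 g804) :=
  not_cjIn ct_nc41_28_cnt

noncomputable def ct_nc41_29_cnt_L : List ℕ := [0, 15, TC_s0_O, 0, 0]

theorem ct_nc41_29_cnt_P : Prob 276 9 (grp 276 tt_c4_K) ct_nc41_29_cnt_EG [g716] [g546] ct_c29_K ct_nc41_29_cnt_L 0 0 :=
  Sym.prob hn hk ct_c29_sym ct_nc41_29_cnt_EG_ok (grp_nil_le _) (Frames.cons TC_s0_F Frames.nil) (okE_cons.2 ⟨g716_ok, okE_nil _⟩) _

noncomputable def ct_nc41_29_cnt_t : BT := (BT.frm (nat_lit 0) (nat_lit 0) (nat_lit 0) [] (BT.pln (nat_lit 0) (nat_lit 5) (BT.fix (nat_lit 257) (BT.and (nat_lit 1) (nat_lit 0) (BT.cnt (nat_lit 0))))))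

theorem ct_nc41_29_cnt : Cnt 276 (grp 276 tt_c4_K) [g716] [g546] 0 0 0 0 0 :=
  BT.sound ct_nc41_29_cnt_P Known.nil (t := ct_nc41_29_cnt_t) (d := 0) (by decide +kernel)

theorem ct_nc41_29 : ¬ CjIn (grp 276 tt_c4_K) (Net.toPerm 276 g716) (Net.toPerm 276 g546) :=
  not_cjIn ct_nc41_29_cnt

noncomputable def ct_nc41_31_cnt_L : List ℕ := [0, 15, TC_s0_O, 0, 0]

theorem ct_nc41_31_cnt_P : Prob 276 9 (grp 276 tt_c4_K) ct_nc41_31_cnt_EG [g716] [g698] ct_c31_K ct_nc41_31_cnt_L 0 0 :=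
  Sym.prob hn hk ct_c31_sym ct_nc41_31_cnt_EG_ok (grp_nil_le _) (Frames.cons TC_s0_F Frames.nil) (okE_cons.2 ⟨g716_ok, okE_nil _⟩) _

noncomputable def ct_nc41_31_cnt_t : BT := (BT.frm (nat_lit 0) (nat_lit 0) (nat_lit 0) [] (BT.pln (nat_lit 0) (nat_lit 3) (BT.fix (nat_lit 257) (BT.and (nat_lit 1) (nat_lit 0) (BT.cnt (nat_lit 0))))))

theorem ct_nc41_31_cnt : Cnt 276 (grp 276 tt_c4_K) [g716] [g698] 0 0 0 0 0 :=
  BT.sound ct_nc41_31_cnt_P Known.nil (t := ct_nc41_31_cnt_t) (d := 0) (by decide +kernel)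

theorem ct_nc41_31 : ¬ CjIn (grp 276 tt_c4_K) (Net.toPerm 276 g716) (Net.toPerm 276 g698) :=
  not_cjIn ct_nc41_31_cnt

noncomputable def ct_nc41_32_cnt_L : List ℕ := [0, 15, TC_s0_O, 0, 0]

theorem ct_nc41_32_cnt_P : Prob 276 9 (grp 276 tt_c4_K) ct_nc41_32_cnt_EG [g716] [g545] ct_c32_K ct_nc41_32_cnt_L 0 0 :=
  Sym.prob hn hk ct_c32_sym ct_nc41_32_cnt_EG_ok (grp_nil_le _) (Frames.cons TC_s0_F Frames.nil) (okE_cons.2 ⟨g716_ok, okE_nil _⟩) _

noncomputable def ct_nc41_32_cnt_t : BT := (BT.frm (nat_lit 0) (nat_lit 0) (nat_lit 0) [] (BT.pln (nat_lit 0) (nat_lit 2) (BT.fix (nat_lit 257) (BT.and (nat_lit 1) (nat_lit 0) (BT.cnt (nat_lit 0))))))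

theorem ct_nc41_32_cnt : Cnt 276 (grp 276 tt_c4_K) [g716] [g545] 0 0 0 0 0 :=
  BT.sound ct_nc41_32_cnt_P Known.nil (t := ct_nc41_32_cnt_t) (d := 0) (by decide +kernel)

theorem ct_nc41_32 : ¬ CjIn (grp 276 tt_c4_K) (Net.toPerm 276 g716) (Net.toPerm 276 g545) :=
  not_cjIn ct_nc41_32_cnt

noncomputable def ct_nc41_34_cnt_L : List ℕ := [0, 15, TC_s0_O, 0, 0]

theorem ct_nc41_34_cnt_P : Prob 276 9 (grp 276 tt_c4_K) ct_nc41_34_cnt_EG [g716] [g444] ct_c34_K ct_nc41_34_cnt_L 0 0 :=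
  Sym.prob hn hk ct_c34_sym ct_nc41_34_cnt_EG_ok (grp_nil_le _) (Frames.cons TC_s0_F Frames.nil) (okE_cons.2 ⟨g716_ok, okE_nil _⟩) _

noncomputable def ct_nc41_34_cnt_t : BT := (BT.frm (nat_lit 0) (nat_lit 0) (nat_lit 0) [] (BT.pln (nat_lit 0) (nat_lit 4) (BT.fix (nat_lit 257) (BT.and (nat_lit 1) (nat_lit 0) (BT.cnt (nat_lit 0))))))

theorem ct_nc41_34_cnt : Cnt 276 (grp 276 tt_c4_K) [g716] [g444] 0 0 0 0 0 :=
  BT.sound ct_nc41_34_cnt_P Known.nil (t := ct_nc41_34_cnt_t) (d := 0) (by decide +kernel)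

theorem ct_nc41_34 : ¬ CjIn (grp 276 tt_c4_K) (Net.toPerm 276 g716) (Net.toPerm 276 g444) :=
  not_cjIn ct_nc41_34_cnt

noncomputable def ct_nc41_35_cnt_L : List ℕ := [0, 15, TC_s0_O, 0, 0]

theorem ct_nc41_35_cnt_P : Prob 276 9 (grp 276 tt_c4_K) ct_nc41_35_cnt_EG [g716] [g526] ct_c35_K ct_nc41_35_cnt_L 0 0 :=
  Sym.prob hn hk ct_c35_sym ct_nc41_35_cnt_EG_ok (grp_nil_le _) (Frames.cons TC_s0_F Frames.nil) (okE_cons.2 ⟨g716_ok, okE_nil _⟩) _

noncomputable def ct_nc41_35_cnt_t : BT := (BT.frm (nat_lit 0) (nat_lit 0) (nat_lit 0) [] (BT.pln (nat_lit 0) (nat_lit 11) (BT.fix (nat_lit 1) (BT.and (nat_lit 1) (nat_lit 0) (BT.cnt (nat_lit 0))))))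

theorem ct_nc41_35_cnt : Cnt 276 (grp 276 tt_c4_K) [g716] [g526] 0 0 0 0 0 :=
  BT.sound ct_nc41_35_cnt_P Known.nil (t := ct_nc41_35_cnt_t) (d := 0) (by decide +kernel)

theorem ct_nc41_35 : ¬ CjIn (grp 276 tt_c4_K) (Net.toPerm 276 g716) (Net.toPerm 276 g526) :=
  not_cjIn ct_nc41_35_cnt

noncomputable def ct_nc41_36_cnt_L : List ℕ := [0, 15, TC_s0_O, 0, 0]

theorem ct_nc41_36_cnt_P : Prob 276 9 (grp 276 tt_c4_K) ct_nc41_36_cnt_EG [g716] [g733] ct_c36_K ct_nc41_36_cnt_L 0 0 :=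
  Sym.prob hn hk ct_c36_sym ct_nc41_36_cnt_EG_ok (grp_nil_le _) (Frames.cons TC_s0_F Frames.nil) (okE_cons.2 ⟨g716_ok, okE_nil _⟩) _

noncomputable def ct_nc41_36_cnt_t : BT := (BT.frm (nat_lit 0) (nat_lit 0) (nat_lit 0) [] (BT.pln (nat_lit 0) (nat_lit 1) (BT.fix (nat_lit 257) (BT.and (nat_lit 1) (nat_lit 0) (BT.cnt (nat_lit 0))))))

theorem ct_nc41_36_cnt : Cnt 276 (grp 276 tt_c4_K) [g716] [g733] 0 0 0 0 0 :=
  BT.sound ct_nc41_36_cnt_P Known.nil (t := ct_nc41_36_cnt_t) (d := 0) (by decide +kernel)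

theorem ct_nc41_36 : ¬ CjIn (grp 276 tt_c4_K) (Net.toPerm 276 g716) (Net.toPerm 276 g733) :=
  not_cjIn ct_nc41_36_cnt

noncomputable def ct_nc41_38_cnt_L : List ℕ := [0, 15, TC_s0_O, 0, 0]

theorem ct_nc41_38_cnt_P : Prob 276 9 (grp 276 tt_c4_K) ct_nc41_38_cnt_EG [g716] [g811] ct_c38_K ct_nc41_38_cnt_L 0 0 :=
  Sym.prob hn hk ct_c38_sym ct_nc41_38_cnt_EG_ok (grp_nil_le _) (Frames.cons TC_s0_F Frames.nil) (okE_cons.2 ⟨g716_ok, okE_nil _⟩) _

noncomputable def ct_nc41_38_cnt_t : BT := (BT.frm (nat_lit 0) (nat_lit 0) (nat_lit 0) [] (BT.pln (nat_lit 0) (nat_lit 0) (BT.fix (nat_lit 257) (BT.and (nat_lit 1) (nat_lit 0) (BT.cnt (nat_lit 0))))))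

theorem ct_nc41_38_cnt : Cnt 276 (grp 276 tt_c4_K) [g716] [g811] 0 0 0 0 0 :=
  BT.sound ct_nc41_38_cnt_P Known.nil (t := ct_nc41_38_cnt_t) (d := 0) (by decide +kernel)

theorem ct_nc41_38 : ¬ CjIn (grp 276 tt_c4_K) (Net.toPerm 276 g716) (Net.toPerm 276 g811) :=
  not_cjIn ct_nc41_38_cnt

noncomputable def ct_nc41_39_cnt_L : List ℕ := [0, 15, TC_s0_O, 0, 0]

theorem ct_nc41_39_cnt_P : Prob 276 9 (grp 276 tt_c4_K) ct_nc41_39_cnt_EG [g716] [g820] ct_c39_K ct_nc41_39_cnt_L 0 0 :=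
  Sym.prob hn hk ct_c39_sym ct_nc41_39_cnt_EG_ok (grp_nil_le _) (Frames.cons TC_s0_F Frames.nil) (okE_cons.2 ⟨g716_ok, okE_nil _⟩) _

noncomputable def ct_nc41_39_cnt_t : BT := (BT.frm (nat_lit 0) (nat_lit 0) (nat_lit 0) [] (BT.pln (nat_lit 0) (nat_lit 2) (BT.fix (nat_lit 257) (BT.and (nat_lit 1) (nat_lit 0) (BT.cnt (nat_lit 0))))))

theorem ct_nc41_39_cnt : Cnt 276 (grp 276 tt_c4_K) [g716] [g820] 0 0 0 0 0 :=
  BT.sound ct_nc41_39_cnt_P Known.nil (t := ct_nc41_39_cnt_t) (d := 0) (by decide +kernel)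

theorem ct_nc41_39 : ¬ CjIn (grp 276 tt_c4_K) (Net.toPerm 276 g716) (Net.toPerm 276 g820) :=
  not_cjIn ct_nc41_39_cnt

noncomputable def ct_nc41_40_cnt_L : List ℕ := [0, 15, TC_s0_O, 0, 0]

theorem ct_nc41_40_cnt_P : Prob 276 9 (grp 276 tt_c4_K) ct_nc41_40_cnt_EG [g716] [g822] ct_c40_K ct_nc41_40_cnt_L 0 0 :=
  Sym.prob hn hk ct_c40_sym ct_nc41_40_cnt_EG_ok (grp_nil_le _) (Frames.cons TC_s0_F Frames.nil) (okE_cons.2 ⟨g716_ok, okE_nil _⟩) _

noncomputable def ct_nc41_40_cnt_t : BT := (BT.frm (nat_lit 0) (nat_lit 0) (nat_lit 0) [] (BT.pln (nat_lit 0) (nat_lit 2) (BT.fix (nat_lit 257) (BT.and (nat_lit 1) (nat_lit 0) (BT.cnt (nat_lit 0))))))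

theorem ct_nc41_40_cnt : Cnt 276 (grp 276 tt_c4_K) [g716] [g822] 0 0 0 0 0 :=
  BT.sound ct_nc41_40_cnt_P Known.nil (t := ct_nc41_40_cnt_t) (d := 0) (by decide +kernel)

theorem ct_nc41_40 : ¬ CjIn (grp 276 tt_c4_K) (Net.toPerm 276 g716) (Net.toPerm 276 g822) :=
  not_cjIn ct_nc41_40_cnt

noncomputable def ct_nc42_16_cnt_L : List ℕ := [0, 15, TC_s0_O, 0, 0]

theorem ct_nc42_16_cnt_P : Prob 276 9 (grp 276 tt_c4_K) ct_nc42_16_cnt_EG [g807] [g705] ct_c16_K ct_nc42_16_cnt_L 0 0 :=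
  Sym.prob hn hk ct_c16_sym ct_nc42_16_cnt_EG_ok (grp_nil_le _) (Frames.cons TC_s0_F Frames.nil) (okE_cons.2 ⟨g807_ok, okE_nil _⟩) _

noncomputable def ct_nc42_16_cnt_t : BT := (BT.frm (nat_lit 0) (nat_lit 0) (nat_lit 0) [] (BT.pln (nat_lit 0) (nat_lit 4) (BT.fix (nat_lit 257) (BT.and (nat_lit 1) (nat_lit 0) (BT.cnt (nat_lit 0))))))

theorem ct_nc42_16_cnt : Cnt 276 (grp 276 tt_c4_K) [g807] [g705] 0 0 0 0 0 :=
  BT.sound ct_nc42_16_cnt_P Known.nil (t := ct_nc42_16_cnt_t) (d := 0) (by decide +kernel)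

theorem ct_nc42_16 : ¬ CjIn (grp 276 tt_c4_K) (Net.toPerm 276 g807) (Net.toPerm 276 g705) :=
  not_cjIn ct_nc42_16_cnt

noncomputable def ct_nc42_17_cnt_L : List ℕ := [0, 15, TC_s0_O, 0, 0]

theorem ct_nc42_17_cnt_P : Prob 276 9 (grp 276 tt_c4_K) ct_nc42_17_cnt_EG [g807] [g127] ct_c17_K ct_nc42_17_cnt_L 0 0 :=
  Sym.prob hn hk ct_c17_sym ct_nc42_17_cnt_EG_ok (grp_nil_le _) (Frames.cons TC_s0_F Frames.nil) (okE_cons.2 ⟨g807_ok, okE_nil _⟩) _

noncomputable def ct_nc42_17_cnt_t : BT := (BT.frm (nat_lit 0) (nat_lit 0) (nat_lit 0) [] (BT.pln (nat_lit 0) (nat_lit 13) (BT.fix (nat_lit 1) (BT.and (nat_lit 1) (nat_lit 0) (BT.cnt (nat_lit 0))))))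

theorem ct_nc42_17_cnt : Cnt 276 (grp 276 tt_c4_K) [g807] [g127] 0 0 0 0 0 :=
  BT.sound ct_nc42_17_cnt_P Known.nil (t := ct_nc42_17_cnt_t) (d := 0) (by decide +kernel)

theorem ct_nc42_17 : ¬ CjIn (grp 276 tt_c4_K) (Net.toPerm 276 g807) (Net.toPerm 276 g127) :=
  not_cjIn ct_nc42_17_cnt

noncomputable def ct_nc42_19_cnt_L : List ℕ := [0, 15, TC_s0_O, 0, 0]

theorem ct_nc42_19_cnt_P : Prob 276 9 (grp 276 tt_c4_K) ct_nc42_19_cnt_EG [g807] [g717] ct_c19_K ct_nc42_19_cnt_L 0 0 :=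
  Sym.prob hn hk ct_c19_sym ct_nc42_19_cnt_EG_ok (grp_nil_le _) (Frames.cons TC_s0_F Frames.nil) (okE_cons.2 ⟨g807_ok, okE_nil _⟩) _

noncomputable def ct_nc42_19_cnt_t : BT := (BT.frm (nat_lit 0) (nat_lit 0) (nat_lit 0) [] (BT.pln (nat_lit 0) (nat_lit 3) (BT.fix (nat_lit 257) (BT.and (nat_lit 1) (nat_lit 0) (BT.cnt (nat_lit 0))))))

theorem ct_nc42_19_cnt : Cnt 276 (grp 276 tt_c4_K) [g807] [g717] 0 0 0 0 0 :=
  BT.sound ct_nc42_19_cnt_P Known.nil (t := ct_nc42_19_cnt_t) (d := 0) (by decide +kernel)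

theorem ct_nc42_19 : ¬ CjIn (grp 276 tt_c4_K) (Net.toPerm 276 g807) (Net.toPerm 276 g717) :=
  not_cjIn ct_nc42_19_cnt

noncomputable def ct_nc42_20_cnt_L : List ℕ := [0, 15, TC_s0_O, 0, 0]

theorem ct_nc42_20_cnt_P : Prob 276 9 (grp 276 tt_c4_K) ct_nc42_20_cnt_EG [g807] [g790] ct_c20_K ct_nc42_20_cnt_L 0 0 :=
  Sym.prob hn hk ct_c20_sym ct_nc42_20_cnt_EG_ok (grp_nil_le _) (Frames.cons TC_s0_F Frames.nil) (okE_cons.2 ⟨g807_ok, okE_nil _⟩) _

noncomputable def ct_nc42_20_cnt_t : BT := (BT.frm (nat_lit 0) (nat_lit 0) (nat_lit 0) [] (BT.pln (nat_lit 0) (nat_lit 0) (BT.fix (nat_lit 257) (BT.and (nat_lit 1) (nat_lit 0) (BT.cnt (nat_lit 0))))))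

theorem ct_nc42_20_cnt : Cnt 276 (grp 276 tt_c4_K) [g807] [g790] 0 0 0 0 0 :=
  BT.sound ct_nc42_20_cnt_P Known.nil (t := ct_nc42_20_cnt_t) (d := 0) (by decide +kernel)

theorem ct_nc42_20 : ¬ CjIn (grp 276 tt_c4_K) (Net.toPerm 276 g807) (Net.toPerm 276 g790) :=
  not_cjIn ct_nc42_20_cnt

noncomputable def ct_nc42_21_cnt_L : List ℕ := [0, 15, TC_s0_O, 0, 0]

theorem ct_nc42_21_cnt_P : Prob 276 9 (grp 276 tt_c4_K) ct_nc42_21_cnt_EG [g807] [g792] ct_c21_K ct_nc42_21_cnt_L 0 0 :=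
  Sym.prob hn hk ct_c21_sym ct_nc42_21_cnt_EG_ok (grp_nil_le _) (Frames.cons TC_s0_F Frames.nil) (okE_cons.2 ⟨g807_ok, okE_nil _⟩) _

noncomputable def ct_nc42_21_cnt_t : BT := (BT.frm (nat_lit 0) (nat_lit 0) (nat_lit 0) [] (BT.pln (nat_lit 0) (nat_lit 1) (BT.fix (nat_lit 257) (BT.and (nat_lit 1) (nat_lit 0) (BT.cnt (nat_lit 0))))))

theorem ct_nc42_21_cnt : Cnt 276 (grp 276 tt_c4_K) [g807] [g792] 0 0 0 0 0 :=
  BT.sound ct_nc42_21_cnt_P Known.nil (t := ct_nc42_21_cnt_t) (d := 0) (by decide +kernel)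

theorem ct_nc42_21 : ¬ CjIn (grp 276 tt_c4_K) (Net.toPerm 276 g807) (Net.toPerm 276 g792) :=
  not_cjIn ct_nc42_21_cnt

noncomputable def ct_nc42_24_cnt_L : List ℕ := [0, 15, TC_s0_O, 0, 0]

theorem ct_nc42_24_cnt_P : Prob 276 9 (grp 276 tt_c4_K) ct_nc42_24_cnt_EG [g807] [g799] ct_c24_K ct_nc42_24_cnt_L 0 0 :=
  Sym.prob hn hk ct_c24_sym ct_nc42_24_cnt_EG_ok (grp_nil_le _) (Frames.cons TC_s0_F Frames.nil) (okE_cons.2 ⟨g807_ok, okE_nil _⟩) _

noncomputable def ct_nc42_24_cnt_t : BT := (BT.frm (nat_lit 0) (nat_lit 0) (nat_lit 0) [] (BT.pln (nat_lit 0) (nat_lit 5) (BT.fix (nat_lit 257) (BT.and (nat_lit 1) (nat_lit 0) (BT.cnt (nat_lit 0))))))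

theorem ct_nc42_24_cnt : Cnt 276 (grp 276 tt_c4_K) [g807] [g799] 0 0 0 0 0 :=
  BT.sound ct_nc42_24_cnt_P Known.nil (t := ct_nc42_24_cnt_t) (d := 0) (by decide +kernel)

theorem ct_nc42_24 : ¬ CjIn (grp 276 tt_c4_K) (Net.toPerm 276 g807) (Net.toPerm 276 g799) :=
  not_cjIn ct_nc42_24_cnt

noncomputable def ct_nc42_25_cnt_L : List ℕ := [0, 15, TC_s0_O, 0, 0]

theorem ct_nc42_25_cnt_P : Prob 276 9 (grp 276 tt_c4_K) ct_nc42_25_cnt_EG [g807] [g735] ct_c25_K ct_nc42_25_cnt_L 0 0 :=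
  Sym.prob hn hk ct_c25_sym ct_nc42_25_cnt_EG_ok (grp_nil_le _) (Frames.cons TC_s0_F Frames.nil) (okE_cons.2 ⟨g807_ok, okE_nil _⟩) _

noncomputable def ct_nc42_25_cnt_t : BT := (BT.frm (nat_lit 0) (nat_lit 0) (nat_lit 0) [] (BT.pln (nat_lit 0) (nat_lit 3) (BT.fix (nat_lit 257) (BT.and (nat_lit 1) (nat_lit 0) (BT.cnt (nat_lit 0))))))

theorem ct_nc42_25_cnt : Cnt 276 (grp 276 tt_c4_K) [g807] [g735] 0 0 0 0 0 :=
  BT.sound ct_nc42_25_cnt_P Known.nil (t := ct_nc42_25_cnt_t) (d := 0) (by decide +kernel)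

theorem ct_nc42_25 : ¬ CjIn (grp 276 tt_c4_K) (Net.toPerm 276 g807) (Net.toPerm 276 g735) :=
  not_cjIn ct_nc42_25_cnt

noncomputable def ct_nc42_26_cnt_L : List ℕ := [0, 15, TC_s0_O, 0, 0]

theorem ct_nc42_26_cnt_P : Prob 276 9 (grp 276 tt_c4_K) ct_nc42_26_cnt_EG [g807] [g795] ct_c26_K ct_nc42_26_cnt_L 0 0 :=
  Sym.prob hn hk ct_c26_sym ct_nc42_26_cnt_EG_ok (grp_nil_le _) (Frames.cons TC_s0_F Frames.nil) (okE_cons.2 ⟨g807_ok, okE_nil _⟩) _

noncomputable def ct_nc42_26_cnt_t : BT := (BT.frm (nat_lit 0) (nat_lit 0) (nat_lit 0) [] (BT.pln (nat_lit 0) (nat_lit 0) (BT.fix (nat_lit 257) (BT.and (nat_lit 1) (nat_lit 0) (BT.cnt (nat_lit 0))))))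

theorem ct_nc42_26_cnt : Cnt 276 (grp 276 tt_c4_K) [g807] [g795] 0 0 0 0 0 :=
  BT.sound ct_nc42_26_cnt_P Known.nil (t := ct_nc42_26_cnt_t) (d := 0) (by decide +kernel)

theorem ct_nc42_26 : ¬ CjIn (grp 276 tt_c4_K) (Net.toPerm 276 g807) (Net.toPerm 276 g795) :=
  not_cjIn ct_nc42_26_cnt

noncomputable def ct_nc42_27_cnt_L : List ℕ := [0, 15, TC_s0_O, 0, 0]

theorem ct_nc42_27_cnt_P : Prob 276 9 (grp 276 tt_c4_K) ct_nc42_27_cnt_EG [g807] [g524] ct_c27_K ct_nc42_27_cnt_L 0 0 :=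
  Sym.prob hn hk ct_c27_sym ct_nc42_27_cnt_EG_ok (grp_nil_le _) (Frames.cons TC_s0_F Frames.nil) (okE_cons.2 ⟨g807_ok, okE_nil _⟩) _

noncomputable def ct_nc42_27_cnt_t : BT := (BT.frm (nat_lit 0) (nat_lit 0) (nat_lit 0) [] (BT.pln (nat_lit 0) (nat_lit 1) (BT.fix (nat_lit 257) (BT.and (nat_lit 1) (nat_lit 0) (BT.cnt (nat_lit 0))))))

theorem ct_nc42_27_cnt : Cnt 276 (grp 276 tt_c4_K) [g807] [g524] 0 0 0 0 0 :=
  BT.sound ct_nc42_27_cnt_P Known.nil (t := ct_nc42_27_cnt_t) (d := 0) (by decide +kernel)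

theorem ct_nc42_27 : ¬ CjIn (grp 276 tt_c4_K) (Net.toPerm 276 g807) (Net.toPerm 276 g524) :=
  not_cjIn ct_nc42_27_cnt

noncomputable def ct_nc42_28_cnt_L : List ℕ := [0, 15, TC_s0_O, 0, 0]

theorem ct_nc42_28_cnt_P : Prob 276 9 (grp 276 tt_c4_K) ct_nc42_28_cnt_EG [g807] [g804] ct_c28_K ct_nc42_28_cnt_L 0 0 :=
  Sym.prob hn hk ct_c28_sym ct_nc42_28_cnt_EG_ok (grp_nil_le _) (Frames.cons TC_s0_F Frames.nil) (okE_cons.2 ⟨g807_ok, okE_nil _⟩) _

noncomputable def ct_nc42_28_cnt_t : BT := (BT.frm (nat_lit 0) (nat_lit 0) (nat_lit 0) [] (BT.pln (nat_lit 0) (nat_lit 4) (BT.fix (nat_lit 257) (BT.and (nat_lit 1) (nat_lit 0) (BT.cnt (nat_lit 0))))))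

theorem ct_nc42_28_cnt : Cnt 276 (grp 276 tt_c4_K) [g807] [g804] 0 0 0 0 0 :=
  BT.sound ct_nc42_28_cnt_P Known.nil (t := ct_nc42_28_cnt_t) (d := 0) (by decide +kernel)

theorem ct_nc42_28 : ¬ CjIn (grp 276 tt_c4_K) (Net.toPerm 276 g807) (Net.toPerm 276 g804) :=
  not_cjIn ct_nc42_28_cnt

noncomputable def ct_nc42_29_cnt_L : List ℕ := [0, 15, TC_s0_O, 0, 0]

theorem ct_nc42_29_cnt_P : Prob 276 9 (grp 276 tt_c4_K) ct_nc42_29_cnt_EG [g807] [g546] ct_c29_K ct_nc42_29_cnt_L 0 0 :=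
  Sym.prob hn hk ct_c29_sym ct_nc42_29_cnt_EG_ok (grp_nil_le _) (Frames.cons TC_s0_F Frames.nil) (okE_cons.2 ⟨g807_ok, okE_nil _⟩) _

noncomputable def ct_nc42_29_cnt_t : BT := (BT.frm (nat_lit 0) (nat_lit 0) (nat_lit 0) [] (BT.pln (nat_lit 0) (nat_lit 9) (BT.fix (nat_lit 1) (BT.and (nat_lit 1) (nat_lit 0) (BT.cnt (nat_lit 0))))))

theorem ct_nc42_29_cnt : Cnt 276 (grp 276 tt_c4_K) [g807] [g546] 0 0 0 0 0 :=
  BT.sound ct_nc42_29_cnt_P Known.nil (t := ct_nc42_29_cnt_t) (d := 0) (by decide +kernel)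

theorem ct_nc42_29 : ¬ CjIn (grp 276 tt_c4_K) (Net.toPerm 276 g807) (Net.toPerm 276 g546) :=
  not_cjIn ct_nc42_29_cnt

noncomputable def ct_nc42_31_cnt_L : List ℕ := [0, 15, TC_s0_O, 0, 0]

theorem ct_nc42_31_cnt_P : Prob 276 9 (grp 276 tt_c4_K) ct_nc42_31_cnt_EG [g807] [g698] ct_c31_K ct_nc42_31_cnt_L 0 0 :=
  Sym.prob hn hk ct_c31_sym ct_nc42_31_cnt_EG_ok (grp_nil_le _) (Frames.cons TC_s0_F Frames.nil) (okE_cons.2 ⟨g807_ok, okE_nil _⟩) _

noncomputable def ct_nc42_31_cnt_t : BT := (BT.frm (nat_lit 0) (nat_lit 0) (nat_lit 0) [] (BT.pln (nat_lit 0) (nat_lit 3) (BT.fix (nat_lit 257) (BT.and (nat_lit 1) (nat_lit 0) (BT.cnt (nat_lit 0))))))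

theorem ct_nc42_31_cnt : Cnt 276 (grp 276 tt_c4_K) [g807] [g698] 0 0 0 0 0 :=
  BT.sound ct_nc42_31_cnt_P Known.nil (t := ct_nc42_31_cnt_t) (d := 0) (by decide +kernel)

theorem ct_nc42_31 : ¬ CjIn (grp 276 tt_c4_K) (Net.toPerm 276 g807) (Net.toPerm 276 g698) :=
  not_cjIn ct_nc42_31_cnt

noncomputable def ct_nc42_32_cnt_L : List ℕ := [0, 15, TC_s0_O, 0, 0]

theorem ct_nc42_32_cnt_P : Prob 276 9 (grp 276 tt_c4_K) ct_nc42_32_cnt_EG [g807] [g545] ct_c32_K ct_nc42_32_cnt_L 0 0 :=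
  Sym.prob hn hk ct_c32_sym ct_nc42_32_cnt_EG_ok (grp_nil_le _) (Frames.cons TC_s0_F Frames.nil) (okE_cons.2 ⟨g807_ok, okE_nil _⟩) _

noncomputable def ct_nc42_32_cnt_t : BT := (BT.frm (nat_lit 0) (nat_lit 0) (nat_lit 0) [] (BT.pln (nat_lit 0) (nat_lit 2) (BT.fix (nat_lit 257) (BT.and (nat_lit 1) (nat_lit 0) (BT.cnt (nat_lit 0))))))

theorem ct_nc42_32_cnt : Cnt 276 (grp 276 tt_c4_K) [g807] [g545] 0 0 0 0 0 :=
  BT.sound ct_nc42_32_cnt_P Known.nil (t := ct_nc42_32_cnt_t) (d := 0) (by decide +kernel)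

theorem ct_nc42_32 : ¬ CjIn (grp 276 tt_c4_K) (Net.toPerm 276 g807) (Net.toPerm 276 g545) :=
  not_cjIn ct_nc42_32_cnt

noncomputable def ct_nc42_34_cnt_L : List ℕ := [0, 15, TC_s0_O, 0, 0]

theorem ct_nc42_34_cnt_P : Prob 276 9 (grp 276 tt_c4_K) ct_nc42_34_cnt_EG [g807] [g444] ct_c34_K ct_nc42_34_cnt_L 0 0 :=
  Sym.prob hn hk ct_c34_sym ct_nc42_34_cnt_EG_ok (grp_nil_le _) (Frames.cons TC_s0_F Frames.nil) (okE_cons.2 ⟨g807_ok, okE_nil _⟩) _

noncomputable def ct_nc42_34_cnt_t : BT := (BT.frm (nat_lit 0) (nat_lit 0) (nat_lit 0) [] (BT.pln (nat_lit 0) (nat_lit 4) (BT.fix (nat_lit 257) (BT.and (nat_lit 1) (nat_lit 0) (BT.cnt (nat_lit 0))))))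

theorem ct_nc42_34_cnt : Cnt 276 (grp 276 tt_c4_K) [g807] [g444] 0 0 0 0 0 :=
  BT.sound ct_nc42_34_cnt_P Known.nil (t := ct_nc42_34_cnt_t) (d := 0) (by decide +kernel)

theorem ct_nc42_34 : ¬ CjIn (grp 276 tt_c4_K) (Net.toPerm 276 g807) (Net.toPerm 276 g444) :=
  not_cjIn ct_nc42_34_cnt

noncomputable def ct_nc42_35_cnt_L : List ℕ := [0, 15, TC_s0_O, 0, 0]

theorem ct_nc42_35_cnt_P : Prob 276 9 (grp 276 tt_c4_K) ct_nc42_35_cnt_EG [g807] [g526] ct_c35_K ct_nc42_35_cnt_L 0 0 :=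
  Sym.prob hn hk ct_c35_sym ct_nc42_35_cnt_EG_ok (grp_nil_le _) (Frames.cons TC_s0_F Frames.nil) (okE_cons.2 ⟨g807_ok, okE_nil _⟩) _

noncomputable def ct_nc42_35_cnt_t : BT := (BT.frm (nat_lit 0) (nat_lit 0) (nat_lit 0) [] (BT.pln (nat_lit 0) (nat_lit 5) (BT.fix (nat_lit 257) (BT.and (nat_lit 1) (nat_lit 0) (BT.cnt (nat_lit 0))))))

theorem ct_nc42_35_cnt : Cnt 276 (grp 276 tt_c4_K) [g807] [g526] 0 0 0 0 0 :=
  BT.sound ct_nc42_35_cnt_P Known.nil (t := ct_nc42_35_cnt_t) (d := 0) (by decide +kernel)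

theorem ct_nc42_35 : ¬ CjIn (grp 276 tt_c4_K) (Net.toPerm 276 g807) (Net.toPerm 276 g526) :=
  not_cjIn ct_nc42_35_cnt

noncomputable def ct_nc42_36_cnt_L : List ℕ := [0, 15, TC_s0_O, 0, 0]

theorem ct_nc42_36_cnt_P : Prob 276 9 (grp 276 tt_c4_K) ct_nc42_36_cnt_EG [g807] [g733] ct_c36_K ct_nc42_36_cnt_L 0 0 :=
  Sym.prob hn hk ct_c36_sym ct_nc42_36_cnt_EG_ok (grp_nil_le _) (Frames.cons TC_s0_F Frames.nil) (okE_cons.2 ⟨g807_ok, okE_nil _⟩) _

noncomputable def ct_nc42_36_cnt_t : BT := (BT.frm (nat_lit 0) (nat_lit 0) (nat_lit 0) [] (BT.pln (nat_lit 0) (nat_lit 1) (BT.fix (nat_lit 257) (BT.and (nat_lit 1) (nat_lit 0) (BT.cnt (nat_lit 0))))))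

theorem ct_nc42_36_cnt : Cnt 276 (grp 276 tt_c4_K) [g807] [g733] 0 0 0 0 0 :=
  BT.sound ct_nc42_36_cnt_P Known.nil (t := ct_nc42_36_cnt_t) (d := 0) (by decide +kernel)

theorem ct_nc42_36 : ¬ CjIn (grp 276 tt_c4_K) (Net.toPerm 276 g807) (Net.toPerm 276 g733) :=
  not_cjIn ct_nc42_36_cnt

noncomputable def ct_nc42_38_cnt_L : List ℕ := [0, 15, TC_s0_O, 0, 0]

theorem ct_nc42_38_cnt_P : Prob 276 9 (grp 276 tt_c4_K) ct_nc42_38_cnt_EG [g807] [g811] ct_c38_K ct_nc42_38_cnt_L 0 0 :=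
  Sym.prob hn hk ct_c38_sym ct_nc42_38_cnt_EG_ok (grp_nil_le _) (Frames.cons TC_s0_F Frames.nil) (okE_cons.2 ⟨g807_ok, okE_nil _⟩) _

noncomputable def ct_nc42_38_cnt_t : BT := (BT.frm (nat_lit 0) (nat_lit 0) (nat_lit 0) [] (BT.pln (nat_lit 0) (nat_lit 0) (BT.fix (nat_lit 257) (BT.and (nat_lit 1) (nat_lit 0) (BT.cnt (nat_lit 0))))))

theorem ct_nc42_38_cnt : Cnt 276 (grp 276 tt_c4_K) [g807] [g811] 0 0 0 0 0 :=
  BT.sound ct_nc42_38_cnt_P Known.nil (t := ct_nc42_38_cnt_t) (d := 0) (by decide +kernel)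

theorem ct_nc42_38 : ¬ CjIn (grp 276 tt_c4_K) (Net.toPerm 276 g807) (Net.toPerm 276 g811) :=
  not_cjIn ct_nc42_38_cnt

noncomputable def ct_nc42_39_cnt_L : List ℕ := [0, 15, TC_s0_O, 0, 0]

theorem ct_nc42_39_cnt_P : Prob 276 9 (grp 276 tt_c4_K) ct_nc42_39_cnt_EG [g807] [g820] ct_c39_K ct_nc42_39_cnt_L 0 0 :=
  Sym.prob hn hk ct_c39_sym ct_nc42_39_cnt_EG_ok (grp_nil_le _) (Frames.cons TC_s0_F Frames.nil) (okE_cons.2 ⟨g807_ok, okE_nil _⟩) _

noncomputable def ct_nc42_39_cnt_t : BT := (BT.frm (nat_lit 0) (nat_lit 0) (nat_lit 0) [] (BT.pln (nat_lit 0) (nat_lit 2) (BT.fix (nat_lit 257) (BT.and (nat_lit 1) (nat_lit 0) (BT.cnt (nat_lit 0))))))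

theorem ct_nc42_39_cnt : Cnt 276 (grp 276 tt_c4_K) [g807] [g820] 0 0 0 0 0 :=
  BT.sound ct_nc42_39_cnt_P Known.nil (t := ct_nc42_39_cnt_t) (d := 0) (by decide +kernel)

theorem ct_nc42_39 : ¬ CjIn (grp 276 tt_c4_K) (Net.toPerm 276 g807) (Net.toPerm 276 g820) :=
  not_cjIn ct_nc42_39_cnt

noncomputable def ct_nc42_40_cnt_L : List ℕ := [0, 15, TC_s0_O, 0, 0]

theorem ct_nc42_40_cnt_P : Prob 276 9 (grp 276 tt_c4_K) ct_nc42_40_cnt_EG [g807] [g822] ct_c40_K ct_nc42_40_cnt_L 0 0 :=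
  Sym.prob hn hk ct_c40_sym ct_nc42_40_cnt_EG_ok (grp_nil_le _) (Frames.cons TC_s0_F Frames.nil) (okE_cons.2 ⟨g807_ok, okE_nil _⟩) _

noncomputable def ct_nc42_40_cnt_t : BT := (BT.frm (nat_lit 0) (nat_lit 0) (nat_lit 0) [] (BT.pln (nat_lit 0) (nat_lit 2) (BT.fix (nat_lit 257) (BT.and (nat_lit 1) (nat_lit 0) (BT.cnt (nat_lit 0))))))

theorem ct_nc42_40_cnt : Cnt 276 (grp 276 tt_c4_K) [g807] [g822] 0 0 0 0 0 :=
  BT.sound ct_nc42_40_cnt_P Known.nil (t := ct_nc42_40_cnt_t) (d := 0) (by decide +kernel)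

theorem ct_nc42_40 : ¬ CjIn (grp 276 tt_c4_K) (Net.toPerm 276 g807) (Net.toPerm 276 g822) :=
  not_cjIn ct_nc42_40_cnt

noncomputable def ct_nc42_41_cnt_L : List ℕ := [0, 15, TC_s0_O, 0, 0]

theorem ct_nc42_41_cnt_P : Prob 276 9 (grp 276 tt_c4_K) ct_nc42_41_cnt_EG [g807] [g716] ct_c41_K ct_nc42_41_cnt_L 0 0 :=
  Sym.prob hn hk ct_c41_sym ct_nc42_41_cnt_EG_ok (grp_nil_le _) (Frames.cons TC_s0_F Frames.nil) (okE_cons.2 ⟨g807_ok, okE_nil _⟩) _

noncomputable def ct_nc42_41_cnt_t : BT := (BT.frm (nat_lit 0) (nat_lit 0) (nat_lit 0) [] (BT.pln (nat_lit 0) (nat_lit 5) (BT.fix (nat_lit 257) (BT.and (nat_lit 1) (nat_lit 0) (BT.cnt (nat_lit 0))))))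

theorem ct_nc42_41_cnt : Cnt 276 (grp 276 tt_c4_K) [g807] [g716] 0 0 0 0 0 :=
  BT.sound ct_nc42_41_cnt_P Known.nil (t := ct_nc42_41_cnt_t) (d := 0) (by decide +kernel)

theorem ct_nc42_41 : ¬ CjIn (grp 276 tt_c4_K) (Net.toPerm 276 g807) (Net.toPerm 276 g716) :=
  not_cjIn ct_nc42_41_cnt

noncomputable def ct_nc43_18_cnt_L : List ℕ := [0, 15, TC_s0_O, 0, 0]

theorem ct_nc43_18_cnt_P : Prob 276 9 (grp 276 tt_c4_K) ct_nc43_18_cnt_EG [g537] [g712] ct_c18_K ct_nc43_18_cnt_L 0 0 :=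
  Sym.prob hn hk ct_c18_sym ct_nc43_18_cnt_EG_ok (grp_nil_le _) (Frames.cons TC_s0_F Frames.nil) (okE_cons.2 ⟨g537_ok, okE_nil _⟩) _

noncomputable def ct_nc43_18_cnt_t : BT := (BT.frm (nat_lit 0) (nat_lit 0) (nat_lit 0) [] (BT.pln (nat_lit 0) (nat_lit 4) (BT.fix (nat_lit 1) (BT.and (nat_lit 1) (nat_lit 0) (BT.cnt (nat_lit 0))))))

theorem ct_nc43_18_cnt : Cnt 276 (grp 276 tt_c4_K) [g537] [g712] 0 0 0 0 0 :=
  BT.sound ct_nc43_18_cnt_P Known.nil (t := ct_nc43_18_cnt_t) (d := 0) (by decide +kernel)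

theorem ct_nc43_18 : ¬ CjIn (grp 276 tt_c4_K) (Net.toPerm 276 g537) (Net.toPerm 276 g712) :=
  not_cjIn ct_nc43_18_cnt

noncomputable def ct_nc43_22_cnt_L : List ℕ := [0, 15, TC_s0_O, 0, 0]

theorem ct_nc43_22_cnt_P : Prob 276 9 (grp 276 tt_c4_K) ct_nc43_22_cnt_EG [g537] [g794] ct_c22_K ct_nc43_22_cnt_L 0 0 :=
  Sym.prob hn hk ct_c22_sym ct_nc43_22_cnt_EG_ok (grp_nil_le _) (Frames.cons TC_s0_F Frames.nil) (okE_cons.2 ⟨g537_ok, okE_nil _⟩) _

noncomputable def ct_nc43_22_cnt_t : BT := (BT.frm (nat_lit 0) (nat_lit 0) (nat_lit 0) [] (BT.pln (nat_lit 0) (nat_lit 2) (BT.fix (nat_lit 1) (BT.and (nat_lit 1) (nat_lit 0) (BT.cnt (nat_lit 0))))))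

theorem ct_nc43_22_cnt : Cnt 276 (grp 276 tt_c4_K) [g537] [g794] 0 0 0 0 0 :=
  BT.sound ct_nc43_22_cnt_P Known.nil (t := ct_nc43_22_cnt_t) (d := 0) (by decide +kernel)

theorem ct_nc43_22 : ¬ CjIn (grp 276 tt_c4_K) (Net.toPerm 276 g537) (Net.toPerm 276 g794) :=
  not_cjIn ct_nc43_22_cnt

noncomputable def ct_nc43_23_cnt_L : List ℕ := [0, 15, TC_s0_O, 0, 0]

theorem ct_nc43_23_cnt_P : Prob 276 9 (grp 276 tt_c4_K) ct_nc43_23_cnt_EG [g537] [g797] ct_c23_K ct_nc43_23_cnt_L 0 0 :=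
  Sym.prob hn hk ct_c23_sym ct_nc43_23_cnt_EG_ok (grp_nil_le _) (Frames.cons TC_s0_F Frames.nil) (okE_cons.2 ⟨g537_ok, okE_nil _⟩) _

noncomputable def ct_nc43_23_cnt_t : BT := (BT.frm (nat_lit 0) (nat_lit 0) (nat_lit 0) [] (BT.pln (nat_lit 0) (nat_lit 1) (BT.fix (nat_lit 1) (BT.and (nat_lit 1) (nat_lit 0) (BT.cnt (nat_lit 0))))))

theorem ct_nc43_23_cnt : Cnt 276 (grp 276 tt_c4_K) [g537] [g797] 0 0 0 0 0 :=
  BT.sound ct_nc43_23_cnt_P Known.nil (t := ct_nc43_23_cnt_t) (d := 0) (by decide +kernel)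

theorem ct_nc43_23 : ¬ CjIn (grp 276 tt_c4_K) (Net.toPerm 276 g537) (Net.toPerm 276 g797) :=
  not_cjIn ct_nc43_23_cnt

noncomputable def ct_nc43_30_cnt_L : List ℕ := [0, 15, TC_s0_O, 0, 0]

theorem ct_nc43_30_cnt_P : Prob 276 9 (grp 276 tt_c4_K) ct_nc43_30_cnt_EG [g537] [g522] ct_c30_K ct_nc43_30_cnt_L 0 0 :=
  Sym.prob hn hk ct_c30_sym ct_nc43_30_cnt_EG_ok (grp_nil_le _) (Frames.cons TC_s0_F Frames.nil) (okE_cons.2 ⟨g537_ok, okE_nil _⟩) _

noncomputable def ct_nc43_30_cnt_t : BT := (BT.frm (nat_lit 0) (nat_lit 0) (nat_lit 0) [] (BT.pln (nat_lit 0) (nat_lit 5) (BT.fix (nat_lit 1) (BT.and (nat_lit 1) (nat_lit 0) (BT.cnt (nat_lit 0))))))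

theorem ct_nc43_30_cnt : Cnt 276 (grp 276 tt_c4_K) [g537] [g522] 0 0 0 0 0 :=
  BT.sound ct_nc43_30_cnt_P Known.nil (t := ct_nc43_30_cnt_t) (d := 0) (by decide +kernel)

theorem ct_nc43_30 : ¬ CjIn (grp 276 tt_c4_K) (Net.toPerm 276 g537) (Net.toPerm 276 g522) :=
  not_cjIn ct_nc43_30_cnt

noncomputable def ct_nc43_33_cnt_L : List ℕ := [0, 15, TC_s0_O, 0, 0]

theorem ct_nc43_33_cnt_P : Prob 276 9 (grp 276 tt_c4_K) ct_nc43_33_cnt_EG [g537] [g544] ct_c33_K ct_nc43_33_cnt_L 0 0 :=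
  Sym.prob hn hk ct_c33_sym ct_nc43_33_cnt_EG_ok (grp_nil_le _) (Frames.cons TC_s0_F Frames.nil) (okE_cons.2 ⟨g537_ok, okE_nil _⟩) _

noncomputable def ct_nc43_33_cnt_t : BT := (BT.frm (nat_lit 0) (nat_lit 0) (nat_lit 0) [] (BT.pln (nat_lit 0) (nat_lit 3) (BT.fix (nat_lit 1) (BT.and (nat_lit 1) (nat_lit 0) (BT.cnt (nat_lit 0))))))

theorem ct_nc43_33_cnt : Cnt 276 (grp 276 tt_c4_K) [g537] [g544] 0 0 0 0 0 :=
  BT.sound ct_nc43_33_cnt_P Known.nil (t := ct_nc43_33_cnt_t) (d := 0) (by decide +kernel)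

theorem ct_nc43_33 : ¬ CjIn (grp 276 tt_c4_K) (Net.toPerm 276 g537) (Net.toPerm 276 g544) :=
  not_cjIn ct_nc43_33_cnt

noncomputable def ct_nc43_37_cnt_L : List ℕ := [0, 15, TC_s0_O, 0, 0]

theorem ct_nc43_37_cnt_P : Prob 276 9 (grp 276 tt_c4_K) ct_nc43_37_cnt_EG [g537] [g817] ct_c37_K ct_nc43_37_cnt_L 0 0 :=
  Sym.prob hn hk ct_c37_sym ct_nc43_37_cnt_EG_ok (grp_nil_le _) (Frames.cons TC_s0_F Frames.nil) (okE_cons.2 ⟨g537_ok, okE_nil _⟩) _

noncomputable def ct_nc43_37_cnt_t : BT := (BT.frm (nat_lit 0) (nat_lit 0) (nat_lit 0) [] (BT.pln (nat_lit 0) (nat_lit 0) (BT.fix (nat_lit 1) (BT.and (nat_lit 1) (nat_lit 0) (BT.cnt (nat_lit 0))))))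

theorem ct_nc43_37_cnt : Cnt 276 (grp 276 tt_c4_K) [g537] [g817] 0 0 0 0 0 :=
  BT.sound ct_nc43_37_cnt_P Known.nil (t := ct_nc43_37_cnt_t) (d := 0) (by decide +kernel)

theorem ct_nc43_37 : ¬ CjIn (grp 276 tt_c4_K) (Net.toPerm 276 g537) (Net.toPerm 276 g817) :=
  not_cjIn ct_nc43_37_cnt

theorem ct_exc : Exc 276 (grp 276 tt_c4_K) ct_xs [43037, 43033, 43030, 43023, 43022, 43018, 42041, 42040, 42039, 42038, 42036, 42035, 42034, 42032, 42031, 42029, 42028, 42027, 42026, 42025, 42024, 42021, 42020, 42019, 42017, 42016, 41040, 41039, 41038, 41036, 41035, 41034, 41032, 41031, 41029, 41028, 41027, 41026, 41025, 41024, 41021, 41020, 41019, 41017, 41016, 40039, 40038, 40036, 40035, 40034, 40032, 40031, 40029, 40028, 40027, 40026, 40025, 40024, 40021, 40020, 40019, 40017, 40016, 39038, 39036, 39035, 39034, 39032, 39031, 39029, 39028, 39027, 39026, 39025, 39024, 39021, 39020, 39019, 39017, 39016, 38036, 38035, 38034, 38032, 38031, 38029, 38028, 38027, 38026,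 38025, 38024, 38021, 38020, 38019, 38017, 38016, 37033, 37030, 37023, 37022, 37018, 36035, 36034, 36032, 36031, 36029, 36028, 36027, 36026, 36025, 36024, 36021, 36020, 36019, 36017, 36016, 35034, 35032, 35031, 35029, 35028, 35027, 35026, 35025, 35024, 35021, 35020, 35019, 35017, 35016, 34032, 34031, 34029, 34028, 34027, 34026, 34025, 34024, 34021, 34020, 34019, 34017, 34016, 33030, 33023, 33022, 33018, 32031, 32029, 32028, 32027, 32026, 32025, 32024, 32021, 32020, 32019, 32017, 32016, 31029, 31028, 31027, 31026, 31025, 31024, 31021, 31020, 31019, 31017, 31016, 30023, 30022, 30018, 29028, 29027, 29026, 29025, 29024, 29021, 29020, 29019, 29017, 29016, 28027, 28026, 28025, 28024, 28021, 28020, 28019, 28017, 28016, 27026, 27025, 27024, 27021, 27020, 27019, 27017, 27016, 26025, 26024, 26021, 26020, 26019, 26017, 26016, 25024, 25021, 25020, 25019, 25017, 25016, 24021, 24020, 24019, 24017, 24016, 23022, 23018, 22018, 21020, 21019, 21017, 21016, 20019,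 20017, 20016, 19017, 19016, 17016, 15014, 15013, 15012, 15011, 15010, 15009, 14013, 14012, 14011, 14010, 14009, 13012, 13011, 13010, 13009, 12011, 12010, 12009, 11010, 11009, 10009, 7006, 7005, 7004, 7003, 7002, 7001, 6005, 6004, 6003, 6002, 6001, 5004, 5003, 5002, 5001, 4003, 4002, 4001, 3002, 3001, 2001] :=
  (Exc.cons 43 37 (by decide) ct_nc43_37 (Exc.cons 43 33 (by decide) ct_nc43_33 (Exc.cons 43 30 (by decide) ct_nc43_30 (Exc.cons 43 23 (by decide) ct_nc43_23 (Exc.cons 43 22 (by decide) ct_nc43_22 (Exc.cons 43 18 (by decide) ct_nc43_18 (Exc.cons 42 41 (by decide) ct_nc42_41 (Exc.cons 42 40 (by decide) ct_nc42_40 (Exc.cons 42 39 (by decide) ct_nc42_39 (Exc.cons 42 38 (by decide) ct_nc42_38 (Exc.cons 42 36 (by decide) ct_nc42_36 (Exc.cons 42 35 (by decide) ct_nc42_35 (Exc.cons 42 34 (by decide) ct_nc42_34 (Exc.cons 42 32 (by decide) ct_nc42_32 (Exc.cons 42 31 (by decide) ct_nc42_31 (Exc.cons 42 29 (by decide) ct_nc42_29 (Exc.cons 42 28 (by decide)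 ct_nc42_28 (Exc.cons 42 27 (by decide) ct_nc42_27 (Exc.cons 42 26 (by decide) ct_nc42_26 (Exc.cons 42 25 (by decide) ct_nc42_25 (Exc.cons 42 24 (by decide) ct_nc42_24 (Exc.cons 42 21 (by decide) ct_nc42_21 (Exc.cons 42 20 (by decide) ct_nc42_20 (Exc.cons 42 19 (by decide) ct_nc42_19 (Exc.cons 42 17 (by decide) ct_nc42_17 (Exc.cons 42 16 (by decide) ct_nc42_16 (Exc.cons 41 40 (by decide) ct_nc41_40 (Exc.cons 41 39 (by decide) ct_nc41_39 (Exc.cons 41 38 (by decide) ct_nc41_38 (Exc.cons 41 36 (by decide) ct_nc41_36 (Exc.cons 41 35 (by decide) ct_nc41_35 (Exc.cons 41 34 (by decide) ct_nc41_34 (Exc.cons 41 32 (by decide) ct_nc41_32 (Exc.cons 41 31 (by decide) ct_nc41_31 (Exc.cons 41 29 (by decide) ct_nc41_29 (Exc.cons 41 28 (by decide) ct_nc41_28 (Exc.cons 41 27 (by decide) ct_nc41_27 (Exc.cons 41 26 (by decide) ct_nc41_26 (Exc.cons 41 25 (by decide) ct_nc41_25 (Exc.cons 41 24 (by decide) ct_nc41_24 (Exc.cons 41 21 (by decide) ct_nc41_21 (Exc.cons 41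 20 (by decide) ct_nc41_20 (Exc.cons 41 19 (by decide) ct_nc41_19 (Exc.cons 41 17 (by decide) ct_nc41_17 (Exc.cons 41 16 (by decide) ct_nc41_16 (Exc.cons 40 39 (by decide) ct_nc40_39 (Exc.cons 40 38 (by decide) ct_nc40_38 (Exc.cons 40 36 (by decide) ct_nc40_36 (Exc.cons 40 35 (by decide) ct_nc40_35 (Exc.cons 40 34 (by decide) ct_nc40_34 (Exc.cons 40 32 (by decide) ct_nc40_32 (Exc.cons 40 31 (by decide) ct_nc40_31 (Exc.cons 40 29 (by decide) ct_nc40_29 (Exc.cons 40 28 (by decide) ct_nc40_28 (Exc.cons 40 27 (by decide) ct_nc40_27 (Exc.cons 40 26 (by decide) ct_nc40_26 (Exc.cons 40 25 (by decide) ct_nc40_25 (Exc.cons 40 24 (by decide) ct_nc40_24 (Exc.cons 40 21 (by decide) ct_nc40_21 (Exc.cons 40 20 (by decide) ct_nc40_20 (Exc.cons 40 19 (by decide) ct_nc40_19 (Exc.cons 40 17 (by decide) ct_nc40_17 (Exc.cons 40 16 (by decide) ct_nc40_16 (Exc.cons 39 38 (by decide) ct_nc39_38 (Exc.cons 39 36 (by decide) ct_nc39_36 (Exc.cons 39 35 (by decide) ct_nc39_35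 (Exc.cons 39 34 (by decide) ct_nc39_34 (Exc.cons 39 32 (by decide) ct_nc39_32 (Exc.cons 39 31 (by decide) ct_nc39_31 (Exc.cons 39 29 (by decide) ct_nc39_29 (Exc.cons 39 28 (by decide) ct_nc39_28 (Exc.cons 39 27 (by decide) ct_nc39_27 (Exc.cons 39 26 (by decide) ct_nc39_26 (Exc.cons 39 25 (by decide) ct_nc39_25 (Exc.cons 39 24 (by decide) ct_nc39_24 (Exc.cons 39 21 (by decide) ct_nc39_21 (Exc.cons 39 20 (by decide) ct_nc39_20 (Exc.cons 39 19 (by decide) ct_nc39_19 (Exc.cons 39 17 (by decide) ct_nc39_17 (Exc.cons 39 16 (by decide) ct_nc39_16 (Exc.cons 38 36 (by decide) ct_nc38_36 (Exc.cons 38 35 (by decide) ct_nc38_35 (Exc.cons 38 34 (by decide) ct_nc38_34 (Exc.cons 38 32 (by decide) ct_nc38_32 (Exc.cons 38 31 (by decide) ct_nc38_31 (Exc.cons 38 29 (by decide) ct_nc38_29 (Exc.cons 38 28 (by decide) ct_nc38_28 (Exc.cons 38 27 (by decide) ct_nc38_27 (Exc.cons 38 26 (by decide) ct_nc38_26 (Exc.cons 38 25 (by decide) ct_nc38_25 (Exc.cons 38 24 (by decide)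 ct_nc38_24 (Exc.cons 38 21 (by decide) ct_nc38_21 (Exc.cons 38 20 (by decide) ct_nc38_20 (Exc.cons 38 19 (by decide) ct_nc38_19 (Exc.cons 38 17 (by decide) ct_nc38_17 (Exc.cons 38 16 (by decide) ct_nc38_16 (Exc.cons 37 33 (by decide) ct_nc37_33 (Exc.cons 37 30 (by decide) ct_nc37_30 (Exc.cons 37 23 (by decide) ct_nc37_23 (Exc.cons 37 22 (by decide) ct_nc37_22 (Exc.cons 37 18 (by decide) ct_nc37_18 (Exc.cons 36 35 (by decide) ct_nc36_35 (Exc.cons 36 34 (by decide) ct_nc36_34 (Exc.cons 36 32 (by decide) ct_nc36_32 (Exc.cons 36 31 (by decide) ct_nc36_31 (Exc.cons 36 29 (by decide) ct_nc36_29 (Exc.cons 36 28 (by decide) ct_nc36_28 (Exc.cons 36 27 (by decide) ct_nc36_27 (Exc.cons 36 26 (by decide) ct_nc36_26 (Exc.cons 36 25 (by decide) ct_nc36_25 (Exc.cons 36 24 (by decide) ct_nc36_24 (Exc.cons 36 21 (by decide) ct_nc36_21 (Exc.cons 36 20 (by decide) ct_nc36_20 (Exc.cons 36 19 (by decide) ct_nc36_19 (Exc.cons 36 17 (by decide) ct_nc36_17 (Exc.cons 36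 16 (by decide) ct_nc36_16 (Exc.cons 35 34 (by decide) ct_nc35_34 (Exc.cons 35 32 (by decide) ct_nc35_32 (Exc.cons 35 31 (by decide) ct_nc35_31 (Exc.cons 35 29 (by decide) ct_nc35_29 (Exc.cons 35 28 (by decide) ct_nc35_28 (Exc.cons 35 27 (by decide) ct_nc35_27 (Exc.cons 35 26 (by decide) ct_nc35_26 (Exc.cons 35 25 (by decide) ct_nc35_25 (Exc.cons 35 24 (by decide) ct_nc35_24 (Exc.cons 35 21 (by decide) ct_nc35_21 (Exc.cons 35 20 (by decide) ct_nc35_20 (Exc.cons 35 19 (by decide) ct_nc35_19 (Exc.cons 35 17 (by decide) ct_nc35_17 (Exc.cons 35 16 (by decide) ct_nc35_16 (Exc.cons 34 32 (by decide) ct_nc34_32 (Exc.cons 34 31 (by decide) ct_nc34_31 (Exc.cons 34 29 (by decide) ct_nc34_29 (Exc.cons 34 28 (by decide) ct_nc34_28 (Exc.cons 34 27 (by decide) ct_nc34_27 (Exc.cons 34 26 (by decide) ct_nc34_26 (Exc.cons 34 25 (by decide) ct_nc34_25 (Exc.cons 34 24 (by decide) ct_nc34_24 (Exc.cons 34 21 (by decide) ct_nc34_21 (Exc.cons 34 20 (by decide) ct_nc34_20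 (Exc.cons 34 19 (by decide) ct_nc34_19 (Exc.cons 34 17 (by decide) ct_nc34_17 (Exc.cons 34 16 (by decide) ct_nc34_16 (Exc.cons 33 30 (by decide) ct_nc33_30 (Exc.cons 33 23 (by decide) ct_nc33_23 (Exc.cons 33 22 (by decide) ct_nc33_22 (Exc.cons 33 18 (by decide) ct_nc33_18 (Exc.cons 32 31 (by decide) ct_nc32_31 (Exc.cons 32 29 (by decide) ct_nc32_29 (Exc.cons 32 28 (by decide) ct_nc32_28 (Exc.cons 32 27 (by decide) ct_nc32_27 (Exc.cons 32 26 (by decide) ct_nc32_26 (Exc.cons 32 25 (by decide) ct_nc32_25 (Exc.cons 32 24 (by decide) ct_nc32_24 (Exc.cons 32 21 (by decide) ct_nc32_21 (Exc.cons 32 20 (by decide) ct_nc32_20 (Exc.cons 32 19 (by decide) ct_nc32_19 (Exc.cons 32 17 (by decide) ct_nc32_17 (Exc.cons 32 16 (by decide) ct_nc32_16 (Exc.cons 31 29 (by decide) ct_nc31_29 (Exc.cons 31 28 (by decide) ct_nc31_28 (Exc.cons 31 27 (by decide) ct_nc31_27 (Exc.cons 31 26 (by decide) ct_nc31_26 (Exc.cons 31 25 (by decide) ct_nc31_25 (Exc.cons 31 24 (by decide)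 ct_nc31_24 (Exc.cons 31 21 (by decide) ct_nc31_21 (Exc.cons 31 20 (by decide) ct_nc31_20 (Exc.cons 31 19 (by decide) ct_nc31_19 (Exc.cons 31 17 (by decide) ct_nc31_17 (Exc.cons 31 16 (by decide) ct_nc31_16 (Exc.cons 30 23 (by decide) ct_nc30_23 (Exc.cons 30 22 (by decide) ct_nc30_22 (Exc.cons 30 18 (by decide) ct_nc30_18 (Exc.cons 29 28 (by decide) ct_nc29_28 (Exc.cons 29 27 (by decide) ct_nc29_27 (Exc.cons 29 26 (by decide) ct_nc29_26 (Exc.cons 29 25 (by decide) ct_nc29_25 (Exc.cons 29 24 (by decide) ct_nc29_24 (Exc.cons 29 21 (by decide) ct_nc29_21 (Exc.cons 29 20 (by decide) ct_nc29_20 (Exc.cons 29 19 (by decide) ct_nc29_19 (Exc.cons 29 17 (by decide) ct_nc29_17 (Exc.cons 29 16 (by decide) ct_nc29_16 (Exc.cons 28 27 (by decide) ct_nc28_27 (Exc.cons 28 26 (by decide) ct_nc28_26 (Exc.cons 28 25 (by decide) ct_nc28_25 (Exc.cons 28 24 (by decide) ct_nc28_24 (Exc.cons 28 21 (by decide) ct_nc28_21 (Exc.cons 28 20 (by decide) ct_nc28_20 (Exc.cons 28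 19 (by decide) ct_nc28_19 (Exc.cons 28 17 (by decide) ct_nc28_17 (Exc.cons 28 16 (by decide) ct_nc28_16 (Exc.cons 27 26 (by decide) ct_nc27_26 (Exc.cons 27 25 (by decide) ct_nc27_25 (Exc.cons 27 24 (by decide) ct_nc27_24 (Exc.cons 27 21 (by decide) ct_nc27_21 (Exc.cons 27 20 (by decide) ct_nc27_20 (Exc.cons 27 19 (by decide) ct_nc27_19 (Exc.cons 27 17 (by decide) ct_nc27_17 (Exc.cons 27 16 (by decide) ct_nc27_16 (Exc.cons 26 25 (by decide) ct_nc26_25 (Exc.cons 26 24 (by decide) ct_nc26_24 (Exc.cons 26 21 (by decide) ct_nc26_21 (Exc.cons 26 20 (by decide) ct_nc26_20 (Exc.cons 26 19 (by decide) ct_nc26_19 (Exc.cons 26 17 (by decide) ct_nc26_17 (Exc.cons 26 16 (by decide) ct_nc26_16 (Exc.cons 25 24 (by decide) ct_nc25_24 (Exc.cons 25 21 (by decide) ct_nc25_21 (Exc.cons 25 20 (by decide) ct_nc25_20 (Exc.cons 25 19 (by decide) ct_nc25_19 (Exc.cons 25 17 (by decide) ct_nc25_17 (Exc.cons 25 16 (by decide) ct_nc25_16 (Exc.cons 24 21 (by decide) ct_nc24_21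 (Exc.cons 24 20 (by decide) ct_nc24_20 (Exc.cons 24 19 (by decide) ct_nc24_19 (Exc.cons 24 17 (by decide) ct_nc24_17 (Exc.cons 24 16 (by decide) ct_nc24_16 (Exc.cons 23 22 (by decide) ct_nc23_22 (Exc.cons 23 18 (by decide) ct_nc23_18 (Exc.cons 22 18 (by decide) ct_nc22_18 (Exc.cons 21 20 (by decide) ct_nc21_20 (Exc.cons 21 19 (by decide) ct_nc21_19 (Exc.cons 21 17 (by decide) ct_nc21_17 (Exc.cons 21 16 (by decide) ct_nc21_16 (Exc.cons 20 19 (by decide) ct_nc20_19 (Exc.cons 20 17 (by decide) ct_nc20_17 (Exc.cons 20 16 (by decide) ct_nc20_16 (Exc.cons 19 17 (by decide) ct_nc19_17 (Exc.cons 19 16 (by decide) ct_nc19_16 (Exc.cons 17 16 (by decide) ct_nc17_16 (Exc.cons 15 14 (by decide) ct_nc15_14 (Exc.cons 15 13 (by decide) ct_nc15_13 (Exc.cons 15 12 (by decide) ct_nc15_12 (Exc.cons 15 11 (by decide) ct_nc15_11 (Exc.cons 15 10 (by decide) ct_nc15_10 (Exc.cons 15 9 (by decide) ct_nc15_9 (Exc.cons 14 13 (by decide) ct_nc14_13 (Exc.cons 14 12 (by decide)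 ct_nc14_12 (Exc.cons 14 11 (by decide) ct_nc14_11 (Exc.cons 14 10 (by decide) ct_nc14_10 (Exc.cons 14 9 (by decide) ct_nc14_9 (Exc.cons 13 12 (by decide) ct_nc13_12 (Exc.cons 13 11 (by decide) ct_nc13_11 (Exc.cons 13 10 (by decide) ct_nc13_10 (Exc.cons 13 9 (by decide) ct_nc13_9 (Exc.cons 12 11 (by decide) ct_nc12_11 (Exc.cons 12 10 (by decide) ct_nc12_10 (Exc.cons 12 9 (by decide) ct_nc12_9 (Exc.cons 11 10 (by decide) ct_nc11_10 (Exc.cons 11 9 (by decide) ct_nc11_9 (Exc.cons 10 9 (by decide) ct_nc10_9 (Exc.cons 7 6 (by decide) ct_nc7_6 (Exc.cons 7 5 (by decide) ct_nc7_5 (Exc.cons 7 4 (by decide) ct_nc7_4 (Exc.cons 7 3 (by decide) ct_nc7_3 (Exc.cons 7 2 (by decide) ct_nc7_2 (Exc.cons 7 1 (by decide) ct_nc7_1 (Exc.cons 6 5 (by decide) ct_nc6_5 (Exc.cons 6 4 (by decide) ct_nc6_4 (Exc.cons 6 3 (by decide) ct_nc6_3 (Exc.cons 6 2 (by decide) ct_nc6_2 (Exc.cons 6 1 (by decide) ct_nc6_1 (Exc.cons 5 4 (by decide) ct_nc5_4 (Exc.cons 5 3 (by decide) ct_nc5_3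 (Exc.cons 5 2 (by decide) ct_nc5_2 (Exc.cons 5 1 (by decide) ct_nc5_1 (Exc.cons 4 3 (by decide) ct_nc4_3 (Exc.cons 4 2 (by decide) ct_nc4_2 (Exc.cons 4 1 (by decide) ct_nc4_1 (Exc.cons 3 2 (by decide) ct_nc3_2 (Exc.cons 3 1 (by decide) ct_nc3_1 (Exc.cons 2 1 (by decide) ct_nc2_1 Exc.nil)))))))))))))))))))))))))))))))))))))))))))))))))))))))))))))))))))))))))))))))))))))))))))))))))))))))))))))))))))))))))))))))))))))))))))))))))))))))))))))))))))))))))))))))))))))))))))))))))))))))))))))))))))))))))))))))))))))))))))))))))))))))))))))))))))))))))))))))))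

theorem ct : Table 276 (grp 276 tt_c4_K) ct_xs ct_cs ct_os :=
  Reps.table (D := 2) hn hk ct_reps ct_exc c_card2 (by decide +kernel)

theorem ct_v9 : CjIn (grp 276 h_K) (Net.toPerm 276 g742) (Net.toPerm 276 n_v) :=
  cjIn_of_cjB hn hk h_K_ok g742_ok n_v_ok (w := (nat_lit 0xd07070508030508010505)) (by decide +kernel)

theorem ct_v10 : CjIn (grp 276 h_K) (Net.toPerm 276 g749) (Net.toPerm 276 n_v) :=
  cjIn_of_cjB hn hk h_K_ok g749_ok n_v_ok (w := (nat_lit 0xd0b070705070703050405010f)) (by decide +kernel)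

theorem ct_v11 : CjIn (grp 276 h_K) (Net.toPerm 276 g751) (Net.toPerm 276 n_v) :=
  cjIn_of_cjB hn hk h_K_ok g751_ok n_v_ok (w := (nat_lit 0xd05050904050502)) (by decide +kernel)

theorem ct_v12 : CjIn (grp 276 h_K) (Net.toPerm 276 g757) (Net.toPerm 276 n_v) :=
  cjIn_of_cjB hn hk h_K_ok g757_ok n_v_ok (w := (nat_lit 0xd090b070907050507030504010109)) (by decide +kernel)

theorem ct_v13 : CjIn (grp 276 h_K) (Net.toPerm 276 g764) (Net.toPerm 276 n_v) :=
  cjIn_of_cjB hn hk h_K_ok g764_ok n_v_ok (w := (nat_lit 0xf0d090b070905050d04070301)) (by decide +kernel)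

theorem ct_v14 : CjIn (grp 276 h_K) (Net.toPerm 276 g771) (Net.toPerm 276 n_v) :=
  cjIn_of_cjB hn hk h_K_ok g771_ok n_v_ok (w := (nat_lit 0xf09070d060406010105)) (by decide +kernel)

theorem ct_v15 : CjIn (grp 276 h_K) (Net.toPerm 276 g779) (Net.toPerm 276 n_v) :=
  cjIn_of_cjB hn hk h_K_ok g779_ok n_v_ok (w := (nat_lit 0xf0d09070606040d03010103)) (by decide +kernel)

theorem xK_le : grp 276 ct_c8_K ≤ grp 276 EV :=
  grp_le_of_memB hn hk EV_ok ct_c8_K_ok (ws := [nat_lit 7, nat_lit 1, nat_lit 3, nat_lit 773]) (by decide +kernel)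

theorem cj_tu : CjIn (grp 276 h_K) (Net.toPerm 276 n_tu) (Net.toPerm 276 n_u) :=
  cjIn_of_cjB hn hk h_K_ok n_tu_ok n_u_ok (w := (nat_lit 0x70706040504010108)) (by decide +kernel)

theorem cj_w : CjIn (grp 276 h_K) (Net.toPerm 276 n_w) (Net.toPerm 276 n_u) :=
  cjIn_of_cjB hn hk h_K_ok n_w_ok n_u_ok (w := (nat_lit 0xf0d0b070905080504050306010103)) (by decide +kernel)

theorem cj_x : CjIn (grp 276 h_K) (Net.toPerm 276 n_x) (Net.toPerm 276 n_u) :=
  cjIn_of_cjB hn hk h_K_ok n_x_ok n_u_ok (w := (nat_lit 0xd0b07070507030607010501)) (by decide +kernel)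

theorem le828 : grp 276 V827 ≤ grp 276 EM :=
  grp_le_of_memB hn hk EM_ok V827_ok (ws := [nat_lit 7]) (by decide +kernel)

theorem le832 : grp 276 V831 ≤ grp 276 EM :=
  grp_le_of_memB hn hk EM_ok V831_ok (ws := [nat_lit 0x2090101010a03010a02, nat_lit 0x50709080103010302]) (by decide +kernel)

theorem le835 : grp 276 V834 ≤ grp 276 V831 :=
  grp_le_of_memB hn hk V831_ok V834_ok (ws := [nat_lit 4]) (by decide +kernel)

theorem le839 : grp 276 V838 ≤ grp 276 V831 :=
  grp_le_of_memB hn hk V831_ok V838_ok (ws := [nat_lit 0x30204020302, nat_lit 0x10103020203010303]) (by decide +kernel)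

theorem le842 : grp 276 V841 ≤ grp 276 V838 :=
  grp_le_of_memB hn hk V838_ok V841_ok (ws := [nat_lit 259]) (by decide +kernel)

theorem le846 : grp 276 V845 ≤ grp 276 V838 :=
  grp_le_of_memB hn hk V838_ok V845_ok (ws := [nat_lit 0x2020404010401, nat_lit 1025]) (by decide +kernel)

theorem le849 : grp 276 V848 ≤ grp 276 V845 :=
  grp_le_of_memB hn hk V845_ok V848_ok (ws := [nat_lit 257]) (by decide +kernel)

theorem le854 : grp 276 V853 ≤ grp 276 V845 :=
  grp_le_of_memB hn hk V845_ok V853_ok (ws := [nat_lit 0x20204020204040202, nat_lit 769, nat_lit 0x302030103030302]) (by decide +kernel)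

theorem le856 : grp 276 V855 ≤ grp 276 V853 :=
  grp_le_of_memB hn hk V853_ok V855_ok (ws := [nat_lit 1]) (by decide +kernel)

theorem le860 : grp 276 V859 ≤ grp 276 V853 :=
  grp_le_of_memB hn hk V853_ok V859_ok (ws := [nat_lit 0x4040204060402040402, nat_lit 0x4020203, nat_lit 0x1060602060602060404]) (by decide +kernel)

theorem le863 : grp 276 V862 ≤ grp 276 V859 :=
  grp_le_of_memB hn hk V859_ok V862_ok (ws := [nat_lit 2]) (by decide +kernel)

theorem le866 : grp 276 V865 ≤ grp 276 V859 :=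
  grp_le_of_memB hn hk V859_ok V865_ok (ws := [nat_lit 0x1050103020204020502, nat_lit 0x10105030103020501060603, nat_lit 0x305010104020202030502, nat_lit 0x3050302020406040603]) (by decide +kernel)

theorem le870 : grp 276 V869 ≤ grp 276 V865 :=
  grp_le_of_memB hn hk V865_ok V869_ok (ws := [nat_lit 259, nat_lit 66309, nat_lit 261, nat_lit 66823]) (by decide +kernel)

theorem mo_card7 : Nat.card (grp 276 mo_E7) = 1 :=
  card_grp_nil 276

theorem mo_leO7 : grp 276 mo_E7 ≤ grp 276 EM :=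
  grp_nil_le _

theorem mo_6_fix : grp 276 mo_E7 ≤ MulAction.stabilizer (Equiv.Perm (Fin 276)) (⟨2, by decide⟩ : Fin 276) :=
  grp_le_stab mo_E7_ok (by decide : 2 < 276) (by decide +kernel)

noncomputable def mo_6_ts : List ℕ := [nat_lit 0, nat_lit 1, nat_lit 3, nat_lit 5, nat_lit 7, nat_lit 259, nat_lit 261, nat_lit 263, nat_lit 773, nat_lit 775, nat_lit 1287, nat_lit 66309, nat_lit 66311, nat_lit 66823, nat_lit 197895, nat_lit 0x1030507]

noncomputable def mo_6_ds : List ℕ := [nat_lit 2, nat_lit 10, nat_lit 178, nat_lit 131, nat_lit 164, nat_lit 180, nat_lit 6, nat_lit 203, nat_lit 54, nat_lit 61, nat_lit 106, nat_lit 117, nat_lit 39, nat_lit 3, nat_lit 49, nat_lit 64]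

theorem mo_6_dist : Dist 276 mo_E7 mo_G6 (⟨2, by decide⟩ : Fin 276) mo_6_ts mo_6_ds :=
  dist_of_distB (k := 4) hn mo_E7_ok mo_G6_ok (by decide : 2 < 276) (by decide +kernel)

noncomputable def mo_6_sl0 : SL := (SL.cons (nat_lit 1) (nat_lit 10) Ch.nil [] (SL.cons (nat_lit 3) (nat_lit 178) Ch.nil [] (SL.cons (nat_lit 5) (nat_lit 131) Ch.nil [] (SL.cons (nat_lit 7) (nat_lit 164) Ch.nil [] (SL.cons (nat_lit 259) (nat_lit 180) Ch.nil [] (SL.cons (nat_lit 261) (nat_lit 6) Ch.nil [] (SL.cons (nat_lit 263) (nat_lit 203) Ch.nil [] (SL.cons (nat_lit 773) (nat_lit 54) Ch.nil [] (SL.cons (nat_lit 775) (nat_lit 61) Ch.nil [] (SL.cons (nat_lit 1287) (nat_lit 106) Ch.nil [] (SL.cons (nat_lit 66309) (nat_lit 117) Ch.nil [] (SL.cons (nat_lit 66311) (nat_lit 39) Ch.nil [] (SL.cons (nat_lit 66823) (nat_lit 3) Ch.nil [] (SL.cons (nat_lit 197895) (nat_lit 49) Ch.nil [] (SL.cons (nat_lit 0x1030507) (nat_lit 64) Ch.nil [] SL.nil)))))))))))))))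

theorem mo_6_sc0 : SCs 276 mo_E7 mo_G6 (⟨2, by decide⟩ : Fin 276) (SL.words mo_6_sl0) :=
  scs_of_ok hn (det_lab hk ⊤) mo_E7_ok mo_G6_ok le_top le_top (by decide : 2 < 276) mo_6_fix mo_card7.le (by decide +kernel)

noncomputable def mo_6_l : List ℕ := (appL (SL.words mo_6_sl0) [])

theorem mo_6_scs : SCs 276 mo_E7 mo_G6 (⟨2, by decide⟩ : Fin 276) mo_6_l :=
  (SCs.append mo_6_sc0 SCs.nil)

noncomputable def mo_6_rl0_0 : RL := (RL.cons (nat_lit 0) (nat_lit 2) (nat_lit 0) (nat_lit 0) (nat_lit 1) (nat_lit 0) (RL.cons (nat_lit 1) (nat_lit 10) (nat_lit 0) (nat_lit 0) (nat_lit 0) (nat_lit 0) (RL.cons (nat_lit 2) (nat_lit 178) (nat_lit 0) (nat_lit 0) (nat_lit 5) (nat_lit 0) (RL.cons (nat_lit 3) (nat_lit 131) (nat_lit 0) (nat_lit 0) (nat_lit 6) (nat_lit 0) (RL.cons (nat_lit 4) (nat_lit 164) (nat_lit 0) (nat_lit 0) (nat_lit 7) (nat_lit 0) (RL.cons (nat_lit 5) (nat_lit 180) (nat_lit 0) (nat_lit 0) (nat_lit 2) (nat_lit 0) (RL.cons (nat_lit 6) (nat_lit 6)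 (nat_lit 0) (nat_lit 0) (nat_lit 3) (nat_lit 0) (RL.cons (nat_lit 7) (nat_lit 203) (nat_lit 0) (nat_lit 0) (nat_lit 4) (nat_lit 0) (RL.cons (nat_lit 8) (nat_lit 54) (nat_lit 0) (nat_lit 0) (nat_lit 11) (nat_lit 0) (RL.cons (nat_lit 9) (nat_lit 61) (nat_lit 0) (nat_lit 0) (nat_lit 12) (nat_lit 0) (RL.cons (nat_lit 10) (nat_lit 106) (nat_lit 0) (nat_lit 0) (nat_lit 13) (nat_lit 0) (RL.cons (nat_lit 11) (nat_lit 117) (nat_lit 0) (nat_lit 0) (nat_lit 8) (nat_lit 0) (RL.cons (nat_lit 12) (nat_lit 39) (nat_lit 0) (nat_lit 0) (nat_lit 9) (nat_lit 0) (RL.cons (nat_lit 13) (nat_lit 3) (nat_lit 0) (nat_lit 0) (nat_lit 10) (nat_lit 0) (RL.cons (nat_lit 14) (nat_lit 49) (nat_lit 0) (nat_lit 0) (nat_lit 15) (nat_lit 0) (RL.cons (nat_lit 15) (nat_lit 64) (nat_lit 0) (nat_lit 0) (nat_lit 14) (nat_lit 0) RL.nil))))))))))))))))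

theorem mo_6_good0_0 : GoodSet 276 mo_E7 mo_G6 (⟨2, by decide⟩ : Fin 276) mo_6_ts (nat_lit 1) (RL.pts mo_6_rl0_0) :=
  goodSet_of_ok hn (det_lab hk ⊤) mo_E7_ok mo_G6_ok le_top le_top (by decide : 2 < 276) (sepAt_lab hk _) (by decide +kernel)

theorem mo_6_step0 : Step 276 mo_E7 mo_G6 mo_6_ts (2 * 0 + 1) :=
  step_of_cover mo_E7_ok mo_6_dist (by decide +kernel) mo_6_scs (by decide +kernel) mo_6_good0_0 (kw := [])
    (conj_mem_of_scs mo_E7_ok mo_G6_ok (by decide : 2 < 276) mo_6_scs (c := 0) (d := 10) (by decide +kernel)) (by decide +kernel)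

noncomputable def mo_6_rl1_0 : RL := (RL.cons (nat_lit 0) (nat_lit 2) (nat_lit 0) (nat_lit 0) (nat_lit 2) (nat_lit 0) (RL.cons (nat_lit 1) (nat_lit 10) (nat_lit 0) (nat_lit 0) (nat_lit 5) (nat_lit 0) (RL.cons (nat_lit 2) (nat_lit 178) (nat_lit 0) (nat_lit 0) (nat_lit 0) (nat_lit 0) (RL.cons (nat_lit 3) (nat_lit 131) (nat_lit 0) (nat_lit 0) (nat_lit 8) (nat_lit 0) (RL.cons (nat_lit 4) (nat_lit 164) (nat_lit 0) (nat_lit 0) (nat_lit 9) (nat_lit 0) (RL.cons (nat_lit 5) (nat_lit 180) (nat_lit 0) (nat_lit 0) (nat_lit 1) (nat_lit 0) (RL.cons (nat_lit 6) (nat_lit 6) (nat_lit 0) (nat_lit 0) (nat_lit 11) (nat_lit 0) (RL.cons (nat_lit 7) (nat_lit 203) (nat_lit 0) (nat_lit 0) (nat_lit 12) (nat_lit 0) (RL.cons (nat_lit 8) (nat_lit 54) (nat_lit 0) (nat_lit 0) (nat_lit 3) (nat_lit 0) (RL.cons (nat_lit 9) (nat_lit 61) (nat_lit 0) (nat_lit 0) (nat_lit 4) (nat_lit 0) (RL.cons (nat_lit 10) (nat_lit 106) (nat_lit 0) (nat_lit 0) (nat_lit 14) (nat_lit 0) (RL.cons (nat_lit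 11) (nat_lit 117) (nat_lit 0) (nat_lit 0) (nat_lit 6) (nat_lit 0) (RL.cons (nat_lit 12) (nat_lit 39) (nat_lit 0) (nat_lit 0) (nat_lit 7) (nat_lit 0) (RL.cons (nat_lit 13) (nat_lit 3) (nat_lit 0) (nat_lit 0) (nat_lit 15) (nat_lit 0) (RL.cons (nat_lit 14) (nat_lit 49) (nat_lit 0) (nat_lit 0) (nat_lit 10) (nat_lit 0) (RL.cons (nat_lit 15) (nat_lit 64) (nat_lit 0) (nat_lit 0) (nat_lit 13) (nat_lit 0) RL.nil))))))))))))))))

theorem mo_6_good1_0 : GoodSet 276 mo_E7 mo_G6 (⟨2, by decide⟩ : Fin 276) mo_6_ts (nat_lit 3) (RL.pts mo_6_rl1_0) :=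
  goodSet_of_ok hn (det_lab hk ⊤) mo_E7_ok mo_G6_ok le_top le_top (by decide : 2 < 276) (sepAt_lab hk _) (by decide +kernel)

theorem mo_6_step1 : Step 276 mo_E7 mo_G6 mo_6_ts (2 * 1 + 1) :=
  step_of_cover mo_E7_ok mo_6_dist (by decide +kernel) mo_6_scs (by decide +kernel) mo_6_good1_0 (kw := [])
    (conj_mem_of_scs mo_E7_ok mo_G6_ok (by decide : 2 < 276) mo_6_scs (c := 1) (d := 178) (by decide +kernel)) (by decide +kernel)

noncomputable def mo_6_rl2_0 : RL := (RL.cons (nat_lit 0) (nat_lit 2) (nat_lit 0) (nat_lit 0) (nat_lit 3) (nat_lit 0) (RL.cons (nat_lit 1) (nat_lit 10) (nat_lit 0) (nat_lit 0) (nat_lit 6) (nat_lit 0) (RL.cons (nat_lit 2) (nat_lit 178) (nat_lit 0) (nat_lit 0) (nat_lit 8) (nat_lit 0) (RL.cons (nat_lit 3) (nat_lit 131) (nat_lit 0) (nat_lit 0) (nat_lit 0) (nat_lit 0) (RL.cons (nat_lit 4) (nat_lit 164) (nat_lit 0) (nat_lit 0) (nat_lit 10) (nat_lit 0) (RL.cons (nat_lit 5) (nat_lit 180) (nat_lit 0) (nat_lit 0) (nat_lit 11) (nat_lit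 0) (RL.cons (nat_lit 6) (nat_lit 6) (nat_lit 0) (nat_lit 0) (nat_lit 1) (nat_lit 0) (RL.cons (nat_lit 7) (nat_lit 203) (nat_lit 0) (nat_lit 0) (nat_lit 13) (nat_lit 0) (RL.cons (nat_lit 8) (nat_lit 54) (nat_lit 0) (nat_lit 0) (nat_lit 2) (nat_lit 0) (RL.cons (nat_lit 9) (nat_lit 61) (nat_lit 0) (nat_lit 0) (nat_lit 14) (nat_lit 0) (RL.cons (nat_lit 10) (nat_lit 106) (nat_lit 0) (nat_lit 0) (nat_lit 4) (nat_lit 0) (RL.cons (nat_lit 11) (nat_lit 117) (nat_lit 0) (nat_lit 0) (nat_lit 5) (nat_lit 0) (RL.cons (nat_lit 12) (nat_lit 39) (nat_lit 0) (nat_lit 0) (nat_lit 15) (nat_lit 0) (RL.cons (nat_lit 13) (nat_lit 3) (nat_lit 0) (nat_lit 0) (nat_lit 7) (nat_lit 0) (RL.cons (nat_lit 14) (nat_lit 49) (nat_lit 0) (nat_lit 0) (nat_lit 9) (nat_lit 0) (RL.cons (nat_lit 15) (nat_lit 64) (nat_lit 0) (nat_lit 0) (nat_lit 12) (nat_lit 0) RL.nil))))))))))))))))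

theorem mo_6_good2_0 : GoodSet 276 mo_E7 mo_G6 (⟨2, by decide⟩ : Fin 276) mo_6_ts (nat_lit 5) (RL.pts mo_6_rl2_0) :=
  goodSet_of_ok hn (det_lab hk ⊤) mo_E7_ok mo_G6_ok le_top le_top (by decide : 2 < 276) (sepAt_lab hk _) (by decide +kernel)

theorem mo_6_step2 : Step 276 mo_E7 mo_G6 mo_6_ts (2 * 2 + 1) :=
  step_of_cover mo_E7_ok mo_6_dist (by decide +kernel) mo_6_scs (by decide +kernel) mo_6_good2_0 (kw := [])
    (conj_mem_of_scs mo_E7_ok mo_G6_ok (by decide : 2 < 276) mo_6_scs (c := 2) (d := 131) (by decide +kernel)) (by decide +kernel)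

noncomputable def mo_6_rl3_0 : RL := (RL.cons (nat_lit 0) (nat_lit 2) (nat_lit 0) (nat_lit 0) (nat_lit 4) (nat_lit 0) (RL.cons (nat_lit 1) (nat_lit 10) (nat_lit 0) (nat_lit 0) (nat_lit 7) (nat_lit 0) (RL.cons (nat_lit 2) (nat_lit 178) (nat_lit 0) (nat_lit 0) (nat_lit 9) (nat_lit 0) (RL.cons (nat_lit 3) (nat_lit 131) (nat_lit 0) (nat_lit 0) (nat_lit 10) (nat_lit 0) (RL.cons (nat_lit 4) (nat_lit 164) (nat_lit 0) (nat_lit 0) (nat_lit 0) (nat_lit 0) (RL.cons (nat_lit 5) (nat_lit 180) (nat_lit 0) (nat_lit 0) (nat_lit 12) (nat_lit 0) (RL.cons (nat_lit 6) (nat_lit 6) (nat_lit 0) (nat_lit 0) (nat_lit 13) (nat_lit 0) (RL.cons (nat_lit 7) (nat_lit 203) (nat_lit 0) (nat_lit 0) (nat_lit 1) (nat_lit 0) (RL.cons (nat_lit 8) (nat_lit 54) (nat_lit 0) (nat_lit 0) (nat_lit 14) (nat_lit 0) (RL.cons (nat_lit 9) (nat_lit 61) (nat_lit 0) (nat_lit 0) (nat_lit 2) (nat_lit 0) (RL.cons (nat_lit 10) (nat_lit 106) (nat_lit 0) (nat_lit 0) (nat_lit 3) (nat_lit 0) (RL.cons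 (nat_lit 11) (nat_lit 117) (nat_lit 0) (nat_lit 0) (nat_lit 15) (nat_lit 0) (RL.cons (nat_lit 12) (nat_lit 39) (nat_lit 0) (nat_lit 0) (nat_lit 5) (nat_lit 0) (RL.cons (nat_lit 13) (nat_lit 3) (nat_lit 0) (nat_lit 0) (nat_lit 6) (nat_lit 0) (RL.cons (nat_lit 14) (nat_lit 49) (nat_lit 0) (nat_lit 0) (nat_lit 8) (nat_lit 0) (RL.cons (nat_lit 15) (nat_lit 64) (nat_lit 0) (nat_lit 0) (nat_lit 11) (nat_lit 0) RL.nil))))))))))))))))

theorem mo_6_good3_0 : GoodSet 276 mo_E7 mo_G6 (⟨2, by decide⟩ : Fin 276) mo_6_ts (nat_lit 7) (RL.pts mo_6_rl3_0) :=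
  goodSet_of_ok hn (det_lab hk ⊤) mo_E7_ok mo_G6_ok le_top le_top (by decide : 2 < 276) (sepAt_lab hk _) (by decide +kernel)

theorem mo_6_step3 : Step 276 mo_E7 mo_G6 mo_6_ts (2 * 3 + 1) :=
  step_of_cover mo_E7_ok mo_6_dist (by decide +kernel) mo_6_scs (by decide +kernel) mo_6_good3_0 (kw := [])
    (conj_mem_of_scs mo_E7_ok mo_G6_ok (by decide : 2 < 276) mo_6_scs (c := 3) (d := 164) (by decide +kernel)) (by decide +kernel)

theorem mo_6_lev : grp 276 mo_G6 ⊓ MulAction.stabilizer (Equiv.Perm (Fin 276)) (⟨2, by decide⟩ : Fin 276) = grp 276 mo_E7 :=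
  sims_level (gs := V869) rfl (by decide) mo_6_fix mo_6_dist (forall_lt_succ' (forall_lt_succ' (forall_lt_succ' (forall_lt_one mo_6_step0) mo_6_step1) mo_6_step2) mo_6_step3)

theorem mo_6_cardG : Nat.card (grp 276 mo_G6) = 16 :=
  card_of_level hn mo_G6_ok (by decide : 2 < 276) mo_6_lev mo_card7 (m := 16) (by decide +kernel)

theorem le871 : grp 276 mo_E6 ≤ grp 276 mo_G6 :=
  grp_le_of_memB hn hk mo_G6_ok mo_E6_ok (ws := [nat_lit 1, nat_lit 3, nat_lit 5, nat_lit 7, nat_lit 66309, nat_lit 773, nat_lit 259, nat_lit 1287]) (by decide +kernel)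

theorem le872 : grp 276 mo_G6 ≤ grp 276 mo_E6 :=
  grp_le_of_memB hn hk mo_E6_ok mo_G6_ok (ws := [nat_lit 1, nat_lit 3, nat_lit 5, nat_lit 7]) (by decide +kernel)

theorem mo_6_eq : grp 276 mo_E6 = grp 276 mo_G6 :=
  le_antisymm le871 le872

theorem mo_card6 : Nat.card (grp 276 mo_E6) = 16 :=
  by rw [mo_6_eq]; exact mo_6_cardG

theorem mo_stab6 : grp 276 mo_E6 ⊓ MulAction.stabilizer (Equiv.Perm (Fin 276)) (⟨2, by decide⟩ : Fin 276) = grp 276 mo_E7 :=
  by rw [mo_6_eq]; exact mo_6_lev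

theorem mo_leO6 : grp 276 mo_E6 ≤ grp 276 EM :=
  mo_6_eq.le.trans (grp_cons_le ((le866.trans (le860.trans (le854.trans (le846.trans (le839.trans (le832.trans (le_refl (grp 276 EM)))))))) (le870 (toPerm_mem_grp (E := V869) (by simp [V869])))) (grp_cons_le ((le866.trans (le860.trans (le854.trans (le846.trans (le839.trans (le832.trans (le_refl (grp 276 EM)))))))) (le870 (toPerm_mem_grp (E := V869) (by simp [V869])))) (grp_cons_le ((le866.trans (le860.trans (le854.trans (le846.trans (le839.trans (le832.trans (le_refl (grp 276 EM)))))))) (le870 (toPerm_mem_grp (E := V869) (by simp [V869])))) (grp_cons_le ((le866.trans (le860.trans (le854.trans (le846.trans (le839.trans (le832.trans (le_refl (grp 276 EM)))))))) (le870 (toPerm_mem_grp (E := V869) (by simp [V869])))) mo_leO7))))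

theorem mo_5_fix : grp 276 mo_E6 ≤ MulAction.stabilizer (Equiv.Perm (Fin 276)) (⟨163, by decide⟩ : Fin 276) :=
  grp_le_stab mo_E6_ok (by decide : 163 < 276) (by decide +kernel)

noncomputable def mo_5_ts : List ℕ := [nat_lit 0, nat_lit 1, nat_lit 2]

noncomputable def mo_5_ds : List ℕ := [nat_lit 163, nat_lit 112, nat_lit 190]

theorem mo_5_dist : Dist 276 mo_E6 mo_G5 (⟨163, by decide⟩ : Fin 276) mo_5_ts mo_5_ds :=
  dist_of_distB (k := 2) hn mo_E6_ok mo_G5_ok (by decide : 163 < 276) (by decide +kernel)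

noncomputable def mo_5_sl0 : SL := (SL.cons (nat_lit 1) (nat_lit 112) (Ch.cons (nat_lit 2) [nat_lit 1, nat_lit 9, nat_lit 13, nat_lit 271] Ch.nil) [nat_lit 261, nat_lit 1801, nat_lit 783, nat_lit 13] (SL.cons (nat_lit 2) (nat_lit 190) (Ch.cons (nat_lit 2) [nat_lit 1805, nat_lit 5, nat_lit 3, nat_lit 15] Ch.nil) [nat_lit 3, nat_lit 261, nat_lit 263, nat_lit 775] SL.nil))

theorem mo_5_sc0 : SCs 276 mo_E6 mo_G5 (⟨163, by decide⟩ : Fin 276) (SL.words mo_5_sl0) :=
  scs_of_ok hn (det_lab hk ⊤) mo_E6_ok mo_G5_ok le_top le_top (by decide : 163 < 276) mo_5_fix mo_card6.le (by decide +kernel)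

noncomputable def mo_5_l : List ℕ := (appL (SL.words mo_5_sl0) [])

theorem mo_5_scs : SCs 276 mo_E6 mo_G5 (⟨163, by decide⟩ : Fin 276) mo_5_l :=
  (SCs.append mo_5_sc0 SCs.nil)

noncomputable def mo_5_rl0_0 : RL := (RL.cons (nat_lit 0) (nat_lit 163) (nat_lit 0) (nat_lit 0) (nat_lit 2) (nat_lit 0) (RL.cons (nat_lit 1) (nat_lit 112) (nat_lit 0) (nat_lit 0) (nat_lit 0) (nat_lit 0) (RL.cons (nat_lit 2) (nat_lit 190) (nat_lit 0) (nat_lit 0) (nat_lit 1) (nat_lit 0) RL.nil)))

theorem mo_5_good0_0 : GoodSet 276 mo_E6 mo_G5 (⟨163, by decide⟩ : Fin 276) mo_5_ts (nat_lit 1) (RL.pts mo_5_rl0_0) :=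
  goodSet_of_ok hn (det_lab hk ⊤) mo_E6_ok mo_G5_ok le_top le_top (by decide : 163 < 276) (sepAt_lab hk _) (by decide +kernel)

theorem mo_5_step0 : Step 276 mo_E6 mo_G5 mo_5_ts (2 * 0 + 1) :=
  step_of_cover mo_E6_ok mo_5_dist (by decide +kernel) mo_5_scs (by decide +kernel) mo_5_good0_0 (kw := [nat_lit 1, nat_lit 9, nat_lit 13, nat_lit 271])
    (conj_mem_of_scs mo_E6_ok mo_G5_ok (by decide : 163 < 276) mo_5_scs (c := 0) (d := 112) (by decide +kernel)) (by decide +kernel)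

theorem mo_5_lev : grp 276 mo_G5 ⊓ MulAction.stabilizer (Equiv.Perm (Fin 276)) (⟨163, by decide⟩ : Fin 276) = grp 276 mo_E6 :=
  sims_level (gs := V862) rfl (by decide) mo_5_fix mo_5_dist (forall_lt_one mo_5_step0)

theorem mo_5_cardG : Nat.card (grp 276 mo_G5) = 48 :=
  card_of_level hn mo_G5_ok (by decide : 163 < 276) mo_5_lev mo_card6 (m := 3) (by decide +kernel)

theorem le873 : grp 276 mo_E5 ≤ grp 276 mo_G5 :=
  grp_le_of_memB hn hk mo_G5_ok mo_E5_ok (ws := [nat_lit 1, nat_lit 2, nat_lit 593666, nat_lit 3, nat_lit 5, nat_lit 7, nat_lit 9, nat_lit 11, nat_lit 13, nat_lit 15, nat_lit 17]) (by decide +kernel)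

theorem le874 : grp 276 mo_G5 ≤ grp 276 mo_E5 :=
  grp_le_of_memB hn hk mo_E5_ok mo_G5_ok (ws := [nat_lit 1, nat_lit 7, nat_lit 9, nat_lit 11, nat_lit 13, nat_lit 15, nat_lit 17, nat_lit 19, nat_lit 21]) (by decide +kernel)

theorem mo_5_eq : grp 276 mo_E5 = grp 276 mo_G5 :=
  le_antisymm le873 le874

theorem mo_card5 : Nat.card (grp 276 mo_E5) = 48 :=
  by rw [mo_5_eq]; exact mo_5_cardG

theorem mo_stab5 : grp 276 mo_E5 ⊓ MulAction.stabilizer (Equiv.Perm (Fin 276)) (⟨163, by decide⟩ : Fin 276) = grp 276 mo_E6 :=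
  by rw [mo_5_eq]; exact mo_5_lev

theorem mo_leO5 : grp 276 mo_E5 ≤ grp 276 EM :=
  mo_5_eq.le.trans (grp_cons_le ((le860.trans (le854.trans (le846.trans (le839.trans (le832.trans (le_refl (grp 276 EM))))))) (le863 (toPerm_mem_grp (E := V862) (by simp [V862])))) mo_leO6)

theorem mo_4_fix : grp 276 mo_E5 ≤ MulAction.stabilizer (Equiv.Perm (Fin 276)) (⟨42, by decide⟩ : Fin 276) :=
  grp_le_stab mo_E5_ok (by decide : 42 < 276) (by decide +kernel)

noncomputable def mo_4_ts : List ℕ := [nat_lit 0, nat_lit 1]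

noncomputable def mo_4_ds : List ℕ := [nat_lit 42, nat_lit 163]

theorem mo_4_dist : Dist 276 mo_E5 mo_G4 (⟨42, by decide⟩ : Fin 276) mo_4_ts mo_4_ds :=
  dist_of_distB (k := 1) hn mo_E5_ok mo_G4_ok (by decide : 42 < 276) (by decide +kernel)

noncomputable def mo_4_sl0 : SL := (SL.cons (nat_lit 1) (nat_lit 163) (Ch.cons (nat_lit 2) [nat_lit 7, nat_lit 9, nat_lit 11, nat_lit 13, nat_lit 15, nat_lit 17, nat_lit 19, nat_lit 21] Ch.nil) [nat_lit 3343, nat_lit 21, nat_lit 1805, nat_lit 3347, nat_lit 2317, nat_lit 1803, nat_lit 19, nat_lit 9] SL.nil)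

theorem mo_4_sc0 : SCs 276 mo_E5 mo_G4 (⟨42, by decide⟩ : Fin 276) (SL.words mo_4_sl0) :=
  scs_of_ok hn (det_lab hk ⊤) mo_E5_ok mo_G4_ok le_top le_top (by decide : 42 < 276) mo_4_fix mo_card5.le (by decide +kernel)

noncomputable def mo_4_l : List ℕ := (appL (SL.words mo_4_sl0) [])

theorem mo_4_scs : SCs 276 mo_E5 mo_G4 (⟨42, by decide⟩ : Fin 276) mo_4_l :=
  (SCs.append mo_4_sc0 SCs.nil)

noncomputable def mo_4_rl0_0 : RL := (RL.cons (nat_lit 0) (nat_lit 42) (nat_lit 0) (nat_lit 0) (nat_lit 1) (nat_lit 2325) (RL.cons (nat_lit 1) (nat_lit 163) (nat_lit 0) (nat_lit 0) (nat_lit 0) (nat_lit 0) (RL.cons (nat_lit 1) (nat_lit 112) (nat_lit 1) (nat_lit 2) (nat_lit 1) (nat_lit 595202) (RL.cons (nat_lit 1) (nat_lit 190) (nat_lit 2) (nat_lit 1) (nat_lit 1) (nat_lit 595201) RL.nil))))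

theorem mo_4_good0_0 : GoodSet 276 mo_E5 mo_G4 (⟨42, by decide⟩ : Fin 276) mo_4_ts (nat_lit 1) (RL.pts mo_4_rl0_0) :=
  goodSet_of_ok hn (det_lab hk ⊤) mo_E5_ok mo_G4_ok le_top le_top (by decide : 42 < 276) (sepAt_lab hk _) (by decide +kernel)

theorem mo_4_step0 : Step 276 mo_E5 mo_G4 mo_4_ts (2 * 0 + 1) :=
  step_of_cover mo_E5_ok mo_4_dist (by decide +kernel) mo_4_scs (by decide +kernel) mo_4_good0_0 (kw := [nat_lit 7, nat_lit 9, nat_lit 11, nat_lit 13, nat_lit 15, nat_lit 17, nat_lit 19, nat_lit 21])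
    (conj_mem_of_scs mo_E5_ok mo_G4_ok (by decide : 42 < 276) mo_4_scs (c := 0) (d := 163) (by decide +kernel)) (by decide +kernel)

theorem mo_4_lev : grp 276 mo_G4 ⊓ MulAction.stabilizer (Equiv.Perm (Fin 276)) (⟨42, by decide⟩ : Fin 276) = grp 276 mo_E5 :=
  sims_level (gs := V855) rfl (by decide) mo_4_fix mo_4_dist (forall_lt_one mo_4_step0)

theorem mo_4_cardG : Nat.card (grp 276 mo_G4) = 192 :=
  card_of_level hn mo_G4_ok (by decide : 42 < 276) mo_4_lev mo_card5 (m := 4) (by decide +kernel)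

theorem le875 : grp 276 mo_E4 ≤ grp 276 mo_G4 :=
  grp_le_of_memB hn hk mo_G4_ok mo_E4_ok (ws := [nat_lit 1, nat_lit 0xf11040104, nat_lit 259, nat_lit 3, nat_lit 5, nat_lit 7, nat_lit 9, nat_lit 11, nat_lit 13, nat_lit 15, nat_lit 17, nat_lit 19, nat_lit 21, nat_lit 23]) (by decide +kernel)

theorem le876 : grp 276 mo_G4 ≤ grp 276 mo_E4 :=
  grp_le_of_memB hn hk mo_E4_ok mo_G4_ok (ws := [nat_lit 1, nat_lit 7, nat_lit 9, nat_lit 11, nat_lit 13, nat_lit 15, nat_lit 17, nat_lit 19, nat_lit 21, nat_lit 23, nat_lit 25, nat_lit 27]) (by decide +kernel)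

theorem mo_4_eq : grp 276 mo_E4 = grp 276 mo_G4 :=
  le_antisymm le875 le876

theorem mo_card4 : Nat.card (grp 276 mo_E4) = 192 :=
  by rw [mo_4_eq]; exact mo_4_cardG

theorem mo_stab4 : grp 276 mo_E4 ⊓ MulAction.stabilizer (Equiv.Perm (Fin 276)) (⟨42, by decide⟩ : Fin 276) = grp 276 mo_E5 :=
  by rw [mo_4_eq]; exact mo_4_lev

theorem mo_leO4 : grp 276 mo_E4 ≤ grp 276 EM :=
  mo_4_eq.le.trans (grp_cons_le ((le854.trans (le846.trans (le839.trans (le832.trans (le_refl (grp 276 EM)))))) (le856 (toPerm_mem_grp (E := V855) (by simp [V855])))) mo_leO5)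

theorem mo_3_fix : grp 276 mo_E4 ≤ MulAction.stabilizer (Equiv.Perm (Fin 276)) (⟨209, by decide⟩ : Fin 276) :=
  grp_le_stab mo_E4_ok (by decide : 209 < 276) (by decide +kernel)

noncomputable def mo_3_ts : List ℕ := [nat_lit 0, nat_lit 1]

noncomputable def mo_3_ds : List ℕ := [nat_lit 209, nat_lit 42]

theorem mo_3_dist : Dist 276 mo_E4 mo_G3 (⟨209, by decide⟩ : Fin 276) mo_3_ts mo_3_ds :=
  dist_of_distB (k := 1) hn mo_E4_ok mo_G3_ok (by decide : 209 < 276) (by decide +kernel)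

noncomputable def mo_3_sl0 : SL := (SL.cons (nat_lit 1) (nat_lit 42) (Ch.cons (nat_lit 163) [nat_lit 7, nat_lit 9, nat_lit 11] (Ch.cons (nat_lit 2) [nat_lit 13, nat_lit 15, nat_lit 17, nat_lit 19, nat_lit 21, nat_lit 23, nat_lit 25, nat_lit 27] Ch.nil)) [nat_lit 0x150801, nat_lit 0xf130804, nat_lit 0x110804, nat_lit 3859, nat_lit 3355, nat_lit 15, nat_lit 3347, nat_lit 3345, nat_lit 4885, nat_lit 21, nat_lit 4889] SL.nil)

theorem mo_3_sc0 : SCs 276 mo_E4 mo_G3 (⟨209, by decide⟩ : Fin 276) (SL.words mo_3_sl0) :=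
  scs_of_ok hn (det_lab hk ⊤) mo_E4_ok mo_G3_ok le_top le_top (by decide : 209 < 276) mo_3_fix mo_card4.le (by decide +kernel)

noncomputable def mo_3_l : List ℕ := (appL (SL.words mo_3_sl0) [])

theorem mo_3_scs : SCs 276 mo_E4 mo_G3 (⟨209, by decide⟩ : Fin 276) mo_3_l :=
  (SCs.append mo_3_sc0 SCs.nil)

noncomputable def mo_3_rl0_0 : RL := (RL.cons (nat_lit 0) (nat_lit 209) (nat_lit 0) (nat_lit 3) (nat_lit 1) (nat_lit 5379) (RL.cons (nat_lit 1) (nat_lit 42) (nat_lit 0) (nat_lit 0) (nat_lit 0) (nat_lit 0) (RL.cons (nat_lit 1) (nat_lit 163) (nat_lit 1) (nat_lit 0) (nat_lit 1) (nat_lit 4355) RL.nil)))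

theorem mo_3_good0_0 : GoodSet 276 mo_E4 mo_G3 (⟨209, by decide⟩ : Fin 276) mo_3_ts (nat_lit 1) (RL.pts mo_3_rl0_0) :=
  goodSet_of_ok hn (det_lab hk ⊤) mo_E4_ok mo_G3_ok le_top le_top (by decide : 209 < 276) (sepAt_lab hk _) (by decide +kernel)

theorem mo_3_step0 : Step 276 mo_E4 mo_G3 mo_3_ts (2 * 0 + 1) :=
  step_of_cover mo_E4_ok mo_3_dist (by decide +kernel) mo_3_scs (by decide +kernel) mo_3_good0_0 (kw := [nat_lit 7, nat_lit 9, nat_lit 11, nat_lit 13, nat_lit 15, nat_lit 17, nat_lit 19, nat_lit 21, nat_lit 23, nat_lit 25, nat_lit 27])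
    (conj_mem_of_scs mo_E4_ok mo_G3_ok (by decide : 209 < 276) mo_3_scs (c := 0) (d := 42) (by decide +kernel)) (by decide +kernel)

theorem mo_3_lev : grp 276 mo_G3 ⊓ MulAction.stabilizer (Equiv.Perm (Fin 276)) (⟨209, by decide⟩ : Fin 276) = grp 276 mo_E4 :=
  sims_level (gs := V848) rfl (by decide) mo_3_fix mo_3_dist (forall_lt_one mo_3_step0)

theorem mo_3_cardG : Nat.card (grp 276 mo_G3) = 960 :=
  card_of_level hn mo_G3_ok (by decide : 209 < 276) mo_3_lev mo_card4 (m := 5) (by decide +kernel)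

theorem le877 : grp 276 mo_E3 ≤ grp 276 mo_G3 :=
  grp_le_of_memB hn hk mo_G3_ok mo_E3_ok (ws := [nat_lit 1, nat_lit 0x151709030106, nat_lit 327937, nat_lit 3, nat_lit 5, nat_lit 7, nat_lit 9, nat_lit 11, nat_lit 13, nat_lit 15, nat_lit 17, nat_lit 19, nat_lit 21, nat_lit 23, nat_lit 25, nat_lit 27, nat_lit 29]) (by decide +kernel)

theorem le878 : grp 276 mo_G3 ≤ grp 276 mo_E3 :=
  grp_le_of_memB hn hk mo_E3_ok mo_G3_ok (ws := [nat_lit 1, nat_lit 7, nat_lit 9, nat_lit 11, nat_lit 13, nat_lit 15, nat_lit 17, nat_lit 19, nat_lit 21, nat_lit 23, nat_lit 25, nat_lit 27, nat_lit 29, nat_lit 31, nat_lit 33]) (by decide +kernel)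

theorem mo_3_eq : grp 276 mo_E3 = grp 276 mo_G3 :=
  le_antisymm le877 le878

theorem mo_card3 : Nat.card (grp 276 mo_E3) = 960 :=
  by rw [mo_3_eq]; exact mo_3_cardG

theorem mo_stab3 : grp 276 mo_E3 ⊓ MulAction.stabilizer (Equiv.Perm (Fin 276)) (⟨209, by decide⟩ : Fin 276) = grp 276 mo_E4 :=
  by rw [mo_3_eq]; exact mo_3_lev

theorem mo_leO3 : grp 276 mo_E3 ≤ grp 276 EM :=
  mo_3_eq.le.trans (grp_cons_le ((le846.trans (le839.trans (le832.trans (le_refl (grp 276 EM))))) (le849 (toPerm_mem_grp (E := V848) (by simp [V848])))) mo_leO4)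

theorem mo_2_fix : grp 276 mo_E3 ≤ MulAction.stabilizer (Equiv.Perm (Fin 276)) (⟨231, by decide⟩ : Fin 276) :=
  grp_le_stab mo_E3_ok (by decide : 231 < 276) (by decide +kernel)

noncomputable def mo_2_ts : List ℕ := [nat_lit 0, nat_lit 1]

noncomputable def mo_2_ds : List ℕ := [nat_lit 231, nat_lit 209]

theorem mo_2_dist : Dist 276 mo_E3 mo_G2 (⟨231, by decide⟩ : Fin 276) mo_2_ts mo_2_ds :=
  dist_of_distB (k := 1) hn mo_E3_ok mo_G2_ok (by decide : 231 < 276) (by decide +kernel)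

noncomputable def mo_2_sl0 : SL := (SL.cons (nat_lit 1) (nat_lit 209) (Ch.cons (nat_lit 42) [nat_lit 7, nat_lit 9, nat_lit 11] (Ch.cons (nat_lit 163) [nat_lit 13, nat_lit 15, nat_lit 17] (Ch.cons (nat_lit 2) [nat_lit 19, nat_lit 21, nat_lit 23, nat_lit 25, nat_lit 27, nat_lit 29, nat_lit 31, nat_lit 33] Ch.nil))) [nat_lit 0x1d0d0702, nat_lit 2308, nat_lit 0x15210a03, nat_lit 0x150e0702, nat_lit 0x13170d0a03, nat_lit 0x190d0a03, nat_lit 33, nat_lit 27, nat_lit 25, nat_lit 29, nat_lit 31, nat_lit 6427, nat_lit 6431, nat_lit 5409] SL.nil)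

theorem mo_2_sc0 : SCs 276 mo_E3 mo_G2 (⟨231, by decide⟩ : Fin 276) (SL.words mo_2_sl0) :=
  scs_of_ok hn (det_lab hk ⊤) mo_E3_ok mo_G2_ok le_top le_top (by decide : 231 < 276) mo_2_fix mo_card3.le (by decide +kernel)

noncomputable def mo_2_l : List ℕ := (appL (SL.words mo_2_sl0) [])

theorem mo_2_scs : SCs 276 mo_E3 mo_G2 (⟨231, by decide⟩ : Fin 276) mo_2_l :=
  (SCs.append mo_2_sc0 SCs.nil)

noncomputable def mo_2_rl0_0 : RL := (RL.cons (nat_lit 0) (nat_lit 231) (nat_lit 0) (nat_lit 1) (nat_lit 1) (nat_lit 6913) (RL.cons (nat_lit 1) (nat_lit 209) (nat_lit 0) (nat_lit 0) (nat_lit 0) (nat_lit 0) (RL.cons (nat_lit 1) (nat_lit 42) (nat_lit 1) (nat_lit 4) (nat_lit 1) (nat_lit 0x15210e03) RL.nil)))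

theorem mo_2_good0_0 : GoodSet 276 mo_E3 mo_G2 (⟨231, by decide⟩ : Fin 276) mo_2_ts (nat_lit 1) (RL.pts mo_2_rl0_0) :=
  goodSet_of_ok hn (det_lab hk ⊤) mo_E3_ok mo_G2_ok le_top le_top (by decide : 231 < 276) (sepAt_lab hk _) (by decide +kernel)

theorem mo_2_step0 : Step 276 mo_E3 mo_G2 mo_2_ts (2 * 0 + 1) :=
  step_of_cover mo_E3_ok mo_2_dist (by decide +kernel) mo_2_scs (by decide +kernel) mo_2_good0_0 (kw := [nat_lit 7, nat_lit 9, nat_lit 11, nat_lit 13, nat_lit 15, nat_lit 17, nat_lit 19, nat_lit 21, nat_lit 23, nat_lit 25, nat_lit 27, nat_lit 29, nat_lit 31, nat_lit 33])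
    (conj_mem_of_scs mo_E3_ok mo_G2_ok (by decide : 231 < 276) mo_2_scs (c := 0) (d := 209) (by decide +kernel)) (by decide +kernel)

theorem mo_2_lev : grp 276 mo_G2 ⊓ MulAction.stabilizer (Equiv.Perm (Fin 276)) (⟨231, by decide⟩ : Fin 276) = grp 276 mo_E3 :=
  sims_level (gs := V841) rfl (by decide) mo_2_fix mo_2_dist (forall_lt_one mo_2_step0)

theorem mo_2_cardG : Nat.card (grp 276 mo_G2) = 5760 :=
  card_of_level hn mo_G2_ok (by decide : 231 < 276) mo_2_lev mo_card3 (m := 6) (by decide +kernel)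

theorem le879 : grp 276 mo_E2 ≤ grp 276 mo_G2 :=
  grp_le_of_memB hn hk mo_G2_ok mo_E2_ok (ws := [nat_lit 1, nat_lit 0x151b090402, nat_lit 0x1b1d0f090302, nat_lit 3, nat_lit 5, nat_lit 7, nat_lit 9, nat_lit 11, nat_lit 13, nat_lit 15, nat_lit 17, nat_lit 19, nat_lit 21, nat_lit 23, nat_lit 25, nat_lit 27, nat_lit 29, nat_lit 31, nat_lit 33, nat_lit 35]) (by decide +kernel)

theorem le880 : grp 276 mo_G2 ≤ grp 276 mo_E2 :=
  grp_le_of_memB hn hk mo_E2_ok mo_G2_ok (ws := [nat_lit 1, nat_lit 7, nat_lit 9, nat_lit 11, nat_lit 13, nat_lit 15, nat_lit 17, nat_lit 19, nat_lit 21, nat_lit 23, nat_lit 25, nat_lit 27, nat_lit 29, nat_lit 31, nat_lit 33, nat_lit 35, nat_lit 37, nat_lit 39]) (by decide +kernel)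

theorem mo_2_eq : grp 276 mo_E2 = grp 276 mo_G2 :=
  le_antisymm le879 le880

theorem mo_card2 : Nat.card (grp 276 mo_E2) = 5760 :=
  by rw [mo_2_eq]; exact mo_2_cardG

theorem mo_stab2 : grp 276 mo_E2 ⊓ MulAction.stabilizer (Equiv.Perm (Fin 276)) (⟨231, by decide⟩ : Fin 276) = grp 276 mo_E3 :=
  by rw [mo_2_eq]; exact mo_2_lev

theorem mo_leO2 : grp 276 mo_E2 ≤ grp 276 EM :=
  mo_2_eq.le.trans (grp_cons_le ((le839.trans (le832.trans (le_refl (grp 276 EM)))) (le842 (toPerm_mem_grp (E := V841) (by simp [V841])))) mo_leO3)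

theorem mo_1_fix : grp 276 mo_E2 ≤ MulAction.stabilizer (Equiv.Perm (Fin 276)) (⟨258, by decide⟩ : Fin 276) :=
  grp_le_stab mo_E2_ok (by decide : 258 < 276) (by decide +kernel)

noncomputable def mo_1_ts : List ℕ := [nat_lit 0, nat_lit 1]

noncomputable def mo_1_ds : List ℕ := [nat_lit 258, nat_lit 231]

theorem mo_1_dist : Dist 276 mo_E2 mo_G1 (⟨258, by decide⟩ : Fin 276) mo_1_ts mo_1_ds :=
  dist_of_distB (k := 1) hn mo_E2_ok mo_G1_ok (by decide : 258 < 276) (by decide +kernel)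

noncomputable def mo_1_sl0 : SL := (SL.cons (nat_lit 1) (nat_lit 231) (Ch.cons (nat_lit 209) [nat_lit 7, nat_lit 9, nat_lit 11] (Ch.cons (nat_lit 42) [nat_lit 13, nat_lit 15, nat_lit 17] (Ch.cons (nat_lit 163) [nat_lit 19, nat_lit 21, nat_lit 23] (Ch.cons (nat_lit 2) [nat_lit 25, nat_lit 27, nat_lit 29, nat_lit 31, nat_lit 33, nat_lit 35, nat_lit 37, nat_lit 39] Ch.nil)))) [nat_lit 0x230101, nat_lit 0x1f2501, nat_lit 0x191d100902, nat_lit 0x1f130a, nat_lit 0x191f1009, nat_lit 0x190d07, nat_lit 0x13100a, nat_lit 0x211407, nat_lit 0x251407, nat_lit 6951, nat_lit 6431, nat_lit 39, nat_lit 37, nat_lit 7973, nat_lit 6429, nat_lit 33, nat_lit 7969] SL.nil)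

theorem mo_1_sc0 : SCs 276 mo_E2 mo_G1 (⟨258, by decide⟩ : Fin 276) (SL.words mo_1_sl0) :=
  scs_of_ok hn (det_lab hk ⊤) mo_E2_ok mo_G1_ok le_top le_top (by decide : 258 < 276) mo_1_fix mo_card2.le (by decide +kernel)

noncomputable def mo_1_l : List ℕ := (appL (SL.words mo_1_sl0) [])

theorem mo_1_scs : SCs 276 mo_E2 mo_G1 (⟨258, by decide⟩ : Fin 276) mo_1_l :=
  (SCs.append mo_1_sc0 SCs.nil)

noncomputable def mo_1_rl0_0 : RL := (RL.cons (nat_lit 0) (nat_lit 258) (nat_lit 0) (nat_lit 259) (nat_lit 1) (nat_lit 0x191f130d0103) (RL.cons (nat_lit 1) (nat_lit 231) (nat_lit 0) (nat_lit 0) (nat_lit 0) (nat_lit 0) (RL.cons (nat_lit 1) (nat_lit 209) (nat_lit 1) (nat_lit 0) (nat_lit 1) (nat_lit 0x140d09) RL.nil)))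

theorem mo_1_good0_0 : GoodSet 276 mo_E2 mo_G1 (⟨258, by decide⟩ : Fin 276) mo_1_ts (nat_lit 1) (RL.pts mo_1_rl0_0) :=
  goodSet_of_ok hn (det_lab hk ⊤) mo_E2_ok mo_G1_ok le_top le_top (by decide : 258 < 276) (sepAt_lab hk _) (by decide +kernel)

theorem mo_1_step0 : Step 276 mo_E2 mo_G1 mo_1_ts (2 * 0 + 1) :=
  step_of_cover mo_E2_ok mo_1_dist (by decide +kernel) mo_1_scs (by decide +kernel) mo_1_good0_0 (kw := [nat_lit 7, nat_lit 9, nat_lit 11, nat_lit 13, nat_lit 15, nat_lit 17, nat_lit 19, nat_lit 21, nat_lit 23, nat_lit 25, nat_lit 27, nat_lit 29, nat_lit 31, nat_lit 33, nat_lit 35, nat_lit 37, nat_lit 39])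
    (conj_mem_of_scs mo_E2_ok mo_G1_ok (by decide : 258 < 276) mo_1_scs (c := 0) (d := 231) (by decide +kernel)) (by decide +kernel)

theorem mo_1_lev : grp 276 mo_G1 ⊓ MulAction.stabilizer (Equiv.Perm (Fin 276)) (⟨258, by decide⟩ : Fin 276) = grp 276 mo_E2 :=
  sims_level (gs := V834) rfl (by decide) mo_1_fix mo_1_dist (forall_lt_one mo_1_step0)

theorem mo_1_cardG : Nat.card (grp 276 mo_G1) = 40320 :=
  card_of_level hn mo_G1_ok (by decide : 258 < 276) mo_1_lev mo_card2 (m := 7) (by decide +kernel)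

theorem le881 : grp 276 mo_E1 ≤ grp 276 mo_G1 :=
  grp_le_of_memB hn hk mo_G1_ok mo_E1_ok (ws := [nat_lit 1, nat_lit 0x1f0f0a03030104, nat_lit 2, nat_lit 3, nat_lit 5, nat_lit 7, nat_lit 9, nat_lit 11, nat_lit 13, nat_lit 15, nat_lit 17, nat_lit 19, nat_lit 21, nat_lit 23, nat_lit 25, nat_lit 27, nat_lit 29, nat_lit 31, nat_lit 33, nat_lit 35, nat_lit 37, nat_lit 39, nat_lit 41]) (by decide +kernel)

theorem le882 : grp 276 mo_G1 ≤ grp 276 mo_E1 :=
  grp_le_of_memB hn hk mo_E1_ok mo_G1_ok (ws := [nat_lit 1, nat_lit 7, nat_lit 9, nat_lit 11, nat_lit 13, nat_lit 15, nat_lit 17, nat_lit 19, nat_lit 21, nat_lit 23, nat_lit 25, nat_lit 27, nat_lit 29, nat_lit 31, nat_lit 33, nat_lit 35, nat_lit 37, nat_lit 39, nat_lit 41, nat_lit 43, nat_lit 45]) (by decide +kernel)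

theorem mo_1_eq : grp 276 mo_E1 = grp 276 mo_G1 :=
  le_antisymm le881 le882

theorem mo_card1 : Nat.card (grp 276 mo_E1) = 40320 :=
  by rw [mo_1_eq]; exact mo_1_cardG

theorem mo_stab1 : grp 276 mo_E1 ⊓ MulAction.stabilizer (Equiv.Perm (Fin 276)) (⟨258, by decide⟩ : Fin 276) = grp 276 mo_E2 :=
  by rw [mo_1_eq]; exact mo_1_lev

theorem mo_leO1 : grp 276 mo_E1 ≤ grp 276 EM :=
  mo_1_eq.le.trans (grp_cons_le ((le832.trans (le_refl (grp 276 EM))) (le835 (toPerm_mem_grp (E := V834) (by simp [V834])))) mo_leO2)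

theorem mo_0_fix : grp 276 mo_E1 ≤ MulAction.stabilizer (Equiv.Perm (Fin 276)) (⟨12, by decide⟩ : Fin 276) :=
  grp_le_stab mo_E1_ok (by decide : 12 < 276) (by decide +kernel)

noncomputable def mo_0_ts : List ℕ := [nat_lit 0, nat_lit 1]

noncomputable def mo_0_ds : List ℕ := [nat_lit 12, nat_lit 258]

theorem mo_0_dist : Dist 276 mo_E1 mo_G0 (⟨12, by decide⟩ : Fin 276) mo_0_ts mo_0_ds :=
  dist_of_distB (k := 1) hn mo_E1_ok mo_G0_ok (by decide : 12 < 276) (by decide +kernel)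

noncomputable def mo_0_sl0 : SL := (SL.cons (nat_lit 1) (nat_lit 258) (Ch.cons (nat_lit 231) [nat_lit 7, nat_lit 9, nat_lit 11] (Ch.cons (nat_lit 209) [nat_lit 13, nat_lit 15, nat_lit 17] (Ch.cons (nat_lit 42) [nat_lit 19, nat_lit 21, nat_lit 23] (Ch.cons (nat_lit 163) [nat_lit 25, nat_lit 27, nat_lit 29] (Ch.cons (nat_lit 2) [nat_lit 31, nat_lit 33, nat_lit 35, nat_lit 37, nat_lit 39, nat_lit 41, nat_lit 43, nat_lit 45] Ch.nil))))) [nat_lit 0x21251a0d0a, nat_lit 0x27130e08, nat_lit 0x231a0e0707, nat_lit 0x251a160709, nat_lit 0x291a0e0a, nat_lit 0x291a0d0707, nat_lit 0x212d13, nat_lit 0x2d1913, nat_lit 0x1f2d19, nat_lit 0x251a16, nat_lit 0x1f2d1a13, nat_lit 0x1f231a13, nat_lit 31, nat_lit 33, nat_lit 39, nat_lit 9515, nat_lit 35, nat_lit 7971, nat_lit 43, nat_lit 45] SL.nil)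

theorem mo_0_sc0 : SCs 276 mo_E1 mo_G0 (⟨12, by decide⟩ : Fin 276) (SL.words mo_0_sl0) :=
  scs_of_ok hn (det_lab hk ⊤) mo_E1_ok mo_G0_ok le_top le_top (by decide : 12 < 276) mo_0_fix mo_card1.le (by decide +kernel)

noncomputable def mo_0_l : List ℕ := (appL (SL.words mo_0_sl0) [])

theorem mo_0_scs : SCs 276 mo_E1 mo_G0 (⟨12, by decide⟩ : Fin 276) mo_0_l :=
  (SCs.append mo_0_sc0 SCs.nil)

noncomputable def mo_0_rl0_0 : RL := (RL.cons (nat_lit 0) (nat_lit 12) (nat_lit 0) (nat_lit 0) (nat_lit 1) (nat_lit 0) (RL.cons (nat_lit 1) (nat_lit 258) (nat_lit 0) (nat_lit 0) (nat_lit 0) (nat_lit 0) (RL.cons (nat_lit 1) (nat_lit 231) (nat_lit 1) (nat_lit 4) (nat_lit 1) (nat_lit 0x271a15100a02) RL.nil)))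

theorem mo_0_good0_0 : GoodSet 276 mo_E1 mo_G0 (⟨12, by decide⟩ : Fin 276) mo_0_ts (nat_lit 1) (RL.pts mo_0_rl0_0) :=
  goodSet_of_ok hn (det_lab hk ⊤) mo_E1_ok mo_G0_ok le_top le_top (by decide : 12 < 276) (sepAt_lab hk _) (by decide +kernel)

theorem mo_0_step0 : Step 276 mo_E1 mo_G0 mo_0_ts (2 * 0 + 1) :=
  step_of_cover mo_E1_ok mo_0_dist (by decide +kernel) mo_0_scs (by decide +kernel) mo_0_good0_0 (kw := [nat_lit 7, nat_lit 9, nat_lit 11, nat_lit 13, nat_lit 15, nat_lit 17, nat_lit 19, nat_lit 21, nat_lit 23, nat_lit 25, nat_lit 27, nat_lit 29, nat_lit 31, nat_lit 33, nat_lit 35, nat_lit 37, nat_lit 39, nat_lit 41, nat_lit 43, nat_lit 45])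
    (conj_mem_of_scs mo_E1_ok mo_G0_ok (by decide : 12 < 276) mo_0_scs (c := 0) (d := 258) (by decide +kernel)) (by decide +kernel)

theorem mo_0_lev : grp 276 mo_G0 ⊓ MulAction.stabilizer (Equiv.Perm (Fin 276)) (⟨12, by decide⟩ : Fin 276) = grp 276 mo_E1 :=
  sims_level (gs := V827) rfl (by decide) mo_0_fix mo_0_dist (forall_lt_one mo_0_step0)

theorem mo_0_cardG : Nat.card (grp 276 mo_G0) = 322560 :=
  card_of_level hn mo_G0_ok (by decide : 12 < 276) mo_0_lev mo_card1 (m := 8) (by decide +kernel)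

theorem le883 : grp 276 mo_E0 ≤ grp 276 mo_G0 :=
  grp_le_of_memB hn hk mo_G0_ok mo_E0_ok (ws := [nat_lit 1, nat_lit 0x251b1812090b040b01040b, nat_lit 0x27291c18110a03010305, nat_lit 0x291c1710, nat_lit 0x21040103, nat_lit 3, nat_lit 5, nat_lit 7, nat_lit 9, nat_lit 11, nat_lit 13, nat_lit 15, nat_lit 17, nat_lit 19, nat_lit 21, nat_lit 23, nat_lit 25, nat_lit 27, nat_lit 29, nat_lit 31, nat_lit 33, nat_lit 35, nat_lit 37, nat_lit 39, nat_lit 41, nat_lit 43, nat_lit 45, nat_lit 47]) (by decide +kernel)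

theorem le884 : grp 276 mo_G0 ≤ grp 276 mo_E0 :=
  grp_le_of_memB hn hk mo_E0_ok mo_G0_ok (ws := [nat_lit 1, nat_lit 11, nat_lit 13, nat_lit 15, nat_lit 17, nat_lit 19, nat_lit 21, nat_lit 23, nat_lit 25, nat_lit 27, nat_lit 29, nat_lit 31, nat_lit 33, nat_lit 35, nat_lit 37, nat_lit 39, nat_lit 41, nat_lit 43, nat_lit 45, nat_lit 47, nat_lit 49, nat_lit 51, nat_lit 53, nat_lit 55]) (by decide +kernel)

theorem mo_0_eq : grp 276 mo_E0 = grp 276 mo_G0 :=
  le_antisymm le883 le884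

theorem mo_card0 : Nat.card (grp 276 mo_E0) = 322560 :=
  by rw [mo_0_eq]; exact mo_0_cardG

theorem mo_stab0 : grp 276 mo_E0 ⊓ MulAction.stabilizer (Equiv.Perm (Fin 276)) (⟨12, by decide⟩ : Fin 276) = grp 276 mo_E1 :=
  by rw [mo_0_eq]; exact mo_0_lev

theorem mo_leO0 : grp 276 mo_E0 ≤ grp 276 EM :=
  mo_0_eq.le.trans (grp_cons_le ((le_refl (grp 276 EM)) (le828 (toPerm_mem_grp (E := V827) (by simp [V827])))) mo_leO1)

theorem le885 : grp 276 EM ≤ grp 276 mo_E0 :=
  grp_le_of_memB hn hk mo_E0_ok EM_ok (ws := [nat_lit 3, nat_lit 5, nat_lit 7, nat_lit 1, nat_lit 9]) (by decide +kernel)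

theorem mo_eq : grp 276 EM = grp 276 mo_E0 :=
  le_antisymm le885 mo_leO0

theorem mo_card : Nat.card (grp 276 EM) = 322560 :=
  by rw [mo_eq]; exact mo_card0

noncomputable def mo_ch : Ch := (Ch.cons (nat_lit 12) [nat_lit 1, nat_lit 3, nat_lit 5, nat_lit 7, nat_lit 9] (Ch.cons (nat_lit 258) [nat_lit 11, nat_lit 13, nat_lit 15] (Ch.cons (nat_lit 231) [nat_lit 17, nat_lit 19, nat_lit 21] (Ch.cons (nat_lit 209) [nat_lit 23, nat_lit 25, nat_lit 27] (Ch.cons (nat_lit 42) [nat_lit 29, nat_lit 31, nat_lit 33] (Ch.cons (nat_lit 163) [nat_lit 35, nat_lit 37, nat_lit 39] (Ch.cons (nat_lit 2) [nat_lit 41, nat_lit 43, nat_lit 45, nat_lit 47, nat_lit 49, nat_lit 51, nat_lit 53, nat_lit 55] Ch.nil)))))))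

theorem mo_exact : Ch.Exact 276 mo_E0 mo_ch (grp 276 mo_E0) :=
  Ch.exact (k := 9) (L := (lab 276 9)) hn mo_E0_ok (by decide +kernel) (wgrp_le_grp _ _ _) mo_card0.le

theorem TM_s0 : Stab 276 (grp 276 EM) [] mo_E0 322560 :=
  Stab.root' mo_E0_ok mo_eq mo_card

theorem le892 : grp 276 p_K ≤ grp 276 mo_E0 :=
  grp_le_of_memB hn hk mo_E0_ok p_K_ok (ws := [nat_lit 0x2b2f1a11130e, nat_lit 0x292f18110d01, nat_lit 0x33231a120c, nat_lit 0x2f31241f140c, nat_lit 0x292d241f1911130b, nat_lit 45, nat_lit 11055, nat_lit 10541, nat_lit 51]) (by decide +kernel)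

theorem p_le : grp 276 p_K ≤ (grp 276 EM) :=
  (le892.trans TM_s0.le)

theorem p_mem : Net.toPerm 276 n_t ∈ (grp 276 EM) :=
  p_le (toPerm_mem_grp (E := p_K) (List.Mem.tail _ (List.Mem.tail _ (List.Mem.tail _ (List.Mem.tail _ (List.Mem.tail _ (List.Mem.head _)))))))

theorem p_sym : Sym 276 (grp 276 EM) [n_t] p_K 0 :=
  Sym.of_lab hn hk (okE_cons.2 ⟨n_t_ok, okE_nil _⟩) p_K_ok p_le (kT := 0) (by decide +kernel)

theorem TM_s1 : Stab 276 (grp 276 EM) [nat_lit 12] V893 40320 :=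
  Stab.step (k := 9) (L := (lab 276 9)) hn TM_s0 V893_ok (grp_mono (List.subset_append_right [n_s1, n_b1, n_b2, n_b3, n_s2] _)) (c := (Ch.cons (nat_lit 258) [nat_lit 1, nat_lit 3, nat_lit 5] (Ch.cons (nat_lit 231) [nat_lit 7, nat_lit 9, nat_lit 11] (Ch.cons (nat_lit 209) [nat_lit 13, nat_lit 15, nat_lit 17] (Ch.cons (nat_lit 42) [nat_lit 19, nat_lit 21, nat_lit 23] (Ch.cons (nat_lit 163) [nat_lit 25, nat_lit 27, nat_lit 29] (Ch.cons (nat_lit 2) [nat_lit 31, nat_lit 33, nat_lit 35, nat_lit 37, nat_lit 39, nat_lit 41, nat_lit 43, nat_lit 45] Ch.nil))))))) (by decide +kernel)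

theorem TM_s2 : Stab 276 (grp 276 EM) [nat_lit 258, nat_lit 12] V894 5760 :=
  Stab.step (k := 9) (L := (lab 276 9)) hn TM_s1 V894_ok (grp_mono (List.subset_append_right [g833, g829, g830] _)) (c := (Ch.cons (nat_lit 231) [nat_lit 1, nat_lit 3, nat_lit 5] (Ch.cons (nat_lit 209) [nat_lit 7, nat_lit 9, nat_lit 11] (Ch.cons (nat_lit 42) [nat_lit 13, nat_lit 15, nat_lit 17] (Ch.cons (nat_lit 163) [nat_lit 19, nat_lit 21, nat_lit 23] (Ch.cons (nat_lit 2) [nat_lit 25, nat_lit 27, nat_lit 29, nat_lit 31, nat_lit 33, nat_lit 35, nat_lit 37, nat_lit 39] Ch.nil)))))) (by decide +kernel)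

theorem TM_s3 : Stab 276 (grp 276 EM) [nat_lit 231, nat_lit 258, nat_lit 12] V895 960 :=
  Stab.step (k := 9) (L := (lab 276 9)) hn TM_s2 V895_ok (grp_mono (List.subset_append_right [g840, g836, g837] _)) (c := (Ch.cons (nat_lit 209) [nat_lit 1, nat_lit 3, nat_lit 5] (Ch.cons (nat_lit 42) [nat_lit 7, nat_lit 9, nat_lit 11] (Ch.cons (nat_lit 163) [nat_lit 13, nat_lit 15, nat_lit 17] (Ch.cons (nat_lit 2) [nat_lit 19, nat_lit 21, nat_lit 23, nat_lit 25, nat_lit 27, nat_lit 29, nat_lit 31, nat_lit 33] Ch.nil))))) (by decide +kernel)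

theorem TM_s4 : Stab 276 (grp 276 EM) [nat_lit 209, nat_lit 231, nat_lit 258, nat_lit 12] V896 192 :=
  Stab.step (k := 9) (L := (lab 276 9)) hn TM_s3 V896_ok (grp_mono (List.subset_append_right [g847, g843, g844] _)) (c := (Ch.cons (nat_lit 42) [nat_lit 1, nat_lit 3, nat_lit 5] (Ch.cons (nat_lit 163) [nat_lit 7, nat_lit 9, nat_lit 11] (Ch.cons (nat_lit 2) [nat_lit 13, nat_lit 15, nat_lit 17, nat_lit 19, nat_lit 21, nat_lit 23, nat_lit 25, nat_lit 27] Ch.nil)))) (by decide +kernel)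

theorem TM_s5 : Stab 276 (grp 276 EM) [nat_lit 42, nat_lit 209, nat_lit 231, nat_lit 258, nat_lit 12] V897 48 :=
  Stab.step (k := 9) (L := (lab 276 9)) hn TM_s4 V897_ok (grp_mono (List.subset_append_right [g850, g851, g852] _)) (c := (Ch.cons (nat_lit 163) [nat_lit 1, nat_lit 3, nat_lit 5] (Ch.cons (nat_lit 2) [nat_lit 7, nat_lit 9, nat_lit 11, nat_lit 13, nat_lit 15, nat_lit 17, nat_lit 19, nat_lit 21] Ch.nil))) (by decide +kernel)

theorem TM_s6 : Stab 276 (grp 276 EM) [nat_lit 163, nat_lit 42, nat_lit 209, nat_lit 231, nat_lit 258, nat_lit 12] V898 16 :=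
  Stab.step (k := 9) (L := (lab 276 9)) hn TM_s5 V898_ok (grp_mono (List.subset_append_right [g861, g857, g858] _)) (c := (Ch.cons (nat_lit 2) [nat_lit 1, nat_lit 3, nat_lit 5, nat_lit 7, nat_lit 9, nat_lit 11, nat_lit 13, nat_lit 15] Ch.nil)) (by decide +kernel)

theorem le901 : grp 276 V900 ≤ grp 276 V898 :=
  grp_le_of_memB hn hk V898_ok V900_ok (ws := [nat_lit 263, nat_lit 1805]) (by decide +kernel)

theorem TM_s7 : Stab 276 (grp 276 EM) [nat_lit 55, nat_lit 163, nat_lit 42, nat_lit 209, nat_lit 231, nat_lit 258, nat_lit 12] V900 4 :=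
  Stab.step (k := 9) (L := (lab 276 9)) hn TM_s6 V900_ok le901 (c := (Ch.cons (nat_lit 211) [nat_lit 1] (Ch.cons (nat_lit 260) [nat_lit 3] Ch.nil))) (by decide +kernel)

theorem TM_s8 : Stab 276 (grp 276 EM) [nat_lit 211, nat_lit 55, nat_lit 163, nat_lit 42, nat_lit 209, nat_lit 231, nat_lit 258, nat_lit 12] V902 2 :=
  Stab.step (k := 9) (L := (lab 276 9)) hn TM_s7 V902_ok (grp_mono (List.subset_append_right [g899] _)) (c := (Ch.cons (nat_lit 260) [nat_lit 1] Ch.nil)) (by decide +kernel)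

theorem TM_s9 : Stab 276 (grp 276 EM) [nat_lit 260, nat_lit 211, nat_lit 55, nat_lit 163, nat_lit 42, nat_lit 209, nat_lit 231, nat_lit 258, nat_lit 12] V903 1 :=
  Stab.step (k := 9) (L := (lab 276 9)) hn TM_s8 V903_ok (grp_mono (List.subset_append_right [n_tw] _)) (c := Ch.nil) (by decide +kernel)

theorem n_s1_TM : Net.toPerm 276 n_s1 ∈ (grp 276 EM) :=
  TM_s0.le (toPerm_mem_grp (E := mo_E0) (List.Mem.head _))

theorem n_b1_TM : Net.toPerm 276 n_b1 ∈ (grp 276 EM) :=
  TM_s0.le (toPerm_mem_grp (E := mo_E0) (List.Mem.tail _ (List.Mem.head _)))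

theorem n_b2_TM : Net.toPerm 276 n_b2 ∈ (grp 276 EM) :=
  TM_s0.le (toPerm_mem_grp (E := mo_E0) (List.Mem.tail _ (List.Mem.tail _ (List.Mem.head _))))

theorem n_b3_TM : Net.toPerm 276 n_b3 ∈ (grp 276 EM) :=
  TM_s0.le (toPerm_mem_grp (E := mo_E0) (List.Mem.tail _ (List.Mem.tail _ (List.Mem.tail _ (List.Mem.head _)))))

theorem n_s2_TM : Net.toPerm 276 n_s2 ∈ (grp 276 EM) :=
  TM_s0.le (toPerm_mem_grp (E := mo_E0) (List.Mem.tail _ (List.Mem.tail _ (List.Mem.tail _ (List.Mem.tail _ (List.Mem.head _))))))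

theorem g833_TM : Net.toPerm 276 g833 ∈ (grp 276 EM) :=
  TM_s0.le (toPerm_mem_grp (E := mo_E0) (List.Mem.tail _ (List.Mem.tail _ (List.Mem.tail _ (List.Mem.tail _ (List.Mem.tail _ (List.Mem.head _)))))))

theorem g829_TM : Net.toPerm 276 g829 ∈ (grp 276 EM) :=
  TM_s0.le (toPerm_mem_grp (E := mo_E0) (List.Mem.tail _ (List.Mem.tail _ (List.Mem.tail _ (List.Mem.tail _ (List.Mem.tail _ (List.Mem.tail _ (List.Mem.head _))))))))

theorem g830_TM : Net.toPerm 276 g830 ∈ (grp 276 EM) :=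
  TM_s0.le (toPerm_mem_grp (E := mo_E0) (List.Mem.tail _ (List.Mem.tail _ (List.Mem.tail _ (List.Mem.tail _ (List.Mem.tail _ (List.Mem.tail _ (List.Mem.tail _ (List.Mem.head _)))))))))

theorem g840_TM : Net.toPerm 276 g840 ∈ (grp 276 EM) :=
  TM_s0.le (toPerm_mem_grp (E := mo_E0) (List.Mem.tail _ (List.Mem.tail _ (List.Mem.tail _ (List.Mem.tail _ (List.Mem.tail _ (List.Mem.tail _ (List.Mem.tail _ (List.Mem.tail _ (List.Mem.head _))))))))))

theorem g836_TM : Net.toPerm 276 g836 ∈ (grp 276 EM) :=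
  TM_s0.le (toPerm_mem_grp (E := mo_E0) (List.Mem.tail _ (List.Mem.tail _ (List.Mem.tail _ (List.Mem.tail _ (List.Mem.tail _ (List.Mem.tail _ (List.Mem.tail _ (List.Mem.tail _ (List.Mem.tail _ (List.Mem.head _)))))))))))

theorem g837_TM : Net.toPerm 276 g837 ∈ (grp 276 EM) :=
  TM_s0.le (toPerm_mem_grp (E := mo_E0) (List.Mem.tail _ (List.Mem.tail _ (List.Mem.tail _ (List.Mem.tail _ (List.Mem.tail _ (List.Mem.tail _ (List.Mem.tail _ (List.Mem.tail _ (List.Mem.tail _ (List.Mem.tail _ (List.Mem.head _))))))))))))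

theorem g847_TM : Net.toPerm 276 g847 ∈ (grp 276 EM) :=
  TM_s0.le (toPerm_mem_grp (E := mo_E0) (List.Mem.tail _ (List.Mem.tail _ (List.Mem.tail _ (List.Mem.tail _ (List.Mem.tail _ (List.Mem.tail _ (List.Mem.tail _ (List.Mem.tail _ (List.Mem.tail _ (List.Mem.tail _ (List.Mem.tail _ (List.Mem.head _)))))))))))))

theorem g843_TM : Net.toPerm 276 g843 ∈ (grp 276 EM) :=
  TM_s0.le (toPerm_mem_grp (E := mo_E0) (List.Mem.tail _ (List.Mem.tail _ (List.Mem.tail _ (List.Mem.tail _ (List.Mem.tail _ (List.Mem.tail _ (List.Mem.tail _ (List.Mem.tail _ (List.Mem.tail _ (List.Mem.tail _ (List.Mem.tail _ (List.Mem.tail _ (List.Mem.head _))))))))))))))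

theorem g844_TM : Net.toPerm 276 g844 ∈ (grp 276 EM) :=
  TM_s0.le (toPerm_mem_grp (E := mo_E0) (List.Mem.tail _ (List.Mem.tail _ (List.Mem.tail _ (List.Mem.tail _ (List.Mem.tail _ (List.Mem.tail _ (List.Mem.tail _ (List.Mem.tail _ (List.Mem.tail _ (List.Mem.tail _ (List.Mem.tail _ (List.Mem.tail _ (List.Mem.tail _ (List.Mem.head _)))))))))))))))

theorem g850_TM : Net.toPerm 276 g850 ∈ (grp 276 EM) :=
  TM_s0.le (toPerm_mem_grp (E := mo_E0) (List.Mem.tail _ (List.Mem.tail _ (List.Mem.tail _ (List.Mem.tail _ (List.Mem.tail _ (List.Mem.tail _ (List.Mem.tail _ (List.Mem.tail _ (List.Mem.tail _ (List.Mem.tail _ (List.Mem.tail _ (List.Mem.tail _ (List.Mem.tail _ (List.Mem.tail _ (List.Mem.head _))))))))))))))))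

theorem g851_TM : Net.toPerm 276 g851 ∈ (grp 276 EM) :=
  TM_s0.le (toPerm_mem_grp (E := mo_E0) (List.Mem.tail _ (List.Mem.tail _ (List.Mem.tail _ (List.Mem.tail _ (List.Mem.tail _ (List.Mem.tail _ (List.Mem.tail _ (List.Mem.tail _ (List.Mem.tail _ (List.Mem.tail _ (List.Mem.tail _ (List.Mem.tail _ (List.Mem.tail _ (List.Mem.tail _ (List.Mem.tail _ (List.Mem.head _)))))))))))))))))

theorem g852_TM : Net.toPerm 276 g852 ∈ (grp 276 EM) :=
  TM_s0.le (toPerm_mem_grp (E := mo_E0) (List.Mem.tail _ (List.Mem.tail _ (List.Mem.tail _ (List.Mem.tail _ (List.Mem.tail _ (List.Mem.tail _ (List.Mem.tail _ (List.Mem.tail _ (List.Mem.tail _ (List.Mem.tail _ (List.Mem.tail _ (List.Mem.tail _ (List.Mem.tail _ (List.Mem.tail _ (List.Mem.tail _ (List.Mem.tail _ (List.Mem.head _))))))))))))))))))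

theorem g861_TM : Net.toPerm 276 g861 ∈ (grp 276 EM) :=
  TM_s0.le (toPerm_mem_grp (E := mo_E0) (List.Mem.tail _ (List.Mem.tail _ (List.Mem.tail _ (List.Mem.tail _ (List.Mem.tail _ (List.Mem.tail _ (List.Mem.tail _ (List.Mem.tail _ (List.Mem.tail _ (List.Mem.tail _ (List.Mem.tail _ (List.Mem.tail _ (List.Mem.tail _ (List.Mem.tail _ (List.Mem.tail _ (List.Mem.tail _ (List.Mem.tail _ (List.Mem.head _)))))))))))))))))))

theorem g857_TM : Net.toPerm 276 g857 ∈ (grp 276 EM) :=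
  TM_s0.le (toPerm_mem_grp (E := mo_E0) (List.Mem.tail _ (List.Mem.tail _ (List.Mem.tail _ (List.Mem.tail _ (List.Mem.tail _ (List.Mem.tail _ (List.Mem.tail _ (List.Mem.tail _ (List.Mem.tail _ (List.Mem.tail _ (List.Mem.tail _ (List.Mem.tail _ (List.Mem.tail _ (List.Mem.tail _ (List.Mem.tail _ (List.Mem.tail _ (List.Mem.tail _ (List.Mem.tail _ (List.Mem.head _))))))))))))))))))))

theorem g858_TM : Net.toPerm 276 g858 ∈ (grp 276 EM) :=
  TM_s0.le (toPerm_mem_grp (E := mo_E0) (List.Mem.tail _ (List.Mem.tail _ (List.Mem.tail _ (List.Mem.tail _ (List.Mem.tail _ (List.Mem.tail _ (List.Mem.tail _ (List.Mem.tail _ (List.Mem.tail _ (List.Mem.tail _ (List.Mem.tail _ (List.Mem.tail _ (List.Mem.tail _ (List.Mem.tail _ (List.Mem.tail _ (List.Mem.tail _ (List.Mem.tail _ (List.Mem.tail _ (List.Mem.tail _ (List.Mem.head _)))))))))))))))))))))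

theorem g867_TM : Net.toPerm 276 g867 ∈ (grp 276 EM) :=
  TM_s0.le (toPerm_mem_grp (E := mo_E0) (List.Mem.tail _ (List.Mem.tail _ (List.Mem.tail _ (List.Mem.tail _ (List.Mem.tail _ (List.Mem.tail _ (List.Mem.tail _ (List.Mem.tail _ (List.Mem.tail _ (List.Mem.tail _ (List.Mem.tail _ (List.Mem.tail _ (List.Mem.tail _ (List.Mem.tail _ (List.Mem.tail _ (List.Mem.tail _ (List.Mem.tail _ (List.Mem.tail _ (List.Mem.tail _ (List.Mem.tail _ (List.Mem.head _))))))))))))))))))))))

theorem g868_TM : Net.toPerm 276 g868 ∈ (grp 276 EM) :=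
  TM_s0.le (toPerm_mem_grp (E := mo_E0) (List.Mem.tail _ (List.Mem.tail _ (List.Mem.tail _ (List.Mem.tail _ (List.Mem.tail _ (List.Mem.tail _ (List.Mem.tail _ (List.Mem.tail _ (List.Mem.tail _ (List.Mem.tail _ (List.Mem.tail _ (List.Mem.tail _ (List.Mem.tail _ (List.Mem.tail _ (List.Mem.tail _ (List.Mem.tail _ (List.Mem.tail _ (List.Mem.tail _ (List.Mem.tail _ (List.Mem.tail _ (List.Mem.tail _ (List.Mem.head _)))))))))))))))))))))))

theorem n_t_TM : Net.toPerm 276 n_t ∈ (grp 276 EM) :=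
  TM_s0.le (toPerm_mem_grp (E := mo_E0) (List.Mem.tail _ (List.Mem.tail _ (List.Mem.tail _ (List.Mem.tail _ (List.Mem.tail _ (List.Mem.tail _ (List.Mem.tail _ (List.Mem.tail _ (List.Mem.tail _ (List.Mem.tail _ (List.Mem.tail _ (List.Mem.tail _ (List.Mem.tail _ (List.Mem.tail _ (List.Mem.tail _ (List.Mem.tail _ (List.Mem.tail _ (List.Mem.tail _ (List.Mem.tail _ (List.Mem.tail _ (List.Mem.tail _ (List.Mem.tail _ (List.Mem.head _))))))))))))))))))))))))

theorem g548_TM : Net.toPerm 276 g548 ∈ (grp 276 EM) :=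
  TM_s0.le (toPerm_mem_grp (E := mo_E0) (List.Mem.tail _ (List.Mem.tail _ (List.Mem.tail _ (List.Mem.tail _ (List.Mem.tail _ (List.Mem.tail _ (List.Mem.tail _ (List.Mem.tail _ (List.Mem.tail _ (List.Mem.tail _ (List.Mem.tail _ (List.Mem.tail _ (List.Mem.tail _ (List.Mem.tail _ (List.Mem.tail _ (List.Mem.tail _ (List.Mem.tail _ (List.Mem.tail _ (List.Mem.tail _ (List.Mem.tail _ (List.Mem.tail _ (List.Mem.tail _ (List.Mem.tail _ (List.Mem.head _)))))))))))))))))))))))))

theorem n_u_TM : Net.toPerm 276 n_u ∈ (grp 276 EM) :=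
  TM_s0.le (toPerm_mem_grp (E := mo_E0) (List.Mem.tail _ (List.Mem.tail _ (List.Mem.tail _ (List.Mem.tail _ (List.Mem.tail _ (List.Mem.tail _ (List.Mem.tail _ (List.Mem.tail _ (List.Mem.tail _ (List.Mem.tail _ (List.Mem.tail _ (List.Mem.tail _ (List.Mem.tail _ (List.Mem.tail _ (List.Mem.tail _ (List.Mem.tail _ (List.Mem.tail _ (List.Mem.tail _ (List.Mem.tail _ (List.Mem.tail _ (List.Mem.tail _ (List.Mem.tail _ (List.Mem.tail _ (List.Mem.tail _ (List.Mem.head _))))))))))))))))))))))))))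

theorem g864_TM : Net.toPerm 276 g864 ∈ (grp 276 EM) :=
  TM_s0.le (toPerm_mem_grp (E := mo_E0) (List.Mem.tail _ (List.Mem.tail _ (List.Mem.tail _ (List.Mem.tail _ (List.Mem.tail _ (List.Mem.tail _ (List.Mem.tail _ (List.Mem.tail _ (List.Mem.tail _ (List.Mem.tail _ (List.Mem.tail _ (List.Mem.tail _ (List.Mem.tail _ (List.Mem.tail _ (List.Mem.tail _ (List.Mem.tail _ (List.Mem.tail _ (List.Mem.tail _ (List.Mem.tail _ (List.Mem.tail _ (List.Mem.tail _ (List.Mem.tail _ (List.Mem.tail _ (List.Mem.tail _ (List.Mem.tail _ (List.Mem.head _)))))))))))))))))))))))))))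

theorem n_tu_TM : Net.toPerm 276 n_tu ∈ (grp 276 EM) :=
  TM_s0.le (toPerm_mem_grp (E := mo_E0) (List.Mem.tail _ (List.Mem.tail _ (List.Mem.tail _ (List.Mem.tail _ (List.Mem.tail _ (List.Mem.tail _ (List.Mem.tail _ (List.Mem.tail _ (List.Mem.tail _ (List.Mem.tail _ (List.Mem.tail _ (List.Mem.tail _ (List.Mem.tail _ (List.Mem.tail _ (List.Mem.tail _ (List.Mem.tail _ (List.Mem.tail _ (List.Mem.tail _ (List.Mem.tail _ (List.Mem.tail _ (List.Mem.tail _ (List.Mem.tail _ (List.Mem.tail _ (List.Mem.tail _ (List.Mem.tail _ (List.Mem.tail _ (List.Mem.head _))))))))))))))))))))))))))))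

theorem g491_TM : Net.toPerm 276 g491 ∈ (grp 276 EM) :=
  TM_s0.le (toPerm_mem_grp (E := mo_E0) (List.Mem.tail _ (List.Mem.tail _ (List.Mem.tail _ (List.Mem.tail _ (List.Mem.tail _ (List.Mem.tail _ (List.Mem.tail _ (List.Mem.tail _ (List.Mem.tail _ (List.Mem.tail _ (List.Mem.tail _ (List.Mem.tail _ (List.Mem.tail _ (List.Mem.tail _ (List.Mem.tail _ (List.Mem.tail _ (List.Mem.tail _ (List.Mem.tail _ (List.Mem.tail _ (List.Mem.tail _ (List.Mem.tail _ (List.Mem.tail _ (List.Mem.tail _ (List.Mem.tail _ (List.Mem.tail _ (List.Mem.tail _ (List.Mem.tail _ (List.Mem.head _)))))))))))))))))))))))))))))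

theorem g899_TM : Net.toPerm 276 g899 ∈ (grp 276 EM) :=
  TM_s7.le (toPerm_mem_grp (E := V900) (List.Mem.head _))

theorem n_tw_TM : Net.toPerm 276 n_tw ∈ (grp 276 EM) :=
  TM_s7.le (toPerm_mem_grp (E := V900) (List.Mem.tail _ (List.Mem.head _)))

noncomputable def TM_s9_O : ℕ := (nat_lit 0x9993333366666ccccc99999b3333666664ccccd9999b3333266666ccccd9999933332c1f07c1f07c1f07c0f83e0f83e0f83e0f81f07c1f07c1f07c1f03e0f83e0f83e0f83e7319cc63398ce7319cc63398ce7319ce63398c67319ce63398c67319ce63398c6731826d926c93649b24db26d936c9b649b24d926d936c9b64db24d926c93649b64db26d92000000000000000000000000000000000000000000000000000000000000000001000000040000000000000000000000000000000000000000000000000000000000000000000000000008000000000000000000000000000000000000000000000000000000000000000000000000020000000000000000000000000000000000000000000000000000000000000000000000000000000000000000000000000000000000000040000000000000000000000000000000000000080000000000000000000000000000000000000000000000000000000000000000000000000000000000000000000000080000000000000000000000000000080000000000000000000000000000000000000000000000000000000100000000000000000000000000000000000000000000000000000000000000000)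

theorem TM_s9_F : Frame 276 (grp 276 EM) 9 13 TM_s9_O 1 1 :=
  IsBase.frame TM_s9.isBase (by decide +kernel)

noncomputable def TM_s8_O : ℕ := (nat_lit 0x200888000500000000702410084202020120200000000000000000000000000000000d7f1337c9a57eb3f59858b4775a959ec7a1b165fff7dfac1000000000010080800300deb436a7ead64bdc0785516d77ad08688004c9005082043ffb67bdd1d6b6080800300a6fb9f9d78f262451e0a92a8001011047e8b86fcf402003fffd5f0200811ffff80300184001aaf5218cb91ff57536f61050847a5e402253ff013df4984fd38911ff087ef00d734343c6d8108eb0b6693c78afb3315f4004e3b5be0f03f0d6c0da27f11e0f0780f02afa372a6595ec324d94a0486bf429464f501ec5d39ace30cba9cc7678a99cce660cc7f60a6bd5436a7e305d95d885a8e6d27a82915966254a9a9ace929654d855aa554aaa000000000000000000000000000000000000000000000000000000000000000001000000040000000000000000000000000000000000000000000000000000000000000000000000000008000000000000000000000000000000000000000000000000000000000000000000000000020000000000000000000000000000000000000000000000000000000000000000000000000000000000000000000000000000000000000040000000000000000000000000000000000000080000000000000000000000000000000000000000000000000000000000000000000000000000000000000000000000080000000000000000000000000000080000000000000000000000000000000000000000000000000000)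

theorem TM_s8_F : Frame 276 (grp 276 EM) 8 16 TM_s8_O 0 1 :=
  Stab.frame hn TM_s8 (by decide +kernel)

noncomputable def TM_s7_O : ℕ := (nat_lit 0x6338b881140202099060a41408880202212a220050002000200020000000000000000908407082bd450160e1913e23262588c52911048a8af9c1dd9820c000a331829803012a3c1032c123bac0c17c448807560140808445151190462306f7cdf1ceb7dfa9803015ccf2a56445544ff08122b1eab880bc2ec7554d9afa9dce002eb8dd2cf3310567e000c8862b40b815e8f81e6eb4cd26bf3901571b2fc7b3d8455d86498f4232a4c87f60ce093f09b723c75c85e117739adbb454bd20e8e8db04197a1db50475e1491962e7498e1806a4afaef5534ee50bd66e4047b642d46788286bcb4751b5687849117b99ad58d4954000000000000000000000000000000000000000000000000000000000000000001000000040000000000000000000000000000000000000000000000000000000000000000000000000008000000000000000000000000000000000000000000000000000000000000000000000000020000000000000000000000000000000000000000000000000000000000000000000000000000000000000000000000000000000000000040000000000000000000000000000000000000080000000000000000000000000000000000000000000000000000000000000000000000000000000000000000000000080000000000000)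

theorem TM_s7_F : Frame 276 (grp 276 EM) 7 14 TM_s7_O 0 1 :=
  Stab.frame hn TM_s7 (by decide +kernel)

noncomputable def TM_s6_O : ℕ := (nat_lit 0x9220a0800c02020b1201957618a00202202212005020880c300000000000000000000611c101112808080c0784080020a0008008c01110090660101922d29823619a980000433e3810038091a110602c100ac8043a212621311290608001080d0a8b052002703135d828a0786f26ea64c16ef0a075c53c85411164deaaffa83c79dad730190dbd274200e88ba75b6ff74275867090c823aa1bdc33552eb07709057f8beda85ad0303a2e6291091dd16e9cb926b2a056ed99c8c14352f9d7166843688a4e8adbb648947a2d5755a1a2000000000000000000000000000000000000000000000000000000000000000001000000040000000000000000000000000000000000000000000000000000000000000000000000000008000000000000000000000000000000000000000000000000000000000000000000000000020000000000000000000000000000000000000000000000000000000000000000000000000000000000000000000000000000000000000040000000000000000000000000000000000000080000000000000000000000000000000000000000)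

theorem TM_s6_F : Frame 276 (grp 276 EM) 6 12 TM_s6_O 0 1 :=
  Stab.frame hn TM_s6 (by decide +kernel)

noncomputable def TM_s5_O : ℕ := (nat_lit 0x4000000800000000000100000000000000000000000000008000000008000000000010000000000000000000000000080000000000000000000000000000000000000020000400020000000000000000000040000000000000000000000008000000000000006000000000000000000000000000000000000800000000000000000000000000000000040000000000000000000000000000010000100000100000000000000000000100000000000000042000000000000000000000000000000000000020000000002800000400100201000000800000000000002001100002000000080000002000000100020200800080000002000000000200000000000080200000001008000000220800004000000100800000000020000020000400000000002000000020001000000000200010000001000000100880000220a80000000000000000000000000000800001002000000000022000001000000000000000000020080000008000200000002600000000000000008000000008020000000000001100003008800000000001040000100000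11418000000000000002000004000000000000000802000000004000200000000200400000000100000000000080020800000100200000000400000008000020002000100000000100000008000000000000000100004003100004000000001008000200000010000000800000100800100004000000000000000000000001200000000811080000001008002000010400004000008000011001011040020080000800100000000000000000080000020060000400000000010000c00000000000010002020480500000020000000000000008000280000060000041400000400000400000000040000000080c05000000040000040000040008000200000040004000004888061000400000000000000004000000104484000000000000000000000040040008004000060082000004000000402000000000000000000000000000000000000000000000000000000000000000000001000000040000000000000000000000000000000000000000000000000000000000000000000000000008000000000000000000000000000000000000000000000000000000000000000000000000020000000000000000000000000000000000000000000000000000000000000000000000000000000000000000000000000000000000000040000000000)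

theorem TM_s5_F : Frame 276 (grp 276 EM) 5 26 TM_s5_O 0 1 :=
  Stab.frame hn TM_s5 (by decide +kernel)

noncomputable def TM_s4_O : ℕ := (nat_lit 0x2000040002000000000000000000004000000000000000000000000000000000000000000400000080000000000010000000000000000040000000000008002000010400004000008000011001011040020080000800100000000000000000080000020060000400000000010000c00000000000010002020480500000020000000000000008000280000060000041400000400000400000000040000000080c050000008000200018000001000010100880000220a8000000000008000000000000000080000000104484000000000000000000000040040008004000060082000004000000402000000800100000008000600000000000100004003100004000000001088000200000010011418000000010000002000004004200000000000802000000004000200000000202000000800000100800104004000000000000000000000001201000010811090000001022080000680000050090020100002080002000040000200110200200002008100000200000010002820080008802000200000000130000300880008020000104100810000500200000100002200000180020800000100200002008400000808020020002260100000000000000000000000000000000000000000000000000000000000000000001000000040000000000000000000000000000000000000000000000000000000000000000000000000008000000000000000000000000000000000000000000000000000000000000000000000000020000000000000000000000000000000000000000000000000000)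

theorem TM_s4_F : Frame 276 (grp 276 EM) 4 17 TM_s4_O 0 1 :=
  Stab.frame hn TM_s4 (by decide +kernel)

noncomputable def TM_s2_O : ℕ := (nat_lit 0x8000020000400000080000000000010000000000000000040000000000080000020060000400000000010000c00000000000010002020480500000020000000000104484000000000000000000000040040008004000060082000004000000402000022880900680108852794064102002180006003140004205311201298813298100011f1163801190283238000b9920aca042221a8330002b0ac8800882c020324102af0302000000000000000000000000000000000000000000000000000000000000000001000000040000000000000000000000000000000000000000000000000000000000000000)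

theorem TM_s2_F : Frame 276 (grp 276 EM) 2 7 TM_s2_O 0 1 :=
  Stab.frame hn TM_s2 (by decide +kernel)

noncomputable def TM_s1_O : ℕ := (nat_lit 0x400000080000200004000000800000000000100000000000000000400000000000001044840000000000000000000000400400080040000600820000040000004020000cc00326a0756c540d860209e51579c1de11cc4ea94f1112c645d2d43488c6500ccec000000000000000000000000000000000000000000000000000000000000000001000)

theorem TM_s1_F : Frame 276 (grp 276 EM) 1 4 TM_s1_O 0 1 :=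
  Stab.frame hn TM_s1 (by decide +kernel)

noncomputable def TM_s0_O : ℕ := (nat_lit 0x400000080000200004000000800000000000100000000000000000400000010000cc1076ee0756c540d860209e51579c5de51cccead4f1172ce65d2d47488c6540ecec)

theorem TM_s0_F : Frame 276 (grp 276 EM) 0 2 TM_s0_O 0 1 :=
  Stab.frame hn TM_s0 (by decide +kernel)

noncomputable def p_cnt_L : List ℕ := [0, 2, TM_s0_O, 0, 0, 1, 4, TM_s1_O, 0, 0, 2, 7, TM_s2_O, 0, 0, 4, 17, TM_s4_O, 0, 0, 5, 26, TM_s5_O, 0, 0, 6, 12, TM_s6_O, 0, 0, 7, 14, TM_s7_O, 0, 0, 8, 16, TM_s8_O, 0, 0, 9, 13, TM_s9_O, 1, 0]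

theorem p_cnt_P : Prob 276 9 (grp 276 EM) p_cnt_EG [n_t] [n_t] p_K p_cnt_L 0 0 :=
  Sym.prob hn hk p_sym p_cnt_EG_ok (grp_cons_le n_s1_TM (grp_cons_le n_b1_TM (grp_cons_le n_b2_TM (grp_cons_le n_b3_TM (grp_cons_le n_s2_TM (grp_cons_le g833_TM (grp_cons_le g829_TM (grp_cons_le g830_TM (grp_cons_le g840_TM (grp_cons_le g836_TM (grp_cons_le g837_TM (grp_cons_le g847_TM (grp_cons_le g843_TM (grp_cons_le g844_TM (grp_cons_le g850_TM (grp_cons_le g851_TM (grp_cons_le g852_TM (grp_cons_le g861_TM (grp_cons_le g857_TM (grp_cons_le g858_TM (grp_cons_le g867_TM (grp_cons_le g868_TM (grp_cons_le n_t_TM (grp_cons_le g548_TM (grp_cons_le n_u_TM (grp_cons_le g864_TM (grp_cons_le n_tu_TM (grp_cons_le g491_TM (grp_cons_le g899_TM (grp_cons_le n_tw_TM (grp_nil_le _))))))))))))))))))))))))))))))) (Frames.cons TM_s0_F (Frames.cons TM_s1_F (Frames.cons TM_s2_F (Frames.cons TM_s4_F (Frames.cons TM_s5_F (Frames.cons TM_s6_F (Frames.cons TM_s7_F (Frames.cons TM_s8_F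 (Frames.cons TM_s9_F Frames.nil))))))))) (okE_cons.2 ⟨n_t_ok, okE_nil _⟩) _

noncomputable def p_cnt_t : BT := (BT.frm (nat_lit 0) (nat_lit 0) (nat_lit 0) [] (BT.pln (nat_lit 0) (nat_lit 1) (BT.br (nat_lit 0) (nat_lit 209) [nat_lit 1, nat_lit 3] (BT.kid (nat_lit 209) (nat_lit 2688) (BT.dif (nat_lit 1) (nat_lit 0) (BT.br (nat_lit 0) (nat_lit 12) [nat_lit 3] (BT.kid (nat_lit 12) (nat_lit 384) (BT.frm (nat_lit 2) (nat_lit 270) (nat_lit 270) [nat_lit 0, nat_lit 2] (BT.pln (nat_lit 0) (nat_lit 6) (BT.and (nat_lit 5) (nat_lit 0) (BT.br (nat_lit 0) (nat_lit 112) [nat_lit 5, nat_lit 9] (BT.kid (nat_lit 112) (nat_lit 64) (BT.dif (nat_lit 2) (nat_lit 0) (BT.br (nat_lit 0) (nat_lit 163) [nat_lit 7, nat_lit 9] (BT.dead (nat_lit 190) (BT.frm (nat_lit 3) (nat_lit 0x1a14010e) (nat_lit 0x1814010e) [nat_lit 0, nat_lit 2, nat_lit 6, nat_lit 8] (BT.pln (nat_lit 0) (nat_lit 4) (BT.fix (nat_lit 1) (BT.and (nat_lit 1) (nat_lit 0) (BT.cnt (nat_lit 0)))))) (BT.kid (nat_lit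 163) (nat_lit 64) (BT.dif (nat_lit 4) (nat_lit 0) (BT.dif (nat_lit 0) (nat_lit 3) (BT.br (nat_lit 0) (nat_lit 190) [nat_lit 7, nat_lit 9] (BT.kid (nat_lit 190) (nat_lit 16) (BT.dif (nat_lit 7) (nat_lit 0) (BT.dif (nat_lit 0) (nat_lit 6) (BT.dif (nat_lit 0) (nat_lit 5) (BT.br (nat_lit 0) (nat_lit 231) [] (BT.dead (nat_lit 42) (BT.frm (nat_lit 5) (nat_lit 0x241d1a14010e) (nat_lit 0x231d1a14010e) [nat_lit 0, nat_lit 4, nat_lit 7, nat_lit 9, nat_lit 13, nat_lit 15] (BT.pln (nat_lit 0) (nat_lit 6) (BT.fix (nat_lit 1) (BT.and (nat_lit 1) (nat_lit 0) (BT.cnt (nat_lit 0)))))) (BT.dead (nat_lit 258) (BT.frm (nat_lit 5) (nat_lit 0x241d1a14010e) (nat_lit 0x1d1a14010e) [nat_lit 0, nat_lit 4, nat_lit 7, nat_lit 9, nat_lit 13, nat_lit 15] (BT.pln (nat_lit 0) (nat_lit 6) (BT.fix (nat_lit 1) (BT.and (nat_lit 1) (nat_lit 0) (BT.cnt (nat_lit 0)))))) (BT.kid (nat_lit 231) (nat_lit 16) (BT.pln (nat_lit 17) (nat_lit 0) (BT.dif (nat_lit 21) (nat_lit 0) (BT.frm (nat_lit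 4) (nat_lit 0x1d1a14010e) (nat_lit 0x1d1a14010e) [nat_lit 6, nat_lit 9, nat_lit 11, nat_lit 15, nat_lit 17] (BT.pln (nat_lit 0) (nat_lit 22) (BT.and (nat_lit 2) (nat_lit 0) (BT.br (nat_lit 0) (nat_lit 44) [nat_lit 11, nat_lit 13] (BT.kid (nat_lit 44) (nat_lit 4) (BT.pln (nat_lit 3) (nat_lit 18) (BT.and (nat_lit 5) (nat_lit 0) (BT.fix (nat_lit 1) (BT.dif (nat_lit 1) (nat_lit 0) (BT.frm (nat_lit 5) (nat_lit 0x241d1a14010e) (nat_lit 0x241d1a14010e) [nat_lit 10, nat_lit 14, nat_lit 17, nat_lit 19, nat_lit 23, nat_lit 25] (BT.pln (nat_lit 0) (nat_lit 6) (BT.dif (nat_lit 2) (nat_lit 0) (BT.frm (nat_lit 6) (nat_lit 0x2d241d1a14010e) (nat_lit 0x2d241d1a14010e) [nat_lit 7, nat_lit 13, nat_lit 17, nat_lit 20, nat_lit 22, nat_lit 26, nat_lit 28] (BT.pln (nat_lit 0) (nat_lit 7) (BT.dif (nat_lit 2) (nat_lit 0) (BT.br (nat_lit 0) (nat_lit 210) [nat_lit 15] (BT.kid (nat_lit 210) (nat_lit 2) (BT.frm (nat_lit 1) (nat_lit 270) (nat_lit 270) [nat_lit 32] (BT.pln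 (nat_lit 0) (nat_lit 2) (BT.dif (nat_lit 0) (nat_lit 4) (BT.pln (nat_lit 6) (nat_lit 8) (BT.dif (nat_lit 1) (nat_lit 0) (BT.frm (nat_lit 7) (nat_lit 0x2d241d1a14010e) (nat_lit 0x2d241d1a14010e) [nat_lit 5, nat_lit 16, nat_lit 22, nat_lit 26, nat_lit 29, nat_lit 31, nat_lit 35, nat_lit 37] (BT.pln (nat_lit 0) (nat_lit 9) (BT.dif (nat_lit 2) (nat_lit 0) (BT.br (nat_lit 0) (nat_lit 103) [nat_lit 17] (BT.kid (nat_lit 103) (nat_lit 1) (BT.one (nat_lit 8) (nat_lit 0x2d241d1a14010e) (nat_lit 0x2d241d1a14010e) [nat_lit 0, nat_lit 9, nat_lit 20, nat_lit 26, nat_lit 30, nat_lit 33, nat_lit 35, nat_lit 39, nat_lit 41]) BT.nil)))))))))) BT.nil)))))))))))) BT.nil))))))) BT.nil))))))) BT.nil)))) BT.nil)))) BT.nil))))) BT.nil))) BT.nil))))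

theorem p_cnt : Cnt 276 (grp 276 EM) [n_t] [n_t] 0 0 0 0 21504 :=
  BT.sound p_cnt_P Known.nil (t := p_cnt_t) (d := 0) (by decide +kernel)

theorem p_ge : 21504 ≤ Nat.card (grp 276 p_K) :=
  Ch.le_card_grp (k := 9) (L := (lab 276 9)) hn p_K_ok (c := (Ch.cons (nat_lit 209) [nat_lit 1] (Ch.cons (nat_lit 12) [nat_lit 3] (Ch.cons (nat_lit 112) [nat_lit 5] (Ch.cons (nat_lit 190) [nat_lit 7, nat_lit 9] (Ch.cons (nat_lit 44) [nat_lit 11, nat_lit 13] (Ch.cons (nat_lit 210) [nat_lit 15] (Ch.cons (nat_lit 103) [nat_lit 17] Ch.nil)))))))) (by decide +kernel)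

theorem p_eq : (grp 276 EM) ⊓ Subgroup.centralizer {Net.toPerm 276 n_t} = grp 276 p_K :=
  cent_eq p_sym p_cnt p_ge

theorem p_card : Nat.card ↥((grp 276 EM) ⊓ Subgroup.centralizer {Net.toPerm 276 n_t}) = 21504 :=
  card_cent p_sym p_cnt p_ge

theorem pK_le_h : grp 276 p_K ≤ grp 276 h_K :=
  grp_le_of_memB hn hk h_K_ok p_K_ok (ws := [nat_lit 0xf0d090b070606030206, nat_lit 0xf0b0709050707040603010302, nat_lit 0xd070d0508030503050103, nat_lit 0xf090b07090606030606040209, nat_lit 0xf09070d050805040607010109, nat_lit 2315, nat_lit 0xf0d090b070905050d040503050103, nat_lit 0xf0d070905070704010306, nat_lit 0xd090709070607040d03010306]) (by decide +kernel)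

theorem pK_le_EP : grp 276 p_K ≤ grp 276 EP :=
  grp_le_of_memB hn hk EP_ok p_K_ok (ws := [nat_lit 0x301030103030301040104010303010401, nat_lit 0x30103010303010303010404, nat_lit 0x10303010301040103010404010404, nat_lit 0x103030301040103030104040104010303, nat_lit 0x103030301040103030104040103, nat_lit 0x1030303010303030103030301030303, nat_lit 0x1030303010301040103030301030104, nat_lit 0x103030301040103030103030301030103, nat_lit 0x104040104040103010404010301030103]) (by decide +kernel)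

theorem le904 : grp 276 EMO ≤ grp 276 mo_E0 :=
  grp_le_of_memB hn hk mo_E0_ok EMO_ok (ws := [nat_lit 45, nat_lit 49, nat_lit 12081, nat_lit 11063, nat_lit 0x33241d1a11130e010c, nat_lit 0x37241f1a11110c13010c, nat_lit 0x2f17120b0d010e, nat_lit 0x292d231911130c010c, nat_lit 0x2b231d1a140e03, nat_lit 0x2d241a140b0d03, nat_lit 0x2b2f241a140b0d03, nat_lit 0x2d241f1a140c13010d, nat_lit 0x35242011130c010d, nat_lit 0x2b2f241f1a140c13010d]) (by decide +kernel)

theorem EMO_le : grp 276 EMO ≤ grp 276 EM :=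
  (le904.trans TM_s0.le)

theorem tK_le_ET : grp 276 ht_c2_K ≤ grp 276 ET :=
  grp_le_of_memB hn hk ET_ok ht_c2_K_ok (ws := [nat_lit 0x602050305, nat_lit 0x501030206, nat_lit 0x603050402, nat_lit 0x60104050302, nat_lit 0x1050206030504, nat_lit 0x3030303]) (by decide +kernel)

theorem le905 : grp 276 cq ≤ grp 276 h_K :=
  grp_le_of_memB hn hk h_K_ok cq_ok (ws := [nat_lit 0xf0b0709050508040607, nat_lit 0xf090709050508040607]) (by decide +kernel)

theorem cq_le : grp 276 cq ≤ (grp 276 h_K) :=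
  (le905.trans TH_s0.le)

theorem cq_sym : Sym 276 (grp 276 h_K) EQ cq 0 :=
  Sym.of_lab hn hk EQ_ok cq_ok cq_le (kT := 0) (by decide +kernel)

noncomputable def cq_cnt_L : List ℕ := [0, 1, TH_s0_O, 0, 0, 2, 14, TH_s28_O, 0, 0, 3, 9, TH_s29_O, 0, 0, 4, 11, TH_s30_O, 0, 0, 5, 13, TH_s31_O, 0, 0, 6, 10, TH_s32_O, 1, 0]

theorem cq_cnt_P : Prob 276 9 (grp 276 h_K) cq_cnt_EG EQ EQ cq cq_cnt_L 0 0 :=
  Sym.prob hn hk cq_sym cq_cnt_EG_ok (grp_cons_le g173_TH (grp_cons_le g174_TH (grp_cons_le g175_TH (grp_cons_le g176_TH (grp_cons_le g177_TH (grp_cons_le g35_TH (grp_cons_le g36_TH (grp_cons_le g37_TH (grp_cons_le g38_TH (grp_cons_le g39_TH (grp_cons_le g40_TH (grp_cons_le g41_TH (grp_cons_le g42_TH (grp_cons_le g214_TH (grp_cons_le g215_TH (grp_cons_le g216_TH (grp_cons_le g217_TH (grp_nil_le _)))))))))))))))))) (Frames.cons TH_s0_F (Frames.cons TH_s28_F (Frames.cons TH_s29_F (Frames.cons TH_s30_F (Frames.cons TH_s31_F (Frames.cons TH_s32_F Frames.nil))))))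 EQ_ok _

noncomputable def cq_cnt_t : BT := (BT.fix (nat_lit 3) (BT.frm (nat_lit 0) (nat_lit 0) (nat_lit 0) [] (BT.pln (nat_lit 0) (nat_lit 0) (BT.dif (nat_lit 2) (nat_lit 0) (BT.br (nat_lit 0) (nat_lit 1) [nat_lit 1] (BT.dead (nat_lit 200) (BT.fix (nat_lit 771) (BT.dif (nat_lit 0) (nat_lit 3) (BT.img (nat_lit 1) (nat_lit 2) (BT.frm (nat_lit 1) (nat_lit 0x104010b1011) (nat_lit 0x9020b1115) [nat_lit 0, nat_lit 3] (BT.pln (nat_lit 0) (nat_lit 7) (BT.and (nat_lit 3) (nat_lit 0) (BT.img (nat_lit 5) (nat_lit 6) (BT.frm (nat_lit 2) (nat_lit 0x1b200104010b1011) (nat_lit 0x1b1f09020b1115) [nat_lit 0, nat_lit 4, nat_lit 7] (BT.pln (nat_lit 0) (nat_lit 3) (BT.dif (nat_lit 3) (nat_lit 0) (BT.br (nat_lit 0) (nat_lit 219) [] (BT.dead (nat_lit 145) (BT.and (nat_lit 6) (nat_lit 10) (BT.and (nat_lit 0) (nat_lit 3) (BT.pln (nat_lit 5) (nat_lit 4) (BT.and (nat_lit 1) (nat_lit 0) (BT.pln (nat_lit 7) (nat_lit 5) (BT.and (nat_lit 1) (nat_lit 0) (BT.br (nat_lit 0) (nat_lit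 65) [] (BT.dead (nat_lit 32) (BT.pln (nat_lit 10) (nat_lit 6) (BT.and (nat_lit 3) (nat_lit 0) (BT.dif (nat_lit 0) (nat_lit 11) (BT.dif (nat_lit 0) (nat_lit 7) (BT.pln (nat_lit 14) (nat_lit 7) (BT.dif (nat_lit 1) (nat_lit 0) (BT.fix (nat_lit 1) (BT.dif (nat_lit 1) (nat_lit 0) (BT.dif (nat_lit 0) (nat_lit 30) (BT.frm (nat_lit 3) (nat_lit 0x1b200104010b1011) (nat_lit 0x1b1f09020b1115) [nat_lit 16, nat_lit 20, nat_lit 24, nat_lit 27] (BT.pln (nat_lit 0) (nat_lit 7) (BT.dif (nat_lit 2) (nat_lit 0) (BT.br (nat_lit 0) (nat_lit 167) [nat_lit 3] (BT.dead (nat_lit 169) (BT.frm (nat_lit 5) (nat_lit 0x1f1b200104010b1011) (nat_lit 0x211b1f09020b1115) [nat_lit 0, nat_lit 13, nat_lit 20, nat_lit 24, nat_lit 28, nat_lit 31] (BT.pln (nat_lit 0) (nat_lit 7) (BT.img (nat_lit 3) (nat_lit 2) (BT.and (nat_lit 1) (nat_lit 0) (BT.cnt (nat_lit 0)))))) BT.nil)))))))))))))) (BT.dead (nat_lit 65) (BT.frm (nat_lit 4) (nat_lit 0x1f1b200104010b1011) (nat_lit 0x1f1b1f09020b1115)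 [nat_lit 0, nat_lit 7, nat_lit 11, nat_lit 15, nat_lit 18] (BT.pln (nat_lit 0) (nat_lit 5) (BT.fix (nat_lit 1285) (BT.dif (nat_lit 0) (nat_lit 23) (BT.fix (nat_lit 1) (BT.dif (nat_lit 1) (nat_lit 0) (BT.fix (nat_lit 5) (BT.dif (nat_lit 1) (nat_lit 0) (BT.img (nat_lit 3) (nat_lit 0) (BT.and (nat_lit 7) (nat_lit 0) (BT.cnt (nat_lit 0)))))))))))) BT.nil))))))))) (BT.dead (nat_lit 171) (BT.frm (nat_lit 3) (nat_lit 0x1b200104010b1011) (nat_lit 0x1d1b1f09020b1115) [nat_lit 0, nat_lit 4, nat_lit 8, nat_lit 11] (BT.pln (nat_lit 0) (nat_lit 5) (BT.fix (nat_lit 5) (BT.and (nat_lit 1) (nat_lit 0) (BT.cnt (nat_lit 0)))))) BT.nil))))))))))))) (BT.kid (nat_lit 1) (nat_lit 2) (BT.fix (nat_lit 771) (BT.dif (nat_lit 0) (nat_lit 3) (BT.img (nat_lit 1) (nat_lit 2) (BT.frm (nat_lit 1) (nat_lit 0x104010b1011) (nat_lit 0x104010b1011) [nat_lit 0, nat_lit 3] (BT.pln (nat_lit 0) (nat_lit 7) (BT.and (nat_lit 3) (nat_lit 0) (BT.img (nat_lit 5) (nat_lit 6) (BT.frm (nat_lit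 2) (nat_lit 0x1b200104010b1011) (nat_lit 0x1b200104010b1011) [nat_lit 0, nat_lit 4, nat_lit 7] (BT.pln (nat_lit 0) (nat_lit 3) (BT.dif (nat_lit 3) (nat_lit 0) (BT.br (nat_lit 0) (nat_lit 219) [] (BT.dead (nat_lit 98) (BT.frm (nat_lit 3) (nat_lit 0x1b200104010b1011) (nat_lit 0x1d1b200104010b1011) [nat_lit 0, nat_lit 4, nat_lit 8, nat_lit 11] (BT.pln (nat_lit 0) (nat_lit 5) (BT.fix (nat_lit 5) (BT.and (nat_lit 1) (nat_lit 0) (BT.cnt (nat_lit 0)))))) (BT.kid (nat_lit 219) (nat_lit 2) (BT.and (nat_lit 6) (nat_lit 10) (BT.and (nat_lit 0) (nat_lit 3) (BT.pln (nat_lit 5) (nat_lit 4) (BT.and (nat_lit 1) (nat_lit 0) (BT.pln (nat_lit 7) (nat_lit 5) (BT.and (nat_lit 1) (nat_lit 0) (BT.br (nat_lit 0) (nat_lit 65) [] (BT.dead (nat_lit 32) (BT.frm (nat_lit 4) (nat_lit 0x1f1b200104010b1011) (nat_lit 0x1b200104010b1011) [nat_lit 0, nat_lit 7, nat_lit 11, nat_lit 15, nat_lit 18] (BT.pln (nat_lit 0) (nat_lit 5) (BT.fix (nat_lit 1285) (BT.dif (nat_lit 0) (nat_lit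 23) (BT.fix (nat_lit 1) (BT.dif (nat_lit 1) (nat_lit 0) (BT.fix (nat_lit 5) (BT.dif (nat_lit 1) (nat_lit 0) (BT.img (nat_lit 3) (nat_lit 0) (BT.and (nat_lit 7) (nat_lit 0) (BT.cnt (nat_lit 0)))))))))))) (BT.kid (nat_lit 65) (nat_lit 2) (BT.pln (nat_lit 10) (nat_lit 6) (BT.and (nat_lit 3) (nat_lit 0) (BT.dif (nat_lit 0) (nat_lit 11) (BT.dif (nat_lit 0) (nat_lit 7) (BT.pln (nat_lit 14) (nat_lit 7) (BT.dif (nat_lit 1) (nat_lit 0) (BT.fix (nat_lit 1) (BT.dif (nat_lit 1) (nat_lit 0) (BT.dif (nat_lit 0) (nat_lit 30) (BT.frm (nat_lit 3) (nat_lit 0x1b200104010b1011) (nat_lit 0x1b200104010b1011) [nat_lit 16, nat_lit 20, nat_lit 24, nat_lit 27] (BT.pln (nat_lit 0) (nat_lit 7) (BT.dif (nat_lit 2) (nat_lit 0) (BT.br (nat_lit 0) (nat_lit 167) [nat_lit 3] (BT.kid (nat_lit 167) (nat_lit 1) (BT.one (nat_lit 5) (nat_lit 0x1f1b200104010b1011) (nat_lit 0x1f1b200104010b1011) [nat_lit 0, nat_lit 13, nat_lit 20, nat_lit 24, nat_lit 28, nat_lit 31]) BT.nil))))))))))))))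 BT.nil))))))))) BT.nil))))))))))))) BT.nil)))))))

theorem cq_cnt : Cnt 276 (grp 276 h_K) EQ EQ 0 0 0 0 4 :=
  BT.sound cq_cnt_P Known.nil (t := cq_cnt_t) (d := 0) (by decide +kernel)

theorem cq_ge : 4 ≤ Nat.card (grp 276 cq) :=
  Ch.le_card_grp (k := 9) (L := (lab 276 9)) hn cq_ok (c := (Ch.cons (nat_lit 1) [nat_lit 1] (Ch.cons (nat_lit 167) [nat_lit 3] Ch.nil))) (by decide +kernel)

theorem cq_eq : (grp 276 h_K) ⊓ Subgroup.centralizer (grp 276 EQ : Set (Equiv.Perm (Fin 276))) = grp 276 cq :=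
  cent_grp_eq cq_sym cq_cnt cq_ge

theorem cq_card : Nat.card (grp 276 cq) = 4 :=
  (cq_sym.mem_iff cq_cnt cq_ge).1

theorem cq_le_EU : grp 276 cq ≤ grp 276 EU :=
  grp_le_of_memB hn hk EU_ok cq_ok (ws := [nat_lit 259, nat_lit 3]) (by decide +kernel)

end Cfsg.Agent.H55.C3
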