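import Mathlib
import Cfsg.Agent.H37.FkKit
import Cfsg.Agent.H80.KSpC
import Cfsg.Agent.H55.Co3R

/-!
# S5161, piece Co₃: the 2-fusion system of the third Conway group is simple
-/

set_option autoImplicit false
set_option maxRecDepth 100000

namespace Cfsg.Agent.H55.FkCo3

open Subgroup Cfsg.Agent.H37.FK
open scoped commutatorElement

theorem mem_of_sq {K : Type*} [Group K] {H : Subgroup K} {g : K} (h : g * g ∈ H)
    (ho : Odd (orderOf g)) : g ∈ H := by
  obtain ⟨n, hn⟩ := ho
  have e : (g * g) ^ (n + 1) = g := by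
    rw [← pow_two, ← pow_mul, show 2 * (n + 1) = orderOf g + 1 by omega, pow_succ,
      pow_orderOf_eq_one, one_mul]
  exact e ▸ pow_mem h _

/-- `NS` from a double cover which is the centraliser of the unique central involution of a
Sylow subgroup -/
theorem ns_of {K : Type*} [Group K] [Finite K] {z : K} (hz : z * z = 1) (h1 : z ≠ 1)
    (hodd : ¬ 2 ∣ (centralizer ({z} : Set K)).index) {L : Type*} [Group L] [Finite L]
    (π : centralizer ({z} : Set K) →* L) (hπ : Function.Surjective π)
    (hker : ∀ c, π c = 1 → c = 1 ∨ (c : K) = z) (hL : NS L)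
    (huniq : ∀ u : centralizer ({z} : Set K), u * u = 1 → u ≠ 1 →
      ¬ 2 ∣ (centralizer ({u} : Set (centralizer ({z} : Set K)))).index → (u : K) = z) : NS K := by
  haveI : Fact (Nat.Prime 2) := ⟨Nat.prime_two⟩
  let C := centralizer ({z} : Set K)
  obtain ⟨R⟩ : Nonempty (Sylow 2 C) := inferInstance
  have hp : IsPGroup 2 ((R : Subgroup C).map C.subtype) := R.isPGroup'.map _
  have hi : ¬ 2 ∣ ((R : Subgroup C).map C.subtype).index := by
    rw [index_map_subtype]
    exact fun h => (Nat.prime_two.dvd_mul.1 h).elim R.not_dvd_index hodd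
  let z' : C := ⟨z, mem_centralizer_singleton_iff.2 rfl⟩
  have hzc : ∀ c : C, c * z' = z' * c := fun c =>
    Subtype.ext (mem_centralizer_singleton_iff.1 c.2)
  have hz' : z' ∈ (R : Subgroup C) := by
    obtain ⟨g, hg⟩ := exists_conj_sylow R (Two.of_sq (x := z') (Subtype.ext hz)).zpowers
    have := hg z' (mem_zpowers _)
    rwa [hzc, mul_inv_cancel_right] at this
  refine ns_of_one (hp.toSylow hi) fun g hg ho x hx => ?_
  rw [IsPGroup.toSylow_coe] at hg hx
  have hN : g ∈ normalizer (((R : Subgroup C).map C.subtype : Subgroup K) : Set K) :=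
    mem_normalizer_fintype hg
  have hg' : ∀ y ∈ (R : Subgroup C).map C.subtype, g⁻¹ * y * g ∈ (R : Subgroup C).map C.subtype :=
    fun y hy => by simpa using (mem_normalizer_iff.1 (inv_mem hN) y).1 hy
  obtain ⟨u, hu, eu⟩ := hg z ⟨z', hz', rfl⟩
  have eu : (u : K) = g * z * g⁻¹ := eu
  have hgz : g * z * g⁻¹ = z := by
    rw [← eu]
    refine huniq u (Subtype.ext ?_) (fun e => h1 ?_) fun h => R.not_dvd_index (h.trans
      (index_dvd_of_le fun s hs => mem_centralizer_singleton_iff.2 (Subtype.ext ?_)))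
    · change (u : K) * u = 1
      rw [eu, conj_mul, hz]; simp
    · rw [e] at eu
      simpa using eu.symm
    · obtain ⟨s', -, es⟩ := hg' s ⟨s, hs, rfl⟩
      have e2 : (s' : K) * z = z * s' := mem_centralizer_singleton_iff.1 s'.2
      have es : (s' : K) = g⁻¹ * s * g := es
      change (s : K) * u = u * s
      rw [eu]
      rw [es] at e2
      calc (s : K) * (g * z * g⁻¹) = g * (g⁻¹ * s * g * z) * g⁻¹ := by group
        _ = g * z * g⁻¹ * s := by rw [e2]; group
  let g' : C := ⟨g, mem_centralizer_singleton_iff.2 (by rw [← mul_inv_eq_iff_eq_mul, hgz])⟩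
  obtain ⟨x, hx, rfl⟩ := hx
  have h2 := hL (R.mapSurjective hπ) (π g') (by
    rintro _ ⟨y, hy, rfl⟩
    obtain ⟨y', hy', e⟩ := hg y ⟨y, hy, rfl⟩
    refine ⟨y', hy', ?_⟩
    rw [← map_inv, ← map_mul, ← map_mul]
    exact congrArg π (Subtype.ext e))
    (Odd.of_dvd_nat (by rwa [← Subgroup.orderOf_coe]) (orderOf_map_dvd π g')) (π x) ⟨x, hx, rfl⟩
  have h3 : π (g' * x * g'⁻¹ * x⁻¹) = 1 := by
    rw [map_mul, map_mul, map_mul, map_inv, h2, map_inv, mul_inv_cancel]
  change g * x * g⁻¹ = x
  rcases hker _ h3 with e | e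
  · exact congrArg Subtype.val (mul_inv_eq_one.1 e)
  · have e : g * x * g⁻¹ = z * x := mul_inv_eq_iff_eq_mul.1 e
    have h4 : g * g ∈ centralizer ({(x : K)} : Set K) := by
      rw [mem_centralizer_singleton_iff, ← mul_inv_eq_iff_eq_mul]
      calc g * g * x * (g * g)⁻¹ = g * (g * x * g⁻¹) * g⁻¹ := by group
        _ = g * (z * x) * g⁻¹ := by rw [e]
        _ = g * z * g⁻¹ * (g * x * g⁻¹) := by group
        _ = x := by rw [hgz, e, ← mul_assoc, hz, one_mul]
    rw [mul_inv_eq_iff_eq_mul]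
    exact mem_centralizer_singleton_iff.1 (mem_of_sq h4 ho)

/-- a central extension of a perfect group by a square -/
theorem perfect_of {M L : Type*} [Group M] [Group L] (π : M →* L) (hπ : Function.Surjective π)
    (hL : commutator L = ⊤) {z a : M} (hz : ∀ c, c * z = z * c) (h2 : z * z = 1) (ha : a * a = z)
    (hker : ∀ c, π c = 1 → c = 1 ∨ c = z) : commutator M = ⊤ := by
  have key : ∀ x : M, ∃ c ∈ commutator M, x = c ∨ x = z * c := by
    intro x
    have : π x ∈ (commutator M).map π := by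
      rw [commutator_def, map_commutator, map_top_of_surjective π hπ, ← commutator_def, hL]
      trivial
    obtain ⟨c, hc, e⟩ := this
    refine ⟨c, hc, ?_⟩
    rcases hker (x * c⁻¹) (by rw [map_mul, map_inv, e, mul_inv_cancel]) with h | h
    · exact Or.inl (mul_inv_eq_one.1 h)
    · exact Or.inr (mul_inv_eq_iff_eq_mul.1 h)
  have hzm : z ∈ commutator M := by
    obtain ⟨c, hc, e | e⟩ := key a
    · rw [← ha, e]; exact mul_mem hc hc
    · have : z = c * c := by
        rw [← ha, e, mul_assoc, ← mul_assoc c, hz c, ← mul_assoc, ← mul_assoc, h2, one_mul]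
      rw [this]; exact mul_mem hc hc
  refine eq_top_iff.2 fun x _ => ?_
  obtain ⟨c, hc, e | e⟩ := key x
  · exact e ▸ hc
  · exact e ▸ mul_mem hzm hc

theorem NAS.comm_top {L : Type*} [Group L] (h : NAS L) : commutator L = ⊤ := by
  have := h.1
  refine (IsSimpleGroup.eq_bot_or_eq_top_of_normal (commutator L) inferInstance).resolve_left
    fun e => h.2 ⟨⟨fun a b => ?_⟩⟩
  have : ⁅a, b⁆ ∈ commutator L := commutator_mem_commutator (mem_top a) (mem_top b)
  rw [e, mem_bot] at this
  exact commutatorElement_eq_one_iff_mul_comm.1 this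

theorem NAS.eq_one {L : Type*} [Group L] (h : NAS L) {z : L} (hz : ∀ c, c * z = z * c) :
    z = 1 := by
  have := h.1
  rcases IsSimpleGroup.eq_bot_or_eq_top_of_normal (center L) inferInstance with e | e
  · exact mem_bot.1 (e ▸ mem_center_iff.2 hz)
  · exact absurd ⟨⟨fun a b => mem_center_iff.1 (e ▸ mem_top b) a⟩⟩ h.2

open Cfsg.Agent.H43 Cfsg.Agent.H55.C3 Cfsg.Agent.H80.KS

theorem d8 : HasD8 Hs := by
  refine ⟨⟨N n_b3, b3_H⟩, uM, Subtype.ext (eqE (Ex.n n_b3 * Ex.n n_b3) 1 (by decide +kernel)),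
    Subtype.ext (V_sq u_V), ⟨2, Subtype.ext ?_⟩, fun e => neE (Ex.n n_b3 * Ex.n n_u)
      (Ex.n n_u * Ex.n n_b3) (by decide +kernel) (congrArg Subtype.val e)⟩
  have := eqE (Ex.n n_b3 * Ex.n n_u * (Ex.n n_b3 * Ex.n n_u) * (Ex.n n_b3 * Ex.n n_u *
    (Ex.n n_b3 * Ex.n n_u))) 1 (by decide +kernel)
  change (N n_b3 * N n_u) ^ 4 = 1
  rw [show 4 = 2 + 2 from rfl, pow_add, pow_two]
  exact this

theorem good_model (T : Tools) : H37.FK.Good Γ3 := by
  obtain ⟨hS, hS1, hS2⟩ := T.sm2.2.2.1
  obtain ⟨π₀, hπ₀⟩ := exists_sp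
  have hk0 : ∀ c, π₀ c = 1 → c = 1 ∨ c = tM := by
    have h := card_mul_index π₀.ker
    rw [index_ker, MonoidHom.range_eq_top.2 hπ₀, card_top, Sp6.card_Sp, h_card2] at h
    have h2 : Nat.card π₀.ker = 2 := by omega
    have ht : tM ∈ π₀.ker := NAS.eq_one hS fun c => by
      obtain ⟨c, rfl⟩ := hπ₀ c
      rw [← map_mul, (tM_comm c).eq, map_mul]
    intro c hc
    obtain ⟨y, -, hy⟩ := (Nat.card_eq_two_iff' (1 : π₀.ker)).1 h2
    by_cases h1 : c = 1
    · exact Or.inl h1
    · exact Or.inr (congrArg Subtype.val ((hy ⟨c, hc⟩ fun h => h1 (congrArg Subtype.val h)).trans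
        (hy ⟨tM, ht⟩ fun h => tM_ne (congrArg Subtype.val h)).symm))
  have hperf := perfect_of π₀ hπ₀ (NAS.comm_top hS) (fun c => (tM_comm c).eq) tM_sq aM_sq hk0
  let e : centralizer ({t3} : Set Γ3) ≃* Hs :=
    (MulEquiv.subgroupCongr cent_t3).trans (subgroupOfEquivOfLe h_le)
  have he : ∀ c, ((e c : Hs) : P) = ((c : Γ3) : P) := fun _ => rfl
  have hodd : ¬ 2 ∣ (centralizer ({t3} : Set Γ3)).index := by
    have h1 := card_mul_index (centralizer {t3})
    rw [card_cent_t3, Co3M.card_grp] at h1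
    omega
  have hπ : Function.Surjective (π₀.comp e.toMonoidHom) := hπ₀.comp e.surjective
  have hker : ∀ c, π₀.comp e.toMonoidHom c = 1 → c = 1 ∨ (c : Γ3) = t3 := fun c hc =>
    (hk0 (e c) hc).imp (fun h => e.injective (h.trans e.map_one.symm))
      fun h => Subtype.ext ((he c).symm.trans (congrArg Subtype.val h))
  have hd : HasD8 Γ3 := d8.of_injective (inclusion h_le) (inclusion_injective h_le)
  have hN : NAS Γ3 := ⟨simple_model, fun hc => by
    obtain ⟨a, b, -, -, -, h⟩ := hd
    exact h (hc.1.1 a b)⟩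
  refine ⟨T.lq Γ3 hN hd _ _ hodd le_rfl (by simp) ?_ _ _ hπ (fun c hc => ?_) hS hS1,
    NS.ofp (ns_of (z := t3) (Subtype.ext (V_sq t_V))
      (fun h => tM_ne (Subtype.ext (congrArg (fun x : Γ3 => (x : P)) h))) hodd _ hπ hker hS2
      fun u h2 h1 hi => ?_)⟩
  · have h1 : commutator (centralizer ({t3} : Set Γ3)) = ⊤ := by
      have := congrArg (map e.symm.toMonoidHom) hperf
      rwa [_root_.commutator_def, map_commutator, map_top_of_surjective _ e.symm.surjective] at this
    have := congrArg (map (centralizer ({t3} : Set Γ3)).subtype) h1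
    rwa [_root_.commutator_def, map_commutator, ← MonoidHom.range_eq_map, range_subtype] at this
  · rcases hker c hc with rfl | h
    · exact one_mem _
    · refine mem_center_iff.2 fun g => Subtype.ext ?_
      change (g : Γ3) * c = c * g
      rw [h]
      exact mem_centralizer_singleton_iff.1 g.2
  · have h4 := card_mul_index (centralizer {u})
    have h5 : Nat.card (centralizer {u}) = Nat.card (centralizer {e u}) := by
      refine Nat.card_congr (Equiv.subtypeEquiv e.toEquiv fun a => ?_)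
      rw [mem_centralizer_singleton_iff, mem_centralizer_singleton_iff]
      change _ ↔ e a * e u = e u * e a
      rw [← map_mul, ← map_mul, e.apply_eq_iff_eq]
    rw [h5, card_centralizer_coe, card_cent_t3] at h4
    rcases inv_H' (e u) (by rw [← map_mul, h2, map_one])
      (fun h => h1 (e.injective (h.trans e.map_one.symm))) with h | ⟨-, h⟩ | ⟨-, h⟩
    · exact Subtype.ext ((he u).symm.trans (congrArg Subtype.val h))
    · rw [h] at h4
      omega
    · rw [h] at h4
      omega

theorem co3 : Co3Stmt := fun T =>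
  have : Finite Spor.Co3 := Finite.of_equiv _ Co3M.equiv.toEquiv.symm
  (good_model T).congr Co3M.equiv

end Cfsg.Agent.H55.FkCo3
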