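import Mathlib
import Cfsg.Agent.H55.TM1
import Cfsg.Agent.H55.TMEA
import Cfsg.Agent.H42.FusionSimple
import Cfsg.Agent.H42.Out

/-!
# Homomorphisms from the model of `2 × M₁₂`
-/

set_option autoImplicit false
set_option maxRecDepth 200000

namespace Cfsg.Agent.H55.TM

open Cfsg.Agent.H43 Cfsg.Agent.H89.Rec Equiv Subgroup
open Cfsg.Agent.H44 (ev Sat gen ev_nil ev_cons ev_append IdxLe)

/-- The letters of the presentation. -/
noncomputable def m0 (x : ℕ) : AM := el (lk cs0 x)

theorem sat_sub {K : Type*} [Group K] {g : ℕ → K} {R R' : List (List ℕ)} (h : Sat g R)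
    (e : allL (fun r => anyL (eqL r) R) R' = true) : Sat g R' := fun r hr => by
  obtain ⟨r', hr', e⟩ := anyL_iff.1 (allL_iff.1 e r hr)
  rw [eq_of_eqL e]; exact h r' hr'

theorem sat_el {cs : List ℕ} (h : Vals cs) {R : List (List ℕ)}
    (e : allL (fun r => Nat.beq (evC cs r) c1) R = true) : Sat (fun x => el (lk cs x)) R :=
  fun r hr => by rw [← h.el_evC, Nat.eq_of_beq_eq_true (allL_iff.1 e r hr), el_one]

theorem gen_m0 : gen m0 8 = ⊤ := eq_top_of fun c hc => by
  simp only [cs7, List.mem_cons, List.not_mem_nil, or_false] at hc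
  rcases hc with rfl | rfl | rfl | rfl | rfl | rfl | rfl
  exacts [H44.mem_gen m0 (x := 1) (by decide) (by decide),
    H44.mem_gen m0 (x := 2) (by decide) (by decide),
    H44.mem_gen m0 (x := 3) (by decide) (by decide),
    H44.mem_gen m0 (x := 4) (by decide) (by decide),
    H44.mem_gen m0 (x := 5) (by decide) (by decide),
    H44.mem_gen m0 (x := 6) (by decide) (by decide),
    H44.mem_gen m0 (x := 7) (by decide) (by decide)]

theorem ev_mem_gen {K : Type*} [Group K] (g : ℕ → K) {n : ℕ} {l : List ℕ}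
    (h : H44.lettersIn n l = true) : ev g l ∈ gen g n :=
  H44.ev_mem fun x hx => H44.mem_gen g (H44.lettersIn_iff.1 h x hx).1 (H44.lettersIn_iff.1 h x hx).2

theorem gen_mono {K : Type*} [Group K] (g : ℕ → K) {m n : ℕ} (h : m ≤ n) : gen g m ≤ gen g n :=
  H44.gen_le.2 fun _ h1 h2 => H44.mem_gen g h1 (h2.trans h)

theorem card_le_A {K : Type*} [Group K] {g : ℕ → K} (h : Sat g TMEA.A.R) :
    Finite (gen g 8) ∧ Nat.card (gen g 8) ≤ 190080 := by
  have h1 := (TMEA.K.idxLe (sat_sub h (by decide +kernel)) (H := ⊥) (by simp [TMEA.K.S])).card_le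
    bot_le H44.finite_card_bot
  have key : TMEA.A.S.all (H44.lettersIn 6) = true := by decide +kernel
  exact (TMEA.A.idxLe h (H := gen g 6) fun s hs =>
    ev_mem_gen g (List.all_eq_true.1 key s hs)).card_le (gen_mono g (by decide)) h1

/-- The relators define the model. -/
theorem homA {K : Type*} [Group K] {g : ℕ → K} (h : Sat g TMEA.A.R) :
    ∃ φ : AM →* K, φ.range = gen g 8 ∧ ∀ x, 1 ≤ x → x ≤ 8 → φ (m0 x) = g x := by
  obtain ⟨φ, h1, h2⟩ := H59.exists_hom_of_card g m0 8
    (card_le_A (H59.Sat.prod h (sat_el vals0 (by decide +kernel))))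
    (by rw [gen_m0, card_top, card_AM])
  have hm : ∀ x : AM, MonoidHom.id AM x ∈ gen m0 8 := fun x => gen_m0 ▸ mem_top _
  refine ⟨φ.comp ((MonoidHom.id AM).codRestrict _ hm), ?_, fun x h3 h4 => h2 x h3 h4⟩
  rw [← h1]
  exact le_antisymm (fun _ ⟨x, e⟩ => ⟨_, e⟩) fun _ ⟨x, e⟩ => ⟨x.1, e⟩

/-! ### The isomorphism with `2 × M₁₂` -/

open H42 (toM inM pmul pid G12)

/-- The codes of the letters on twenty-four points. -/
def c24 : List ℕ := [pid, 984818244535754528103549039458486304, 855663759294140551395690161082110354, 430370510348236426377172159770539596, 630351518200385851313740132357513507, 305637495436834898152444699842333092, 422663440809473745636185298015761712, 440924808944443311879187865079461441, 596694151770677876247231955168824338]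

theorem c24_spec (x : ℕ) : inM (H44.nth pid c24 x) = true ∧ toM (H44.nth pid c24 x) ∈ G12 := by
  have key : allL (fun c => band (inM c) (Nat.beq (H42.img c H42.dod0) H42.dod0)) c24 = true := by
    decide +kernel
  refine nth_prop (p := fun c => inM c = true ∧ toM c ∈ G12)
    ⟨H42.inM_pid, by rw [H42.toM_pid]; exact one_mem _⟩ (fun c hc => ?_) x
  obtain ⟨h1, h2⟩ := band_eq_true.1 (allL_iff.1 key c hc)
  exact ⟨h1, (H42.toM_mem_stabilizer_toSet h1 H42.dod0_lt).2 (Nat.eq_of_beq_eq_true h2)⟩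

/-- The letters in `M₁₂`. -/
noncomputable def g12 (x : ℕ) : G12 := ⟨toM (H44.nth pid c24 x), (c24_spec x).2⟩

/-- The code of a word on twenty-four points. -/
noncomputable def ev24 (l : List ℕ) : ℕ :=
  List.rec (motive := fun _ => ℕ) pid
    (fun x _ ih => frc ih fun b => frc (H44.nth pid c24 x) fun a => pmul a b) l

theorem ev24_spec (l : List ℕ) : inM (ev24 l) = true ∧ toM (ev24 l) = (ev g12 l : G12) := by
  induction l with
  | nil => exact ⟨H42.inM_pid, H42.toM_pid⟩
  | cons x l ih =>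
    have e : ev24 (x :: l) = pmul (H44.nth pid c24 x) (ev24 l) := by
      rw [← frc_eq (H44.nth pid c24 x) (fun a => pmul a (ev24 l)),
        ← frc_eq (ev24 l) (fun b => frc (H44.nth pid c24 x) fun a => pmul a b)]
      rfl
    rw [e, H42.toM_pmul (c24_spec x).1 ih.1, ih.2]
    exact ⟨H42.inM_pmul (c24_spec x).1 ih.1, rfl⟩

/-- The letters in the group of order two. -/
def gz (x : ℕ) : Multiplicative (ZMod 2) :=
  Multiplicative.ofAdd (if x = 1 ∨ (3 ≤ x ∧ x ≤ 6) then 1 else 0)

theorem exists_equiv : Nonempty (AM ≃* Multiplicative (ZMod 2) × G12) := by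
  have h1 : Sat g12 TMEA.A.R := by
    have key : allL (fun r => Nat.beq (ev24 r) pid) TMEA.A.R = true := by decide +kernel
    intro r hr
    apply Subtype.ext
    rw [← (ev24_spec r).2, Nat.eq_of_beq_eq_true (allL_iff.1 key r hr), H42.toM_pid]; rfl
  have h2 : Sat gz TMEA.A.R := by
    have key : allL (fun r => decide (ev gz r = 1)) TMEA.A.R = true := by decide +kernel
    exact fun r hr => of_decide_eq_true (allL_iff.1 key r hr)
  obtain ⟨φ, h3, -⟩ := homA (H59.Sat.prod h2 h1)
  have h4 : H42.gen H42.gens12 ≤ (φ.range.map (MonoidHom.snd _ _)).map G12.subtype := by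
    have key : ∀ l c, H44.lettersIn 8 l = true → Nat.beq (ev24 l) c = true →
        toM c ∈ (φ.range.map (MonoidHom.snd _ _)).map G12.subtype := fun l c e1 e2 =>
      ⟨ev g12 l, ⟨_, h3 ▸ ev_mem_gen _ e1, by rw [H59.ev_prod]; rfl⟩, by
        rw [← Nat.eq_of_beq_eq_true e2, (ev24_spec l).2]; rfl⟩
    refine H42.gen_le _ fun c hc => ?_
    simp only [H42.gens12, List.mem_cons, List.not_mem_nil, or_false] at hc
    rcases hc with rfl | rfl
    · exact key [2, 7, 4, 5, 6, 7, 5, 4, 7] _ rfl (by decide +kernel)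
    · exact key [8, 4, 3, 8, 5, 4, 8, 4, 8, 6] _ rfl (by decide +kernel)
  have h5 : (gz 1, (1 : G12)) ∈ φ.range := by
    have := H44.mem_gen (fun x => (gz x, g12 x)) (nc := 8) (x := 1) (by decide) (by decide)
    rw [h3, ← show g12 1 = 1 from Subtype.ext H42.toM_pid]
    exact this
  have h6 : Function.Surjective φ := by
    rintro ⟨z, g, hg⟩
    obtain ⟨_, ⟨⟨z', g'⟩, hz, rfl⟩, rfl⟩ := h4 (H42.G12_eq ▸ hg)
    have : ∀ z z' : Multiplicative (ZMod 2), z = z' ∨ z = gz 1 * z' := by decide
    rcases this z z' with rfl | rfl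
    · exact hz
    · simpa using mul_mem h5 hz
  refine ⟨MulEquiv.ofBijective φ ((Nat.bijective_iff_surjective_and_card _).2 ⟨h6, ?_⟩)⟩
  rw [card_AM, Nat.card_prod, H42.card_G12]
  simp

theorem central_eq {u : AM} (h : ∀ s, Commute s u) (h2 : u * u = 1) (h1 : u ≠ 1) : u = el kE := by
  obtain ⟨k, hk, c, e⟩ := inv_classes h2 h1
  rw [(h c).eq, mul_inv_cancel_right] at e
  have h3 := cmB_of (x := el kS2) (b := k) (Vals.of_sub (by decide +kernel) k hk) (e ▸ h _)
  have h4 := cmB_of (x := el kA) (b := k) (Vals.of_sub (by decide +kernel) k hk) (e ▸ h _)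
  rw [vS2.cd_el] at h3
  rw [vA.cd_el] at h4
  simp only [List.mem_cons, List.not_mem_nil, or_false] at hk
  rcases hk with rfl | rfl | rfl | rfl | rfl
  · exact e
  · exact absurd h4 (by decide +kernel)
  · exact absurd h4 (by decide +kernel)
  · exact absurd h3 (by decide +kernel)
  · exact absurd h3 (by decide +kernel)

theorem exists_emb {G : Type*} [Group G] {t : G} (ht : orderOf t = 2)
    (hC : Nonempty (centralizer ({t} : Set G) ≃* Multiplicative (ZMod 2) × Spor.M12)) :
    ∃ ι : AM →* G, Emb ι (el kE) ∧ ι (el kE) = t := by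
  obtain ⟨e⟩ := hC
  obtain ⟨f⟩ := exists_equiv
  exact Emb.of_equiv ht ((f.trans ((MulEquiv.refl _).prodCongr H42.equiv12)).trans e.symm)
    fun u h h2 h1 => central_eq h h2 h1

/-! ### An outer automorphism -/

/-- The images of the letters under the outer automorphism. -/
def csO : List ℕ := [kE, kM, mu kS1 kM, mu kS2 kM, mu kS3 kM, mu kS4 kM, kAi, kA]

theorem exists_out : ∃ τ : AM →* AM, Function.Bijective τ ∧ τ (el kE) = el kE ∧
    τ (el kM) = el kM ∧ τ (el kS1) = el (mu kS1 kM) ∧ τ (el kS2) = el (mu kS2 kM) ∧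
    τ (el kS3) = el (mu kS3 kM) ∧ τ (el kS4) = el (mu kS4 kM) := by
  have hv : Vals csO := vals0.of_words [[1], [2], [3, 2], [4, 2], [5, 2], [6, 2], [8], [7]]
    (by decide +kernel)
  obtain ⟨τ, h1, h2⟩ := homA (sat_el hv (R := TMEA.A.R) (by decide +kernel))
  refine ⟨τ, Finite.surjective_iff_bijective.1 (MonoidHom.range_eq_top.1 (eq_top_of ?_)),
    h2 1 (by decide) (by decide), h2 2 (by decide) (by decide), h2 3 (by decide) (by decide),
    h2 4 (by decide) (by decide), h2 5 (by decide) (by decide), h2 6 (by decide) (by decide)⟩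
  have key : eqL cs7 (evL csO [[1], [2], [3, 2], [4, 2], [5, 2], [6, 2], [8]]) = true := by
    decide +kernel
  rw [eq_of_eqL key, evL_eq, h1]
  intro c hc
  obtain ⟨w, hw, rfl⟩ := List.mem_map.1 hc
  rw [hv.el_evC]
  refine ev_mem_gen _ ?_
  revert w; decide

end Cfsg.Agent.H55.TM
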