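import Mathlib
import Cfsg.Agent.H55.TM2
import Cfsg.Agent.H55.TMEG
import Cfsg.Agent.H55.TMEH

/-!
# The amalgam of `2 × M₁₂` and `A₄ × S₅` generates a group of order at most `|Co₃|`
-/

set_option autoImplicit false
set_option maxRecDepth 200000

namespace Cfsg.Agent.H55.TM

open Cfsg.Agent.H43 Cfsg.Agent.H89.Rec Equiv Subgroup
open Cfsg.Agent.H44 (ev Sat gen ev_nil ev_cons ev_append IdxLe rot invW)

variable {G : Type*} [Group G]

/-- The word `r` is a rotation of a member of `R` or of its inverse. -/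
noncomputable def rotB (ivl : List ℕ) (R : List (List ℕ)) (r : List ℕ) : Bool :=
  anyL (fun r0 => anyN (fun k => bor (eqL r (rot k r0)) (band (eqL r (rot k (invW (nthN ivl) r0)))
    (allL (fun x => anyL (fun q => bor (eqL q [x, nthN ivl x]) (eqL q [nthN ivl x, x])) R) r0)))
    (lenL r0)) R

theorem sat_rot {g : ℕ → G} {R R' : List (List ℕ)} (h : Sat g R) (ivl : List ℕ)
    (e : allL (rotB ivl R) R' = true) : Sat g R' := by
  intro r hr
  obtain ⟨r0, hr0, e⟩ := anyL_iff.1 (allL_iff.1 e r hr)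
  obtain ⟨k, -, e⟩ := anyN_spec e
  rcases bor_iff.1 e with e | e
  · rw [eq_of_eqL e]; exact H44.ev_rot (h r0 hr0) k
  · obtain ⟨e1, e2⟩ := band_eq_true.1 e
    rw [eq_of_eqL e1]
    refine H44.ev_rot ?_ k
    rw [H44.ev_invW, h r0 hr0, inv_one]
    intro x hx
    obtain ⟨q, hq, e3⟩ := anyL_iff.1 (allL_iff.1 e2 x hx)
    have := h q hq
    rcases bor_iff.1 e3 with e3 | e3
    · rw [eq_of_eqL e3, ev_cons, H44.ev_single] at this
      exact eq_inv_of_mul_eq_one_right this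
    · rw [eq_of_eqL e3, ev_cons, H44.ev_single] at this
      exact eq_inv_of_mul_eq_one_left this

/-- The generators of the centraliser of `m`. -/
def csK : List ℕ := [kE, kM, kS1, kS2, kS3, kS4]
/-- Their images under `y`. -/
def csK' : List ℕ := [kM, kEM, kS1, kS2, kS3, kS4]

/-- The relations of the element `y`. -/
structure YR (ι : AM →* G) (y : G) : Prop where
  cube : y * y * y = 1
  act : Acts ι y csK csK'
  rho : ι (el kA) * y * ι (el kA) * y * (ι (el kA))⁻¹ * y⁻¹ = 1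

variable {ι : AM →* G} {y : G}

theorem el_Ai : el kAi = (el kA)⁻¹ :=
  eq_inv_of_mul_eq_one_right (el_mul_one vA vAi (by decide +kernel))

/-- The letters for rewriting. -/
def csR : List ℕ := [kE, kM, kS1, kS2, kS3, kS4, kA, kAi, kEM, kX,
  mu kX (mu kD (mu kX (mu kD kX)))]

theorem valsR : Vals csR := vals_all.of_words
  [[1], [2], [3], [4], [5], [6], [7], [8], [11], [23], [23, 22, 23, 22, 23]] (by decide +kernel)

/-- The inverse letters. -/
def ivR : List ℕ := [0, 1, 2, 3, 4, 5, 6, 8, 7, 9, 10, 11, 13, 12]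

/-- The basic relators for rewriting. -/
def R0 : List (List ℕ) := [[1, 1], [2, 2], [3, 3], [4, 4], [5, 5], [6, 6], [7, 8], [9, 9], [10, 10],
  [11, 11], [12, 13], [12, 1, 13, 2], [12, 2, 13, 9], [12, 9, 13, 1], [12, 3, 13, 3],
  [12, 4, 13, 4], [12, 5, 13, 5], [12, 6, 13, 6], [7, 12, 7, 12, 8, 13]]

theorem YR.sat0 (h : YR ι y) : Sat (mix ι csR [y, y⁻¹]) R0 := by
  refine sat_mix valsR (sp := [(12, 13, kEM :: csK, kE :: csK')]) ?_
    (Rx := [[12, 13], [7, 12, 7, 12, 8, 13]]) ?_ (by decide +kernel)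
  · simp only [List.mem_singleton, forall_eq]
    exact ⟨rfl, Acts.cons (h.act.word' [1, 2] (by decide +kernel)) h.act⟩
  · simp only [Sat, List.mem_cons, List.not_mem_nil, or_false, forall_eq_or_imp, forall_eq]
    refine ⟨mul_inv_cancel_left y 1, ?_⟩
    change ι (el kA) * (y * (ι (el kA) * (y * (ι (el kAi) * (y⁻¹ * 1))))) = 1
    rw [el_Ai, map_inv]
    simpa only [mul_assoc, mul_one] using h.rho

theorem of_conj {g : ℕ → G} {h hi r : List ℕ} (h1 : ev g (hi ++ h) = 1)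
    (h2 : ev g (hi ++ (r ++ h)) = 1) : ev g r = 1 := by
  rw [ev_append] at h1
  rw [ev_append, ev_append, eq_inv_of_mul_eq_one_left h1] at h2
  calc ev g r = ev g h * ((ev g h)⁻¹ * (ev g r * ev g h)) * (ev g h)⁻¹ := by group
    _ = 1 := by rw [h2]; group

theorem YR.tri (h : YR ι y) : ev (mix ι csR [y, y⁻¹]) [10, 12, 10, 12, 10, 12] = 1 := by
  have h1 : Sat (mix ι csR [y, y⁻¹]) [[2, 2], [3, 3], [4, 4], [5, 5], [6, 6], [6, 12, 6, 13], [6, 13, 6, 12], [7, 8], [8, 7], [9, 9], [9, 12, 2, 13], [12, 3, 13, 3], [12, 4, 13, 4], [12, 5, 13, 5], [12, 6, 13, 6], [12, 7, 12, 8, 13, 7], [12, 13], [13, 12]] := sat_rot h.sat0 ivR (by decide +kernel)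
  refine of_conj (h := [8, 13]) (hi := [12, 7]) ?_ (ev_of_rwB valsR (ivl := ivR) h1
    [(1, 2, [4, 3, 6, 5, 4, 7, 6, 9]),
    (0, 2, [4, 12]),
    (1, 2, [3, 12]),
    (2, 2, [6, 12]),
    (3, 2, [5, 12]),
    (4, 2, [4, 12]),
    (8, 2, [12, 2]),
    (7, 2, [12, 6]),
    (5, 3, [8, 12, 7]),
    (7, 4, [4, 3, 5, 4, 7, 6, 9]),
    (6, 2, [4, 12]),
    (7, 2, [3, 12]),
    (8, 2, [5, 12]),
    (9, 2, [4, 12]),
    (13, 2, [12, 2]),
    (12, 2, [12, 6]),
    (10, 3, [8, 12, 7]),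
    (12, 4, [4, 3, 5, 4, 7, 6, 9]),
    (11, 2, [4, 12]),
    (12, 2, [3, 12]),
    (13, 2, [5, 12]),
    (14, 2, [4, 12]),
    (18, 2, [12, 2]),
    (17, 2, [12, 6]),
    (15, 3, [8, 12, 7]),
    (17, 4, [6]),
    (17, 2, [13, 6]),
    (16, 2, []),
    (0, 17, [])] (by decide +kernel))
  exact ev_of_rwB valsR (ivl := ivR) h1 [(1, 2, []), (0, 2, [])] (by decide +kernel)

theorem YR.quad (h : YR ι y) : ev (mix ι csR [y, y⁻¹]) [11, 12, 11, 12, 11, 12, 11, 12] = 1 := by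
  have h1 : Sat (mix ι csR [y, y⁻¹]) [[1, 1], [1, 12, 9, 13], [3, 3], [3, 12, 3, 13], [4, 4], [4, 12, 4, 13], [5, 5], [5, 12, 5, 13], [6, 6], [6, 12, 6, 13], [7, 8], [8, 7], [9, 9], [10, 10], [12, 3, 13, 3], [12, 4, 13, 4], [12, 5, 13, 5], [12, 9, 13, 1], [12, 10, 12, 10, 12, 10], [12, 13], [13, 4, 12, 4], [13, 8, 12, 7, 13, 8], [13, 12]] :=
    sat_rot (H44.Sat.cons h.tri h.sat0) ivR (by decide +kernel)
  refine of_conj (h := [11, 4, 7, 12]) (hi := [13, 8, 4, 11]) ?_ (ev_of_rwB valsR (ivl := ivR) h1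
    [(1, 4, [8, 4]),
    (2, 2, [12, 4]),
    (0, 3, [7, 12, 8]),
    (2, 3, [5, 4, 9, 10, 4, 3, 5, 4]),
    (1, 2, [5, 12]),
    (2, 2, [4, 12]),
    (3, 2, [1, 12]),
    (9, 2, [12, 4]),
    (8, 2, [12, 5]),
    (7, 2, [12, 3]),
    (6, 2, [12, 4]),
    (4, 3, [10, 13, 10]),
    (6, 6, [4, 8, 1, 5, 4]),
    (5, 2, [4, 13]),
    (10, 2, [12, 4]),
    (9, 2, [12, 5]),
    (8, 2, [12, 9]),
    (6, 3, [7, 12, 8]),
    (8, 5, [3, 4, 10, 1, 4, 3, 5, 4]),
    (7, 2, [3, 12]),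
    (8, 2, [4, 12]),
    (15, 2, [12, 4]),
    (14, 2, [12, 5]),
    (13, 2, [12, 3]),
    (12, 2, [12, 4]),
    (11, 2, [12, 9]),
    (9, 3, [10, 13, 10]),
    (11, 9, [3, 5, 4, 6, 5, 4]),
    (16, 2, [12, 4]),
    (15, 2, [12, 5]),
    (14, 2, [12, 6]),
    (13, 2, [12, 4]),
    (12, 2, [12, 5]),
    (11, 2, [12, 3]),
    (10, 2, []),
    (0, 16, [])] (by decide +kernel))
  exact ev_of_rwB valsR (ivl := ivR) h1 [(1, 6, []), (0, 2, [])] (by decide +kernel)

/-- The letters in the subgroup `HS`. -/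
def csH : List ℕ := [kE, kM, kJ, kJi, kD, kX]

theorem valsH : Vals csH := Vals.of_sub (by decide +kernel)

theorem YR.satH (h : YR ι y) : Sat (mix ι csH [y, y⁻¹]) TMEH.R := by
  refine sat_mix valsH (sp := [(7, 8, [kE, kM, kJ, kD], [kM, kEM, kJ, kD])]) ?_
    (Rx := [[7, 8], [7, 7, 7], [6, 7, 6, 7, 6, 7],
      [6, 5, 6, 5, 6, 7, 6, 5, 6, 5, 6, 7, 6, 5, 6, 5, 6, 7, 6, 5, 6, 5, 6, 7]]) ?_
    (by decide +kernel)
  · simp only [List.mem_singleton, forall_eq]
    exact ⟨rfl, h.act.sub [[1], [2], [4, 3, 5, 6, 5, 4, 3], [3, 4, 3, 6]] (by decide +kernel)⟩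
  · simp only [Sat, List.mem_cons, List.not_mem_nil, or_false, forall_eq_or_imp, forall_eq]
    refine ⟨mul_inv_cancel_left y 1, ?_, h.tri, ?_⟩
    · change y * (y * (y * 1)) = 1
      simpa only [mul_assoc, mul_one] using h.cube
    · have e := h.quad
      have e2 : mix ι csR [y, y⁻¹] 11 = ι (el kX) * (ι (el kD) * (ι (el kX) * (ι (el kD) *
          ι (el kX)))) := by
        rw [← map_mul, ← map_mul, ← map_mul, ← map_mul, ← vD.el_mu vX, ← vX.el_mu (vD.mu vX),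
          ← vD.el_mu (vX.mu (vD.mu vX)), ← vX.el_mu (vD.mu (vX.mu (vD.mu vX)))]
        rfl
      have e3 : mix ι csR [y, y⁻¹] 12 = y := rfl
      have e4 : mix ι csH [y, y⁻¹] 5 = ι (el kD) := rfl
      have e5 : mix ι csH [y, y⁻¹] 6 = ι (el kX) := rfl
      have e6 : mix ι csH [y, y⁻¹] 7 = y := rfl
      simp only [ev_cons, ev_nil, e2, e3, e4, e5, e6, mul_assoc] at e ⊢
      exact e

theorem YR.satG (h : YR ι y) : Sat (mix ι cs0 [y, y⁻¹]) TMEG.R := by
  refine sat_mix vals0 (sp := [(9, 10, csK, csK')]) ?_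
    (Rx := [[9, 10], [9, 9, 9], [7, 9, 7, 9, 8, 10]]) ?_ (by decide +kernel)
  · simp only [List.mem_singleton, forall_eq]
    exact ⟨rfl, h.act⟩
  · simp only [Sat, List.mem_cons, List.not_mem_nil, or_false, forall_eq_or_imp, forall_eq]
    refine ⟨mul_inv_cancel_left y 1, ?_, ?_⟩
    · change y * (y * (y * 1)) = 1
      simpa only [mul_assoc, mul_one] using h.cube
    · change ι (el kA) * (y * (ι (el kA) * (y * (ι (el kAi) * (y⁻¹ * 1))))) = 1
      rw [el_Ai, map_inv]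
      simpa only [mul_assoc, mul_one] using h.rho

theorem YR.bound (h : YR ι y) : Finite (gen (mix ι cs0 [y, y⁻¹]) 10) ∧
    Nat.card (gen (mix ι cs0 [y, y⁻¹]) 10) ≤ 495766656000 := by
  have hX : ∀ c ∈ [kE, kM, kJ, kD, kX], el c ∈ sub EX := by
    have key : allL (fun c => anyL (fun o => netc o c) EX) [kE, kM, kJ, kD, kX] = true := by
      decide +kernel
    exact fun c hc => mem_sub (Vals.of_sub (by decide +kernel) c hc) (allL_iff.1 key c hc)
  have m := fun x h1 h2 => H44.mem_gen (mix ι csH [y, y⁻¹]) (nc := 8) (x := x) h1 h2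
  have h1 : (sub EX).map ι ≤ gen (mix ι csH [y, y⁻¹]) 8 := by
    rw [map_le_iff_le_comap]
    refine sub_le (cs := [kE, kM, kJ, kD, kX]) (by decide +kernel) (Vals.of_sub (by decide +kernel)) ?_
    simp only [List.mem_cons, List.not_mem_nil, or_false, forall_eq_or_imp, forall_eq]
    exact ⟨m 1 (by decide) (by decide), m 2 (by decide) (by decide), m 3 (by decide) (by decide),
      m 5 (by decide) (by decide), m 6 (by decide) (by decide)⟩
  have h2 : Finite ((sub EX).map ι) ∧ Nat.card ((sub EX).map ι) ≤ 2880 :=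
    ⟨Finite.of_surjective _ (ι.subgroupMap_surjective _),
      card_X ▸ Nat.card_le_card_of_surjective _ (ι.subgroupMap_surjective _)⟩
  have h3 := (TMEH.idxLe h.satH (H := (sub EX).map ι) (by
    simp only [TMEH.S, List.mem_cons, List.not_mem_nil, or_false, forall_eq_or_imp, forall_eq,
      H44.ev_single]
    exact ⟨⟨_, hX kE (by simp), rfl⟩, ⟨_, hX kM (by simp), rfl⟩, ⟨_, hX kJ (by simp), rfl⟩,
      ⟨_, hX kD (by simp), rfl⟩, ⟨_, hX kX (by simp), rfl⟩⟩)).card_le h1 h2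
  have ej := ev_mix' (ι := ι) (xs := [y, y⁻¹]) vals0 [4, 3, 5, 6, 5, 4, 3] (c := kJ)
    (by decide +kernel)
  have eji := ev_mix' (ι := ι) (xs := [y, y⁻¹]) vals0 [3, 4, 5, 6, 5, 3, 4] (c := kJi)
    (by decide +kernel)
  have ed := ev_mix' (ι := ι) (xs := [y, y⁻¹]) vals0 [3, 4, 3, 6] (c := kD) (by decide +kernel)
  have ex := ev_mix' (ι := ι) (xs := [y, y⁻¹]) vals0 [1, 8, 4, 3, 5, 6, 5, 4, 7] (c := kX)
    (by decide +kernel)
  have h4 : gen (mix ι csH [y, y⁻¹]) 8 ≤ gen (mix ι cs0 [y, y⁻¹]) 10 := by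
    refine H44.gen_le.2 fun x h1 h2 => ?_
    interval_cases x
    · exact H44.mem_gen _ (x := 1) (by decide) (by decide)
    · exact H44.mem_gen _ (x := 2) (by decide) (by decide)
    · change ι (el kJ) ∈ _
      exact ej ▸ ev_mem_gen _ rfl
    · change ι (el kJi) ∈ _
      exact eji ▸ ev_mem_gen _ rfl
    · change ι (el kD) ∈ _
      exact ed ▸ ev_mem_gen _ rfl
    · change ι (el kX) ∈ _
      exact ex ▸ ev_mem_gen _ rfl
    · exact H44.mem_gen _ (x := 9) (by decide) (by decide)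
    · exact H44.mem_gen _ (x := 10) (by decide) (by decide)
  refine (TMEG.idxLe h.satG (H := gen (mix ι csH [y, y⁻¹]) 8) ?_).card_le h4 h3
  simp only [TMEG.S, List.mem_cons, List.not_mem_nil, or_false, forall_eq_or_imp, forall_eq,
    H44.ev_single, ej, ed, ex]
  exact ⟨m 1 (by decide) (by decide), m 2 (by decide) (by decide), m 3 (by decide) (by decide),
    m 5 (by decide) (by decide), m 6 (by decide) (by decide), m 7 (by decide) (by decide)⟩

end Cfsg.Agent.H55.TM
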