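import Mathlib
import Cfsg.Agent.H55.TM3
import Cfsg.Agent.H55.TMEB

/-!
# The case that `m` is conjugate to `e`: construction of the amalgam
-/

set_option autoImplicit false
set_option maxRecDepth 200000

namespace Cfsg.Agent.H55.TM

open Cfsg.Agent.H43 Cfsg.Agent.H89.Rec Equiv Subgroup
open Cfsg.Agent.H44 (ev Sat gen ev_nil ev_cons ev_append)

/-- Boolean implication. -/
noncomputable def imp (a b : Bool) : Bool := Bool.rec true b a

theorem imp_of {a b : Bool} (h : imp a b = true) (ha : a = true) : b = true := by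
  subst ha; exact h

theorem beq_of {a b : ℕ} (h : a = b) : Nat.beq a b = true := h ▸ Nat.beq_refl a

variable {G : Type*} [Group G] {ι : AM →* G} {g : G}

theorem Act.cast {a b b' : ℕ} (h : Act ι g a b) (e : Nat.beq b b' = true) : Act ι g a b' :=
  Nat.eq_of_beq_eq_true e ▸ h

theorem Act.cast' {a a' b : ℕ} (h : Act ι g a b) (e : Nat.beq a a' = true) : Act ι g a' b :=
  Nat.eq_of_beq_eq_true e ▸ h

theorem Act.ex (h : Emb ι (el kE)) {b a : ℕ} (hb : Act ι g b kE) (ha : Val a)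
    (e : cmB a b = true) : ∃ x : AM, Act ι g a (cd x) :=
  let ⟨x, hx⟩ := h.exists_cj hb.2.2 (el_comm ha hb.1 e)
  ⟨x, ha, val_cd x, (el_cd x).symm ▸ hx⟩

theorem Act.comm (hi : Function.Injective ι) {a b y : ℕ} {x : AM} (h : Act ι g a (cd x))
    (h' : Act ι g b y) (e : cmB a b = true) : Commute x (el y) :=
  el_cd x ▸ h.2.2.comm hi h'.2.2 (el_comm h.1 h'.1 e)

theorem Acts.rel (hi : Function.Injective ι) {D I : List ℕ} (h : Acts ι g D I) (U : List ℕ)
    (e : Nat.beq (evC D U) c1 = true) : Nat.beq (evC I U) c1 = true :=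
  beq_of (((h.word U).cast' e).uniq hi (Act.one g))

theorem Act.ne (hi : Function.Injective ι) {a b a' b' : ℕ} (h : Act ι g a b) (h' : Act ι g a' b')
    (e : Nat.beq a a' = false) : b ≠ b' := by
  rintro rfl
  exact Nat.ne_of_beq_eq_false e (h.symm.uniq hi h'.symm)

theorem Acts.adj {D I J cs : List ℕ} (h : Acts ι g D I) (hc : Vals cs) {ws : List (List ℕ)}
    (e : anyL (fun w => eqL J (cjL (evC cs w) I)) ws = true) : ∃ g', Acts ι g' D J :=
  let ⟨w, _, e⟩ := anyL_iff.1 e; ⟨_, h.left (hc.evC w) e⟩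

theorem Act.cls {x : AM} (h2 : x * x = 1) (h1 : x ≠ 1) : ∃ k ∈ [kE, kM, kEM, kT, kET], ∃ c : AM,
    c * x * c⁻¹ = el k ∧ Act ι (ι c) (cd x) k ∧ Act ι (ι c) kE kE :=
  let ⟨k, hk, c, e⟩ := inv_classes h2 h1
  ⟨k, hk, c, e, Act.of_cj (Cj.self' e) rfl (Vals.of_sub (by decide +kernel) k hk).cd_el,
    vE, vE, Cj.of_commute ((comm_E c).map ι)⟩

/-- The element with code `a` is conjugate to `e`. -/
def ID (ι : AM →* G) (a : ℕ) : Prop := ∃ g, Act ι g a kE

theorem ID.of {a b : ℕ} (h : ID ι b) (e : Act ι g a b) : ID ι a :=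
  let ⟨_, h⟩ := h; ⟨_, e.trans h⟩

theorem ID.to {a b : ℕ} (h : ID ι a) (e : Act ι g a b) : ID ι b := h.of e.symm

theorem ID.e : ID ι kE := ⟨1, vE, vE, Cj.refl _⟩

theorem notID_T (h : Emb ι (el kE)) : ¬ ID ι kT := fun ⟨g, e⟩ => not_inD_T h ⟨g, e.2.2⟩

theorem notID_one (h : Emb ι (el kE)) : ¬ ID ι c1 := fun ⟨g, e⟩ =>
  absurd (e.uniq h.inj (Act.one g)) (by decide +kernel)

theorem ID.sq (h : Emb ι (el kE)) {x : AM} (hx : ID ι (cd x)) : x * x = 1 ∧ x ≠ 1 :=
  let ⟨g, e⟩ := hx; h.inD_sq ⟨g, el_cd x ▸ e.2.2⟩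

theorem pairD (h : Emb ι (el kE)) (hn : ¬ ID ι kM ∨ ¬ ID ι kEM) {y : AM} (h1 : ID ι (cd y))
    (h2 : ID ι (mu kE (cd y))) : False := by
  obtain ⟨k, hk, c, -, e1, e2⟩ := Act.cls (ι := ι) (h1.sq h).1 (h1.sq h).2
  have h3 := h1.to e1
  have h4 := h2.to (e2.mu e1)
  simp only [List.mem_cons, List.not_mem_nil, or_false] at hk
  rcases hk with rfl | rfl | rfl | rfl | rfl
  · exact notID_one h (show mu kE kE = c1 by decide +kernel ▸ h4)
  · exact hn.elim (· h3) (· (show mu kE kM = kEM by decide +kernel ▸ h4))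
  · exact hn.elim (· (show mu kE kEM = kM by decide +kernel ▸ h4)) (· h3)
  · exact notID_T h h3
  · exact notID_T h (show mu kE kET = kT by decide +kernel ▸ h4)

/-- An element of order three. -/
def kAl : ℕ := 0xdc21b5a0368974
/-- An involution. -/
def kBe : ℕ := 0xdc2a1678503b94

theorem valsK : Vals csK := Vals.of_sub (by decide +kernel)
theorem vAl : Val kAl := valsK.of_words (cs' := [kAl]) [[3, 4]] (by decide +kernel) _ (by simp)
theorem vBe : Val kBe :=
  valsK.of_words (cs' := [kBe]) [[5, 4, 6, 5]] (by decide +kernel) _ (by simp)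

theorem comm_T {x : AM} (h : Commute x (el kET)) : Commute x (el kT) := by
  rw [← el_mul vE vET (c := kT) (by decide +kernel)]
  exact (comm_E x).mul_right h

theorem norm_F (h : Emb ι (el kE)) {f : ℕ} (hf : f = kM ∨ f = kEM) (hD : ID ι f) :
    ∃ g, Act ι g f kE ∧ (Act ι g kE kM ∨ Act ι g kE kEM) := by
  have key : allL (fun x => imp (Nat.beq (evC [x] [1, 1, 1, 1, 1]) c1) (Nat.beq x c1)) LB = true := by
    decide +kernel
  obtain ⟨g, hg⟩ := hD
  obtain ⟨x, hx⟩ := hg.ex h vE (by rcases hf with rfl | rfl <;> decide +kernel)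
  have hD : ID ι (cd x) := ID.e.to hx
  obtain ⟨k, hk, c, -, e1, e2⟩ := Act.cls (ι := ι) (hD.sq h).1 (hD.sq h).2
  have h1 := hg.trans e2
  have h2 := hx.trans e1
  obtain ⟨z, hz⟩ := h1.ex h (vAl.mu vBe) (by rcases hf with rfl | rfl <;> decide +kernel)
  have h3 : ¬ Commute z (el kT) := fun hc => hz.ne h.inj (Act.one _) (by decide +kernel)
    (Nat.eq_of_beq_eq_true (imp_of (allL_iff.1 key _ (memB hc))
      ((Acts.cons hz (Acts.nil _)).rel h.inj _ (by decide +kernel))))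
  have h4 := hz.comm h.inj h2 (by decide +kernel)
  simp only [List.mem_cons, List.not_mem_nil, or_false] at hk
  rcases hk with rfl | rfl | rfl | rfl | rfl
  · exact absurd rfl (h1.ne h.inj h2 (by rcases hf with rfl | rfl <;> decide +kernel))
  · exact ⟨_, h1, Or.inl h2⟩
  · exact ⟨_, h1, Or.inr h2⟩
  · exact absurd h4 h3
  · exact absurd (comm_T h4) h3

theorem exists_tri (h : Emb ι (el kE)) (hm : ID ι kM) : ∃ g, Acts ι g [kE, kM] [kM, kEM] := by
  obtain ⟨g, h1, h2 | h2⟩ := norm_F h (Or.inl rfl) hm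
  · by_cases hem : ID ι kEM
    · obtain ⟨g', h3, h4 | h4⟩ := norm_F h (Or.inr rfl) hem
      · exact ⟨g', (Acts.cons h3 (Acts.cons h4 (Acts.nil _))).sub [[2], [1, 2]] (by decide +kernel)⟩
      · exact ⟨_, (Acts.cons h2 (Acts.cons h1 (Acts.nil _))).step
          (Acts.cons h3 (Acts.cons h4 (Acts.nil _))) [[1, 2], [2]] (by decide +kernel)⟩
    · have v1 := vE.mu vS1
      obtain ⟨y, hy⟩ := h1.ex h v1 (by decide +kernel)
      have a1 : Act ι (ι (el kA)) (mu kE kS1) kM := (Act.self vA v1).cast (by decide +kernel)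
      have a2 : Act ι (ι (el kA)) kM (mu kM (mu kE kS1)) := (Act.self vA vM).cast (by decide +kernel)
      exact (pairD h (Or.inr hem) ((hm.of a1).to hy) ((hm.to a2).to (h1.mu hy))).elim
  · exact ⟨_, (Acts.cons h1 (Acts.cons h2 (Acts.nil _))).symm.sub [[1], [1, 2]] (by decide +kernel)⟩

theorem ext_K (h : Emb ι (el kE)) (h1 : Act ι g kE kM) (h2 : Act ι g kM kEM) {a : ℕ} (ha : Val a)
    (e : band (cmB a kE) (cmB a kEM) = true) : ∃ x ∈ LK, Act ι g a x := by
  obtain ⟨x, hx⟩ := (((h1.mu h2).cast' (a' := kEM) (by decide +kernel)).cast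
    (by decide +kernel)).ex h ha (band_eq_true.1 e).2
  exact ⟨_, memK (hx.comm h.inj h1 (band_eq_true.1 e).1), hx⟩

theorem exists_five (h : Emb ι (el kE)) (hm : ID ι kM) :
    ∃ g, Acts ι g [kBe, kAl, kE, kM] [kBe, kAl, kM, kEM] := by
  have key1 : allL (fun x => imp (Nat.beq (evC [x, kM, kEM] [1, 1, 1]) c1) (bor (Nat.beq x c1)
      (anyL (fun w => eqL [kAl, kM, kEM] (cjL (evC csK w) [x, kM, kEM]))
      [[], [3], [5, 4, 3], [3, 5, 4, 3], [5, 4, 3, 6, 5, 4], [3, 5, 4, 3, 6, 5, 4], [5, 4], [5],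
        [3, 5, 4], [3, 5], [5, 4, 3, 6, 5], [5, 4, 3, 6], [3, 5, 4, 3, 6, 5], [3, 5, 4, 3, 6],
        [5, 4, 6], [5, 4, 6, 5], [5, 6], [3, 5, 4, 6, 5], [3, 5, 4, 6], [3, 5, 6]]))) LK = true := by
    decide +kernel
  have key2 : allL (fun x => imp (Nat.beq (evC [x, kAl, kM, kEM] [1, 1]) c1)
      (imp (Nat.beq (evC [x, kAl, kM, kEM] [2, 1, 2, 1, 2, 1, 2, 1, 2, 1]) c1)
      (anyL (fun w => eqL [kBe, kAl, kM, kEM] (cjL (evC csK w) [x, kAl, kM, kEM]))
      [[], [4, 3, 6], [6], [4, 3], [3, 4], [3, 4, 6]]))) LK = true := by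
    decide +kernel
  obtain ⟨g, hg⟩ := exists_tri h hm
  obtain ⟨x, hx, e⟩ := ext_K h (hg 1) (hg 2) vAl (by decide +kernel)
  have h1 := Acts.cons e hg
  obtain ⟨g, hg⟩ := h1.adj valsK ((bor_iff.1 (imp_of (allL_iff.1 key1 x hx)
    (h1.rel h.inj _ (by decide +kernel)))).resolve_left fun e' =>
      e.ne h.inj (Act.one _) (by decide +kernel) (Nat.eq_of_beq_eq_true e'))
  obtain ⟨x, hx, e⟩ := ext_K h (hg 2) (hg 3) vBe (by decide +kernel)
  have h1 := Acts.cons e hg
  exact h1.adj valsK (imp_of (imp_of (allL_iff.1 key2 x hx) (h1.rel h.inj _ (by decide +kernel)))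
    (h1.rel h.inj _ (by decide +kernel)))

theorem cube_of (h : Emb ι (el kE)) (hg : Acts ι g [kBe, kAl, kE, kM] [kBe, kAl, kM, kEM]) :
    g * g * g = 1 := by
  have key : allL (fun x => imp (Nat.beq (cj x kBe) kBe) (imp (Nat.beq (cj x kAl) kAl)
      (memL x [c1, kE, kM, kEM]))) LK = true := by decide +kernel
  have h3 : Acts ι (g * (g * g)) [kBe, kAl, kE, kM] [kBe, kAl, kE, kM] :=
    (hg.step (J := [kBe, kAl, kEM, kE]) hg [[1], [2], [4], [3, 4]] (by decide +kernel)).step hg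
      [[1], [2], [3, 4], [3]] (by decide +kernel)
  obtain ⟨z, hz⟩ := h.of_cj (h3 3).2.2
  rw [← hz] at h3
  have h4 := memL_iff.1 (imp_of (imp_of (allL_iff.1 key _ (memK
    (mul_inv_eq_iff_eq_mul.1 ((h3 4).2.2.of_map h.inj)))) (beq_of ((h3 1).eq_cj h.inj)))
    (beq_of ((h3 2).eq_cj h.inj)))
  have h5 : Act ι g (cd z) (cd z) := Act.of_cj (Cj.of_commute (by
    rw [hz]; exact (Commute.refl g).mul_right ((Commute.refl g).mul_right (Commute.refl g)))) rfl rfl
  simp only [List.mem_cons, List.not_mem_nil, or_false] at h4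
  rcases h4 with e | e | e | e
  · rw [mul_assoc, ← hz, eq_el e, el_one, map_one]
  · exact absurd ((e ▸ h5).uniq h.inj (hg 3)) (by decide +kernel)
  · exact absurd ((e ▸ h5).uniq h.inj (hg 4)) (by decide +kernel)
  · exact absurd ((e ▸ h5).uniq h.inj (hg.word' [3, 4] (b := kE) (by decide +kernel)))
      (by decide +kernel)

theorem not_out (h : Emb ι (el kE)) {b : ℕ} (hg : Acts ι g [kE, kM] [kE, b]) : ap b 12 = 12 := by
  obtain ⟨z, rfl⟩ := h.of_cj (hg 1).2.2
  have e : z * el kM * z⁻¹ = el b := (hg 2).2.2.of_map h.inj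
  exact (el_mem_St (i := 12) (hg 2).2.1).1
    (e ▸ (conj_mem_M _ _).2 ((el_mem_St vM).2 (by decide +kernel)))

/-- The generators of the elementary abelian group of order eight. -/
def cs8 : List ℕ := [kE, kM, kS1]

theorem vals8 : Vals cs8 := Vals.of_sub (by decide +kernel)

theorem act_A : Acts ι (ι (el kA)) cs8 (evL cs8 [[1], [1, 2, 3], [1, 2]]) :=
  Acts.self vA vals8 (by decide +kernel)

theorem exists_act (h : Emb ι (el kE)) (hm : ID ι kM) :
    ∃ (ι' : AM →* G) (y : G), Emb ι' (el kE) ∧ y * y * y = 1 ∧ Acts ι' y csK csK' := by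
  have key : allL (fun x => imp (Nat.beq (evC [x, kBe, kAl, kM, kEM] [1, 3, 1, 3]) c1)
      (imp (Nat.beq (evC [x, kBe, kAl, kM, kEM] [1, 2, 1, 2, 3, 2, 3, 3, 2, 3, 2, 3]) c1)
      (memL x [kS1, mu kS1 kE, mu kS1 kM, mu kS1 kEM]))) LK = true := by decide +kernel
  obtain ⟨g, hg⟩ := exists_five h hm
  obtain ⟨x, hx, e⟩ := ext_K h (hg 3) (hg 4) vS1 (by decide +kernel)
  have h1 := Acts.cons e hg
  have h2 := memL_iff.1 (imp_of (imp_of (allL_iff.1 key x hx) (h1.rel h.inj _ (by decide +kernel)))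
    (h1.rel h.inj _ (by decide +kernel)))
  have a := act_A (ι := ι)
  simp only [List.mem_cons, List.not_mem_nil, or_false] at h2
  rcases h2 with rfl | rfl | rfl | rfl
  · exact ⟨ι, g, h, cube_of h hg,
      h1.sub [[4], [5], [1], [1, 3], [3, 3, 2, 1, 2, 3], [2, 1, 3, 2]] (by decide +kernel)⟩
  · obtain ⟨τ, t0, t1, t2, t3, t4, t5, t6⟩ := exists_out
    have h3 : Acts ι g [kE, kM, kM, mu kS1 kM, mu kS2 kM, mu kS3 kM, mu kS4 kM]
        [kM, kEM, kEM, mu kS1 kM, mu kS2 kM, mu kS3 kM, mu kS4 kM] :=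
      h1.sub [[4], [5], [5], [1, 5], [1, 5, 3], [3, 3, 2, 1, 5, 2, 3], [2, 1, 5, 3, 2]]
        (by decide +kernel)
    refine ⟨ι.comp τ, g, h.comp t0 t1, cube_of h hg, Acts.cons ⟨vE, vM, ?_⟩ (Acts.cons ⟨vM, vEM, ?_⟩
      (Acts.cons ⟨vS1, vS1, ?_⟩ (Acts.cons ⟨vS2, vS2, ?_⟩ (Acts.cons ⟨vS3, vS3, ?_⟩
      (Acts.cons ⟨vS4, vS4, ?_⟩ (Acts.nil _))))))⟩ <;> rw [Cj.comp]
    · rw [t1, t2]; exact (h3 1).2.2
    · rw [← E_M, map_mul, t1, t2, E_M]; exact (h3 2).2.2
    · rw [t3]; exact (h3 4).2.2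
    · rw [t4]; exact (h3 5).2.2
    · rw [t5]; exact (h3 6).2.2
    · rw [t6]; exact (h3 7).2.2
  · have y : Acts ι g cs8 (evL cs8 [[2], [1, 2], [2, 3]]) :=
      h1.sub [[4], [5], [1]] (by decide +kernel)
    exact absurd (not_out h (b := mu kM kS1)
      ((((((y.sub (D' := [kE, kM]) (I' := evL cs8 [[2], [1, 2]]) [[1], [2]] (by decide +kernel)).step
      (J := evL cs8 [[1, 2, 3], [2, 3]]) a [[2], [1, 2]] (by decide +kernel)).step
      (J := evL cs8 [[1, 3], [3]]) a [[1, 2, 3], [2, 3]] (by decide +kernel)).step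
      (J := evL cs8 [[3], [2, 3]]) y [[1, 3], [3]] (by decide +kernel)).step
      (J := evL cs8 [[1, 2], [3]]) a [[3], [2, 3]] (by decide +kernel)).step
      (J := [kE, mu kM kS1]) y [[1, 2], [3]] (by decide +kernel))) (by decide +kernel)
  · have y : Acts ι g cs8 (evL cs8 [[2], [1, 2], [1, 2, 3]]) :=
      h1.sub [[4], [5], [1]] (by decide +kernel)
    exact absurd (not_out h (b := kS1)
      ((((((y.sub (D' := [kE, kM]) (I' := evL cs8 [[2], [1, 2]]) [[1], [2]] (by decide +kernel)).step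
      (J := evL cs8 [[1, 2, 3], [2, 3]]) a [[2], [1, 2]] (by decide +kernel)).step
      (J := evL cs8 [[2, 3], [3]]) y [[1, 2, 3], [2, 3]] (by decide +kernel)).step
      (J := evL cs8 [[3], [1, 2]]) a [[2, 3], [3]] (by decide +kernel)).step
      (J := evL cs8 [[1, 2], [2, 3]]) a [[3], [1, 2]] (by decide +kernel)).step
      (J := [kE, kS1]) y [[1, 2], [2, 3]] (by decide +kernel))) (by decide +kernel)

/-- The letters of the group generated by `a` and the elementary abelian group of order eight. -/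
def csB : List ℕ := [kE, kM, kS1, kA, kAi]

theorem valsB : Vals csB := Vals.of_sub (by decide +kernel)

theorem sat_B {y : G} (h3 : y * y * y = 1) (hy : Acts ι y csK csK') {w : List ℕ}
    (hr : ι (el kA) * y * ι (el kA) * y * (ι (el kA))⁻¹ * y⁻¹ = ι (el (evC csB w)))
    {R : List (List ℕ)} (hw : band (band (aB 5 w) (Nat.beq (evC csB (w ++ w)) c1))
      (allL (relB csB [(6, 7, csK, csK')] [[6, 7], [6, 6, 6], [4, 6, 4, 6, 5, 7] ++ w]) R) = true) :
    Sat (mix ι csB [y, y⁻¹]) R := by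
  obtain ⟨h1, h2⟩ := band_eq_true.1 hw
  refine sat_mix valsB ?_ ?_ h2
  · simp only [List.mem_singleton, forall_eq]
    exact ⟨rfl, hy⟩
  · simp only [Sat, List.mem_cons, List.not_mem_nil, or_false, forall_eq_or_imp, forall_eq]
    refine ⟨mul_inv_cancel_left y 1, ?_, ?_⟩
    · change y * (y * (y * 1)) = 1
      simpa only [mul_assoc, mul_one] using h3
    · have e := ev_mix (ι := ι) (xs := [y, y⁻¹]) valsB (r := w) (band_eq_true.1 h1).1
      have e2 : el (evC csB w) * el (evC csB w) = 1 := by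
        rw [valsB.el_evC, ← ev_append, ← valsB.el_evC,
          Nat.eq_of_beq_eq_true (band_eq_true.1 h1).2, el_one]
      rw [ev_append, e, ← map_one ι, ← e2, map_mul]
      congr 1
      change ι (el kA) * (y * (ι (el kA) * (y * (ι (el kAi) * (y⁻¹ * 1))))) = _
      rw [el_Ai, map_inv]
      simpa only [mul_assoc, mul_one] using hr

theorem caseB [Finite G] (h : Emb ι (el kE)) (hm : ID ι kM) :
    ∃ (ι' : AM →* G) (y : G), Emb ι' (el kE) ∧ YR ι' y := by
  have key : allL (fun x => imp (Nat.beq (cj x kS1) kS1) (imp (Nat.beq (cj x kT) kT)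
      (imp (Nat.beq (cj x (mu kS1 kS4)) (mu kS1 kS4)) (memL x (evL csB
        [[], [1], [2], [3], [1, 2], [1, 3], [2, 3], [1, 2, 3]]))))) LK = true := by decide +kernel
  obtain ⟨ι, y, h, h3, hy⟩ := exists_act h hm
  have v5 : Vals [kE, kM, kS1, kT, mu kS1 kS4] :=
    vals_all.of_words [[1], [2], [3], [9], [3, 6]] (by decide +kernel)
  have y5 : Acts ι y [kE, kM, kS1, kT, mu kS1 kS4] [kM, kEM, kS1, kT, mu kS1 kS4] :=
    hy.sub [[1], [2], [3], [3, 5], [3, 6]] (by decide +kernel)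
  have a5 : Acts ι (ι (el kA)) [kE, kM, kS1, kT, mu kS1 kS4]
      [kE, mu kE (mu kM kS1), kEM, kT, mu kS1 kS4] := Acts.self vA v5 (by decide +kernel)
  have hρ : Acts ι (ι (el kA) * (y * (ι (el kA) * (y * ((ι (el kA))⁻¹ * y⁻¹)))))
      [kM, kEM, kS1, kT, mu kS1 kS4] [kM, kEM, kS1, kT, mu kS1 kS4] := 
    (((((y5.symm.step
      (J := evL [kE, kM, kS1, kT, mu kS1 kS4] [[1], [1, 3], [2, 3], [4], [5]])
      a5.symm [[1], [1, 3], [2, 3], [4], [5]] (by decide +kernel)).step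
      (J := evL [kE, kM, kS1, kT, mu kS1 kS4] [[2], [2, 3], [1, 2, 3], [4], [5]])
      y5 [[1], [1, 3], [2, 3], [4], [5]] (by decide +kernel)).step
      (J := evL [kE, kM, kS1, kT, mu kS1 kS4] [[1, 2, 3], [3], [1, 3], [4], [5]])
      a5 [[2], [2, 3], [1, 2, 3], [4], [5]] (by decide +kernel)).step
      (J := evL [kE, kM, kS1, kT, mu kS1 kS4] [[1, 3], [3], [2, 3], [4], [5]])
      y5 [[1, 2, 3], [3], [1, 3], [4], [5]] (by decide +kernel)).step
      (J := [kM, kEM, kS1, kT, mu kS1 kS4])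
      a5 [[1, 3], [3], [2, 3], [4], [5]] (by decide +kernel))
  obtain ⟨z, hz⟩ := h.of_cj (hρ.word' [1, 2] (a := kE) (b := kE) (by decide +kernel)).2.2
  rw [← hz] at hρ
  have h4 := memL_iff.1 (imp_of (imp_of (imp_of (allL_iff.1 key _ (memK
    (mul_inv_eq_iff_eq_mul.1 ((hρ 1).2.2.of_map h.inj)))) (beq_of ((hρ 3).eq_cj h.inj)))
    (beq_of ((hρ 4).eq_cj h.inj))) (beq_of ((hρ 5).eq_cj h.inj)))
  rw [evL_eq] at h4
  obtain ⟨w, hw, e⟩ := List.mem_map.1 h4
  have hr : ι (el kA) * y * ι (el kA) * y * (ι (el kA))⁻¹ * y⁻¹ = ι (el (evC csB w)) := by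
    rw [e, el_cd, hz]; simp only [mul_assoc]
  have kill : Sat (mix ι csB [y, y⁻¹]) [[1]] → False := fun hs =>
    h.ne_one E_ne ((mul_one _).symm.trans (hs [1] (by simp)))
  simp only [List.mem_cons, List.not_mem_nil, or_false] at hw
  rcases hw with rfl | rfl | rfl | rfl | rfl | rfl | rfl | rfl
  · exact ⟨ι, y, h, h3, hy, by rw [hr, evC_nil, el_one, map_one]⟩
  · exact (kill ((H59.Tab.of TMEB.c1.checked TMEB.c1.masks).sat
      (sat_B h3 hy hr (by decide +kernel)) (by decide +kernel))).elim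
  · exact (kill ((H59.Tab.of TMEB.c2.checked TMEB.c2.masks).sat
      (sat_B h3 hy hr (by decide +kernel)) (by decide +kernel))).elim
  · exact (kill ((H59.Tab.of TMEB.c3.checked TMEB.c3.masks).sat
      (sat_B h3 hy hr (by decide +kernel)) (by decide +kernel))).elim
  · exact (kill ((H59.Tab.of TMEB.c12.checked TMEB.c12.masks).sat
      (sat_B h3 hy hr (by decide +kernel)) (by decide +kernel))).elim
  · exact (kill ((H59.Tab.of TMEB.c13.checked TMEB.c13.masks).sat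
      (sat_B h3 hy hr (by decide +kernel)) (by decide +kernel))).elim
  · exact (kill ((H59.Tab.of TMEB.c23.checked TMEB.c23.masks).sat
      (sat_B h3 hy hr (by decide +kernel)) (by decide +kernel))).elim
  · have hs := (H59.Tab.of TMEB.c123.checked TMEB.c123.masks).sat
      (sat_B h3 hy hr (by decide +kernel)) (R' := [[6, 1, 6, 1, 6, 1], [4, 6, 1, 4, 6, 1, 5, 1, 7]])
      (by decide +kernel)
    have e1 : y * (ι (el kE) * (y * (ι (el kE) * (y * (ι (el kE) * 1))))) = 1 := hs _ List.mem_cons_self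
    have e2 : ι (el kA) * (y * (ι (el kE) * (ι (el kA) * (y * (ι (el kE) * (ι (el kAi) *
      (ι (el kE) * (y⁻¹ * 1)))))))) = 1 := hs _ (List.mem_cons_of_mem _ List.mem_cons_self)
    refine ⟨ι, y * ι (el kE), h, by simpa only [mul_assoc, mul_one] using e1,
      hy.right vE valsK [[1], [2], [3], [4], [5], [6]] (by decide +kernel), ?_⟩
    rw [mul_inv_rev, inv_eq_of_mul_eq_one_right (map_sq ι E_sq)]
    rw [el_Ai, map_inv] at e2
    simpa only [mul_assoc, mul_one] using e2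

end Cfsg.Agent.H55.TM
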