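import Mathlib
import Cfsg.Agent.H55.TM5
import Cfsg.Prelude.Def_Transfer

/-!
# The case that `m` is not conjugate to `e`: an involution that moves `e` to `e t`
-/

set_option autoImplicit false
set_option maxRecDepth 200000

namespace Cfsg.Agent.H55.TM

open Cfsg.Agent.H43 Cfsg.Agent.H89.Rec Equiv Subgroup
open Cfsg.Agent.H44 (ev Sat gen ev_nil ev_cons ev_append)

variable {G : Type*} [Group G] {ι : AM →* G} {g : G}

theorem res_le [Finite G] {K : Subgroup G} (hK : Idx2 K ⊤) : pResidual 2 G ≤ K :=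
  (Subgroup.closure_le _).2 fun y hy => hK.mem_of_odd (mem_top y) (Nat.coprime_two_right.1 hy)
    (pow_orderOf_eq_one y)

theorem exists_swap [Finite G] (h : Emb ι (el kE)) (hm : ¬ ID ι kM)
    (hO : ι (el kE) ∈ pResidual 2 G) : ∃ g, Acts ι g [kE, kT] [kET, kT] := by
  by_contra hn
  have eS := mem_S kE (by simp [csS])
  have hS : Syl ((sub ES).map ι) ⊤ := by
    refine h.syl_of (A := ⊤) syl_S (by simp) fun k _ hk => ?_
    have hN := mem_normalizer_of_cj hk
    have key : ∀ z, Val z → el z ∈ sub ES → (∀ s ∈ sub ES, Commute s (el z)) →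
        ∃ z' ∈ [c1, kE, kT, kET], Act ι k z z' := by
      intro z hz h1 h2
      obtain ⟨x, -, e⟩ := hk _ h1
      refine ⟨_, center_S (x := x) fun c hc => ?_, Act.of_cj e hz.cd_el rfl⟩
      obtain ⟨s, hs, e'⟩ := nrm_conj (inv_mem hN) (mem_map_of_mem ι (mem_S c hc))
      exact e.comm h.inj (Cj.symm' (u := el c) e'.symm) (h2 s hs).symm
    obtain ⟨a, ha, e1⟩ := key kE vE eS fun s _ => comm_E s
    obtain ⟨b, hb, e2⟩ := key kT vT (mem_S kT (by simp [csS])) fun s hs => S_comm_T hs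
    simp only [List.mem_cons, List.not_mem_nil, or_false] at ha hb
    rcases ha with rfl | rfl | rfl | rfl
    · exact (notID_one h (ID.e.to e1)).elim
    · exact e1.2.2
    · exact (notID_T h (ID.e.to e1)).elim
    rcases hb with rfl | rfl | rfl | rfl
    · exact absurd rfl (e2.ne h.inj (Act.one _) (by decide +kernel))
    · exact (notID_T h (ID.e.of e2)).elim
    · exact (hn ⟨k, Acts.cons e1 (Acts.cons e2 (Acts.nil _))⟩).elim
    · exact absurd rfl (e1.ne h.inj e2 (by decide +kernel))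
  have hQ : Idx2 (sub ES ⊓ St 12) (sub ES) := Idx2.of_mul_iff inf_le_left
    (fun a ha b hb => by simp only [mem_inf, ha, hb, mul_mem ha hb, true_and, mul_mem_M]) eS
    fun e => E_not_mem e.2
  obtain ⟨K, hK, hK'⟩ := hS.transfer (hQ.map h.inj) (mem_map_of_mem ι eS)
    (fun e => E_not_mem ((mem_map_inj h.inj).1 e).2) (map_sq ι E_sq) (by
      rintro k - ⟨x, hx, e⟩
      have hD : ID ι (cd x) := ID.e.to (Act.of_cj (g := k) e.symm vE.cd_el rfl)
      obtain ⟨j, hj, c, e1, e2, -⟩ := Act.cls (ι := ι) (hD.sq h).1 (hD.sq h).2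
      have h1 := (el_mem_St e2.2.1).1 (e1 ▸ (conj_mem_M c x).2 hx.2)
      simp only [List.mem_cons, List.not_mem_nil, or_false] at hj
      rcases hj with rfl | rfl | rfl | rfl | rfl
      · exact absurd h1 (by decide +kernel)
      · exact hm (hD.to e2)
      · exact absurd h1 (by decide +kernel)
      · exact notID_T h (hD.to e2)
      · exact absurd h1 (by decide +kernel))
  exact hK' (res_le hK hO)

theorem ext_B (h : Emb ι (el kE)) (h1 : Act ι g kE kET) (h2 : Act ι g kT kT) {a : ℕ} (ha : Val a)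
    (e : band (cmB a kT) (cmB a kET) = true) : ∃ x ∈ LB, Act ι g a x := by
  obtain ⟨x, hx⟩ := (((h1.mu h2).cast' (a' := kET) (by decide +kernel)).cast
    (by decide +kernel)).ex h ha (band_eq_true.1 e).2
  exact ⟨_, memB (hx.comm h.inj h2 (band_eq_true.1 e).1), hx⟩

/-- The letters of the centraliser of `t`. -/
def csN : List ℕ := [kE, kT, kU, kW, kW1, kW2, kM, kTau, kA, kAi]

theorem valsN : Vals csN := Vals.of_sub (by decide +kernel)

/-- The images of the letters, as words. -/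
def imN : ℕ → List (List ℕ)
  | 0 => [[1, 2], [2], [3], [4], [5], [6], [7], [8], [9], [10]]
  | 1 => [[1, 2], [2], [3], [4], [2, 5], [2, 6], [7], [8], [9], [10]]
  | 2 => [[1, 2], [2], [3], [4], [2, 3, 5], [6], [2, 3, 7], [2, 4, 8], [9], [10]]
  | _ => [[1, 2], [2], [3], [4], [3, 5], [2, 6], [2, 3, 7], [2, 4, 8], [9], [10]]

theorem exists_four (h : Emb ι (el kE)) (hg : Acts ι g [kE, kT] [kET, kT]) :
    ∃ g, ∃ i < 4, Acts ι g csN (evL csN (imN i)) := by
  have key1 : allL (fun x => imp (Nat.beq (evC [x, kET, kT] [1, 1, 1]) c1) (bor (Nat.beq x c1)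
      (anyL (fun w => eqL [kA, kET, kT] (cjL (evC csN w) [x, kET, kT]))
      [[], [8], [7, 8], [6], [7], [4, 5, 8], [6, 7], [6, 8], [4], [3, 9], [5, 7], [3, 6], [7, 5],
        [6, 5], [7, 4], [4, 8], [3, 9, 8], [3, 5, 9], [5, 9, 5], [3, 7, 9], [5], [3, 5], [5, 10],
        [3, 5, 10], [5, 8], [6, 4, 8], [7, 6], [5, 9], [3], [3, 8], [3, 7, 8], [3, 7]]))) LB =
      true := by decide +kernel
  have key2 : allL (fun x => imp (Nat.beq (evC [x, kA, kET, kT] [1, 2, 1, 2, 1, 2, 1, 2, 4]) c1)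
      (imp (Nat.beq (evC [x, kA, kET, kT] [1, 1, 1, 1]) c1)
      (imp (Nat.beq (evC [x, kA, kET, kT] [1, 1, 2, 1, 1, 2, 1, 1, 2, 4]) c1)
      (anyL (fun j => anyL (fun w => eqL [j, kA, kET, kT] (cjL (evC csN w) [x, kA, kET, kT]))
      [[], [9], [10]]) [0xdcba6095738214, 0xdcab6395704128, 0xdcba7359604218, 0xdcab7059638124,
        0xcd485b976a3210, 0xcd845a976b0123, 0xcd847a659b3210, 0xcd487b659a0123])))) LB = true := by
    decide +kernel
  have hD : ID ι kET := ID.e.to (hg 1)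
  obtain ⟨x, hx, e⟩ := ext_B h (hg 1) (hg 2) vA (by decide +kernel)
  have h1 := Acts.cons e hg
  obtain ⟨g, hg⟩ := h1.adj valsN ((bor_iff.1 (imp_of (allL_iff.1 key1 x hx)
    (h1.rel h.inj _ (by decide +kernel)))).resolve_left fun e' =>
      e.ne h.inj (Act.one _) (by decide +kernel) (Nat.eq_of_beq_eq_true e'))
  obtain ⟨x, hx, e⟩ := ext_B h (hg 2) (hg 3) vG (by decide +kernel)
  have h1 := Acts.cons e hg
  obtain ⟨j, hj, e⟩ := anyL_iff.1 (imp_of (imp_of (imp_of (allL_iff.1 key2 x hx)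
    (h1.rel h.inj _ (by decide +kernel))) (h1.rel h.inj _ (by decide +kernel)))
    (h1.rel h.inj _ (by decide +kernel)))
  obtain ⟨g, hg⟩ := h1.adj valsN e
  have h2 := hg.word [1, 1, 2, 1, 2, 2]
  have h3 : ¬ ID ι (evC [j, kA, kET, kT] [1, 1, 2, 1, 2, 2]) := fun e => notID_T h ((e.of h2).to
    ((Act.self (vals7.evC [4, 7, 7, 4]) h2.1).cast (by decide +kernel)))
  have h4 : ∀ i, eqL (evL csN (imN i)) (evL [j, kA, kET, kT] [[3], [4], [2, 1, 1, 2, 2, 4],
      [2, 2, 1, 1, 2, 4], [2, 1, 2, 2, 1, 1, 4], [1, 2, 2, 1, 1, 1, 2, 1], [1, 1, 1, 2, 1, 2],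
      [2, 1, 1, 1, 2, 1, 4], [2], [2, 2]]) = true → Acts ι g csN (evL csN (imN i)) :=
    fun i e => hg.sub _ (band_eq_true.2 ⟨by decide +kernel, e⟩)
  simp only [List.mem_cons, List.not_mem_nil, or_false] at hj
  rcases hj with rfl | rfl | rfl | rfl | rfl | rfl | rfl | rfl
  · exact ⟨g, 0, by decide, h4 _ (by decide +kernel)⟩
  · exact ⟨g, 1, by decide, h4 _ (by decide +kernel)⟩
  · exact ⟨g, 2, by decide, h4 _ (by decide +kernel)⟩
  · exact ⟨g, 3, by decide, h4 _ (by decide +kernel)⟩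
  · exact (h3 (hD.of ((Act.self (vals7.evC [4, 7, 7, 4, 7]) h2.2.1).cast (by decide +kernel)))).elim
  · exact (h3 (hD.of ((Act.self (vals7.evC [4, 7, 4, 7]) h2.2.1).cast (by decide +kernel)))).elim
  · exact (h3 (hD.of ((Act.self (vals7.evC [4, 3, 7, 4, 7]) h2.2.1).cast (by decide +kernel)))).elim
  · exact (h3 (hD.of ((Act.self (vals7.evC [4, 3, 7, 7, 4, 7]) h2.2.1).cast
      (by decide +kernel)))).elim

theorem Acts.tail {a b : ℕ} {D I : List ℕ} (h : Acts ι g (a :: D) (b :: I)) : Acts ι g D I := by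
  rintro (_ | x)
  exacts [h 0, h (x + 2)]

theorem Acts.eq_cjL (hi : Function.Injective ι) {x : AM} {D I : List ℕ} (h : Acts ι (ι x) D I)
    (hl : I.length = D.length) : eqL I (cjL (cd x) D) = true := by
  induction D generalizing I with
  | nil => rw [List.length_eq_zero_iff.1 hl]; rfl
  | cons a D ih => cases I with
    | nil => simp at hl
    | cons b I =>
      exact band_eq_true.2 ⟨beq_of ((h 1).eq_cj hi).symm, ih h.tail (by simpa using hl)⟩

/-- The test behind `exists_val`. -/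
noncomputable def valB (D J J' : List ℕ) (ws good : List (List ℕ)) : Bool :=
  band (band (Nat.beq (lenL J') (lenL D)) (band (band (Nat.beq (lk D 1) kE) (Nat.beq (lk J' 1) kE))
    (band (Nat.beq (lk D 2) kT) (Nat.beq (lk J' 2) kT))))
    (allL (fun x => imp (eqL J' (cjL x D)) (anyL (fun w => band (Nat.beq (evC D w) x)
      (imp (Nat.beq (evC J w) x) (anyL (eqL w) good))) ws)) LB)

/-- An element that centralises `e`, `t` and `y` is determined by its action. -/
theorem exists_val (h : Emb ι (el kE)) {y z : G} {D J J' : List ℕ} (hy : Acts ι y D J)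
    (hz : Acts ι z D J') (hc : Commute y z) (ws good : List (List ℕ))
    (key : valB D J J' ws good = true) : ∃ w ∈ good, z = ι (el (evC D w)) := by
  obtain ⟨k1, key⟩ := band_eq_true.1 key
  obtain ⟨k1, k2⟩ := band_eq_true.1 k1
  obtain ⟨k2, k3⟩ := band_eq_true.1 k2
  obtain ⟨x, rfl⟩ := h.of_cj (((hz 1).cast' (band_eq_true.1 k2).1).cast (band_eq_true.1 k2).2).2.2
  have hx := memB (mul_inv_eq_iff_eq_mul.1 ((((hz 2).cast' (band_eq_true.1 k3).1).cast
    (band_eq_true.1 k3).2).2.2.of_map h.inj))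
  obtain ⟨w, -, e⟩ := anyL_iff.1 (imp_of (allL_iff.1 key _ hx) (hz.eq_cjL h.inj (by
    rw [← lenL_eq, ← lenL_eq]; exact Nat.eq_of_beq_eq_true k1)))
  obtain ⟨e1, e2⟩ := band_eq_true.1 e
  obtain ⟨w', hw, e3⟩ := anyL_iff.1 (imp_of e2 (beq_of (((hy.word w).cast' e1).uniq h.inj
    (Act.of_cj (Cj.of_commute hc) rfl rfl))))
  exact ⟨w', hw, by rw [← eq_of_eqL e3, Nat.eq_of_beq_eq_true e1, el_cd]⟩

theorem exists_inv (h : Emb ι (el kE)) {i : ℕ} (hi : i < 2)
    (hg : Acts ι g csN (evL csN (imN i))) :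
    ∃ r, r * r = 1 ∧ Acts ι r csN (evL csN (imN i)) := by
  have h1 : Act ι g kE kET := (hg 1).cast (by interval_cases i <;> decide +kernel)
  obtain ⟨w, hw, e⟩ := exists_val h hg (hg.step (J := csN) hg (imN i)
    (by interval_cases i <;> decide +kernel)) (Commute.mul_right rfl rfl)
    [[], [1], [2], [1, 2]] [[], [2]] (by interval_cases i <;> decide +kernel)
  simp only [List.mem_cons, List.not_mem_nil, or_false] at hw
  rcases hw with rfl | rfl
  · exact ⟨g, by rw [e, evC_nil, el_one, map_one], hg⟩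
  · refine ⟨g * ι (el kE), ?_, hg.right vE valsN
      [[1], [2], [3], [4], [5], [6], [7], [8], [9], [10]] (by interval_cases i <;> decide +kernel)⟩
    have e1 : g * ι (el kE) * g⁻¹ = ι (el kET) := h1.2.2
    have e2 : el kET * el (evC csN [2]) * el kE = 1 := by
      rw [el_mul vET (valsN.evC _) (c := kE) (by decide +kernel), E_sq]
    rw [← map_one ι, ← e2, map_mul, map_mul, ← e, ← e1]; group

theorem exists_cube (h : Emb ι (el kE)) {y : G} {D : List ℕ} {J1 : List (List ℕ)}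
    (hy : Acts ι y D (evL D J1)) (J2 J3 ws good : List (List ℕ))
    (key : band (band (eqL (evL (evL D J1) J1) (evL D J2)) (eqL (evL (evL D J1) J2) (evL D J3)))
      (valB D (evL D J1) (evL D J3) ws good) = true) :
    ∃ w ∈ good, y * (y * y) = ι (el (evC D w)) := by
  obtain ⟨k1, k3⟩ := band_eq_true.1 key
  obtain ⟨k1, k2⟩ := band_eq_true.1 k1
  have h2 := hy.trans (hy.evL J1)
  rw [eq_of_eqL k1] at h2
  have h3 := h2.trans (hy.evL J2)
  rw [eq_of_eqL k2] at h3
  exact exists_val h hy h3 (Commute.mul_right rfl (Commute.mul_right rfl rfl)) ws good k3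

/-- The letters of the centraliser of `t` and `u`. -/
def csY : List ℕ := [kE, kT, kU, kW, kW1, kW2, kM]

theorem valsY : Vals csY := Vals.of_sub (by decide +kernel)

/-- The involution `r` and its relation with the element of order three `p`. -/
structure RD (ι : AM →* G) (i : ℕ) (k : List ℕ) (r : G) : Prop where
  rr : r * r = 1
  act : Acts ι r csN (evL csN (imN i))
  cube : r * ι (el kP) * (r * ι (el kP) * (r * ι (el kP))) = ι (el (evC csY k))

theorem exists_RD [Finite G] (h : Emb ι (el kE)) (hm : ¬ ID ι kM)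
    (hO : ι (el kE) ∈ pResidual 2 G) :
    ∃ r, RD ι 0 [] r ∨ RD ι 0 [1, 3] r ∨ RD ι 1 [7] r ∨ RD ι 1 [1, 3, 7] r := by
  obtain ⟨g, hg⟩ := exists_swap h hm hO
  obtain ⟨g, i, hi, hg⟩ := exists_four h hg
  have key : ∀ {g i} (J), Acts ι g csN (evL csN (imN i)) → eqL (evL csY J) (evL (evL csN (imN i))
      [[1], [3], [2, 3], [5], [6], [4], [7]]) = true → Acts ι (g * ι (el kP)) csY (evL csY J) :=
    fun J hg e => hg.right vP valsY _ (band_eq_true.2 ⟨by decide +kernel, e⟩)
  interval_cases i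
  · obtain ⟨r, h1, h2⟩ := exists_inv h (by decide) hg
    obtain ⟨w, hw, e⟩ := exists_cube h
      (key [[1, 2], [3], [2, 3], [5], [6], [4], [7]] h2 (by decide +kernel))
      [[1, 2, 3], [2, 3], [2], [6], [4], [5], [7]] [[1], [2], [3], [4], [5], [6], [7]]
      [[], [1], [2], [1, 2], [3], [1, 3], [2, 3], [1, 2, 3]] [[], [1, 3]] (by decide +kernel)
    simp only [List.mem_cons, List.not_mem_nil, or_false] at hw
    rcases hw with rfl | rfl
    exacts [⟨r, Or.inl ⟨h1, h2, e⟩⟩, ⟨r, Or.inr (Or.inl ⟨h1, h2, e⟩)⟩]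
  · obtain ⟨r, h1, h2⟩ := exists_inv h (by decide) hg
    obtain ⟨w, hw, e⟩ := exists_cube h
      (key [[1, 2], [3], [2, 3], [2, 5], [2, 6], [4], [7]] h2 (by decide +kernel))
      [[1, 2, 3], [2, 3], [2], [2, 3, 6], [3, 4], [2, 5], [7]]
      [[1], [2], [3], [2, 4], [3, 5], [2, 3, 6], [7]]
      [[7], [1, 7], [2, 7], [1, 2, 7], [3, 7], [1, 3, 7], [2, 3, 7], [1, 2, 3, 7]]
      [[7], [1, 3, 7]] (by decide +kernel)
    simp only [List.mem_cons, List.not_mem_nil, or_false] at hw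
    rcases hw with rfl | rfl
    exacts [⟨r, Or.inr (Or.inr (Or.inl ⟨h1, h2, e⟩))⟩, ⟨r, Or.inr (Or.inr (Or.inr ⟨h1, h2, e⟩))⟩]
  · obtain ⟨w, hw, -⟩ := exists_cube h
      (key [[1, 2], [3], [2, 3], [2, 3, 5], [6], [4], [2, 3, 7]] hg (by decide +kernel))
      [[1, 2, 3], [2, 3], [2], [2, 6], [4], [2, 3, 5], [3, 7]]
      [[1], [2], [3], [3, 4], [2, 3, 5], [2, 6], [7]] [] [] (by decide +kernel)
    simp at hw
  · obtain ⟨w, hw, -⟩ := exists_cube h
      (key [[1, 2], [3], [2, 3], [3, 5], [2, 6], [4], [2, 3, 7]] hg (by decide +kernel))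
      [[1, 2, 3], [2, 3], [2], [3, 6], [3, 4], [3, 5], [3, 7]]
      [[1], [2], [3], [2, 3, 4], [2, 5], [3, 6], [7]] [] [] (by decide +kernel)
    simp at hw

end Cfsg.Agent.H55.TM
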