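import Mathlib
import Cfsg.Agent.H55.TM6
import Cfsg.Agent.H55.TMEC

/-!
# The case that `m` is not conjugate to `e`: the normaliser of the group of order sixteen
-/

set_option autoImplicit false
set_option maxRecDepth 200000

namespace Cfsg.Agent.H55.TM

open Cfsg.Agent.H43 Cfsg.Agent.H89.Rec Equiv Subgroup
open Cfsg.Agent.H44 (ev Sat gen ev_nil ev_cons ev_append)

variable {G : Type*} [Group G] {ι : AM →* G} {g : G}

theorem conj_sq' {t : G} (h : t * t = 1) (g : G) : g * (t * g⁻¹) * (g * (t * g⁻¹)) = 1 := by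
  calc g * (t * g⁻¹) * (g * (t * g⁻¹)) = g * (t * t) * g⁻¹ := by group
    _ = 1 := by rw [h]; group

theorem map_sq' (ι : AM →* G) {u : AM} (hu : u * u = 1) : ι u * ι u = 1 := by
  rw [← map_mul, hu, map_one]

theorem tri_rel {p r K τ : G} (pp : p * (p * p) = 1) (rr : r * r = 1)
    (c : r * p * (r * p * (r * p)) = K) (h1 : τ * p * τ⁻¹ = p⁻¹) (h2 : τ * r * τ⁻¹ = r) :
    p * (p * (r * p⁻¹)) * p⁻¹ = p * (r * p⁻¹) * r * K ∧
    τ * (p * (r * p⁻¹)) * τ⁻¹ = p * (r * p⁻¹) * r * K ∧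
    p * (r * p⁻¹) * r * K * (p * (r * p⁻¹) * r * K) = 1 := by
  have e1 : p * p = p⁻¹ := eq_inv_of_mul_eq_one_right pp
  have e2 : p * (r * p⁻¹) * r * K = p⁻¹ * r * p := by
    calc p * (r * p⁻¹) * r * K = p * r * p⁻¹ * (r * r) * p * r * p * r * p := by rw [← c]; group
      _ = p * (r * r) * p * r * p := by
        rw [rr, mul_one (p * r * p⁻¹), inv_mul_cancel_right, ← rr]; simp only [mul_assoc]
      _ = p⁻¹ * r * p := by rw [rr, mul_one, e1]
  rw [e2]
  refine ⟨?_, ?_, ?_⟩
  · calc p * (p * (r * p⁻¹)) * p⁻¹ = p * p * r * (p * p)⁻¹ := by group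
      _ = p⁻¹ * r * p := by rw [e1, inv_inv]
  · calc τ * (p * (r * p⁻¹)) * τ⁻¹ = τ * p * τ⁻¹ * (τ * r * τ⁻¹) * (τ * p * τ⁻¹)⁻¹ := by group
      _ = p⁻¹ * r * p := by rw [h1, h2, inv_inv]
  · calc p⁻¹ * r * p * (p⁻¹ * r * p) = p⁻¹ * (r * r) * p := by group
      _ = 1 := by rw [rr]; group

theorem shift_rel {b r K τ s d : G} (dd : d * d = 1) (db : Commute d b) (dr : Commute d r)
    (dK : Commute d K) (dτ : Commute d τ) (ds : Commute d s) (bb : b * b = 1)
    (tb : τ * b * τ⁻¹ = b * r * K) (sq : b * r * K * (b * r * K) = 1) :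
    b * d * (b * d) = 1 ∧ τ * (b * d) * τ⁻¹ = b * d * r * K ∧
      b * d * r * K * (b * d * r * K) = 1 ∧
      b * d * s * (b * d * s * (b * d * s)) = b * s * (b * s * (b * s)) * d := by
  have e1 : b * d * r * K = b * r * K * d := by
    rw [mul_assoc b, mul_assoc b, mul_assoc d, (dr.mul_right dK).eq]; group
  have e2 : b * d * s = b * s * d := by rw [mul_assoc b, ds.eq]; group
  have e3 : ∀ x, Commute d x → x * d * (x * d) = x * x := fun x hx => by
    rw [hx.mul_mul_mul_comm, dd, mul_one]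
  rw [e1, e2]
  refine ⟨by rw [e3 b db, bb], ?_, by rw [e3 _ ((db.mul_right dr).mul_right dK), sq], ?_⟩
  · rw [← tb, mul_assoc (τ * b), ← dτ.inv_right.eq]; group
  · rw [e3 _ (db.mul_right ds), mul_assoc (b * s) d,
      ((db.mul_right ds).mul_right (db.mul_right ds)).eq]; group

/-- The images of the letters under `b`, as words. -/
def imB : ℕ → List (List ℕ)
  | 0 => [[1, 3], [2], [3], [4], [5], [6], [7]]
  | _ => [[1, 3], [2], [3], [3, 4], [5], [3, 6], [7]]

/-- A word in the letters of the centraliser of `t`. -/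
def sN : ℕ → List ℕ
  | 0 => [9]
  | _ => [6, 9]

/-- The relations between the involutions `r` and `b`. -/
structure ND (ι : AM →* G) (i K E d : ℕ) (r b : G) : Prop where
  rr : r * r = 1
  bb : b * b = 1
  ra : Acts ι r csN (evL csN (imN i))
  ba : Acts ι b csY (evL csY (imB i))
  tb : ι (el kTau) * b * (ι (el kTau))⁻¹ = b * r * ι (el K)
  sq : b * r * ι (el K) * (b * r * ι (el K)) = 1
  cube : b * ι (el (evC csN (sN i))) * (b * ι (el (evC csN (sN i))) *
    (b * ι (el (evC csN (sN i))))) = ι (el E)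
  pr : ι (el kP) * r * (ι (el kP))⁻¹ = b * ι (el d)
  pb : ι (el kP) * b * (ι (el kP))⁻¹ = b * ι (el d) * r * ι (el K) * ι (el (cj kP d))

theorem ND.shift {i K E : ℕ} {r b : G} (h : ND ι i K E c1 r b) (hi : i < 2) (hK : Val K)
    (hE : Val E) (e : cmB kT K = true) : ND ι i K (mu E kT) kT r (b * ι (el kT)) := by
  have tt : ι (el kT) * ι (el kT) = 1 := map_sq' ι (el_mul_one vT vT (by decide +kernel))
  obtain ⟨h1, h2, h3, h4⟩ := shift_rel (s := ι (el (evC csN (sN i)))) tt
    ((h.ba 2).cast (b' := kT) (by interval_cases i <;> decide +kernel)).2.2.commute.symm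
    ((h.ra 2).cast (b' := kT) (by interval_cases i <;> decide +kernel)).2.2.commute.symm
    ((el_comm vT hK e).map ι) ((el_comm vT vTau (by decide +kernel)).map ι)
    ((el_comm vT (valsN.evC _) (by interval_cases i <;> decide +kernel)).map ι) h.bb h.tb h.sq
  have h5 := h.pr
  have h6 := h.pb
  rw [show cj kP c1 = c1 by decide +kernel] at h6
  rw [el_one, map_one, mul_one] at h5 h6
  refine ⟨h.rr, h1, h.ra, h.ba.right vT valsY [[1], [2], [3], [4], [5], [6], [7]]
    (by interval_cases i <;> decide +kernel), h2, h3, ?_, ?_, ?_⟩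
  · rw [h4, h.cube, hE.el_mu vT, map_mul]
  · rw [h5, mul_assoc, tt, mul_one]
  · rw [vP.el_cj vT, map_mul, map_mul, map_inv, mul_assoc b, tt, ← h6]; group

theorem RD.exists_ND (h : Emb ι (el kE)) {i : ℕ} {k : List ℕ} {r : G} (hr : RD ι i k r)
    (hi : i < 2) (e : cmB kT (evC csY k) = true) :
    ∃ b, ∃ E ∈ [c1, mu kE kW], ∃ d ∈ [c1, kT], ND ι i (evC csY k) E d r b := by
  have hp : Acts ι (ι (el kP)) csY (evL csY [[1], [3], [2, 3], [5], [6], [4], [7]]) :=
    Acts.self vP valsY (by decide +kernel)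
  have hp' : Acts ι (ι (el kP))⁻¹ csY (evL csY [[1], [2, 3], [2], [6], [4], [5], [7]]) :=
    hp.symm.sub [[1], [2, 3], [2], [6], [4], [5], [7]] (by decide +kernel)
  have hb : Acts ι (ι (el kP) * (r * (ι (el kP))⁻¹)) csY (evL csY (imB i)) := by
    interval_cases i
    · exact (hp'.step (J := evL csY [[1, 2], [2, 3], [2], [6], [4], [5], [7]]) hr.act
        [[1], [2, 3], [2], [6], [4], [5], [7]] (by decide +kernel)).step hp
        [[1, 2], [2, 3], [2], [6], [4], [5], [7]] (by decide +kernel)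
    · exact (hp'.step (J := evL csY [[1, 2], [2, 3], [2], [2, 6], [4], [2, 5], [7]]) hr.act
        [[1], [2, 3], [2], [6], [4], [5], [7]] (by decide +kernel)).step hp
        [[1, 2], [2, 3], [2], [2, 6], [4], [2, 5], [7]] (by decide +kernel)
  have e1 : el kP * (el kP * el kP) = 1 := by
    rw [el_mul vP vP (c := kPi) (by decide +kernel), el_mul_one vP vPi (by decide +kernel)]
  have e2 : el kTau * el kP * (el kTau)⁻¹ = (el kP)⁻¹ := by
    rw [el_conj vTau vP (b := iv kP) (by decide +kernel), vP.el_iv]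
  have e3 : Commute (ι (el kTau)) r :=
    ((hr.act 8).cast (b' := kTau) (by interval_cases i <;> decide +kernel)).2.2.commute.symm
  obtain ⟨h1, h2, h3⟩ := tri_rel (τ := ι (el kTau)) (by rw [← map_mul, ← map_mul, e1, map_one])
    hr.rr hr.cube (by rw [← map_inv, ← map_mul, ← map_mul, e2, map_inv])
    (mul_inv_eq_iff_eq_mul.2 e3)
  have v4 : Vals [kE, kT, kU, kW] := Vals.of_sub (by decide +kernel)
  have hy : Acts ι (ι (el kP) * (r * (ι (el kP))⁻¹) * ι (el (evC csN (sN i)))) [kE, kT, kU, kW]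
      (evL [kE, kT, kU, kW] [[1, 3], [2], [4], [3, 4]]) := by
    interval_cases i
    · exact hb.right (valsN.evC _) v4 [[1], [2], [4], [3, 4]] (by decide +kernel)
    · exact hb.right (valsN.evC _) v4 [[1], [2], [3, 4], [4]] (by decide +kernel)
  obtain ⟨w, hw, h4⟩ := exists_cube h hy [[1, 3, 4], [2], [3, 4], [3]] [[1], [2], [3], [4]]
    [[], [1], [2], [3], [4], [1, 2], [1, 3], [1, 4], [2, 3], [2, 4], [3, 4], [1, 2, 3], [1, 2, 4],
      [1, 3, 4], [2, 3, 4], [1, 2, 3, 4]] [[], [2], [1, 4], [1, 2, 4]] (by decide +kernel)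
  have h5 : ND ι i (evC csY k) (evC [kE, kT, kU, kW] w) c1 r (ι (el kP) * (r * (ι (el kP))⁻¹)) := by
    refine ⟨hr.rr, ?_, hr.act, hb, h2, h3, h4, ?_, ?_⟩
    · exact conj_sq' hr.rr _
    · rw [el_one, map_one, mul_one, mul_assoc]
    · rw [show cj kP c1 = c1 by decide +kernel, el_one, map_one, mul_one, mul_one, h1]
  have h6 := h5.shift hi (valsY.evC k) (v4.evC w) e
  simp only [List.mem_cons, List.not_mem_nil, or_false] at hw
  rcases hw with rfl | rfl | rfl | rfl
  · exact ⟨_, c1, by simp, c1, by simp, h5⟩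
  · exact ⟨_, c1, by simp, kT, by simp,
      show mu (evC [kE, kT, kU, kW] [2]) kT = c1 by decide +kernel ▸ h6⟩
  · exact ⟨_, mu kE kW, by simp, c1, by simp,
      show evC [kE, kT, kU, kW] [1, 4] = mu kE kW by decide +kernel ▸ h5⟩
  · exact ⟨_, mu kE kW, by simp, kT, by simp,
      show mu (evC [kE, kT, kU, kW] [1, 2, 4]) kT = mu kE kW by decide +kernel ▸ h6⟩

/-- The test behind `ND.sat`. -/
noncomputable def ndB (i K E : ℕ) (k k' ep : List ℕ) (R : List (List ℕ)) : Bool :=
  band (band (band (aB (lenL csN) k) (Nat.beq (evC csN k) K))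
    (band (band (aB (lenL csN) k') (Nat.beq (evC csN k') (iv K)))
      (band (aB (lenL csN) ep) (Nat.beq (evC csN ep) (iv E)))))
    (allL (relB csN [(11, 11, csN, evL csN (imN i)), (12, 12, csY, evL csY (imB i))]
      [[11, 11], [12, 12], [8, 12, 8] ++ (k' ++ [11, 12]), [12, 11] ++ k ++ ([12, 11] ++ k),
        12 :: sN i ++ (12 :: sN i ++ (12 :: sN i)) ++ ep]) R)

theorem ND.sat {i K E d : ℕ} {r b : G} (h : ND ι i K E d r b) (hi : i < 2) (hK : Val K)
    (hE : Val E) (k k' ep : List ℕ) {R : List (List ℕ)} (e : ndB i K E k k' ep R = true) :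
    Sat (mix ι csN [r, b]) R := by
  obtain ⟨e1, e⟩ := band_eq_true.1 e
  obtain ⟨e1, e2⟩ := band_eq_true.1 e1
  obtain ⟨e2, e3⟩ := band_eq_true.1 e2
  have g11 : mix ι csN [r, b] 11 = r := rfl
  have g12 : mix ι csN [r, b] 12 = b := rfl
  have g8 : mix ι csN [r, b] 8 = ι (el kTau) := rfl
  have ri := inv_eq_of_mul_eq_one_right h.rr
  have bi := inv_eq_of_mul_eq_one_right h.bb
  refine sat_mix valsN ?_ ?_ e
  · simp only [List.mem_cons, List.not_mem_nil, or_false, forall_eq_or_imp, forall_eq]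
    exact ⟨⟨ri.symm, h.ra⟩, bi.symm, h.ba⟩
  · have s1 := ev_mix (ι := ι) (xs := [r, b]) valsN (r := sN i)
      (by interval_cases i <;> decide +kernel)
    have tt := inv_eq_of_mul_eq_one_right
      (map_sq' ι (el_mul_one vTau vTau (by decide +kernel)))
    simp only [Sat, List.mem_cons, List.not_mem_nil, or_false, forall_eq_or_imp, forall_eq,
      ev_append, ev_cons, ev_nil, g11, g12, g8, mul_one, ev_mix' valsN _ e1, ev_mix' valsN _ e2,
      ev_mix' valsN _ e3, s1, hK.el_iv, hE.el_iv, map_inv]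
    refine ⟨h.rr, h.bb, ?_, h.sq, by rw [h.cube, mul_inv_cancel]⟩
    rw [← mul_assoc, ← mul_assoc, ← mul_assoc]
    nth_rewrite 2 [← tt]
    rw [h.tb, mul_inv_cancel_right, mul_assoc b, h.rr, mul_one, h.bb]

theorem kill_T (h : Emb ι (el kE)) {C : H44.Cert} {R : List (List ℕ)} {T : List ℕ → ℕ → ℕ}
    {xs : List G} (tab : H59.Tab C R [[5], [1, 9, 7]] T) (hs : Sat (mix ι csN xs) R)
    (e : H59.loopB C.nc T [[2]] = true) : False := by
  have h1 := tab.mem hs (H := (St 0).map ι) (by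
    simp only [List.mem_cons, List.not_mem_nil, or_false, forall_eq_or_imp, forall_eq]
    constructor <;> rw [ev_mix valsN (by decide +kernel)] <;>
      exact mem_map_of_mem ι ((el_mem_St (valsN.evC _)).2 (by decide +kernel))) e [2] (by simp)
  rw [ev_mix valsN (by decide +kernel), mem_map_inj h.inj, el_mem_St (valsN.evC _)] at h1
  exact absurd h1 (by decide +kernel)

theorem exists_ND [Finite G] (h : Emb ι (el kE)) (hm : ¬ ID ι kM)
    (hO : ι (el kE) ∈ pResidual 2 G) : ∃ r b, ∃ d ∈ [c1, kT],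
      ND ι 0 c1 c1 d r b ∨ ND ι 1 (evC csY [1, 3, 7]) c1 d r b := by
  have vEW := vE.mu vW
  obtain ⟨r, hr | hr | hr | hr⟩ := exists_RD h hm hO <;>
    obtain ⟨b, E, hE, d, hd, hb⟩ := hr.exists_ND h (by decide) (by decide +kernel) <;>
    simp only [List.mem_cons (a := E), List.not_mem_nil, or_false] at hE <;>
    rcases hE with rfl | rfl
  · exact ⟨r, b, d, hd, Or.inl hb⟩
  · exact (kill_T h (H59.Tab.of TMEC.a01.checked TMEC.a01.masks) (hb.sat (by decide)
      (valsY.evC _) vEW [] [] [4, 1] (by decide +kernel)) (by decide +kernel)).elim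
  · exact (kill_T h (H59.Tab.of TMEC.a10.checked TMEC.a10.masks) (hb.sat (by decide)
      (valsY.evC _) val_one [1, 3] [3, 1] [] (by decide +kernel)) (by decide +kernel)).elim
  · exact (kill_T h (H59.Tab.of TMEC.a11.checked TMEC.a11.masks) (hb.sat (by decide)
      (valsY.evC _) vEW [1, 3] [3, 1] [4, 1] (by decide +kernel)) (by decide +kernel)).elim
  · exact (kill_T h (H59.Tab.of TMEC.b00.checked TMEC.b00.masks) (hb.sat (by decide)
      (valsY.evC _) val_one [7] [7] [] (by decide +kernel)) (by decide +kernel)).elim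
  · exact (kill_T h (H59.Tab.of TMEC.b01.checked TMEC.b01.masks) (hb.sat (by decide)
      (valsY.evC _) vEW [7] [7] [4, 1] (by decide +kernel)) (by decide +kernel)).elim
  · exact ⟨r, b, d, hd, Or.inr hb⟩
  · exact (kill_T h (H59.Tab.of TMEC.b11.checked TMEC.b11.masks) (hb.sat (by decide)
      (valsY.evC _) vEW [1, 3, 7] [7, 3, 1] [4, 1] (by decide +kernel)) (by decide +kernel)).elim

end Cfsg.Agent.H55.TM
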