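import Mathlib
import Cfsg.Agent.H55.TM7
import Cfsg.Agent.H58.Conj

/-!
# Orbits of words in a coset table, and two counting lemmas
-/

set_option autoImplicit false
set_option maxRecDepth 200000

namespace Cfsg.Agent.H55.TM

open Cfsg.Agent.H43 Cfsg.Agent.H89.Rec Equiv Subgroup
open Cfsg.Agent.H44 (ev Sat gen ev_nil ev_cons ev_append invW Cert)
open Cfsg.Agent.H59 (Tab Reg okL okL_iff)

variable {G : Type*} [Group G]

/-! ### Counting -/

theorem card_orb [Finite G] {K C : Subgroup G} {z : G} (h1 : C ≤ K) (h2 : C ≤ centralizer {z}) :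
    ∃ m, 0 < m ∧ Nat.card K = Nat.card C * m * {y | ∃ k ∈ K, k * z * k⁻¹ = y}.ncard := by
  letI : MulAction K G := MulAction.compHom G (MulAut.conj.comp K.subtype)
  have e1 : MulAction.orbit K z = {y | ∃ k ∈ K, k * z * k⁻¹ = y} := by
    ext y
    exact ⟨fun ⟨k, e⟩ => ⟨k, k.2, e⟩, fun ⟨k, hk, e⟩ => ⟨⟨k, hk⟩, e⟩⟩
  have e2 : C.subgroupOf K ≤ MulAction.stabilizer K z := fun k hk =>
    mul_inv_eq_iff_eq_mul.2 (mem_centralizer_singleton_iff.1 (h2 hk))
  obtain ⟨m, hm⟩ := card_dvd_of_le e2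
  rw [Nat.card_congr (subgroupOfEquivOfLe h1).toEquiv] at hm
  refine ⟨m, Nat.pos_of_ne_zero fun e => ?_, ?_⟩
  · rw [e, mul_zero] at hm
    exact Nat.card_pos.ne' hm
  · rw [← hm, ← e1, ← MulAction.index_stabilizer, card_mul_index]

theorem fix_mod [Finite G] {e : G} (he : e * e = 1) (hO : e ∈ pResidual 2 G) (X : Subgroup G) :
    (MulAction.fixedBy (G ⧸ X) e).ncard % 4 = X.index % 4 := by
  classical
  letI := Fintype.ofFinite (G ⧸ X)
  let φ := MulAction.toPermHom G (G ⧸ X)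
  have h1 : pResidual 2 G ≤ (Perm.sign.comp φ).ker := (Subgroup.closure_le _).2 fun y hy => by
    have h2 := pow_orderOf_eq_one y
    have h3 : (Perm.sign.comp φ) y ^ orderOf y = 1 := by rw [← map_pow, h2, map_one]
    rcases Int.units_eq_one_or ((Perm.sign.comp φ) y) with h4 | h4
    · exact h4
    · rw [h4, (Nat.coprime_two_right.1 hy).neg_one_pow] at h3
      exact absurd h3 (by decide)
  have h2 : φ e ^ 2 = 1 := by rw [← map_pow, pow_two, he, map_one]
  have h3 : Perm.sign (φ e) = 1 := h1 hO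
  rw [Perm.sign_of_pow_two_eq_one h2] at h3
  have h4 := (neg_one_pow_eq_one_iff_even (by decide)).1 h3
  have h5 := Perm.card_compl_support_modEq (p := 2) (n := 1) h2
  have h6 : (MulAction.fixedBy (G ⧸ X) e).ncard = Fintype.card (Function.fixedPoints (φ e)) := by
    rw [← Nat.card_eq_fintype_card, Nat.card_coe_set_eq]; rfl
  have h7 : Fintype.card (Function.fixedPoints (φ e)) = (φ e).supportᶜ.card := by
    rw [← Fintype.card_coe]
    exact Fintype.card_congr (Equiv.subtypeEquivRight fun x => by simp [Function.IsFixedPt])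
  have h8 : (φ e).supportᶜ.card ≤ Fintype.card (G ⧸ X) := Finset.card_le_univ _
  rw [h6, h7, index, Nat.card_eq_fintype_card]
  rw [h7] at h4
  unfold Nat.ModEq at h5
  obtain ⟨k, hk⟩ := h4
  omega

theorem ncard_list {l : List G} (h : l.Nodup) : {x | x ∈ l}.ncard = l.length := by
  classical
  rw [← List.coe_toFinset, Set.ncard_coe_finset, List.toFinset_card_of_nodup h]

/-- The members of the list are distinct. -/
noncomputable def disB (l : List ℕ) : Bool :=
  List.rec (motive := fun _ => Bool) true (fun x r ih => band ih (imp (memL x r) false)) l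

theorem nodup_of_disB {l : List ℕ} (h : disB l = true) : l.Nodup := by
  induction l with
  | nil => exact List.nodup_nil
  | cons x l ih =>
    obtain ⟨h1, h2⟩ := band_eq_true.1 h
    exact List.nodup_cons.2 ⟨fun e => Bool.noConfusion (imp_of h2 (memL_iff.2 e)), ih h1⟩

theorem nodup_map_of {α β γ : Type*} {f : α → β} {f' : α → γ} {l : List α} (h : (l.map f).Nodup)
    (e : ∀ a ∈ l, ∀ b ∈ l, f' a = f' b → f a = f b) : (l.map f').Nodup := by
  rw [List.Nodup, List.pairwise_map] at h ⊢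
  exact h.imp_of_mem fun ha hb h1 h2 => h1 (e _ ha _ hb h2)

/-! ### Words -/

variable {C : Cert} {R : List (List ℕ)} {T : List ℕ → ℕ → ℕ} {g : ℕ → G}

/-- The words lead to the same node. -/
noncomputable def eqW (nc : ℕ) (T : List ℕ → ℕ → ℕ) (l l' : List ℕ) : Bool :=
  band (Nat.beq (T l 0) (T l' 0)) (band (okL nc l) (okL nc l'))

theorem ev_of_eqW (tab : Tab C R [] T) (hs : Sat g R) {l l' : List ℕ}
    (e : eqW C.nc T l l' = true) : ev g l = ev g l' := by
  obtain ⟨c, hc0, hp⟩ := tab.table hs (ω₀ := (1 : G)) (by simp)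
  obtain ⟨e1, e2⟩ := band_eq_true.1 e
  have h1 := (hp l (band_eq_true.1 e2).1 0 tab.chk.n_pos).2
  rw [Nat.eq_of_beq_eq_true e1, ← (hp l' (band_eq_true.1 e2).2 0 tab.chk.n_pos).2, hc0] at h1
  simpa using h1

/-- The conjugate of a word. -/
def cjW (iv : ℕ → ℕ) (u y : List ℕ) : List ℕ := u ++ (y ++ invW iv u)

theorem ev_cjW (tab : Tab C R [] T) (hs : Sat g R) {u : List ℕ} (hu : okL C.nc u = true)
    (y : List ℕ) : ev g u * ev g y * (ev g u)⁻¹ = ev g (cjW C.iv u y) := by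
  rw [cjW, ev_append, ev_append, mul_assoc, H44.ev_invW fun x hx => ?_]
  have h1 := okL_iff.1 hu x hx
  have h3 := tab.chk.iv_col h1.1 h1.2
  have h4 := tab.chk.iv_ext hs x
  rwa [H44.ext_col g [] h3.1 h3.2, H44.ext_col g [] h1.1 h1.2] at h4

theorem ev_mem_of_okL {n : ℕ} {u : List ℕ} (hu : okL n u = true) : ev g u ∈ gen g n :=
  H44.ev_mem fun x hx => H44.mem_gen g (okL_iff.1 hu x hx).1 (okL_iff.1 hu x hx).2

/-- Substitute a word for each letter. -/
noncomputable def fl (sb : List (List ℕ)) (y : List ℕ) : List ℕ :=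
  List.rec (motive := fun _ => List ℕ) [] (fun x _ ih => H44.nth [] sb x ++ ih) y

/-- Conjugation by `k` is described by the map `f` on words. -/
def Mv (g : ℕ → G) (ok : List ℕ → Bool) (k : G) (f : List ℕ → List ℕ) : Prop :=
  ∀ y, ok y = true → k * ev g y * k⁻¹ = ev g (f y)

theorem Mv.fl {k : G} {sb : List (List ℕ)} {p : ℕ → Bool}
    (h : ∀ x, p x = true → k * g x * k⁻¹ = ev g (H44.nth [] sb x)) : Mv g (allL p) k (fl sb) := by
  intro y hy
  induction y with
  | nil => simp [ev_nil, TM.fl]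
  | cons x y ih =>
    rw [allL_iff] at hy
    change _ = ev g (_ ++ TM.fl sb y)
    rw [ev_append, ev_cons, ← h x (hy x List.mem_cons_self),
      ← ih (allL_iff.2 fun z hz => hy z (List.mem_cons_of_mem _ hz))]
    group

theorem mv_words (tab : Tab C R [] T) (hs : Sat g R) {K : Subgroup G} {ok : List ℕ → Bool}
    {us : List (List ℕ)} (h1 : allL (okL C.nc) us = true) (h2 : ∀ u ∈ us, ev g u ∈ K) :
    ∀ f ∈ us.map (cjW C.iv), ∃ k ∈ K, Mv g ok k f := by
  intro f hf
  obtain ⟨u, hu, rfl⟩ := List.mem_map.1 hf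
  exact ⟨_, h2 u hu, fun y _ => ev_cjW tab hs (allL_iff.1 h1 u hu) y⟩

/-- Each word is a root or the image of a later word. -/
noncomputable def treeB (nc : ℕ) (T : List ℕ → ℕ → ℕ) (ok : List ℕ → Bool)
    (fs : List (List ℕ → List ℕ)) (roots L : List (List ℕ)) : Bool :=
  List.rec (motive := fun _ => Bool) true (fun y r ih => band ih (bor (anyL (eqL y) roots)
    (anyL (fun z => band (ok z) (anyL (fun f => eqW nc T (f z) y) fs)) r))) L

theorem tree (tab : Tab C R [] T) (hs : Sat g R) {K : Subgroup G} {Q : G → Prop}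
    (hQ : ∀ k ∈ K, ∀ x, Q x → Q (k * x * k⁻¹)) {ok : List ℕ → Bool}
    {fs : List (List ℕ → List ℕ)} (hm : ∀ f ∈ fs, ∃ k ∈ K, Mv g ok k f) {roots : List (List ℕ)}
    (hr : ∀ y ∈ roots, Q (ev g y)) {L : List (List ℕ)} (e : treeB C.nc T ok fs roots L = true) :
    ∀ y ∈ L, Q (ev g y) := by
  induction L with
  | nil => simp
  | cons y L ih =>
    obtain ⟨e1, e2⟩ := band_eq_true.1 e
    refine List.forall_mem_cons.2 ⟨?_, ih e1⟩
    rcases bor_iff.1 e2 with e2 | e2
    · obtain ⟨z, hz, e2⟩ := anyL_iff.1 e2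
      rw [eq_of_eqL e2]; exact hr z hz
    · obtain ⟨z, hz, e2⟩ := anyL_iff.1 e2
      obtain ⟨e2, e3⟩ := band_eq_true.1 e2
      obtain ⟨f, hf, e3⟩ := anyL_iff.1 e3
      obtain ⟨k, hk, h⟩ := hm f hf
      rw [← ev_of_eqW tab hs e3, ← h z e2]
      exact hQ k hk _ (ih e1 z hz)

/-- The list is closed under `f`. -/
noncomputable def clsB (nc : ℕ) (T : List ℕ → ℕ → ℕ) (ok : List ℕ → Bool) (L : List (List ℕ))
    (f : List ℕ → List ℕ) : Bool :=
  allL (fun y => band (ok y) (anyL (eqW nc T (f y)) L)) L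

theorem Mv.mem_norm (tab : Tab C R [] T) (hs : Sat g R) {ok : List ℕ → Bool} {k : G}
    {f : List ℕ → List ℕ} (h : Mv g ok k f) {L : List (List ℕ)} (e : clsB C.nc T ok L f = true) :
    k ∈ normalizer {x | x ∈ L.map (ev g)} := by
  have : Finite {x | x ∈ L.map (ev g)} := (List.finite_toSet _).to_subtype
  refine mem_normalizer_fintype fun x hx => ?_
  obtain ⟨y, hy, rfl⟩ := List.mem_map.1 hx
  obtain ⟨e1, e2⟩ := band_eq_true.1 (allL_iff.1 e y hy)
  obtain ⟨z, hz, e2⟩ := anyL_iff.1 e2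
  rw [h y e1, ev_of_eqW tab hs e2]
  exact List.mem_map_of_mem hz

/-- The conjugates described by a list of pairs. -/
noncomputable def cjP (iv : ℕ → ℕ) (ps : List (List ℕ × List ℕ)) : List (List ℕ) :=
  ps.map fun s => cjW iv s.1 s.2

theorem pairs (tab : Tab C R [] T) (hs : Sat g R) {Q : G → Prop}
    (hQ : ∀ k x, Q x → Q (k * x * k⁻¹)) {roots : List (List ℕ)} (hr : ∀ y ∈ roots, Q (ev g y))
    {ps : List (List ℕ × List ℕ)}
    (e : allL (fun s => band (okL C.nc s.1) (anyL (eqL s.2) roots)) ps = true) :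
    ∀ y ∈ cjP C.iv ps, Q (ev g y) := by
  intro y hy
  obtain ⟨s, hs', rfl⟩ := List.mem_map.1 hy
  obtain ⟨e1, e2⟩ := band_eq_true.1 (allL_iff.1 e s hs')
  obtain ⟨z, hz, e2⟩ := anyL_iff.1 e2
  rw [← ev_cjW tab hs e1, eq_of_eqL e2]
  exact hQ _ _ (hr z hz)

theorem nodup_words (h : Reg C R T g) {L : List (List ℕ)}
    (e : band (allL (okL C.nc) L) (disB (L.map fun l => T l 0)) = true) :
    (L.map (ev g)).Nodup := by
  obtain ⟨c, -, hp, hi, -⟩ := h.exists_pts
  obtain ⟨e1, e2⟩ := band_eq_true.1 e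
  refine nodup_map_of (nodup_of_disB e2) fun a ha b hb e => ?_
  have h1 := hp a (allL_iff.1 e1 a ha) 0 h.tab.chk.n_pos
  have h2 := hp b (allL_iff.1 e1 b hb) 0 h.tab.chk.n_pos
  exact hi _ h1.1 _ h2.1 (by rw [← h1.2, ← h2.2, e])

/-- Every node of order at most two is in the list `P`. -/
noncomputable def invB (n nc : ℕ) (T : List ℕ → ℕ → ℕ) (w : ℕ → List ℕ) (P : List ℕ) : Bool :=
  allN (fun p => band (okL nc (w p)) (band (Nat.beq (T (w p) 0) p)
    (imp (Nat.beq (T (w p) p) 0) (memL p P)))) n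

theorem exists_invol (h : Reg C R T g) (w : ℕ → List ℕ) {P : List ℕ}
    (e : invB C.n C.nc T w P = true) {L : List (List ℕ)}
    (e' : band (allL (okL C.nc) L) (eqL P (L.map fun l => T l 0)) = true) {y : G}
    (hy : y ∈ gen g C.nc) (h2 : y * y = 1) : ∃ l ∈ L, ev g l = y := by
  obtain ⟨c, hc0, hp, hi, hs⟩ := h.exists_pts
  have hn := h.tab.chk.n_pos
  obtain ⟨p, hpn, e0⟩ := hs y hy
  obtain ⟨e1, e2⟩ := band_eq_true.1 (allN_iff.1 e p hpn)
  obtain ⟨e2, e3⟩ := band_eq_true.1 e2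
  obtain ⟨e4, e5⟩ := band_eq_true.1 e'
  have h3 := (hp _ e1 0 hn).2
  rw [Nat.eq_of_beq_eq_true e2, hc0, smul_eq_mul, mul_one] at h3
  have h4 := hp _ e1 p hpn
  rw [h3, ← e0, smul_eq_mul, ← mul_inv_rev, h2, inv_one, ← hc0] at h4
  have h5 := memL_iff.1 (imp_of e3 (beq_of (hi _ hn _ h4.1 h4.2).symm))
  rw [eq_of_eqL e5] at h5
  obtain ⟨l, hl, e6⟩ := List.mem_map.1 h5
  have h6 := (hp _ (allL_iff.1 e4 l hl) 0 hn).2
  rw [e6, hc0, smul_eq_mul, mul_one, ← e0] at h6
  exact ⟨l, hl, inv_injective h6⟩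

theorem not_sq_words {ι : AM →* G} (h : Emb ι (el kE)) (tab : Tab C R [] T) (hs : Sat g R)
    {L : List (List ℕ × List ℕ × List ℕ)}
    (e : allL (fun s => band (eqW C.nc T s.1 (s.2.1 ++ s.2.1 ++ (s.2.2 ++ s.2.2)))
      (band (eqW C.nc T (s.2.1 ++ s.1) (s.1 ++ s.2.1)) (eqW C.nc T (s.2.2 ++ s.1) (s.1 ++ s.2.2))))
      L = true) : ∀ y ∈ L.map Prod.fst, ¬ ∃ k, k * ev g y * k⁻¹ = ι (el kE) := by
  rintro y hy ⟨k, hk⟩
  obtain ⟨s, hs', rfl⟩ := List.mem_map.1 hy
  obtain ⟨e1, e2⟩ := band_eq_true.1 (allL_iff.1 e s hs')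
  obtain ⟨e2, e3⟩ := band_eq_true.1 e2
  have h1 := ev_of_eqW tab hs e1
  have h2 := ev_of_eqW tab hs e2
  have h3 := ev_of_eqW tab hs e3
  simp only [ev_append] at h1 h2 h3
  exact not_sq h hk h2 h3 h1

/-! ### The action of `p` -/

/-- The letters of the group normalised by `p`. -/
noncomputable def yB (x : ℕ) : Bool := bor (Nat.ble x 7) (bor (Nat.beq x 11) (Nat.beq x 12))

/-- The action of `p` on the letters. -/
def sbP (k d d' : List ℕ) : List (List ℕ) :=
  [[], [1], [3], [2, 3], [5], [6], [4], [7], [], [], [], 12 :: d, 12 :: d ++ (11 :: k ++ d')]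

theorem ND.mv {ι : AM →* G} {i K E d : ℕ} {r b : G} (h : ND ι i K E d r b) (k w w' : List ℕ)
    (e : band (band (aB (lenL csN) k) (Nat.beq (evC csN k) K))
      (band (band (aB (lenL csN) w) (Nat.beq (evC csN w) d))
      (band (aB (lenL csN) w') (Nat.beq (evC csN w') (cj kP d)))) = true) :
    Mv (mix ι csN [r, b]) (allL yB) (ι (el kP)) (fl (sbP k w w')) := by
  obtain ⟨e1, e2⟩ := band_eq_true.1 e
  obtain ⟨e2, e3⟩ := band_eq_true.1 e2
  have key : ∀ x ≤ 7, ∀ l, band (aB (lenL csN) l) (Nat.beq (evC csN l) (cj kP (lk csN x))) = true →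
      ι (el kP) * mix ι csN [r, b] x * (ι (el kP))⁻¹ = ev (mix ι csN [r, b]) l := fun x hx l e => by
    rw [ev_mix' valsN l e, vP.el_cj (valsN.lk x), map_mul, map_mul, map_inv, mix,
      if_pos (hx.trans (by decide))]
  refine Mv.fl fun x hx => ?_
  rcases bor_iff.1 hx with hx | hx
  · have hx := Nat.le_of_ble_eq_true hx
    rw [show H44.nth [] (sbP k w w') x = H44.nth [] (sbP [] [] []) x by interval_cases x <;> rfl]
    refine key x hx _ ?_
    interval_cases x <;> decide +kernel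
  rcases bor_iff.1 hx with hx | hx <;> obtain rfl := Nat.eq_of_beq_eq_true hx
  · change _ = ev _ (12 :: w)
    rw [ev_cons, ev_mix' valsN w e2]; exact h.pr
  · change _ = ev _ (12 :: w ++ (11 :: k ++ w'))
    rw [ev_append, ev_append, ev_cons, ev_cons, ev_mix' valsN w e2, ev_mix' valsN k e1,
      ev_mix' valsN w' e3, ← mul_assoc, ← mul_assoc]
    exact h.pb

end Cfsg.Agent.H55.TM
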