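import Mathlib
import Cfsg.Agent.H55.TM8
import Cfsg.Agent.H55.TMEI
import Cfsg.Agent.H55.TMEJ

/-!
# The case that `m` is not conjugate to `e` does not occur
-/

set_option autoImplicit false
set_option maxRecDepth 200000

namespace Cfsg.Agent.H55.TM

open Cfsg.Agent.H43 Cfsg.Agent.H89.Rec Equiv Subgroup
open Cfsg.Agent.H44 (ev Sat gen ev_nil ev_cons ev_append invW Cert)
open Cfsg.Agent.H59 (Tab Reg okL okL_iff)

variable {G : Type*} [Group G] {ι : AM →* G}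

theorem conj_step {K : Subgroup G} {z : G} : ∀ k ∈ K, ∀ x, (∃ j ∈ K, j * z * j⁻¹ = x) →
    ∃ j ∈ K, j * z * j⁻¹ = k * x * k⁻¹ := by
  rintro k hk _ ⟨j, hj, rfl⟩
  exact ⟨k * j, mul_mem hk hj, by group⟩

theorem root_e {K : Subgroup G} {xs : List G} : ∀ y ∈ [[1]], ∃ j ∈ K,
    j * ι (el kE) * j⁻¹ = ev (mix ι csN xs) y := by
  simp only [List.mem_singleton, forall_eq]
  exact ⟨1, one_mem _, by rw [H44.ev_single, one_mul, inv_one, mul_one]; rfl⟩

theorem ID.of_ev {xs : List G} {k : G} (h : k * ι (el kE) * k⁻¹ = ev (mix ι csN xs) [7]) :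
    ID ι kM := by
  rw [H44.ev_single] at h
  exact ⟨k⁻¹, vM, vE, Cj.symm h⟩

theorem beta {d : ℕ} {r b : G} (hd : d ∈ [c1, kT])
    (h : ND ι 1 (evC csY [1, 3, 7]) c1 d r b) : ID ι kM := by
  have tab := Tab.of TMEJ.checked TMEJ.masks
  have hs : Sat (mix ι csN [r, b]) TMEJ.R :=
    h.sat (by decide) (valsY.evC _) val_one [1, 3, 7] [7, 3, 1] [] (by decide +kernel)
  have hw := mv_words tab hs (K := ⊤) (ok := allL yB) (us := [[9, 12, 6, 10], [4], [5], [6], [7], [8]])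
    (by decide +kernel) fun _ _ => mem_top _
  simp only [List.mem_cons, List.not_mem_nil, or_false] at hd
  rcases hd with rfl | rfl
  · obtain ⟨k, -, e⟩ := tree tab hs conj_step (List.forall_mem_cons.2
      ⟨⟨_, mem_top _, h.mv [1, 3, 7] [] [] (by decide +kernel)⟩, hw⟩) root_e
      (L := [[7], [1, 5, 11, 6], [6, 11, 12], [4, 6, 11, 12], [1, 12, 4], [1, 6], [1, 5], [1, 4],
        [1]]) (by decide +kernel) [7] List.mem_cons_self
    exact ID.of_ev e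
  · obtain ⟨k, -, e⟩ := tree tab hs conj_step (List.forall_mem_cons.2
      ⟨⟨_, mem_top _, h.mv [1, 3, 7] [2] [3] (by decide +kernel)⟩, hw⟩) root_e
      (L := [[7], [2, 3, 7], [1, 4, 7, 11], [6, 12, 11], [4, 6, 12, 11], [1, 12, 4], [1, 6], [1, 5],
        [1, 4], [1]]) (by decide +kernel) [7] List.mem_cons_self
    exact ID.of_ev e

/-- The conjugates of `e` in the group of order `3072`. -/
def PD : List (List ℕ × List ℕ) := [([], [1]), ([11], [1]), ([12], [1]), ([12, 11], [1]), ([9,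
  12], [1]), ([10, 12], [1]), ([9, 12, 11], [1]), ([10, 12, 11], [1]), ([], [1, 5]), ([4], [1,
  5]), ([6], [1, 5]), ([7], [1, 5]), ([8], [1, 5]), ([9], [1, 5]), ([10], [1, 5]), ([8, 4], [1,
  5]), ([9, 4], [1, 5]), ([10, 4], [1, 5]), ([8, 6], [1, 5]), ([9, 6], [1, 5]), ([10, 6], [1, 5]),
  ([8, 7], [1, 5]), ([9, 7], [1, 5]), ([10, 7], [1, 5]), ([9, 8], [1, 5]), ([10, 8], [1, 5]), ([5,
  9], [1, 5]), ([7, 9], [1, 5]), ([12, 9], [1, 5]), ([8, 10], [1, 5]), ([12, 10], [1, 5]), ([9, 8,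
  4], [1, 5]), ([10, 8, 4], [1, 5]), ([7, 9, 4], [1, 5]), ([12, 9, 4], [1, 5]), ([12, 10, 4], [1,
  5]), ([12, 9, 6], [1, 5]), ([12, 10, 6], [1, 5]), ([12, 9, 7], [1, 5]), ([12, 10, 7], [1, 5]),
  ([12, 9, 8], [1, 5]), ([12, 10, 8], [1, 5]), ([12, 5, 9], [1, 5]), ([12, 7, 9], [1, 5]), ([10,
  12, 9], [1, 5]), ([12, 8, 10], [1, 5]), ([8, 12, 10], [1, 5]), ([9, 12, 10], [1, 5]), ([12, 9,
  8, 4], [1, 5]), ([12, 7, 9, 4], [1, 5]), ([10, 12, 9, 4], [1, 5]), ([9, 12, 10, 4], [1, 5]),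
  ([10, 12, 9, 8], [1, 5]), ([9, 12, 10, 8], [1, 5]), ([9, 12, 5, 9], [1, 5]), ([8, 10, 12, 9],
  [1, 5]), ([], [1, 7]), ([4], [1, 7]), ([5], [1, 7]), ([6], [1, 7]), ([9], [1, 7]), ([10], [1,
  7]), ([9, 4], [1, 7]), ([10, 4], [1, 7]), ([9, 5], [1, 7]), ([10, 5], [1, 7]), ([9, 6], [1, 7]),
  ([10, 6], [1, 7]), ([12, 9], [1, 7]), ([12, 10], [1, 7]), ([12, 9, 4], [1, 7]), ([12, 10, 4],
  [1, 7]), ([12, 9, 5], [1, 7]), ([12, 10, 5], [1, 7]), ([12, 9, 6], [1, 7]), ([12, 10, 6], [1,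
  7]), ([10, 12, 9], [1, 7]), ([9, 12, 10], [1, 7]), ([10, 12, 9, 4], [1, 7]), ([9, 12, 10, 4],
  [1, 7])]

/-- The other elements of order at most two. -/
def PN : List (List ℕ × List ℕ) := [([], []), ([], [2]), ([], [3]), ([8], [3]), ([9], [3]), ([10],
  [3]), ([9, 8], [3]), ([10, 8], [3]), ([], [5]), ([4], [5]), ([6], [5]), ([7], [5]), ([8], [5]),
  ([9], [5]), ([10], [5]), ([8, 4], [5]), ([9, 4], [5]), ([10, 4], [5]), ([8, 6], [5]), ([9, 6],
  [5]), ([10, 6], [5]), ([8, 7], [5]), ([9, 7], [5]), ([10, 7], [5]), ([9, 8], [5]), ([10, 8],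
  [5]), ([5, 9], [5]), ([7, 9], [5]), ([12, 9], [5]), ([8, 10], [5]), ([12, 10], [5]), ([9, 8, 4],
  [5]), ([10, 8, 4], [5]), ([7, 9, 4], [5]), ([12, 9, 4], [5]), ([12, 10, 4], [5]), ([12, 9, 6],
  [5]), ([12, 10, 6], [5]), ([12, 9, 7], [5]), ([12, 10, 7], [5]), ([12, 9, 8], [5]), ([12, 10,
  8], [5]), ([12, 5, 9], [5]), ([12, 7, 9], [5]), ([10, 12, 9], [5]), ([12, 8, 10], [5]), ([12, 9,
  8, 4], [5]), ([12, 10, 8, 4], [5]), ([12, 7, 9, 4], [5]), ([10, 12, 9, 4], [5]), ([10, 12, 9,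
  6], [5]), ([10, 12, 9, 7], [5]), ([10, 12, 9, 8], [5]), ([9, 12, 5, 9], [5]), ([10, 12, 7, 9],
  [5]), ([10, 12, 9, 8, 4], [5]), ([], [7]), ([4], [7]), ([5], [7]), ([6], [7]), ([9], [7]),
  ([10], [7]), ([9, 4], [7]), ([10, 4], [7]), ([9, 5], [7]), ([10, 5], [7]), ([9, 6], [7]), ([10,
  6], [7]), ([12, 9], [7]), ([12, 10], [7]), ([12, 9, 4], [7]), ([12, 10, 4], [7]), ([12, 9, 5],
  [7]), ([12, 10, 5], [7]), ([12, 9, 6], [7]), ([12, 10, 6], [7]), ([10, 12, 9], [7]), ([10, 12,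
  9, 4], [7]), ([10, 12, 9, 5], [7]), ([10, 12, 9, 6], [7]), ([], [11]), ([1], [11]), ([], [12]),
  ([1], [12]), ([8], [12]), ([9], [12]), ([10], [12]), ([8, 1], [12]), ([9, 1], [12]), ([10, 1],
  [12]), ([9, 8], [12]), ([10, 8], [12]), ([9, 8, 1], [12]), ([10, 8, 1], [12]), ([], [2, 12]),
  ([1], [2, 12]), ([8], [2, 12]), ([9], [2, 12]), ([10], [2, 12]), ([8, 1], [2, 12]), ([9, 1], [2,
  12]), ([10, 1], [2, 12]), ([9, 8], [2, 12]), ([10, 8], [2, 12]), ([9, 8, 1], [2, 12]), ([10, 8,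
  1], [2, 12]), ([], [3, 11]), ([1], [3, 11]), ([9], [3, 11]), ([10], [3, 11]), ([9, 1], [3, 11]),
  ([10, 1], [3, 11]), ([], [4, 12]), ([1], [4, 12]), ([5], [4, 12]), ([7], [4, 12]), ([8], [4,
  12]), ([9], [4, 12]), ([10], [4, 12]), ([8, 1], [4, 12]), ([9, 1], [4, 12]), ([10, 1], [4, 12]),
  ([8, 5], [4, 12]), ([9, 5], [4, 12]), ([10, 5], [4, 12]), ([8, 7], [4, 12]), ([9, 7], [4, 12]),
  ([10, 7], [4, 12]), ([9, 8], [4, 12]), ([10, 8], [4, 12]), ([5, 9], [4, 12]), ([7, 9], [4, 12]),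
  ([5, 10], [4, 12]), ([8, 10], [4, 12]), ([9, 8, 1], [4, 12]), ([8, 10, 1], [4, 12]), ([], [5,
  11]), ([1], [5, 11]), ([4], [5, 11]), ([7], [5, 11]), ([8], [5, 11]), ([9], [5, 11]), ([10], [5,
  11]), ([8, 1], [5, 11]), ([9, 1], [5, 11]), ([10, 1], [5, 11]), ([8, 4], [5, 11]), ([9, 4], [5,
  11]), ([10, 4], [5, 11]), ([8, 7], [5, 11]), ([9, 7], [5, 11]), ([10, 7], [5, 11]), ([9, 8], [5,
  11]), ([10, 8], [5, 11]), ([5, 9], [5, 11]), ([7, 9], [5, 11]), ([12, 9], [5, 11]), ([8, 10],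
  [5, 11]), ([12, 10], [5, 11]), ([9, 8, 1], [5, 11]), ([7, 9, 1], [5, 11]), ([12, 9, 1], [5,
  11]), ([8, 10, 1], [5, 11]), ([12, 10, 1], [5, 11]), ([12, 9, 4], [5, 11]), ([12, 10, 4], [5,
  11]), ([12, 9, 7], [5, 11]), ([12, 10, 7], [5, 11]), ([12, 9, 8], [5, 11]), ([12, 10, 8], [5,
  11]), ([12, 5, 9], [5, 11]), ([12, 7, 9], [5, 11]), ([10, 12, 9], [5, 11]), ([12, 8, 10], [5,
  11]), ([12, 9, 8, 1], [5, 11]), ([12, 7, 9, 1], [5, 11]), ([10, 12, 9, 1], [5, 11]), ([12, 8,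
  10, 1], [5, 11]), ([10, 12, 9, 4], [5, 11]), ([10, 12, 9, 7], [5, 11]), ([10, 12, 9, 8], [5,
  11]), ([9, 12, 5, 9], [5, 11]), ([10, 12, 7, 9], [5, 11]), ([10, 12, 7, 9, 1], [5, 11]), ([],
  [7, 12]), ([1], [7, 12]), ([4], [7, 12]), ([6], [7, 12]), ([8], [7, 12]), ([9], [7, 12]), ([10],
  [7, 12]), ([8, 1], [7, 12]), ([9, 1], [7, 12]), ([10, 1], [7, 12]), ([8, 4], [7, 12]), ([9, 4],
  [7, 12]), ([10, 4], [7, 12]), ([8, 6], [7, 12]), ([9, 6], [7, 12]), ([10, 6], [7, 12]), ([9, 8],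
  [7, 12]), ([10, 8], [7, 12]), ([5, 9], [7, 12]), ([5, 10], [7, 12]), ([10, 8, 1], [7, 12]), ([5,
  9, 1], [7, 12]), ([12, 9, 1], [7, 12]), ([9, 8, 4], [7, 12])]

/-- The nodes of the elements of order at most two. -/
def PP : List ℕ := [1, 13, 14, 98, 15, 107, 99, 454, 16, 455, 100, 108, 17, 653, 672, 109, 1397,
  1335, 101, 1358, 1365, 456, 1388, 576, 135, 136, 470, 560, 2709, 618, 2758, 522, 585, 469, 2781,
  2871, 2713, 3056, 2759, 3007, 2244, 2246, 2845, 2769, 1625, 2674, 2612, 1430, 2718, 2825, 1571,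
  1490, 587, 525, 563, 620, 18, 102, 110, 457, 103, 472, 19, 142, 460, 588, 118, 554, 638, 1629,
  504, 1393, 1453, 1603, 1378, 1443, 557, 529, 591, 614, 0, 2, 3, 24, 4, 34, 25, 168, 5, 169, 26,
  35, 6, 399, 421, 36, 835, 732, 27, 769, 782, 170, 821, 313, 63, 64, 188, 297, 2351, 359, 2422,
  256, 324, 187, 2956, 2134, 2924, 2934, 2954, 2136, 1090, 1081, 1811, 2106, 317, 2255, 2007,
  2175, 1816, 1539, 735, 815, 66, 190, 704, 225, 7, 28, 37, 171, 29, 191, 8, 70, 176, 327, 46,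
  291, 196, 752, 78, 368, 716, 1049, 268, 968, 73, 193, 229, 706, 11, 32, 12, 42, 93, 414, 433,
  684, 931, 1241, 1221, 1266, 2832, 2859, 33, 175, 208, 778, 790, 246, 1780, 1863, 1853, 1873,
  2043, 2404, 41, 174, 49, 214, 179, 698, 50, 215, 699, 180, 281, 1192, 869, 1473, 859, 941, 806,
  1767, 1783, 723, 1840, 1770, 2333, 1976, 2887, 2917, 1958, 2879, 2876, 2059, 57, 184, 701, 219,
  65, 1195, 1247, 189, 1843, 1865, 224, 1927, 1795, 703, 1908, 1014, 342, 345, 745, 980, 1202,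
  1116, 1253, 743, 893, 1849, 1043, 1869, 2885, 2127, 2035, 2398, 2228, 2211, 2900, 2896, 58,
  3025, 2904, 2152, 185, 2947, 702, 220, 348, 747, 1594, 827, 74, 230, 194, 707, 376, 1211, 1259,
  1640, 2039, 2402, 756, 1165, 1872, 839, 2021, 2931, 2366, 2318, 2992, 2975, 2987, 2288, 2980,
  2280]

/-- An orbit of thirty-two involutions. -/
def LO : List (List ℕ) := [[1, 7], [1, 2, 3, 7], [1, 2, 7], [1, 3, 7], [1, 4, 7, 11], [1, 6, 5,
  11], [1, 6, 4, 12], [1, 5, 7, 12], [1, 7, 4, 11], [1, 7, 5, 12], [1, 5, 6, 11], [1, 6, 7, 11,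
  12], [1, 4, 6, 12], [1, 5, 4, 11, 12], [1, 3, 6], [1, 2, 6], [1, 7, 6, 11, 12], [1, 2, 3, 6],
  [1, 4, 5, 11, 12], [1, 2, 5], [1, 6], [1, 2, 3, 5], [1, 3, 5], [1, 2, 3, 4], [1, 5], [1, 3, 4],
  [1, 2, 4], [1, 2, 3], [1, 4], [1, 3], [1, 2], [1]]

/-- Tracing words through the table. -/
noncomputable def TI : List ℕ → ℕ → ℕ :=
  H44.trW TMEI.C.row TMEI.C.EB (nat_lit 262143) (nat_lit 4095)

theorem tabI : Tab TMEI.C TMEI.R [] TI := Tab.of TMEI.checked TMEI.masks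

/-- The word along the spanning tree. -/
noncomputable def wI (p : ℕ) : List ℕ :=
  H59.repF (fun v => Nat.shiftRight (Nat.land (TMEI.row v) (nat_lit 262143)) (nat_lit 4))
    (fun v => Nat.land (TMEI.row v) (nat_lit 15)) (nat_lit 8) p []

theorem invI : invB TMEI.C.n TMEI.C.nc TI wI PP = true := by decide +kernel

theorem reg_alpha [Finite G] (h : Emb ι (el kE)) {xs : List G} (hs : Sat (mix ι csN xs) TMEI.R) :
    Nat.card (gen (mix ι csN xs) 12) = 3072 := by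
  refine le_antisymm ((TMEI.idxLe hs (H := ⊥) (by simp [TMEI.S])).card_le bot_le
    H44.finite_card_bot).2 ?_
  have key : ∀ c (u : List ℕ), band (okL 12 u) (band (aB (lenL csN) u) (Nat.beq (evC csN u) c)) =
      true → el c ∈ (gen (mix ι csN xs) 12).comap ι := fun c u e => by
    rw [mem_comap, ← ev_mix' (xs := xs) valsN u (band_eq_true.1 e).2]
    exact ev_mem_of_okL (band_eq_true.1 e).1
  obtain ⟨m, hm, e⟩ := card_orb (K := gen (mix ι csN xs) 12) (C := (centralizer {el kT}).map ι)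
    (z := ι (el kE)) (map_le_iff_le_comap.2 (B_le (by
      simp only [List.mem_cons, List.not_mem_nil, or_false, forall_eq_or_imp, forall_eq]
      exact ⟨key _ [1] (by decide +kernel), key _ [9] (by decide +kernel),
        key _ [2, 6, 8, 10] (by decide +kernel)⟩)))
    (by rintro _ ⟨x, -, rfl⟩; exact mem_centralizer_singleton_iff.2 (h.commute x))
  rw [card_map_of_injective h.inj, card_B] at e
  have h1 := tree tabI hs (conj_step (K := gen (mix ι csN xs) 12))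
    (mv_words tabI hs (ok := fun _ => true) (us := [[11], [12], [9]]) (by decide +kernel)
      fun u hu => ev_mem_of_okL ((allL_iff (p := okL 12)).1 (by decide +kernel) u hu)) root_e
    (L := [[1, 2, 3, 4], [1, 3, 4], [1, 2, 4], [1, 4], [1, 2, 3], [1, 3], [1, 2], [1]])
    (by decide +kernel)
  have h2 : ([[1, 2, 3, 4], [1, 3, 4], [1, 2, 4], [1, 4], [1, 2, 3], [1, 3], [1, 2], [1]].map
      (ev (mix ι csN xs))).Nodup := by
    refine nodup_map_of (f := evC csN) (nodup_of_disB (by decide +kernel)) fun a ha b hb e => ?_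
    rw [ev_mix valsN ((allL_iff (p := aB (lenL csN))).1 (by decide +kernel) a ha),
      ev_mix valsN ((allL_iff (p := aB (lenL csN))).1 (by decide +kernel) b hb)] at e
    exact (valsN.evC a).inj (valsN.evC b) (h.inj e)
  rw [e]
  refine Nat.mul_le_mul (Nat.le_mul_of_pos_right 384 hm) ((ncard_list h2).symm.le.trans
    (Set.ncard_le_ncard (fun x hx => ?_) (Set.toFinite _)))
  obtain ⟨y, hy, rfl⟩ := List.mem_map.1 hx
  exact h1 y hy

/-- The words that act on the orbit. -/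
def usO : List (List ℕ) := [[1], [2], [3], [4], [5], [6], [7], [8], [11], [12], [9, 12, 10]]

theorem dvd_alpha [Finite G] (h : Emb ι (el kE)) {xs : List G} (hs : Sat (mix ι csN xs) TMEI.R)
    {f : List ℕ → List ℕ} (hf : Mv (mix ι csN xs) (allL yB) (ι (el kP)) f) (L : List (List ℕ))
    (e : band (clsB 12 TI (allL yB) LO f) (band (allL (fun y => anyL (eqL y) L) LO)
      (treeB 12 TI (allL yB) (f :: usO.map (cjW TMEI.C.iv)) [[1]] L)) = true) :
    4096 ∣ Nat.card G ∧ ∀ y ∈ LO, ∃ k, k * ev (mix ι csN xs) y * k⁻¹ = ι (el kE) := by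
  obtain ⟨e1, e2⟩ := band_eq_true.1 e
  obtain ⟨e2, e3⟩ := band_eq_true.1 e2
  have reg : Reg TMEI.C TMEI.R TI (mix ι csN xs) := ⟨tabI, hs, (reg_alpha h hs).ge⟩
  have k1 : allL (okL TMEI.C.nc) usO = true := by decide +kernel
  have k2 : allL (fun u => clsB TMEI.C.nc TI (allL yB) LO (cjW TMEI.C.iv u)) usO = true := by
    decide +kernel
  have h1 : ∀ u ∈ usO, ev (mix ι csN xs) u ∈ normalizer {x | x ∈ LO.map (ev (mix ι csN xs))} :=
    fun u hu => Mv.mem_norm tabI hs (fun y _ => ev_cjW tabI hs (allL_iff.1 k1 u hu) y)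
      (allL_iff.1 k2 u hu)
  have h2 := tree tabI hs conj_step (List.forall_mem_cons.2
    ⟨⟨_, hf.mem_norm tabI hs e1, hf⟩, mv_words tabI hs k1 h1⟩) root_e e3
  have h3 : ∀ y ∈ LO, ∃ j ∈ normalizer {x | x ∈ LO.map (ev (mix ι csN xs))},
      j * ι (el kE) * j⁻¹ = ev (mix ι csN xs) y := fun y hy => by
    obtain ⟨z, hz, e⟩ := anyL_iff.1 (allL_iff.1 e2 y hy)
    rw [eq_of_eqL e]; exact h2 z hz
  refine ⟨?_, fun y hy => ?_⟩
  · obtain ⟨m, -, e⟩ := card_orb (K := normalizer {x | x ∈ LO.map (ev (mix ι csN xs))})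
      (C := (sub ES).map ι) (z := ι (el kE)) (map_le_iff_le_comap.2 (S_le fun c hc => by
        have key : allL (fun c => anyL (fun u => band (aB (lenL csN) u) (Nat.beq (evC csN u) c))
          usO) csS = true := by decide +kernel
        obtain ⟨u, hu, e⟩ := anyL_iff.1 (allL_iff.1 key c hc)
        rw [mem_comap, ← ev_mix' (xs := xs) valsN u e]
        exact h1 u hu))
      (by rintro _ ⟨x, -, rfl⟩; exact mem_centralizer_singleton_iff.2 (h.commute x))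
    have e' : {y | ∃ k ∈ normalizer {x | x ∈ LO.map (ev (mix ι csN xs))},
        k * ι (el kE) * k⁻¹ = y} = {x | x ∈ LO.map (ev (mix ι csN xs))} := by
      ext y
      constructor
      · rintro ⟨k, hk, rfl⟩
        exact (hk _).1 (List.mem_map.2 ⟨[1], by decide, H44.ev_single _ _⟩)
      · intro hy
        obtain ⟨z, hz, rfl⟩ := List.mem_map.1 hy
        exact h3 z hz
    rw [e', ncard_list (nodup_words reg (by decide +kernel)), card_map_of_injective h.inj, card_S,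
      List.length_map, show LO.length = 32 from rfl] at e
    exact (Dvd.intro m (by rw [e]; ring)).trans (card_subgroup_dvd_card _)
  · obtain ⟨j, -, e⟩ := h3 y hy
    exact ⟨j⁻¹, by rw [← e]; group⟩

/-- Products of two squares. -/
def SQ : List (List ℕ × List ℕ × List ℕ) := [([], [], []), ([2], [1, 11], []), ([3], [1, 12], []),
  ([11], [8, 12], []), ([12], [6, 9, 12, 10], []), ([2, 12], [4, 5], [4, 6, 9, 12, 10]),
  ([3, 11], [1, 12, 8], []), ([4, 12], [1, 6, 10, 12, 9], []), ([7, 12], [1, 5, 10, 7, 12, 9], []),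
  ([4], [3, 6, 9], []), ([4, 12, 11], [1, 9, 12, 10, 5], []), ([4, 12, 2, 11], [1, 5, 10, 12, 9], [])]

theorem count_alpha [Finite G] (h : Emb ι (el kE)) (hm : ¬ ID ι kM) {xs : List G}
    (hs : Sat (mix ι csN xs) TMEI.R) {f : List ℕ → List ℕ}
    (hf : Mv (mix ι csN xs) (allL yB) (ι (el kP)) f)
    (e : treeB 12 TI (allL yB) [f] ([7] :: SQ.map Prod.fst)
      ([5, 11] :: [5] :: [7] :: SQ.map Prod.fst) = true)
    (hO : ∀ y ∈ LO, ∃ k, k * ev (mix ι csN xs) y * k⁻¹ = ι (el kE)) :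
    {y | IsConj (ι (el kE)) y ∧ y ∈ gen (mix ι csN xs) 12}.ncard = 80 := by
  have reg : Reg TMEI.C TMEI.R TI (mix ι csN xs) := ⟨tabI, hs, (reg_alpha h hs).ge⟩
  have q1 : ∀ k x, (∃ j, j * x * j⁻¹ = ι (el kE)) → ∃ j, j * (k * x * k⁻¹) * j⁻¹ = ι (el kE) :=
    fun k x ⟨j, e⟩ => ⟨j * k⁻¹, by rw [← e]; group⟩
  have q2 : ∀ k x, (¬ ∃ j, j * x * j⁻¹ = ι (el kE)) →
      ¬ ∃ j, j * (k * x * k⁻¹) * j⁻¹ = ι (el kE) :=
    fun k x hn ⟨j, e⟩ => hn ⟨j * k, by rw [← e]; group⟩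
  have h1 := pairs tabI hs q1 hO (ps := PD) (by decide +kernel)
  have h2 := pairs tabI hs q2 (tree tabI hs (K := ⊤) (fun k _ => q2 k)
    (List.forall_mem_singleton.2 ⟨_, mem_top _, hf⟩) (List.forall_mem_cons.2
      ⟨fun ⟨k, e⟩ => hm (ID.of_ev (xs := xs) (k := k⁻¹) (by rw [← e]; group)),
        not_sq_words h tabI hs (by decide +kernel)⟩) e) (ps := PN) (by decide +kernel)
  have k1 : band (allL (okL TMEI.C.nc) (cjP TMEI.C.iv PD))
      (disB ((cjP TMEI.C.iv PD).map fun l => TI l 0)) = true := by decide +kernel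
  have e' : {y | IsConj (ι (el kE)) y ∧ y ∈ gen (mix ι csN xs) 12} =
      {x | x ∈ (cjP TMEI.C.iv PD).map (ev (mix ι csN xs))} := by
    ext y
    constructor
    · rintro ⟨h3, h4⟩
      obtain ⟨k, rfl⟩ := isConj_iff.1 h3
      obtain ⟨l, hl, e⟩ := exists_invol reg wI invI (L := cjP TMEI.C.iv PD ++ cjP TMEI.C.iv PN)
        (by decide +kernel) h4 (conj_sq (map_sq ι E_sq) k)
      rcases List.mem_append.1 hl with hl | hl
      · exact List.mem_map.2 ⟨l, hl, e⟩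
      · exact (h2 l hl ⟨k⁻¹, by rw [e]; group⟩).elim
    · intro hy
      obtain ⟨l, hl, rfl⟩ := List.mem_map.1 hy
      exact ⟨(isConj_iff.2 (h1 l hl)).symm,
        ev_mem_of_okL (allL_iff.1 (band_eq_true.1 k1).1 l hl)⟩
  rw [e', ncard_list (nodup_words reg k1), List.length_map, cjP, List.length_map]
  rfl

theorem alpha [Finite G] (h : Emb ι (el kE)) (hm : ¬ ID ι kM) (hO : ι (el kE) ∈ pResidual 2 G)
    {d : ℕ} {r b : G} (hd : d ∈ [c1, kT]) (hb : ND ι 0 c1 c1 d r b) : False := by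
  have hs : Sat (mix ι csN [r, b]) TMEI.R :=
    hb.sat (by decide) val_one val_one [] [] [] (by decide +kernel)
  have key : 4096 ∣ Nat.card G ∧
      {y | IsConj (ι (el kE)) y ∧ y ∈ gen (mix ι csN [r, b]) 12}.ncard = 80 := by
    simp only [List.mem_cons, List.not_mem_nil, or_false] at hd
    rcases hd with rfl | rfl
    · have hf := hb.mv [] [] [] (by decide +kernel)
      obtain ⟨h1, h2⟩ := dvd_alpha h hs hf LO (by decide +kernel)
      exact ⟨h1, count_alpha h hm hs hf (by decide +kernel) h2⟩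
    · have hf := hb.mv [] [2] [3] (by decide +kernel)
      obtain ⟨h1, h2⟩ := dvd_alpha h hs hf ([1, 3, 7] :: [1, 2, 7] :: [1, 2, 3, 7] :: [1, 7] ::
        LO.drop 4) (by decide +kernel)
      exact ⟨h1, count_alpha h hm hs hf (by decide +kernel) h2⟩
  have h1 := H58.ncard_fixedBy_mul ((1 : G) : G ⧸ gen (mix ι csN [r, b]) 12) (ι (el kE))
  have h2 := fix_mod (map_sq ι E_sq) hO (gen (mix ι csN [r, b]) 12)
  have h3 := (gen (mix ι csN [r, b]) 12).card_mul_index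
  rw [MulAction.stabilizer_quotient, key.2, reg_alpha h hs, ← h.range_eq,
    ← Nat.card_congr (MonoidHom.ofInjective h.inj).toEquiv, card_AM] at h1
  rw [reg_alpha h hs] at h3
  obtain ⟨m, hm⟩ := key.1
  omega

/-- The involution `m` is conjugate to `e`. -/
theorem caseC [Finite G] (h : Emb ι (el kE)) (hO : ι (el kE) ∈ pResidual 2 G) : ID ι kM := by
  by_contra hm
  obtain ⟨r, b, d, hd, hb | hb⟩ := exists_ND h hm hO
  exacts [alpha h hm hO hd hb, hm (beta hd hb)]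

end Cfsg.Agent.H55.TM
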