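import Mathlib
import Cfsg.Agent.H43.Cent
import Cfsg.Agent.H43.Sims

set_option autoImplicit false
set_option maxRecDepth 200000
set_option linter.style.longLine false

namespace Cfsg.Agent.H55.TM

open Cfsg.Agent.H43

theorem hn : NOk 14 := by decide

theorem hk : 14 ≤ 2 ^ 4 := by decide

noncomputable def n_e : Net := (Net.cons (nat_lit 1) (nat_lit 4096) Net.nil)

theorem n_e_ok : Net.ok 14 n_e = true := by decide +kernel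

noncomputable def n_m : Net := (Net.cons (nat_lit 1) (nat_lit 1280) (Net.cons (nat_lit 4) (nat_lit 4) (Net.cons (nat_lit 8) (nat_lit 15) (Net.cons (nat_lit 4) (nat_lit 1) (Net.cons (nat_lit 2) (nat_lit 305) (Net.cons (nat_lit 1) (nat_lit 1280) Net.nil))))))

theorem n_m_ok : Net.ok 14 n_m = true := by decide +kernel

noncomputable def n_s1 : Net := (Net.cons (nat_lit 1) (nat_lit 1280) (Net.cons (nat_lit 4) (nat_lit 8) (Net.cons (nat_lit 8) (nat_lit 15) (Net.cons (nat_lit 4) (nat_lit 1) (Net.cons (nat_lit 2) (nat_lit 561) (Net.cons (nat_lit 1) (nat_lit 4181) Net.nil))))))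

theorem n_s1_ok : Net.ok 14 n_s1 = true := by decide +kernel

noncomputable def n_s2 : Net := (Net.cons (nat_lit 1) (nat_lit 256) (Net.cons (nat_lit 2) (nat_lit 288) (Net.cons (nat_lit 4) (nat_lit 4) (Net.cons (nat_lit 8) (nat_lit 6) (Net.cons (nat_lit 4) (nat_lit 2) (Net.cons (nat_lit 2) (nat_lit 291) (Net.cons (nat_lit 1) (nat_lit 5205) Net.nil)))))))

theorem n_s2_ok : Net.ok 14 n_s2 = true := by decide +kernel

noncomputable def n_s3 : Net := (Net.cons (nat_lit 1) (nat_lit 1344) (Net.cons (nat_lit 2) (nat_lit 272) (Net.cons (nat_lit 4) (nat_lit 256) (Net.cons (nat_lit 8) (nat_lit 30) (Net.cons (nat_lit 4) (nat_lit 261) (Net.cons (nat_lit 2) (nat_lit 547) (Net.cons (nat_lit 1) (nat_lit 5440) Net.nil)))))))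

theorem n_s3_ok : Net.ok 14 n_s3 = true := by decide +kernel

noncomputable def n_s4 : Net := (Net.cons (nat_lit 1) (nat_lit 1280) (Net.cons (nat_lit 2) (nat_lit 16) (Net.cons (nat_lit 4) (nat_lit 264) (Net.cons (nat_lit 8) (nat_lit 30) (Net.cons (nat_lit 4) (nat_lit 263) (Net.cons (nat_lit 2) (nat_lit 32) (Net.cons (nat_lit 1) (nat_lit 4181) Net.nil)))))))

theorem n_s4_ok : Net.ok 14 n_s4 = true := by decide +kernel

noncomputable def n_a : Net := (Net.cons (nat_lit 2) (nat_lit 512) (Net.cons (nat_lit 4) (nat_lit 8) (Net.cons (nat_lit 8) (nat_lit 14) (Net.cons (nat_lit 4) (nat_lit 8) (Net.cons (nat_lit 2) (nat_lit 512) (Net.cons (nat_lit 1) (nat_lit 69) Net.nil))))))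

theorem n_a_ok : Net.ok 14 n_a = true := by decide +kernel

noncomputable def n_t : Net := (Net.cons (nat_lit 4) (nat_lit 256) (Net.cons (nat_lit 8) (nat_lit 16) (Net.cons (nat_lit 4) (nat_lit 256) (Net.cons (nat_lit 2) (nat_lit 3) (Net.cons (nat_lit 1) (nat_lit 1029) Net.nil)))))

theorem n_t_ok : Net.ok 14 n_t = true := by decide +kernel

noncomputable def n_et : Net := (Net.cons (nat_lit 4) (nat_lit 256) (Net.cons (nat_lit 8) (nat_lit 16) (Net.cons (nat_lit 4) (nat_lit 256) (Net.cons (nat_lit 2) (nat_lit 3) (Net.cons (nat_lit 1) (nat_lit 5125) Net.nil)))))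

theorem n_et_ok : Net.ok 14 n_et = true := by decide +kernel

noncomputable def n_em : Net := (Net.cons (nat_lit 1) (nat_lit 1280) (Net.cons (nat_lit 4) (nat_lit 4) (Net.cons (nat_lit 8) (nat_lit 15) (Net.cons (nat_lit 4) (nat_lit 1) (Net.cons (nat_lit 2) (nat_lit 305) (Net.cons (nat_lit 1) (nat_lit 5376) Net.nil))))))

theorem n_em_ok : Net.ok 14 n_em = true := by decide +kernel

noncomputable def n_s : Net := (Net.cons (nat_lit 1) (nat_lit 80) (Net.cons (nat_lit 2) (nat_lit 560) (Net.cons (nat_lit 4) (nat_lit 256) (Net.cons (nat_lit 8) (nat_lit 24) (Net.cons (nat_lit 4) (nat_lit 265) (Net.cons (nat_lit 2) (nat_lit 512) (Net.cons (nat_lit 1) (nat_lit 320) Net.nil)))))))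

theorem n_s_ok : Net.ok 14 n_s = true := by decide +kernel

noncomputable def n_u : Net := (Net.cons (nat_lit 1) (nat_lit 324) (Net.cons (nat_lit 2) (nat_lit 256) (Net.cons (nat_lit 4) (nat_lit 4) (Net.cons (nat_lit 8) (nat_lit 4) (Net.cons (nat_lit 4) (nat_lit 4) (Net.cons (nat_lit 2) (nat_lit 289) (Net.cons (nat_lit 1) (nat_lit 1348) Net.nil)))))))

theorem n_u_ok : Net.ok 14 n_u = true := by decide +kernel

noncomputable def n_w : Net := (Net.cons (nat_lit 1) (nat_lit 256) (Net.cons (nat_lit 2) (nat_lit 256) (Net.cons (nat_lit 4) (nat_lit 4) (Net.cons (nat_lit 8) (nat_lit 4) (Net.cons (nat_lit 4) (nat_lit 4) (Net.cons (nat_lit 2) (nat_lit 291) (Net.cons (nat_lit 1) (nat_lit 261) Net.nil)))))))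

theorem n_w_ok : Net.ok 14 n_w = true := by decide +kernel

noncomputable def n_w1 : Net := (Net.cons (nat_lit 1) (nat_lit 320) (Net.cons (nat_lit 2) (nat_lit 16) (Net.cons (nat_lit 8) (nat_lit 2) (Net.cons (nat_lit 4) (nat_lit 4) (Net.cons (nat_lit 2) (nat_lit 48) (Net.cons (nat_lit 1) (nat_lit 1344) Net.nil))))))

theorem n_w1_ok : Net.ok 14 n_w1 = true := by decide +kernel

noncomputable def n_w2 : Net := (Net.cons (nat_lit 1) (nat_lit 1024) (Net.cons (nat_lit 2) (nat_lit 304) (Net.cons (nat_lit 4) (nat_lit 516) (Net.cons (nat_lit 8) (nat_lit 45) (Net.cons (nat_lit 4) (nat_lit 516) (Net.cons (nat_lit 2) (nat_lit 304) (Net.cons (nat_lit 1) (nat_lit 1024) Net.nil)))))))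

theorem n_w2_ok : Net.ok 14 n_w2 = true := by decide +kernel

noncomputable def n_tau : Net := (Net.cons (nat_lit 1) (nat_lit 256) (Net.cons (nat_lit 2) (nat_lit 512) (Net.cons (nat_lit 4) (nat_lit 768) (Net.cons (nat_lit 8) (nat_lit 48) (Net.cons (nat_lit 4) (nat_lit 768) (Net.cons (nat_lit 2) (nat_lit 259) (Net.cons (nat_lit 1) (nat_lit 1104) Net.nil)))))))

theorem n_tau_ok : Net.ok 14 n_tau = true := by decide +kernel

noncomputable def n_j : Net := (Net.cons (nat_lit 2) (nat_lit 528) (Net.cons (nat_lit 4) (nat_lit 8) (Net.cons (nat_lit 8) (nat_lit 12) (Net.cons (nat_lit 4) (nat_lit 4) (Net.cons (nat_lit 2) (nat_lit 544) (Net.cons (nat_lit 1) (nat_lit 4164) Net.nil))))))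

theorem n_j_ok : Net.ok 14 n_j = true := by decide +kernel

noncomputable def n_d : Net := (Net.cons (nat_lit 1) (nat_lit 1024) (Net.cons (nat_lit 2) (nat_lit 256) (Net.cons (nat_lit 8) (nat_lit 14) (Net.cons (nat_lit 2) (nat_lit 786) (Net.cons (nat_lit 1) (nat_lit 1284) Net.nil)))))

theorem n_d_ok : Net.ok 14 n_d = true := by decide +kernel

noncomputable def n_x : Net := (Net.cons (nat_lit 1) (nat_lit 1088) (Net.cons (nat_lit 4) (nat_lit 8) (Net.cons (nat_lit 2) (nat_lit 256) (Net.cons (nat_lit 1) (nat_lit 5201) Net.nil))))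

theorem n_x_ok : Net.ok 14 n_x = true := by decide +kernel

noncomputable def EA : List Net := [n_e, n_m, n_s1, n_s2, n_s3, n_s4, n_a]

theorem EA_ok : okE 14 EA = true := (okE_cons.2 ⟨n_e_ok, (okE_cons.2 ⟨n_m_ok, (okE_cons.2 ⟨n_s1_ok, (okE_cons.2 ⟨n_s2_ok, (okE_cons.2 ⟨n_s3_ok, (okE_cons.2 ⟨n_s4_ok, (okE_cons.2 ⟨n_a_ok, (okE_nil 14)⟩)⟩)⟩)⟩)⟩)⟩)⟩)

noncomputable def V1 : List Net := [n_e]

theorem V1_ok : okE 14 V1 = true := (okE_cons.2 ⟨n_e_ok, (okE_nil 14)⟩)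

noncomputable def g3 : Net := (Net.cons (nat_lit 1) (nat_lit 1364) (Net.cons (nat_lit 2) (nat_lit 16) (Net.cons (nat_lit 4) (nat_lit 256) (Net.cons (nat_lit 8) (nat_lit 26) (Net.cons (nat_lit 4) (nat_lit 268) (Net.cons (nat_lit 2) (nat_lit 800) Net.nil))))))

theorem g3_ok : Net.ok 14 g3 = true := by decide +kernel

noncomputable def g4 : Net := (Net.cons (nat_lit 1) (nat_lit 4) (Net.cons (nat_lit 2) (nat_lit 256) (Net.cons (nat_lit 4) (nat_lit 512) (Net.cons (nat_lit 8) (nat_lit 41) (Net.cons (nat_lit 4) (nat_lit 521) (Net.cons (nat_lit 2) (nat_lit 514) (Net.cons (nat_lit 1) (nat_lit 321) Net.nil)))))))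

theorem g4_ok : Net.ok 14 g4 = true := by decide +kernel

noncomputable def V5 : List Net := [g3, g4]

theorem V5_ok : okE 14 V5 = true := (okE_cons.2 ⟨g3_ok, (okE_cons.2 ⟨g4_ok, (okE_nil 14)⟩)⟩)

noncomputable def g7 : Net := (Net.cons (nat_lit 1) (nat_lit 1280) (Net.cons (nat_lit 2) (nat_lit 32) (Net.cons (nat_lit 4) (nat_lit 4) (Net.cons (nat_lit 8) (nat_lit 13) (Net.cons (nat_lit 4) (nat_lit 2) (Net.cons (nat_lit 2) (nat_lit 290) (Net.cons (nat_lit 1) (nat_lit 16) Net.nil)))))))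

theorem g7_ok : Net.ok 14 g7 = true := by decide +kernel

noncomputable def V8 : List Net := [g7]

theorem V8_ok : okE 14 V8 = true := (okE_cons.2 ⟨g7_ok, (okE_nil 14)⟩)

noncomputable def g10 : Net := (Net.cons (nat_lit 4) (nat_lit 4) (Net.cons (nat_lit 8) (nat_lit 4) (Net.cons (nat_lit 4) (nat_lit 10) (Net.cons (nat_lit 2) (nat_lit 768) (Net.cons (nat_lit 1) (nat_lit 1300) Net.nil)))))

theorem g10_ok : Net.ok 14 g10 = true := by decide +kernel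

noncomputable def g11 : Net := (Net.cons (nat_lit 1) (nat_lit 64) (Net.cons (nat_lit 2) (nat_lit 32) (Net.cons (nat_lit 4) (nat_lit 8) (Net.cons (nat_lit 8) (nat_lit 10) (Net.cons (nat_lit 4) (nat_lit 8) (Net.cons (nat_lit 2) (nat_lit 2) (Net.cons (nat_lit 1) (nat_lit 336) Net.nil)))))))

theorem g11_ok : Net.ok 14 g11 = true := by decide +kernel

noncomputable def V12 : List Net := [g10, g11]

theorem V12_ok : okE 14 V12 = true := (okE_cons.2 ⟨g10_ok, (okE_cons.2 ⟨g11_ok, (okE_nil 14)⟩)⟩)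

noncomputable def g14 : Net := (Net.cons (nat_lit 1) (nat_lit 256) (Net.cons (nat_lit 2) (nat_lit 288) (Net.cons (nat_lit 4) (nat_lit 512) (Net.cons (nat_lit 8) (nat_lit 44) (Net.cons (nat_lit 4) (nat_lit 522) (Net.cons (nat_lit 2) (nat_lit 800) (Net.cons (nat_lit 1) (nat_lit 1344) Net.nil)))))))

theorem g14_ok : Net.ok 14 g14 = true := by decide +kernel

noncomputable def V15 : List Net := [g14]

theorem V15_ok : okE 14 V15 = true := (okE_cons.2 ⟨g14_ok, (okE_nil 14)⟩)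

noncomputable def g17 : Net := (Net.cons (nat_lit 2) (nat_lit 272) (Net.cons (nat_lit 4) (nat_lit 516) (Net.cons (nat_lit 8) (nat_lit 44) (Net.cons (nat_lit 4) (nat_lit 522) (Net.cons (nat_lit 2) (nat_lit 786) (Net.cons (nat_lit 1) (nat_lit 340) Net.nil))))))

theorem g17_ok : Net.ok 14 g17 = true := by decide +kernel

noncomputable def g18 : Net := (Net.cons (nat_lit 2) (nat_lit 528) (Net.cons (nat_lit 4) (nat_lit 512) (Net.cons (nat_lit 8) (nat_lit 40) (Net.cons (nat_lit 4) (nat_lit 516) (Net.cons (nat_lit 2) (nat_lit 48) (Net.cons (nat_lit 1) (nat_lit 276) Net.nil))))))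

theorem g18_ok : Net.ok 14 g18 = true := by decide +kernel

noncomputable def V19 : List Net := [g17, g18]

theorem V19_ok : okE 14 V19 = true := (okE_cons.2 ⟨g17_ok, (okE_cons.2 ⟨g18_ok, (okE_nil 14)⟩)⟩)

noncomputable def g21 : Net := (Net.cons (nat_lit 1) (nat_lit 1088) (Net.cons (nat_lit 4) (nat_lit 516) (Net.cons (nat_lit 8) (nat_lit 36) (Net.cons (nat_lit 4) (nat_lit 514) (Net.cons (nat_lit 2) (nat_lit 48) (Net.cons (nat_lit 1) (nat_lit 1088) Net.nil))))))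

theorem g21_ok : Net.ok 14 g21 = true := by decide +kernel

noncomputable def V22 : List Net := [g21]

theorem V22_ok : okE 14 V22 = true := (okE_cons.2 ⟨g21_ok, (okE_nil 14)⟩)

noncomputable def g24 : Net := (Net.cons (nat_lit 2) (nat_lit 768) (Net.cons (nat_lit 8) (nat_lit 12) (Net.cons (nat_lit 2) (nat_lit 784) (Net.cons (nat_lit 1) (nat_lit 84) Net.nil))))

theorem g24_ok : Net.ok 14 g24 = true := by decide +kernel

noncomputable def g25 : Net := (Net.cons (nat_lit 1) (nat_lit 64) (Net.cons (nat_lit 4) (nat_lit 256) (Net.cons (nat_lit 8) (nat_lit 18) (Net.cons (nat_lit 4) (nat_lit 264) (Net.cons (nat_lit 2) (nat_lit 34) (Net.cons (nat_lit 1) (nat_lit 340) Net.nil))))))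

theorem g25_ok : Net.ok 14 g25 = true := by decide +kernel

noncomputable def V26 : List Net := [g24, g25]

theorem V26_ok : okE 14 V26 = true := (okE_cons.2 ⟨g24_ok, (okE_cons.2 ⟨g25_ok, (okE_nil 14)⟩)⟩)

noncomputable def g28 : Net := (Net.cons (nat_lit 1) (nat_lit 4) (Net.cons (nat_lit 2) (nat_lit 256) (Net.cons (nat_lit 4) (nat_lit 4) (Net.cons (nat_lit 8) (nat_lit 4) (Net.cons (nat_lit 4) (nat_lit 2) (Net.cons (nat_lit 2) (nat_lit 306) (Net.cons (nat_lit 1) (nat_lit 64) Net.nil)))))))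

theorem g28_ok : Net.ok 14 g28 = true := by decide +kernel

noncomputable def V29 : List Net := [g28]

theorem V29_ok : okE 14 V29 = true := (okE_cons.2 ⟨g28_ok, (okE_nil 14)⟩)

noncomputable def g31 : Net := (Net.cons (nat_lit 1) (nat_lit 272) (Net.cons (nat_lit 2) (nat_lit 256) (Net.cons (nat_lit 4) (nat_lit 4) (Net.cons (nat_lit 8) (nat_lit 4) (Net.cons (nat_lit 4) (nat_lit 14) (Net.cons (nat_lit 2) (nat_lit 274) (Net.cons (nat_lit 1) (nat_lit 16) Net.nil)))))))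

theorem g31_ok : Net.ok 14 g31 = true := by decide +kernel

noncomputable def g32 : Net := (Net.cons (nat_lit 1) (nat_lit 320) (Net.cons (nat_lit 2) (nat_lit 288) (Net.cons (nat_lit 4) (nat_lit 4) (Net.cons (nat_lit 8) (nat_lit 6) (Net.cons (nat_lit 4) (nat_lit 12) (Net.cons (nat_lit 2) (nat_lit 306) (Net.cons (nat_lit 1) (nat_lit 256) Net.nil)))))))

theorem g32_ok : Net.ok 14 g32 = true := by decide +kernel

noncomputable def V33 : List Net := [g31, g32]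

theorem V33_ok : okE 14 V33 = true := (okE_cons.2 ⟨g31_ok, (okE_cons.2 ⟨g32_ok, (okE_nil 14)⟩)⟩)

noncomputable def g35 : Net := (Net.cons (nat_lit 1) (nat_lit 80) (Net.cons (nat_lit 2) (nat_lit 800) (Net.cons (nat_lit 4) (nat_lit 4) (Net.cons (nat_lit 8) (nat_lit 12) (Net.cons (nat_lit 4) (nat_lit 6) (Net.cons (nat_lit 2) (nat_lit 818) (Net.cons (nat_lit 1) (nat_lit 64) Net.nil)))))))

theorem g35_ok : Net.ok 14 g35 = true := by decide +kernel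

noncomputable def g36 : Net := (Net.cons (nat_lit 1) (nat_lit 16) (Net.cons (nat_lit 4) (nat_lit 256) (Net.cons (nat_lit 8) (nat_lit 16) (Net.cons (nat_lit 4) (nat_lit 266) (Net.cons (nat_lit 2) (nat_lit 48) (Net.cons (nat_lit 1) (nat_lit 272) Net.nil))))))

theorem g36_ok : Net.ok 14 g36 = true := by decide +kernel

noncomputable def V37 : List Net := [g35, g36]

theorem V37_ok : okE 14 V37 = true := (okE_cons.2 ⟨g35_ok, (okE_cons.2 ⟨g36_ok, (okE_nil 14)⟩)⟩)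

noncomputable def ao_E6 : List Net := []

theorem ao_E6_ok : okE 14 ao_E6 = true := (okE_nil 14)

noncomputable def ao_G5 : List Net := [g35, g36]

theorem ao_G5_ok : okE 14 ao_G5 = true := (okE_cons.2 ⟨g35_ok, (okE_cons.2 ⟨g36_ok, (okE_nil 14)⟩)⟩)

noncomputable def ao_E5 : List Net := [g35, g36, g31, g32]

theorem ao_E5_ok : okE 14 ao_E5 = true := (okE_cons.2 ⟨g35_ok, (okE_cons.2 ⟨g36_ok, (okE_cons.2 ⟨g31_ok, (okE_cons.2 ⟨g32_ok, (okE_nil 14)⟩)⟩)⟩)⟩)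

noncomputable def ao_G4 : List Net := [g28, g35, g36, g31, g32]

theorem ao_G4_ok : okE 14 ao_G4 = true := (okE_cons.2 ⟨g28_ok, (okE_cons.2 ⟨g35_ok, (okE_cons.2 ⟨g36_ok, (okE_cons.2 ⟨g31_ok, (okE_cons.2 ⟨g32_ok, (okE_nil 14)⟩)⟩)⟩)⟩)⟩)

noncomputable def ao_E4 : List Net := [g28, g24, g25, g35, g36, g31, g32]

theorem ao_E4_ok : okE 14 ao_E4 = true := (okE_cons.2 ⟨g28_ok, (okE_cons.2 ⟨g24_ok, (okE_cons.2 ⟨g25_ok, (okE_cons.2 ⟨g35_ok, (okE_cons.2 ⟨g36_ok, (okE_cons.2 ⟨g31_ok, (okE_cons.2 ⟨g32_ok, (okE_nil 14)⟩)⟩)⟩)⟩)⟩)⟩)⟩)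

noncomputable def ao_G3 : List Net := [g21, g28, g24, g25, g35, g36, g31, g32]

theorem ao_G3_ok : okE 14 ao_G3 = true := (okE_cons.2 ⟨g21_ok, (okE_cons.2 ⟨g28_ok, (okE_cons.2 ⟨g24_ok, (okE_cons.2 ⟨g25_ok, (okE_cons.2 ⟨g35_ok, (okE_cons.2 ⟨g36_ok, (okE_cons.2 ⟨g31_ok, (okE_cons.2 ⟨g32_ok, (okE_nil 14)⟩)⟩)⟩)⟩)⟩)⟩)⟩)⟩)

noncomputable def ao_E3 : List Net := [g21, g17, g18, g28, g24, g25, g35, g36, g31, g32]

theorem ao_E3_ok : okE 14 ao_E3 = true := (okE_cons.2 ⟨g21_ok, (okE_cons.2 ⟨g17_ok, (okE_cons.2 ⟨g18_ok, (okE_cons.2 ⟨g28_ok, (okE_cons.2 ⟨g24_ok, (okE_cons.2 ⟨g25_ok, (okE_cons.2 ⟨g35_ok, (okE_cons.2 ⟨g36_ok, (okE_cons.2 ⟨g31_ok, (okE_cons.2 ⟨g32_ok, (okE_nil 14)⟩)⟩)⟩)⟩)⟩)⟩)⟩)⟩)⟩)⟩)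

noncomputable def ao_G2 : List Net := [g14, g21, g17, g18, g28, g24, g25, g35, g36, g31, g32]

theorem ao_G2_ok : okE 14 ao_G2 = true := (okE_cons.2 ⟨g14_ok, (okE_cons.2 ⟨g21_ok, (okE_cons.2 ⟨g17_ok, (okE_cons.2 ⟨g18_ok, (okE_cons.2 ⟨g28_ok, (okE_cons.2 ⟨g24_ok, (okE_cons.2 ⟨g25_ok, (okE_cons.2 ⟨g35_ok, (okE_cons.2 ⟨g36_ok, (okE_cons.2 ⟨g31_ok, (okE_cons.2 ⟨g32_ok, (okE_nil 14)⟩)⟩)⟩)⟩)⟩)⟩)⟩)⟩)⟩)⟩)⟩)

noncomputable def ao_E2 : List Net := [g14, g10, g11, g21, g17, g18, g28, g24, g25, g35, g36, g31, g32]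

theorem ao_E2_ok : okE 14 ao_E2 = true := (okE_cons.2 ⟨g14_ok, (okE_cons.2 ⟨g10_ok, (okE_cons.2 ⟨g11_ok, (okE_cons.2 ⟨g21_ok, (okE_cons.2 ⟨g17_ok, (okE_cons.2 ⟨g18_ok, (okE_cons.2 ⟨g28_ok, (okE_cons.2 ⟨g24_ok, (okE_cons.2 ⟨g25_ok, (okE_cons.2 ⟨g35_ok, (okE_cons.2 ⟨g36_ok, (okE_cons.2 ⟨g31_ok, (okE_cons.2 ⟨g32_ok, (okE_nil 14)⟩)⟩)⟩)⟩)⟩)⟩)⟩)⟩)⟩)⟩)⟩)⟩)⟩)

noncomputable def ao_G1 : List Net := [g7, g14, g10, g11, g21, g17, g18, g28, g24, g25, g35, g36, g31, g32]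

theorem ao_G1_ok : okE 14 ao_G1 = true := (okE_cons.2 ⟨g7_ok, (okE_cons.2 ⟨g14_ok, (okE_cons.2 ⟨g10_ok, (okE_cons.2 ⟨g11_ok, (okE_cons.2 ⟨g21_ok, (okE_cons.2 ⟨g17_ok, (okE_cons.2 ⟨g18_ok, (okE_cons.2 ⟨g28_ok, (okE_cons.2 ⟨g24_ok, (okE_cons.2 ⟨g25_ok, (okE_cons.2 ⟨g35_ok, (okE_cons.2 ⟨g36_ok, (okE_cons.2 ⟨g31_ok, (okE_cons.2 ⟨g32_ok, (okE_nil 14)⟩)⟩)⟩)⟩)⟩)⟩)⟩)⟩)⟩)⟩)⟩)⟩)⟩)⟩)

noncomputable def ao_E1 : List Net := [g7, g3, g4, g14, g10, g11, g21, g17, g18, g28, g24, g25, g35, g36, g31, g32]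

theorem ao_E1_ok : okE 14 ao_E1 = true := (okE_cons.2 ⟨g7_ok, (okE_cons.2 ⟨g3_ok, (okE_cons.2 ⟨g4_ok, (okE_cons.2 ⟨g14_ok, (okE_cons.2 ⟨g10_ok, (okE_cons.2 ⟨g11_ok, (okE_cons.2 ⟨g21_ok, (okE_cons.2 ⟨g17_ok, (okE_cons.2 ⟨g18_ok, (okE_cons.2 ⟨g28_ok, (okE_cons.2 ⟨g24_ok, (okE_cons.2 ⟨g25_ok, (okE_cons.2 ⟨g35_ok, (okE_cons.2 ⟨g36_ok, (okE_cons.2 ⟨g31_ok, (okE_cons.2 ⟨g32_ok, (okE_nil 14)⟩)⟩)⟩)⟩)⟩)⟩)⟩)⟩)⟩)⟩)⟩)⟩)⟩)⟩)⟩)⟩)

noncomputable def ao_G0 : List Net := [n_e, g7, g3, g4, g14, g10, g11, g21, g17, g18, g28, g24, g25, g35, g36, g31, g32]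

theorem ao_G0_ok : okE 14 ao_G0 = true := (okE_cons.2 ⟨n_e_ok, (okE_cons.2 ⟨g7_ok, (okE_cons.2 ⟨g3_ok, (okE_cons.2 ⟨g4_ok, (okE_cons.2 ⟨g14_ok, (okE_cons.2 ⟨g10_ok, (okE_cons.2 ⟨g11_ok, (okE_cons.2 ⟨g21_ok, (okE_cons.2 ⟨g17_ok, (okE_cons.2 ⟨g18_ok, (okE_cons.2 ⟨g28_ok, (okE_cons.2 ⟨g24_ok, (okE_cons.2 ⟨g25_ok, (okE_cons.2 ⟨g35_ok, (okE_cons.2 ⟨g36_ok, (okE_cons.2 ⟨g31_ok, (okE_cons.2 ⟨g32_ok, (okE_nil 14)⟩)⟩)⟩)⟩)⟩)⟩)⟩)⟩)⟩)⟩)⟩)⟩)⟩)⟩)⟩)⟩)⟩)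

noncomputable def ao_E0 : List Net := [n_e, n_m, n_s1, n_s2, n_s3, n_s4, n_a, g7, g3, g4, g14, g10, g11, g21, g17, g18, g28, g24, g25, g35, g36, g31, g32]

theorem ao_E0_ok : okE 14 ao_E0 = true := (okE_cons.2 ⟨n_e_ok, (okE_cons.2 ⟨n_m_ok, (okE_cons.2 ⟨n_s1_ok, (okE_cons.2 ⟨n_s2_ok, (okE_cons.2 ⟨n_s3_ok, (okE_cons.2 ⟨n_s4_ok, (okE_cons.2 ⟨n_a_ok, (okE_cons.2 ⟨g7_ok, (okE_cons.2 ⟨g3_ok, (okE_cons.2 ⟨g4_ok, (okE_cons.2 ⟨g14_ok, (okE_cons.2 ⟨g10_ok, (okE_cons.2 ⟨g11_ok, (okE_cons.2 ⟨g21_ok, (okE_cons.2 ⟨g17_ok, (okE_cons.2 ⟨g18_ok, (okE_cons.2 ⟨g28_ok, (okE_cons.2 ⟨g24_ok, (okE_cons.2 ⟨g25_ok, (okE_cons.2 ⟨g35_ok, (okE_cons.2 ⟨g36_ok, (okE_cons.2 ⟨g31_ok, (okE_cons.2 ⟨g32_ok, (okE_nil 14)⟩)⟩)⟩)⟩)⟩)⟩)⟩)⟩)⟩)⟩)⟩)⟩)⟩)⟩)⟩)⟩)⟩)⟩)⟩)⟩)⟩)⟩)⟩)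

noncomputable def g52 : Net := (Net.cons (nat_lit 1) (nat_lit 1028) (Net.cons (nat_lit 2) (nat_lit 288) (Net.cons (nat_lit 4) (nat_lit 264) (Net.cons (nat_lit 8) (nat_lit 26) (Net.cons (nat_lit 4) (nat_lit 271) (Net.cons (nat_lit 2) (nat_lit 35) (Net.cons (nat_lit 1) (nat_lit 5460) Net.nil)))))))

theorem g52_ok : Net.ok 14 g52 = true := by decide +kernel

noncomputable def g53 : Net := (Net.cons (nat_lit 1) (nat_lit 20) (Net.cons (nat_lit 2) (nat_lit 256) (Net.cons (nat_lit 4) (nat_lit 524) (Net.cons (nat_lit 8) (nat_lit 45) (Net.cons (nat_lit 4) (nat_lit 518) (Net.cons (nat_lit 2) (nat_lit 288) (Net.cons (nat_lit 1) (nat_lit 336) Net.nil)))))))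

theorem g53_ok : Net.ok 14 g53 = true := by decide +kernel

noncomputable def g54 : Net := (Net.cons (nat_lit 1) (nat_lit 1344) (Net.cons (nat_lit 2) (nat_lit 256) (Net.cons (nat_lit 4) (nat_lit 520) (Net.cons (nat_lit 8) (nat_lit 44) (Net.cons (nat_lit 4) (nat_lit 526) (Net.cons (nat_lit 2) (nat_lit 817) (Net.cons (nat_lit 1) (nat_lit 1040) Net.nil)))))))

theorem g54_ok : Net.ok 14 g54 = true := by decide +kernel

noncomputable def g55 : Net := (Net.cons (nat_lit 1) (nat_lit 80) (Net.cons (nat_lit 4) (nat_lit 4) (Net.cons (nat_lit 8) (nat_lit 4) (Net.cons (nat_lit 4) (nat_lit 2) (Net.cons (nat_lit 2) (nat_lit 288) (Net.cons (nat_lit 1) (nat_lit 64) Net.nil))))))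

theorem g55_ok : Net.ok 14 g55 = true := by decide +kernel

noncomputable def g56 : Net := (Net.cons (nat_lit 1) (nat_lit 256) (Net.cons (nat_lit 2) (nat_lit 32) (Net.cons (nat_lit 4) (nat_lit 516) (Net.cons (nat_lit 8) (nat_lit 36) (Net.cons (nat_lit 4) (nat_lit 524) (Net.cons (nat_lit 2) (nat_lit 32) (Net.cons (nat_lit 1) (nat_lit 340) Net.nil)))))))

theorem g56_ok : Net.ok 14 g56 = true := by decide +kernel

noncomputable def g57 : Net := (Net.cons (nat_lit 1) (nat_lit 64) (Net.cons (nat_lit 2) (nat_lit 512) (Net.cons (nat_lit 4) (nat_lit 264) (Net.cons (nat_lit 8) (nat_lit 24) (Net.cons (nat_lit 4) (nat_lit 256) (Net.cons (nat_lit 2) (nat_lit 800) (Net.cons (nat_lit 1) (nat_lit 272) Net.nil)))))))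

theorem g57_ok : Net.ok 14 g57 = true := by decide +kernel

noncomputable def g58 : Net := (Net.cons (nat_lit 1) (nat_lit 256) (Net.cons (nat_lit 2) (nat_lit 32) (Net.cons (nat_lit 4) (nat_lit 516) (Net.cons (nat_lit 8) (nat_lit 36) (Net.cons (nat_lit 4) (nat_lit 524) (Net.cons (nat_lit 2) (nat_lit 16) (Net.cons (nat_lit 1) (nat_lit 80) Net.nil)))))))

theorem g58_ok : Net.ok 14 g58 = true := by decide +kernel

noncomputable def tb_c1_K : List Net := [g52, g53, g54, g55, g56, g57, g58]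

theorem tb_c1_K_ok : okE 14 tb_c1_K = true := (okE_cons.2 ⟨g52_ok, (okE_cons.2 ⟨g53_ok, (okE_cons.2 ⟨g54_ok, (okE_cons.2 ⟨g55_ok, (okE_cons.2 ⟨g56_ok, (okE_cons.2 ⟨g57_ok, (okE_cons.2 ⟨g58_ok, (okE_nil 14)⟩)⟩)⟩)⟩)⟩)⟩)⟩)

noncomputable def V60 : List Net := [g7, g3, g4, g14, g10, g11, g21, g17, g18, g28, g24, g25, g35, g36, g31, g32]

theorem V60_ok : okE 14 V60 = true := (okE_cons.2 ⟨g7_ok, (okE_cons.2 ⟨g3_ok, (okE_cons.2 ⟨g4_ok, (okE_cons.2 ⟨g14_ok, (okE_cons.2 ⟨g10_ok, (okE_cons.2 ⟨g11_ok, (okE_cons.2 ⟨g21_ok, (okE_cons.2 ⟨g17_ok, (okE_cons.2 ⟨g18_ok, (okE_cons.2 ⟨g28_ok, (okE_cons.2 ⟨g24_ok, (okE_cons.2 ⟨g25_ok, (okE_cons.2 ⟨g35_ok, (okE_cons.2 ⟨g36_ok, (okE_cons.2 ⟨g31_ok, (okE_cons.2 ⟨g32_ok, (okE_nil 14)⟩)⟩)⟩)⟩)⟩)⟩)⟩)⟩)⟩)⟩)⟩)⟩)⟩)⟩)⟩)⟩)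

noncomputable def V61 : List Net := [g14, g10, g11, g21, g17, g18, g28, g24, g25, g35, g36, g31, g32]

theorem V61_ok : okE 14 V61 = true := (okE_cons.2 ⟨g14_ok, (okE_cons.2 ⟨g10_ok, (okE_cons.2 ⟨g11_ok, (okE_cons.2 ⟨g21_ok, (okE_cons.2 ⟨g17_ok, (okE_cons.2 ⟨g18_ok, (okE_cons.2 ⟨g28_ok, (okE_cons.2 ⟨g24_ok, (okE_cons.2 ⟨g25_ok, (okE_cons.2 ⟨g35_ok, (okE_cons.2 ⟨g36_ok, (okE_cons.2 ⟨g31_ok, (okE_cons.2 ⟨g32_ok, (okE_nil 14)⟩)⟩)⟩)⟩)⟩)⟩)⟩)⟩)⟩)⟩)⟩)⟩)⟩)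

noncomputable def V62 : List Net := [g21, g17, g18, g28, g24, g25, g35, g36, g31, g32]

theorem V62_ok : okE 14 V62 = true := (okE_cons.2 ⟨g21_ok, (okE_cons.2 ⟨g17_ok, (okE_cons.2 ⟨g18_ok, (okE_cons.2 ⟨g28_ok, (okE_cons.2 ⟨g24_ok, (okE_cons.2 ⟨g25_ok, (okE_cons.2 ⟨g35_ok, (okE_cons.2 ⟨g36_ok, (okE_cons.2 ⟨g31_ok, (okE_cons.2 ⟨g32_ok, (okE_nil 14)⟩)⟩)⟩)⟩)⟩)⟩)⟩)⟩)⟩)⟩)

noncomputable def V63 : List Net := [g28, g24, g25, g35, g36, g31, g32]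

theorem V63_ok : okE 14 V63 = true := (okE_cons.2 ⟨g28_ok, (okE_cons.2 ⟨g24_ok, (okE_cons.2 ⟨g25_ok, (okE_cons.2 ⟨g35_ok, (okE_cons.2 ⟨g36_ok, (okE_cons.2 ⟨g31_ok, (okE_cons.2 ⟨g32_ok, (okE_nil 14)⟩)⟩)⟩)⟩)⟩)⟩)⟩)

noncomputable def V64 : List Net := [g35, g36, g31, g32]

theorem V64_ok : okE 14 V64 = true := (okE_cons.2 ⟨g35_ok, (okE_cons.2 ⟨g36_ok, (okE_cons.2 ⟨g31_ok, (okE_cons.2 ⟨g32_ok, (okE_nil 14)⟩)⟩)⟩)⟩)

noncomputable def V65 : List Net := []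

theorem V65_ok : okE 14 V65 = true := (okE_nil 14)

noncomputable def tb_c1_cnt_EG : List Net := [g35, g36, g31, g32, g28, g24, g25, g21, g17, g18, g14, g10, g11, g7, g3, g4, n_e, n_m, n_s1, n_s2, n_s3, n_s4, n_a]

theorem tb_c1_cnt_EG_ok : okE 14 tb_c1_cnt_EG = true := (okE_cons.2 ⟨g35_ok, (okE_cons.2 ⟨g36_ok, (okE_cons.2 ⟨g31_ok, (okE_cons.2 ⟨g32_ok, (okE_cons.2 ⟨g28_ok, (okE_cons.2 ⟨g24_ok, (okE_cons.2 ⟨g25_ok, (okE_cons.2 ⟨g21_ok, (okE_cons.2 ⟨g17_ok, (okE_cons.2 ⟨g18_ok, (okE_cons.2 ⟨g14_ok, (okE_cons.2 ⟨g10_ok, (okE_cons.2 ⟨g11_ok, (okE_cons.2 ⟨g7_ok, (okE_cons.2 ⟨g3_ok, (okE_cons.2 ⟨g4_ok, (okE_cons.2 ⟨n_e_ok, (okE_cons.2 ⟨n_m_ok, (okE_cons.2 ⟨n_s1_ok, (okE_cons.2 ⟨n_s2_ok, (okE_cons.2 ⟨n_s3_ok, (okE_cons.2 ⟨n_s4_ok, (okE_cons.2 ⟨n_a_ok, (okE_nil 14)⟩)⟩)⟩)⟩)⟩)⟩)⟩)⟩)⟩)⟩)⟩)⟩)⟩)⟩)⟩)⟩)⟩)⟩)⟩)⟩)⟩)⟩)⟩)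

noncomputable def g66 : Net := (Net.cons (nat_lit 1) (nat_lit 64) (Net.cons (nat_lit 2) (nat_lit 288) (Net.cons (nat_lit 4) (nat_lit 512) (Net.cons (nat_lit 8) (nat_lit 36) (Net.cons (nat_lit 4) (nat_lit 518) (Net.cons (nat_lit 2) (nat_lit 304) (Net.cons (nat_lit 1) (nat_lit 4368) Net.nil)))))))

theorem g66_ok : Net.ok 14 g66 = true := by decide +kernel

noncomputable def g67 : Net := (Net.cons (nat_lit 1) (nat_lit 1296) (Net.cons (nat_lit 4) (nat_lit 772) (Net.cons (nat_lit 8) (nat_lit 52) (Net.cons (nat_lit 4) (nat_lit 775) (Net.cons (nat_lit 2) (nat_lit 530) (Net.cons (nat_lit 1) (nat_lit 1364) Net.nil))))))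

theorem g67_ok : Net.ok 14 g67 = true := by decide +kernel

noncomputable def g68 : Net := (Net.cons (nat_lit 1) (nat_lit 1024) (Net.cons (nat_lit 2) (nat_lit 256) (Net.cons (nat_lit 4) (nat_lit 12) (Net.cons (nat_lit 8) (nat_lit 14) (Net.cons (nat_lit 2) (nat_lit 800) (Net.cons (nat_lit 1) (nat_lit 1108) Net.nil))))))

theorem g68_ok : Net.ok 14 g68 = true := by decide +kernel

noncomputable def g69 : Net := (Net.cons (nat_lit 1) (nat_lit 64) (Net.cons (nat_lit 2) (nat_lit 288) (Net.cons (nat_lit 4) (nat_lit 512) (Net.cons (nat_lit 8) (nat_lit 36) (Net.cons (nat_lit 4) (nat_lit 518) (Net.cons (nat_lit 2) (nat_lit 304) (Net.cons (nat_lit 1) (nat_lit 272) Net.nil)))))))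

theorem g69_ok : Net.ok 14 g69 = true := by decide +kernel

noncomputable def tb_c2_K : List Net := [g66, g67, g68, g69]

theorem tb_c2_K_ok : okE 14 tb_c2_K = true := (okE_cons.2 ⟨g66_ok, (okE_cons.2 ⟨g67_ok, (okE_cons.2 ⟨g68_ok, (okE_cons.2 ⟨g69_ok, (okE_nil 14)⟩)⟩)⟩)⟩)

noncomputable def tb_c2_cnt_EG : List Net := [g35, g36, g31, g32, g28, g24, g25, g21, g17, g18, g14, g10, g11, g7, g3, g4, n_e, n_m, n_s1, n_s2, n_s3, n_s4, n_a]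

theorem tb_c2_cnt_EG_ok : okE 14 tb_c2_cnt_EG = true := (okE_cons.2 ⟨g35_ok, (okE_cons.2 ⟨g36_ok, (okE_cons.2 ⟨g31_ok, (okE_cons.2 ⟨g32_ok, (okE_cons.2 ⟨g28_ok, (okE_cons.2 ⟨g24_ok, (okE_cons.2 ⟨g25_ok, (okE_cons.2 ⟨g21_ok, (okE_cons.2 ⟨g17_ok, (okE_cons.2 ⟨g18_ok, (okE_cons.2 ⟨g14_ok, (okE_cons.2 ⟨g10_ok, (okE_cons.2 ⟨g11_ok, (okE_cons.2 ⟨g7_ok, (okE_cons.2 ⟨g3_ok, (okE_cons.2 ⟨g4_ok, (okE_cons.2 ⟨n_e_ok, (okE_cons.2 ⟨n_m_ok, (okE_cons.2 ⟨n_s1_ok, (okE_cons.2 ⟨n_s2_ok, (okE_cons.2 ⟨n_s3_ok, (okE_cons.2 ⟨n_s4_ok, (okE_cons.2 ⟨n_a_ok, (okE_nil 14)⟩)⟩)⟩)⟩)⟩)⟩)⟩)⟩)⟩)⟩)⟩)⟩)⟩)⟩)⟩)⟩)⟩)⟩)⟩)⟩)⟩)⟩)⟩)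

noncomputable def g71 : Net := (Net.cons (nat_lit 1) (nat_lit 1040) (Net.cons (nat_lit 2) (nat_lit 768) (Net.cons (nat_lit 8) (nat_lit 7) (Net.cons (nat_lit 4) (nat_lit 14) (Net.cons (nat_lit 2) (nat_lit 32) (Net.cons (nat_lit 1) (nat_lit 5125) Net.nil))))))

theorem g71_ok : Net.ok 14 g71 = true := by decide +kernel

noncomputable def g72 : Net := (Net.cons (nat_lit 1) (nat_lit 1040) (Net.cons (nat_lit 2) (nat_lit 304) (Net.cons (nat_lit 4) (nat_lit 4) (Net.cons (nat_lit 8) (nat_lit 13) (Net.cons (nat_lit 4) (nat_lit 3) (Net.cons (nat_lit 2) (nat_lit 16) (Net.cons (nat_lit 1) (nat_lit 1297) Net.nil)))))))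

theorem g72_ok : Net.ok 14 g72 = true := by decide +kernel

noncomputable def g73 : Net := (Net.cons (nat_lit 2) (nat_lit 528) (Net.cons (nat_lit 4) (nat_lit 8) (Net.cons (nat_lit 8) (nat_lit 12) (Net.cons (nat_lit 4) (nat_lit 4) (Net.cons (nat_lit 2) (nat_lit 544) (Net.cons (nat_lit 1) (nat_lit 68) Net.nil))))))

theorem g73_ok : Net.ok 14 g73 = true := by decide +kernel

noncomputable def tb_c3_K : List Net := [g71, g72, g73, g69]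

theorem tb_c3_K_ok : okE 14 tb_c3_K = true := (okE_cons.2 ⟨g71_ok, (okE_cons.2 ⟨g72_ok, (okE_cons.2 ⟨g73_ok, (okE_cons.2 ⟨g69_ok, (okE_nil 14)⟩)⟩)⟩)⟩)

noncomputable def tb_c3_cnt_EG : List Net := [g35, g36, g31, g32, g28, g24, g25, g21, g17, g18, g14, g10, g11, g7, g3, g4, n_e, n_m, n_s1, n_s2, n_s3, n_s4, n_a]

theorem tb_c3_cnt_EG_ok : okE 14 tb_c3_cnt_EG = true := (okE_cons.2 ⟨g35_ok, (okE_cons.2 ⟨g36_ok, (okE_cons.2 ⟨g31_ok, (okE_cons.2 ⟨g32_ok, (okE_cons.2 ⟨g28_ok, (okE_cons.2 ⟨g24_ok, (okE_cons.2 ⟨g25_ok, (okE_cons.2 ⟨g21_ok, (okE_cons.2 ⟨g17_ok, (okE_cons.2 ⟨g18_ok, (okE_cons.2 ⟨g14_ok, (okE_cons.2 ⟨g10_ok, (okE_cons.2 ⟨g11_ok, (okE_cons.2 ⟨g7_ok, (okE_cons.2 ⟨g3_ok, (okE_cons.2 ⟨g4_ok, (okE_cons.2 ⟨n_e_ok, (okE_cons.2 ⟨n_m_ok, (okE_cons.2 ⟨n_s1_ok, (okE_cons.2 ⟨n_s2_ok, (okE_cons.2 ⟨n_s3_ok, (okE_cons.2 ⟨n_s4_ok, (okE_cons.2 ⟨n_a_ok,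 (okE_nil 14)⟩)⟩)⟩)⟩)⟩)⟩)⟩)⟩)⟩)⟩)⟩)⟩)⟩)⟩)⟩)⟩)⟩)⟩)⟩)⟩)⟩)⟩)⟩)

noncomputable def g75 : Net := (Net.cons (nat_lit 1) (nat_lit 260) (Net.cons (nat_lit 2) (nat_lit 256) (Net.cons (nat_lit 4) (nat_lit 256) (Net.cons (nat_lit 8) (nat_lit 16) (Net.cons (nat_lit 4) (nat_lit 256) (Net.cons (nat_lit 2) (nat_lit 769) (Net.cons (nat_lit 1) (nat_lit 5377) Net.nil)))))))

theorem g75_ok : Net.ok 14 g75 = true := by decide +kernel

noncomputable def g76 : Net := (Net.cons (nat_lit 1) (nat_lit 320) (Net.cons (nat_lit 2) (nat_lit 272) (Net.cons (nat_lit 4) (nat_lit 12) (Net.cons (nat_lit 8) (nat_lit 13) (Net.cons (nat_lit 4) (nat_lit 4) (Net.cons (nat_lit 2) (nat_lit 563) (Net.cons (nat_lit 1) (nat_lit 16) Net.nil)))))))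

theorem g76_ok : Net.ok 14 g76 = true := by decide +kernel

noncomputable def g77 : Net := (Net.cons (nat_lit 1) (nat_lit 1280) (Net.cons (nat_lit 2) (nat_lit 528) (Net.cons (nat_lit 4) (nat_lit 256) (Net.cons (nat_lit 8) (nat_lit 22) (Net.cons (nat_lit 4) (nat_lit 256) (Net.cons (nat_lit 2) (nat_lit 560) (Net.cons (nat_lit 1) (nat_lit 320) Net.nil)))))))

theorem g77_ok : Net.ok 14 g77 = true := by decide +kernel

noncomputable def g78 : Net := (Net.cons (nat_lit 1) (nat_lit 320) (Net.cons (nat_lit 2) (nat_lit 272) (Net.cons (nat_lit 4) (nat_lit 512) (Net.cons (nat_lit 8) (nat_lit 36) (Net.cons (nat_lit 4) (nat_lit 518) (Net.cons (nat_lit 2) (nat_lit 256) (Net.cons (nat_lit 1) (nat_lit 16) Net.nil)))))))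

theorem g78_ok : Net.ok 14 g78 = true := by decide +kernel

noncomputable def tb_c4_K : List Net := [g75, g76, g77, g78]

theorem tb_c4_K_ok : okE 14 tb_c4_K = true := (okE_cons.2 ⟨g75_ok, (okE_cons.2 ⟨g76_ok, (okE_cons.2 ⟨g77_ok, (okE_cons.2 ⟨g78_ok, (okE_nil 14)⟩)⟩)⟩)⟩)

noncomputable def tb_c4_cnt_EG : List Net := [g35, g36, g31, g32, g28, g24, g25, g21, g17, g18, g14, g10, g11, g7, g3, g4, n_e, n_m, n_s1, n_s2, n_s3, n_s4, n_a]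

theorem tb_c4_cnt_EG_ok : okE 14 tb_c4_cnt_EG = true := (okE_cons.2 ⟨g35_ok, (okE_cons.2 ⟨g36_ok, (okE_cons.2 ⟨g31_ok, (okE_cons.2 ⟨g32_ok, (okE_cons.2 ⟨g28_ok, (okE_cons.2 ⟨g24_ok, (okE_cons.2 ⟨g25_ok, (okE_cons.2 ⟨g21_ok, (okE_cons.2 ⟨g17_ok, (okE_cons.2 ⟨g18_ok, (okE_cons.2 ⟨g14_ok, (okE_cons.2 ⟨g10_ok, (okE_cons.2 ⟨g11_ok, (okE_cons.2 ⟨g7_ok, (okE_cons.2 ⟨g3_ok, (okE_cons.2 ⟨g4_ok, (okE_cons.2 ⟨n_e_ok, (okE_cons.2 ⟨n_m_ok, (okE_cons.2 ⟨n_s1_ok, (okE_cons.2 ⟨n_s2_ok, (okE_cons.2 ⟨n_s3_ok, (okE_cons.2 ⟨n_s4_ok, (okE_cons.2 ⟨n_a_ok, (okE_nil 14)⟩)⟩)⟩)⟩)⟩)⟩)⟩)⟩)⟩)⟩)⟩)⟩)⟩)⟩)⟩)⟩)⟩)⟩)⟩)⟩)⟩)⟩)⟩)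

noncomputable def g80 : Net := (Net.cons (nat_lit 1) (nat_lit 256) (Net.cons (nat_lit 2) (nat_lit 272) (Net.cons (nat_lit 4) (nat_lit 256) (Net.cons (nat_lit 8) (nat_lit 30) (Net.cons (nat_lit 4) (nat_lit 261) (Net.cons (nat_lit 2) (nat_lit 515) (Net.cons (nat_lit 1) (nat_lit 5381) Net.nil)))))))

theorem g80_ok : Net.ok 14 g80 = true := by decide +kernel

noncomputable def g81 : Net := (Net.cons (nat_lit 1) (nat_lit 1280) (Net.cons (nat_lit 2) (nat_lit 528) (Net.cons (nat_lit 4) (nat_lit 4) (Net.cons (nat_lit 8) (nat_lit 6) (Net.cons (nat_lit 2) (nat_lit 19) (Net.cons (nat_lit 1) (nat_lit 320) Net.nil))))))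

theorem g81_ok : Net.ok 14 g81 = true := by decide +kernel

noncomputable def g82 : Net := (Net.cons (nat_lit 1) (nat_lit 320) (Net.cons (nat_lit 2) (nat_lit 528) (Net.cons (nat_lit 4) (nat_lit 256) (Net.cons (nat_lit 8) (nat_lit 22) (Net.cons (nat_lit 4) (nat_lit 256) (Net.cons (nat_lit 2) (nat_lit 560) (Net.cons (nat_lit 1) (nat_lit 1280) Net.nil)))))))

theorem g82_ok : Net.ok 14 g82 = true := by decide +kernel

noncomputable def tb_c5_K : List Net := [g80, g81, g82, g78]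

theorem tb_c5_K_ok : okE 14 tb_c5_K = true := (okE_cons.2 ⟨g80_ok, (okE_cons.2 ⟨g81_ok, (okE_cons.2 ⟨g82_ok, (okE_cons.2 ⟨g78_ok, (okE_nil 14)⟩)⟩)⟩)⟩)

noncomputable def tb_c5_cnt_EG : List Net := [g35, g36, g31, g32, g28, g24, g25, g21, g17, g18, g14, g10, g11, g7, g3, g4, n_e, n_m, n_s1, n_s2, n_s3, n_s4, n_a]

theorem tb_c5_cnt_EG_ok : okE 14 tb_c5_cnt_EG = true := (okE_cons.2 ⟨g35_ok, (okE_cons.2 ⟨g36_ok, (okE_cons.2 ⟨g31_ok, (okE_cons.2 ⟨g32_ok, (okE_cons.2 ⟨g28_ok, (okE_cons.2 ⟨g24_ok, (okE_cons.2 ⟨g25_ok, (okE_cons.2 ⟨g21_ok, (okE_cons.2 ⟨g17_ok, (okE_cons.2 ⟨g18_ok, (okE_cons.2 ⟨g14_ok, (okE_cons.2 ⟨g10_ok, (okE_cons.2 ⟨g11_ok, (okE_cons.2 ⟨g7_ok, (okE_cons.2 ⟨g3_ok, (okE_cons.2 ⟨g4_ok, (okE_cons.2 ⟨n_e_ok, (okE_cons.2 ⟨n_m_ok, (okE_cons.2 ⟨n_s1_ok, (okE_cons.2 ⟨n_s2_ok, (okE_cons.2 ⟨n_s3_ok, (okE_cons.2 ⟨n_s4_ok, (okE_cons.2 ⟨n_a_ok,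 (okE_nil 14)⟩)⟩)⟩)⟩)⟩)⟩)⟩)⟩)⟩)⟩)⟩)⟩)⟩)⟩)⟩)⟩)⟩)⟩)⟩)⟩)⟩)⟩)⟩)

noncomputable def g84 : Net := (Net.cons (nat_lit 1) (nat_lit 16) (Net.cons (nat_lit 2) (nat_lit 32) (Net.cons (nat_lit 4) (nat_lit 512) (Net.cons (nat_lit 8) (nat_lit 33) (Net.cons (nat_lit 4) (nat_lit 520) (Net.cons (nat_lit 2) (nat_lit 35) (Net.cons (nat_lit 1) (nat_lit 80) Net.nil)))))))

theorem g84_ok : Net.ok 14 g84 = true := by decide +kernel

noncomputable def g85 : Net := (Net.cons (nat_lit 1) (nat_lit 272) (Net.cons (nat_lit 2) (nat_lit 272) (Net.cons (nat_lit 4) (nat_lit 512) (Net.cons (nat_lit 8) (nat_lit 36) (Net.cons (nat_lit 4) (nat_lit 513) (Net.cons (nat_lit 2) (nat_lit 307) (Net.cons (nat_lit 1) (nat_lit 277) Net.nil)))))))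

theorem g85_ok : Net.ok 14 g85 = true := by decide +kernel

noncomputable def g86 : Net := (Net.cons (nat_lit 1) (nat_lit 324) (Net.cons (nat_lit 2) (nat_lit 32) (Net.cons (nat_lit 4) (nat_lit 264) (Net.cons (nat_lit 8) (nat_lit 24) (Net.cons (nat_lit 4) (nat_lit 270) (Net.cons (nat_lit 2) (nat_lit 32) (Net.cons (nat_lit 1) (nat_lit 4420) Net.nil)))))))

theorem g86_ok : Net.ok 14 g86 = true := by decide +kernel

noncomputable def g87 : Net := (Net.cons (nat_lit 1) (nat_lit 1296) (Net.cons (nat_lit 2) (nat_lit 32) (Net.cons (nat_lit 4) (nat_lit 260) (Net.cons (nat_lit 8) (nat_lit 20) (Net.cons (nat_lit 4) (nat_lit 268) (Net.cons (nat_lit 2) (nat_lit 306) (Net.cons (nat_lit 1) (nat_lit 336) Net.nil)))))))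

theorem g87_ok : Net.ok 14 g87 = true := by decide +kernel

noncomputable def tb_c6_K : List Net := [g84, g85, g86, g87, n_e]

theorem tb_c6_K_ok : okE 14 tb_c6_K = true := (okE_cons.2 ⟨g84_ok, (okE_cons.2 ⟨g85_ok, (okE_cons.2 ⟨g86_ok, (okE_cons.2 ⟨g87_ok, (okE_cons.2 ⟨n_e_ok, (okE_nil 14)⟩)⟩)⟩)⟩)⟩)

noncomputable def g89 : Net := (Net.cons (nat_lit 4) (nat_lit 4) (Net.cons (nat_lit 8) (nat_lit 5) (Net.cons (nat_lit 4) (nat_lit 14) (Net.cons (nat_lit 1) (nat_lit 4161) Net.nil))))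

theorem g89_ok : Net.ok 14 g89 = true := by decide +kernel

noncomputable def g90 : Net := (Net.cons (nat_lit 1) (nat_lit 16) (Net.cons (nat_lit 2) (nat_lit 544) (Net.cons (nat_lit 4) (nat_lit 4) (Net.cons (nat_lit 8) (nat_lit 12) (Net.cons (nat_lit 4) (nat_lit 8) (Net.cons (nat_lit 2) (nat_lit 528) (Net.cons (nat_lit 1) (nat_lit 84) Net.nil)))))))

theorem g90_ok : Net.ok 14 g90 = true := by decide +kernel

noncomputable def g91 : Net := (Net.cons (nat_lit 1) (nat_lit 1024) (Net.cons (nat_lit 2) (nat_lit 16) (Net.cons (nat_lit 4) (nat_lit 8) (Net.cons (nat_lit 8) (nat_lit 9) (Net.cons (nat_lit 4) (nat_lit 1) (Net.cons (nat_lit 2) (nat_lit 32) (Net.cons (nat_lit 1) (nat_lit 5120) Net.nil)))))))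

theorem g91_ok : Net.ok 14 g91 = true := by decide +kernel

noncomputable def g92 : Net := (Net.cons (nat_lit 1) (nat_lit 4) (Net.cons (nat_lit 4) (nat_lit 516) (Net.cons (nat_lit 8) (nat_lit 36) (Net.cons (nat_lit 4) (nat_lit 513) (Net.cons (nat_lit 2) (nat_lit 273) (Net.cons (nat_lit 1) (nat_lit 20) Net.nil))))))

theorem g92_ok : Net.ok 14 g92 = true := by decide +kernel

noncomputable def g93 : Net := (Net.cons (nat_lit 1) (nat_lit 324) (Net.cons (nat_lit 2) (nat_lit 256) (Net.cons (nat_lit 4) (nat_lit 256) (Net.cons (nat_lit 8) (nat_lit 20) (Net.cons (nat_lit 4) (nat_lit 256) (Net.cons (nat_lit 2) (nat_lit 289) (Net.cons (nat_lit 1) (nat_lit 4180) Net.nil)))))))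

theorem g93_ok : Net.ok 14 g93 = true := by decide +kernel

noncomputable def V94 : List Net := [g89, g90, g91, g92, g93, n_e]

theorem V94_ok : okE 14 V94 = true := (okE_cons.2 ⟨g89_ok, (okE_cons.2 ⟨g90_ok, (okE_cons.2 ⟨g91_ok, (okE_cons.2 ⟨g92_ok, (okE_cons.2 ⟨g93_ok, (okE_cons.2 ⟨n_e_ok, (okE_nil 14)⟩)⟩)⟩)⟩)⟩)⟩)

noncomputable def V96 : List Net := [g90, g91, g92, g93, n_e]

theorem V96_ok : okE 14 V96 = true := (okE_cons.2 ⟨g90_ok, (okE_cons.2 ⟨g91_ok, (okE_cons.2 ⟨g92_ok, (okE_cons.2 ⟨g93_ok, (okE_cons.2 ⟨n_e_ok, (okE_nil 14)⟩)⟩)⟩)⟩)⟩)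

noncomputable def V97 : List Net := [g91, g92, g93, n_e]

theorem V97_ok : okE 14 V97 = true := (okE_cons.2 ⟨g91_ok, (okE_cons.2 ⟨g92_ok, (okE_cons.2 ⟨g93_ok, (okE_cons.2 ⟨n_e_ok, (okE_nil 14)⟩)⟩)⟩)⟩)

noncomputable def V98 : List Net := [g92, g93, n_e]

theorem V98_ok : okE 14 V98 = true := (okE_cons.2 ⟨g92_ok, (okE_cons.2 ⟨g93_ok, (okE_cons.2 ⟨n_e_ok, (okE_nil 14)⟩)⟩)⟩)

noncomputable def V99 : List Net := [n_e]

theorem V99_ok : okE 14 V99 = true := (okE_cons.2 ⟨n_e_ok, (okE_nil 14)⟩)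

noncomputable def V100 : List Net := []

theorem V100_ok : okE 14 V100 = true := (okE_nil 14)

noncomputable def tb_c6_cnt_EG : List Net := [n_e, g92, g93, g91, g90, g89, n_m, n_s1, n_s2, n_s3, n_s4, n_a, g7, g3, g4, g14, g10, g11, g21, g17, g18, g28, g24, g25, g35, g36, g31, g32]

theorem tb_c6_cnt_EG_ok : okE 14 tb_c6_cnt_EG = true := (okE_cons.2 ⟨n_e_ok, (okE_cons.2 ⟨g92_ok, (okE_cons.2 ⟨g93_ok, (okE_cons.2 ⟨g91_ok, (okE_cons.2 ⟨g90_ok, (okE_cons.2 ⟨g89_ok, (okE_cons.2 ⟨n_m_ok, (okE_cons.2 ⟨n_s1_ok, (okE_cons.2 ⟨n_s2_ok, (okE_cons.2 ⟨n_s3_ok, (okE_cons.2 ⟨n_s4_ok, (okE_cons.2 ⟨n_a_ok, (okE_cons.2 ⟨g7_ok, (okE_cons.2 ⟨g3_ok, (okE_cons.2 ⟨g4_ok, (okE_cons.2 ⟨g14_ok, (okE_cons.2 ⟨g10_ok, (okE_cons.2 ⟨g11_ok, (okE_cons.2 ⟨g21_ok, (okE_cons.2 ⟨g17_ok, (okE_cons.2 ⟨g18_ok, (okE_cons.2 ⟨g28_ok, (okE_cons.2 ⟨g24_ok, (okE_cons.2 ⟨g25_ok, (okE_cons.2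 ⟨g35_ok, (okE_cons.2 ⟨g36_ok, (okE_cons.2 ⟨g31_ok, (okE_cons.2 ⟨g32_ok, (okE_nil 14)⟩)⟩)⟩)⟩)⟩)⟩)⟩)⟩)⟩)⟩)⟩)⟩)⟩)⟩)⟩)⟩)⟩)⟩)⟩)⟩)⟩)⟩)⟩)⟩)⟩)⟩)⟩)⟩)

noncomputable def g101 : Net := (Net.cons (nat_lit 1) (nat_lit 1040) (Net.cons (nat_lit 2) (nat_lit 768) (Net.cons (nat_lit 4) (nat_lit 516) (Net.cons (nat_lit 8) (nat_lit 37) (Net.cons (nat_lit 4) (nat_lit 513) (Net.cons (nat_lit 2) (nat_lit 17) (Net.cons (nat_lit 1) (nat_lit 1109) Net.nil)))))))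

theorem g101_ok : Net.ok 14 g101 = true := by decide +kernel

noncomputable def g102 : Net := (Net.cons (nat_lit 1) (nat_lit 1360) (Net.cons (nat_lit 2) (nat_lit 800) (Net.cons (nat_lit 4) (nat_lit 12) (Net.cons (nat_lit 8) (nat_lit 14) (Net.cons (nat_lit 4) (nat_lit 9) (Net.cons (nat_lit 2) (nat_lit 529) (Net.cons (nat_lit 1) (nat_lit 4437) Net.nil)))))))

theorem g102_ok : Net.ok 14 g102 = true := by decide +kernel

noncomputable def g103 : Net := (Net.cons (nat_lit 1) (nat_lit 16) (Net.cons (nat_lit 4) (nat_lit 512) (Net.cons (nat_lit 8) (nat_lit 44) (Net.cons (nat_lit 4) (nat_lit 524) (Net.cons (nat_lit 2) (nat_lit 544) (Net.cons (nat_lit 1) (nat_lit 4096) Net.nil))))))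

theorem g103_ok : Net.ok 14 g103 = true := by decide +kernel

noncomputable def tb_c7_K : List Net := [g101, g102, g103, n_e]

theorem tb_c7_K_ok : okE 14 tb_c7_K = true := (okE_cons.2 ⟨g101_ok, (okE_cons.2 ⟨g102_ok, (okE_cons.2 ⟨g103_ok, (okE_cons.2 ⟨n_e_ok, (okE_nil 14)⟩)⟩)⟩)⟩)

noncomputable def tb_c7_cnt_EG : List Net := [g92, g93, n_e, g91, g90, g89, n_m, n_s1, n_s2, n_s3, n_s4, n_a, g7, g3, g4, g14, g10, g11, g21, g17, g18, g28, g24, g25, g35, g36, g31, g32]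

theorem tb_c7_cnt_EG_ok : okE 14 tb_c7_cnt_EG = true := (okE_cons.2 ⟨g92_ok, (okE_cons.2 ⟨g93_ok, (okE_cons.2 ⟨n_e_ok, (okE_cons.2 ⟨g91_ok, (okE_cons.2 ⟨g90_ok, (okE_cons.2 ⟨g89_ok, (okE_cons.2 ⟨n_m_ok, (okE_cons.2 ⟨n_s1_ok, (okE_cons.2 ⟨n_s2_ok, (okE_cons.2 ⟨n_s3_ok, (okE_cons.2 ⟨n_s4_ok, (okE_cons.2 ⟨n_a_ok, (okE_cons.2 ⟨g7_ok, (okE_cons.2 ⟨g3_ok, (okE_cons.2 ⟨g4_ok, (okE_cons.2 ⟨g14_ok, (okE_cons.2 ⟨g10_ok, (okE_cons.2 ⟨g11_ok, (okE_cons.2 ⟨g21_ok, (okE_cons.2 ⟨g17_ok, (okE_cons.2 ⟨g18_ok, (okE_cons.2 ⟨g28_ok, (okE_cons.2 ⟨g24_ok, (okE_cons.2 ⟨g25_ok, (okE_cons.2 ⟨g35_ok, (okE_cons.2 ⟨g36_ok, (okE_cons.2 ⟨g31_ok, (okE_cons.2 ⟨g32_ok, (okE_nil 14)⟩)⟩)⟩)⟩)⟩)⟩)⟩)⟩)⟩)⟩)⟩)⟩)⟩)⟩)⟩)⟩)⟩)⟩)⟩)⟩)⟩)⟩)⟩)⟩)⟩)⟩)⟩)⟩)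

noncomputable def g105 : Net := (Net.cons (nat_lit 1) (nat_lit 84) (Net.cons (nat_lit 2) (nat_lit 32) (Net.cons (nat_lit 4) (nat_lit 12) (Net.cons (nat_lit 8) (nat_lit 12) (Net.cons (nat_lit 4) (nat_lit 4) (Net.cons (nat_lit 2) (nat_lit 18) (Net.cons (nat_lit 1) (nat_lit 1044) Net.nil)))))))

theorem g105_ok : Net.ok 14 g105 = true := by decide +kernel

noncomputable def g106 : Net := (Net.cons (nat_lit 1) (nat_lit 1104) (Net.cons (nat_lit 2) (nat_lit 800) (Net.cons (nat_lit 8) (nat_lit 13) (Net.cons (nat_lit 4) (nat_lit 3) (Net.cons (nat_lit 2) (nat_lit 530) (Net.cons (nat_lit 1) (nat_lit 277) Net.nil))))))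

theorem g106_ok : Net.ok 14 g106 = true := by decide +kernel

noncomputable def tb_c8_K : List Net := [g105, g106, g93, n_e]

theorem tb_c8_K_ok : okE 14 tb_c8_K = true := (okE_cons.2 ⟨g105_ok, (okE_cons.2 ⟨g106_ok, (okE_cons.2 ⟨g93_ok, (okE_cons.2 ⟨n_e_ok, (okE_nil 14)⟩)⟩)⟩)⟩)

noncomputable def tb_c8_cnt_EG : List Net := [n_e, g92, g93, g91, g90, g89, n_m, n_s1, n_s2, n_s3, n_s4, n_a, g7, g3, g4, g14, g10, g11, g21, g17, g18, g28, g24, g25, g35, g36, g31, g32]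

theorem tb_c8_cnt_EG_ok : okE 14 tb_c8_cnt_EG = true := (okE_cons.2 ⟨n_e_ok, (okE_cons.2 ⟨g92_ok, (okE_cons.2 ⟨g93_ok, (okE_cons.2 ⟨g91_ok, (okE_cons.2 ⟨g90_ok, (okE_cons.2 ⟨g89_ok, (okE_cons.2 ⟨n_m_ok, (okE_cons.2 ⟨n_s1_ok, (okE_cons.2 ⟨n_s2_ok, (okE_cons.2 ⟨n_s3_ok, (okE_cons.2 ⟨n_s4_ok, (okE_cons.2 ⟨n_a_ok, (okE_cons.2 ⟨g7_ok, (okE_cons.2 ⟨g3_ok, (okE_cons.2 ⟨g4_ok, (okE_cons.2 ⟨g14_ok, (okE_cons.2 ⟨g10_ok, (okE_cons.2 ⟨g11_ok, (okE_cons.2 ⟨g21_ok, (okE_cons.2 ⟨g17_ok, (okE_cons.2 ⟨g18_ok, (okE_cons.2 ⟨g28_ok, (okE_cons.2 ⟨g24_ok, (okE_cons.2 ⟨g25_ok, (okE_cons.2 ⟨g35_ok, (okE_cons.2 ⟨g36_ok, (okE_cons.2 ⟨g31_ok, (okE_cons.2 ⟨g32_ok, (okE_nil 14)⟩)⟩)⟩)⟩)⟩)⟩)⟩)⟩)⟩)⟩)⟩)⟩)⟩)⟩)⟩)⟩)⟩)⟩)⟩)⟩)⟩)⟩)⟩)⟩)⟩)⟩)⟩)⟩)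

noncomputable def g108 : Net := (Net.cons (nat_lit 1) (nat_lit 1028) (Net.cons (nat_lit 2) (nat_lit 288) (Net.cons (nat_lit 4) (nat_lit 516) (Net.cons (nat_lit 8) (nat_lit 45) (Net.cons (nat_lit 4) (nat_lit 515) (Net.cons (nat_lit 2) (nat_lit 273) (Net.cons (nat_lit 1) (nat_lit 1285) Net.nil)))))))

theorem g108_ok : Net.ok 14 g108 = true := by decide +kernel

noncomputable def g109 : Net := (Net.cons (nat_lit 1) (nat_lit 16) (Net.cons (nat_lit 2) (nat_lit 16) (Net.cons (nat_lit 4) (nat_lit 264) (Net.cons (nat_lit 8) (nat_lit 26) (Net.cons (nat_lit 4) (nat_lit 265) (Net.cons (nat_lit 2) (nat_lit 512) (Net.cons (nat_lit 1) (nat_lit 16) Net.nil)))))))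

theorem g109_ok : Net.ok 14 g109 = true := by decide +kernel

noncomputable def g110 : Net := (Net.cons (nat_lit 1) (nat_lit 260) (Net.cons (nat_lit 2) (nat_lit 16) (Net.cons (nat_lit 8) (nat_lit 6) (Net.cons (nat_lit 4) (nat_lit 6) (Net.cons (nat_lit 2) (nat_lit 48) (Net.cons (nat_lit 1) (nat_lit 256) Net.nil))))))

theorem g110_ok : Net.ok 14 g110 = true := by decide +kernel

noncomputable def tb_c9_K : List Net := [g108, g109, g110, n_e]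

theorem tb_c9_K_ok : okE 14 tb_c9_K = true := (okE_cons.2 ⟨g108_ok, (okE_cons.2 ⟨g109_ok, (okE_cons.2 ⟨g110_ok, (okE_cons.2 ⟨n_e_ok, (okE_nil 14)⟩)⟩)⟩)⟩)

noncomputable def tb_c9_cnt_EG : List Net := [n_e, g92, g93, g91, g90, g89, n_m, n_s1, n_s2, n_s3, n_s4, n_a, g7, g3, g4, g14, g10, g11, g21, g17, g18, g28, g24, g25, g35, g36, g31, g32]

theorem tb_c9_cnt_EG_ok : okE 14 tb_c9_cnt_EG = true := (okE_cons.2 ⟨n_e_ok, (okE_cons.2 ⟨g92_ok, (okE_cons.2 ⟨g93_ok, (okE_cons.2 ⟨g91_ok, (okE_cons.2 ⟨g90_ok, (okE_cons.2 ⟨g89_ok, (okE_cons.2 ⟨n_m_ok, (okE_cons.2 ⟨n_s1_ok, (okE_cons.2 ⟨n_s2_ok, (okE_cons.2 ⟨n_s3_ok, (okE_cons.2 ⟨n_s4_ok, (okE_cons.2 ⟨n_a_ok, (okE_cons.2 ⟨g7_ok, (okE_cons.2 ⟨g3_ok, (okE_cons.2 ⟨g4_ok, (okE_cons.2 ⟨g14_ok, (okE_cons.2 ⟨g10_ok, (okE_cons.2 ⟨g11_ok, (okE_cons.2 ⟨g21_ok, (okE_cons.2 ⟨g17_ok, (okE_cons.2 ⟨g18_ok, (okE_cons.2 ⟨g28_ok,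 (okE_cons.2 ⟨g24_ok, (okE_cons.2 ⟨g25_ok, (okE_cons.2 ⟨g35_ok, (okE_cons.2 ⟨g36_ok, (okE_cons.2 ⟨g31_ok, (okE_cons.2 ⟨g32_ok, (okE_nil 14)⟩)⟩)⟩)⟩)⟩)⟩)⟩)⟩)⟩)⟩)⟩)⟩)⟩)⟩)⟩)⟩)⟩)⟩)⟩)⟩)⟩)⟩)⟩)⟩)⟩)⟩)⟩)⟩)

noncomputable def g112 : Net := (Net.cons (nat_lit 1) (nat_lit 1280) (Net.cons (nat_lit 4) (nat_lit 264) (Net.cons (nat_lit 8) (nat_lit 24) (Net.cons (nat_lit 4) (nat_lit 264) (Net.cons (nat_lit 2) (nat_lit 803) (Net.cons (nat_lit 1) (nat_lit 5205) Net.nil))))))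

theorem g112_ok : Net.ok 14 g112 = true := by decide +kernel

noncomputable def g113 : Net := (Net.cons (nat_lit 1) (nat_lit 68) (Net.cons (nat_lit 2) (nat_lit 768) (Net.cons (nat_lit 4) (nat_lit 516) (Net.cons (nat_lit 8) (nat_lit 36) (Net.cons (nat_lit 4) (nat_lit 516) (Net.cons (nat_lit 2) (nat_lit 545) (Net.cons (nat_lit 1) (nat_lit 5457) Net.nil)))))))

theorem g113_ok : Net.ok 14 g113 = true := by decide +kernel

noncomputable def g114 : Net := (Net.cons (nat_lit 1) (nat_lit 68) (Net.cons (nat_lit 4) (nat_lit 512) (Net.cons (nat_lit 8) (nat_lit 32) (Net.cons (nat_lit 4) (nat_lit 512) (Net.cons (nat_lit 2) (nat_lit 34) (Net.cons (nat_lit 1) (nat_lit 1) Net.nil))))))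

theorem g114_ok : Net.ok 14 g114 = true := by decide +kernel

noncomputable def tb_c10_K : List Net := [g112, g113, g114, n_e]

theorem tb_c10_K_ok : okE 14 tb_c10_K = true := (okE_cons.2 ⟨g112_ok, (okE_cons.2 ⟨g113_ok, (okE_cons.2 ⟨g114_ok, (okE_cons.2 ⟨n_e_ok, (okE_nil 14)⟩)⟩)⟩)⟩)

noncomputable def tb_c10_cnt_EG : List Net := [n_e, g92, g93, g91, g90, g89, n_m, n_s1, n_s2, n_s3, n_s4, n_a, g7, g3, g4, g14, g10, g11, g21, g17, g18, g28, g24, g25, g35, g36, g31, g32]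

theorem tb_c10_cnt_EG_ok : okE 14 tb_c10_cnt_EG = true := (okE_cons.2 ⟨n_e_ok, (okE_cons.2 ⟨g92_ok, (okE_cons.2 ⟨g93_ok, (okE_cons.2 ⟨g91_ok, (okE_cons.2 ⟨g90_ok, (okE_cons.2 ⟨g89_ok, (okE_cons.2 ⟨n_m_ok, (okE_cons.2 ⟨n_s1_ok, (okE_cons.2 ⟨n_s2_ok, (okE_cons.2 ⟨n_s3_ok, (okE_cons.2 ⟨n_s4_ok, (okE_cons.2 ⟨n_a_ok, (okE_cons.2 ⟨g7_ok, (okE_cons.2 ⟨g3_ok, (okE_cons.2 ⟨g4_ok, (okE_cons.2 ⟨g14_ok, (okE_cons.2 ⟨g10_ok, (okE_cons.2 ⟨g11_ok, (okE_cons.2 ⟨g21_ok, (okE_cons.2 ⟨g17_ok, (okE_cons.2 ⟨g18_ok, (okE_cons.2 ⟨g28_ok, (okE_cons.2 ⟨g24_ok, (okE_cons.2 ⟨g25_ok, (okE_cons.2 ⟨g35_ok, (okE_cons.2 ⟨g36_ok, (okE_cons.2 ⟨g31_ok, (okE_cons.2 ⟨g32_ok, (okE_nil 14)⟩)⟩)⟩)⟩)⟩)⟩)⟩)⟩)⟩)⟩)⟩)⟩)⟩)⟩)⟩)⟩)⟩)⟩)⟩)⟩)⟩)⟩)⟩)⟩)⟩)⟩)⟩)⟩)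

noncomputable def g116 : Net := (Net.cons (nat_lit 1) (nat_lit 276) (Net.cons (nat_lit 2) (nat_lit 768) (Net.cons (nat_lit 4) (nat_lit 8) (Net.cons (nat_lit 8) (nat_lit 12) (Net.cons (nat_lit 4) (nat_lit 9) (Net.cons (nat_lit 2) (nat_lit 770) (Net.cons (nat_lit 1) (nat_lit 4117) Net.nil)))))))

theorem g116_ok : Net.ok 14 g116 = true := by decide +kernel

noncomputable def g117 : Net := (Net.cons (nat_lit 2) (nat_lit 256) (Net.cons (nat_lit 4) (nat_lit 768) (Net.cons (nat_lit 8) (nat_lit 52) (Net.cons (nat_lit 4) (nat_lit 778) (Net.cons (nat_lit 2) (nat_lit 289) (Net.cons (nat_lit 1) (nat_lit 4357) Net.nil))))))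

theorem g117_ok : Net.ok 14 g117 = true := by decide +kernel

noncomputable def g118 : Net := (Net.cons (nat_lit 1) (nat_lit 336) (Net.cons (nat_lit 2) (nat_lit 800) (Net.cons (nat_lit 4) (nat_lit 516) (Net.cons (nat_lit 8) (nat_lit 44) (Net.cons (nat_lit 4) (nat_lit 516) (Net.cons (nat_lit 2) (nat_lit 768) (Net.cons (nat_lit 1) (nat_lit 5200) Net.nil)))))))

theorem g118_ok : Net.ok 14 g118 = true := by decide +kernel

noncomputable def tb_c11_K : List Net := [g116, g117, g118, n_e]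

theorem tb_c11_K_ok : okE 14 tb_c11_K = true := (okE_cons.2 ⟨g116_ok, (okE_cons.2 ⟨g117_ok, (okE_cons.2 ⟨g118_ok, (okE_cons.2 ⟨n_e_ok, (okE_nil 14)⟩)⟩)⟩)⟩)

noncomputable def tb_c11_cnt_EG : List Net := [n_e, g92, g93, g91, g90, g89, n_m, n_s1, n_s2, n_s3, n_s4, n_a, g7, g3, g4, g14, g10, g11, g21, g17, g18, g28, g24, g25, g35, g36, g31, g32]

theorem tb_c11_cnt_EG_ok : okE 14 tb_c11_cnt_EG = true := (okE_cons.2 ⟨n_e_ok, (okE_cons.2 ⟨g92_ok, (okE_cons.2 ⟨g93_ok, (okE_cons.2 ⟨g91_ok, (okE_cons.2 ⟨g90_ok, (okE_cons.2 ⟨g89_ok, (okE_cons.2 ⟨n_m_ok, (okE_cons.2 ⟨n_s1_ok, (okE_cons.2 ⟨n_s2_ok, (okE_cons.2 ⟨n_s3_ok, (okE_cons.2 ⟨n_s4_ok, (okE_cons.2 ⟨n_a_ok, (okE_cons.2 ⟨g7_ok, (okE_cons.2 ⟨g3_ok, (okE_cons.2 ⟨g4_ok, (okE_cons.2 ⟨g14_ok, (okE_cons.2 ⟨g10_ok, (okE_cons.2 ⟨g11_ok, (okE_cons.2 ⟨g21_ok, (okE_cons.2 ⟨g17_ok, (okE_cons.2 ⟨g18_ok, (okE_cons.2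 ⟨g28_ok, (okE_cons.2 ⟨g24_ok, (okE_cons.2 ⟨g25_ok, (okE_cons.2 ⟨g35_ok, (okE_cons.2 ⟨g36_ok, (okE_cons.2 ⟨g31_ok, (okE_cons.2 ⟨g32_ok, (okE_nil 14)⟩)⟩)⟩)⟩)⟩)⟩)⟩)⟩)⟩)⟩)⟩)⟩)⟩)⟩)⟩)⟩)⟩)⟩)⟩)⟩)⟩)⟩)⟩)⟩)⟩)⟩)⟩)⟩)

noncomputable def g120 : Net := (Net.cons (nat_lit 1) (nat_lit 1284) (Net.cons (nat_lit 2) (nat_lit 512) (Net.cons (nat_lit 4) (nat_lit 256) (Net.cons (nat_lit 8) (nat_lit 18) (Net.cons (nat_lit 4) (nat_lit 268) (Net.cons (nat_lit 2) (nat_lit 19) (Net.cons (nat_lit 1) (nat_lit 1284) Net.nil)))))))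

theorem g120_ok : Net.ok 14 g120 = true := by decide +kernel

noncomputable def g121 : Net := (Net.cons (nat_lit 1) (nat_lit 1360) (Net.cons (nat_lit 2) (nat_lit 16) (Net.cons (nat_lit 4) (nat_lit 4) (Net.cons (nat_lit 8) (nat_lit 13) (Net.cons (nat_lit 4) (nat_lit 15) (Net.cons (nat_lit 2) (nat_lit 19) (Net.cons (nat_lit 1) (nat_lit 5204) Net.nil)))))))

theorem g121_ok : Net.ok 14 g121 = true := by decide +kernel

noncomputable def tb_c12_K : List Net := [g120, g121, n_e]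

theorem tb_c12_K_ok : okE 14 tb_c12_K = true := (okE_cons.2 ⟨g120_ok, (okE_cons.2 ⟨g121_ok, (okE_cons.2 ⟨n_e_ok, (okE_nil 14)⟩)⟩)⟩)

noncomputable def tb_c12_cnt_EG : List Net := [n_e, g92, g93, g91, g90, g89, n_m, n_s1, n_s2, n_s3, n_s4, n_a, g7, g3, g4, g14, g10, g11, g21, g17, g18, g28, g24, g25, g35, g36, g31, g32]

theorem tb_c12_cnt_EG_ok : okE 14 tb_c12_cnt_EG = true := (okE_cons.2 ⟨n_e_ok, (okE_cons.2 ⟨g92_ok, (okE_cons.2 ⟨g93_ok, (okE_cons.2 ⟨g91_ok, (okE_cons.2 ⟨g90_ok, (okE_cons.2 ⟨g89_ok, (okE_cons.2 ⟨n_m_ok, (okE_cons.2 ⟨n_s1_ok, (okE_cons.2 ⟨n_s2_ok, (okE_cons.2 ⟨n_s3_ok, (okE_cons.2 ⟨n_s4_ok, (okE_cons.2 ⟨n_a_ok, (okE_cons.2 ⟨g7_ok, (okE_cons.2 ⟨g3_ok, (okE_cons.2 ⟨g4_ok, (okE_cons.2 ⟨g14_ok, (okE_cons.2 ⟨g10_ok, (okE_cons.2 ⟨g11_ok, (okE_cons.2 ⟨g21_ok, (okE_cons.2 ⟨g17_ok, (okE_cons.2 ⟨g18_ok, (okE_cons.2 ⟨g28_ok, (okE_cons.2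 ⟨g24_ok, (okE_cons.2 ⟨g25_ok, (okE_cons.2 ⟨g35_ok, (okE_cons.2 ⟨g36_ok, (okE_cons.2 ⟨g31_ok, (okE_cons.2 ⟨g32_ok, (okE_nil 14)⟩)⟩)⟩)⟩)⟩)⟩)⟩)⟩)⟩)⟩)⟩)⟩)⟩)⟩)⟩)⟩)⟩)⟩)⟩)⟩)⟩)⟩)⟩)⟩)⟩)⟩)⟩)⟩)

noncomputable def g123 : Net := (Net.cons (nat_lit 1) (nat_lit 80) (Net.cons (nat_lit 2) (nat_lit 768) (Net.cons (nat_lit 4) (nat_lit 8) (Net.cons (nat_lit 8) (nat_lit 12) (Net.cons (nat_lit 4) (nat_lit 10) (Net.cons (nat_lit 2) (nat_lit 771) (Net.cons (nat_lit 1) (nat_lit 4112) Net.nil)))))))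

theorem g123_ok : Net.ok 14 g123 = true := by decide +kernel

noncomputable def g124 : Net := (Net.cons (nat_lit 1) (nat_lit 16) (Net.cons (nat_lit 2) (nat_lit 768) (Net.cons (nat_lit 4) (nat_lit 264) (Net.cons (nat_lit 8) (nat_lit 24) (Net.cons (nat_lit 4) (nat_lit 266) (Net.cons (nat_lit 2) (nat_lit 770) (Net.cons (nat_lit 1) (nat_lit 1104) Net.nil)))))))

theorem g124_ok : Net.ok 14 g124 = true := by decide +kernel

noncomputable def g125 : Net := (Net.cons (nat_lit 1) (nat_lit 324) (Net.cons (nat_lit 2) (nat_lit 32) (Net.cons (nat_lit 4) (nat_lit 264) (Net.cons (nat_lit 8) (nat_lit 24) (Net.cons (nat_lit 4) (nat_lit 270) (Net.cons (nat_lit 2) (nat_lit 32) (Net.cons (nat_lit 1) (nat_lit 324) Net.nil)))))))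

theorem g125_ok : Net.ok 14 g125 = true := by decide +kernel

noncomputable def tb_c13_K : List Net := [g123, n_t, g124, g125]

theorem tb_c13_K_ok : okE 14 tb_c13_K = true := (okE_cons.2 ⟨g123_ok, (okE_cons.2 ⟨n_t_ok, (okE_cons.2 ⟨g124_ok, (okE_cons.2 ⟨g125_ok, (okE_nil 14)⟩)⟩)⟩)⟩)

noncomputable def tb_c13_cnt_EG : List Net := [g35, g36, g31, g32, g28, g24, g25, g21, g17, g18, g14, g10, g11, g7, g3, g4, n_e, n_m, n_s1, n_s2, n_s3, n_s4, n_a]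

theorem tb_c13_cnt_EG_ok : okE 14 tb_c13_cnt_EG = true := (okE_cons.2 ⟨g35_ok, (okE_cons.2 ⟨g36_ok, (okE_cons.2 ⟨g31_ok, (okE_cons.2 ⟨g32_ok, (okE_cons.2 ⟨g28_ok, (okE_cons.2 ⟨g24_ok, (okE_cons.2 ⟨g25_ok, (okE_cons.2 ⟨g21_ok, (okE_cons.2 ⟨g17_ok, (okE_cons.2 ⟨g18_ok, (okE_cons.2 ⟨g14_ok, (okE_cons.2 ⟨g10_ok, (okE_cons.2 ⟨g11_ok, (okE_cons.2 ⟨g7_ok, (okE_cons.2 ⟨g3_ok, (okE_cons.2 ⟨g4_ok, (okE_cons.2 ⟨n_e_ok, (okE_cons.2 ⟨n_m_ok, (okE_cons.2 ⟨n_s1_ok, (okE_cons.2 ⟨n_s2_ok, (okE_cons.2 ⟨n_s3_ok, (okE_cons.2 ⟨n_s4_ok, (okE_cons.2 ⟨n_a_ok, (okE_nil 14)⟩)⟩)⟩)⟩)⟩)⟩)⟩)⟩)⟩)⟩)⟩)⟩)⟩)⟩)⟩)⟩)⟩)⟩)⟩)⟩)⟩)⟩)⟩)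

noncomputable def g127 : Net := (Net.cons (nat_lit 1) (nat_lit 336) (Net.cons (nat_lit 2) (nat_lit 512) (Net.cons (nat_lit 4) (nat_lit 768) (Net.cons (nat_lit 8) (nat_lit 56) (Net.cons (nat_lit 4) (nat_lit 779) (Net.cons (nat_lit 2) (nat_lit 290) (Net.cons (nat_lit 1) (nat_lit 4100) Net.nil)))))))

theorem g127_ok : Net.ok 14 g127 = true := by decide +kernel

noncomputable def g128 : Net := (Net.cons (nat_lit 1) (nat_lit 1296) (Net.cons (nat_lit 2) (nat_lit 32) (Net.cons (nat_lit 4) (nat_lit 516) (Net.cons (nat_lit 8) (nat_lit 44) (Net.cons (nat_lit 4) (nat_lit 522) (Net.cons (nat_lit 2) (nat_lit 785) (Net.cons (nat_lit 1) (nat_lit 1088) Net.nil)))))))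

theorem g128_ok : Net.ok 14 g128 = true := by decide +kernel

noncomputable def g129 : Net := (Net.cons (nat_lit 1) (nat_lit 64) (Net.cons (nat_lit 2) (nat_lit 512) (Net.cons (nat_lit 4) (nat_lit 4) (Net.cons (nat_lit 8) (nat_lit 6) (Net.cons (nat_lit 4) (nat_lit 2) (Net.cons (nat_lit 2) (nat_lit 802) (Net.cons (nat_lit 1) (nat_lit 1028) Net.nil)))))))

theorem g129_ok : Net.ok 14 g129 = true := by decide +kernel

noncomputable def tb_c14_K : List Net := [g127, g128, g129]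

theorem tb_c14_K_ok : okE 14 tb_c14_K = true := (okE_cons.2 ⟨g127_ok, (okE_cons.2 ⟨g128_ok, (okE_cons.2 ⟨g129_ok, (okE_nil 14)⟩)⟩)⟩)

noncomputable def tb_c14_cnt_EG : List Net := [g35, g36, g31, g32, g28, g24, g25, g21, g17, g18, g14, g10, g11, g7, g3, g4, n_e, n_m, n_s1, n_s2, n_s3, n_s4, n_a]

theorem tb_c14_cnt_EG_ok : okE 14 tb_c14_cnt_EG = true := (okE_cons.2 ⟨g35_ok, (okE_cons.2 ⟨g36_ok, (okE_cons.2 ⟨g31_ok, (okE_cons.2 ⟨g32_ok, (okE_cons.2 ⟨g28_ok, (okE_cons.2 ⟨g24_ok, (okE_cons.2 ⟨g25_ok, (okE_cons.2 ⟨g21_ok, (okE_cons.2 ⟨g17_ok, (okE_cons.2 ⟨g18_ok, (okE_cons.2 ⟨g14_ok, (okE_cons.2 ⟨g10_ok, (okE_cons.2 ⟨g11_ok, (okE_cons.2 ⟨g7_ok, (okE_cons.2 ⟨g3_ok, (okE_cons.2 ⟨g4_ok, (okE_cons.2 ⟨n_e_ok, (okE_cons.2 ⟨n_m_ok, (okE_cons.2 ⟨n_s1_ok, (okE_cons.2 ⟨n_s2_ok, (okE_cons.2 ⟨n_s3_ok, (okE_cons.2 ⟨n_s4_ok, (okE_cons.2 ⟨n_a_ok, (okE_nil 14)⟩)⟩)⟩)⟩)⟩)⟩)⟩)⟩)⟩)⟩)⟩)⟩)⟩)⟩)⟩)⟩)⟩)⟩)⟩)⟩)⟩)⟩)⟩)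

noncomputable def g131 : Net := (Net.cons (nat_lit 8) (nat_lit 11) (Net.cons (nat_lit 4) (nat_lit 5) (Net.cons (nat_lit 2) (nat_lit 288) (Net.cons (nat_lit 1) (nat_lit 69) Net.nil))))

theorem g131_ok : Net.ok 14 g131 = true := by decide +kernel

noncomputable def g132 : Net := (Net.cons (nat_lit 1) (nat_lit 336) (Net.cons (nat_lit 2) (nat_lit 528) (Net.cons (nat_lit 4) (nat_lit 8) (Net.cons (nat_lit 8) (nat_lit 12) (Net.cons (nat_lit 4) (nat_lit 12) (Net.cons (nat_lit 2) (nat_lit 803) (Net.cons (nat_lit 1) (nat_lit 1089) Net.nil)))))))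

theorem g132_ok : Net.ok 14 g132 = true := by decide +kernel

noncomputable def tb_c15_K : List Net := [g131, g132, n_e]

theorem tb_c15_K_ok : okE 14 tb_c15_K = true := (okE_cons.2 ⟨g131_ok, (okE_cons.2 ⟨g132_ok, (okE_cons.2 ⟨n_e_ok, (okE_nil 14)⟩)⟩)⟩)

noncomputable def tb_c15_cnt_EG : List Net := [n_e, g92, g93, g91, g90, g89, n_m, n_s1, n_s2, n_s3, n_s4, n_a, g7, g3, g4, g14, g10, g11, g21, g17, g18, g28, g24, g25, g35, g36, g31, g32]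

theorem tb_c15_cnt_EG_ok : okE 14 tb_c15_cnt_EG = true := (okE_cons.2 ⟨n_e_ok, (okE_cons.2 ⟨g92_ok, (okE_cons.2 ⟨g93_ok, (okE_cons.2 ⟨g91_ok, (okE_cons.2 ⟨g90_ok, (okE_cons.2 ⟨g89_ok, (okE_cons.2 ⟨n_m_ok, (okE_cons.2 ⟨n_s1_ok, (okE_cons.2 ⟨n_s2_ok, (okE_cons.2 ⟨n_s3_ok, (okE_cons.2 ⟨n_s4_ok, (okE_cons.2 ⟨n_a_ok, (okE_cons.2 ⟨g7_ok, (okE_cons.2 ⟨g3_ok, (okE_cons.2 ⟨g4_ok, (okE_cons.2 ⟨g14_ok, (okE_cons.2 ⟨g10_ok, (okE_cons.2 ⟨g11_ok, (okE_cons.2 ⟨g21_ok, (okE_cons.2 ⟨g17_ok, (okE_cons.2 ⟨g18_ok, (okE_cons.2 ⟨g28_ok, (okE_cons.2 ⟨g24_ok, (okE_cons.2 ⟨g25_ok, (okE_cons.2 ⟨g35_ok, (okE_cons.2 ⟨g36_ok, (okE_cons.2 ⟨g31_ok, (okE_cons.2 ⟨g32_ok, (okE_nil 14)⟩)⟩)⟩)⟩)⟩)⟩)⟩)⟩)⟩)⟩)⟩)⟩)⟩)⟩)⟩)⟩)⟩)⟩)⟩)⟩)⟩)⟩)⟩)⟩)⟩)⟩)⟩)⟩)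

noncomputable def g134 : Net := (Net.cons (nat_lit 1) (nat_lit 1104) (Net.cons (nat_lit 2) (nat_lit 512) (Net.cons (nat_lit 4) (nat_lit 8) (Net.cons (nat_lit 8) (nat_lit 11) (Net.cons (nat_lit 4) (nat_lit 12) (Net.cons (nat_lit 2) (nat_lit 530) (Net.cons (nat_lit 1) (nat_lit 4097) Net.nil)))))))

theorem g134_ok : Net.ok 14 g134 = true := by decide +kernel

noncomputable def g135 : Net := (Net.cons (nat_lit 1) (nat_lit 64) (Net.cons (nat_lit 2) (nat_lit 512) (Net.cons (nat_lit 4) (nat_lit 516) (Net.cons (nat_lit 8) (nat_lit 36) (Net.cons (nat_lit 4) (nat_lit 527) (Net.cons (nat_lit 2) (nat_lit 50) (Net.cons (nat_lit 1) (nat_lit 260) Net.nil)))))))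

theorem g135_ok : Net.ok 14 g135 = true := by decide +kernel

noncomputable def tb_c16_K : List Net := [g134, g135, n_e]

theorem tb_c16_K_ok : okE 14 tb_c16_K = true := (okE_cons.2 ⟨g134_ok, (okE_cons.2 ⟨g135_ok, (okE_cons.2 ⟨n_e_ok, (okE_nil 14)⟩)⟩)⟩)

noncomputable def tb_c16_cnt_EG : List Net := [n_e, g92, g93, g91, g90, g89, n_m, n_s1, n_s2, n_s3, n_s4, n_a, g7, g3, g4, g14, g10, g11, g21, g17, g18, g28, g24, g25, g35, g36, g31, g32]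

theorem tb_c16_cnt_EG_ok : okE 14 tb_c16_cnt_EG = true := (okE_cons.2 ⟨n_e_ok, (okE_cons.2 ⟨g92_ok, (okE_cons.2 ⟨g93_ok, (okE_cons.2 ⟨g91_ok, (okE_cons.2 ⟨g90_ok, (okE_cons.2 ⟨g89_ok, (okE_cons.2 ⟨n_m_ok, (okE_cons.2 ⟨n_s1_ok, (okE_cons.2 ⟨n_s2_ok, (okE_cons.2 ⟨n_s3_ok, (okE_cons.2 ⟨n_s4_ok, (okE_cons.2 ⟨n_a_ok, (okE_cons.2 ⟨g7_ok, (okE_cons.2 ⟨g3_ok, (okE_cons.2 ⟨g4_ok, (okE_cons.2 ⟨g14_ok, (okE_cons.2 ⟨g10_ok, (okE_cons.2 ⟨g11_ok, (okE_cons.2 ⟨g21_ok, (okE_cons.2 ⟨g17_ok, (okE_cons.2 ⟨g18_ok, (okE_cons.2 ⟨g28_ok, (okE_cons.2 ⟨g24_ok, (okE_cons.2 ⟨g25_ok, (okE_cons.2 ⟨g35_ok, (okE_cons.2 ⟨g36_ok, (okE_cons.2 ⟨g31_ok, (okE_cons.2 ⟨g32_ok, (okE_nil 14)⟩)⟩)⟩)⟩)⟩)⟩)⟩)⟩)⟩)⟩)⟩)⟩)⟩)⟩)⟩)⟩)⟩)⟩)⟩)⟩)⟩)⟩)⟩)⟩)⟩)⟩)⟩)⟩)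

noncomputable def g137 : Net := (Net.cons (nat_lit 1) (nat_lit 272) (Net.cons (nat_lit 2) (nat_lit 48) (Net.cons (nat_lit 4) (nat_lit 768) (Net.cons (nat_lit 8) (nat_lit 52) (Net.cons (nat_lit 4) (nat_lit 781) (Net.cons (nat_lit 2) (nat_lit 258) (Net.cons (nat_lit 1) (nat_lit 325) Net.nil)))))))

theorem g137_ok : Net.ok 14 g137 = true := by decide +kernel

noncomputable def tb_c17_K : List Net := [g137, n_e]

theorem tb_c17_K_ok : okE 14 tb_c17_K = true := (okE_cons.2 ⟨g137_ok, (okE_cons.2 ⟨n_e_ok, (okE_nil 14)⟩)⟩)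

noncomputable def tb_c17_cnt_EG : List Net := [n_e, g92, g93, g91, g90, g89, n_m, n_s1, n_s2, n_s3, n_s4, n_a, g7, g3, g4, g14, g10, g11, g21, g17, g18, g28, g24, g25, g35, g36, g31, g32]

theorem tb_c17_cnt_EG_ok : okE 14 tb_c17_cnt_EG = true := (okE_cons.2 ⟨n_e_ok, (okE_cons.2 ⟨g92_ok, (okE_cons.2 ⟨g93_ok, (okE_cons.2 ⟨g91_ok, (okE_cons.2 ⟨g90_ok, (okE_cons.2 ⟨g89_ok, (okE_cons.2 ⟨n_m_ok, (okE_cons.2 ⟨n_s1_ok, (okE_cons.2 ⟨n_s2_ok, (okE_cons.2 ⟨n_s3_ok, (okE_cons.2 ⟨n_s4_ok, (okE_cons.2 ⟨n_a_ok, (okE_cons.2 ⟨g7_ok, (okE_cons.2 ⟨g3_ok, (okE_cons.2 ⟨g4_ok, (okE_cons.2 ⟨g14_ok, (okE_cons.2 ⟨g10_ok, (okE_cons.2 ⟨g11_ok, (okE_cons.2 ⟨g21_ok, (okE_cons.2 ⟨g17_ok, (okE_cons.2 ⟨g18_ok, (okE_cons.2 ⟨g28_ok, (okE_cons.2 ⟨g24_ok, (okE_cons.2 ⟨g25_ok, (okE_cons.2 ⟨g35_ok, (okE_cons.2 ⟨g36_ok, (okE_cons.2 ⟨g31_ok, (okE_cons.2 ⟨g32_ok, (okE_nil 14)⟩)⟩)⟩)⟩)⟩)⟩)⟩)⟩)⟩)⟩)⟩)⟩)⟩)⟩)⟩)⟩)⟩)⟩)⟩)⟩)⟩)⟩)⟩)⟩)⟩)⟩)⟩)⟩)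

noncomputable def g139 : Net := (Net.cons (nat_lit 1) (nat_lit 256) (Net.cons (nat_lit 2) (nat_lit 32) (Net.cons (nat_lit 4) (nat_lit 256) (Net.cons (nat_lit 8) (nat_lit 22) (Net.cons (nat_lit 4) (nat_lit 263) (Net.cons (nat_lit 2) (nat_lit 819) (Net.cons (nat_lit 1) (nat_lit 4161) Net.nil)))))))

theorem g139_ok : Net.ok 14 g139 = true := by decide +kernel

noncomputable def tb_c18_K : List Net := [g139, n_e]

theorem tb_c18_K_ok : okE 14 tb_c18_K = true := (okE_cons.2 ⟨g139_ok, (okE_cons.2 ⟨n_e_ok, (okE_nil 14)⟩)⟩)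

noncomputable def tb_c18_cnt_EG : List Net := [n_e, g92, g93, g91, g90, g89, n_m, n_s1, n_s2, n_s3, n_s4, n_a, g7, g3, g4, g14, g10, g11, g21, g17, g18, g28, g24, g25, g35, g36, g31, g32]

theorem tb_c18_cnt_EG_ok : okE 14 tb_c18_cnt_EG = true := (okE_cons.2 ⟨n_e_ok, (okE_cons.2 ⟨g92_ok, (okE_cons.2 ⟨g93_ok, (okE_cons.2 ⟨g91_ok, (okE_cons.2 ⟨g90_ok, (okE_cons.2 ⟨g89_ok, (okE_cons.2 ⟨n_m_ok, (okE_cons.2 ⟨n_s1_ok, (okE_cons.2 ⟨n_s2_ok, (okE_cons.2 ⟨n_s3_ok, (okE_cons.2 ⟨n_s4_ok, (okE_cons.2 ⟨n_a_ok, (okE_cons.2 ⟨g7_ok, (okE_cons.2 ⟨g3_ok, (okE_cons.2 ⟨g4_ok, (okE_cons.2 ⟨g14_ok, (okE_cons.2 ⟨g10_ok, (okE_cons.2 ⟨g11_ok, (okE_cons.2 ⟨g21_ok, (okE_cons.2 ⟨g17_ok, (okE_cons.2 ⟨g18_ok, (okE_cons.2 ⟨g28_ok, (okE_cons.2 ⟨g24_ok, (okE_cons.2 ⟨g25_ok, (okE_cons.2 ⟨g35_ok, (okE_cons.2 ⟨g36_ok, (okE_cons.2 ⟨g31_ok, (okE_cons.2 ⟨g32_ok, (okE_nil 14)⟩)⟩)⟩)⟩)⟩)⟩)⟩)⟩)⟩)⟩)⟩)⟩)⟩)⟩)⟩)⟩)⟩)⟩)⟩)⟩)⟩)⟩)⟩)⟩)⟩)⟩)⟩)⟩)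

noncomputable def g141 : Net := (Net.cons (nat_lit 1) (nat_lit 1360) (Net.cons (nat_lit 2) (nat_lit 256) (Net.cons (nat_lit 4) (nat_lit 4) (Net.cons (nat_lit 8) (nat_lit 14) (Net.cons (nat_lit 4) (nat_lit 15) (Net.cons (nat_lit 2) (nat_lit 50) (Net.cons (nat_lit 1) (nat_lit 5204) Net.nil)))))))

theorem g141_ok : Net.ok 14 g141 = true := by decide +kernel

noncomputable def tb_c19_K : List Net := [g141, n_e]

theorem tb_c19_K_ok : okE 14 tb_c19_K = true := (okE_cons.2 ⟨g141_ok, (okE_cons.2 ⟨n_e_ok, (okE_nil 14)⟩)⟩)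

noncomputable def tb_c19_cnt_EG : List Net := [n_e, g92, g93, g91, g90, g89, n_m, n_s1, n_s2, n_s3, n_s4, n_a, g7, g3, g4, g14, g10, g11, g21, g17, g18, g28, g24, g25, g35, g36, g31, g32]

theorem tb_c19_cnt_EG_ok : okE 14 tb_c19_cnt_EG = true := (okE_cons.2 ⟨n_e_ok, (okE_cons.2 ⟨g92_ok, (okE_cons.2 ⟨g93_ok, (okE_cons.2 ⟨g91_ok, (okE_cons.2 ⟨g90_ok, (okE_cons.2 ⟨g89_ok, (okE_cons.2 ⟨n_m_ok, (okE_cons.2 ⟨n_s1_ok, (okE_cons.2 ⟨n_s2_ok, (okE_cons.2 ⟨n_s3_ok, (okE_cons.2 ⟨n_s4_ok, (okE_cons.2 ⟨n_a_ok, (okE_cons.2 ⟨g7_ok, (okE_cons.2 ⟨g3_ok, (okE_cons.2 ⟨g4_ok, (okE_cons.2 ⟨g14_ok, (okE_cons.2 ⟨g10_ok, (okE_cons.2 ⟨g11_ok, (okE_cons.2 ⟨g21_ok, (okE_cons.2 ⟨g17_ok, (okE_cons.2 ⟨g18_ok, (okE_cons.2 ⟨g28_ok, (okE_cons.2 ⟨g24_ok, (okE_cons.2 ⟨g25_ok, (okE_cons.2 ⟨g35_ok, (okE_cons.2 ⟨g36_ok, (okE_cons.2 ⟨g31_ok, (okE_cons.2 ⟨g32_ok, (okE_nil 14)⟩)⟩)⟩)⟩)⟩)⟩)⟩)⟩)⟩)⟩)⟩)⟩)⟩)⟩)⟩)⟩)⟩)⟩)⟩)⟩)⟩)⟩)⟩)⟩)⟩)⟩)⟩)⟩)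

noncomputable def g143 : Net := (Net.cons (nat_lit 1) (nat_lit 1088) (Net.cons (nat_lit 2) (nat_lit 560) (Net.cons (nat_lit 4) (nat_lit 264) (Net.cons (nat_lit 8) (nat_lit 30) (Net.cons (nat_lit 4) (nat_lit 265) (Net.cons (nat_lit 2) (nat_lit 784) (Net.cons (nat_lit 1) (nat_lit 1109) Net.nil)))))))

theorem g143_ok : Net.ok 14 g143 = true := by decide +kernel

noncomputable def tb_c20_K : List Net := [g143, n_e]

theorem tb_c20_K_ok : okE 14 tb_c20_K = true := (okE_cons.2 ⟨g143_ok, (okE_cons.2 ⟨n_e_ok, (okE_nil 14)⟩)⟩)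

noncomputable def tb_c20_cnt_EG : List Net := [n_e, g92, g93, g91, g90, g89, n_m, n_s1, n_s2, n_s3, n_s4, n_a, g7, g3, g4, g14, g10, g11, g21, g17, g18, g28, g24, g25, g35, g36, g31, g32]

theorem tb_c20_cnt_EG_ok : okE 14 tb_c20_cnt_EG = true := (okE_cons.2 ⟨n_e_ok, (okE_cons.2 ⟨g92_ok, (okE_cons.2 ⟨g93_ok, (okE_cons.2 ⟨g91_ok, (okE_cons.2 ⟨g90_ok, (okE_cons.2 ⟨g89_ok, (okE_cons.2 ⟨n_m_ok, (okE_cons.2 ⟨n_s1_ok, (okE_cons.2 ⟨n_s2_ok, (okE_cons.2 ⟨n_s3_ok, (okE_cons.2 ⟨n_s4_ok, (okE_cons.2 ⟨n_a_ok, (okE_cons.2 ⟨g7_ok, (okE_cons.2 ⟨g3_ok, (okE_cons.2 ⟨g4_ok, (okE_cons.2 ⟨g14_ok, (okE_cons.2 ⟨g10_ok, (okE_cons.2 ⟨g11_ok, (okE_cons.2 ⟨g21_ok, (okE_cons.2 ⟨g17_ok, (okE_cons.2 ⟨g18_ok, (okE_cons.2 ⟨g28_ok, (okE_cons.2 ⟨g24_ok, (okE_cons.2 ⟨g25_ok, (okE_cons.2 ⟨g35_ok, (okE_cons.2 ⟨g36_ok, (okE_cons.2 ⟨g31_ok, (okE_cons.2 ⟨g32_ok, (okE_nil 14)⟩)⟩)⟩)⟩)⟩)⟩)⟩)⟩)⟩)⟩)⟩)⟩)⟩)⟩)⟩)⟩)⟩)⟩)⟩)⟩)⟩)⟩)⟩)⟩)⟩)⟩)⟩)⟩)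

noncomputable def g145 : Net := (Net.cons (nat_lit 1) (nat_lit 1360) (Net.cons (nat_lit 2) (nat_lit 528) (Net.cons (nat_lit 4) (nat_lit 256) (Net.cons (nat_lit 8) (nat_lit 22) (Net.cons (nat_lit 4) (nat_lit 261) (Net.cons (nat_lit 2) (nat_lit 817) (Net.cons (nat_lit 1) (nat_lit 4353) Net.nil)))))))

theorem g145_ok : Net.ok 14 g145 = true := by decide +kernel

noncomputable def tb_c21_K : List Net := [g145, n_e]

theorem tb_c21_K_ok : okE 14 tb_c21_K = true := (okE_cons.2 ⟨g145_ok, (okE_cons.2 ⟨n_e_ok, (okE_nil 14)⟩)⟩)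

noncomputable def tb_c21_cnt_EG : List Net := [n_e, g92, g93, g91, g90, g89, n_m, n_s1, n_s2, n_s3, n_s4, n_a, g7, g3, g4, g14, g10, g11, g21, g17, g18, g28, g24, g25, g35, g36, g31, g32]

theorem tb_c21_cnt_EG_ok : okE 14 tb_c21_cnt_EG = true := (okE_cons.2 ⟨n_e_ok, (okE_cons.2 ⟨g92_ok, (okE_cons.2 ⟨g93_ok, (okE_cons.2 ⟨g91_ok, (okE_cons.2 ⟨g90_ok, (okE_cons.2 ⟨g89_ok, (okE_cons.2 ⟨n_m_ok, (okE_cons.2 ⟨n_s1_ok, (okE_cons.2 ⟨n_s2_ok, (okE_cons.2 ⟨n_s3_ok, (okE_cons.2 ⟨n_s4_ok, (okE_cons.2 ⟨n_a_ok, (okE_cons.2 ⟨g7_ok, (okE_cons.2 ⟨g3_ok, (okE_cons.2 ⟨g4_ok, (okE_cons.2 ⟨g14_ok, (okE_cons.2 ⟨g10_ok, (okE_cons.2 ⟨g11_ok, (okE_cons.2 ⟨g21_ok, (okE_cons.2 ⟨g17_ok, (okE_cons.2 ⟨g18_ok, (okE_cons.2 ⟨g28_ok, (okE_cons.2 ⟨g24_ok, (okE_cons.2 ⟨g25_ok, (okE_cons.2 ⟨g35_ok, (okE_cons.2 ⟨g36_ok, (okE_cons.2 ⟨g31_ok, (okE_cons.2 ⟨g32_ok, (okE_nil 14)⟩)⟩)⟩)⟩)⟩)⟩)⟩)⟩)⟩)⟩)⟩)⟩)⟩)⟩)⟩)⟩)⟩)⟩)⟩)⟩)⟩)⟩)⟩)⟩)⟩)⟩)⟩)⟩)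

noncomputable def g147 : Net := (Net.cons (nat_lit 1) (nat_lit 1104) (Net.cons (nat_lit 4) (nat_lit 512) (Net.cons (nat_lit 8) (nat_lit 40) (Net.cons (nat_lit 4) (nat_lit 525) (Net.cons (nat_lit 2) (nat_lit 2) (Net.cons (nat_lit 1) (nat_lit 1089) Net.nil))))))

theorem g147_ok : Net.ok 14 g147 = true := by decide +kernel

noncomputable def tb_c22_K : List Net := [g147, n_e]

theorem tb_c22_K_ok : okE 14 tb_c22_K = true := (okE_cons.2 ⟨g147_ok, (okE_cons.2 ⟨n_e_ok, (okE_nil 14)⟩)⟩)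

noncomputable def tb_c22_cnt_EG : List Net := [n_e, g92, g93, g91, g90, g89, n_m, n_s1, n_s2, n_s3, n_s4, n_a, g7, g3, g4, g14, g10, g11, g21, g17, g18, g28, g24, g25, g35, g36, g31, g32]

theorem tb_c22_cnt_EG_ok : okE 14 tb_c22_cnt_EG = true := (okE_cons.2 ⟨n_e_ok, (okE_cons.2 ⟨g92_ok, (okE_cons.2 ⟨g93_ok, (okE_cons.2 ⟨g91_ok, (okE_cons.2 ⟨g90_ok, (okE_cons.2 ⟨g89_ok, (okE_cons.2 ⟨n_m_ok, (okE_cons.2 ⟨n_s1_ok, (okE_cons.2 ⟨n_s2_ok, (okE_cons.2 ⟨n_s3_ok, (okE_cons.2 ⟨n_s4_ok, (okE_cons.2 ⟨n_a_ok, (okE_cons.2 ⟨g7_ok, (okE_cons.2 ⟨g3_ok, (okE_cons.2 ⟨g4_ok, (okE_cons.2 ⟨g14_ok, (okE_cons.2 ⟨g10_ok, (okE_cons.2 ⟨g11_ok, (okE_cons.2 ⟨g21_ok, (okE_cons.2 ⟨g17_ok, (okE_cons.2 ⟨g18_ok, (okE_cons.2 ⟨g28_ok, (okE_cons.2 ⟨g24_ok, (okE_cons.2 ⟨g25_ok, (okE_cons.2 ⟨g35_ok, (okE_cons.2 ⟨g36_ok, (okE_cons.2 ⟨g31_ok, (okE_cons.2 ⟨g32_ok, (okE_nil 14)⟩)⟩)⟩)⟩)⟩)⟩)⟩)⟩)⟩)⟩)⟩)⟩)⟩)⟩)⟩)⟩)⟩)⟩)⟩)⟩)⟩)⟩)⟩)⟩)⟩)⟩)⟩)⟩)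

noncomputable def g149 : Net := (Net.cons (nat_lit 1) (nat_lit 1284) (Net.cons (nat_lit 2) (nat_lit 48) (Net.cons (nat_lit 4) (nat_lit 512) (Net.cons (nat_lit 8) (nat_lit 41) (Net.cons (nat_lit 4) (nat_lit 516) (Net.cons (nat_lit 2) (nat_lit 547) (Net.cons (nat_lit 1) (nat_lit 5380) Net.nil)))))))

theorem g149_ok : Net.ok 14 g149 = true := by decide +kernel

noncomputable def g150 : Net := (Net.cons (nat_lit 1) (nat_lit 1284) (Net.cons (nat_lit 2) (nat_lit 256) (Net.cons (nat_lit 4) (nat_lit 768) (Net.cons (nat_lit 8) (nat_lit 52) (Net.cons (nat_lit 4) (nat_lit 776) (Net.cons (nat_lit 2) (nat_lit 770) (Net.cons (nat_lit 1) (nat_lit 4177) Net.nil)))))))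

theorem g150_ok : Net.ok 14 g150 = true := by decide +kernel

noncomputable def tb_c23_K : List Net := [g149, g150, n_e]

theorem tb_c23_K_ok : okE 14 tb_c23_K = true := (okE_cons.2 ⟨g149_ok, (okE_cons.2 ⟨g150_ok, (okE_cons.2 ⟨n_e_ok, (okE_nil 14)⟩)⟩)⟩)

noncomputable def tb_c23_cnt_EG : List Net := [n_e, g92, g93, g91, g90, g89, n_m, n_s1, n_s2, n_s3, n_s4, n_a, g7, g3, g4, g14, g10, g11, g21, g17, g18, g28, g24, g25, g35, g36, g31, g32]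

theorem tb_c23_cnt_EG_ok : okE 14 tb_c23_cnt_EG = true := (okE_cons.2 ⟨n_e_ok, (okE_cons.2 ⟨g92_ok, (okE_cons.2 ⟨g93_ok, (okE_cons.2 ⟨g91_ok, (okE_cons.2 ⟨g90_ok, (okE_cons.2 ⟨g89_ok, (okE_cons.2 ⟨n_m_ok, (okE_cons.2 ⟨n_s1_ok, (okE_cons.2 ⟨n_s2_ok, (okE_cons.2 ⟨n_s3_ok, (okE_cons.2 ⟨n_s4_ok, (okE_cons.2 ⟨n_a_ok, (okE_cons.2 ⟨g7_ok, (okE_cons.2 ⟨g3_ok, (okE_cons.2 ⟨g4_ok, (okE_cons.2 ⟨g14_ok, (okE_cons.2 ⟨g10_ok, (okE_cons.2 ⟨g11_ok, (okE_cons.2 ⟨g21_ok, (okE_cons.2 ⟨g17_ok, (okE_cons.2 ⟨g18_ok, (okE_cons.2 ⟨g28_ok, (okE_cons.2 ⟨g24_ok, (okE_cons.2 ⟨g25_ok, (okE_cons.2 ⟨g35_ok, (okE_cons.2 ⟨g36_ok, (okE_cons.2 ⟨g31_ok, (okE_cons.2 ⟨g32_ok, (okE_nil 14)⟩)⟩)⟩)⟩)⟩)⟩)⟩)⟩)⟩)⟩)⟩)⟩)⟩)⟩)⟩)⟩)⟩)⟩)⟩)⟩)⟩)⟩)⟩)⟩)⟩)⟩)⟩)⟩)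

noncomputable def g152 : Net := (Net.cons (nat_lit 1) (nat_lit 336) (Net.cons (nat_lit 2) (nat_lit 48) (Net.cons (nat_lit 8) (nat_lit 9) (Net.cons (nat_lit 4) (nat_lit 6) (Net.cons (nat_lit 2) (nat_lit 800) (Net.cons (nat_lit 1) (nat_lit 5121) Net.nil))))))

theorem g152_ok : Net.ok 14 g152 = true := by decide +kernel

noncomputable def tb_c24_K : List Net := [g152, n_e]

theorem tb_c24_K_ok : okE 14 tb_c24_K = true := (okE_cons.2 ⟨g152_ok, (okE_cons.2 ⟨n_e_ok, (okE_nil 14)⟩)⟩)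

noncomputable def tb_c24_cnt_EG : List Net := [n_e, g92, g93, g91, g90, g89, n_m, n_s1, n_s2, n_s3, n_s4, n_a, g7, g3, g4, g14, g10, g11, g21, g17, g18, g28, g24, g25, g35, g36, g31, g32]

theorem tb_c24_cnt_EG_ok : okE 14 tb_c24_cnt_EG = true := (okE_cons.2 ⟨n_e_ok, (okE_cons.2 ⟨g92_ok, (okE_cons.2 ⟨g93_ok, (okE_cons.2 ⟨g91_ok, (okE_cons.2 ⟨g90_ok, (okE_cons.2 ⟨g89_ok, (okE_cons.2 ⟨n_m_ok, (okE_cons.2 ⟨n_s1_ok, (okE_cons.2 ⟨n_s2_ok, (okE_cons.2 ⟨n_s3_ok, (okE_cons.2 ⟨n_s4_ok, (okE_cons.2 ⟨n_a_ok, (okE_cons.2 ⟨g7_ok, (okE_cons.2 ⟨g3_ok, (okE_cons.2 ⟨g4_ok, (okE_cons.2 ⟨g14_ok, (okE_cons.2 ⟨g10_ok, (okE_cons.2 ⟨g11_ok, (okE_cons.2 ⟨g21_ok, (okE_cons.2 ⟨g17_ok, (okE_cons.2 ⟨g18_ok, (okE_cons.2 ⟨g28_ok, (okE_cons.2 ⟨g24_ok, (okE_cons.2 ⟨g25_ok, (okE_cons.2 ⟨g35_ok, (okE_cons.2 ⟨g36_ok, (okE_cons.2 ⟨g31_ok, (okE_cons.2 ⟨g32_ok, (okE_nil 14)⟩)⟩)⟩)⟩)⟩)⟩)⟩)⟩)⟩)⟩)⟩)⟩)⟩)⟩)⟩)⟩)⟩)⟩)⟩)⟩)⟩)⟩)⟩)⟩)⟩)⟩)⟩)⟩)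

noncomputable def g154 : Net := (Net.cons (nat_lit 1) (nat_lit 1280) (Net.cons (nat_lit 2) (nat_lit 512) (Net.cons (nat_lit 4) (nat_lit 768) (Net.cons (nat_lit 8) (nat_lit 52) (Net.cons (nat_lit 4) (nat_lit 776) (Net.cons (nat_lit 2) (nat_lit 34) (Net.cons (nat_lit 1) (nat_lit 1109) Net.nil)))))))

theorem g154_ok : Net.ok 14 g154 = true := by decide +kernel

noncomputable def tb_c25_K : List Net := [g154, n_e]

theorem tb_c25_K_ok : okE 14 tb_c25_K = true := (okE_cons.2 ⟨g154_ok, (okE_cons.2 ⟨n_e_ok, (okE_nil 14)⟩)⟩)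

noncomputable def tb_c25_cnt_EG : List Net := [n_e, g92, g93, g91, g90, g89, n_m, n_s1, n_s2, n_s3, n_s4, n_a, g7, g3, g4, g14, g10, g11, g21, g17, g18, g28, g24, g25, g35, g36, g31, g32]

theorem tb_c25_cnt_EG_ok : okE 14 tb_c25_cnt_EG = true := (okE_cons.2 ⟨n_e_ok, (okE_cons.2 ⟨g92_ok, (okE_cons.2 ⟨g93_ok, (okE_cons.2 ⟨g91_ok, (okE_cons.2 ⟨g90_ok, (okE_cons.2 ⟨g89_ok, (okE_cons.2 ⟨n_m_ok, (okE_cons.2 ⟨n_s1_ok, (okE_cons.2 ⟨n_s2_ok, (okE_cons.2 ⟨n_s3_ok, (okE_cons.2 ⟨n_s4_ok, (okE_cons.2 ⟨n_a_ok, (okE_cons.2 ⟨g7_ok, (okE_cons.2 ⟨g3_ok, (okE_cons.2 ⟨g4_ok, (okE_cons.2 ⟨g14_ok, (okE_cons.2 ⟨g10_ok, (okE_cons.2 ⟨g11_ok, (okE_cons.2 ⟨g21_ok, (okE_cons.2 ⟨g17_ok, (okE_cons.2 ⟨g18_ok, (okE_cons.2 ⟨g28_ok, (okE_cons.2 ⟨g24_ok, (okE_cons.2 ⟨g25_ok, (okE_cons.2 ⟨g35_ok, (okE_cons.2 ⟨g36_ok, (okE_cons.2 ⟨g31_ok, (okE_cons.2 ⟨g32_ok, (okE_nil 14)⟩)⟩)⟩)⟩)⟩)⟩)⟩)⟩)⟩)⟩)⟩)⟩)⟩)⟩)⟩)⟩)⟩)⟩)⟩)⟩)⟩)⟩)⟩)⟩)⟩)⟩)⟩)⟩)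

noncomputable def g156 : Net := (Net.cons (nat_lit 1) (nat_lit 1344) (Net.cons (nat_lit 2) (nat_lit 256) (Net.cons (nat_lit 4) (nat_lit 256) (Net.cons (nat_lit 8) (nat_lit 16) (Net.cons (nat_lit 4) (nat_lit 271) (Net.cons (nat_lit 2) (nat_lit 34) (Net.cons (nat_lit 1) (nat_lit 1029) Net.nil)))))))

theorem g156_ok : Net.ok 14 g156 = true := by decide +kernel

noncomputable def tb_c26_K : List Net := [g156, n_e]

theorem tb_c26_K_ok : okE 14 tb_c26_K = true := (okE_cons.2 ⟨g156_ok, (okE_cons.2 ⟨n_e_ok, (okE_nil 14)⟩)⟩)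

noncomputable def tb_c26_cnt_EG : List Net := [n_e, g92, g93, g91, g90, g89, n_m, n_s1, n_s2, n_s3, n_s4, n_a, g7, g3, g4, g14, g10, g11, g21, g17, g18, g28, g24, g25, g35, g36, g31, g32]

theorem tb_c26_cnt_EG_ok : okE 14 tb_c26_cnt_EG = true := (okE_cons.2 ⟨n_e_ok, (okE_cons.2 ⟨g92_ok, (okE_cons.2 ⟨g93_ok, (okE_cons.2 ⟨g91_ok, (okE_cons.2 ⟨g90_ok, (okE_cons.2 ⟨g89_ok, (okE_cons.2 ⟨n_m_ok, (okE_cons.2 ⟨n_s1_ok, (okE_cons.2 ⟨n_s2_ok, (okE_cons.2 ⟨n_s3_ok, (okE_cons.2 ⟨n_s4_ok, (okE_cons.2 ⟨n_a_ok, (okE_cons.2 ⟨g7_ok, (okE_cons.2 ⟨g3_ok, (okE_cons.2 ⟨g4_ok, (okE_cons.2 ⟨g14_ok, (okE_cons.2 ⟨g10_ok, (okE_cons.2 ⟨g11_ok, (okE_cons.2 ⟨g21_ok, (okE_cons.2 ⟨g17_ok, (okE_cons.2 ⟨g18_ok, (okE_cons.2 ⟨g28_ok, (okE_cons.2 ⟨g24_ok, (okE_cons.2 ⟨g25_ok, (okE_cons.2 ⟨g35_ok, (okE_cons.2 ⟨g36_ok, (okE_cons.2 ⟨g31_ok, (okE_cons.2 ⟨g32_ok, (okE_nil 14)⟩)⟩)⟩)⟩)⟩)⟩)⟩)⟩)⟩)⟩)⟩)⟩)⟩)⟩)⟩)⟩)⟩)⟩)⟩)⟩)⟩)⟩)⟩)⟩)⟩)⟩)⟩)⟩)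

noncomputable def g158 : Net := (Net.cons (nat_lit 1) (nat_lit 276) (Net.cons (nat_lit 2) (nat_lit 512) (Net.cons (nat_lit 4) (nat_lit 512) (Net.cons (nat_lit 8) (nat_lit 33) (Net.cons (nat_lit 4) (nat_lit 512) (Net.cons (nat_lit 2) (nat_lit 50) (Net.cons (nat_lit 1) (nat_lit 1) Net.nil)))))))

theorem g158_ok : Net.ok 14 g158 = true := by decide +kernel

noncomputable def tb_c27_K : List Net := [g158, n_e]

theorem tb_c27_K_ok : okE 14 tb_c27_K = true := (okE_cons.2 ⟨g158_ok, (okE_cons.2 ⟨n_e_ok, (okE_nil 14)⟩)⟩)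

noncomputable def tb_c27_cnt_EG : List Net := [n_e, g92, g93, g91, g90, g89, n_m, n_s1, n_s2, n_s3, n_s4, n_a, g7, g3, g4, g14, g10, g11, g21, g17, g18, g28, g24, g25, g35, g36, g31, g32]

theorem tb_c27_cnt_EG_ok : okE 14 tb_c27_cnt_EG = true := (okE_cons.2 ⟨n_e_ok, (okE_cons.2 ⟨g92_ok, (okE_cons.2 ⟨g93_ok, (okE_cons.2 ⟨g91_ok, (okE_cons.2 ⟨g90_ok, (okE_cons.2 ⟨g89_ok, (okE_cons.2 ⟨n_m_ok, (okE_cons.2 ⟨n_s1_ok, (okE_cons.2 ⟨n_s2_ok, (okE_cons.2 ⟨n_s3_ok, (okE_cons.2 ⟨n_s4_ok, (okE_cons.2 ⟨n_a_ok, (okE_cons.2 ⟨g7_ok, (okE_cons.2 ⟨g3_ok, (okE_cons.2 ⟨g4_ok, (okE_cons.2 ⟨g14_ok, (okE_cons.2 ⟨g10_ok, (okE_cons.2 ⟨g11_ok, (okE_cons.2 ⟨g21_ok, (okE_cons.2 ⟨g17_ok, (okE_cons.2 ⟨g18_ok, (okE_cons.2 ⟨g28_ok, (okE_cons.2 ⟨g24_ok, (okE_cons.2 ⟨g25_ok, (okE_cons.2 ⟨g35_ok, (okE_cons.2 ⟨g36_ok, (okE_cons.2 ⟨g31_ok, (okE_cons.2 ⟨g32_ok, (okE_nil 14)⟩)⟩)⟩)⟩)⟩)⟩)⟩)⟩)⟩)⟩)⟩)⟩)⟩)⟩)⟩)⟩)⟩)⟩)⟩)⟩)⟩)⟩)⟩)⟩)⟩)⟩)⟩)⟩)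

noncomputable def g160 : Net := (Net.cons (nat_lit 1) (nat_lit 4) (Net.cons (nat_lit 2) (nat_lit 768) (Net.cons (nat_lit 4) (nat_lit 512) (Net.cons (nat_lit 8) (nat_lit 44) (Net.cons (nat_lit 4) (nat_lit 517) (Net.cons (nat_lit 2) (nat_lit 305) (Net.cons (nat_lit 1) (nat_lit 4181) Net.nil)))))))

theorem g160_ok : Net.ok 14 g160 = true := by decide +kernel

noncomputable def tb_c28_K : List Net := [g160, n_e]

theorem tb_c28_K_ok : okE 14 tb_c28_K = true := (okE_cons.2 ⟨g160_ok, (okE_cons.2 ⟨n_e_ok, (okE_nil 14)⟩)⟩)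

noncomputable def tb_c28_cnt_EG : List Net := [n_e, g92, g93, g91, g90, g89, n_m, n_s1, n_s2, n_s3, n_s4, n_a, g7, g3, g4, g14, g10, g11, g21, g17, g18, g28, g24, g25, g35, g36, g31, g32]

theorem tb_c28_cnt_EG_ok : okE 14 tb_c28_cnt_EG = true := (okE_cons.2 ⟨n_e_ok, (okE_cons.2 ⟨g92_ok, (okE_cons.2 ⟨g93_ok, (okE_cons.2 ⟨g91_ok, (okE_cons.2 ⟨g90_ok, (okE_cons.2 ⟨g89_ok, (okE_cons.2 ⟨n_m_ok, (okE_cons.2 ⟨n_s1_ok, (okE_cons.2 ⟨n_s2_ok, (okE_cons.2 ⟨n_s3_ok, (okE_cons.2 ⟨n_s4_ok, (okE_cons.2 ⟨n_a_ok, (okE_cons.2 ⟨g7_ok, (okE_cons.2 ⟨g3_ok, (okE_cons.2 ⟨g4_ok, (okE_cons.2 ⟨g14_ok, (okE_cons.2 ⟨g10_ok, (okE_cons.2 ⟨g11_ok, (okE_cons.2 ⟨g21_ok, (okE_cons.2 ⟨g17_ok, (okE_cons.2 ⟨g18_ok, (okE_cons.2 ⟨g28_ok, (okE_cons.2 ⟨g24_ok, (okE_cons.2 ⟨g25_ok, (okE_cons.2 ⟨g35_ok, (okE_cons.2 ⟨g36_ok, (okE_cons.2 ⟨g31_ok, (okE_cons.2 ⟨g32_ok, (okE_nil 14)⟩)⟩)⟩)⟩)⟩)⟩)⟩)⟩)⟩)⟩)⟩)⟩)⟩)⟩)⟩)⟩)⟩)⟩)⟩)⟩)⟩)⟩)⟩)⟩)⟩)⟩)⟩)⟩)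

noncomputable def g162 : Net := (Net.cons (nat_lit 1) (nat_lit 1348) (Net.cons (nat_lit 2) (nat_lit 256) (Net.cons (nat_lit 4) (nat_lit 4) (Net.cons (nat_lit 8) (nat_lit 6) (Net.cons (nat_lit 4) (nat_lit 4) (Net.cons (nat_lit 2) (nat_lit 49) (Net.cons (nat_lit 1) (nat_lit 5121) Net.nil)))))))

theorem g162_ok : Net.ok 14 g162 = true := by decide +kernel

noncomputable def tb_c29_K : List Net := [g162, n_e]

theorem tb_c29_K_ok : okE 14 tb_c29_K = true := (okE_cons.2 ⟨g162_ok, (okE_cons.2 ⟨n_e_ok, (okE_nil 14)⟩)⟩)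

noncomputable def tb_c29_cnt_EG : List Net := [n_e, g92, g93, g91, g90, g89, n_m, n_s1, n_s2, n_s3, n_s4, n_a, g7, g3, g4, g14, g10, g11, g21, g17, g18, g28, g24, g25, g35, g36, g31, g32]

theorem tb_c29_cnt_EG_ok : okE 14 tb_c29_cnt_EG = true := (okE_cons.2 ⟨n_e_ok, (okE_cons.2 ⟨g92_ok, (okE_cons.2 ⟨g93_ok, (okE_cons.2 ⟨g91_ok, (okE_cons.2 ⟨g90_ok, (okE_cons.2 ⟨g89_ok, (okE_cons.2 ⟨n_m_ok, (okE_cons.2 ⟨n_s1_ok, (okE_cons.2 ⟨n_s2_ok, (okE_cons.2 ⟨n_s3_ok, (okE_cons.2 ⟨n_s4_ok, (okE_cons.2 ⟨n_a_ok, (okE_cons.2 ⟨g7_ok, (okE_cons.2 ⟨g3_ok, (okE_cons.2 ⟨g4_ok, (okE_cons.2 ⟨g14_ok, (okE_cons.2 ⟨g10_ok, (okE_cons.2 ⟨g11_ok, (okE_cons.2 ⟨g21_ok, (okE_cons.2 ⟨g17_ok, (okE_cons.2 ⟨g18_ok, (okE_cons.2 ⟨g28_ok, (okE_cons.2 ⟨g24_ok, (okE_cons.2 ⟨g25_ok, (okE_cons.2 ⟨g35_ok, (okE_cons.2 ⟨g36_ok, (okE_cons.2 ⟨g31_ok, (okE_cons.2 ⟨g32_ok, (okE_nil 14)⟩)⟩)⟩)⟩)⟩)⟩)⟩)⟩)⟩)⟩)⟩)⟩)⟩)⟩)⟩)⟩)⟩)⟩)⟩)⟩)⟩)⟩)⟩)⟩)⟩)⟩)⟩)⟩)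

noncomputable def tb_nc27_26_cnt_EG : List Net := [g92, g93, n_e, g91, g90, g89, n_m, n_s1, n_s2, n_s3, n_s4, n_a, g7, g3, g4, g14, g10, g11, g21, g17, g18, g28, g24, g25, g35, g36, g31, g32]

theorem tb_nc27_26_cnt_EG_ok : okE 14 tb_nc27_26_cnt_EG = true := (okE_cons.2 ⟨g92_ok, (okE_cons.2 ⟨g93_ok, (okE_cons.2 ⟨n_e_ok, (okE_cons.2 ⟨g91_ok, (okE_cons.2 ⟨g90_ok, (okE_cons.2 ⟨g89_ok, (okE_cons.2 ⟨n_m_ok, (okE_cons.2 ⟨n_s1_ok, (okE_cons.2 ⟨n_s2_ok, (okE_cons.2 ⟨n_s3_ok, (okE_cons.2 ⟨n_s4_ok, (okE_cons.2 ⟨n_a_ok, (okE_cons.2 ⟨g7_ok, (okE_cons.2 ⟨g3_ok, (okE_cons.2 ⟨g4_ok, (okE_cons.2 ⟨g14_ok, (okE_cons.2 ⟨g10_ok, (okE_cons.2 ⟨g11_ok, (okE_cons.2 ⟨g21_ok, (okE_cons.2 ⟨g17_ok, (okE_cons.2 ⟨g18_ok, (okE_cons.2 ⟨g28_ok, (okE_cons.2 ⟨g24_ok, (okE_cons.2 ⟨g25_ok, (okE_cons.2 ⟨g35_ok, (okE_cons.2 ⟨g36_ok, (okE_cons.2 ⟨g31_ok, (okE_cons.2 ⟨g32_ok, (okE_nil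 14)⟩)⟩)⟩)⟩)⟩)⟩)⟩)⟩)⟩)⟩)⟩)⟩)⟩)⟩)⟩)⟩)⟩)⟩)⟩)⟩)⟩)⟩)⟩)⟩)⟩)⟩)⟩)⟩)

noncomputable def tb_nc29_28_cnt_EG : List Net := [g92, g93, n_e, g91, g90, g89, n_m, n_s1, n_s2, n_s3, n_s4, n_a, g7, g3, g4, g14, g10, g11, g21, g17, g18, g28, g24, g25, g35, g36, g31, g32]

theorem tb_nc29_28_cnt_EG_ok : okE 14 tb_nc29_28_cnt_EG = true := (okE_cons.2 ⟨g92_ok, (okE_cons.2 ⟨g93_ok, (okE_cons.2 ⟨n_e_ok, (okE_cons.2 ⟨g91_ok, (okE_cons.2 ⟨g90_ok, (okE_cons.2 ⟨g89_ok, (okE_cons.2 ⟨n_m_ok, (okE_cons.2 ⟨n_s1_ok, (okE_cons.2 ⟨n_s2_ok, (okE_cons.2 ⟨n_s3_ok, (okE_cons.2 ⟨n_s4_ok, (okE_cons.2 ⟨n_a_ok, (okE_cons.2 ⟨g7_ok, (okE_cons.2 ⟨g3_ok, (okE_cons.2 ⟨g4_ok, (okE_cons.2 ⟨g14_ok, (okE_cons.2 ⟨g10_ok, (okE_cons.2 ⟨g11_ok, (okE_cons.2 ⟨g21_ok, (okE_cons.2 ⟨g17_ok, (okE_cons.2 ⟨g18_ok, (okE_cons.2 ⟨g28_ok, (okE_cons.2 ⟨g24_ok, (okE_cons.2 ⟨g25_ok, (okE_cons.2 ⟨g35_ok, (okE_cons.2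 ⟨g36_ok, (okE_cons.2 ⟨g31_ok, (okE_cons.2 ⟨g32_ok, (okE_nil 14)⟩)⟩)⟩)⟩)⟩)⟩)⟩)⟩)⟩)⟩)⟩)⟩)⟩)⟩)⟩)⟩)⟩)⟩)⟩)⟩)⟩)⟩)⟩)⟩)⟩)⟩)⟩)⟩)

noncomputable def EB : List Net := [n_e, n_a, n_s]

theorem EB_ok : okE 14 EB = true := (okE_cons.2 ⟨n_e_ok, (okE_cons.2 ⟨n_a_ok, (okE_cons.2 ⟨n_s_ok, (okE_nil 14)⟩)⟩)⟩)

noncomputable def EK : List Net := [n_e, n_m, n_s1, n_s2, n_s3, n_s4]

theorem EK_ok : okE 14 EK = true := (okE_cons.2 ⟨n_e_ok, (okE_cons.2 ⟨n_m_ok, (okE_cons.2 ⟨n_s1_ok, (okE_cons.2 ⟨n_s2_ok, (okE_cons.2 ⟨n_s3_ok, (okE_cons.2 ⟨n_s4_ok, (okE_nil 14)⟩)⟩)⟩)⟩)⟩)⟩)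

noncomputable def ES : List Net := [n_e, n_t, n_u, n_w, n_w1, n_w2, n_m, n_tau]

theorem ES_ok : okE 14 ES = true := (okE_cons.2 ⟨n_e_ok, (okE_cons.2 ⟨n_t_ok, (okE_cons.2 ⟨n_u_ok, (okE_cons.2 ⟨n_w_ok, (okE_cons.2 ⟨n_w1_ok, (okE_cons.2 ⟨n_w2_ok, (okE_cons.2 ⟨n_m_ok, (okE_cons.2 ⟨n_tau_ok, (okE_nil 14)⟩)⟩)⟩)⟩)⟩)⟩)⟩)⟩)

noncomputable def V164 : List Net := [n_e]

theorem V164_ok : okE 14 V164 = true := (okE_cons.2 ⟨n_e_ok, (okE_nil 14)⟩)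

noncomputable def g166 : Net := (Net.cons (nat_lit 1) (nat_lit 340) (Net.cons (nat_lit 2) (nat_lit 32) (Net.cons (nat_lit 4) (nat_lit 256) (Net.cons (nat_lit 8) (nat_lit 18) (Net.cons (nat_lit 4) (nat_lit 264) (Net.cons (nat_lit 2) (nat_lit 51) (Net.cons (nat_lit 1) (nat_lit 1300) Net.nil)))))))

theorem g166_ok : Net.ok 14 g166 = true := by decide +kernel

noncomputable def g167 : Net := (Net.cons (nat_lit 1) (nat_lit 1040) (Net.cons (nat_lit 2) (nat_lit 288) (Net.cons (nat_lit 4) (nat_lit 8) (Net.cons (nat_lit 8) (nat_lit 9) (Net.cons (nat_lit 2) (nat_lit 51) (Net.cons (nat_lit 1) (nat_lit 16) Net.nil))))))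

theorem g167_ok : Net.ok 14 g167 = true := by decide +kernel

noncomputable def g168 : Net := (Net.cons (nat_lit 1) (nat_lit 256) (Net.cons (nat_lit 4) (nat_lit 264) (Net.cons (nat_lit 8) (nat_lit 24) (Net.cons (nat_lit 4) (nat_lit 264) (Net.cons (nat_lit 2) (nat_lit 816) (Net.cons (nat_lit 1) (nat_lit 1109) Net.nil))))))

theorem g168_ok : Net.ok 14 g168 = true := by decide +kernel

noncomputable def V169 : List Net := [g166, g167, g168]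

theorem V169_ok : okE 14 V169 = true := (okE_cons.2 ⟨g166_ok, (okE_cons.2 ⟨g167_ok, (okE_cons.2 ⟨g168_ok, (okE_nil 14)⟩)⟩)⟩)

noncomputable def g171 : Net := (Net.cons (nat_lit 1) (nat_lit 276) (Net.cons (nat_lit 2) (nat_lit 768) (Net.cons (nat_lit 4) (nat_lit 4) (Net.cons (nat_lit 8) (nat_lit 12) (Net.cons (nat_lit 4) (nat_lit 6) (Net.cons (nat_lit 2) (nat_lit 787) (Net.cons (nat_lit 1) (nat_lit 1364) Net.nil)))))))

theorem g171_ok : Net.ok 14 g171 = true := by decide +kernel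

noncomputable def V172 : List Net := [g171]

theorem V172_ok : okE 14 V172 = true := (okE_cons.2 ⟨g171_ok, (okE_nil 14)⟩)

noncomputable def g174 : Net := (Net.cons (nat_lit 1) (nat_lit 1024) (Net.cons (nat_lit 2) (nat_lit 288) (Net.cons (nat_lit 4) (nat_lit 512) (Net.cons (nat_lit 8) (nat_lit 41) (Net.cons (nat_lit 4) (nat_lit 512) (Net.cons (nat_lit 2) (nat_lit 291) (Net.cons (nat_lit 1) (nat_lit 5) Net.nil)))))))

theorem g174_ok : Net.ok 14 g174 = true := by decide +kernel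

noncomputable def g175 : Net := (Net.cons (nat_lit 1) (nat_lit 260) (Net.cons (nat_lit 2) (nat_lit 256) (Net.cons (nat_lit 4) (nat_lit 256) (Net.cons (nat_lit 8) (nat_lit 16) (Net.cons (nat_lit 4) (nat_lit 256) (Net.cons (nat_lit 2) (nat_lit 769) (Net.cons (nat_lit 1) (nat_lit 1281) Net.nil)))))))

theorem g175_ok : Net.ok 14 g175 = true := by decide +kernel

noncomputable def V176 : List Net := [g174, g174, g175]

theorem V176_ok : okE 14 V176 = true := (okE_cons.2 ⟨g174_ok, (okE_cons.2 ⟨g174_ok, (okE_cons.2 ⟨g175_ok, (okE_nil 14)⟩)⟩)⟩)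

noncomputable def V178 : List Net := [g174]

theorem V178_ok : okE 14 V178 = true := (okE_cons.2 ⟨g174_ok, (okE_nil 14)⟩)

noncomputable def g180 : Net := (Net.cons (nat_lit 1) (nat_lit 16) (Net.cons (nat_lit 8) (nat_lit 13) (Net.cons (nat_lit 4) (nat_lit 2) (Net.cons (nat_lit 2) (nat_lit 258) (Net.cons (nat_lit 1) (nat_lit 21) Net.nil)))))

theorem g180_ok : Net.ok 14 g180 = true := by decide +kernel

noncomputable def V181 : List Net := [g180, g175]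

theorem V181_ok : okE 14 V181 = true := (okE_cons.2 ⟨g180_ok, (okE_cons.2 ⟨g175_ok, (okE_nil 14)⟩)⟩)

noncomputable def g183 : Net := (Net.cons (nat_lit 1) (nat_lit 1284) (Net.cons (nat_lit 2) (nat_lit 256) (Net.cons (nat_lit 4) (nat_lit 256) (Net.cons (nat_lit 8) (nat_lit 16) (Net.cons (nat_lit 4) (nat_lit 256) (Net.cons (nat_lit 2) (nat_lit 770) (Net.cons (nat_lit 1) (nat_lit 257) Net.nil)))))))

theorem g183_ok : Net.ok 14 g183 = true := by decide +kernel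

noncomputable def V184 : List Net := [g183, g180]

theorem V184_ok : okE 14 V184 = true := (okE_cons.2 ⟨g183_ok, (okE_cons.2 ⟨g180_ok, (okE_nil 14)⟩)⟩)

noncomputable def so_E4 : List Net := []

theorem so_E4_ok : okE 14 so_E4 = true := (okE_nil 14)

noncomputable def so_G3 : List Net := [g183, g180]

theorem so_G3_ok : okE 14 so_G3 = true := (okE_cons.2 ⟨g183_ok, (okE_cons.2 ⟨g180_ok, (okE_nil 14)⟩)⟩)

noncomputable def so_E3 : List Net := [g183, g180, g175]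

theorem so_E3_ok : okE 14 so_E3 = true := (okE_cons.2 ⟨g183_ok, (okE_cons.2 ⟨g180_ok, (okE_cons.2 ⟨g175_ok, (okE_nil 14)⟩)⟩)⟩)

noncomputable def so_G2 : List Net := [g174, g183, g180, g175]

theorem so_G2_ok : okE 14 so_G2 = true := (okE_cons.2 ⟨g174_ok, (okE_cons.2 ⟨g183_ok, (okE_cons.2 ⟨g180_ok, (okE_cons.2 ⟨g175_ok, (okE_nil 14)⟩)⟩)⟩)⟩)

noncomputable def so_E2 : List Net := [g174, g183, g180, g175]

theorem so_E2_ok : okE 14 so_E2 = true := (okE_cons.2 ⟨g174_ok, (okE_cons.2 ⟨g183_ok, (okE_cons.2 ⟨g180_ok, (okE_cons.2 ⟨g175_ok, (okE_nil 14)⟩)⟩)⟩)⟩)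

noncomputable def so_G1 : List Net := [g171, g174, g183, g180, g175]

theorem so_G1_ok : okE 14 so_G1 = true := (okE_cons.2 ⟨g171_ok, (okE_cons.2 ⟨g174_ok, (okE_cons.2 ⟨g183_ok, (okE_cons.2 ⟨g180_ok, (okE_cons.2 ⟨g175_ok, (okE_nil 14)⟩)⟩)⟩)⟩)⟩)

noncomputable def so_E1 : List Net := [g171, g166, g167, g168, g174, g183, g180, g175]

theorem so_E1_ok : okE 14 so_E1 = true := (okE_cons.2 ⟨g171_ok, (okE_cons.2 ⟨g166_ok, (okE_cons.2 ⟨g167_ok, (okE_cons.2 ⟨g168_ok, (okE_cons.2 ⟨g174_ok, (okE_cons.2 ⟨g183_ok, (okE_cons.2 ⟨g180_ok, (okE_cons.2 ⟨g175_ok, (okE_nil 14)⟩)⟩)⟩)⟩)⟩)⟩)⟩)⟩)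

noncomputable def so_G0 : List Net := [n_e, g171, g166, g167, g168, g174, g183, g180, g175]

theorem so_G0_ok : okE 14 so_G0 = true := (okE_cons.2 ⟨n_e_ok, (okE_cons.2 ⟨g171_ok, (okE_cons.2 ⟨g166_ok, (okE_cons.2 ⟨g167_ok, (okE_cons.2 ⟨g168_ok, (okE_cons.2 ⟨g174_ok, (okE_cons.2 ⟨g183_ok, (okE_cons.2 ⟨g180_ok, (okE_cons.2 ⟨g175_ok, (okE_nil 14)⟩)⟩)⟩)⟩)⟩)⟩)⟩)⟩)⟩)

noncomputable def so_E0 : List Net := [n_e, n_t, n_u, n_w, n_w1, n_w2, n_m, n_tau, g171, g166, g167, g168, g174, g183, g180, g175]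

theorem so_E0_ok : okE 14 so_E0 = true := (okE_cons.2 ⟨n_e_ok, (okE_cons.2 ⟨n_t_ok, (okE_cons.2 ⟨n_u_ok, (okE_cons.2 ⟨n_w_ok, (okE_cons.2 ⟨n_w1_ok, (okE_cons.2 ⟨n_w2_ok, (okE_cons.2 ⟨n_m_ok, (okE_cons.2 ⟨n_tau_ok, (okE_cons.2 ⟨g171_ok, (okE_cons.2 ⟨g166_ok, (okE_cons.2 ⟨g167_ok, (okE_cons.2 ⟨g168_ok, (okE_cons.2 ⟨g174_ok, (okE_cons.2 ⟨g183_ok, (okE_cons.2 ⟨g180_ok, (okE_cons.2 ⟨g175_ok, (okE_nil 14)⟩)⟩)⟩)⟩)⟩)⟩)⟩)⟩)⟩)⟩)⟩)⟩)⟩)⟩)⟩)⟩)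

noncomputable def EX : List Net := [n_e, n_m, n_j, n_d, n_x]

theorem EX_ok : okE 14 EX = true := (okE_cons.2 ⟨n_e_ok, (okE_cons.2 ⟨n_m_ok, (okE_cons.2 ⟨n_j_ok, (okE_cons.2 ⟨n_d_ok, (okE_cons.2 ⟨n_x_ok, (okE_nil 14)⟩)⟩)⟩)⟩)⟩)

noncomputable def V195 : List Net := [n_e]

theorem V195_ok : okE 14 V195 = true := (okE_cons.2 ⟨n_e_ok, (okE_nil 14)⟩)

noncomputable def g197 : Net := (Net.cons (nat_lit 1) (nat_lit 1024) (Net.cons (nat_lit 2) (nat_lit 768) (Net.cons (nat_lit 4) (nat_lit 512) (Net.cons (nat_lit 8) (nat_lit 36) (Net.cons (nat_lit 4) (nat_lit 526) (Net.cons (nat_lit 2) (nat_lit 562) (Net.cons (nat_lit 1) (nat_lit 5) Net.nil)))))))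

theorem g197_ok : Net.ok 14 g197 = true := by decide +kernel

noncomputable def g198 : Net := (Net.cons (nat_lit 1) (nat_lit 320) (Net.cons (nat_lit 2) (nat_lit 800) (Net.cons (nat_lit 4) (nat_lit 516) (Net.cons (nat_lit 8) (nat_lit 44) (Net.cons (nat_lit 4) (nat_lit 527) (Net.cons (nat_lit 2) (nat_lit 784) (Net.cons (nat_lit 1) (nat_lit 1045) Net.nil)))))))

theorem g198_ok : Net.ok 14 g198 = true := by decide +kernel

noncomputable def V199 : List Net := [g197, g198]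

theorem V199_ok : okE 14 V199 = true := (okE_cons.2 ⟨g197_ok, (okE_cons.2 ⟨g198_ok, (okE_nil 14)⟩)⟩)

noncomputable def V201 : List Net := [g198]

theorem V201_ok : okE 14 V201 = true := (okE_cons.2 ⟨g198_ok, (okE_nil 14)⟩)

noncomputable def g203 : Net := (Net.cons (nat_lit 1) (nat_lit 1024) (Net.cons (nat_lit 2) (nat_lit 16) (Net.cons (nat_lit 4) (nat_lit 256) (Net.cons (nat_lit 8) (nat_lit 28) (Net.cons (nat_lit 4) (nat_lit 264) (Net.cons (nat_lit 2) (nat_lit 784) (Net.cons (nat_lit 1) (nat_lit 1284) Net.nil)))))))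

theorem g203_ok : Net.ok 14 g203 = true := by decide +kernel

noncomputable def g204 : Net := (Net.cons (nat_lit 1) (nat_lit 1044) (Net.cons (nat_lit 2) (nat_lit 256) (Net.cons (nat_lit 4) (nat_lit 256) (Net.cons (nat_lit 8) (nat_lit 20) (Net.cons (nat_lit 4) (nat_lit 256) (Net.cons (nat_lit 2) (nat_lit 770) (Net.cons (nat_lit 1) (nat_lit 1044) Net.nil)))))))

theorem g204_ok : Net.ok 14 g204 = true := by decide +kernel

noncomputable def g205 : Net := (Net.cons (nat_lit 1) (nat_lit 1028) (Net.cons (nat_lit 2) (nat_lit 512) (Net.cons (nat_lit 8) (nat_lit 6) (Net.cons (nat_lit 4) (nat_lit 12) (Net.cons (nat_lit 2) (nat_lit 530) (Net.cons (nat_lit 1) (nat_lit 1028) Net.nil))))))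

theorem g205_ok : Net.ok 14 g205 = true := by decide +kernel

noncomputable def V206 : List Net := [g203, g204, g205]

theorem V206_ok : okE 14 V206 = true := (okE_cons.2 ⟨g203_ok, (okE_cons.2 ⟨g204_ok, (okE_cons.2 ⟨g205_ok, (okE_nil 14)⟩)⟩)⟩)

noncomputable def g208 : Net := (Net.cons (nat_lit 1) (nat_lit 1028) (Net.cons (nat_lit 2) (nat_lit 48) (Net.cons (nat_lit 4) (nat_lit 4) (Net.cons (nat_lit 8) (nat_lit 12) (Net.cons (nat_lit 4) (nat_lit 2) (Net.cons (nat_lit 2) (nat_lit 34) (Net.cons (nat_lit 1) (nat_lit 1028) Net.nil)))))))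

theorem g208_ok : Net.ok 14 g208 = true := by decide +kernel

noncomputable def V209 : List Net := [g208]

theorem V209_ok : okE 14 V209 = true := (okE_cons.2 ⟨g208_ok, (okE_nil 14)⟩)

noncomputable def g211 : Net := (Net.cons (nat_lit 1) (nat_lit 1344) (Net.cons (nat_lit 4) (nat_lit 768) (Net.cons (nat_lit 8) (nat_lit 52) (Net.cons (nat_lit 4) (nat_lit 772) (Net.cons (nat_lit 2) (nat_lit 528) (Net.cons (nat_lit 1) (nat_lit 64) Net.nil))))))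

theorem g211_ok : Net.ok 14 g211 = true := by decide +kernel

noncomputable def V212 : List Net := [g211, g204]

theorem V212_ok : okE 14 V212 = true := (okE_cons.2 ⟨g211_ok, (okE_cons.2 ⟨g204_ok, (okE_nil 14)⟩)⟩)

noncomputable def g214 : Net := (Net.cons (nat_lit 1) (nat_lit 320) (Net.cons (nat_lit 2) (nat_lit 272) (Net.cons (nat_lit 4) (nat_lit 256) (Net.cons (nat_lit 8) (nat_lit 20) (Net.cons (nat_lit 4) (nat_lit 256) (Net.cons (nat_lit 2) (nat_lit 784) (Net.cons (nat_lit 1) (nat_lit 336) Net.nil)))))))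

theorem g214_ok : Net.ok 14 g214 = true := by decide +kernel

noncomputable def V215 : List Net := [g214]

theorem V215_ok : okE 14 V215 = true := (okE_cons.2 ⟨g214_ok, (okE_nil 14)⟩)

noncomputable def g217 : Net := (Net.cons (nat_lit 1) (nat_lit 1280) (Net.cons (nat_lit 2) (nat_lit 256) (Net.cons (nat_lit 8) (nat_lit 14) (Net.cons (nat_lit 4) (nat_lit 2) (Net.cons (nat_lit 2) (nat_lit 2) Net.nil)))))

theorem g217_ok : Net.ok 14 g217 = true := by decide +kernel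

noncomputable def g218 : Net := (Net.cons (nat_lit 2) (nat_lit 32) (Net.cons (nat_lit 4) (nat_lit 8) (Net.cons (nat_lit 8) (nat_lit 14) (Net.cons (nat_lit 2) (nat_lit 800) (Net.cons (nat_lit 1) (nat_lit 1280) Net.nil)))))

theorem g218_ok : Net.ok 14 g218 = true := by decide +kernel

noncomputable def V219 : List Net := [g217, g218]

theorem V219_ok : okE 14 V219 = true := (okE_cons.2 ⟨g217_ok, (okE_cons.2 ⟨g218_ok, (okE_nil 14)⟩)⟩)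

noncomputable def V221 : List Net := [g218]

theorem V221_ok : okE 14 V221 = true := (okE_cons.2 ⟨g218_ok, (okE_nil 14)⟩)

noncomputable def xo_E5 : List Net := []

theorem xo_E5_ok : okE 14 xo_E5 = true := (okE_nil 14)

noncomputable def xo_G4 : List Net := [g218]

theorem xo_G4_ok : okE 14 xo_G4 = true := (okE_cons.2 ⟨g218_ok, (okE_nil 14)⟩)

noncomputable def xo_E4 : List Net := [g218, g217]

theorem xo_E4_ok : okE 14 xo_E4 = true := (okE_cons.2 ⟨g218_ok, (okE_cons.2 ⟨g217_ok, (okE_nil 14)⟩)⟩)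

noncomputable def xo_G3 : List Net := [g214, g218, g217]

theorem xo_G3_ok : okE 14 xo_G3 = true := (okE_cons.2 ⟨g214_ok, (okE_cons.2 ⟨g218_ok, (okE_cons.2 ⟨g217_ok, (okE_nil 14)⟩)⟩)⟩)

noncomputable def xo_E3 : List Net := [g214, g211, g204, g218, g217]

theorem xo_E3_ok : okE 14 xo_E3 = true := (okE_cons.2 ⟨g214_ok, (okE_cons.2 ⟨g211_ok, (okE_cons.2 ⟨g204_ok, (okE_cons.2 ⟨g218_ok, (okE_cons.2 ⟨g217_ok, (okE_nil 14)⟩)⟩)⟩)⟩)⟩)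

noncomputable def xo_G2 : List Net := [g208, g214, g211, g204, g218, g217]

theorem xo_G2_ok : okE 14 xo_G2 = true := (okE_cons.2 ⟨g208_ok, (okE_cons.2 ⟨g214_ok, (okE_cons.2 ⟨g211_ok, (okE_cons.2 ⟨g204_ok, (okE_cons.2 ⟨g218_ok, (okE_cons.2 ⟨g217_ok, (okE_nil 14)⟩)⟩)⟩)⟩)⟩)⟩)

noncomputable def xo_E2 : List Net := [g208, g203, g205, g214, g211, g204, g218, g217]

theorem xo_E2_ok : okE 14 xo_E2 = true := (okE_cons.2 ⟨g208_ok, (okE_cons.2 ⟨g203_ok, (okE_cons.2 ⟨g205_ok, (okE_cons.2 ⟨g214_ok, (okE_cons.2 ⟨g211_ok, (okE_cons.2 ⟨g204_ok, (okE_cons.2 ⟨g218_ok, (okE_cons.2 ⟨g217_ok, (okE_nil 14)⟩)⟩)⟩)⟩)⟩)⟩)⟩)⟩)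

noncomputable def xo_G1 : List Net := [g198, g208, g203, g205, g214, g211, g204, g218, g217]

theorem xo_G1_ok : okE 14 xo_G1 = true := (okE_cons.2 ⟨g198_ok, (okE_cons.2 ⟨g208_ok, (okE_cons.2 ⟨g203_ok, (okE_cons.2 ⟨g205_ok, (okE_cons.2 ⟨g214_ok, (okE_cons.2 ⟨g211_ok, (okE_cons.2 ⟨g204_ok, (okE_cons.2 ⟨g218_ok, (okE_cons.2 ⟨g217_ok, (okE_nil 14)⟩)⟩)⟩)⟩)⟩)⟩)⟩)⟩)⟩)

noncomputable def xo_E1 : List Net := [g198, g197, g208, g203, g205, g214, g211, g204, g218, g217]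

theorem xo_E1_ok : okE 14 xo_E1 = true := (okE_cons.2 ⟨g198_ok, (okE_cons.2 ⟨g197_ok, (okE_cons.2 ⟨g208_ok, (okE_cons.2 ⟨g203_ok, (okE_cons.2 ⟨g205_ok, (okE_cons.2 ⟨g214_ok, (okE_cons.2 ⟨g211_ok, (okE_cons.2 ⟨g204_ok, (okE_cons.2 ⟨g218_ok, (okE_cons.2 ⟨g217_ok, (okE_nil 14)⟩)⟩)⟩)⟩)⟩)⟩)⟩)⟩)⟩)⟩)

noncomputable def xo_G0 : List Net := [n_e, g198, g197, g208, g203, g205, g214, g211, g204, g218, g217]

theorem xo_G0_ok : okE 14 xo_G0 = true := (okE_cons.2 ⟨n_e_ok, (okE_cons.2 ⟨g198_ok, (okE_cons.2 ⟨g197_ok, (okE_cons.2 ⟨g208_ok, (okE_cons.2 ⟨g203_ok, (okE_cons.2 ⟨g205_ok, (okE_cons.2 ⟨g214_ok, (okE_cons.2 ⟨g211_ok, (okE_cons.2 ⟨g204_ok, (okE_cons.2 ⟨g218_ok, (okE_cons.2 ⟨g217_ok, (okE_nil 14)⟩)⟩)⟩)⟩)⟩)⟩)⟩)⟩)⟩)⟩)⟩)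

noncomputable def xo_E0 : List Net := [n_e, n_m, n_j, n_d, n_x, g198, g197, g208, g203, g205, g214, g211, g204, g218, g217]

theorem xo_E0_ok : okE 14 xo_E0 = true := (okE_cons.2 ⟨n_e_ok, (okE_cons.2 ⟨n_m_ok, (okE_cons.2 ⟨n_j_ok, (okE_cons.2 ⟨n_d_ok, (okE_cons.2 ⟨n_x_ok, (okE_cons.2 ⟨g198_ok, (okE_cons.2 ⟨g197_ok, (okE_cons.2 ⟨g208_ok, (okE_cons.2 ⟨g203_ok, (okE_cons.2 ⟨g205_ok, (okE_cons.2 ⟨g214_ok, (okE_cons.2 ⟨g211_ok, (okE_cons.2 ⟨g204_ok, (okE_cons.2 ⟨g218_ok, (okE_cons.2 ⟨g217_ok, (okE_nil 14)⟩)⟩)⟩)⟩)⟩)⟩)⟩)⟩)⟩)⟩)⟩)⟩)⟩)⟩)⟩)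

theorem le2 : grp 14 V1 ≤ grp 14 EA :=
  grp_le_of_memB hn hk EA_ok V1_ok (ws := [nat_lit 1]) (by decide +kernel)

theorem le6 : grp 14 V5 ≤ grp 14 EA :=
  grp_le_of_memB hn hk EA_ok V5_ok (ws := [nat_lit 0xe0a040c050a, nat_lit 0xc06030906020c0702]) (by decide +kernel)

theorem le9 : grp 14 V8 ≤ grp 14 V5 :=
  grp_le_of_memB hn hk V5_ok V8_ok (ws := [nat_lit 1025]) (by decide +kernel)

theorem le13 : grp 14 V12 ≤ grp 14 V5 :=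
  grp_le_of_memB hn hk V5_ok V12_ok (ws := [nat_lit 0x10402040104010103, nat_lit 0x10104010104010103]) (by decide +kernel)

theorem le16 : grp 14 V15 ≤ grp 14 V12 :=
  grp_le_of_memB hn hk V12_ok V15_ok (ws := [nat_lit 131588]) (by decide +kernel)

theorem le20 : grp 14 V19 ≤ grp 14 V12 :=
  grp_le_of_memB hn hk V12_ok V19_ok (ws := [nat_lit 0x3020402030101, nat_lit 0x3020401010301]) (by decide +kernel)

theorem le23 : grp 14 V22 ≤ grp 14 V19 :=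
  grp_le_of_memB hn hk V19_ok V22_ok (ws := [nat_lit 514]) (by decide +kernel)

theorem le27 : grp 14 V26 ≤ grp 14 V19 :=
  grp_le_of_memB hn hk V19_ok V26_ok (ws := [nat_lit 0x30302030302020402, nat_lit 65796]) (by decide +kernel)

theorem le30 : grp 14 V29 ≤ grp 14 V26 :=
  grp_le_of_memB hn hk V26_ok V29_ok (ws := [nat_lit 260]) (by decide +kernel)

theorem le34 : grp 14 V33 ≤ grp 14 V26 :=
  grp_le_of_memB hn hk V26_ok V33_ok (ws := [nat_lit 0x203010104, nat_lit 515]) (by decide +kernel)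

theorem le38 : grp 14 V37 ≤ grp 14 V33 :=
  grp_le_of_memB hn hk V33_ok V37_ok (ws := [nat_lit 259, nat_lit 2]) (by decide +kernel)

theorem ao_card6 : Nat.card (grp 14 ao_E6) = 1 :=
  card_grp_nil 14

theorem ao_leO6 : grp 14 ao_E6 ≤ grp 14 EA :=
  grp_nil_le _

theorem ao_5_fix : grp 14 ao_E6 ≤ MulAction.stabilizer (Equiv.Perm (Fin 14)) (⟨1, by decide⟩ : Fin 14) :=
  grp_le_stab ao_E6_ok (by decide : 1 < 14) (by decide +kernel)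

noncomputable def ao_5_ts : List ℕ := [nat_lit 0, nat_lit 1, nat_lit 2, nat_lit 3, nat_lit 4, nat_lit 257, nat_lit 259, nat_lit 260]

noncomputable def ao_5_ds : List ℕ := [nat_lit 1, nat_lit 6, nat_lit 9, nat_lit 7, nat_lit 4, nat_lit 3, nat_lit 5, nat_lit 8]

theorem ao_5_dist : Dist 14 ao_E6 ao_G5 (⟨1, by decide⟩ : Fin 14) ao_5_ts ao_5_ds :=
  dist_of_distB (k := 3) hn ao_E6_ok ao_G5_ok (by decide : 1 < 14) (by decide +kernel)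

noncomputable def ao_5_sl0 : SL := (SL.cons (nat_lit 1) (nat_lit 6) Ch.nil [] (SL.cons (nat_lit 2) (nat_lit 9) Ch.nil [] (SL.cons (nat_lit 3) (nat_lit 7) Ch.nil [] (SL.cons (nat_lit 4) (nat_lit 4) Ch.nil [] (SL.cons (nat_lit 257) (nat_lit 3) Ch.nil [] (SL.cons (nat_lit 259) (nat_lit 5) Ch.nil [] (SL.cons (nat_lit 260) (nat_lit 8) Ch.nil [] SL.nil)))))))

theorem ao_5_sc0 : SCs 14 ao_E6 ao_G5 (⟨1, by decide⟩ : Fin 14) (SL.words ao_5_sl0) :=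
  scs_of_ok hn (det_lab hk ⊤) ao_E6_ok ao_G5_ok le_top le_top (by decide : 1 < 14) ao_5_fix ao_card6.le (by decide +kernel)

noncomputable def ao_5_l : List ℕ := (appL (SL.words ao_5_sl0) [])

theorem ao_5_scs : SCs 14 ao_E6 ao_G5 (⟨1, by decide⟩ : Fin 14) ao_5_l :=
  (SCs.append ao_5_sc0 SCs.nil)

noncomputable def ao_5_rl0_0 : RL := (RL.cons (nat_lit 0) (nat_lit 1) (nat_lit 0) (nat_lit 0) (nat_lit 2) (nat_lit 0) (RL.cons (nat_lit 1) (nat_lit 6) (nat_lit 0) (nat_lit 0) (nat_lit 0) (nat_lit 0) (RL.cons (nat_lit 2) (nat_lit 9) (nat_lit 0) (nat_lit 0) (nat_lit 5) (nat_lit 0) (RL.cons (nat_lit 3) (nat_lit 7) (nat_lit 0) (nat_lit 0) (nat_lit 6) (nat_lit 0) (RL.cons (nat_lit 4) (nat_lit 4) (nat_lit 0) (nat_lit 0) (nat_lit 7) (nat_lit 0) (RL.cons (nat_lit 5) (nat_lit 3) (nat_lit 0) (nat_lit 0) (nat_lit 1) (nat_lit 0) (RL.cons (nat_lit 6) (nat_lit 5)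 (nat_lit 0) (nat_lit 0) (nat_lit 4) (nat_lit 0) (RL.cons (nat_lit 7) (nat_lit 8) (nat_lit 0) (nat_lit 0) (nat_lit 3) (nat_lit 0) RL.nil))))))))

theorem ao_5_good0_0 : GoodSet 14 ao_E6 ao_G5 (⟨1, by decide⟩ : Fin 14) ao_5_ts (nat_lit 1) (RL.pts ao_5_rl0_0) :=
  goodSet_of_ok hn (det_lab hk ⊤) ao_E6_ok ao_G5_ok le_top le_top (by decide : 1 < 14) (sepAt_lab hk _) (by decide +kernel)

theorem ao_5_step0 : Step 14 ao_E6 ao_G5 ao_5_ts (2 * 0 + 1) :=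
  step_of_cover ao_E6_ok ao_5_dist (by decide +kernel) ao_5_scs (by decide +kernel) ao_5_good0_0 (kw := [])
    (conj_mem_of_scs ao_E6_ok ao_G5_ok (by decide : 1 < 14) ao_5_scs (c := 0) (d := 6) (by decide +kernel)) (by decide +kernel)

noncomputable def ao_5_rl1_0 : RL := (RL.cons (nat_lit 0) (nat_lit 1) (nat_lit 0) (nat_lit 0) (nat_lit 4) (nat_lit 0) (RL.cons (nat_lit 1) (nat_lit 6) (nat_lit 0) (nat_lit 0) (nat_lit 7) (nat_lit 0) (RL.cons (nat_lit 2) (nat_lit 9) (nat_lit 0) (nat_lit 0) (nat_lit 6) (nat_lit 0) (RL.cons (nat_lit 3) (nat_lit 7) (nat_lit 0) (nat_lit 0) (nat_lit 0) (nat_lit 0) (RL.cons (nat_lit 4) (nat_lit 4) (nat_lit 0) (nat_lit 0) (nat_lit 5) (nat_lit 0) (RL.cons (nat_lit 5) (nat_lit 3) (nat_lit 0) (nat_lit 0) (nat_lit 3) (nat_lit 0) (RL.cons (nat_lit 6) (nat_lit 5) (nat_lit 0) (nat_lit 0) (nat_lit 1) (nat_lit 0) (RL.cons (nat_lit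 7) (nat_lit 8) (nat_lit 0) (nat_lit 0) (nat_lit 2) (nat_lit 0) RL.nil))))))))

theorem ao_5_good1_0 : GoodSet 14 ao_E6 ao_G5 (⟨1, by decide⟩ : Fin 14) ao_5_ts (nat_lit 3) (RL.pts ao_5_rl1_0) :=
  goodSet_of_ok hn (det_lab hk ⊤) ao_E6_ok ao_G5_ok le_top le_top (by decide : 1 < 14) (sepAt_lab hk _) (by decide +kernel)

theorem ao_5_step1 : Step 14 ao_E6 ao_G5 ao_5_ts (2 * 1 + 1) :=
  step_of_cover ao_E6_ok ao_5_dist (by decide +kernel) ao_5_scs (by decide +kernel) ao_5_good1_0 (kw := [])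
    (conj_mem_of_scs ao_E6_ok ao_G5_ok (by decide : 1 < 14) ao_5_scs (c := 2) (d := 7) (by decide +kernel)) (by decide +kernel)

theorem ao_5_lev : grp 14 ao_G5 ⊓ MulAction.stabilizer (Equiv.Perm (Fin 14)) (⟨1, by decide⟩ : Fin 14) = grp 14 ao_E6 :=
  sims_level (gs := V37) rfl (by decide) ao_5_fix ao_5_dist (forall_lt_succ' (forall_lt_one ao_5_step0) ao_5_step1)

theorem ao_5_cardG : Nat.card (grp 14 ao_G5) = 8 :=
  card_of_level hn ao_G5_ok (by decide : 1 < 14) ao_5_lev ao_card6 (m := 8) (by decide +kernel)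

theorem le39 : grp 14 ao_E5 ≤ grp 14 ao_G5 :=
  grp_le_of_memB hn hk ao_G5_ok ao_E5_ok (ws := [nat_lit 1, nat_lit 3, nat_lit 4, nat_lit 260]) (by decide +kernel)

theorem le40 : grp 14 ao_G5 ≤ grp 14 ao_E5 :=
  grp_le_of_memB hn hk ao_E5_ok ao_G5_ok (ws := [nat_lit 1, nat_lit 3]) (by decide +kernel)

theorem ao_5_eq : grp 14 ao_E5 = grp 14 ao_G5 :=
  le_antisymm le39 le40

theorem ao_card5 : Nat.card (grp 14 ao_E5) = 8 :=
  by rw [ao_5_eq]; exact ao_5_cardG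

theorem ao_stab5 : grp 14 ao_E5 ⊓ MulAction.stabilizer (Equiv.Perm (Fin 14)) (⟨1, by decide⟩ : Fin 14) = grp 14 ao_E6 :=
  by rw [ao_5_eq]; exact ao_5_lev

theorem ao_leO5 : grp 14 ao_E5 ≤ grp 14 EA :=
  ao_5_eq.le.trans (grp_cons_le ((le34.trans (le27.trans (le20.trans (le13.trans (le6.trans (le_refl (grp 14 EA))))))) (le38 (toPerm_mem_grp (E := V37) (by simp [V37])))) (grp_cons_le ((le34.trans (le27.trans (le20.trans (le13.trans (le6.trans (le_refl (grp 14 EA))))))) (le38 (toPerm_mem_grp (E := V37) (by simp [V37])))) ao_leO6))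

theorem ao_4_fix : grp 14 ao_E5 ≤ MulAction.stabilizer (Equiv.Perm (Fin 14)) (⟨2, by decide⟩ : Fin 14) :=
  grp_le_stab ao_E5_ok (by decide : 2 < 14) (by decide +kernel)

noncomputable def ao_4_ts : List ℕ := [nat_lit 0, nat_lit 1]

noncomputable def ao_4_ds : List ℕ := [nat_lit 2, nat_lit 1]

theorem ao_4_dist : Dist 14 ao_E5 ao_G4 (⟨2, by decide⟩ : Fin 14) ao_4_ts ao_4_ds :=
  dist_of_distB (k := 1) hn ao_E5_ok ao_G4_ok (by decide : 2 < 14) (by decide +kernel)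

noncomputable def ao_4_sl0 : SL := (SL.cons (nat_lit 1) (nat_lit 1) Ch.nil [] SL.nil)

theorem ao_4_sc0 : SCs 14 ao_E5 ao_G4 (⟨2, by decide⟩ : Fin 14) (SL.words ao_4_sl0) :=
  scs_of_ok hn (det_lab hk ⊤) ao_E5_ok ao_G4_ok le_top le_top (by decide : 2 < 14) ao_4_fix ao_card5.le (by decide +kernel)

noncomputable def ao_4_l : List ℕ := (appL (SL.words ao_4_sl0) [])

theorem ao_4_scs : SCs 14 ao_E5 ao_G4 (⟨2, by decide⟩ : Fin 14) ao_4_l :=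
  (SCs.append ao_4_sc0 SCs.nil)

noncomputable def ao_4_rl0_0 : RL := (RL.cons (nat_lit 0) (nat_lit 2) (nat_lit 0) (nat_lit 7) (nat_lit 1) (nat_lit 7) (RL.cons (nat_lit 1) (nat_lit 1) (nat_lit 0) (nat_lit 0) (nat_lit 0) (nat_lit 0) (RL.cons (nat_lit 1) (nat_lit 6) (nat_lit 1) (nat_lit 0) (nat_lit 1) (nat_lit 3) (RL.cons (nat_lit 1) (nat_lit 9) (nat_lit 2) (nat_lit 2) (nat_lit 1) (nat_lit 7) (RL.cons (nat_lit 1) (nat_lit 7) (nat_lit 3) (nat_lit 4) (nat_lit 1) (nat_lit 8) (RL.cons (nat_lit 1) (nat_lit 4) (nat_lit 4) (nat_lit 257) (nat_lit 1) (nat_lit 2) (RL.cons (nat_lit 1) (nat_lit 8) (nat_lit 7) (nat_lit 1) (nat_lit 1) (nat_lit 1) (RL.cons (nat_lit 1) (nat_lit 5) (nat_lit 8) (nat_lit 3) (nat_lit 1) (nat_lit 4) (RL.cons (nat_lit 1) (nat_lit 3) (nat_lit 257) (nat_lit 8) (nat_lit 1) (nat_lit 257) RL.nil)))))))))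

theorem ao_4_good0_0 : GoodSet 14 ao_E5 ao_G4 (⟨2, by decide⟩ : Fin 14) ao_4_ts (nat_lit 1) (RL.pts ao_4_rl0_0) :=
  goodSet_of_ok hn (det_lab hk ⊤) ao_E5_ok ao_G4_ok le_top le_top (by decide : 2 < 14) (sepAt_lab hk _) (by decide +kernel)

theorem ao_4_step0 : Step 14 ao_E5 ao_G4 ao_4_ts (2 * 0 + 1) :=
  step_of_cover ao_E5_ok ao_4_dist (by decide +kernel) ao_4_scs (by decide +kernel) ao_4_good0_0 (kw := [])
    (conj_mem_of_scs ao_E5_ok ao_G4_ok (by decide : 2 < 14) ao_4_scs (c := 0) (d := 1) (by decide +kernel)) (by decide +kernel)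

theorem ao_4_lev : grp 14 ao_G4 ⊓ MulAction.stabilizer (Equiv.Perm (Fin 14)) (⟨2, by decide⟩ : Fin 14) = grp 14 ao_E5 :=
  sims_level (gs := V29) rfl (by decide) ao_4_fix ao_4_dist (forall_lt_one ao_4_step0)

theorem ao_4_cardG : Nat.card (grp 14 ao_G4) = 72 :=
  card_of_level hn ao_G4_ok (by decide : 2 < 14) ao_4_lev ao_card5 (m := 9) (by decide +kernel)

theorem le41 : grp 14 ao_E4 ≤ grp 14 ao_G4 :=
  grp_le_of_memB hn hk ao_G4_ok ao_E4_ok (ws := [nat_lit 1, nat_lit 770, nat_lit 197129, nat_lit 3, nat_lit 5, nat_lit 7, nat_lit 9]) (by decide +kernel)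

theorem le42 : grp 14 ao_G4 ≤ grp 14 ao_E4 :=
  grp_le_of_memB hn hk ao_E4_ok ao_G4_ok (ws := [nat_lit 1, nat_lit 7, nat_lit 9, nat_lit 11, nat_lit 13]) (by decide +kernel)

theorem ao_4_eq : grp 14 ao_E4 = grp 14 ao_G4 :=
  le_antisymm le41 le42

theorem ao_card4 : Nat.card (grp 14 ao_E4) = 72 :=
  by rw [ao_4_eq]; exact ao_4_cardG

theorem ao_stab4 : grp 14 ao_E4 ⊓ MulAction.stabilizer (Equiv.Perm (Fin 14)) (⟨2, by decide⟩ : Fin 14) = grp 14 ao_E5 :=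
  by rw [ao_4_eq]; exact ao_4_lev

theorem ao_leO4 : grp 14 ao_E4 ≤ grp 14 EA :=
  ao_4_eq.le.trans (grp_cons_le ((le27.trans (le20.trans (le13.trans (le6.trans (le_refl (grp 14 EA)))))) (le30 (toPerm_mem_grp (E := V29) (by simp [V29])))) ao_leO5)

theorem ao_3_fix : grp 14 ao_E4 ≤ MulAction.stabilizer (Equiv.Perm (Fin 14)) (⟨11, by decide⟩ : Fin 14) :=
  grp_le_stab ao_E4_ok (by decide : 11 < 14) (by decide +kernel)

noncomputable def ao_3_ts : List ℕ := [nat_lit 0, nat_lit 1]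

noncomputable def ao_3_ds : List ℕ := [nat_lit 11, nat_lit 2]

theorem ao_3_dist : Dist 14 ao_E4 ao_G3 (⟨11, by decide⟩ : Fin 14) ao_3_ts ao_3_ds :=
  dist_of_distB (k := 1) hn ao_E4_ok ao_G3_ok (by decide : 11 < 14) (by decide +kernel)

noncomputable def ao_3_sl0 : SL := (SL.cons (nat_lit 1) (nat_lit 2) (Ch.cons (nat_lit 1) [nat_lit 7, nat_lit 9, nat_lit 11, nat_lit 13] Ch.nil) [nat_lit 590081, nat_lit 3588, nat_lit 5, nat_lit 460545] SL.nil)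

theorem ao_3_sc0 : SCs 14 ao_E4 ao_G3 (⟨11, by decide⟩ : Fin 14) (SL.words ao_3_sl0) :=
  scs_of_ok hn (det_lab hk ⊤) ao_E4_ok ao_G3_ok le_top le_top (by decide : 11 < 14) ao_3_fix ao_card4.le (by decide +kernel)

noncomputable def ao_3_l : List ℕ := (appL (SL.words ao_3_sl0) [])

theorem ao_3_scs : SCs 14 ao_E4 ao_G3 (⟨11, by decide⟩ : Fin 14) ao_3_l :=
  (SCs.append ao_3_sc0 SCs.nil)

noncomputable def ao_3_rl0_0 : RL := (RL.cons (nat_lit 0) (nat_lit 11) (nat_lit 0) (nat_lit 265) (nat_lit 1) (nat_lit 917769) (RL.cons (nat_lit 1) (nat_lit 2) (nat_lit 0) (nat_lit 0) (nat_lit 0) (nat_lit 0) (RL.cons (nat_lit 1) (nat_lit 1) (nat_lit 1) (nat_lit 4) (nat_lit 1) (nat_lit 0x707010a) RL.nil)))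

theorem ao_3_good0_0 : GoodSet 14 ao_E4 ao_G3 (⟨11, by decide⟩ : Fin 14) ao_3_ts (nat_lit 1) (RL.pts ao_3_rl0_0) :=
  goodSet_of_ok hn (det_lab hk ⊤) ao_E4_ok ao_G3_ok le_top le_top (by decide : 11 < 14) (sepAt_lab hk _) (by decide +kernel)

theorem ao_3_step0 : Step 14 ao_E4 ao_G3 ao_3_ts (2 * 0 + 1) :=
  step_of_cover ao_E4_ok ao_3_dist (by decide +kernel) ao_3_scs (by decide +kernel) ao_3_good0_0 (kw := [nat_lit 7, nat_lit 9, nat_lit 11, nat_lit 13])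
    (conj_mem_of_scs ao_E4_ok ao_G3_ok (by decide : 11 < 14) ao_3_scs (c := 0) (d := 2) (by decide +kernel)) (by decide +kernel)

theorem ao_3_lev : grp 14 ao_G3 ⊓ MulAction.stabilizer (Equiv.Perm (Fin 14)) (⟨11, by decide⟩ : Fin 14) = grp 14 ao_E4 :=
  sims_level (gs := V22) rfl (by decide) ao_3_fix ao_3_dist (forall_lt_one ao_3_step0)

theorem ao_3_cardG : Nat.card (grp 14 ao_G3) = 720 :=
  card_of_level hn ao_G3_ok (by decide : 11 < 14) ao_3_lev ao_card4 (m := 10) (by decide +kernel)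

theorem le43 : grp 14 ao_E3 ≤ grp 14 ao_G3 :=
  grp_le_of_memB hn hk ao_G3_ok ao_E3_ok (ws := [nat_lit 1, nat_lit 0x90903100205, nat_lit 0x100602, nat_lit 3, nat_lit 5, nat_lit 7, nat_lit 9, nat_lit 11, nat_lit 13, nat_lit 15]) (by decide +kernel)

theorem le44 : grp 14 ao_G3 ≤ grp 14 ao_E3 :=
  grp_le_of_memB hn hk ao_E3_ok ao_G3_ok (ws := [nat_lit 1, nat_lit 7, nat_lit 9, nat_lit 11, nat_lit 13, nat_lit 15, nat_lit 17, nat_lit 19]) (by decide +kernel)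

theorem ao_3_eq : grp 14 ao_E3 = grp 14 ao_G3 :=
  le_antisymm le43 le44

theorem ao_card3 : Nat.card (grp 14 ao_E3) = 720 :=
  by rw [ao_3_eq]; exact ao_3_cardG

theorem ao_stab3 : grp 14 ao_E3 ⊓ MulAction.stabilizer (Equiv.Perm (Fin 14)) (⟨11, by decide⟩ : Fin 14) = grp 14 ao_E4 :=
  by rw [ao_3_eq]; exact ao_3_lev

theorem ao_leO3 : grp 14 ao_E3 ≤ grp 14 EA :=
  ao_3_eq.le.trans (grp_cons_le ((le20.trans (le13.trans (le6.trans (le_refl (grp 14 EA))))) (le23 (toPerm_mem_grp (E := V22) (by simp [V22])))) ao_leO4)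

theorem ao_2_fix : grp 14 ao_E3 ≤ MulAction.stabilizer (Equiv.Perm (Fin 14)) (⟨10, by decide⟩ : Fin 14) :=
  grp_le_stab ao_E3_ok (by decide : 10 < 14) (by decide +kernel)

noncomputable def ao_2_ts : List ℕ := [nat_lit 0, nat_lit 1]

noncomputable def ao_2_ds : List ℕ := [nat_lit 10, nat_lit 11]

theorem ao_2_dist : Dist 14 ao_E3 ao_G2 (⟨10, by decide⟩ : Fin 14) ao_2_ts ao_2_ds :=
  dist_of_distB (k := 1) hn ao_E3_ok ao_G2_ok (by decide : 10 < 14) (by decide +kernel)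

noncomputable def ao_2_sl0 : SL := (SL.cons (nat_lit 1) (nat_lit 11) (Ch.cons (nat_lit 2) [nat_lit 7, nat_lit 9, nat_lit 11] (Ch.cons (nat_lit 1) [nat_lit 13, nat_lit 15, nat_lit 17, nat_lit 19] Ch.nil)) [nat_lit 0x14071404, nat_lit 0x1407070101, nat_lit 0xd07140107, nat_lit 920323, nat_lit 985857, nat_lit 0xd070f0107, nat_lit 0x7100108] SL.nil)

theorem ao_2_sc0 : SCs 14 ao_E3 ao_G2 (⟨10, by decide⟩ : Fin 14) (SL.words ao_2_sl0) :=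
  scs_of_ok hn (det_lab hk ⊤) ao_E3_ok ao_G2_ok le_top le_top (by decide : 10 < 14) ao_2_fix ao_card3.le (by decide +kernel)

noncomputable def ao_2_l : List ℕ := (appL (SL.words ao_2_sl0) [])

theorem ao_2_scs : SCs 14 ao_E3 ao_G2 (⟨10, by decide⟩ : Fin 14) ao_2_l :=
  (SCs.append ao_2_sc0 SCs.nil)

noncomputable def ao_2_rl0_0 : RL := (RL.cons (nat_lit 0) (nat_lit 10) (nat_lit 0) (nat_lit 2) (nat_lit 1) (nat_lit 0x100802) (RL.cons (nat_lit 1) (nat_lit 11) (nat_lit 0) (nat_lit 0) (nat_lit 0) (nat_lit 0) (RL.cons (nat_lit 1) (nat_lit 2) (nat_lit 1) (nat_lit 260) (nat_lit 1) (nat_lit 0x1007100107) RL.nil)))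

theorem ao_2_good0_0 : GoodSet 14 ao_E3 ao_G2 (⟨10, by decide⟩ : Fin 14) ao_2_ts (nat_lit 1) (RL.pts ao_2_rl0_0) :=
  goodSet_of_ok hn (det_lab hk ⊤) ao_E3_ok ao_G2_ok le_top le_top (by decide : 10 < 14) (sepAt_lab hk _) (by decide +kernel)

theorem ao_2_step0 : Step 14 ao_E3 ao_G2 ao_2_ts (2 * 0 + 1) :=
  step_of_cover ao_E3_ok ao_2_dist (by decide +kernel) ao_2_scs (by decide +kernel) ao_2_good0_0 (kw := [nat_lit 7, nat_lit 9, nat_lit 11, nat_lit 13, nat_lit 15, nat_lit 17, nat_lit 19])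
    (conj_mem_of_scs ao_E3_ok ao_G2_ok (by decide : 10 < 14) ao_2_scs (c := 0) (d := 11) (by decide +kernel)) (by decide +kernel)

theorem ao_2_lev : grp 14 ao_G2 ⊓ MulAction.stabilizer (Equiv.Perm (Fin 14)) (⟨10, by decide⟩ : Fin 14) = grp 14 ao_E3 :=
  sims_level (gs := V15) rfl (by decide) ao_2_fix ao_2_dist (forall_lt_one ao_2_step0)

theorem ao_2_cardG : Nat.card (grp 14 ao_G2) = 7920 :=
  card_of_level hn ao_G2_ok (by decide : 10 < 14) ao_2_lev ao_card3 (m := 11) (by decide +kernel)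

theorem le45 : grp 14 ao_E2 ≤ grp 14 ao_G2 :=
  grp_le_of_memB hn hk ao_G2_ok ao_E2_ok (ws := [nat_lit 1, nat_lit 0x160c030108, nat_lit 0x100c05, nat_lit 3, nat_lit 5, nat_lit 7, nat_lit 9, nat_lit 11, nat_lit 13, nat_lit 15, nat_lit 17, nat_lit 19, nat_lit 21]) (by decide +kernel)

theorem le46 : grp 14 ao_G2 ≤ grp 14 ao_E2 :=
  grp_le_of_memB hn hk ao_E2_ok ao_G2_ok (ws := [nat_lit 1, nat_lit 7, nat_lit 9, nat_lit 11, nat_lit 13, nat_lit 15, nat_lit 17, nat_lit 19, nat_lit 21, nat_lit 23, nat_lit 25]) (by decide +kernel)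

theorem ao_2_eq : grp 14 ao_E2 = grp 14 ao_G2 :=
  le_antisymm le45 le46

theorem ao_card2 : Nat.card (grp 14 ao_E2) = 7920 :=
  by rw [ao_2_eq]; exact ao_2_cardG

theorem ao_stab2 : grp 14 ao_E2 ⊓ MulAction.stabilizer (Equiv.Perm (Fin 14)) (⟨10, by decide⟩ : Fin 14) = grp 14 ao_E3 :=
  by rw [ao_2_eq]; exact ao_2_lev

theorem ao_leO2 : grp 14 ao_E2 ≤ grp 14 EA :=
  ao_2_eq.le.trans (grp_cons_le ((le13.trans (le6.trans (le_refl (grp 14 EA)))) (le16 (toPerm_mem_grp (E := V15) (by simp [V15])))) ao_leO3)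

theorem ao_1_fix : grp 14 ao_E2 ≤ MulAction.stabilizer (Equiv.Perm (Fin 14)) (⟨0, by decide⟩ : Fin 14) :=
  grp_le_stab ao_E2_ok (by decide : 0 < 14) (by decide +kernel)

noncomputable def ao_1_ts : List ℕ := [nat_lit 0, nat_lit 1]

noncomputable def ao_1_ds : List ℕ := [nat_lit 0, nat_lit 10]

theorem ao_1_dist : Dist 14 ao_E2 ao_G1 (⟨0, by decide⟩ : Fin 14) ao_1_ts ao_1_ds :=
  dist_of_distB (k := 1) hn ao_E2_ok ao_G1_ok (by decide : 0 < 14) (by decide +kernel)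

noncomputable def ao_1_sl0 : SL := (SL.cons (nat_lit 1) (nat_lit 10) (Ch.cons (nat_lit 11) [nat_lit 7, nat_lit 9, nat_lit 11] (Ch.cons (nat_lit 2) [nat_lit 13, nat_lit 15, nat_lit 17] (Ch.cons (nat_lit 1) [nat_lit 19, nat_lit 21, nat_lit 23, nat_lit 25] Ch.nil))) [nat_lit 0xd1a070d0107, nat_lit 0x161107070101, nat_lit 0x13130d150707, nat_lit 0x130e080107, nat_lit 0x140d09, nat_lit 0x130d0d090105, nat_lit 0x1a0d090107, nat_lit 0x1a0d0d0c0209, nat_lit 0x13130e080101, nat_lit 0x1a0d1a0105] SL.nil)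

theorem ao_1_sc0 : SCs 14 ao_E2 ao_G1 (⟨0, by decide⟩ : Fin 14) (SL.words ao_1_sl0) :=
  scs_of_ok hn (det_lab hk ⊤) ao_E2_ok ao_G1_ok le_top le_top (by decide : 0 < 14) ao_1_fix ao_card2.le (by decide +kernel)

noncomputable def ao_1_l : List ℕ := (appL (SL.words ao_1_sl0) [])

theorem ao_1_scs : SCs 14 ao_E2 ao_G1 (⟨0, by decide⟩ : Fin 14) ao_1_l :=
  (SCs.append ao_1_sc0 SCs.nil)

noncomputable def ao_1_rl0_0 : RL := (RL.cons (nat_lit 0) (nat_lit 0) (nat_lit 0) (nat_lit 4) (nat_lit 1) (nat_lit 0x13130d0d070704) (RL.cons (nat_lit 1) (nat_lit 10) (nat_lit 0) (nat_lit 0) (nat_lit 0) (nat_lit 0) (RL.cons (nat_lit 1) (nat_lit 11) (nat_lit 1) (nat_lit 3) (nat_lit 1) (nat_lit 0x1410070d0209) RL.nil)))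

theorem ao_1_good0_0 : GoodSet 14 ao_E2 ao_G1 (⟨0, by decide⟩ : Fin 14) ao_1_ts (nat_lit 1) (RL.pts ao_1_rl0_0) :=
  goodSet_of_ok hn (det_lab hk ⊤) ao_E2_ok ao_G1_ok le_top le_top (by decide : 0 < 14) (sepAt_lab hk _) (by decide +kernel)

theorem ao_1_step0 : Step 14 ao_E2 ao_G1 ao_1_ts (2 * 0 + 1) :=
  step_of_cover ao_E2_ok ao_1_dist (by decide +kernel) ao_1_scs (by decide +kernel) ao_1_good0_0 (kw := [nat_lit 7, nat_lit 9, nat_lit 11, nat_lit 13, nat_lit 15, nat_lit 17, nat_lit 19, nat_lit 21, nat_lit 23, nat_lit 25])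
    (conj_mem_of_scs ao_E2_ok ao_G1_ok (by decide : 0 < 14) ao_1_scs (c := 0) (d := 10) (by decide +kernel)) (by decide +kernel)

theorem ao_1_lev : grp 14 ao_G1 ⊓ MulAction.stabilizer (Equiv.Perm (Fin 14)) (⟨0, by decide⟩ : Fin 14) = grp 14 ao_E2 :=
  sims_level (gs := V8) rfl (by decide) ao_1_fix ao_1_dist (forall_lt_one ao_1_step0)

theorem ao_1_cardG : Nat.card (grp 14 ao_G1) = 95040 :=
  card_of_level hn ao_G1_ok (by decide : 0 < 14) ao_1_lev ao_card2 (m := 12) (by decide +kernel)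

theorem le47 : grp 14 ao_E1 ≤ grp 14 ao_G1 :=
  grp_le_of_memB hn hk ao_G1_ok ao_E1_ok (ws := [nat_lit 1, nat_lit 787203, nat_lit 0xc030302, nat_lit 3, nat_lit 5, nat_lit 7, nat_lit 9, nat_lit 11, nat_lit 13, nat_lit 15, nat_lit 17, nat_lit 19, nat_lit 21, nat_lit 23, nat_lit 25, nat_lit 27]) (by decide +kernel)

theorem le48 : grp 14 ao_G1 ≤ grp 14 ao_E1 :=
  grp_le_of_memB hn hk ao_E1_ok ao_G1_ok (ws := [nat_lit 1, nat_lit 7, nat_lit 9, nat_lit 11, nat_lit 13, nat_lit 15, nat_lit 17, nat_lit 19, nat_lit 21, nat_lit 23, nat_lit 25, nat_lit 27, nat_lit 29, nat_lit 31]) (by decide +kernel)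

theorem ao_1_eq : grp 14 ao_E1 = grp 14 ao_G1 :=
  le_antisymm le47 le48

theorem ao_card1 : Nat.card (grp 14 ao_E1) = 95040 :=
  by rw [ao_1_eq]; exact ao_1_cardG

theorem ao_stab1 : grp 14 ao_E1 ⊓ MulAction.stabilizer (Equiv.Perm (Fin 14)) (⟨0, by decide⟩ : Fin 14) = grp 14 ao_E2 :=
  by rw [ao_1_eq]; exact ao_1_lev

theorem ao_leO1 : grp 14 ao_E1 ≤ grp 14 EA :=
  ao_1_eq.le.trans (grp_cons_le ((le6.trans (le_refl (grp 14 EA))) (le9 (toPerm_mem_grp (E := V8) (by simp [V8])))) ao_leO2)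

theorem ao_0_fix : grp 14 ao_E1 ≤ MulAction.stabilizer (Equiv.Perm (Fin 14)) (⟨12, by decide⟩ : Fin 14) :=
  grp_le_stab ao_E1_ok (by decide : 12 < 14) (by decide +kernel)

noncomputable def ao_0_ts : List ℕ := [nat_lit 0, nat_lit 1]

noncomputable def ao_0_ds : List ℕ := [nat_lit 12, nat_lit 13]

theorem ao_0_dist : Dist 14 ao_E1 ao_G0 (⟨12, by decide⟩ : Fin 14) ao_0_ts ao_0_ds :=
  dist_of_distB (k := 1) hn ao_E1_ok ao_G0_ok (by decide : 12 < 14) (by decide +kernel)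

noncomputable def ao_0_sl0 : SL := (SL.cons (nat_lit 1) (nat_lit 13) (Ch.cons (nat_lit 0) [nat_lit 0x1b130d02] (Ch.cons (nat_lit 1) [nat_lit 0x1c0d14] (Ch.cons (nat_lit 2) [nat_lit 0x1919170a] (Ch.cons (nat_lit 3) [nat_lit 0x1610080e] (Ch.cons (nat_lit 4) [nat_lit 0x1f12070b, nat_lit 0x191208] Ch.nil))))) [nat_lit 0x1b130d02, nat_lit 0x1c0d14, nat_lit 0x1919170a, nat_lit 0x1610080e, nat_lit 0x1f12070b, nat_lit 0x191208] SL.nil)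

theorem ao_0_sc0 : SCs 14 ao_E1 ao_G0 (⟨12, by decide⟩ : Fin 14) (SL.words ao_0_sl0) :=
  scs_of_ok hn (det_lab hk ⊤) ao_E1_ok ao_G0_ok le_top le_top (by decide : 12 < 14) ao_0_fix ao_card1.le (by decide +kernel)

noncomputable def ao_0_l : List ℕ := (appL (SL.words ao_0_sl0) [])

theorem ao_0_scs : SCs 14 ao_E1 ao_G0 (⟨12, by decide⟩ : Fin 14) ao_0_l :=
  (SCs.append ao_0_sc0 SCs.nil)

noncomputable def ao_0_rl0_0 : RL := (RL.cons (nat_lit 0) (nat_lit 12) (nat_lit 0) (nat_lit 0) (nat_lit 1) (nat_lit 0) (RL.cons (nat_lit 1) (nat_lit 13) (nat_lit 0) (nat_lit 0) (nat_lit 0) (nat_lit 0) RL.nil))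

theorem ao_0_good0_0 : GoodSet 14 ao_E1 ao_G0 (⟨12, by decide⟩ : Fin 14) ao_0_ts (nat_lit 1) (RL.pts ao_0_rl0_0) :=
  goodSet_of_ok hn (det_lab hk ⊤) ao_E1_ok ao_G0_ok le_top le_top (by decide : 12 < 14) (sepAt_lab hk _) (by decide +kernel)

theorem ao_0_step0 : Step 14 ao_E1 ao_G0 ao_0_ts (2 * 0 + 1) :=
  step_of_cover ao_E1_ok ao_0_dist (by decide +kernel) ao_0_scs (by decide +kernel) ao_0_good0_0 (kw := [nat_lit 0x1b130d02, nat_lit 0x1c0d14, nat_lit 0x1919170a, nat_lit 0x1610080e, nat_lit 0x1f12070b, nat_lit 0x191208])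
    (conj_mem_of_scs ao_E1_ok ao_G0_ok (by decide : 12 < 14) ao_0_scs (c := 0) (d := 13) (by decide +kernel)) (by decide +kernel)

theorem ao_0_lev : grp 14 ao_G0 ⊓ MulAction.stabilizer (Equiv.Perm (Fin 14)) (⟨12, by decide⟩ : Fin 14) = grp 14 ao_E1 :=
  sims_level (gs := V1) rfl (by decide) ao_0_fix ao_0_dist (forall_lt_one ao_0_step0)

theorem ao_0_cardG : Nat.card (grp 14 ao_G0) = 190080 :=
  card_of_level hn ao_G0_ok (by decide : 12 < 14) ao_0_lev ao_card1 (m := 2) (by decide +kernel)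

theorem le49 : grp 14 ao_E0 ≤ grp 14 ao_G0 :=
  grp_le_of_memB hn hk ao_G0_ok ao_E0_ok (ws := [nat_lit 1, nat_lit 0x2118110a100309, nat_lit 0x1b1b1511090d030801, nat_lit 0x1b1b160f16090d030b01, nat_lit 0x1b190f150909030701, nat_lit 0x1c151e0f0a10030501, nat_lit 0x1d151e0f160a110303, nat_lit 3, nat_lit 5, nat_lit 7, nat_lit 9, nat_lit 11, nat_lit 13, nat_lit 15, nat_lit 17, nat_lit 19, nat_lit 21, nat_lit 23, nat_lit 25, nat_lit 27, nat_lit 29, nat_lit 31, nat_lit 33]) (by decide +kernel)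

theorem le50 : grp 14 ao_G0 ≤ grp 14 ao_E0 :=
  grp_le_of_memB hn hk ao_E0_ok ao_G0_ok (ws := [nat_lit 1, nat_lit 15, nat_lit 17, nat_lit 19, nat_lit 21, nat_lit 23, nat_lit 25, nat_lit 27, nat_lit 29, nat_lit 31, nat_lit 33, nat_lit 35, nat_lit 37, nat_lit 39, nat_lit 41, nat_lit 43, nat_lit 45]) (by decide +kernel)

theorem ao_0_eq : grp 14 ao_E0 = grp 14 ao_G0 :=
  le_antisymm le49 le50

theorem ao_card0 : Nat.card (grp 14 ao_E0) = 190080 :=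
  by rw [ao_0_eq]; exact ao_0_cardG

theorem ao_stab0 : grp 14 ao_E0 ⊓ MulAction.stabilizer (Equiv.Perm (Fin 14)) (⟨12, by decide⟩ : Fin 14) = grp 14 ao_E1 :=
  by rw [ao_0_eq]; exact ao_0_lev

theorem ao_leO0 : grp 14 ao_E0 ≤ grp 14 EA :=
  ao_0_eq.le.trans (grp_cons_le ((le_refl (grp 14 EA)) (le2 (toPerm_mem_grp (E := V1) (by simp [V1])))) ao_leO1)

theorem le51 : grp 14 EA ≤ grp 14 ao_E0 :=
  grp_le_of_memB hn hk ao_E0_ok EA_ok (ws := [nat_lit 1, nat_lit 3, nat_lit 5, nat_lit 7, nat_lit 9, nat_lit 11, nat_lit 13]) (by decide +kernel)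

theorem ao_eq : grp 14 EA = grp 14 ao_E0 :=
  le_antisymm le51 ao_leO0

theorem ao_card : Nat.card (grp 14 EA) = 190080 :=
  by rw [ao_eq]; exact ao_card0

noncomputable def ao_ch : Ch := (Ch.cons (nat_lit 12) [nat_lit 1, nat_lit 3, nat_lit 5, nat_lit 7, nat_lit 9, nat_lit 11, nat_lit 13] (Ch.cons (nat_lit 0) [nat_lit 15, nat_lit 17, nat_lit 19] (Ch.cons (nat_lit 10) [nat_lit 21, nat_lit 23, nat_lit 25] (Ch.cons (nat_lit 11) [nat_lit 27, nat_lit 29, nat_lit 31] (Ch.cons (nat_lit 2) [nat_lit 33, nat_lit 35, nat_lit 37] (Ch.cons (nat_lit 1) [nat_lit 39, nat_lit 41, nat_lit 43, nat_lit 45] Ch.nil))))))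

theorem ao_exact : Ch.Exact 14 ao_E0 ao_ch (grp 14 ao_E0) :=
  Ch.exact (k := 4) (L := (lab 14 4)) hn ao_E0_ok (by decide +kernel) (wgrp_le_grp _ _ _) ao_card0.le

theorem TA_s0 : Stab 14 (grp 14 EA) [] ao_E0 190080 :=
  Stab.root' ao_E0_ok ao_eq ao_card

theorem le59 : grp 14 tb_c1_K ≤ grp 14 ao_E0 :=
  grp_le_of_memB hn hk ao_E0_ok tb_c1_K_ok (ws := [nat_lit 0x29212a1d15170f1101, nat_lit 0x241b180f, nat_lit 0x221d171012, nat_lit 0x2e211d151b, nat_lit 0x29251e16, nat_lit 0x29221b2218, nat_lit 0x2727212a1c1515]) (by decide +kernel)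

theorem tb_c1_le : grp 14 tb_c1_K ≤ (grp 14 EA) :=
  (le59.trans TA_s0.le)

theorem tb_c1_mem : Net.toPerm 14 n_e ∈ (grp 14 EA) :=
  tb_c1_le (mem_grp_of_memB hn hk tb_c1_K_ok n_e_ok (w := (nat_lit 0xe0a070c0606040401)) (by decide +kernel))

theorem tb_c1_sym : Sym 14 (grp 14 EA) [n_e] tb_c1_K 0 :=
  Sym.of_lab hn hk (okE_cons.2 ⟨n_e_ok, okE_nil _⟩) tb_c1_K_ok tb_c1_le (kT := 0) (by decide +kernel)

theorem TA_s1 : Stab 14 (grp 14 EA) [nat_lit 12] V60 95040 :=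
  Stab.step (k := 4) (L := (lab 14 4)) hn TA_s0 V60_ok (grp_mono (List.subset_append_right [n_e, n_m, n_s1, n_s2, n_s3, n_s4, n_a] _)) (c := (Ch.cons (nat_lit 0) [nat_lit 1, nat_lit 3, nat_lit 5] (Ch.cons (nat_lit 10) [nat_lit 7, nat_lit 9, nat_lit 11] (Ch.cons (nat_lit 11) [nat_lit 13, nat_lit 15, nat_lit 17] (Ch.cons (nat_lit 2) [nat_lit 19, nat_lit 21, nat_lit 23] (Ch.cons (nat_lit 1) [nat_lit 25, nat_lit 27, nat_lit 29, nat_lit 31] Ch.nil)))))) (by decide +kernel)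

theorem TA_s2 : Stab 14 (grp 14 EA) [nat_lit 0, nat_lit 12] V61 7920 :=
  Stab.step (k := 4) (L := (lab 14 4)) hn TA_s1 V61_ok (grp_mono (List.subset_append_right [g7, g3, g4] _)) (c := (Ch.cons (nat_lit 10) [nat_lit 1, nat_lit 3, nat_lit 5] (Ch.cons (nat_lit 11) [nat_lit 7, nat_lit 9, nat_lit 11] (Ch.cons (nat_lit 2) [nat_lit 13, nat_lit 15, nat_lit 17] (Ch.cons (nat_lit 1) [nat_lit 19, nat_lit 21, nat_lit 23, nat_lit 25] Ch.nil))))) (by decide +kernel)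

theorem TA_s3 : Stab 14 (grp 14 EA) [nat_lit 10, nat_lit 0, nat_lit 12] V62 720 :=
  Stab.step (k := 4) (L := (lab 14 4)) hn TA_s2 V62_ok (grp_mono (List.subset_append_right [g14, g10, g11] _)) (c := (Ch.cons (nat_lit 11) [nat_lit 1, nat_lit 3, nat_lit 5] (Ch.cons (nat_lit 2) [nat_lit 7, nat_lit 9, nat_lit 11] (Ch.cons (nat_lit 1) [nat_lit 13, nat_lit 15, nat_lit 17, nat_lit 19] Ch.nil)))) (by decide +kernel)

theorem TA_s4 : Stab 14 (grp 14 EA) [nat_lit 11, nat_lit 10, nat_lit 0, nat_lit 12] V63 72 :=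
  Stab.step (k := 4) (L := (lab 14 4)) hn TA_s3 V63_ok (grp_mono (List.subset_append_right [g21, g17, g18] _)) (c := (Ch.cons (nat_lit 2) [nat_lit 1, nat_lit 3, nat_lit 5] (Ch.cons (nat_lit 1) [nat_lit 7, nat_lit 9, nat_lit 11, nat_lit 13] Ch.nil))) (by decide +kernel)

theorem TA_s5 : Stab 14 (grp 14 EA) [nat_lit 2, nat_lit 11, nat_lit 10, nat_lit 0, nat_lit 12] V64 8 :=
  Stab.step (k := 4) (L := (lab 14 4)) hn TA_s4 V64_ok (grp_mono (List.subset_append_right [g28, g24, g25] _)) (c := (Ch.cons (nat_lit 1) [nat_lit 1, nat_lit 3, nat_lit 5, nat_lit 7] Ch.nil)) (by decide +kernel)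

theorem TA_s6 : Stab 14 (grp 14 EA) [nat_lit 1, nat_lit 2, nat_lit 11, nat_lit 10, nat_lit 0, nat_lit 12] V65 1 :=
  Stab.step (k := 4) (L := (lab 14 4)) hn TA_s5 V65_ok (grp_mono (List.subset_append_right [g35, g36, g31, g32] _)) (c := Ch.nil) (by decide +kernel)

theorem g35_TA : Net.toPerm 14 g35 ∈ (grp 14 EA) :=
  TA_s5.le (toPerm_mem_grp (E := V64) (List.Mem.head _))

theorem g36_TA : Net.toPerm 14 g36 ∈ (grp 14 EA) :=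
  TA_s5.le (toPerm_mem_grp (E := V64) (List.Mem.tail _ (List.Mem.head _)))

theorem g31_TA : Net.toPerm 14 g31 ∈ (grp 14 EA) :=
  TA_s5.le (toPerm_mem_grp (E := V64) (List.Mem.tail _ (List.Mem.tail _ (List.Mem.head _))))

theorem g32_TA : Net.toPerm 14 g32 ∈ (grp 14 EA) :=
  TA_s5.le (toPerm_mem_grp (E := V64) (List.Mem.tail _ (List.Mem.tail _ (List.Mem.tail _ (List.Mem.head _)))))

theorem g28_TA : Net.toPerm 14 g28 ∈ (grp 14 EA) :=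
  TA_s4.le (toPerm_mem_grp (E := V63) (List.Mem.head _))

theorem g24_TA : Net.toPerm 14 g24 ∈ (grp 14 EA) :=
  TA_s4.le (toPerm_mem_grp (E := V63) (List.Mem.tail _ (List.Mem.head _)))

theorem g25_TA : Net.toPerm 14 g25 ∈ (grp 14 EA) :=
  TA_s4.le (toPerm_mem_grp (E := V63) (List.Mem.tail _ (List.Mem.tail _ (List.Mem.head _))))

theorem g21_TA : Net.toPerm 14 g21 ∈ (grp 14 EA) :=
  TA_s3.le (toPerm_mem_grp (E := V62) (List.Mem.head _))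

theorem g17_TA : Net.toPerm 14 g17 ∈ (grp 14 EA) :=
  TA_s3.le (toPerm_mem_grp (E := V62) (List.Mem.tail _ (List.Mem.head _)))

theorem g18_TA : Net.toPerm 14 g18 ∈ (grp 14 EA) :=
  TA_s3.le (toPerm_mem_grp (E := V62) (List.Mem.tail _ (List.Mem.tail _ (List.Mem.head _))))

theorem g14_TA : Net.toPerm 14 g14 ∈ (grp 14 EA) :=
  TA_s2.le (toPerm_mem_grp (E := V61) (List.Mem.head _))

theorem g10_TA : Net.toPerm 14 g10 ∈ (grp 14 EA) :=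
  TA_s2.le (toPerm_mem_grp (E := V61) (List.Mem.tail _ (List.Mem.head _)))

theorem g11_TA : Net.toPerm 14 g11 ∈ (grp 14 EA) :=
  TA_s2.le (toPerm_mem_grp (E := V61) (List.Mem.tail _ (List.Mem.tail _ (List.Mem.head _))))

theorem g7_TA : Net.toPerm 14 g7 ∈ (grp 14 EA) :=
  TA_s1.le (toPerm_mem_grp (E := V60) (List.Mem.head _))

theorem g3_TA : Net.toPerm 14 g3 ∈ (grp 14 EA) :=
  TA_s1.le (toPerm_mem_grp (E := V60) (List.Mem.tail _ (List.Mem.head _)))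

theorem g4_TA : Net.toPerm 14 g4 ∈ (grp 14 EA) :=
  TA_s1.le (toPerm_mem_grp (E := V60) (List.Mem.tail _ (List.Mem.tail _ (List.Mem.head _))))

theorem n_e_TA : Net.toPerm 14 n_e ∈ (grp 14 EA) :=
  TA_s0.le (toPerm_mem_grp (E := ao_E0) (List.Mem.head _))

theorem n_m_TA : Net.toPerm 14 n_m ∈ (grp 14 EA) :=
  TA_s0.le (toPerm_mem_grp (E := ao_E0) (List.Mem.tail _ (List.Mem.head _)))

theorem n_s1_TA : Net.toPerm 14 n_s1 ∈ (grp 14 EA) :=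
  TA_s0.le (toPerm_mem_grp (E := ao_E0) (List.Mem.tail _ (List.Mem.tail _ (List.Mem.head _))))

theorem n_s2_TA : Net.toPerm 14 n_s2 ∈ (grp 14 EA) :=
  TA_s0.le (toPerm_mem_grp (E := ao_E0) (List.Mem.tail _ (List.Mem.tail _ (List.Mem.tail _ (List.Mem.head _)))))

theorem n_s3_TA : Net.toPerm 14 n_s3 ∈ (grp 14 EA) :=
  TA_s0.le (toPerm_mem_grp (E := ao_E0) (List.Mem.tail _ (List.Mem.tail _ (List.Mem.tail _ (List.Mem.tail _ (List.Mem.head _))))))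

theorem n_s4_TA : Net.toPerm 14 n_s4 ∈ (grp 14 EA) :=
  TA_s0.le (toPerm_mem_grp (E := ao_E0) (List.Mem.tail _ (List.Mem.tail _ (List.Mem.tail _ (List.Mem.tail _ (List.Mem.tail _ (List.Mem.head _)))))))

theorem n_a_TA : Net.toPerm 14 n_a ∈ (grp 14 EA) :=
  TA_s0.le (toPerm_mem_grp (E := ao_E0) (List.Mem.tail _ (List.Mem.tail _ (List.Mem.tail _ (List.Mem.tail _ (List.Mem.tail _ (List.Mem.tail _ (List.Mem.head _))))))))

noncomputable def TA_s6_O : ℕ := (nat_lit 0xcccb83ecc62d92400000110008000010002)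

theorem TA_s6_F : Frame 14 (grp 14 EA) 6 10 TA_s6_O 1 1 :=
  IsBase.frame TA_s6.isBase (by decide +kernel)

noncomputable def TA_s0_O : ℕ := (nat_lit 12288)

theorem TA_s0_F : Frame 14 (grp 14 EA) 0 1 TA_s0_O 0 1 :=
  Stab.frame hn TA_s0 (by decide +kernel)

noncomputable def tb_c1_cnt_L : List ℕ := [0, 1, TA_s0_O, 0, 0, 6, 10, TA_s6_O, 1, 0]

theorem tb_c1_cnt_P : Prob 14 4 (grp 14 EA) tb_c1_cnt_EG [n_e] [n_e] tb_c1_K tb_c1_cnt_L 0 0 :=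
  Sym.prob hn hk tb_c1_sym tb_c1_cnt_EG_ok (grp_cons_le g35_TA (grp_cons_le g36_TA (grp_cons_le g31_TA (grp_cons_le g32_TA (grp_cons_le g28_TA (grp_cons_le g24_TA (grp_cons_le g25_TA (grp_cons_le g21_TA (grp_cons_le g17_TA (grp_cons_le g18_TA (grp_cons_le g14_TA (grp_cons_le g10_TA (grp_cons_le g11_TA (grp_cons_le g7_TA (grp_cons_le g3_TA (grp_cons_le g4_TA (grp_cons_le n_e_TA (grp_cons_le n_m_TA (grp_cons_le n_s1_TA (grp_cons_le n_s2_TA (grp_cons_le n_s3_TA (grp_cons_le n_s4_TA (grp_cons_le n_a_TA (grp_nil_le _)))))))))))))))))))))))) (Frames.cons TA_s0_F (Frames.cons TA_s6_F Frames.nil)) (okE_cons.2 ⟨n_e_ok, okE_nil _⟩) _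

noncomputable def tb_c1_cnt_t : BT := (BT.frm (nat_lit 0) (nat_lit 0) (nat_lit 0) [] (BT.pln (nat_lit 0) (nat_lit 0) (BT.br (nat_lit 0) (nat_lit 13) [nat_lit 1] (BT.kid (nat_lit 13) (nat_lit 95040) (BT.dif (nat_lit 5) (nat_lit 1) (BT.br (nat_lit 0) (nat_lit 11) [nat_lit 3, nat_lit 5] (BT.kid (nat_lit 11) (nat_lit 7920) (BT.dif (nat_lit 1) (nat_lit 0) (BT.br (nat_lit 0) (nat_lit 0) [nat_lit 5, nat_lit 9] (BT.kid (nat_lit 0) (nat_lit 720) (BT.dif (nat_lit 3) (nat_lit 0) (BT.dif (nat_lit 0) (nat_lit 3) (BT.br (nat_lit 0) (nat_lit 1) [nat_lit 7, nat_lit 11] (BT.kid (nat_lit 1) (nat_lit 72) (BT.dif (nat_lit 6) (nat_lit 0) (BT.dif (nat_lit 0) (nat_lit 6) (BT.dif (nat_lit 0) (nat_lit 5) (BT.br (nat_lit 0) (nat_lit 2) [nat_lit 9, nat_lit 11] (BT.kid (nat_lit 2) (nat_lit 8) (BT.dif (nat_lit 10) (nat_lit 0) (BT.dif (nat_lit 0) (nat_lit 10) (BT.dif (nat_lit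 0) (nat_lit 9) (BT.dif (nat_lit 0) (nat_lit 7) (BT.br (nat_lit 0) (nat_lit 3) [nat_lit 11, nat_lit 13] (BT.kid (nat_lit 3) (nat_lit 1) (BT.one (nat_lit 1) (nat_lit 0x4090f12181b1521) (nat_lit 0x4090f12181b1521) [nat_lit 0, nat_lit 5, nat_lit 9, nat_lit 12, nat_lit 14, nat_lit 16]) BT.nil)))))) BT.nil))))) BT.nil)))) BT.nil))) BT.nil))) BT.nil))))

theorem tb_c1_cnt : Cnt 14 (grp 14 EA) [n_e] [n_e] 0 0 0 0 190080 :=
  BT.sound tb_c1_cnt_P Known.nil (t := tb_c1_cnt_t) (d := 0) (by decide +kernel)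

theorem tb_c1_ge : 190080 ≤ Nat.card (grp 14 tb_c1_K) :=
  Ch.le_card_grp (k := 4) (L := (lab 14 4)) hn tb_c1_K_ok (c := (Ch.cons (nat_lit 13) [nat_lit 1] (Ch.cons (nat_lit 11) [nat_lit 3] (Ch.cons (nat_lit 0) [nat_lit 5] (Ch.cons (nat_lit 1) [nat_lit 7] (Ch.cons (nat_lit 2) [nat_lit 9] (Ch.cons (nat_lit 3) [nat_lit 11, nat_lit 13] Ch.nil))))))) (by decide +kernel)

theorem tb_c1_eq : (grp 14 EA) ⊓ Subgroup.centralizer {Net.toPerm 14 n_e} = grp 14 tb_c1_K :=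
  cent_eq tb_c1_sym tb_c1_cnt tb_c1_ge

theorem tb_c1_card : Nat.card ↥((grp 14 EA) ⊓ Subgroup.centralizer {Net.toPerm 14 n_e}) = 190080 :=
  card_cent tb_c1_sym tb_c1_cnt tb_c1_ge

theorem tb_c1_ord : orderOf (Net.toPerm 14 n_e) = 2 :=
  orderOf_net hn hk n_e_ok (by decide) (ps := [2]) (by set_option linter.unusedSimpArgs false in simp [Nat.primeFactorsList_ofNat]) (by decide +kernel)

theorem le70 : grp 14 tb_c2_K ≤ grp 14 ao_E0 :=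
  grp_le_of_memB hn hk ao_E0_ok tb_c2_K_ok (ws := [nat_lit 0x272401, nat_lit 20, nat_lit 0x211d151b, nat_lit 10020]) (by decide +kernel)

theorem tb_c2_le : grp 14 tb_c2_K ≤ (grp 14 EA) :=
  (le70.trans TA_s0.le)

theorem tb_c2_mem : Net.toPerm 14 n_m ∈ (grp 14 EA) :=
  tb_c2_le (mem_grp_of_memB hn hk tb_c2_K_ok n_m_ok (w := (nat_lit 197379)) (by decide +kernel))

theorem tb_c2_sym : Sym 14 (grp 14 EA) [n_m] tb_c2_K 0 :=
  Sym.of_lab hn hk (okE_cons.2 ⟨n_m_ok, okE_nil _⟩) tb_c2_K_ok tb_c2_le (kT := 0) (by decide +kernel)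

noncomputable def tb_c2_cnt_L : List ℕ := [0, 1, TA_s0_O, 0, 0, 6, 10, TA_s6_O, 1, 0]

theorem tb_c2_cnt_P : Prob 14 4 (grp 14 EA) tb_c2_cnt_EG [n_m] [n_m] tb_c2_K tb_c2_cnt_L 0 0 :=
  Sym.prob hn hk tb_c2_sym tb_c2_cnt_EG_ok (grp_cons_le g35_TA (grp_cons_le g36_TA (grp_cons_le g31_TA (grp_cons_le g32_TA (grp_cons_le g28_TA (grp_cons_le g24_TA (grp_cons_le g25_TA (grp_cons_le g21_TA (grp_cons_le g17_TA (grp_cons_le g18_TA (grp_cons_le g14_TA (grp_cons_le g10_TA (grp_cons_le g11_TA (grp_cons_le g7_TA (grp_cons_le g3_TA (grp_cons_le g4_TA (grp_cons_le n_e_TA (grp_cons_le n_m_TA (grp_cons_le n_s1_TA (grp_cons_le n_s2_TA (grp_cons_le n_s3_TA (grp_cons_le n_s4_TA (grp_cons_le n_a_TA (grp_nil_le _)))))))))))))))))))))))) (Frames.cons TA_s0_F (Frames.cons TA_s6_F Frames.nil)) (okE_cons.2 ⟨n_m_ok, okE_nil _⟩) _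

noncomputable def tb_c2_cnt_t : BT := (BT.frm (nat_lit 0) (nat_lit 0) (nat_lit 0) [] (BT.pln (nat_lit 0) (nat_lit 0) (BT.br (nat_lit 0) (nat_lit 13) [nat_lit 1] (BT.kid (nat_lit 13) (nat_lit 240) (BT.dif (nat_lit 5) (nat_lit 1) (BT.br (nat_lit 0) (nat_lit 0) [nat_lit 3, nat_lit 5] (BT.kid (nat_lit 0) (nat_lit 20) (BT.dif (nat_lit 1) (nat_lit 0) (BT.img (nat_lit 1) (nat_lit 1) (BT.dif (nat_lit 1) (nat_lit 0) (BT.br (nat_lit 0) (nat_lit 10) [nat_lit 5] (BT.dead (nat_lit 3) (BT.dif (nat_lit 5) (nat_lit 0) (BT.dif (nat_lit 0) (nat_lit 5) (BT.dif (nat_lit 0) (nat_lit 4) (BT.img (nat_lit 1) (nat_lit 3) (BT.dif (nat_lit 1) (nat_lit 0) (BT.br (nat_lit 0) (nat_lit 9) [nat_lit 8] (BT.dead (nat_lit 1) (BT.frm (nat_lit 1) (nat_lit 0x30c101521) (nat_lit 0x809121521) [nat_lit 0, nat_lit 2, nat_lit 6, nat_lit 8, nat_lit 10, nat_lit 12] (BT.pln (nat_lit 0) (nat_lit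 6) (BT.img (nat_lit 1) (nat_lit 2) (BT.and (nat_lit 1) (nat_lit 0) (BT.cnt (nat_lit 0)))))) (BT.dead (nat_lit 8) (BT.frm (nat_lit 1) (nat_lit 0x30c101521) (nat_lit 0x109121521) [nat_lit 0, nat_lit 2, nat_lit 6, nat_lit 8, nat_lit 10, nat_lit 12] (BT.pln (nat_lit 0) (nat_lit 6) (BT.img (nat_lit 1) (nat_lit 2) (BT.and (nat_lit 1) (nat_lit 0) (BT.cnt (nat_lit 0)))))) BT.nil)))))))) (BT.kid (nat_lit 10) (nat_lit 4) (BT.dif (nat_lit 5) (nat_lit 0) (BT.dif (nat_lit 0) (nat_lit 5) (BT.dif (nat_lit 0) (nat_lit 4) (BT.img (nat_lit 1) (nat_lit 3) (BT.dif (nat_lit 1) (nat_lit 0) (BT.br (nat_lit 0) (nat_lit 9) [nat_lit 7] (BT.dead (nat_lit 8) (BT.frm (nat_lit 1) (nat_lit 0x30c101521) (nat_lit 0x20c101521) [nat_lit 0, nat_lit 2, nat_lit 6, nat_lit 8, nat_lit 10, nat_lit 12] (BT.pln (nat_lit 0) (nat_lit 7) (BT.img (nat_lit 1) (nat_lit 2) (BT.and (nat_lit 1)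 (nat_lit 0) (BT.cnt (nat_lit 0)))))) (BT.kid (nat_lit 9) (nat_lit 1) (BT.one (nat_lit 1) (nat_lit 0x30c101521) (nat_lit 0x30c101521) [nat_lit 0, nat_lit 2, nat_lit 6, nat_lit 8, nat_lit 10, nat_lit 12]) BT.nil)))))))) BT.nil)))))) BT.nil))) BT.nil))))

theorem tb_c2_cnt : Cnt 14 (grp 14 EA) [n_m] [n_m] 0 0 0 0 480 :=
  BT.sound tb_c2_cnt_P Known.nil (t := tb_c2_cnt_t) (d := 0) (by decide +kernel)

theorem tb_c2_ge : 480 ≤ Nat.card (grp 14 tb_c2_K) :=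
  Ch.le_card_grp (k := 4) (L := (lab 14 4)) hn tb_c2_K_ok (c := (Ch.cons (nat_lit 13) [nat_lit 1] (Ch.cons (nat_lit 0) [nat_lit 3] (Ch.cons (nat_lit 10) [nat_lit 5] (Ch.cons (nat_lit 9) [nat_lit 7] Ch.nil))))) (by decide +kernel)

theorem tb_c2_eq : (grp 14 EA) ⊓ Subgroup.centralizer {Net.toPerm 14 n_m} = grp 14 tb_c2_K :=
  cent_eq tb_c2_sym tb_c2_cnt tb_c2_ge

theorem tb_c2_card : Nat.card ↥((grp 14 EA) ⊓ Subgroup.centralizer {Net.toPerm 14 n_m}) = 480 :=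
  card_cent tb_c2_sym tb_c2_cnt tb_c2_ge

theorem tb_c2_ord : orderOf (Net.toPerm 14 n_m) = 2 :=
  orderOf_net hn hk n_m_ok (by decide) (ps := [2]) (by set_option linter.unusedSimpArgs false in simp [Nat.primeFactorsList_ofNat]) (by decide +kernel)

theorem le74 : grp 14 tb_c3_K ≤ grp 14 ao_E0 :=
  grp_le_of_memB hn hk ao_E0_ok tb_c3_K_ok (ws := [nat_lit 0x211b180f1401, nat_lit 0x2925201510, nat_lit 0x272721211e16, nat_lit 10020]) (by decide +kernel)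

theorem tb_c3_le : grp 14 tb_c3_K ≤ (grp 14 EA) :=
  (le74.trans TA_s0.le)

theorem tb_c3_mem : Net.toPerm 14 n_em ∈ (grp 14 EA) :=
  tb_c3_le (mem_grp_of_memB hn hk tb_c3_K_ok n_em_ok (w := (nat_lit 0x806030501)) (by decide +kernel))

theorem tb_c3_sym : Sym 14 (grp 14 EA) [n_em] tb_c3_K 0 :=
  Sym.of_lab hn hk (okE_cons.2 ⟨n_em_ok, okE_nil _⟩) tb_c3_K_ok tb_c3_le (kT := 0) (by decide +kernel)

noncomputable def tb_c3_cnt_L : List ℕ := [0, 1, TA_s0_O, 0, 0, 6, 10, TA_s6_O, 1, 0]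

theorem tb_c3_cnt_P : Prob 14 4 (grp 14 EA) tb_c3_cnt_EG [n_em] [n_em] tb_c3_K tb_c3_cnt_L 0 0 :=
  Sym.prob hn hk tb_c3_sym tb_c3_cnt_EG_ok (grp_cons_le g35_TA (grp_cons_le g36_TA (grp_cons_le g31_TA (grp_cons_le g32_TA (grp_cons_le g28_TA (grp_cons_le g24_TA (grp_cons_le g25_TA (grp_cons_le g21_TA (grp_cons_le g17_TA (grp_cons_le g18_TA (grp_cons_le g14_TA (grp_cons_le g10_TA (grp_cons_le g11_TA (grp_cons_le g7_TA (grp_cons_le g3_TA (grp_cons_le g4_TA (grp_cons_le n_e_TA (grp_cons_le n_m_TA (grp_cons_le n_s1_TA (grp_cons_le n_s2_TA (grp_cons_le n_s3_TA (grp_cons_le n_s4_TA (grp_cons_le n_a_TA (grp_nil_le _)))))))))))))))))))))))) (Frames.cons TA_s0_F (Frames.cons TA_s6_F Frames.nil)) (okE_cons.2 ⟨n_em_ok, okE_nil _⟩) _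

noncomputable def tb_c3_cnt_t : BT := (BT.frm (nat_lit 0) (nat_lit 0) (nat_lit 0) [] (BT.pln (nat_lit 0) (nat_lit 0) (BT.br (nat_lit 0) (nat_lit 13) [nat_lit 1] (BT.kid (nat_lit 13) (nat_lit 240) (BT.dif (nat_lit 5) (nat_lit 1) (BT.br (nat_lit 0) (nat_lit 0) [nat_lit 3, nat_lit 5] (BT.kid (nat_lit 0) (nat_lit 20) (BT.dif (nat_lit 1) (nat_lit 0) (BT.img (nat_lit 1) (nat_lit 1) (BT.dif (nat_lit 1) (nat_lit 0) (BT.br (nat_lit 0) (nat_lit 10) [nat_lit 5, nat_lit 7] (BT.dead (nat_lit 3) (BT.dif (nat_lit 5) (nat_lit 0) (BT.dif (nat_lit 0) (nat_lit 5) (BT.dif (nat_lit 0) (nat_lit 4) (BT.img (nat_lit 1) (nat_lit 3) (BT.dif (nat_lit 1) (nat_lit 0) (BT.br (nat_lit 0) (nat_lit 9) [nat_lit 7] (BT.dead (nat_lit 1) (BT.frm (nat_lit 1) (nat_lit 0x30c101521) (nat_lit 0x809121521) [nat_lit 0, nat_lit 2, nat_lit 6, nat_lit 8, nat_lit 10, nat_lit 12] (BT.pln (nat_lit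 0) (nat_lit 6) (BT.img (nat_lit 1) (nat_lit 2) (BT.and (nat_lit 1) (nat_lit 0) (BT.cnt (nat_lit 0)))))) (BT.dead (nat_lit 8) (BT.frm (nat_lit 1) (nat_lit 0x30c101521) (nat_lit 0x109121521) [nat_lit 0, nat_lit 2, nat_lit 6, nat_lit 8, nat_lit 10, nat_lit 12] (BT.pln (nat_lit 0) (nat_lit 6) (BT.img (nat_lit 1) (nat_lit 2) (BT.and (nat_lit 1) (nat_lit 0) (BT.cnt (nat_lit 0)))))) BT.nil)))))))) (BT.kid (nat_lit 10) (nat_lit 4) (BT.dif (nat_lit 5) (nat_lit 0) (BT.dif (nat_lit 0) (nat_lit 5) (BT.dif (nat_lit 0) (nat_lit 4) (BT.img (nat_lit 1) (nat_lit 3) (BT.dif (nat_lit 1) (nat_lit 0) (BT.br (nat_lit 0) (nat_lit 9) [nat_lit 7] (BT.dead (nat_lit 8) (BT.frm (nat_lit 1) (nat_lit 0x30c101521) (nat_lit 0x20c101521) [nat_lit 0, nat_lit 2, nat_lit 6, nat_lit 8, nat_lit 10, nat_lit 12] (BT.pln (nat_lit 0) (nat_lit 7) (BT.img (nat_lit 1) (nat_lit 2) (BT.and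 (nat_lit 1) (nat_lit 0) (BT.cnt (nat_lit 0)))))) (BT.kid (nat_lit 9) (nat_lit 1) (BT.one (nat_lit 1) (nat_lit 0x30c101521) (nat_lit 0x30c101521) [nat_lit 0, nat_lit 2, nat_lit 6, nat_lit 8, nat_lit 10, nat_lit 12]) BT.nil)))))))) BT.nil)))))) BT.nil))) BT.nil))))

theorem tb_c3_cnt : Cnt 14 (grp 14 EA) [n_em] [n_em] 0 0 0 0 480 :=
  BT.sound tb_c3_cnt_P Known.nil (t := tb_c3_cnt_t) (d := 0) (by decide +kernel)

theorem tb_c3_ge : 480 ≤ Nat.card (grp 14 tb_c3_K) :=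
  Ch.le_card_grp (k := 4) (L := (lab 14 4)) hn tb_c3_K_ok (c := (Ch.cons (nat_lit 13) [nat_lit 1] (Ch.cons (nat_lit 0) [nat_lit 3] (Ch.cons (nat_lit 10) [nat_lit 5] (Ch.cons (nat_lit 9) [nat_lit 7] Ch.nil))))) (by decide +kernel)

theorem tb_c3_eq : (grp 14 EA) ⊓ Subgroup.centralizer {Net.toPerm 14 n_em} = grp 14 tb_c3_K :=
  cent_eq tb_c3_sym tb_c3_cnt tb_c3_ge

theorem tb_c3_card : Nat.card ↥((grp 14 EA) ⊓ Subgroup.centralizer {Net.toPerm 14 n_em}) = 480 :=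
  card_cent tb_c3_sym tb_c3_cnt tb_c3_ge

theorem tb_c3_ord : orderOf (Net.toPerm 14 n_em) = 2 :=
  orderOf_net hn hk n_em_ok (by decide) (ps := [2]) (by set_option linter.unusedSimpArgs false in simp [Nat.primeFactorsList_ofNat]) (by decide +kernel)

theorem le79 : grp 14 tb_c4_K ≤ grp 14 ao_E0 :=
  grp_le_of_memB hn hk ao_E0_ok tb_c4_K_ok (ws := [nat_lit 0x2d21292017101201, nat_lit 0x2d251d15190f14, nat_lit 0x2a21291b161d, nat_lit 10530]) (by decide +kernel)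

theorem tb_c4_le : grp 14 tb_c4_K ≤ (grp 14 EA) :=
  (le79.trans TA_s0.le)

theorem tb_c4_mem : Net.toPerm 14 n_t ∈ (grp 14 EA) :=
  tb_c4_le (mem_grp_of_memB hn hk tb_c4_K_ok n_t_ok (w := (nat_lit 0x7030703)) (by decide +kernel))

theorem tb_c4_sym : Sym 14 (grp 14 EA) [n_t] tb_c4_K 0 :=
  Sym.of_lab hn hk (okE_cons.2 ⟨n_t_ok, okE_nil _⟩) tb_c4_K_ok tb_c4_le (kT := 0) (by decide +kernel)

noncomputable def tb_c4_cnt_L : List ℕ := [0, 1, TA_s0_O, 0, 0, 6, 10, TA_s6_O, 1, 0]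

theorem tb_c4_cnt_P : Prob 14 4 (grp 14 EA) tb_c4_cnt_EG [n_t] [n_t] tb_c4_K tb_c4_cnt_L 0 0 :=
  Sym.prob hn hk tb_c4_sym tb_c4_cnt_EG_ok (grp_cons_le g35_TA (grp_cons_le g36_TA (grp_cons_le g31_TA (grp_cons_le g32_TA (grp_cons_le g28_TA (grp_cons_le g24_TA (grp_cons_le g25_TA (grp_cons_le g21_TA (grp_cons_le g17_TA (grp_cons_le g18_TA (grp_cons_le g14_TA (grp_cons_le g10_TA (grp_cons_le g11_TA (grp_cons_le g7_TA (grp_cons_le g3_TA (grp_cons_le g4_TA (grp_cons_le n_e_TA (grp_cons_le n_m_TA (grp_cons_le n_s1_TA (grp_cons_le n_s2_TA (grp_cons_le n_s3_TA (grp_cons_le n_s4_TA (grp_cons_le n_a_TA (grp_nil_le _)))))))))))))))))))))))) (Frames.cons TA_s0_F (Frames.cons TA_s6_F Frames.nil)) (okE_cons.2 ⟨n_t_ok, okE_nil _⟩) _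

noncomputable def tb_c4_cnt_t : BT := (BT.frm (nat_lit 0) (nat_lit 0) (nat_lit 0) [] (BT.pln (nat_lit 0) (nat_lit 0) (BT.br (nat_lit 0) (nat_lit 13) [nat_lit 1] (BT.kid (nat_lit 13) (nat_lit 192) (BT.fix (nat_lit 1) (BT.dif (nat_lit 6) (nat_lit 0) (BT.br (nat_lit 0) (nat_lit 0) [nat_lit 3] (BT.kid (nat_lit 0) (nat_lit 24) (BT.dif (nat_lit 1) (nat_lit 0) (BT.img (nat_lit 1) (nat_lit 1) (BT.dif (nat_lit 1) (nat_lit 0) (BT.br (nat_lit 0) (nat_lit 11) [nat_lit 5, nat_lit 7] (BT.kid (nat_lit 11) (nat_lit 4) (BT.dif (nat_lit 5) (nat_lit 0) (BT.dif (nat_lit 0) (nat_lit 5) (BT.dif (nat_lit 0) (nat_lit 4) (BT.img (nat_lit 1) (nat_lit 3) (BT.dif (nat_lit 1) (nat_lit 0) (BT.br (nat_lit 0) (nat_lit 8) [nat_lit 7] (BT.kid (nat_lit 8) (nat_lit 1) (BT.one (nat_lit 1) (nat_lit 0x209080f0a1721) (nat_lit 0x209080f0a1721) [nat_lit 0, nat_lit 2, nat_lit 6, nat_lit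 8, nat_lit 10, nat_lit 13]) BT.nil))))))) BT.nil))))) BT.nil)))) BT.nil))))

theorem tb_c4_cnt : Cnt 14 (grp 14 EA) [n_t] [n_t] 0 0 0 0 384 :=
  BT.sound tb_c4_cnt_P Known.nil (t := tb_c4_cnt_t) (d := 0) (by decide +kernel)

theorem tb_c4_ge : 384 ≤ Nat.card (grp 14 tb_c4_K) :=
  Ch.le_card_grp (k := 4) (L := (lab 14 4)) hn tb_c4_K_ok (c := (Ch.cons (nat_lit 13) [nat_lit 1] (Ch.cons (nat_lit 0) [nat_lit 3] (Ch.cons (nat_lit 11) [nat_lit 5] (Ch.cons (nat_lit 8) [nat_lit 7] Ch.nil))))) (by decide +kernel)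

theorem tb_c4_eq : (grp 14 EA) ⊓ Subgroup.centralizer {Net.toPerm 14 n_t} = grp 14 tb_c4_K :=
  cent_eq tb_c4_sym tb_c4_cnt tb_c4_ge

theorem tb_c4_card : Nat.card ↥((grp 14 EA) ⊓ Subgroup.centralizer {Net.toPerm 14 n_t}) = 384 :=
  card_cent tb_c4_sym tb_c4_cnt tb_c4_ge

theorem tb_c4_ord : orderOf (Net.toPerm 14 n_t) = 2 :=
  orderOf_net hn hk n_t_ok (by decide) (ps := [2]) (by set_option linter.unusedSimpArgs false in simp [Nat.primeFactorsList_ofNat]) (by decide +kernel)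

theorem le83 : grp 14 tb_c5_K ≤ grp 14 ao_E0 :=
  grp_le_of_memB hn hk ao_E0_ok tb_c5_K_ok (ws := [nat_lit 0x2a251b210f1301, nat_lit 0x29212a1b15171012, nat_lit 0x2727211b151b, nat_lit 10530]) (by decide +kernel)

theorem tb_c5_le : grp 14 tb_c5_K ≤ (grp 14 EA) :=
  (le83.trans TA_s0.le)

theorem tb_c5_mem : Net.toPerm 14 n_et ∈ (grp 14 EA) :=
  tb_c5_le (mem_grp_of_memB hn hk tb_c5_K_ok n_et_ok (w := (nat_lit 0x80507030601)) (by decide +kernel))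

theorem tb_c5_sym : Sym 14 (grp 14 EA) [n_et] tb_c5_K 0 :=
  Sym.of_lab hn hk (okE_cons.2 ⟨n_et_ok, okE_nil _⟩) tb_c5_K_ok tb_c5_le (kT := 0) (by decide +kernel)

noncomputable def tb_c5_cnt_L : List ℕ := [0, 1, TA_s0_O, 0, 0, 6, 10, TA_s6_O, 1, 0]

theorem tb_c5_cnt_P : Prob 14 4 (grp 14 EA) tb_c5_cnt_EG [n_et] [n_et] tb_c5_K tb_c5_cnt_L 0 0 :=
  Sym.prob hn hk tb_c5_sym tb_c5_cnt_EG_ok (grp_cons_le g35_TA (grp_cons_le g36_TA (grp_cons_le g31_TA (grp_cons_le g32_TA (grp_cons_le g28_TA (grp_cons_le g24_TA (grp_cons_le g25_TA (grp_cons_le g21_TA (grp_cons_le g17_TA (grp_cons_le g18_TA (grp_cons_le g14_TA (grp_cons_le g10_TA (grp_cons_le g11_TA (grp_cons_le g7_TA (grp_cons_le g3_TA (grp_cons_le g4_TA (grp_cons_le n_e_TA (grp_cons_le n_m_TA (grp_cons_le n_s1_TA (grp_cons_le n_s2_TA (grp_cons_le n_s3_TA (grp_cons_le n_s4_TA (grp_cons_le n_a_TA (grp_nil_le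 _)))))))))))))))))))))))) (Frames.cons TA_s0_F (Frames.cons TA_s6_F Frames.nil)) (okE_cons.2 ⟨n_et_ok, okE_nil _⟩) _

noncomputable def tb_c5_cnt_t : BT := (BT.frm (nat_lit 0) (nat_lit 0) (nat_lit 0) [] (BT.pln (nat_lit 0) (nat_lit 0) (BT.br (nat_lit 0) (nat_lit 13) [nat_lit 1] (BT.kid (nat_lit 13) (nat_lit 192) (BT.fix (nat_lit 1) (BT.dif (nat_lit 6) (nat_lit 0) (BT.dif (nat_lit 0) (nat_lit 3) (BT.br (nat_lit 0) (nat_lit 0) [nat_lit 3] (BT.kid (nat_lit 0) (nat_lit 24) (BT.dif (nat_lit 1) (nat_lit 0) (BT.img (nat_lit 1) (nat_lit 1) (BT.dif (nat_lit 1) (nat_lit 0) (BT.br (nat_lit 0) (nat_lit 11) [nat_lit 5, nat_lit 7] (BT.kid (nat_lit 11) (nat_lit 4) (BT.dif (nat_lit 5) (nat_lit 0) (BT.dif (nat_lit 0) (nat_lit 5) (BT.dif (nat_lit 0) (nat_lit 4) (BT.img (nat_lit 1) (nat_lit 3) (BT.dif (nat_lit 1) (nat_lit 0) (BT.br (nat_lit 0) (nat_lit 8) [nat_lit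 7] (BT.kid (nat_lit 8) (nat_lit 1) (BT.one (nat_lit 1) (nat_lit 0x209080f0a1721) (nat_lit 0x209080f0a1721) [nat_lit 0, nat_lit 2, nat_lit 6, nat_lit 8, nat_lit 10, nat_lit 14]) BT.nil))))))) BT.nil))))) BT.nil))))) BT.nil))))

theorem tb_c5_cnt : Cnt 14 (grp 14 EA) [n_et] [n_et] 0 0 0 0 384 :=
  BT.sound tb_c5_cnt_P Known.nil (t := tb_c5_cnt_t) (d := 0) (by decide +kernel)

theorem tb_c5_ge : 384 ≤ Nat.card (grp 14 tb_c5_K) :=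
  Ch.le_card_grp (k := 4) (L := (lab 14 4)) hn tb_c5_K_ok (c := (Ch.cons (nat_lit 13) [nat_lit 1] (Ch.cons (nat_lit 0) [nat_lit 3] (Ch.cons (nat_lit 11) [nat_lit 5] (Ch.cons (nat_lit 8) [nat_lit 7] Ch.nil))))) (by decide +kernel)

theorem tb_c5_eq : (grp 14 EA) ⊓ Subgroup.centralizer {Net.toPerm 14 n_et} = grp 14 tb_c5_K :=
  cent_eq tb_c5_sym tb_c5_cnt tb_c5_ge

theorem tb_c5_card : Nat.card ↥((grp 14 EA) ⊓ Subgroup.centralizer {Net.toPerm 14 n_et}) = 384 :=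
  card_cent tb_c5_sym tb_c5_cnt tb_c5_ge

theorem tb_c5_ord : orderOf (Net.toPerm 14 n_et) = 2 :=
  orderOf_net hn hk n_et_ok (by decide) (ps := [2]) (by set_option linter.unusedSimpArgs false in simp [Nat.primeFactorsList_ofNat]) (by decide +kernel)

theorem le88 : grp 14 tb_c6_K ≤ grp 14 ao_E0 :=
  grp_le_of_memB hn hk ao_E0_ok tb_c6_K_ok (ws := [nat_lit 0x2e21211b15150f14, nat_lit 0x2a221b151018, nat_lit 0x28212e1e01, nat_lit 0x2a2415, nat_lit 1]) (by decide +kernel)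

theorem tb_c6_le : grp 14 tb_c6_K ≤ (grp 14 EA) :=
  (le88.trans TA_s0.le)

theorem tb_c6_mem : Net.toPerm 14 g84 ∈ (grp 14 EA) :=
  tb_c6_le (toPerm_mem_grp (E := tb_c6_K) (List.Mem.head _))

theorem tb_c6_sym : Sym 14 (grp 14 EA) [g84] tb_c6_K 0 :=
  Sym.of_lab hn hk (okE_cons.2 ⟨g84_ok, okE_nil _⟩) tb_c6_K_ok tb_c6_le (kT := 0) (by decide +kernel)

theorem le95 : grp 14 V94 ≤ grp 14 ao_E0 :=
  grp_le_of_memB hn hk ao_E0_ok V94_ok (ws := [nat_lit 0x29212a1d180f1401, nat_lit 0x2727212a1b2217, nat_lit 0x2a1b1e150f1401, nat_lit 0x29251b1e1018, nat_lit 0x2a1b2215150f1701, nat_lit 1]) (by decide +kernel)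

theorem TA_s7 : Stab 14 (grp 14 EA) [nat_lit 11] V94 15840 :=
  Stab.step (k := 4) (L := (lab 14 4)) hn TA_s0 V94_ok le95 (c := (Ch.cons (nat_lit 1) [nat_lit 1] (Ch.cons (nat_lit 2) [nat_lit 3] (Ch.cons (nat_lit 7) [nat_lit 5] (Ch.cons (nat_lit 4) [nat_lit 7, nat_lit 9] (Ch.cons (nat_lit 13) [nat_lit 11] Ch.nil)))))) (by decide +kernel)

theorem TA_s8 : Stab 14 (grp 14 EA) [nat_lit 1, nat_lit 11] V96 1440 :=
  Stab.step (k := 4) (L := (lab 14 4)) hn TA_s7 V96_ok (grp_mono (List.subset_append_right [g89] _)) (c := (Ch.cons (nat_lit 2) [nat_lit 1] (Ch.cons (nat_lit 7) [nat_lit 3] (Ch.cons (nat_lit 4) [nat_lit 5, nat_lit 7] (Ch.cons (nat_lit 13) [nat_lit 9] Ch.nil))))) (by decide +kernel)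

theorem TA_s9 : Stab 14 (grp 14 EA) [nat_lit 2, nat_lit 1, nat_lit 11] V97 144 :=
  Stab.step (k := 4) (L := (lab 14 4)) hn TA_s8 V97_ok (grp_mono (List.subset_append_right [g90] _)) (c := (Ch.cons (nat_lit 7) [nat_lit 1] (Ch.cons (nat_lit 4) [nat_lit 3, nat_lit 5] (Ch.cons (nat_lit 13) [nat_lit 7] Ch.nil)))) (by decide +kernel)

theorem TA_s10 : Stab 14 (grp 14 EA) [nat_lit 7, nat_lit 2, nat_lit 1, nat_lit 11] V98 16 :=
  Stab.step (k := 4) (L := (lab 14 4)) hn TA_s9 V98_ok (grp_mono (List.subset_append_right [g91] _)) (c := (Ch.cons (nat_lit 4) [nat_lit 1, nat_lit 3] (Ch.cons (nat_lit 13) [nat_lit 5] Ch.nil))) (by decide +kernel)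

theorem TA_s11 : Stab 14 (grp 14 EA) [nat_lit 4, nat_lit 7, nat_lit 2, nat_lit 1, nat_lit 11] V99 2 :=
  Stab.step (k := 4) (L := (lab 14 4)) hn TA_s10 V99_ok (grp_mono (List.subset_append_right [g92, g93] _)) (c := (Ch.cons (nat_lit 13) [nat_lit 1] Ch.nil)) (by decide +kernel)

theorem TA_s12 : Stab 14 (grp 14 EA) [nat_lit 13, nat_lit 4, nat_lit 7, nat_lit 2, nat_lit 1, nat_lit 11] V100 1 :=
  Stab.step (k := 4) (L := (lab 14 4)) hn TA_s11 V100_ok (grp_mono (List.subset_append_right [n_e] _)) (c := Ch.nil) (by decide +kernel)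

theorem g92_TA : Net.toPerm 14 g92 ∈ (grp 14 EA) :=
  TA_s10.le (toPerm_mem_grp (E := V98) (List.Mem.head _))

theorem g93_TA : Net.toPerm 14 g93 ∈ (grp 14 EA) :=
  TA_s10.le (toPerm_mem_grp (E := V98) (List.Mem.tail _ (List.Mem.head _)))

theorem g91_TA : Net.toPerm 14 g91 ∈ (grp 14 EA) :=
  TA_s9.le (toPerm_mem_grp (E := V97) (List.Mem.head _))

theorem g90_TA : Net.toPerm 14 g90 ∈ (grp 14 EA) :=
  TA_s8.le (toPerm_mem_grp (E := V96) (List.Mem.head _))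

theorem g89_TA : Net.toPerm 14 g89 ∈ (grp 14 EA) :=
  TA_s7.le (toPerm_mem_grp (E := V94) (List.Mem.head _))

noncomputable def TA_s12_O : ℕ := (nat_lit 0xcccb83ecc62d92200000200100800042000)

theorem TA_s12_F : Frame 14 (grp 14 EA) 6 10 TA_s12_O 1 1 :=
  IsBase.frame TA_s12.isBase (by decide +kernel)

noncomputable def tb_c6_cnt_L : List ℕ := [0, 1, TA_s0_O, 0, 0, 6, 10, TA_s12_O, 1, 0]

theorem tb_c6_cnt_P : Prob 14 4 (grp 14 EA) tb_c6_cnt_EG [g84] [g84] tb_c6_K tb_c6_cnt_L 0 0 :=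
  Sym.prob hn hk tb_c6_sym tb_c6_cnt_EG_ok (grp_cons_le n_e_TA (grp_cons_le g92_TA (grp_cons_le g93_TA (grp_cons_le g91_TA (grp_cons_le g90_TA (grp_cons_le g89_TA (grp_cons_le n_m_TA (grp_cons_le n_s1_TA (grp_cons_le n_s2_TA (grp_cons_le n_s3_TA (grp_cons_le n_s4_TA (grp_cons_le n_a_TA (grp_cons_le g7_TA (grp_cons_le g3_TA (grp_cons_le g4_TA (grp_cons_le g14_TA (grp_cons_le g10_TA (grp_cons_le g11_TA (grp_cons_le g21_TA (grp_cons_le g17_TA (grp_cons_le g18_TA (grp_cons_le g28_TA (grp_cons_le g24_TA (grp_cons_le g25_TA (grp_cons_le g35_TA (grp_cons_le g36_TA (grp_cons_le g31_TA (grp_cons_le g32_TA (grp_nil_le _))))))))))))))))))))))))))))) (Frames.cons TA_s0_F (Frames.cons TA_s12_F Frames.nil)) (okE_cons.2 ⟨g84_ok, okE_nil _⟩) _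

noncomputable def tb_c6_cnt_t : BT := (BT.fix (nat_lit 1) (BT.dif (nat_lit 3) (nat_lit 0) (BT.br (nat_lit 0) (nat_lit 0) [nat_lit 1, nat_lit 3] (BT.kid (nat_lit 0) (nat_lit 12) (BT.dif (nat_lit 1) (nat_lit 0) (BT.img (nat_lit 1) (nat_lit 1) (BT.dif (nat_lit 1) (nat_lit 0) (BT.img (nat_lit 1) (nat_lit 1) (BT.dif (nat_lit 1) (nat_lit 0) (BT.br (nat_lit 0) (nat_lit 7) [nat_lit 5, nat_lit 7] (BT.kid (nat_lit 7) (nat_lit 2) (BT.frm (nat_lit 0) (nat_lit 0) (nat_lit 0) [] (BT.pln (nat_lit 0) (nat_lit 0) (BT.br (nat_lit 0) (nat_lit 13) [nat_lit 9] (BT.kid (nat_lit 13) (nat_lit 1) (BT.img (nat_lit 1) (nat_lit 3) (BT.one (nat_lit 1) (nat_lit 0x1050a0d) (nat_lit 0x1050a0d) [nat_lit 1, nat_lit 0, nat_lit 4, nat_lit 6, nat_lit 8, nat_lit 10])) BT.nil)))) BT.nil))))))) BT.nil))))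

theorem tb_c6_cnt : Cnt 14 (grp 14 EA) [g84] [g84] 0 0 0 0 108 :=
  BT.sound tb_c6_cnt_P Known.nil (t := tb_c6_cnt_t) (d := 0) (by decide +kernel)

theorem tb_c6_ge : 108 ≤ Nat.card (grp 14 tb_c6_K) :=
  Ch.le_card_grp (k := 4) (L := (lab 14 4)) hn tb_c6_K_ok (c := (Ch.cons (nat_lit 0) [nat_lit 1, nat_lit 3] (Ch.cons (nat_lit 7) [nat_lit 5, nat_lit 7] (Ch.cons (nat_lit 13) [nat_lit 9] Ch.nil)))) (by decide +kernel)

theorem tb_c6_eq : (grp 14 EA) ⊓ Subgroup.centralizer {Net.toPerm 14 g84} = grp 14 tb_c6_K :=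
  cent_eq tb_c6_sym tb_c6_cnt tb_c6_ge

theorem tb_c6_card : Nat.card ↥((grp 14 EA) ⊓ Subgroup.centralizer {Net.toPerm 14 g84}) = 108 :=
  card_cent tb_c6_sym tb_c6_cnt tb_c6_ge

theorem tb_c6_ord : orderOf (Net.toPerm 14 g84) = 3 :=
  orderOf_net hn hk g84_ok (by decide) (ps := [3]) (by set_option linter.unusedSimpArgs false in simp [Nat.primeFactorsList_ofNat]) (by decide +kernel)

theorem le104 : grp 14 tb_c7_K ≤ grp 14 ao_E0 :=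
  grp_le_of_memB hn hk ao_E0_ok tb_c7_K_ok (ws := [nat_lit 0x2a221b1e0f14, nat_lit 0x29211b21181401, nat_lit 0x1b1b151901, nat_lit 1]) (by decide +kernel)

theorem tb_c7_le : grp 14 tb_c7_K ≤ (grp 14 EA) :=
  (le104.trans TA_s0.le)

theorem tb_c7_mem : Net.toPerm 14 g101 ∈ (grp 14 EA) :=
  tb_c7_le (toPerm_mem_grp (E := tb_c7_K) (List.Mem.head _))

theorem tb_c7_sym : Sym 14 (grp 14 EA) [g101] tb_c7_K 0 :=
  Sym.of_lab hn hk (okE_cons.2 ⟨g101_ok, okE_nil _⟩) tb_c7_K_ok tb_c7_le (kT := 0) (by decide +kernel)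

noncomputable def TA_s11_O : ℕ := (nat_lit 0x100020004000400080008000480000080040200010)

theorem TA_s11_F : Frame 14 (grp 14 EA) 5 12 TA_s11_O 0 1 :=
  Stab.frame hn TA_s11 (by decide +kernel)

noncomputable def tb_c7_cnt_L : List ℕ := [0, 1, TA_s0_O, 0, 0, 5, 12, TA_s11_O, 0, 0, 6, 10, TA_s12_O, 1, 0]

theorem tb_c7_cnt_P : Prob 14 4 (grp 14 EA) tb_c7_cnt_EG [g101] [g101] tb_c7_K tb_c7_cnt_L 0 0 :=
  Sym.prob hn hk tb_c7_sym tb_c7_cnt_EG_ok (grp_cons_le g92_TA (grp_cons_le g93_TA (grp_cons_le n_e_TA (grp_cons_le g91_TA (grp_cons_le g90_TA (grp_cons_le g89_TA (grp_cons_le n_m_TA (grp_cons_le n_s1_TA (grp_cons_le n_s2_TA (grp_cons_le n_s3_TA (grp_cons_le n_s4_TA (grp_cons_le n_a_TA (grp_cons_le g7_TA (grp_cons_le g3_TA (grp_cons_le g4_TA (grp_cons_le g14_TA (grp_cons_le g10_TA (grp_cons_le g11_TA (grp_cons_le g21_TA (grp_cons_le g17_TA (grp_cons_le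 g18_TA (grp_cons_le g28_TA (grp_cons_le g24_TA (grp_cons_le g25_TA (grp_cons_le g35_TA (grp_cons_le g36_TA (grp_cons_le g31_TA (grp_cons_le g32_TA (grp_nil_le _))))))))))))))))))))))))))))) (Frames.cons TA_s0_F (Frames.cons TA_s11_F (Frames.cons TA_s12_F Frames.nil))) (okE_cons.2 ⟨g101_ok, okE_nil _⟩) _

noncomputable def tb_c7_cnt_t : BT := (BT.frm (nat_lit 0) (nat_lit 0) (nat_lit 0) [] (BT.pln (nat_lit 0) (nat_lit 0) (BT.dif (nat_lit 4) (nat_lit 0) (BT.br (nat_lit 0) (nat_lit 0) [nat_lit 3, nat_lit 5] (BT.kid (nat_lit 0) (nat_lit 6) (BT.dif (nat_lit 1) (nat_lit 0) (BT.img (nat_lit 1) (nat_lit 1) (BT.dif (nat_lit 1) (nat_lit 0) (BT.img (nat_lit 1) (nat_lit 1) (BT.dif (nat_lit 1) (nat_lit 0) (BT.br (nat_lit 0) (nat_lit 11) [nat_lit 5] (BT.dead (nat_lit 9) (BT.img (nat_lit 1) (nat_lit 0) (BT.frm (nat_lit 1) (nat_lit 0x307020a080d) (nat_lit 0x10107010a080d)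 [nat_lit 0, nat_lit 1, nat_lit 3, nat_lit 5, nat_lit 7] (BT.pln (nat_lit 0) (nat_lit 8) (BT.img (nat_lit 1) (nat_lit 2) (BT.and (nat_lit 1) (nat_lit 0) (BT.cnt (nat_lit 0))))))) (BT.dead (nat_lit 2) (BT.img (nat_lit 1) (nat_lit 0) (BT.frm (nat_lit 1) (nat_lit 0x307020a080d) (nat_lit 0x3070a080d) [nat_lit 0, nat_lit 1, nat_lit 3, nat_lit 5, nat_lit 7] (BT.pln (nat_lit 0) (nat_lit 9) (BT.img (nat_lit 1) (nat_lit 2) (BT.and (nat_lit 1) (nat_lit 0) (BT.cnt (nat_lit 0))))))) (BT.kid (nat_lit 11) (nat_lit 2) (BT.br (nat_lit 8) (nat_lit 13) [nat_lit 7] (BT.kid (nat_lit 13) (nat_lit 1) (BT.img (nat_lit 1) (nat_lit 1) (BT.one (nat_lit 2) (nat_lit 0x50307020a080d) (nat_lit 0x50307020a080d) [nat_lit 1, nat_lit 0, nat_lit 2, nat_lit 4, nat_lit 6, nat_lit 8])) BT.nil)) BT.nil))))))))) BT.nil)))))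

theorem tb_c7_cnt : Cnt 14 (grp 14 EA) [g101] [g101] 0 0 0 0 72 :=
  BT.sound tb_c7_cnt_P Known.nil (t := tb_c7_cnt_t) (d := 0) (by decide +kernel)

theorem tb_c7_ge : 72 ≤ Nat.card (grp 14 tb_c7_K) :=
  Ch.le_card_grp (k := 4) (L := (lab 14 4)) hn tb_c7_K_ok (c := (Ch.cons (nat_lit 0) [nat_lit 1, nat_lit 3] (Ch.cons (nat_lit 11) [nat_lit 5] (Ch.cons (nat_lit 13) [nat_lit 7] Ch.nil)))) (by decide +kernel)

theorem tb_c7_eq : (grp 14 EA) ⊓ Subgroup.centralizer {Net.toPerm 14 g101} = grp 14 tb_c7_K :=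
  cent_eq tb_c7_sym tb_c7_cnt tb_c7_ge

theorem tb_c7_card : Nat.card ↥((grp 14 EA) ⊓ Subgroup.centralizer {Net.toPerm 14 g101}) = 72 :=
  card_cent tb_c7_sym tb_c7_cnt tb_c7_ge

theorem tb_c7_ord : orderOf (Net.toPerm 14 g101) = 3 :=
  orderOf_net hn hk g101_ok (by decide) (ps := [3]) (by set_option linter.unusedSimpArgs false in simp [Nat.primeFactorsList_ofNat]) (by decide +kernel)

theorem le107 : grp 14 tb_c8_K ≤ grp 14 ao_E0 :=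
  grp_le_of_memB hn hk ao_E0_ok tb_c8_K_ok (ws := [nat_lit 0x2921201515, nat_lit 0x27212e20151b10, nat_lit 0x2a1b2215150f1701, nat_lit 1]) (by decide +kernel)

theorem tb_c8_le : grp 14 tb_c8_K ≤ (grp 14 EA) :=
  (le107.trans TA_s0.le)

theorem tb_c8_mem : Net.toPerm 14 g105 ∈ (grp 14 EA) :=
  tb_c8_le (toPerm_mem_grp (E := tb_c8_K) (List.Mem.head _))

theorem tb_c8_sym : Sym 14 (grp 14 EA) [g105] tb_c8_K 0 :=
  Sym.of_lab hn hk (okE_cons.2 ⟨g105_ok, okE_nil _⟩) tb_c8_K_ok tb_c8_le (kT := 0) (by decide +kernel)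

noncomputable def tb_c8_cnt_L : List ℕ := [0, 1, TA_s0_O, 0, 0, 6, 10, TA_s12_O, 1, 0]

theorem tb_c8_cnt_P : Prob 14 4 (grp 14 EA) tb_c8_cnt_EG [g105] [g105] tb_c8_K tb_c8_cnt_L 0 0 :=
  Sym.prob hn hk tb_c8_sym tb_c8_cnt_EG_ok (grp_cons_le n_e_TA (grp_cons_le g92_TA (grp_cons_le g93_TA (grp_cons_le g91_TA (grp_cons_le g90_TA (grp_cons_le g89_TA (grp_cons_le n_m_TA (grp_cons_le n_s1_TA (grp_cons_le n_s2_TA (grp_cons_le n_s3_TA (grp_cons_le n_s4_TA (grp_cons_le n_a_TA (grp_cons_le g7_TA (grp_cons_le g3_TA (grp_cons_le g4_TA (grp_cons_le g14_TA (grp_cons_le g10_TA (grp_cons_le g11_TA (grp_cons_le g21_TA (grp_cons_le g17_TA (grp_cons_le g18_TA (grp_cons_le g28_TA (grp_cons_le g24_TA (grp_cons_le g25_TA (grp_cons_le g35_TA (grp_cons_le g36_TA (grp_cons_le g31_TA (grp_cons_le g32_TA (grp_nil_le _))))))))))))))))))))))))))))) (Frames.cons TA_s0_F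 (Frames.cons TA_s12_F Frames.nil)) (okE_cons.2 ⟨g105_ok, okE_nil _⟩) _

noncomputable def tb_c8_cnt_t : BT := (BT.fix (nat_lit 1) (BT.dif (nat_lit 3) (nat_lit 0) (BT.br (nat_lit 0) (nat_lit 11) [nat_lit 1, nat_lit 3] (BT.kid (nat_lit 11) (nat_lit 8) (BT.dif (nat_lit 1) (nat_lit 0) (BT.img (nat_lit 1) (nat_lit 1) (BT.dif (nat_lit 1) (nat_lit 0) (BT.img (nat_lit 1) (nat_lit 1) (BT.dif (nat_lit 1) (nat_lit 0) (BT.img (nat_lit 1) (nat_lit 1) (BT.dif (nat_lit 1) (nat_lit 0) (BT.br (nat_lit 0) (nat_lit 4) [nat_lit 5] (BT.kid (nat_lit 4) (nat_lit 2) (BT.frm (nat_lit 0) (nat_lit 0) (nat_lit 0) [] (BT.pln (nat_lit 0) (nat_lit 0) (BT.br (nat_lit 0) (nat_lit 13) [nat_lit 7] (BT.kid (nat_lit 13) (nat_lit 1) (BT.one (nat_lit 1) (nat_lit 0) (nat_lit 0) [nat_lit 0, nat_lit 3, nat_lit 5, nat_lit 7, nat_lit 9, nat_lit 11]) BT.nil)))) BT.nil))))))))) BT.nil))))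

theorem tb_c8_cnt : Cnt 14 (grp 14 EA) [g105] [g105] 0 0 0 0 64 :=
  BT.sound tb_c8_cnt_P Known.nil (t := tb_c8_cnt_t) (d := 0) (by decide +kernel)

theorem tb_c8_ge : 64 ≤ Nat.card (grp 14 tb_c8_K) :=
  Ch.le_card_grp (k := 4) (L := (lab 14 4)) hn tb_c8_K_ok (c := (Ch.cons (nat_lit 11) [nat_lit 1, nat_lit 3] (Ch.cons (nat_lit 4) [nat_lit 5] (Ch.cons (nat_lit 13) [nat_lit 7] Ch.nil)))) (by decide +kernel)

theorem tb_c8_eq : (grp 14 EA) ⊓ Subgroup.centralizer {Net.toPerm 14 g105} = grp 14 tb_c8_K :=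
  cent_eq tb_c8_sym tb_c8_cnt tb_c8_ge

theorem tb_c8_card : Nat.card ↥((grp 14 EA) ⊓ Subgroup.centralizer {Net.toPerm 14 g105}) = 64 :=
  card_cent tb_c8_sym tb_c8_cnt tb_c8_ge

theorem tb_c8_ord : orderOf (Net.toPerm 14 g105) = 4 :=
  orderOf_net hn hk g105_ok (by decide) (ps := [2]) (by set_option linter.unusedSimpArgs false in simp [Nat.primeFactorsList_ofNat]) (by decide +kernel)

theorem le111 : grp 14 tb_c9_K ≤ grp 14 ao_E0 :=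
  grp_le_of_memB hn hk ao_E0_ok tb_c9_K_ok (ws := [nat_lit 0x2e21291b15170f15, nat_lit 0x2a212a1b1e161d0f11, nat_lit 0x28251b1e161c, nat_lit 1]) (by decide +kernel)

theorem tb_c9_le : grp 14 tb_c9_K ≤ (grp 14 EA) :=
  (le111.trans TA_s0.le)

theorem tb_c9_mem : Net.toPerm 14 g108 ∈ (grp 14 EA) :=
  tb_c9_le (toPerm_mem_grp (E := tb_c9_K) (List.Mem.head _))

theorem tb_c9_sym : Sym 14 (grp 14 EA) [g108] tb_c9_K 0 :=
  Sym.of_lab hn hk (okE_cons.2 ⟨g108_ok, okE_nil _⟩) tb_c9_K_ok tb_c9_le (kT := 0) (by decide +kernel)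

noncomputable def tb_c9_cnt_L : List ℕ := [0, 1, TA_s0_O, 0, 0, 6, 10, TA_s12_O, 1, 0]

theorem tb_c9_cnt_P : Prob 14 4 (grp 14 EA) tb_c9_cnt_EG [g108] [g108] tb_c9_K tb_c9_cnt_L 0 0 :=
  Sym.prob hn hk tb_c9_sym tb_c9_cnt_EG_ok (grp_cons_le n_e_TA (grp_cons_le g92_TA (grp_cons_le g93_TA (grp_cons_le g91_TA (grp_cons_le g90_TA (grp_cons_le g89_TA (grp_cons_le n_m_TA (grp_cons_le n_s1_TA (grp_cons_le n_s2_TA (grp_cons_le n_s3_TA (grp_cons_le n_s4_TA (grp_cons_le n_a_TA (grp_cons_le g7_TA (grp_cons_le g3_TA (grp_cons_le g4_TA (grp_cons_le g14_TA (grp_cons_le g10_TA (grp_cons_le g11_TA (grp_cons_le g21_TA (grp_cons_le g17_TA (grp_cons_le g18_TA (grp_cons_le g28_TA (grp_cons_le g24_TA (grp_cons_le g25_TA (grp_cons_le g35_TA (grp_cons_le g36_TA (grp_cons_le g31_TA (grp_cons_le g32_TA (grp_nil_le _))))))))))))))))))))))))))))) (Frames.cons TA_s0_F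 (Frames.cons TA_s12_F Frames.nil)) (okE_cons.2 ⟨g108_ok, okE_nil _⟩) _

noncomputable def tb_c9_cnt_t : BT := (BT.fix (nat_lit 257) (BT.dif (nat_lit 3) (nat_lit 0) (BT.br (nat_lit 0) (nat_lit 0) [nat_lit 1, nat_lit 3] (BT.kid (nat_lit 0) (nat_lit 8) (BT.dif (nat_lit 1) (nat_lit 0) (BT.img (nat_lit 1) (nat_lit 1) (BT.dif (nat_lit 1) (nat_lit 0) (BT.img (nat_lit 1) (nat_lit 1) (BT.dif (nat_lit 1) (nat_lit 0) (BT.img (nat_lit 1) (nat_lit 1) (BT.dif (nat_lit 1) (nat_lit 0) (BT.br (nat_lit 0) (nat_lit 7) [nat_lit 5] (BT.kid (nat_lit 7) (nat_lit 2) (BT.frm (nat_lit 0) (nat_lit 0) (nat_lit 0) [] (BT.pln (nat_lit 0) (nat_lit 0) (BT.br (nat_lit 0) (nat_lit 13) [nat_lit 7] (BT.kid (nat_lit 13) (nat_lit 1) (BT.one (nat_lit 1) (nat_lit 0x1040809030b0b0d) (nat_lit 0x1040809030b0b0d) [nat_lit 0, nat_lit 3, nat_lit 5, nat_lit 7, nat_lit 9, nat_lit 11]) BT.nil))))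 BT.nil))))))))) BT.nil))))

theorem tb_c9_cnt : Cnt 14 (grp 14 EA) [g108] [g108] 0 0 0 0 64 :=
  BT.sound tb_c9_cnt_P Known.nil (t := tb_c9_cnt_t) (d := 0) (by decide +kernel)

theorem tb_c9_ge : 64 ≤ Nat.card (grp 14 tb_c9_K) :=
  Ch.le_card_grp (k := 4) (L := (lab 14 4)) hn tb_c9_K_ok (c := (Ch.cons (nat_lit 0) [nat_lit 1, nat_lit 3] (Ch.cons (nat_lit 7) [nat_lit 5] (Ch.cons (nat_lit 13) [nat_lit 7] Ch.nil)))) (by decide +kernel)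

theorem tb_c9_eq : (grp 14 EA) ⊓ Subgroup.centralizer {Net.toPerm 14 g108} = grp 14 tb_c9_K :=
  cent_eq tb_c9_sym tb_c9_cnt tb_c9_ge

theorem tb_c9_card : Nat.card ↥((grp 14 EA) ⊓ Subgroup.centralizer {Net.toPerm 14 g108}) = 64 :=
  card_cent tb_c9_sym tb_c9_cnt tb_c9_ge

theorem tb_c9_ord : orderOf (Net.toPerm 14 g108) = 4 :=
  orderOf_net hn hk g108_ok (by decide) (ps := [2]) (by set_option linter.unusedSimpArgs false in simp [Nat.primeFactorsList_ofNat]) (by decide +kernel)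

theorem le115 : grp 14 tb_c10_K ≤ grp 14 ao_E0 :=
  grp_le_of_memB hn hk ao_E0_ok tb_c10_K_ok (ws := [nat_lit 0x2725200f1701, nat_lit 0x2a241c1515101201, nat_lit 0x2d21291b180f0f, nat_lit 1]) (by decide +kernel)

theorem tb_c10_le : grp 14 tb_c10_K ≤ (grp 14 EA) :=
  (le115.trans TA_s0.le)

theorem tb_c10_mem : Net.toPerm 14 g112 ∈ (grp 14 EA) :=
  tb_c10_le (toPerm_mem_grp (E := tb_c10_K) (List.Mem.head _))

theorem tb_c10_sym : Sym 14 (grp 14 EA) [g112] tb_c10_K 0 :=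
  Sym.of_lab hn hk (okE_cons.2 ⟨g112_ok, okE_nil _⟩) tb_c10_K_ok tb_c10_le (kT := 0) (by decide +kernel)

noncomputable def tb_c10_cnt_L : List ℕ := [0, 1, TA_s0_O, 0, 0, 6, 10, TA_s12_O, 1, 0]

theorem tb_c10_cnt_P : Prob 14 4 (grp 14 EA) tb_c10_cnt_EG [g112] [g112] tb_c10_K tb_c10_cnt_L 0 0 :=
  Sym.prob hn hk tb_c10_sym tb_c10_cnt_EG_ok (grp_cons_le n_e_TA (grp_cons_le g92_TA (grp_cons_le g93_TA (grp_cons_le g91_TA (grp_cons_le g90_TA (grp_cons_le g89_TA (grp_cons_le n_m_TA (grp_cons_le n_s1_TA (grp_cons_le n_s2_TA (grp_cons_le n_s3_TA (grp_cons_le n_s4_TA (grp_cons_le n_a_TA (grp_cons_le g7_TA (grp_cons_le g3_TA (grp_cons_le g4_TA (grp_cons_le g14_TA (grp_cons_le g10_TA (grp_cons_le g11_TA (grp_cons_le g21_TA (grp_cons_le g17_TA (grp_cons_le g18_TA (grp_cons_le g28_TA (grp_cons_le g24_TA (grp_cons_le g25_TA (grp_cons_le g35_TA (grp_cons_le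 g36_TA (grp_cons_le g31_TA (grp_cons_le g32_TA (grp_nil_le _))))))))))))))))))))))))))))) (Frames.cons TA_s0_F (Frames.cons TA_s12_F Frames.nil)) (okE_cons.2 ⟨g112_ok, okE_nil _⟩) _

noncomputable def tb_c10_cnt_t : BT := (BT.fix (nat_lit 257) (BT.dif (nat_lit 3) (nat_lit 0) (BT.br (nat_lit 0) (nat_lit 8) [nat_lit 3] (BT.kid (nat_lit 8) (nat_lit 8) (BT.dif (nat_lit 1) (nat_lit 0) (BT.img (nat_lit 1) (nat_lit 1) (BT.dif (nat_lit 1) (nat_lit 0) (BT.img (nat_lit 1) (nat_lit 1) (BT.dif (nat_lit 1) (nat_lit 0) (BT.img (nat_lit 1) (nat_lit 1) (BT.dif (nat_lit 1) (nat_lit 0) (BT.br (nat_lit 0) (nat_lit 7) [nat_lit 5] (BT.kid (nat_lit 7) (nat_lit 2) (BT.frm (nat_lit 0) (nat_lit 0) (nat_lit 0) [] (BT.pln (nat_lit 0) (nat_lit 0) (BT.br (nat_lit 0) (nat_lit 13) [nat_lit 7] (BT.kid (nat_lit 13) (nat_lit 1) (BT.one (nat_lit 1) (nat_lit 0x10305070409090b091b)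 (nat_lit 0x10305070409090b091b) [nat_lit 0, nat_lit 3, nat_lit 5, nat_lit 7, nat_lit 9, nat_lit 11]) BT.nil)))) BT.nil))))))))) BT.nil))))

theorem tb_c10_cnt : Cnt 14 (grp 14 EA) [g112] [g112] 0 0 0 0 64 :=
  BT.sound tb_c10_cnt_P Known.nil (t := tb_c10_cnt_t) (d := 0) (by decide +kernel)

theorem tb_c10_ge : 64 ≤ Nat.card (grp 14 tb_c10_K) :=
  Ch.le_card_grp (k := 4) (L := (lab 14 4)) hn tb_c10_K_ok (c := (Ch.cons (nat_lit 8) [nat_lit 1, nat_lit 3] (Ch.cons (nat_lit 7) [nat_lit 5] (Ch.cons (nat_lit 13) [nat_lit 7] Ch.nil)))) (by decide +kernel)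

theorem tb_c10_eq : (grp 14 EA) ⊓ Subgroup.centralizer {Net.toPerm 14 g112} = grp 14 tb_c10_K :=
  cent_eq tb_c10_sym tb_c10_cnt tb_c10_ge

theorem tb_c10_card : Nat.card ↥((grp 14 EA) ⊓ Subgroup.centralizer {Net.toPerm 14 g112}) = 64 :=
  card_cent tb_c10_sym tb_c10_cnt tb_c10_ge

theorem tb_c10_ord : orderOf (Net.toPerm 14 g112) = 4 :=
  orderOf_net hn hk g112_ok (by decide) (ps := [2]) (by set_option linter.unusedSimpArgs false in simp [Nat.primeFactorsList_ofNat]) (by decide +kernel)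

theorem le119 : grp 14 tb_c11_K ≤ grp 14 ao_E0 :=
  grp_le_of_memB hn hk ao_E0_ok tb_c11_K_ok (ws := [nat_lit 0x29212a161d0f1101, nat_lit 0x2e241d0f1701, nat_lit 0x21211b1b1501, nat_lit 1]) (by decide +kernel)

theorem tb_c11_le : grp 14 tb_c11_K ≤ (grp 14 EA) :=
  (le119.trans TA_s0.le)

theorem tb_c11_mem : Net.toPerm 14 g116 ∈ (grp 14 EA) :=
  tb_c11_le (toPerm_mem_grp (E := tb_c11_K) (List.Mem.head _))

theorem tb_c11_sym : Sym 14 (grp 14 EA) [g116] tb_c11_K 0 :=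
  Sym.of_lab hn hk (okE_cons.2 ⟨g116_ok, okE_nil _⟩) tb_c11_K_ok tb_c11_le (kT := 0) (by decide +kernel)

noncomputable def tb_c11_cnt_L : List ℕ := [0, 1, TA_s0_O, 0, 0, 6, 10, TA_s12_O, 1, 0]

theorem tb_c11_cnt_P : Prob 14 4 (grp 14 EA) tb_c11_cnt_EG [g116] [g116] tb_c11_K tb_c11_cnt_L 0 0 :=
  Sym.prob hn hk tb_c11_sym tb_c11_cnt_EG_ok (grp_cons_le n_e_TA (grp_cons_le g92_TA (grp_cons_le g93_TA (grp_cons_le g91_TA (grp_cons_le g90_TA (grp_cons_le g89_TA (grp_cons_le n_m_TA (grp_cons_le n_s1_TA (grp_cons_le n_s2_TA (grp_cons_le n_s3_TA (grp_cons_le n_s4_TA (grp_cons_le n_a_TA (grp_cons_le g7_TA (grp_cons_le g3_TA (grp_cons_le g4_TA (grp_cons_le g14_TA (grp_cons_le g10_TA (grp_cons_le g11_TA (grp_cons_le g21_TA (grp_cons_le g17_TA (grp_cons_le g18_TA (grp_cons_le g28_TA (grp_cons_le g24_TA (grp_cons_le g25_TA (grp_cons_le g35_TA (grp_cons_le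 g36_TA (grp_cons_le g31_TA (grp_cons_le g32_TA (grp_nil_le _))))))))))))))))))))))))))))) (Frames.cons TA_s0_F (Frames.cons TA_s12_F Frames.nil)) (okE_cons.2 ⟨g116_ok, okE_nil _⟩) _

noncomputable def tb_c11_cnt_t : BT := (BT.fix (nat_lit 257) (BT.dif (nat_lit 3) (nat_lit 0) (BT.br (nat_lit 0) (nat_lit 0) [nat_lit 3] (BT.kid (nat_lit 0) (nat_lit 8) (BT.dif (nat_lit 1) (nat_lit 0) (BT.img (nat_lit 1) (nat_lit 1) (BT.dif (nat_lit 1) (nat_lit 0) (BT.img (nat_lit 1) (nat_lit 1) (BT.dif (nat_lit 1) (nat_lit 0) (BT.img (nat_lit 1) (nat_lit 1) (BT.dif (nat_lit 1) (nat_lit 0) (BT.br (nat_lit 0) (nat_lit 7) [nat_lit 5] (BT.kid (nat_lit 7) (nat_lit 2) (BT.frm (nat_lit 0) (nat_lit 0) (nat_lit 0) [] (BT.pln (nat_lit 0) (nat_lit 0) (BT.br (nat_lit 0) (nat_lit 13) [nat_lit 7] (BT.kid (nat_lit 13) (nat_lit 1) (BT.one (nat_lit 1) (nat_lit 0x106080908060b090d)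 (nat_lit 0x106080908060b090d) [nat_lit 0, nat_lit 3, nat_lit 5, nat_lit 7, nat_lit 9, nat_lit 11]) BT.nil)))) BT.nil))))))))) BT.nil))))

theorem tb_c11_cnt : Cnt 14 (grp 14 EA) [g116] [g116] 0 0 0 0 64 :=
  BT.sound tb_c11_cnt_P Known.nil (t := tb_c11_cnt_t) (d := 0) (by decide +kernel)

theorem tb_c11_ge : 64 ≤ Nat.card (grp 14 tb_c11_K) :=
  Ch.le_card_grp (k := 4) (L := (lab 14 4)) hn tb_c11_K_ok (c := (Ch.cons (nat_lit 0) [nat_lit 1, nat_lit 3] (Ch.cons (nat_lit 7) [nat_lit 5] (Ch.cons (nat_lit 13) [nat_lit 7] Ch.nil)))) (by decide +kernel)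

theorem tb_c11_eq : (grp 14 EA) ⊓ Subgroup.centralizer {Net.toPerm 14 g116} = grp 14 tb_c11_K :=
  cent_eq tb_c11_sym tb_c11_cnt tb_c11_ge

theorem tb_c11_card : Nat.card ↥((grp 14 EA) ⊓ Subgroup.centralizer {Net.toPerm 14 g116}) = 64 :=
  card_cent tb_c11_sym tb_c11_cnt tb_c11_ge

theorem tb_c11_ord : orderOf (Net.toPerm 14 g116) = 4 :=
  orderOf_net hn hk g116_ok (by decide) (ps := [2]) (by set_option linter.unusedSimpArgs false in simp [Nat.primeFactorsList_ofNat]) (by decide +kernel)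

theorem le122 : grp 14 tb_c12_K ≤ grp 14 ao_E0 :=
  grp_le_of_memB hn hk ao_E0_ok tb_c12_K_ok (ws := [nat_lit 0x2727211e161d0f17, nat_lit 0x2a211b21161d0f1401, nat_lit 1]) (by decide +kernel)

theorem tb_c12_le : grp 14 tb_c12_K ≤ (grp 14 EA) :=
  (le122.trans TA_s0.le)

theorem tb_c12_mem : Net.toPerm 14 g120 ∈ (grp 14 EA) :=
  tb_c12_le (toPerm_mem_grp (E := tb_c12_K) (List.Mem.head _))

theorem tb_c12_sym : Sym 14 (grp 14 EA) [g120] tb_c12_K 0 :=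
  Sym.of_lab hn hk (okE_cons.2 ⟨g120_ok, okE_nil _⟩) tb_c12_K_ok tb_c12_le (kT := 0) (by decide +kernel)

noncomputable def tb_c12_cnt_L : List ℕ := [0, 1, TA_s0_O, 0, 0, 6, 10, TA_s12_O, 1, 0]

theorem tb_c12_cnt_P : Prob 14 4 (grp 14 EA) tb_c12_cnt_EG [g120] [g120] tb_c12_K tb_c12_cnt_L 0 0 :=
  Sym.prob hn hk tb_c12_sym tb_c12_cnt_EG_ok (grp_cons_le n_e_TA (grp_cons_le g92_TA (grp_cons_le g93_TA (grp_cons_le g91_TA (grp_cons_le g90_TA (grp_cons_le g89_TA (grp_cons_le n_m_TA (grp_cons_le n_s1_TA (grp_cons_le n_s2_TA (grp_cons_le n_s3_TA (grp_cons_le n_s4_TA (grp_cons_le n_a_TA (grp_cons_le g7_TA (grp_cons_le g3_TA (grp_cons_le g4_TA (grp_cons_le g14_TA (grp_cons_le g10_TA (grp_cons_le g11_TA (grp_cons_le g21_TA (grp_cons_le g17_TA (grp_cons_le g18_TA (grp_cons_le g28_TA (grp_cons_le g24_TA (grp_cons_le g25_TA (grp_cons_le g35_TA (grp_cons_le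 g36_TA (grp_cons_le g31_TA (grp_cons_le g32_TA (grp_nil_le _))))))))))))))))))))))))))))) (Frames.cons TA_s0_F (Frames.cons TA_s12_F Frames.nil)) (okE_cons.2 ⟨g120_ok, okE_nil _⟩) _

noncomputable def tb_c12_cnt_t : BT := (BT.fix (nat_lit 1) (BT.dif (nat_lit 3) (nat_lit 0) (BT.br (nat_lit 0) (nat_lit 0) [nat_lit 3] (BT.kid (nat_lit 0) (nat_lit 2) (BT.frm (nat_lit 0) (nat_lit 0) (nat_lit 0) [] (BT.pln (nat_lit 0) (nat_lit 0) (BT.br (nat_lit 0) (nat_lit 13) [nat_lit 5] (BT.kid (nat_lit 13) (nat_lit 1) (BT.img (nat_lit 1) (nat_lit 3) (BT.img (nat_lit 1) (nat_lit 0) (BT.img (nat_lit 1) (nat_lit 0) (BT.img (nat_lit 1) (nat_lit 0) (BT.one (nat_lit 1) (nat_lit 0x7060b060d) (nat_lit 0x7060b060d) [nat_lit 4, nat_lit 0, nat_lit 1, nat_lit 2, nat_lit 3, nat_lit 7]))))) BT.nil)))) BT.nil))))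

theorem tb_c12_cnt : Cnt 14 (grp 14 EA) [g120] [g120] 0 0 0 0 20 :=
  BT.sound tb_c12_cnt_P Known.nil (t := tb_c12_cnt_t) (d := 0) (by decide +kernel)

theorem tb_c12_ge : 20 ≤ Nat.card (grp 14 tb_c12_K) :=
  Ch.le_card_grp (k := 4) (L := (lab 14 4)) hn tb_c12_K_ok (c := (Ch.cons (nat_lit 0) [nat_lit 1, nat_lit 3] (Ch.cons (nat_lit 13) [nat_lit 5] Ch.nil))) (by decide +kernel)

theorem tb_c12_eq : (grp 14 EA) ⊓ Subgroup.centralizer {Net.toPerm 14 g120} = grp 14 tb_c12_K :=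
  cent_eq tb_c12_sym tb_c12_cnt tb_c12_ge

theorem tb_c12_card : Nat.card ↥((grp 14 EA) ⊓ Subgroup.centralizer {Net.toPerm 14 g120}) = 20 :=
  card_cent tb_c12_sym tb_c12_cnt tb_c12_ge

theorem tb_c12_ord : orderOf (Net.toPerm 14 g120) = 5 :=
  orderOf_net hn hk g120_ok (by decide) (ps := [5]) (by set_option linter.unusedSimpArgs false in simp [Nat.primeFactorsList_ofNat]) (by decide +kernel)

theorem le126 : grp 14 tb_c13_K ≤ grp 14 ao_E0 :=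
  grp_le_of_memB hn hk ao_E0_ok tb_c13_K_ok (ws := [nat_lit 0x27271d161c101201, nat_lit 0x2e211b2215190f17, nat_lit 0x241d1515, nat_lit 0x28212e1e]) (by decide +kernel)

theorem tb_c13_le : grp 14 tb_c13_K ≤ (grp 14 EA) :=
  (le126.trans TA_s0.le)

theorem tb_c13_mem : Net.toPerm 14 g123 ∈ (grp 14 EA) :=
  tb_c13_le (toPerm_mem_grp (E := tb_c13_K) (List.Mem.head _))

theorem tb_c13_sym : Sym 14 (grp 14 EA) [g123] tb_c13_K 0 :=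
  Sym.of_lab hn hk (okE_cons.2 ⟨g123_ok, okE_nil _⟩) tb_c13_K_ok tb_c13_le (kT := 0) (by decide +kernel)

noncomputable def tb_c13_cnt_L : List ℕ := [0, 1, TA_s0_O, 0, 0, 6, 10, TA_s6_O, 1, 0]

theorem tb_c13_cnt_P : Prob 14 4 (grp 14 EA) tb_c13_cnt_EG [g123] [g123] tb_c13_K tb_c13_cnt_L 0 0 :=
  Sym.prob hn hk tb_c13_sym tb_c13_cnt_EG_ok (grp_cons_le g35_TA (grp_cons_le g36_TA (grp_cons_le g31_TA (grp_cons_le g32_TA (grp_cons_le g28_TA (grp_cons_le g24_TA (grp_cons_le g25_TA (grp_cons_le g21_TA (grp_cons_le g17_TA (grp_cons_le g18_TA (grp_cons_le g14_TA (grp_cons_le g10_TA (grp_cons_le g11_TA (grp_cons_le g7_TA (grp_cons_le g3_TA (grp_cons_le g4_TA (grp_cons_le n_e_TA (grp_cons_le n_m_TA (grp_cons_le n_s1_TA (grp_cons_le n_s2_TA (grp_cons_le n_s3_TA (grp_cons_le n_s4_TA (grp_cons_le n_a_TA (grp_nil_le _)))))))))))))))))))))))) (Frames.cons TA_s0_F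 (Frames.cons TA_s6_F Frames.nil)) (okE_cons.2 ⟨g123_ok, okE_nil _⟩) _

noncomputable def tb_c13_cnt_t : BT := (BT.frm (nat_lit 0) (nat_lit 0) (nat_lit 0) [] (BT.pln (nat_lit 0) (nat_lit 0) (BT.br (nat_lit 0) (nat_lit 13) [nat_lit 1] (BT.kid (nat_lit 13) (nat_lit 54) (BT.fix (nat_lit 257) (BT.dif (nat_lit 6) (nat_lit 0) (BT.br (nat_lit 0) (nat_lit 0) [nat_lit 3, nat_lit 5, nat_lit 7] (BT.kid (nat_lit 0) (nat_lit 6) (BT.dif (nat_lit 1) (nat_lit 0) (BT.img (nat_lit 1) (nat_lit 1) (BT.dif (nat_lit 1) (nat_lit 0) (BT.img (nat_lit 1) (nat_lit 1) (BT.dif (nat_lit 1) (nat_lit 0) (BT.br (nat_lit 0) (nat_lit 6) [nat_lit 5, nat_lit 7] (BT.kid (nat_lit 6) (nat_lit 1) (BT.img (nat_lit 1) (nat_lit 0) (BT.one (nat_lit 1) (nat_lit 0x10c14150f21) (nat_lit 0x10c14150f21) [nat_lit 0, nat_lit 1, nat_lit 3, nat_lit 5, nat_lit 7, nat_lit 10])) BT.nil))))))) BT.nil))))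 BT.nil))))

theorem tb_c13_cnt : Cnt 14 (grp 14 EA) [g123] [g123] 0 0 0 0 108 :=
  BT.sound tb_c13_cnt_P Known.nil (t := tb_c13_cnt_t) (d := 0) (by decide +kernel)

theorem tb_c13_ge : 108 ≤ Nat.card (grp 14 tb_c13_K) :=
  Ch.le_card_grp (k := 4) (L := (lab 14 4)) hn tb_c13_K_ok (c := (Ch.cons (nat_lit 13) [nat_lit 1] (Ch.cons (nat_lit 0) [nat_lit 3] (Ch.cons (nat_lit 6) [nat_lit 5, nat_lit 7] Ch.nil)))) (by decide +kernel)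

theorem tb_c13_eq : (grp 14 EA) ⊓ Subgroup.centralizer {Net.toPerm 14 g123} = grp 14 tb_c13_K :=
  cent_eq tb_c13_sym tb_c13_cnt tb_c13_ge

theorem tb_c13_card : Nat.card ↥((grp 14 EA) ⊓ Subgroup.centralizer {Net.toPerm 14 g123}) = 108 :=
  card_cent tb_c13_sym tb_c13_cnt tb_c13_ge

theorem tb_c13_ord : orderOf (Net.toPerm 14 g123) = 6 :=
  orderOf_net hn hk g123_ok (by decide) (ps := [2, 3]) (by set_option linter.unusedSimpArgs false in simp [Nat.primeFactorsList_ofNat]) (by decide +kernel)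

theorem le130 : grp 14 tb_c14_K ≤ grp 14 ao_E0 :=
  grp_le_of_memB hn hk ao_E0_ok tb_c14_K_ok (ws := [nat_lit 0x2e21211d150f1301, nat_lit 0x2e241c151012, nat_lit 0x2d212e2017]) (by decide +kernel)

theorem tb_c14_le : grp 14 tb_c14_K ≤ (grp 14 EA) :=
  (le130.trans TA_s0.le)

theorem tb_c14_mem : Net.toPerm 14 g127 ∈ (grp 14 EA) :=
  tb_c14_le (toPerm_mem_grp (E := tb_c14_K) (List.Mem.head _))

theorem tb_c14_sym : Sym 14 (grp 14 EA) [g127] tb_c14_K 0 :=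
  Sym.of_lab hn hk (okE_cons.2 ⟨g127_ok, okE_nil _⟩) tb_c14_K_ok tb_c14_le (kT := 0) (by decide +kernel)

noncomputable def tb_c14_cnt_L : List ℕ := [0, 1, TA_s0_O, 0, 0, 6, 10, TA_s6_O, 1, 0]

theorem tb_c14_cnt_P : Prob 14 4 (grp 14 EA) tb_c14_cnt_EG [g127] [g127] tb_c14_K tb_c14_cnt_L 0 0 :=
  Sym.prob hn hk tb_c14_sym tb_c14_cnt_EG_ok (grp_cons_le g35_TA (grp_cons_le g36_TA (grp_cons_le g31_TA (grp_cons_le g32_TA (grp_cons_le g28_TA (grp_cons_le g24_TA (grp_cons_le g25_TA (grp_cons_le g21_TA (grp_cons_le g17_TA (grp_cons_le g18_TA (grp_cons_le g14_TA (grp_cons_le g10_TA (grp_cons_le g11_TA (grp_cons_le g7_TA (grp_cons_le g3_TA (grp_cons_le g4_TA (grp_cons_le n_e_TA (grp_cons_le n_m_TA (grp_cons_le n_s1_TA (grp_cons_le n_s2_TA (grp_cons_le n_s3_TA (grp_cons_le n_s4_TA (grp_cons_le n_a_TA (grp_nil_le _)))))))))))))))))))))))) (Frames.cons TA_s0_F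 (Frames.cons TA_s6_F Frames.nil)) (okE_cons.2 ⟨g127_ok, okE_nil _⟩) _

noncomputable def tb_c14_cnt_t : BT := (BT.frm (nat_lit 0) (nat_lit 0) (nat_lit 0) [] (BT.pln (nat_lit 0) (nat_lit 0) (BT.br (nat_lit 0) (nat_lit 13) [nat_lit 1] (BT.kid (nat_lit 13) (nat_lit 36) (BT.dif (nat_lit 5) (nat_lit 1) (BT.br (nat_lit 0) (nat_lit 0) [nat_lit 3, nat_lit 5] (BT.kid (nat_lit 0) (nat_lit 3) (BT.dif (nat_lit 1) (nat_lit 0) (BT.img (nat_lit 1) (nat_lit 1) (BT.dif (nat_lit 1) (nat_lit 0) (BT.img (nat_lit 1) (nat_lit 1) (BT.dif (nat_lit 1) (nat_lit 0) (BT.br (nat_lit 0) (nat_lit 11) [nat_lit 5] (BT.dead (nat_lit 1) (BT.img (nat_lit 1) (nat_lit 0) (BT.frm (nat_lit 1) (nat_lit 0x4090411161021) (nat_lit 0x1090911161021) [nat_lit 0, nat_lit 1, nat_lit 3, nat_lit 5, nat_lit 7, nat_lit 9] (BT.pln (nat_lit 0) (nat_lit 6) (BT.img (nat_lit 1) (nat_lit 2) (BT.and (nat_lit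 1) (nat_lit 0) (BT.cnt (nat_lit 0))))))) (BT.dead (nat_lit 2) (BT.img (nat_lit 1) (nat_lit 0) (BT.frm (nat_lit 1) (nat_lit 0x4090411161021) (nat_lit 0x80911161021) [nat_lit 0, nat_lit 1, nat_lit 3, nat_lit 5, nat_lit 7, nat_lit 9] (BT.pln (nat_lit 0) (nat_lit 6) (BT.img (nat_lit 1) (nat_lit 2) (BT.and (nat_lit 1) (nat_lit 0) (BT.cnt (nat_lit 0))))))) (BT.kid (nat_lit 11) (nat_lit 1) (BT.img (nat_lit 1) (nat_lit 0) (BT.one (nat_lit 1) (nat_lit 0x4090411161021) (nat_lit 0x4090411161021) [nat_lit 0, nat_lit 1, nat_lit 3, nat_lit 5, nat_lit 7, nat_lit 9])) BT.nil))))))))) BT.nil))) BT.nil))))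

theorem tb_c14_cnt : Cnt 14 (grp 14 EA) [g127] [g127] 0 0 0 0 72 :=
  BT.sound tb_c14_cnt_P Known.nil (t := tb_c14_cnt_t) (d := 0) (by decide +kernel)

theorem tb_c14_ge : 72 ≤ Nat.card (grp 14 tb_c14_K) :=
  Ch.le_card_grp (k := 4) (L := (lab 14 4)) hn tb_c14_K_ok (c := (Ch.cons (nat_lit 13) [nat_lit 1] (Ch.cons (nat_lit 0) [nat_lit 3] (Ch.cons (nat_lit 11) [nat_lit 5] Ch.nil)))) (by decide +kernel)

theorem tb_c14_eq : (grp 14 EA) ⊓ Subgroup.centralizer {Net.toPerm 14 g127} = grp 14 tb_c14_K :=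
  cent_eq tb_c14_sym tb_c14_cnt tb_c14_ge

theorem tb_c14_card : Nat.card ↥((grp 14 EA) ⊓ Subgroup.centralizer {Net.toPerm 14 g127}) = 72 :=
  card_cent tb_c14_sym tb_c14_cnt tb_c14_ge

theorem tb_c14_ord : orderOf (Net.toPerm 14 g127) = 6 :=
  orderOf_net hn hk g127_ok (by decide) (ps := [2, 3]) (by set_option linter.unusedSimpArgs false in simp [Nat.primeFactorsList_ofNat]) (by decide +kernel)

theorem le133 : grp 14 tb_c15_K ≤ grp 14 ao_E0 :=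
  grp_le_of_memB hn hk ao_E0_ok tb_c15_K_ok (ws := [nat_lit 0x2e212e15190f, nat_lit 0x2921211d161d1012, nat_lit 1]) (by decide +kernel)

theorem tb_c15_le : grp 14 tb_c15_K ≤ (grp 14 EA) :=
  (le133.trans TA_s0.le)

theorem tb_c15_mem : Net.toPerm 14 g131 ∈ (grp 14 EA) :=
  tb_c15_le (toPerm_mem_grp (E := tb_c15_K) (List.Mem.head _))

theorem tb_c15_sym : Sym 14 (grp 14 EA) [g131] tb_c15_K 0 :=
  Sym.of_lab hn hk (okE_cons.2 ⟨g131_ok, okE_nil _⟩) tb_c15_K_ok tb_c15_le (kT := 0) (by decide +kernel)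

noncomputable def tb_c15_cnt_L : List ℕ := [0, 1, TA_s0_O, 0, 0, 6, 10, TA_s12_O, 1, 0]

theorem tb_c15_cnt_P : Prob 14 4 (grp 14 EA) tb_c15_cnt_EG [g131] [g131] tb_c15_K tb_c15_cnt_L 0 0 :=
  Sym.prob hn hk tb_c15_sym tb_c15_cnt_EG_ok (grp_cons_le n_e_TA (grp_cons_le g92_TA (grp_cons_le g93_TA (grp_cons_le g91_TA (grp_cons_le g90_TA (grp_cons_le g89_TA (grp_cons_le n_m_TA (grp_cons_le n_s1_TA (grp_cons_le n_s2_TA (grp_cons_le n_s3_TA (grp_cons_le n_s4_TA (grp_cons_le n_a_TA (grp_cons_le g7_TA (grp_cons_le g3_TA (grp_cons_le g4_TA (grp_cons_le g14_TA (grp_cons_le g10_TA (grp_cons_le g11_TA (grp_cons_le g21_TA (grp_cons_le g17_TA (grp_cons_le g18_TA (grp_cons_le g28_TA (grp_cons_le g24_TA (grp_cons_le g25_TA (grp_cons_le g35_TA (grp_cons_le g36_TA (grp_cons_le g31_TA (grp_cons_le g32_TA (grp_nil_le _))))))))))))))))))))))))))))) (Frames.cons TA_s0_F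 (Frames.cons TA_s12_F Frames.nil)) (okE_cons.2 ⟨g131_ok, okE_nil _⟩) _

noncomputable def tb_c15_cnt_t : BT := (BT.frm (nat_lit 0) (nat_lit 0) (nat_lit 0) [] (BT.pln (nat_lit 0) (nat_lit 0) (BT.dif (nat_lit 4) (nat_lit 0) (BT.br (nat_lit 0) (nat_lit 0) [nat_lit 1, nat_lit 3] (BT.kid (nat_lit 0) (nat_lit 2) (BT.br (nat_lit 2) (nat_lit 13) [nat_lit 5] (BT.kid (nat_lit 13) (nat_lit 1) (BT.img (nat_lit 1) (nat_lit 1) (BT.img (nat_lit 1) (nat_lit 0) (BT.img (nat_lit 1) (nat_lit 0) (BT.img (nat_lit 1) (nat_lit 0) (BT.one (nat_lit 1) (nat_lit 0x3080a080b080d) (nat_lit 0x3080a080b080d) [nat_lit 4, nat_lit 0, nat_lit 1, nat_lit 2, nat_lit 3, nat_lit 5]))))) BT.nil)) BT.nil)))))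

theorem tb_c15_cnt : Cnt 14 (grp 14 EA) [g131] [g131] 0 0 0 0 24 :=
  BT.sound tb_c15_cnt_P Known.nil (t := tb_c15_cnt_t) (d := 0) (by decide +kernel)

theorem tb_c15_ge : 24 ≤ Nat.card (grp 14 tb_c15_K) :=
  Ch.le_card_grp (k := 4) (L := (lab 14 4)) hn tb_c15_K_ok (c := (Ch.cons (nat_lit 0) [nat_lit 1, nat_lit 3] (Ch.cons (nat_lit 13) [nat_lit 5] Ch.nil))) (by decide +kernel)

theorem tb_c15_eq : (grp 14 EA) ⊓ Subgroup.centralizer {Net.toPerm 14 g131} = grp 14 tb_c15_K :=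
  cent_eq tb_c15_sym tb_c15_cnt tb_c15_ge

theorem tb_c15_card : Nat.card ↥((grp 14 EA) ⊓ Subgroup.centralizer {Net.toPerm 14 g131}) = 24 :=
  card_cent tb_c15_sym tb_c15_cnt tb_c15_ge

theorem tb_c15_ord : orderOf (Net.toPerm 14 g131) = 6 :=
  orderOf_net hn hk g131_ok (by decide) (ps := [2, 3]) (by set_option linter.unusedSimpArgs false in simp [Nat.primeFactorsList_ofNat]) (by decide +kernel)

theorem le136 : grp 14 tb_c16_K ≤ grp 14 ao_E0 :=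
  grp_le_of_memB hn hk ao_E0_ok tb_c16_K_ok (ws := [nat_lit 0x292129150f1401, nat_lit 0x211b21161c1018, nat_lit 1]) (by decide +kernel)

theorem tb_c16_le : grp 14 tb_c16_K ≤ (grp 14 EA) :=
  (le136.trans TA_s0.le)

theorem tb_c16_mem : Net.toPerm 14 g134 ∈ (grp 14 EA) :=
  tb_c16_le (toPerm_mem_grp (E := tb_c16_K) (List.Mem.head _))

theorem tb_c16_sym : Sym 14 (grp 14 EA) [g134] tb_c16_K 0 :=
  Sym.of_lab hn hk (okE_cons.2 ⟨g134_ok, okE_nil _⟩) tb_c16_K_ok tb_c16_le (kT := 0) (by decide +kernel)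

noncomputable def tb_c16_cnt_L : List ℕ := [0, 1, TA_s0_O, 0, 0, 6, 10, TA_s12_O, 1, 0]

theorem tb_c16_cnt_P : Prob 14 4 (grp 14 EA) tb_c16_cnt_EG [g134] [g134] tb_c16_K tb_c16_cnt_L 0 0 :=
  Sym.prob hn hk tb_c16_sym tb_c16_cnt_EG_ok (grp_cons_le n_e_TA (grp_cons_le g92_TA (grp_cons_le g93_TA (grp_cons_le g91_TA (grp_cons_le g90_TA (grp_cons_le g89_TA (grp_cons_le n_m_TA (grp_cons_le n_s1_TA (grp_cons_le n_s2_TA (grp_cons_le n_s3_TA (grp_cons_le n_s4_TA (grp_cons_le n_a_TA (grp_cons_le g7_TA (grp_cons_le g3_TA (grp_cons_le g4_TA (grp_cons_le g14_TA (grp_cons_le g10_TA (grp_cons_le g11_TA (grp_cons_le g21_TA (grp_cons_le g17_TA (grp_cons_le g18_TA (grp_cons_le g28_TA (grp_cons_le g24_TA (grp_cons_le g25_TA (grp_cons_le g35_TA (grp_cons_le g36_TA (grp_cons_le g31_TA (grp_cons_le g32_TA (grp_nil_le _))))))))))))))))))))))))))))) (Frames.cons TA_s0_F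 (Frames.cons TA_s12_F Frames.nil)) (okE_cons.2 ⟨g134_ok, okE_nil _⟩) _

noncomputable def tb_c16_cnt_t : BT := (BT.frm (nat_lit 0) (nat_lit 0) (nat_lit 0) [] (BT.pln (nat_lit 0) (nat_lit 0) (BT.dif (nat_lit 4) (nat_lit 0) (BT.br (nat_lit 0) (nat_lit 0) [nat_lit 1, nat_lit 3] (BT.kid (nat_lit 0) (nat_lit 2) (BT.br (nat_lit 2) (nat_lit 13) [nat_lit 5] (BT.kid (nat_lit 13) (nat_lit 1) (BT.img (nat_lit 1) (nat_lit 1) (BT.img (nat_lit 1) (nat_lit 0) (BT.img (nat_lit 1) (nat_lit 0) (BT.img (nat_lit 1) (nat_lit 0) (BT.one (nat_lit 1) (nat_lit 0x30307040a080d) (nat_lit 0x30307040a080d) [nat_lit 4, nat_lit 0, nat_lit 1, nat_lit 2, nat_lit 3, nat_lit 5]))))) BT.nil)) BT.nil)))))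

theorem tb_c16_cnt : Cnt 14 (grp 14 EA) [g134] [g134] 0 0 0 0 24 :=
  BT.sound tb_c16_cnt_P Known.nil (t := tb_c16_cnt_t) (d := 0) (by decide +kernel)

theorem tb_c16_ge : 24 ≤ Nat.card (grp 14 tb_c16_K) :=
  Ch.le_card_grp (k := 4) (L := (lab 14 4)) hn tb_c16_K_ok (c := (Ch.cons (nat_lit 0) [nat_lit 1, nat_lit 3] (Ch.cons (nat_lit 13) [nat_lit 5] Ch.nil))) (by decide +kernel)

theorem tb_c16_eq : (grp 14 EA) ⊓ Subgroup.centralizer {Net.toPerm 14 g134} = grp 14 tb_c16_K :=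
  cent_eq tb_c16_sym tb_c16_cnt tb_c16_ge

theorem tb_c16_card : Nat.card ↥((grp 14 EA) ⊓ Subgroup.centralizer {Net.toPerm 14 g134}) = 24 :=
  card_cent tb_c16_sym tb_c16_cnt tb_c16_ge

theorem tb_c16_ord : orderOf (Net.toPerm 14 g134) = 6 :=
  orderOf_net hn hk g134_ok (by decide) (ps := [2, 3]) (by set_option linter.unusedSimpArgs false in simp [Nat.primeFactorsList_ofNat]) (by decide +kernel)

theorem le138 : grp 14 tb_c17_K ≤ grp 14 ao_E0 :=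
  grp_le_of_memB hn hk ao_E0_ok tb_c17_K_ok (ws := [nat_lit 0x29211b1e151b0f13, nat_lit 1]) (by decide +kernel)

theorem tb_c17_le : grp 14 tb_c17_K ≤ (grp 14 EA) :=
  (le138.trans TA_s0.le)

theorem tb_c17_mem : Net.toPerm 14 g137 ∈ (grp 14 EA) :=
  tb_c17_le (toPerm_mem_grp (E := tb_c17_K) (List.Mem.head _))

theorem tb_c17_sym : Sym 14 (grp 14 EA) [g137] tb_c17_K 0 :=
  Sym.of_lab hn hk (okE_cons.2 ⟨g137_ok, okE_nil _⟩) tb_c17_K_ok tb_c17_le (kT := 0) (by decide +kernel)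

noncomputable def tb_c17_cnt_L : List ℕ := [0, 1, TA_s0_O, 0, 0, 6, 10, TA_s12_O, 1, 0]

theorem tb_c17_cnt_P : Prob 14 4 (grp 14 EA) tb_c17_cnt_EG [g137] [g137] tb_c17_K tb_c17_cnt_L 0 0 :=
  Sym.prob hn hk tb_c17_sym tb_c17_cnt_EG_ok (grp_cons_le n_e_TA (grp_cons_le g92_TA (grp_cons_le g93_TA (grp_cons_le g91_TA (grp_cons_le g90_TA (grp_cons_le g89_TA (grp_cons_le n_m_TA (grp_cons_le n_s1_TA (grp_cons_le n_s2_TA (grp_cons_le n_s3_TA (grp_cons_le n_s4_TA (grp_cons_le n_a_TA (grp_cons_le g7_TA (grp_cons_le g3_TA (grp_cons_le g4_TA (grp_cons_le g14_TA (grp_cons_le g10_TA (grp_cons_le g11_TA (grp_cons_le g21_TA (grp_cons_le g17_TA (grp_cons_le g18_TA (grp_cons_le g28_TA (grp_cons_le g24_TA (grp_cons_le g25_TA (grp_cons_le g35_TA (grp_cons_le g36_TA (grp_cons_le g31_TA (grp_cons_le g32_TA (grp_nil_le _))))))))))))))))))))))))))))) (Frames.cons TA_s0_F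 (Frames.cons TA_s12_F Frames.nil)) (okE_cons.2 ⟨g137_ok, okE_nil _⟩) _

noncomputable def tb_c17_cnt_t : BT := (BT.frm (nat_lit 0) (nat_lit 0) (nat_lit 0) [] (BT.pln (nat_lit 0) (nat_lit 0) (BT.dif (nat_lit 4) (nat_lit 0) (BT.fix (nat_lit 65793) (BT.dif (nat_lit 1) (nat_lit 0) (BT.fix (nat_lit 257) (BT.dif (nat_lit 1) (nat_lit 0) (BT.br (nat_lit 0) (nat_lit 10) [nat_lit 1] (BT.kid (nat_lit 10) (nat_lit 2) (BT.br (nat_lit 6) (nat_lit 13) [nat_lit 3] (BT.kid (nat_lit 13) (nat_lit 1) (BT.img (nat_lit 1) (nat_lit 1) (BT.img (nat_lit 1) (nat_lit 0) (BT.img (nat_lit 1) (nat_lit 0) (BT.fix (nat_lit 1) (BT.dif (nat_lit 0) (nat_lit 11) (BT.one (nat_lit 1) (nat_lit 0x70309060b06) (nat_lit 0x70309060b06) [nat_lit 5, nat_lit 2, nat_lit 3, nat_lit 4, nat_lit 6, nat_lit 0])))))) BT.nil)) BT.nil)))))))))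

theorem tb_c17_cnt : Cnt 14 (grp 14 EA) [g137] [g137] 0 0 0 0 12 :=
  BT.sound tb_c17_cnt_P Known.nil (t := tb_c17_cnt_t) (d := 0) (by decide +kernel)

theorem tb_c17_ge : 12 ≤ Nat.card (grp 14 tb_c17_K) :=
  Ch.le_card_grp (k := 4) (L := (lab 14 4)) hn tb_c17_K_ok (c := (Ch.cons (nat_lit 10) [nat_lit 1] (Ch.cons (nat_lit 13) [nat_lit 3] Ch.nil))) (by decide +kernel)

theorem tb_c17_eq : (grp 14 EA) ⊓ Subgroup.centralizer {Net.toPerm 14 g137} = grp 14 tb_c17_K :=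
  cent_eq tb_c17_sym tb_c17_cnt tb_c17_ge

theorem tb_c17_card : Nat.card ↥((grp 14 EA) ⊓ Subgroup.centralizer {Net.toPerm 14 g137}) = 12 :=
  card_cent tb_c17_sym tb_c17_cnt tb_c17_ge

theorem tb_c17_ord : orderOf (Net.toPerm 14 g137) = 6 :=
  orderOf_net hn hk g137_ok (by decide) (ps := [2, 3]) (by set_option linter.unusedSimpArgs false in simp [Nat.primeFactorsList_ofNat]) (by decide +kernel)

theorem le140 : grp 14 tb_c18_K ≤ grp 14 ao_E0 :=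
  grp_le_of_memB hn hk ao_E0_ok tb_c18_K_ok (ws := [nat_lit 0x2a211b1e161d1401, nat_lit 1]) (by decide +kernel)

theorem tb_c18_le : grp 14 tb_c18_K ≤ (grp 14 EA) :=
  (le140.trans TA_s0.le)

theorem tb_c18_mem : Net.toPerm 14 g139 ∈ (grp 14 EA) :=
  tb_c18_le (toPerm_mem_grp (E := tb_c18_K) (List.Mem.head _))

theorem tb_c18_sym : Sym 14 (grp 14 EA) [g139] tb_c18_K 0 :=
  Sym.of_lab hn hk (okE_cons.2 ⟨g139_ok, okE_nil _⟩) tb_c18_K_ok tb_c18_le (kT := 0) (by decide +kernel)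

noncomputable def tb_c18_cnt_L : List ℕ := [0, 1, TA_s0_O, 0, 0, 6, 10, TA_s12_O, 1, 0]

theorem tb_c18_cnt_P : Prob 14 4 (grp 14 EA) tb_c18_cnt_EG [g139] [g139] tb_c18_K tb_c18_cnt_L 0 0 :=
  Sym.prob hn hk tb_c18_sym tb_c18_cnt_EG_ok (grp_cons_le n_e_TA (grp_cons_le g92_TA (grp_cons_le g93_TA (grp_cons_le g91_TA (grp_cons_le g90_TA (grp_cons_le g89_TA (grp_cons_le n_m_TA (grp_cons_le n_s1_TA (grp_cons_le n_s2_TA (grp_cons_le n_s3_TA (grp_cons_le n_s4_TA (grp_cons_le n_a_TA (grp_cons_le g7_TA (grp_cons_le g3_TA (grp_cons_le g4_TA (grp_cons_le g14_TA (grp_cons_le g10_TA (grp_cons_le g11_TA (grp_cons_le g21_TA (grp_cons_le g17_TA (grp_cons_le g18_TA (grp_cons_le g28_TA (grp_cons_le g24_TA (grp_cons_le g25_TA (grp_cons_le g35_TA (grp_cons_le g36_TA (grp_cons_le g31_TA (grp_cons_le g32_TA (grp_nil_le _))))))))))))))))))))))))))))) (Frames.cons TA_s0_F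 (Frames.cons TA_s12_F Frames.nil)) (okE_cons.2 ⟨g139_ok, okE_nil _⟩) _

noncomputable def tb_c18_cnt_t : BT := (BT.frm (nat_lit 0) (nat_lit 0) (nat_lit 0) [] (BT.pln (nat_lit 0) (nat_lit 0) (BT.dif (nat_lit 4) (nat_lit 0) (BT.fix (nat_lit 65793) (BT.dif (nat_lit 1) (nat_lit 0) (BT.fix (nat_lit 257) (BT.dif (nat_lit 1) (nat_lit 0) (BT.br (nat_lit 0) (nat_lit 8) [nat_lit 1] (BT.kid (nat_lit 8) (nat_lit 2) (BT.br (nat_lit 6) (nat_lit 13) [nat_lit 3] (BT.kid (nat_lit 13) (nat_lit 1) (BT.img (nat_lit 1) (nat_lit 1) (BT.img (nat_lit 1) (nat_lit 0) (BT.img (nat_lit 1) (nat_lit 0) (BT.fix (nat_lit 1) (BT.one (nat_lit 1) (nat_lit 0x709060b061e) (nat_lit 0x709060b061e) [nat_lit 4, nat_lit 1, nat_lit 2, nat_lit 3, nat_lit 5, nat_lit 0]))))) BT.nil)) BT.nil)))))))))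

theorem tb_c18_cnt : Cnt 14 (grp 14 EA) [g139] [g139] 0 0 0 0 12 :=
  BT.sound tb_c18_cnt_P Known.nil (t := tb_c18_cnt_t) (d := 0) (by decide +kernel)

theorem tb_c18_ge : 12 ≤ Nat.card (grp 14 tb_c18_K) :=
  Ch.le_card_grp (k := 4) (L := (lab 14 4)) hn tb_c18_K_ok (c := (Ch.cons (nat_lit 8) [nat_lit 1] (Ch.cons (nat_lit 13) [nat_lit 3] Ch.nil))) (by decide +kernel)

theorem tb_c18_eq : (grp 14 EA) ⊓ Subgroup.centralizer {Net.toPerm 14 g139} = grp 14 tb_c18_K :=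
  cent_eq tb_c18_sym tb_c18_cnt tb_c18_ge

theorem tb_c18_card : Nat.card ↥((grp 14 EA) ⊓ Subgroup.centralizer {Net.toPerm 14 g139}) = 12 :=
  card_cent tb_c18_sym tb_c18_cnt tb_c18_ge

theorem tb_c18_ord : orderOf (Net.toPerm 14 g139) = 6 :=
  orderOf_net hn hk g139_ok (by decide) (ps := [2, 3]) (by set_option linter.unusedSimpArgs false in simp [Nat.primeFactorsList_ofNat]) (by decide +kernel)

theorem le142 : grp 14 tb_c19_K ≤ grp 14 ao_E0 :=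
  grp_le_of_memB hn hk ao_E0_ok tb_c19_K_ok (ws := [nat_lit 0x28161d1401, nat_lit 1]) (by decide +kernel)

theorem tb_c19_le : grp 14 tb_c19_K ≤ (grp 14 EA) :=
  (le142.trans TA_s0.le)

theorem tb_c19_mem : Net.toPerm 14 g141 ∈ (grp 14 EA) :=
  tb_c19_le (toPerm_mem_grp (E := tb_c19_K) (List.Mem.head _))

theorem tb_c19_sym : Sym 14 (grp 14 EA) [g141] tb_c19_K 0 :=
  Sym.of_lab hn hk (okE_cons.2 ⟨g141_ok, okE_nil _⟩) tb_c19_K_ok tb_c19_le (kT := 0) (by decide +kernel)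

noncomputable def tb_c19_cnt_L : List ℕ := [0, 1, TA_s0_O, 0, 0, 6, 10, TA_s12_O, 1, 0]

theorem tb_c19_cnt_P : Prob 14 4 (grp 14 EA) tb_c19_cnt_EG [g141] [g141] tb_c19_K tb_c19_cnt_L 0 0 :=
  Sym.prob hn hk tb_c19_sym tb_c19_cnt_EG_ok (grp_cons_le n_e_TA (grp_cons_le g92_TA (grp_cons_le g93_TA (grp_cons_le g91_TA (grp_cons_le g90_TA (grp_cons_le g89_TA (grp_cons_le n_m_TA (grp_cons_le n_s1_TA (grp_cons_le n_s2_TA (grp_cons_le n_s3_TA (grp_cons_le n_s4_TA (grp_cons_le n_a_TA (grp_cons_le g7_TA (grp_cons_le g3_TA (grp_cons_le g4_TA (grp_cons_le g14_TA (grp_cons_le g10_TA (grp_cons_le g11_TA (grp_cons_le g21_TA (grp_cons_le g17_TA (grp_cons_le g18_TA (grp_cons_le g28_TA (grp_cons_le g24_TA (grp_cons_le g25_TA (grp_cons_le g35_TA (grp_cons_le g36_TA (grp_cons_le g31_TA (grp_cons_le g32_TA (grp_nil_le _))))))))))))))))))))))))))))) (Frames.cons TA_s0_F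 (Frames.cons TA_s12_F Frames.nil)) (okE_cons.2 ⟨g141_ok, okE_nil _⟩) _

noncomputable def tb_c19_cnt_t : BT := (BT.fix (nat_lit 0x1010101) (BT.dif (nat_lit 3) (nat_lit 0) (BT.br (nat_lit 0) (nat_lit 0) [nat_lit 1] (BT.kid (nat_lit 0) (nat_lit 2) (BT.frm (nat_lit 0) (nat_lit 0) (nat_lit 0) [] (BT.pln (nat_lit 0) (nat_lit 0) (BT.br (nat_lit 0) (nat_lit 13) [nat_lit 3] (BT.kid (nat_lit 13) (nat_lit 1) (BT.img (nat_lit 1) (nat_lit 3) (BT.img (nat_lit 1) (nat_lit 0) (BT.img (nat_lit 1) (nat_lit 0) (BT.img (nat_lit 1) (nat_lit 0) (BT.one (nat_lit 1) (nat_lit 0x30704090b0d) (nat_lit 0x30704090b0d) [nat_lit 4, nat_lit 0, nat_lit 1, nat_lit 2, nat_lit 3, nat_lit 7]))))) BT.nil)))) BT.nil))))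

theorem tb_c19_cnt : Cnt 14 (grp 14 EA) [g141] [g141] 0 0 0 0 16 :=
  BT.sound tb_c19_cnt_P Known.nil (t := tb_c19_cnt_t) (d := 0) (by decide +kernel)

theorem tb_c19_ge : 16 ≤ Nat.card (grp 14 tb_c19_K) :=
  Ch.le_card_grp (k := 4) (L := (lab 14 4)) hn tb_c19_K_ok (c := (Ch.cons (nat_lit 0) [nat_lit 1] (Ch.cons (nat_lit 13) [nat_lit 3] Ch.nil))) (by decide +kernel)

theorem tb_c19_eq : (grp 14 EA) ⊓ Subgroup.centralizer {Net.toPerm 14 g141} = grp 14 tb_c19_K :=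
  cent_eq tb_c19_sym tb_c19_cnt tb_c19_ge

theorem tb_c19_card : Nat.card ↥((grp 14 EA) ⊓ Subgroup.centralizer {Net.toPerm 14 g141}) = 16 :=
  card_cent tb_c19_sym tb_c19_cnt tb_c19_ge

theorem tb_c19_ord : orderOf (Net.toPerm 14 g141) = 8 :=
  orderOf_net hn hk g141_ok (by decide) (ps := [2]) (by set_option linter.unusedSimpArgs false in simp [Nat.primeFactorsList_ofNat]) (by decide +kernel)

theorem le144 : grp 14 tb_c20_K ≤ grp 14 ao_E0 :=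
  grp_le_of_memB hn hk ao_E0_ok tb_c20_K_ok (ws := [nat_lit 0x221d1814, nat_lit 1]) (by decide +kernel)

theorem tb_c20_le : grp 14 tb_c20_K ≤ (grp 14 EA) :=
  (le144.trans TA_s0.le)

theorem tb_c20_mem : Net.toPerm 14 g143 ∈ (grp 14 EA) :=
  tb_c20_le (toPerm_mem_grp (E := tb_c20_K) (List.Mem.head _))

theorem tb_c20_sym : Sym 14 (grp 14 EA) [g143] tb_c20_K 0 :=
  Sym.of_lab hn hk (okE_cons.2 ⟨g143_ok, okE_nil _⟩) tb_c20_K_ok tb_c20_le (kT := 0) (by decide +kernel)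

noncomputable def tb_c20_cnt_L : List ℕ := [0, 1, TA_s0_O, 0, 0, 6, 10, TA_s12_O, 1, 0]

theorem tb_c20_cnt_P : Prob 14 4 (grp 14 EA) tb_c20_cnt_EG [g143] [g143] tb_c20_K tb_c20_cnt_L 0 0 :=
  Sym.prob hn hk tb_c20_sym tb_c20_cnt_EG_ok (grp_cons_le n_e_TA (grp_cons_le g92_TA (grp_cons_le g93_TA (grp_cons_le g91_TA (grp_cons_le g90_TA (grp_cons_le g89_TA (grp_cons_le n_m_TA (grp_cons_le n_s1_TA (grp_cons_le n_s2_TA (grp_cons_le n_s3_TA (grp_cons_le n_s4_TA (grp_cons_le n_a_TA (grp_cons_le g7_TA (grp_cons_le g3_TA (grp_cons_le g4_TA (grp_cons_le g14_TA (grp_cons_le g10_TA (grp_cons_le g11_TA (grp_cons_le g21_TA (grp_cons_le g17_TA (grp_cons_le g18_TA (grp_cons_le g28_TA (grp_cons_le g24_TA (grp_cons_le g25_TA (grp_cons_le g35_TA (grp_cons_le g36_TA (grp_cons_le g31_TA (grp_cons_le g32_TA (grp_nil_le _))))))))))))))))))))))))))))) (Frames.cons TA_s0_F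 (Frames.cons TA_s12_F Frames.nil)) (okE_cons.2 ⟨g143_ok, okE_nil _⟩) _

noncomputable def tb_c20_cnt_t : BT := (BT.fix (nat_lit 0x1010101) (BT.dif (nat_lit 3) (nat_lit 0) (BT.br (nat_lit 0) (nat_lit 0) [nat_lit 1] (BT.kid (nat_lit 0) (nat_lit 2) (BT.frm (nat_lit 0) (nat_lit 0) (nat_lit 0) [] (BT.pln (nat_lit 0) (nat_lit 0) (BT.br (nat_lit 0) (nat_lit 13) [nat_lit 3] (BT.kid (nat_lit 13) (nat_lit 1) (BT.img (nat_lit 1) (nat_lit 3) (BT.img (nat_lit 1) (nat_lit 0) (BT.img (nat_lit 1) (nat_lit 0) (BT.img (nat_lit 1) (nat_lit 0) (BT.one (nat_lit 1) (nat_lit 0x1050803090b0d) (nat_lit 0x1050803090b0d) [nat_lit 4, nat_lit 0, nat_lit 1, nat_lit 2, nat_lit 3, nat_lit 7]))))) BT.nil)))) BT.nil))))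

theorem tb_c20_cnt : Cnt 14 (grp 14 EA) [g143] [g143] 0 0 0 0 16 :=
  BT.sound tb_c20_cnt_P Known.nil (t := tb_c20_cnt_t) (d := 0) (by decide +kernel)

theorem tb_c20_ge : 16 ≤ Nat.card (grp 14 tb_c20_K) :=
  Ch.le_card_grp (k := 4) (L := (lab 14 4)) hn tb_c20_K_ok (c := (Ch.cons (nat_lit 0) [nat_lit 1] (Ch.cons (nat_lit 13) [nat_lit 3] Ch.nil))) (by decide +kernel)

theorem tb_c20_eq : (grp 14 EA) ⊓ Subgroup.centralizer {Net.toPerm 14 g143} = grp 14 tb_c20_K :=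
  cent_eq tb_c20_sym tb_c20_cnt tb_c20_ge

theorem tb_c20_card : Nat.card ↥((grp 14 EA) ⊓ Subgroup.centralizer {Net.toPerm 14 g143}) = 16 :=
  card_cent tb_c20_sym tb_c20_cnt tb_c20_ge

theorem tb_c20_ord : orderOf (Net.toPerm 14 g143) = 8 :=
  orderOf_net hn hk g143_ok (by decide) (ps := [2]) (by set_option linter.unusedSimpArgs false in simp [Nat.primeFactorsList_ofNat]) (by decide +kernel)

theorem le146 : grp 14 tb_c21_K ≤ grp 14 ao_E0 :=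
  grp_le_of_memB hn hk ao_E0_ok tb_c21_K_ok (ws := [nat_lit 0x2a212e1b1b101801, nat_lit 1]) (by decide +kernel)

theorem tb_c21_le : grp 14 tb_c21_K ≤ (grp 14 EA) :=
  (le146.trans TA_s0.le)

theorem tb_c21_mem : Net.toPerm 14 g145 ∈ (grp 14 EA) :=
  tb_c21_le (toPerm_mem_grp (E := tb_c21_K) (List.Mem.head _))

theorem tb_c21_sym : Sym 14 (grp 14 EA) [g145] tb_c21_K 0 :=
  Sym.of_lab hn hk (okE_cons.2 ⟨g145_ok, okE_nil _⟩) tb_c21_K_ok tb_c21_le (kT := 0) (by decide +kernel)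

noncomputable def tb_c21_cnt_L : List ℕ := [0, 1, TA_s0_O, 0, 0, 6, 10, TA_s12_O, 1, 0]

theorem tb_c21_cnt_P : Prob 14 4 (grp 14 EA) tb_c21_cnt_EG [g145] [g145] tb_c21_K tb_c21_cnt_L 0 0 :=
  Sym.prob hn hk tb_c21_sym tb_c21_cnt_EG_ok (grp_cons_le n_e_TA (grp_cons_le g92_TA (grp_cons_le g93_TA (grp_cons_le g91_TA (grp_cons_le g90_TA (grp_cons_le g89_TA (grp_cons_le n_m_TA (grp_cons_le n_s1_TA (grp_cons_le n_s2_TA (grp_cons_le n_s3_TA (grp_cons_le n_s4_TA (grp_cons_le n_a_TA (grp_cons_le g7_TA (grp_cons_le g3_TA (grp_cons_le g4_TA (grp_cons_le g14_TA (grp_cons_le g10_TA (grp_cons_le g11_TA (grp_cons_le g21_TA (grp_cons_le g17_TA (grp_cons_le g18_TA (grp_cons_le g28_TA (grp_cons_le g24_TA (grp_cons_le g25_TA (grp_cons_le g35_TA (grp_cons_le g36_TA (grp_cons_le g31_TA (grp_cons_le g32_TA (grp_nil_le _))))))))))))))))))))))))))))) (Frames.cons TA_s0_F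 (Frames.cons TA_s12_F Frames.nil)) (okE_cons.2 ⟨g145_ok, okE_nil _⟩) _

noncomputable def tb_c21_cnt_t : BT := (BT.fix (nat_lit 257) (BT.dif (nat_lit 3) (nat_lit 0) (BT.br (nat_lit 0) (nat_lit 0) [nat_lit 1] (BT.kid (nat_lit 0) (nat_lit 2) (BT.frm (nat_lit 0) (nat_lit 0) (nat_lit 0) [] (BT.pln (nat_lit 0) (nat_lit 0) (BT.br (nat_lit 0) (nat_lit 13) [nat_lit 3] (BT.kid (nat_lit 13) (nat_lit 1) (BT.img (nat_lit 1) (nat_lit 3) (BT.img (nat_lit 1) (nat_lit 0) (BT.img (nat_lit 1) (nat_lit 0) (BT.img (nat_lit 1) (nat_lit 0) (BT.one (nat_lit 1) (nat_lit 0x10303070409060b030d) (nat_lit 0x10303070409060b030d) [nat_lit 4, nat_lit 0, nat_lit 1, nat_lit 2, nat_lit 3, nat_lit 7]))))) BT.nil)))) BT.nil))))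

theorem tb_c21_cnt : Cnt 14 (grp 14 EA) [g145] [g145] 0 0 0 0 16 :=
  BT.sound tb_c21_cnt_P Known.nil (t := tb_c21_cnt_t) (d := 0) (by decide +kernel)

theorem tb_c21_ge : 16 ≤ Nat.card (grp 14 tb_c21_K) :=
  Ch.le_card_grp (k := 4) (L := (lab 14 4)) hn tb_c21_K_ok (c := (Ch.cons (nat_lit 0) [nat_lit 1] (Ch.cons (nat_lit 13) [nat_lit 3] Ch.nil))) (by decide +kernel)

theorem tb_c21_eq : (grp 14 EA) ⊓ Subgroup.centralizer {Net.toPerm 14 g145} = grp 14 tb_c21_K :=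
  cent_eq tb_c21_sym tb_c21_cnt tb_c21_ge

theorem tb_c21_card : Nat.card ↥((grp 14 EA) ⊓ Subgroup.centralizer {Net.toPerm 14 g145}) = 16 :=
  card_cent tb_c21_sym tb_c21_cnt tb_c21_ge

theorem tb_c21_ord : orderOf (Net.toPerm 14 g145) = 8 :=
  orderOf_net hn hk g145_ok (by decide) (ps := [2]) (by set_option linter.unusedSimpArgs false in simp [Nat.primeFactorsList_ofNat]) (by decide +kernel)

theorem le148 : grp 14 tb_c22_K ≤ grp 14 ao_E0 :=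
  grp_le_of_memB hn hk ao_E0_ok tb_c22_K_ok (ws := [nat_lit 0x2e1b21170f13, nat_lit 1]) (by decide +kernel)

theorem tb_c22_le : grp 14 tb_c22_K ≤ (grp 14 EA) :=
  (le148.trans TA_s0.le)

theorem tb_c22_mem : Net.toPerm 14 g147 ∈ (grp 14 EA) :=
  tb_c22_le (toPerm_mem_grp (E := tb_c22_K) (List.Mem.head _))

theorem tb_c22_sym : Sym 14 (grp 14 EA) [g147] tb_c22_K 0 :=
  Sym.of_lab hn hk (okE_cons.2 ⟨g147_ok, okE_nil _⟩) tb_c22_K_ok tb_c22_le (kT := 0) (by decide +kernel)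

noncomputable def tb_c22_cnt_L : List ℕ := [0, 1, TA_s0_O, 0, 0, 6, 10, TA_s12_O, 1, 0]

theorem tb_c22_cnt_P : Prob 14 4 (grp 14 EA) tb_c22_cnt_EG [g147] [g147] tb_c22_K tb_c22_cnt_L 0 0 :=
  Sym.prob hn hk tb_c22_sym tb_c22_cnt_EG_ok (grp_cons_le n_e_TA (grp_cons_le g92_TA (grp_cons_le g93_TA (grp_cons_le g91_TA (grp_cons_le g90_TA (grp_cons_le g89_TA (grp_cons_le n_m_TA (grp_cons_le n_s1_TA (grp_cons_le n_s2_TA (grp_cons_le n_s3_TA (grp_cons_le n_s4_TA (grp_cons_le n_a_TA (grp_cons_le g7_TA (grp_cons_le g3_TA (grp_cons_le g4_TA (grp_cons_le g14_TA (grp_cons_le g10_TA (grp_cons_le g11_TA (grp_cons_le g21_TA (grp_cons_le g17_TA (grp_cons_le g18_TA (grp_cons_le g28_TA (grp_cons_le g24_TA (grp_cons_le g25_TA (grp_cons_le g35_TA (grp_cons_le g36_TA (grp_cons_le g31_TA (grp_cons_le g32_TA (grp_nil_le _))))))))))))))))))))))))))))) (Frames.cons TA_s0_F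 (Frames.cons TA_s12_F Frames.nil)) (okE_cons.2 ⟨g147_ok, okE_nil _⟩) _

noncomputable def tb_c22_cnt_t : BT := (BT.fix (nat_lit 257) (BT.dif (nat_lit 3) (nat_lit 0) (BT.br (nat_lit 0) (nat_lit 0) [nat_lit 1] (BT.kid (nat_lit 0) (nat_lit 2) (BT.frm (nat_lit 0) (nat_lit 0) (nat_lit 0) [] (BT.pln (nat_lit 0) (nat_lit 0) (BT.br (nat_lit 0) (nat_lit 13) [nat_lit 3] (BT.kid (nat_lit 13) (nat_lit 1) (BT.img (nat_lit 1) (nat_lit 3) (BT.img (nat_lit 1) (nat_lit 0) (BT.img (nat_lit 1) (nat_lit 0) (BT.img (nat_lit 1) (nat_lit 0) (BT.one (nat_lit 1) (nat_lit 0x6080309050b0a0d) (nat_lit 0x6080309050b0a0d) [nat_lit 4, nat_lit 0, nat_lit 1, nat_lit 2, nat_lit 3, nat_lit 7]))))) BT.nil)))) BT.nil))))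

theorem tb_c22_cnt : Cnt 14 (grp 14 EA) [g147] [g147] 0 0 0 0 16 :=
  BT.sound tb_c22_cnt_P Known.nil (t := tb_c22_cnt_t) (d := 0) (by decide +kernel)

theorem tb_c22_ge : 16 ≤ Nat.card (grp 14 tb_c22_K) :=
  Ch.le_card_grp (k := 4) (L := (lab 14 4)) hn tb_c22_K_ok (c := (Ch.cons (nat_lit 0) [nat_lit 1] (Ch.cons (nat_lit 13) [nat_lit 3] Ch.nil))) (by decide +kernel)

theorem tb_c22_eq : (grp 14 EA) ⊓ Subgroup.centralizer {Net.toPerm 14 g147} = grp 14 tb_c22_K :=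
  cent_eq tb_c22_sym tb_c22_cnt tb_c22_ge

theorem tb_c22_card : Nat.card ↥((grp 14 EA) ⊓ Subgroup.centralizer {Net.toPerm 14 g147}) = 16 :=
  card_cent tb_c22_sym tb_c22_cnt tb_c22_ge

theorem tb_c22_ord : orderOf (Net.toPerm 14 g147) = 8 :=
  orderOf_net hn hk g147_ok (by decide) (ps := [2]) (by set_option linter.unusedSimpArgs false in simp [Nat.primeFactorsList_ofNat]) (by decide +kernel)

theorem le151 : grp 14 tb_c23_K ≤ grp 14 ao_E0 :=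
  grp_le_of_memB hn hk ao_E0_ok tb_c23_K_ok (ws := [nat_lit 0x2821211b1e161001, nat_lit 0x2a212a1b1b15190f0f01, nat_lit 1]) (by decide +kernel)

theorem tb_c23_le : grp 14 tb_c23_K ≤ (grp 14 EA) :=
  (le151.trans TA_s0.le)

theorem tb_c23_mem : Net.toPerm 14 g149 ∈ (grp 14 EA) :=
  tb_c23_le (toPerm_mem_grp (E := tb_c23_K) (List.Mem.head _))

theorem tb_c23_sym : Sym 14 (grp 14 EA) [g149] tb_c23_K 0 :=
  Sym.of_lab hn hk (okE_cons.2 ⟨g149_ok, okE_nil _⟩) tb_c23_K_ok tb_c23_le (kT := 0) (by decide +kernel)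

noncomputable def tb_c23_cnt_L : List ℕ := [0, 1, TA_s0_O, 0, 0, 6, 10, TA_s12_O, 1, 0]

theorem tb_c23_cnt_P : Prob 14 4 (grp 14 EA) tb_c23_cnt_EG [g149] [g149] tb_c23_K tb_c23_cnt_L 0 0 :=
  Sym.prob hn hk tb_c23_sym tb_c23_cnt_EG_ok (grp_cons_le n_e_TA (grp_cons_le g92_TA (grp_cons_le g93_TA (grp_cons_le g91_TA (grp_cons_le g90_TA (grp_cons_le g89_TA (grp_cons_le n_m_TA (grp_cons_le n_s1_TA (grp_cons_le n_s2_TA (grp_cons_le n_s3_TA (grp_cons_le n_s4_TA (grp_cons_le n_a_TA (grp_cons_le g7_TA (grp_cons_le g3_TA (grp_cons_le g4_TA (grp_cons_le g14_TA (grp_cons_le g10_TA (grp_cons_le g11_TA (grp_cons_le g21_TA (grp_cons_le g17_TA (grp_cons_le g18_TA (grp_cons_le g28_TA (grp_cons_le g24_TA (grp_cons_le g25_TA (grp_cons_le g35_TA (grp_cons_le g36_TA (grp_cons_le g31_TA (grp_cons_le g32_TA (grp_nil_le _))))))))))))))))))))))))))))) (Frames.cons TA_s0_F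 (Frames.cons TA_s12_F Frames.nil)) (okE_cons.2 ⟨g149_ok, okE_nil _⟩) _

noncomputable def tb_c23_cnt_t : BT := (BT.fix (nat_lit 257) (BT.dif (nat_lit 3) (nat_lit 0) (BT.br (nat_lit 0) (nat_lit 0) [nat_lit 3] (BT.kid (nat_lit 0) (nat_lit 2) (BT.frm (nat_lit 0) (nat_lit 0) (nat_lit 0) [] (BT.pln (nat_lit 0) (nat_lit 0) (BT.br (nat_lit 0) (nat_lit 13) [nat_lit 5] (BT.kid (nat_lit 13) (nat_lit 1) (BT.img (nat_lit 1) (nat_lit 3) (BT.img (nat_lit 1) (nat_lit 0) (BT.img (nat_lit 1) (nat_lit 0) (BT.img (nat_lit 1) (nat_lit 0) (BT.one (nat_lit 1) (nat_lit 0x507030a0b050d) (nat_lit 0x507030a0b050d) [nat_lit 4, nat_lit 0, nat_lit 1, nat_lit 2, nat_lit 3, nat_lit 7]))))) BT.nil)))) BT.nil))))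

theorem tb_c23_cnt : Cnt 14 (grp 14 EA) [g149] [g149] 0 0 0 0 20 :=
  BT.sound tb_c23_cnt_P Known.nil (t := tb_c23_cnt_t) (d := 0) (by decide +kernel)

theorem tb_c23_ge : 20 ≤ Nat.card (grp 14 tb_c23_K) :=
  Ch.le_card_grp (k := 4) (L := (lab 14 4)) hn tb_c23_K_ok (c := (Ch.cons (nat_lit 0) [nat_lit 1, nat_lit 3] (Ch.cons (nat_lit 13) [nat_lit 5] Ch.nil))) (by decide +kernel)

theorem tb_c23_eq : (grp 14 EA) ⊓ Subgroup.centralizer {Net.toPerm 14 g149} = grp 14 tb_c23_K :=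
  cent_eq tb_c23_sym tb_c23_cnt tb_c23_ge

theorem tb_c23_card : Nat.card ↥((grp 14 EA) ⊓ Subgroup.centralizer {Net.toPerm 14 g149}) = 20 :=
  card_cent tb_c23_sym tb_c23_cnt tb_c23_ge

theorem tb_c23_ord : orderOf (Net.toPerm 14 g149) = 10 :=
  orderOf_net hn hk g149_ok (by decide) (ps := [2, 5]) (by set_option linter.unusedSimpArgs false in simp [Nat.primeFactorsList_ofNat]) (by decide +kernel)

theorem le153 : grp 14 tb_c24_K ≤ grp 14 ao_E0 :=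
  grp_le_of_memB hn hk ao_E0_ok tb_c24_K_ok (ws := [nat_lit 0x29212a1b1b160f1501, nat_lit 1]) (by decide +kernel)

theorem tb_c24_le : grp 14 tb_c24_K ≤ (grp 14 EA) :=
  (le153.trans TA_s0.le)

theorem tb_c24_mem : Net.toPerm 14 g152 ∈ (grp 14 EA) :=
  tb_c24_le (toPerm_mem_grp (E := tb_c24_K) (List.Mem.head _))

theorem tb_c24_sym : Sym 14 (grp 14 EA) [g152] tb_c24_K 0 :=
  Sym.of_lab hn hk (okE_cons.2 ⟨g152_ok, okE_nil _⟩) tb_c24_K_ok tb_c24_le (kT := 0) (by decide +kernel)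

noncomputable def tb_c24_cnt_L : List ℕ := [0, 1, TA_s0_O, 0, 0, 6, 10, TA_s12_O, 1, 0]

theorem tb_c24_cnt_P : Prob 14 4 (grp 14 EA) tb_c24_cnt_EG [g152] [g152] tb_c24_K tb_c24_cnt_L 0 0 :=
  Sym.prob hn hk tb_c24_sym tb_c24_cnt_EG_ok (grp_cons_le n_e_TA (grp_cons_le g92_TA (grp_cons_le g93_TA (grp_cons_le g91_TA (grp_cons_le g90_TA (grp_cons_le g89_TA (grp_cons_le n_m_TA (grp_cons_le n_s1_TA (grp_cons_le n_s2_TA (grp_cons_le n_s3_TA (grp_cons_le n_s4_TA (grp_cons_le n_a_TA (grp_cons_le g7_TA (grp_cons_le g3_TA (grp_cons_le g4_TA (grp_cons_le g14_TA (grp_cons_le g10_TA (grp_cons_le g11_TA (grp_cons_le g21_TA (grp_cons_le g17_TA (grp_cons_le g18_TA (grp_cons_le g28_TA (grp_cons_le g24_TA (grp_cons_le g25_TA (grp_cons_le g35_TA (grp_cons_le g36_TA (grp_cons_le g31_TA (grp_cons_le g32_TA (grp_nil_le _))))))))))))))))))))))))))))) (Frames.cons TA_s0_F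 (Frames.cons TA_s12_F Frames.nil)) (okE_cons.2 ⟨g152_ok, okE_nil _⟩) _

noncomputable def tb_c24_cnt_t : BT := (BT.fix (nat_lit 257) (BT.dif (nat_lit 3) (nat_lit 0) (BT.br (nat_lit 0) (nat_lit 0) [nat_lit 1] (BT.kid (nat_lit 0) (nat_lit 2) (BT.frm (nat_lit 0) (nat_lit 0) (nat_lit 0) [] (BT.pln (nat_lit 0) (nat_lit 0) (BT.br (nat_lit 0) (nat_lit 13) [nat_lit 3] (BT.kid (nat_lit 13) (nat_lit 1) (BT.img (nat_lit 1) (nat_lit 3) (BT.img (nat_lit 1) (nat_lit 0) (BT.img (nat_lit 1) (nat_lit 0) (BT.img (nat_lit 1) (nat_lit 0) (BT.one (nat_lit 1) (nat_lit 0x103080509080b0b0d) (nat_lit 0x103080509080b0b0d) [nat_lit 4, nat_lit 0, nat_lit 1, nat_lit 2, nat_lit 3, nat_lit 7]))))) BT.nil)))) BT.nil))))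

theorem tb_c24_cnt : Cnt 14 (grp 14 EA) [g152] [g152] 0 0 0 0 20 :=
  BT.sound tb_c24_cnt_P Known.nil (t := tb_c24_cnt_t) (d := 0) (by decide +kernel)

theorem tb_c24_ge : 20 ≤ Nat.card (grp 14 tb_c24_K) :=
  Ch.le_card_grp (k := 4) (L := (lab 14 4)) hn tb_c24_K_ok (c := (Ch.cons (nat_lit 0) [nat_lit 1] (Ch.cons (nat_lit 13) [nat_lit 3] Ch.nil))) (by decide +kernel)

theorem tb_c24_eq : (grp 14 EA) ⊓ Subgroup.centralizer {Net.toPerm 14 g152} = grp 14 tb_c24_K :=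
  cent_eq tb_c24_sym tb_c24_cnt tb_c24_ge

theorem tb_c24_card : Nat.card ↥((grp 14 EA) ⊓ Subgroup.centralizer {Net.toPerm 14 g152}) = 20 :=
  card_cent tb_c24_sym tb_c24_cnt tb_c24_ge

theorem tb_c24_ord : orderOf (Net.toPerm 14 g152) = 10 :=
  orderOf_net hn hk g152_ok (by decide) (ps := [2, 5]) (by set_option linter.unusedSimpArgs false in simp [Nat.primeFactorsList_ofNat]) (by decide +kernel)

theorem le155 : grp 14 tb_c25_K ≤ grp 14 ao_E0 :=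
  grp_le_of_memB hn hk ao_E0_ok tb_c25_K_ok (ws := [nat_lit 0x2a221b22150f0f, nat_lit 1]) (by decide +kernel)

theorem tb_c25_le : grp 14 tb_c25_K ≤ (grp 14 EA) :=
  (le155.trans TA_s0.le)

theorem tb_c25_mem : Net.toPerm 14 g154 ∈ (grp 14 EA) :=
  tb_c25_le (toPerm_mem_grp (E := tb_c25_K) (List.Mem.head _))

theorem tb_c25_sym : Sym 14 (grp 14 EA) [g154] tb_c25_K 0 :=
  Sym.of_lab hn hk (okE_cons.2 ⟨g154_ok, okE_nil _⟩) tb_c25_K_ok tb_c25_le (kT := 0) (by decide +kernel)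

noncomputable def tb_c25_cnt_L : List ℕ := [0, 1, TA_s0_O, 0, 0, 6, 10, TA_s12_O, 1, 0]

theorem tb_c25_cnt_P : Prob 14 4 (grp 14 EA) tb_c25_cnt_EG [g154] [g154] tb_c25_K tb_c25_cnt_L 0 0 :=
  Sym.prob hn hk tb_c25_sym tb_c25_cnt_EG_ok (grp_cons_le n_e_TA (grp_cons_le g92_TA (grp_cons_le g93_TA (grp_cons_le g91_TA (grp_cons_le g90_TA (grp_cons_le g89_TA (grp_cons_le n_m_TA (grp_cons_le n_s1_TA (grp_cons_le n_s2_TA (grp_cons_le n_s3_TA (grp_cons_le n_s4_TA (grp_cons_le n_a_TA (grp_cons_le g7_TA (grp_cons_le g3_TA (grp_cons_le g4_TA (grp_cons_le g14_TA (grp_cons_le g10_TA (grp_cons_le g11_TA (grp_cons_le g21_TA (grp_cons_le g17_TA (grp_cons_le g18_TA (grp_cons_le g28_TA (grp_cons_le g24_TA (grp_cons_le g25_TA (grp_cons_le g35_TA (grp_cons_le g36_TA (grp_cons_le g31_TA (grp_cons_le g32_TA (grp_nil_le _))))))))))))))))))))))))))))) (Frames.cons TA_s0_F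 (Frames.cons TA_s12_F Frames.nil)) (okE_cons.2 ⟨g154_ok, okE_nil _⟩) _

noncomputable def tb_c25_cnt_t : BT := (BT.fix (nat_lit 257) (BT.dif (nat_lit 3) (nat_lit 0) (BT.br (nat_lit 0) (nat_lit 0) [nat_lit 1] (BT.kid (nat_lit 0) (nat_lit 2) (BT.frm (nat_lit 0) (nat_lit 0) (nat_lit 0) [] (BT.pln (nat_lit 0) (nat_lit 0) (BT.br (nat_lit 0) (nat_lit 13) [nat_lit 3] (BT.kid (nat_lit 13) (nat_lit 1) (BT.img (nat_lit 1) (nat_lit 3) (BT.img (nat_lit 1) (nat_lit 0) (BT.img (nat_lit 1) (nat_lit 0) (BT.img (nat_lit 1) (nat_lit 0) (BT.one (nat_lit 1) (nat_lit 0x10507040a0c0d) (nat_lit 0x10507040a0c0d) [nat_lit 4, nat_lit 0, nat_lit 1, nat_lit 2, nat_lit 3, nat_lit 7]))))) BT.nil)))) BT.nil))))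

theorem tb_c25_cnt : Cnt 14 (grp 14 EA) [g154] [g154] 0 0 0 0 20 :=
  BT.sound tb_c25_cnt_P Known.nil (t := tb_c25_cnt_t) (d := 0) (by decide +kernel)

theorem tb_c25_ge : 20 ≤ Nat.card (grp 14 tb_c25_K) :=
  Ch.le_card_grp (k := 4) (L := (lab 14 4)) hn tb_c25_K_ok (c := (Ch.cons (nat_lit 0) [nat_lit 1] (Ch.cons (nat_lit 13) [nat_lit 3] Ch.nil))) (by decide +kernel)

theorem tb_c25_eq : (grp 14 EA) ⊓ Subgroup.centralizer {Net.toPerm 14 g154} = grp 14 tb_c25_K :=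
  cent_eq tb_c25_sym tb_c25_cnt tb_c25_ge

theorem tb_c25_card : Nat.card ↥((grp 14 EA) ⊓ Subgroup.centralizer {Net.toPerm 14 g154}) = 20 :=
  card_cent tb_c25_sym tb_c25_cnt tb_c25_ge

theorem tb_c25_ord : orderOf (Net.toPerm 14 g154) = 10 :=
  orderOf_net hn hk g154_ok (by decide) (ps := [2, 5]) (by set_option linter.unusedSimpArgs false in simp [Nat.primeFactorsList_ofNat]) (by decide +kernel)

theorem le157 : grp 14 tb_c26_K ≤ grp 14 ao_E0 :=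
  grp_le_of_memB hn hk ao_E0_ok tb_c26_K_ok (ws := [nat_lit 0x2721291b1b15190f13, nat_lit 1]) (by decide +kernel)

theorem tb_c26_le : grp 14 tb_c26_K ≤ (grp 14 EA) :=
  (le157.trans TA_s0.le)

theorem tb_c26_mem : Net.toPerm 14 g156 ∈ (grp 14 EA) :=
  tb_c26_le (toPerm_mem_grp (E := tb_c26_K) (List.Mem.head _))

theorem tb_c26_sym : Sym 14 (grp 14 EA) [g156] tb_c26_K 0 :=
  Sym.of_lab hn hk (okE_cons.2 ⟨g156_ok, okE_nil _⟩) tb_c26_K_ok tb_c26_le (kT := 0) (by decide +kernel)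

noncomputable def tb_c26_cnt_L : List ℕ := [0, 1, TA_s0_O, 0, 0, 6, 10, TA_s12_O, 1, 0]

theorem tb_c26_cnt_P : Prob 14 4 (grp 14 EA) tb_c26_cnt_EG [g156] [g156] tb_c26_K tb_c26_cnt_L 0 0 :=
  Sym.prob hn hk tb_c26_sym tb_c26_cnt_EG_ok (grp_cons_le n_e_TA (grp_cons_le g92_TA (grp_cons_le g93_TA (grp_cons_le g91_TA (grp_cons_le g90_TA (grp_cons_le g89_TA (grp_cons_le n_m_TA (grp_cons_le n_s1_TA (grp_cons_le n_s2_TA (grp_cons_le n_s3_TA (grp_cons_le n_s4_TA (grp_cons_le n_a_TA (grp_cons_le g7_TA (grp_cons_le g3_TA (grp_cons_le g4_TA (grp_cons_le g14_TA (grp_cons_le g10_TA (grp_cons_le g11_TA (grp_cons_le g21_TA (grp_cons_le g17_TA (grp_cons_le g18_TA (grp_cons_le g28_TA (grp_cons_le g24_TA (grp_cons_le g25_TA (grp_cons_le g35_TA (grp_cons_le g36_TA (grp_cons_le g31_TA (grp_cons_le g32_TA (grp_nil_le _))))))))))))))))))))))))))))) (Frames.cons TA_s0_F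 (Frames.cons TA_s12_F Frames.nil)) (okE_cons.2 ⟨g156_ok, okE_nil _⟩) _

noncomputable def tb_c26_cnt_t : BT := (BT.fix (nat_lit 1) (BT.dif (nat_lit 3) (nat_lit 0) (BT.br (nat_lit 0) (nat_lit 0) [nat_lit 1] (BT.kid (nat_lit 0) (nat_lit 2) (BT.frm (nat_lit 0) (nat_lit 0) (nat_lit 0) [] (BT.pln (nat_lit 0) (nat_lit 0) (BT.br (nat_lit 0) (nat_lit 13) [nat_lit 3] (BT.kid (nat_lit 13) (nat_lit 1) (BT.img (nat_lit 1) (nat_lit 3) (BT.img (nat_lit 1) (nat_lit 0) (BT.img (nat_lit 1) (nat_lit 0) (BT.dif (nat_lit 8) (nat_lit 4) (BT.one (nat_lit 1) (nat_lit 0x6080309060b0811) (nat_lit 0x6080309060b0811) [nat_lit 4, nat_lit 1, nat_lit 2, nat_lit 3, nat_lit 7, nat_lit 0]))))) BT.nil)))) BT.nil))))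

theorem tb_c26_cnt : Cnt 14 (grp 14 EA) [g156] [g156] 0 0 0 0 22 :=
  BT.sound tb_c26_cnt_P Known.nil (t := tb_c26_cnt_t) (d := 0) (by decide +kernel)

theorem tb_c26_ge : 22 ≤ Nat.card (grp 14 tb_c26_K) :=
  Ch.le_card_grp (k := 4) (L := (lab 14 4)) hn tb_c26_K_ok (c := (Ch.cons (nat_lit 0) [nat_lit 1] (Ch.cons (nat_lit 13) [nat_lit 3] Ch.nil))) (by decide +kernel)

theorem tb_c26_eq : (grp 14 EA) ⊓ Subgroup.centralizer {Net.toPerm 14 g156} = grp 14 tb_c26_K :=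
  cent_eq tb_c26_sym tb_c26_cnt tb_c26_ge

theorem tb_c26_card : Nat.card ↥((grp 14 EA) ⊓ Subgroup.centralizer {Net.toPerm 14 g156}) = 22 :=
  card_cent tb_c26_sym tb_c26_cnt tb_c26_ge

theorem tb_c26_ord : orderOf (Net.toPerm 14 g156) = 11 :=
  orderOf_net hn hk g156_ok (by decide) (ps := [11]) (by set_option linter.unusedSimpArgs false in simp [Nat.primeFactorsList_ofNat]) (by decide +kernel)

theorem le159 : grp 14 tb_c27_K ≤ grp 14 ao_E0 :=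
  grp_le_of_memB hn hk ao_E0_ok tb_c27_K_ok (ws := [nat_lit 0x2921291b1e15150f14, nat_lit 1]) (by decide +kernel)

theorem tb_c27_le : grp 14 tb_c27_K ≤ (grp 14 EA) :=
  (le159.trans TA_s0.le)

theorem tb_c27_mem : Net.toPerm 14 g158 ∈ (grp 14 EA) :=
  tb_c27_le (toPerm_mem_grp (E := tb_c27_K) (List.Mem.head _))

theorem tb_c27_sym : Sym 14 (grp 14 EA) [g158] tb_c27_K 0 :=
  Sym.of_lab hn hk (okE_cons.2 ⟨g158_ok, okE_nil _⟩) tb_c27_K_ok tb_c27_le (kT := 0) (by decide +kernel)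

noncomputable def tb_c27_cnt_L : List ℕ := [0, 1, TA_s0_O, 0, 0, 6, 10, TA_s12_O, 1, 0]

theorem tb_c27_cnt_P : Prob 14 4 (grp 14 EA) tb_c27_cnt_EG [g158] [g158] tb_c27_K tb_c27_cnt_L 0 0 :=
  Sym.prob hn hk tb_c27_sym tb_c27_cnt_EG_ok (grp_cons_le n_e_TA (grp_cons_le g92_TA (grp_cons_le g93_TA (grp_cons_le g91_TA (grp_cons_le g90_TA (grp_cons_le g89_TA (grp_cons_le n_m_TA (grp_cons_le n_s1_TA (grp_cons_le n_s2_TA (grp_cons_le n_s3_TA (grp_cons_le n_s4_TA (grp_cons_le n_a_TA (grp_cons_le g7_TA (grp_cons_le g3_TA (grp_cons_le g4_TA (grp_cons_le g14_TA (grp_cons_le g10_TA (grp_cons_le g11_TA (grp_cons_le g21_TA (grp_cons_le g17_TA (grp_cons_le g18_TA (grp_cons_le g28_TA (grp_cons_le g24_TA (grp_cons_le g25_TA (grp_cons_le g35_TA (grp_cons_le g36_TA (grp_cons_le g31_TA (grp_cons_le g32_TA (grp_nil_le _))))))))))))))))))))))))))))) (Frames.cons TA_s0_F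 (Frames.cons TA_s12_F Frames.nil)) (okE_cons.2 ⟨g158_ok, okE_nil _⟩) _

noncomputable def tb_c27_cnt_t : BT := (BT.fix (nat_lit 1) (BT.dif (nat_lit 3) (nat_lit 0) (BT.br (nat_lit 0) (nat_lit 0) [nat_lit 1] (BT.kid (nat_lit 0) (nat_lit 2) (BT.frm (nat_lit 0) (nat_lit 0) (nat_lit 0) [] (BT.pln (nat_lit 0) (nat_lit 0) (BT.br (nat_lit 0) (nat_lit 13) [nat_lit 3] (BT.kid (nat_lit 13) (nat_lit 1) (BT.img (nat_lit 1) (nat_lit 3) (BT.img (nat_lit 1) (nat_lit 0) (BT.img (nat_lit 1) (nat_lit 0) (BT.dif (nat_lit 8) (nat_lit 4) (BT.one (nat_lit 1) (nat_lit 0x10608090b0811) (nat_lit 0x10608090b0811) [nat_lit 4, nat_lit 1, nat_lit 2, nat_lit 3, nat_lit 7, nat_lit 0]))))) BT.nil)))) BT.nil))))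

theorem tb_c27_cnt : Cnt 14 (grp 14 EA) [g158] [g158] 0 0 0 0 22 :=
  BT.sound tb_c27_cnt_P Known.nil (t := tb_c27_cnt_t) (d := 0) (by decide +kernel)

theorem tb_c27_ge : 22 ≤ Nat.card (grp 14 tb_c27_K) :=
  Ch.le_card_grp (k := 4) (L := (lab 14 4)) hn tb_c27_K_ok (c := (Ch.cons (nat_lit 0) [nat_lit 1] (Ch.cons (nat_lit 13) [nat_lit 3] Ch.nil))) (by decide +kernel)

theorem tb_c27_eq : (grp 14 EA) ⊓ Subgroup.centralizer {Net.toPerm 14 g158} = grp 14 tb_c27_K :=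
  cent_eq tb_c27_sym tb_c27_cnt tb_c27_ge

theorem tb_c27_card : Nat.card ↥((grp 14 EA) ⊓ Subgroup.centralizer {Net.toPerm 14 g158}) = 22 :=
  card_cent tb_c27_sym tb_c27_cnt tb_c27_ge

theorem tb_c27_ord : orderOf (Net.toPerm 14 g158) = 11 :=
  orderOf_net hn hk g158_ok (by decide) (ps := [11]) (by set_option linter.unusedSimpArgs false in simp [Nat.primeFactorsList_ofNat]) (by decide +kernel)

theorem le161 : grp 14 tb_c28_K ≤ grp 14 ao_E0 :=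
  grp_le_of_memB hn hk ao_E0_ok tb_c28_K_ok (ws := [nat_lit 0x2e221e161c1401, nat_lit 1]) (by decide +kernel)

theorem tb_c28_le : grp 14 tb_c28_K ≤ (grp 14 EA) :=
  (le161.trans TA_s0.le)

theorem tb_c28_mem : Net.toPerm 14 g160 ∈ (grp 14 EA) :=
  tb_c28_le (toPerm_mem_grp (E := tb_c28_K) (List.Mem.head _))

theorem tb_c28_sym : Sym 14 (grp 14 EA) [g160] tb_c28_K 0 :=
  Sym.of_lab hn hk (okE_cons.2 ⟨g160_ok, okE_nil _⟩) tb_c28_K_ok tb_c28_le (kT := 0) (by decide +kernel)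

noncomputable def tb_c28_cnt_L : List ℕ := [0, 1, TA_s0_O, 0, 0, 6, 10, TA_s12_O, 1, 0]

theorem tb_c28_cnt_P : Prob 14 4 (grp 14 EA) tb_c28_cnt_EG [g160] [g160] tb_c28_K tb_c28_cnt_L 0 0 :=
  Sym.prob hn hk tb_c28_sym tb_c28_cnt_EG_ok (grp_cons_le n_e_TA (grp_cons_le g92_TA (grp_cons_le g93_TA (grp_cons_le g91_TA (grp_cons_le g90_TA (grp_cons_le g89_TA (grp_cons_le n_m_TA (grp_cons_le n_s1_TA (grp_cons_le n_s2_TA (grp_cons_le n_s3_TA (grp_cons_le n_s4_TA (grp_cons_le n_a_TA (grp_cons_le g7_TA (grp_cons_le g3_TA (grp_cons_le g4_TA (grp_cons_le g14_TA (grp_cons_le g10_TA (grp_cons_le g11_TA (grp_cons_le g21_TA (grp_cons_le g17_TA (grp_cons_le g18_TA (grp_cons_le g28_TA (grp_cons_le g24_TA (grp_cons_le g25_TA (grp_cons_le g35_TA (grp_cons_le g36_TA (grp_cons_le g31_TA (grp_cons_le g32_TA (grp_nil_le _))))))))))))))))))))))))))))) (Frames.cons TA_s0_F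 (Frames.cons TA_s12_F Frames.nil)) (okE_cons.2 ⟨g160_ok, okE_nil _⟩) _

noncomputable def tb_c28_cnt_t : BT := (BT.fix (nat_lit 257) (BT.dif (nat_lit 3) (nat_lit 0) (BT.br (nat_lit 0) (nat_lit 0) [nat_lit 1] (BT.kid (nat_lit 0) (nat_lit 2) (BT.frm (nat_lit 0) (nat_lit 0) (nat_lit 0) [] (BT.pln (nat_lit 0) (nat_lit 0) (BT.br (nat_lit 0) (nat_lit 13) [nat_lit 3] (BT.kid (nat_lit 13) (nat_lit 1) (BT.img (nat_lit 1) (nat_lit 3) (BT.img (nat_lit 1) (nat_lit 0) (BT.img (nat_lit 1) (nat_lit 0) (BT.fix (nat_lit 1) (BT.one (nat_lit 1) (nat_lit 0x106070b0811) (nat_lit 0x106070b0811) [nat_lit 4, nat_lit 1, nat_lit 2, nat_lit 3, nat_lit 7, nat_lit 0]))))) BT.nil)))) BT.nil))))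

theorem tb_c28_cnt : Cnt 14 (grp 14 EA) [g160] [g160] 0 0 0 0 22 :=
  BT.sound tb_c28_cnt_P Known.nil (t := tb_c28_cnt_t) (d := 0) (by decide +kernel)

theorem tb_c28_ge : 22 ≤ Nat.card (grp 14 tb_c28_K) :=
  Ch.le_card_grp (k := 4) (L := (lab 14 4)) hn tb_c28_K_ok (c := (Ch.cons (nat_lit 0) [nat_lit 1] (Ch.cons (nat_lit 13) [nat_lit 3] Ch.nil))) (by decide +kernel)

theorem tb_c28_eq : (grp 14 EA) ⊓ Subgroup.centralizer {Net.toPerm 14 g160} = grp 14 tb_c28_K :=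
  cent_eq tb_c28_sym tb_c28_cnt tb_c28_ge

theorem tb_c28_card : Nat.card ↥((grp 14 EA) ⊓ Subgroup.centralizer {Net.toPerm 14 g160}) = 22 :=
  card_cent tb_c28_sym tb_c28_cnt tb_c28_ge

theorem tb_c28_ord : orderOf (Net.toPerm 14 g160) = 22 :=
  orderOf_net hn hk g160_ok (by decide) (ps := [2, 11]) (by set_option linter.unusedSimpArgs false in simp [Nat.primeFactorsList_ofNat]) (by decide +kernel)

theorem le163 : grp 14 tb_c29_K ≤ grp 14 ao_E0 :=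
  grp_le_of_memB hn hk ao_E0_ok tb_c29_K_ok (ws := [nat_lit 0x28212a1e161c101201, nat_lit 1]) (by decide +kernel)

theorem tb_c29_le : grp 14 tb_c29_K ≤ (grp 14 EA) :=
  (le163.trans TA_s0.le)

theorem tb_c29_mem : Net.toPerm 14 g162 ∈ (grp 14 EA) :=
  tb_c29_le (toPerm_mem_grp (E := tb_c29_K) (List.Mem.head _))

theorem tb_c29_sym : Sym 14 (grp 14 EA) [g162] tb_c29_K 0 :=
  Sym.of_lab hn hk (okE_cons.2 ⟨g162_ok, okE_nil _⟩) tb_c29_K_ok tb_c29_le (kT := 0) (by decide +kernel)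

noncomputable def tb_c29_cnt_L : List ℕ := [0, 1, TA_s0_O, 0, 0, 6, 10, TA_s12_O, 1, 0]

theorem tb_c29_cnt_P : Prob 14 4 (grp 14 EA) tb_c29_cnt_EG [g162] [g162] tb_c29_K tb_c29_cnt_L 0 0 :=
  Sym.prob hn hk tb_c29_sym tb_c29_cnt_EG_ok (grp_cons_le n_e_TA (grp_cons_le g92_TA (grp_cons_le g93_TA (grp_cons_le g91_TA (grp_cons_le g90_TA (grp_cons_le g89_TA (grp_cons_le n_m_TA (grp_cons_le n_s1_TA (grp_cons_le n_s2_TA (grp_cons_le n_s3_TA (grp_cons_le n_s4_TA (grp_cons_le n_a_TA (grp_cons_le g7_TA (grp_cons_le g3_TA (grp_cons_le g4_TA (grp_cons_le g14_TA (grp_cons_le g10_TA (grp_cons_le g11_TA (grp_cons_le g21_TA (grp_cons_le g17_TA (grp_cons_le g18_TA (grp_cons_le g28_TA (grp_cons_le g24_TA (grp_cons_le g25_TA (grp_cons_le g35_TA (grp_cons_le g36_TA (grp_cons_le g31_TA (grp_cons_le g32_TA (grp_nil_le _))))))))))))))))))))))))))))) (Frames.cons TA_s0_F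 (Frames.cons TA_s12_F Frames.nil)) (okE_cons.2 ⟨g162_ok, okE_nil _⟩) _

noncomputable def tb_c29_cnt_t : BT := (BT.fix (nat_lit 257) (BT.dif (nat_lit 3) (nat_lit 0) (BT.br (nat_lit 0) (nat_lit 0) [nat_lit 1] (BT.kid (nat_lit 0) (nat_lit 2) (BT.frm (nat_lit 0) (nat_lit 0) (nat_lit 0) [] (BT.pln (nat_lit 0) (nat_lit 0) (BT.br (nat_lit 0) (nat_lit 13) [nat_lit 3] (BT.kid (nat_lit 13) (nat_lit 1) (BT.img (nat_lit 1) (nat_lit 3) (BT.img (nat_lit 1) (nat_lit 0) (BT.img (nat_lit 1) (nat_lit 0) (BT.fix (nat_lit 1) (BT.one (nat_lit 1) (nat_lit 0x106070709050b0811) (nat_lit 0x106070709050b0811) [nat_lit 4, nat_lit 1, nat_lit 2, nat_lit 3, nat_lit 7, nat_lit 0]))))) BT.nil)))) BT.nil))))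

theorem tb_c29_cnt : Cnt 14 (grp 14 EA) [g162] [g162] 0 0 0 0 22 :=
  BT.sound tb_c29_cnt_P Known.nil (t := tb_c29_cnt_t) (d := 0) (by decide +kernel)

theorem tb_c29_ge : 22 ≤ Nat.card (grp 14 tb_c29_K) :=
  Ch.le_card_grp (k := 4) (L := (lab 14 4)) hn tb_c29_K_ok (c := (Ch.cons (nat_lit 0) [nat_lit 1] (Ch.cons (nat_lit 13) [nat_lit 3] Ch.nil))) (by decide +kernel)

theorem tb_c29_eq : (grp 14 EA) ⊓ Subgroup.centralizer {Net.toPerm 14 g162} = grp 14 tb_c29_K :=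
  cent_eq tb_c29_sym tb_c29_cnt tb_c29_ge

theorem tb_c29_card : Nat.card ↥((grp 14 EA) ⊓ Subgroup.centralizer {Net.toPerm 14 g162}) = 22 :=
  card_cent tb_c29_sym tb_c29_cnt tb_c29_ge

theorem tb_c29_ord : orderOf (Net.toPerm 14 g162) = 22 :=
  orderOf_net hn hk g162_ok (by decide) (ps := [2, 11]) (by set_option linter.unusedSimpArgs false in simp [Nat.primeFactorsList_ofNat]) (by decide +kernel)

noncomputable def tb_xs : List Net := [Net.nil, n_e, n_m, n_em, n_t, n_et, g84, g101, g105, g108, g112, g116, g120, g123, g127, g131, g134, g137, g139, g141, g143, g145, g147, g149, g152, g154, g156, g158, g160, g162]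

noncomputable def tb_cs : List ℕ := [190080, 190080, 480, 480, 384, 384, 108, 72, 64, 64, 64, 64, 20, 108, 72, 24, 24, 12, 12, 16, 16, 16, 16, 20, 20, 20, 22, 22, 22, 22]

noncomputable def tb_os : List ℕ := [1, 2, 2, 2, 2, 2, 3, 3, 4, 4, 4, 4, 5, 6, 6, 6, 6, 6, 6, 8, 8, 8, 8, 10, 10, 10, 11, 11, 22, 22]

theorem tb_reps : Reps 14 (grp 14 EA) tb_xs tb_cs tb_os :=
  (Reps.cons rfl (one_mem _) (card_cent_nil ao_card) orderOf_one (Reps.cons n_e_ok tb_c1_mem tb_c1_card tb_c1_ord (Reps.cons n_m_ok tb_c2_mem tb_c2_card tb_c2_ord (Reps.cons n_em_ok tb_c3_mem tb_c3_card tb_c3_ord (Reps.cons n_t_ok tb_c4_mem tb_c4_card tb_c4_ord (Reps.cons n_et_ok tb_c5_mem tb_c5_card tb_c5_ord (Reps.cons g84_ok tb_c6_mem tb_c6_card tb_c6_ord (Reps.cons g101_ok tb_c7_mem tb_c7_card tb_c7_ord (Reps.cons g105_ok tb_c8_mem tb_c8_card tb_c8_ord (Reps.cons g108_ok tb_c9_mem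 tb_c9_card tb_c9_ord (Reps.cons g112_ok tb_c10_mem tb_c10_card tb_c10_ord (Reps.cons g116_ok tb_c11_mem tb_c11_card tb_c11_ord (Reps.cons g120_ok tb_c12_mem tb_c12_card tb_c12_ord (Reps.cons g123_ok tb_c13_mem tb_c13_card tb_c13_ord (Reps.cons g127_ok tb_c14_mem tb_c14_card tb_c14_ord (Reps.cons g131_ok tb_c15_mem tb_c15_card tb_c15_ord (Reps.cons g134_ok tb_c16_mem tb_c16_card tb_c16_ord (Reps.cons g137_ok tb_c17_mem tb_c17_card tb_c17_ord (Reps.cons g139_ok tb_c18_mem tb_c18_card tb_c18_ord (Reps.cons g141_ok tb_c19_mem tb_c19_card tb_c19_ord (Reps.cons g143_ok tb_c20_mem tb_c20_card tb_c20_ord (Reps.cons g145_ok tb_c21_mem tb_c21_card tb_c21_ord (Reps.cons g147_ok tb_c22_mem tb_c22_card tb_c22_ord (Reps.cons g149_ok tb_c23_mem tb_c23_card tb_c23_ord (Reps.cons g152_ok tb_c24_mem tb_c24_card tb_c24_ord (Reps.cons g154_ok tb_c25_mem tb_c25_card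 tb_c25_ord (Reps.cons g156_ok tb_c26_mem tb_c26_card tb_c26_ord (Reps.cons g158_ok tb_c27_mem tb_c27_card tb_c27_ord (Reps.cons g160_ok tb_c28_mem tb_c28_card tb_c28_ord (Reps.cons g162_ok tb_c29_mem tb_c29_card tb_c29_ord Reps.nil))))))))))))))))))))))))))))))

noncomputable def tb_nc27_26_cnt_L : List ℕ := [0, 1, TA_s0_O, 0, 0, 5, 12, TA_s11_O, 0, 0]

theorem tb_nc27_26_cnt_P : Prob 14 4 (grp 14 EA) tb_nc27_26_cnt_EG [g158] [g156] tb_c26_K tb_nc27_26_cnt_L 0 0 :=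
  Sym.prob hn hk tb_c26_sym tb_nc27_26_cnt_EG_ok (grp_cons_le g92_TA (grp_cons_le g93_TA (grp_cons_le n_e_TA (grp_cons_le g91_TA (grp_cons_le g90_TA (grp_cons_le g89_TA (grp_cons_le n_m_TA (grp_cons_le n_s1_TA (grp_cons_le n_s2_TA (grp_cons_le n_s3_TA (grp_cons_le n_s4_TA (grp_cons_le n_a_TA (grp_cons_le g7_TA (grp_cons_le g3_TA (grp_cons_le g4_TA (grp_cons_le g14_TA (grp_cons_le g10_TA (grp_cons_le g11_TA (grp_cons_le g21_TA (grp_cons_le g17_TA (grp_cons_le g18_TA (grp_cons_le g28_TA (grp_cons_le g24_TA (grp_cons_le g25_TA (grp_cons_le g35_TA (grp_cons_le g36_TA (grp_cons_le g31_TA (grp_cons_le g32_TA (grp_nil_le _))))))))))))))))))))))))))))) (Frames.cons TA_s0_F (Frames.cons TA_s11_F Frames.nil)) (okE_cons.2 ⟨g158_ok, okE_nil _⟩) _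

noncomputable def tb_nc27_26_cnt_t : BT := (BT.fix (nat_lit 1) (BT.dif (nat_lit 3) (nat_lit 0) (BT.br (nat_lit 0) (nat_lit 0) [nat_lit 1] (BT.dead (nat_lit 0) (BT.img (nat_lit 1) (nat_lit 0) (BT.img (nat_lit 1) (nat_lit 0) (BT.img (nat_lit 1) (nat_lit 0) (BT.frm (nat_lit 0) (nat_lit 0) (nat_lit 0) [] (BT.pln (nat_lit 0) (nat_lit 0) (BT.dif (nat_lit 7) (nat_lit 0) (BT.frm (nat_lit 1) (nat_lit 0x408090b0811) (nat_lit 0x4080109040b0811) [nat_lit 3, nat_lit 4, nat_lit 5, nat_lit 6, nat_lit 0] (BT.pln (nat_lit 0) (nat_lit 5) (BT.img (nat_lit 1) (nat_lit 5) (BT.img (nat_lit 1) (nat_lit 0) (BT.img (nat_lit 1) (nat_lit 0) (BT.and (nat_lit 3) (nat_lit 0) (BT.cnt (nat_lit 0)))))))))))))) BT.nil))))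

theorem tb_nc27_26_cnt : Cnt 14 (grp 14 EA) [g158] [g156] 0 0 0 0 0 :=
  BT.sound tb_nc27_26_cnt_P Known.nil (t := tb_nc27_26_cnt_t) (d := 0) (by decide +kernel)

theorem tb_nc27_26 : ¬ CjIn (grp 14 EA) (Net.toPerm 14 g158) (Net.toPerm 14 g156) :=
  not_cjIn tb_nc27_26_cnt

noncomputable def tb_nc29_28_cnt_L : List ℕ := [5, 12, TA_s11_O, 0, 0]

theorem tb_nc29_28_cnt_P : Prob 14 4 (grp 14 EA) tb_nc29_28_cnt_EG [g162] [g160] tb_c28_K tb_nc29_28_cnt_L 0 0 :=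
  Sym.prob hn hk tb_c28_sym tb_nc29_28_cnt_EG_ok (grp_cons_le g92_TA (grp_cons_le g93_TA (grp_cons_le n_e_TA (grp_cons_le g91_TA (grp_cons_le g90_TA (grp_cons_le g89_TA (grp_cons_le n_m_TA (grp_cons_le n_s1_TA (grp_cons_le n_s2_TA (grp_cons_le n_s3_TA (grp_cons_le n_s4_TA (grp_cons_le n_a_TA (grp_cons_le g7_TA (grp_cons_le g3_TA (grp_cons_le g4_TA (grp_cons_le g14_TA (grp_cons_le g10_TA (grp_cons_le g11_TA (grp_cons_le g21_TA (grp_cons_le g17_TA (grp_cons_le g18_TA (grp_cons_le g28_TA (grp_cons_le g24_TA (grp_cons_le g25_TA (grp_cons_le g35_TA (grp_cons_le g36_TA (grp_cons_le g31_TA (grp_cons_le g32_TA (grp_nil_le _))))))))))))))))))))))))))))) (Frames.cons TA_s11_F Frames.nil) (okE_cons.2 ⟨g162_ok, okE_nil _⟩) _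

noncomputable def tb_nc29_28_cnt_t : BT := (BT.fix (nat_lit 257) (BT.dif (nat_lit 3) (nat_lit 0) (BT.br (nat_lit 0) (nat_lit 0) [nat_lit 1] (BT.dead (nat_lit 0) (BT.img (nat_lit 1) (nat_lit 0) (BT.img (nat_lit 1) (nat_lit 0) (BT.img (nat_lit 1) (nat_lit 0) (BT.fix (nat_lit 1) (BT.frm (nat_lit 0) (nat_lit 0x4070709030b0811) (nat_lit 0x4070b0811) [nat_lit 1, nat_lit 2, nat_lit 3, nat_lit 4, nat_lit 0] (BT.pln (nat_lit 0) (nat_lit 5) (BT.img (nat_lit 1) (nat_lit 3) (BT.img (nat_lit 1) (nat_lit 0) (BT.img (nat_lit 1) (nat_lit 0) (BT.and (nat_lit 3) (nat_lit 0) (BT.cnt (nat_lit 0)))))))))))) BT.nil))))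

theorem tb_nc29_28_cnt : Cnt 14 (grp 14 EA) [g162] [g160] 0 0 0 0 0 :=
  BT.sound tb_nc29_28_cnt_P Known.nil (t := tb_nc29_28_cnt_t) (d := 0) (by decide +kernel)

theorem tb_nc29_28 : ¬ CjIn (grp 14 EA) (Net.toPerm 14 g162) (Net.toPerm 14 g160) :=
  not_cjIn tb_nc29_28_cnt

theorem tb_exc : Exc 14 (grp 14 EA) tb_xs [29028, 27026] :=
  (Exc.cons 29 28 (by decide) tb_nc29_28 (Exc.cons 27 26 (by decide) tb_nc27_26 Exc.nil))

theorem tb : Table 14 (grp 14 EA) tb_xs tb_cs tb_os :=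
  Reps.table (D := 6) hn hk tb_reps tb_exc ao_card (by decide +kernel)

theorem tK_le_EB : grp 14 tb_c4_K ≤ grp 14 EB :=
  grp_le_of_memB hn hk EB_ok tb_c4_K_ok (ws := [nat_lit 0x106030603, nat_lit 0x5040505, nat_lit 0x30504050306, nat_lit 263427]) (by decide +kernel)

theorem mK_le_EK : grp 14 tb_c2_K ≤ grp 14 EK :=
  grp_le_of_memB hn hk EK_ok tb_c2_K_ok (ws := [nat_lit 329991, nat_lit 0x307090b09, nat_lit 0xb090705, nat_lit 0x1050907]) (by decide +kernel)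

theorem le165 : grp 14 V164 ≤ grp 14 ES :=
  grp_le_of_memB hn hk ES_ok V164_ok (ws := [nat_lit 1]) (by decide +kernel)

theorem le170 : grp 14 V169 ≤ grp 14 ES :=
  grp_le_of_memB hn hk ES_ok V169_ok (ws := [nat_lit 0xa030309030e0c0808, nat_lit 0xb10070c0c1001040110, nat_lit 0xf030804020d080c06040902]) (by decide +kernel)

theorem le173 : grp 14 V172 ≤ grp 14 V169 :=
  grp_le_of_memB hn hk V169_ok V172_ok (ws := [nat_lit 2]) (by decide +kernel)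

theorem le177 : grp 14 V176 ≤ grp 14 V169 :=
  grp_le_of_memB hn hk V169_ok V176_ok (ws := [nat_lit 0x5020602050501040602, nat_lit 0x20306060602, nat_lit 0x5040202020402]) (by decide +kernel)

theorem le179 : grp 14 V178 ≤ grp 14 V176 :=
  grp_le_of_memB hn hk V176_ok V178_ok (ws := [nat_lit 1]) (by decide +kernel)

theorem le182 : grp 14 V181 ≤ grp 14 V176 :=
  grp_le_of_memB hn hk V176_ok V181_ok (ws := [nat_lit 0x205030302060203, nat_lit 0x50101030203020202]) (by decide +kernel)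

theorem le185 : grp 14 V184 ≤ grp 14 V181 :=
  grp_le_of_memB hn hk V181_ok V184_ok (ws := [nat_lit 4, nat_lit 1]) (by decide +kernel)

theorem so_card4 : Nat.card (grp 14 so_E4) = 1 :=
  card_grp_nil 14

theorem so_leO4 : grp 14 so_E4 ≤ grp 14 ES :=
  grp_nil_le _

theorem so_3_fix : grp 14 so_E4 ≤ MulAction.stabilizer (Equiv.Perm (Fin 14)) (⟨0, by decide⟩ : Fin 14) :=
  grp_le_stab so_E4_ok (by decide : 0 < 14) (by decide +kernel)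

noncomputable def so_3_ts : List ℕ := [nat_lit 0, nat_lit 1, nat_lit 2, nat_lit 3, nat_lit 4, nat_lit 257, nat_lit 259, nat_lit 260]

noncomputable def so_3_ds : List ℕ := [nat_lit 0, nat_lit 1, nat_lit 2, nat_lit 10, nat_lit 11, nat_lit 3, nat_lit 4, nat_lit 8]

theorem so_3_dist : Dist 14 so_E4 so_G3 (⟨0, by decide⟩ : Fin 14) so_3_ts so_3_ds :=
  dist_of_distB (k := 3) hn so_E4_ok so_G3_ok (by decide : 0 < 14) (by decide +kernel)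

noncomputable def so_3_sl0 : SL := (SL.cons (nat_lit 1) (nat_lit 1) Ch.nil [] (SL.cons (nat_lit 2) (nat_lit 2) Ch.nil [] (SL.cons (nat_lit 3) (nat_lit 10) Ch.nil [] (SL.cons (nat_lit 4) (nat_lit 11) Ch.nil [] (SL.cons (nat_lit 257) (nat_lit 3) Ch.nil [] (SL.cons (nat_lit 259) (nat_lit 4) Ch.nil [] (SL.cons (nat_lit 260) (nat_lit 8) Ch.nil [] SL.nil)))))))

theorem so_3_sc0 : SCs 14 so_E4 so_G3 (⟨0, by decide⟩ : Fin 14) (SL.words so_3_sl0) :=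
  scs_of_ok hn (det_lab hk ⊤) so_E4_ok so_G3_ok le_top le_top (by decide : 0 < 14) so_3_fix so_card4.le (by decide +kernel)

noncomputable def so_3_l : List ℕ := (appL (SL.words so_3_sl0) [])

theorem so_3_scs : SCs 14 so_E4 so_G3 (⟨0, by decide⟩ : Fin 14) so_3_l :=
  (SCs.append so_3_sc0 SCs.nil)

noncomputable def so_3_rl0_0 : RL := (RL.cons (nat_lit 0) (nat_lit 0) (nat_lit 0) (nat_lit 0) (nat_lit 2) (nat_lit 0) (RL.cons (nat_lit 1) (nat_lit 1) (nat_lit 0) (nat_lit 0) (nat_lit 0) (nat_lit 0) (RL.cons (nat_lit 2) (nat_lit 2) (nat_lit 0) (nat_lit 0) (nat_lit 5) (nat_lit 0) (RL.cons (nat_lit 3) (nat_lit 10) (nat_lit 0) (nat_lit 0) (nat_lit 6) (nat_lit 0) (RL.cons (nat_lit 4) (nat_lit 11) (nat_lit 0) (nat_lit 0) (nat_lit 7) (nat_lit 0) (RL.cons (nat_lit 5) (nat_lit 3) (nat_lit 0) (nat_lit 0) (nat_lit 1) (nat_lit 0) (RL.cons (nat_lit 6) (nat_lit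 4) (nat_lit 0) (nat_lit 0) (nat_lit 4) (nat_lit 0) (RL.cons (nat_lit 7) (nat_lit 8) (nat_lit 0) (nat_lit 0) (nat_lit 3) (nat_lit 0) RL.nil))))))))

theorem so_3_good0_0 : GoodSet 14 so_E4 so_G3 (⟨0, by decide⟩ : Fin 14) so_3_ts (nat_lit 1) (RL.pts so_3_rl0_0) :=
  goodSet_of_ok hn (det_lab hk ⊤) so_E4_ok so_G3_ok le_top le_top (by decide : 0 < 14) (sepAt_lab hk _) (by decide +kernel)

theorem so_3_step0 : Step 14 so_E4 so_G3 so_3_ts (2 * 0 + 1) :=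
  step_of_cover so_E4_ok so_3_dist (by decide +kernel) so_3_scs (by decide +kernel) so_3_good0_0 (kw := [])
    (conj_mem_of_scs so_E4_ok so_G3_ok (by decide : 0 < 14) so_3_scs (c := 0) (d := 1) (by decide +kernel)) (by decide +kernel)

noncomputable def so_3_rl1_0 : RL := (RL.cons (nat_lit 0) (nat_lit 0) (nat_lit 0) (nat_lit 0) (nat_lit 4) (nat_lit 0) (RL.cons (nat_lit 1) (nat_lit 1) (nat_lit 0) (nat_lit 0) (nat_lit 7) (nat_lit 0) (RL.cons (nat_lit 2) (nat_lit 2) (nat_lit 0) (nat_lit 0) (nat_lit 6) (nat_lit 0) (RL.cons (nat_lit 3) (nat_lit 10) (nat_lit 0) (nat_lit 0) (nat_lit 0) (nat_lit 0) (RL.cons (nat_lit 4) (nat_lit 11) (nat_lit 0) (nat_lit 0) (nat_lit 5) (nat_lit 0) (RL.cons (nat_lit 5) (nat_lit 3) (nat_lit 0) (nat_lit 0) (nat_lit 3) (nat_lit 0) (RL.cons (nat_lit 6) (nat_lit 4) (nat_lit 0) (nat_lit 0) (nat_lit 1) (nat_lit 0) (RL.cons (nat_lit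 7) (nat_lit 8) (nat_lit 0) (nat_lit 0) (nat_lit 2) (nat_lit 0) RL.nil))))))))

theorem so_3_good1_0 : GoodSet 14 so_E4 so_G3 (⟨0, by decide⟩ : Fin 14) so_3_ts (nat_lit 3) (RL.pts so_3_rl1_0) :=
  goodSet_of_ok hn (det_lab hk ⊤) so_E4_ok so_G3_ok le_top le_top (by decide : 0 < 14) (sepAt_lab hk _) (by decide +kernel)

theorem so_3_step1 : Step 14 so_E4 so_G3 so_3_ts (2 * 1 + 1) :=
  step_of_cover so_E4_ok so_3_dist (by decide +kernel) so_3_scs (by decide +kernel) so_3_good1_0 (kw := [])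
    (conj_mem_of_scs so_E4_ok so_G3_ok (by decide : 0 < 14) so_3_scs (c := 2) (d := 10) (by decide +kernel)) (by decide +kernel)

theorem so_3_lev : grp 14 so_G3 ⊓ MulAction.stabilizer (Equiv.Perm (Fin 14)) (⟨0, by decide⟩ : Fin 14) = grp 14 so_E4 :=
  sims_level (gs := V184) rfl (by decide) so_3_fix so_3_dist (forall_lt_succ' (forall_lt_one so_3_step0) so_3_step1)

theorem so_3_cardG : Nat.card (grp 14 so_G3) = 8 :=
  card_of_level hn so_G3_ok (by decide : 0 < 14) so_3_lev so_card4 (m := 8) (by decide +kernel)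

theorem le186 : grp 14 so_E3 ≤ grp 14 so_G3 :=
  grp_le_of_memB hn hk so_G3_ok so_E3_ok (ws := [nat_lit 1, nat_lit 3, nat_lit 2]) (by decide +kernel)

theorem le187 : grp 14 so_G3 ≤ grp 14 so_E3 :=
  grp_le_of_memB hn hk so_E3_ok so_G3_ok (ws := [nat_lit 1, nat_lit 3]) (by decide +kernel)

theorem so_3_eq : grp 14 so_E3 = grp 14 so_G3 :=
  le_antisymm le186 le187

theorem so_card3 : Nat.card (grp 14 so_E3) = 8 :=
  by rw [so_3_eq]; exact so_3_cardG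

theorem so_stab3 : grp 14 so_E3 ⊓ MulAction.stabilizer (Equiv.Perm (Fin 14)) (⟨0, by decide⟩ : Fin 14) = grp 14 so_E4 :=
  by rw [so_3_eq]; exact so_3_lev

theorem so_leO3 : grp 14 so_E3 ≤ grp 14 ES :=
  so_3_eq.le.trans (grp_cons_le ((le182.trans (le177.trans (le170.trans (le_refl (grp 14 ES))))) (le185 (toPerm_mem_grp (E := V184) (by simp [V184])))) (grp_cons_le ((le182.trans (le177.trans (le170.trans (le_refl (grp 14 ES))))) (le185 (toPerm_mem_grp (E := V184) (by simp [V184])))) so_leO4))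

theorem so_2_fix : grp 14 so_E3 ≤ MulAction.stabilizer (Equiv.Perm (Fin 14)) (⟨7, by decide⟩ : Fin 14) :=
  grp_le_stab so_E3_ok (by decide : 7 < 14) (by decide +kernel)

noncomputable def so_2_ts : List ℕ := [nat_lit 0, nat_lit 1]

noncomputable def so_2_ds : List ℕ := [nat_lit 7, nat_lit 9]

theorem so_2_dist : Dist 14 so_E3 so_G2 (⟨7, by decide⟩ : Fin 14) so_2_ts so_2_ds :=
  dist_of_distB (k := 1) hn so_E3_ok so_G2_ok (by decide : 7 < 14) (by decide +kernel)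

noncomputable def so_2_sl0 : SL := (SL.cons (nat_lit 1) (nat_lit 9) (Ch.cons (nat_lit 0) [nat_lit 1, nat_lit 4] Ch.nil) [nat_lit 260, nat_lit 3] SL.nil)

theorem so_2_sc0 : SCs 14 so_E3 so_G2 (⟨7, by decide⟩ : Fin 14) (SL.words so_2_sl0) :=
  scs_of_ok hn (det_lab hk ⊤) so_E3_ok so_G2_ok le_top le_top (by decide : 7 < 14) so_2_fix so_card3.le (by decide +kernel)

noncomputable def so_2_l : List ℕ := (appL (SL.words so_2_sl0) [])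

theorem so_2_scs : SCs 14 so_E3 so_G2 (⟨7, by decide⟩ : Fin 14) so_2_l :=
  (SCs.append so_2_sc0 SCs.nil)

noncomputable def so_2_rl0_0 : RL := (RL.cons (nat_lit 0) (nat_lit 7) (nat_lit 0) (nat_lit 0) (nat_lit 1) (nat_lit 0) (RL.cons (nat_lit 1) (nat_lit 9) (nat_lit 0) (nat_lit 0) (nat_lit 0) (nat_lit 0) RL.nil))

theorem so_2_good0_0 : GoodSet 14 so_E3 so_G2 (⟨7, by decide⟩ : Fin 14) so_2_ts (nat_lit 1) (RL.pts so_2_rl0_0) :=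
  goodSet_of_ok hn (det_lab hk ⊤) so_E3_ok so_G2_ok le_top le_top (by decide : 7 < 14) (sepAt_lab hk _) (by decide +kernel)

theorem so_2_step0 : Step 14 so_E3 so_G2 so_2_ts (2 * 0 + 1) :=
  step_of_cover so_E3_ok so_2_dist (by decide +kernel) so_2_scs (by decide +kernel) so_2_good0_0 (kw := [nat_lit 1, nat_lit 4])
    (conj_mem_of_scs so_E3_ok so_G2_ok (by decide : 7 < 14) so_2_scs (c := 0) (d := 9) (by decide +kernel)) (by decide +kernel)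

theorem so_2_lev : grp 14 so_G2 ⊓ MulAction.stabilizer (Equiv.Perm (Fin 14)) (⟨7, by decide⟩ : Fin 14) = grp 14 so_E3 :=
  sims_level (gs := V178) rfl (by decide) so_2_fix so_2_dist (forall_lt_one so_2_step0)

theorem so_2_cardG : Nat.card (grp 14 so_G2) = 16 :=
  card_of_level hn so_G2_ok (by decide : 7 < 14) so_2_lev so_card3 (m := 2) (by decide +kernel)

theorem le188 : grp 14 so_E2 ≤ grp 14 so_G2 :=
  grp_le_of_memB hn hk so_G2_ok so_E2_ok (ws := [nat_lit 1, nat_lit 3, nat_lit 5, nat_lit 7]) (by decide +kernel)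

theorem le189 : grp 14 so_G2 ≤ grp 14 so_E2 :=
  grp_le_of_memB hn hk so_E2_ok so_G2_ok (ws := [nat_lit 1, nat_lit 3, nat_lit 5, nat_lit 7]) (by decide +kernel)

theorem so_2_eq : grp 14 so_E2 = grp 14 so_G2 :=
  le_antisymm le188 le189

theorem so_card2 : Nat.card (grp 14 so_E2) = 16 :=
  by rw [so_2_eq]; exact so_2_cardG

theorem so_stab2 : grp 14 so_E2 ⊓ MulAction.stabilizer (Equiv.Perm (Fin 14)) (⟨7, by decide⟩ : Fin 14) = grp 14 so_E3 :=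
  by rw [so_2_eq]; exact so_2_lev

theorem so_leO2 : grp 14 so_E2 ≤ grp 14 ES :=
  so_2_eq.le.trans (grp_cons_le ((le177.trans (le170.trans (le_refl (grp 14 ES)))) (le179 (toPerm_mem_grp (E := V178) (by simp [V178])))) so_leO3)

theorem so_1_fix : grp 14 so_E2 ≤ MulAction.stabilizer (Equiv.Perm (Fin 14)) (⟨5, by decide⟩ : Fin 14) :=
  grp_le_stab so_E2_ok (by decide : 5 < 14) (by decide +kernel)

noncomputable def so_1_ts : List ℕ := [nat_lit 0, nat_lit 1, nat_lit 257]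

noncomputable def so_1_ds : List ℕ := [nat_lit 5, nat_lit 7, nat_lit 6]

theorem so_1_dist : Dist 14 so_E2 so_G1 (⟨5, by decide⟩ : Fin 14) so_1_ts so_1_ds :=
  dist_of_distB (k := 2) hn so_E2_ok so_G1_ok (by decide : 5 < 14) (by decide +kernel)

noncomputable def so_1_sl0 : SL := (SL.cons (nat_lit 1) (nat_lit 7) (Ch.cons (nat_lit 0) [nat_lit 3, nat_lit 5, nat_lit 7] Ch.nil) [nat_lit 773, nat_lit 5, nat_lit 774] (SL.cons (nat_lit 257) (nat_lit 6) (Ch.cons (nat_lit 0) [nat_lit 4] (Ch.cons (nat_lit 1) [nat_lit 1281] Ch.nil)) [nat_lit 3, nat_lit 1281] SL.nil))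

theorem so_1_sc0 : SCs 14 so_E2 so_G1 (⟨5, by decide⟩ : Fin 14) (SL.words so_1_sl0) :=
  scs_of_ok hn (det_lab hk ⊤) so_E2_ok so_G1_ok le_top le_top (by decide : 5 < 14) so_1_fix so_card2.le (by decide +kernel)

noncomputable def so_1_l : List ℕ := (appL (SL.words so_1_sl0) [])

theorem so_1_scs : SCs 14 so_E2 so_G1 (⟨5, by decide⟩ : Fin 14) so_1_l :=
  (SCs.append so_1_sc0 SCs.nil)

noncomputable def so_1_rl0_0 : RL := (RL.cons (nat_lit 0) (nat_lit 5) (nat_lit 0) (nat_lit 1) (nat_lit 1) (nat_lit 1) (RL.cons (nat_lit 1) (nat_lit 7) (nat_lit 0) (nat_lit 0) (nat_lit 0) (nat_lit 0) (RL.cons (nat_lit 1) (nat_lit 9) (nat_lit 1) (nat_lit 0) (nat_lit 2) (nat_lit 1) (RL.cons (nat_lit 2) (nat_lit 6) (nat_lit 0) (nat_lit 0) (nat_lit 1) (nat_lit 0) RL.nil))))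

theorem so_1_good0_0 : GoodSet 14 so_E2 so_G1 (⟨5, by decide⟩ : Fin 14) so_1_ts (nat_lit 1) (RL.pts so_1_rl0_0) :=
  goodSet_of_ok hn (det_lab hk ⊤) so_E2_ok so_G1_ok le_top le_top (by decide : 5 < 14) (sepAt_lab hk _) (by decide +kernel)

theorem so_1_step0 : Step 14 so_E2 so_G1 so_1_ts (2 * 0 + 1) :=
  step_of_cover so_E2_ok so_1_dist (by decide +kernel) so_1_scs (by decide +kernel) so_1_good0_0 (kw := [nat_lit 3, nat_lit 5, nat_lit 7])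
    (conj_mem_of_scs so_E2_ok so_G1_ok (by decide : 5 < 14) so_1_scs (c := 0) (d := 7) (by decide +kernel)) (by decide +kernel)

theorem so_1_lev : grp 14 so_G1 ⊓ MulAction.stabilizer (Equiv.Perm (Fin 14)) (⟨5, by decide⟩ : Fin 14) = grp 14 so_E2 :=
  sims_level (gs := V172) rfl (by decide) so_1_fix so_1_dist (forall_lt_one so_1_step0)

theorem so_1_cardG : Nat.card (grp 14 so_G1) = 64 :=
  card_of_level hn so_G1_ok (by decide : 5 < 14) so_1_lev so_card2 (m := 4) (by decide +kernel)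

theorem le190 : grp 14 so_E1 ≤ grp 14 so_G1 :=
  grp_le_of_memB hn hk so_G1_ok so_E1_ok (ws := [nat_lit 1, nat_lit 2, nat_lit 0x507030101, nat_lit 393473, nat_lit 3, nat_lit 5, nat_lit 7, nat_lit 9]) (by decide +kernel)

theorem le191 : grp 14 so_G1 ≤ grp 14 so_E1 :=
  grp_le_of_memB hn hk so_E1_ok so_G1_ok (ws := [nat_lit 1, nat_lit 9, nat_lit 11, nat_lit 13, nat_lit 15]) (by decide +kernel)

theorem so_1_eq : grp 14 so_E1 = grp 14 so_G1 :=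
  le_antisymm le190 le191

theorem so_card1 : Nat.card (grp 14 so_E1) = 64 :=
  by rw [so_1_eq]; exact so_1_cardG

theorem so_stab1 : grp 14 so_E1 ⊓ MulAction.stabilizer (Equiv.Perm (Fin 14)) (⟨5, by decide⟩ : Fin 14) = grp 14 so_E2 :=
  by rw [so_1_eq]; exact so_1_lev

theorem so_leO1 : grp 14 so_E1 ≤ grp 14 ES :=
  so_1_eq.le.trans (grp_cons_le ((le170.trans (le_refl (grp 14 ES))) (le173 (toPerm_mem_grp (E := V172) (by simp [V172])))) so_leO2)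

theorem so_0_fix : grp 14 so_E1 ≤ MulAction.stabilizer (Equiv.Perm (Fin 14)) (⟨12, by decide⟩ : Fin 14) :=
  grp_le_stab so_E1_ok (by decide : 12 < 14) (by decide +kernel)

noncomputable def so_0_ts : List ℕ := [nat_lit 0, nat_lit 1]

noncomputable def so_0_ds : List ℕ := [nat_lit 12, nat_lit 13]

theorem so_0_dist : Dist 14 so_E1 so_G0 (⟨12, by decide⟩ : Fin 14) so_0_ts so_0_ds :=
  dist_of_distB (k := 1) hn so_E1_ok so_G0_ok (by decide : 12 < 14) (by decide +kernel)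

noncomputable def so_0_sl0 : SL := (SL.cons (nat_lit 1) (nat_lit 13) (Ch.cons (nat_lit 0) [nat_lit 2829] (Ch.cons (nat_lit 1) [nat_lit 3337] (Ch.cons (nat_lit 4) [nat_lit 919809] Ch.nil))) [nat_lit 2829, nat_lit 3337, nat_lit 919809] SL.nil)

theorem so_0_sc0 : SCs 14 so_E1 so_G0 (⟨12, by decide⟩ : Fin 14) (SL.words so_0_sl0) :=
  scs_of_ok hn (det_lab hk ⊤) so_E1_ok so_G0_ok le_top le_top (by decide : 12 < 14) so_0_fix so_card1.le (by decide +kernel)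

noncomputable def so_0_l : List ℕ := (appL (SL.words so_0_sl0) [])

theorem so_0_scs : SCs 14 so_E1 so_G0 (⟨12, by decide⟩ : Fin 14) so_0_l :=
  (SCs.append so_0_sc0 SCs.nil)

noncomputable def so_0_rl0_0 : RL := (RL.cons (nat_lit 0) (nat_lit 12) (nat_lit 0) (nat_lit 0) (nat_lit 1) (nat_lit 0) (RL.cons (nat_lit 1) (nat_lit 13) (nat_lit 0) (nat_lit 0) (nat_lit 0) (nat_lit 0) RL.nil))

theorem so_0_good0_0 : GoodSet 14 so_E1 so_G0 (⟨12, by decide⟩ : Fin 14) so_0_ts (nat_lit 1) (RL.pts so_0_rl0_0) :=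
  goodSet_of_ok hn (det_lab hk ⊤) so_E1_ok so_G0_ok le_top le_top (by decide : 12 < 14) (sepAt_lab hk _) (by decide +kernel)

theorem so_0_step0 : Step 14 so_E1 so_G0 so_0_ts (2 * 0 + 1) :=
  step_of_cover so_E1_ok so_0_dist (by decide +kernel) so_0_scs (by decide +kernel) so_0_good0_0 (kw := [nat_lit 2829, nat_lit 3337, nat_lit 919809])
    (conj_mem_of_scs so_E1_ok so_G0_ok (by decide : 12 < 14) so_0_scs (c := 0) (d := 13) (by decide +kernel)) (by decide +kernel)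

theorem so_0_lev : grp 14 so_G0 ⊓ MulAction.stabilizer (Equiv.Perm (Fin 14)) (⟨12, by decide⟩ : Fin 14) = grp 14 so_E1 :=
  sims_level (gs := V164) rfl (by decide) so_0_fix so_0_dist (forall_lt_one so_0_step0)

theorem so_0_cardG : Nat.card (grp 14 so_G0) = 128 :=
  card_of_level hn so_G0_ok (by decide : 12 < 14) so_0_lev so_card1 (m := 2) (by decide +kernel)

theorem le192 : grp 14 so_E0 ≤ grp 14 so_G0 :=
  grp_le_of_memB hn hk so_G0_ok so_E0_ok (ws := [nat_lit 1, nat_lit 3341, nat_lit 920327, nat_lit 985859, nat_lit 3591, nat_lit 855307, nat_lit 2819, nat_lit 0xd100b04, nat_lit 3, nat_lit 5, nat_lit 7, nat_lit 9, nat_lit 11, nat_lit 13, nat_lit 15, nat_lit 17]) (by decide +kernel)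

theorem le193 : grp 14 so_G0 ≤ grp 14 so_E0 :=
  grp_le_of_memB hn hk so_E0_ok so_G0_ok (ws := [nat_lit 1, nat_lit 17, nat_lit 19, nat_lit 21, nat_lit 23, nat_lit 25, nat_lit 27, nat_lit 29, nat_lit 31]) (by decide +kernel)

theorem so_0_eq : grp 14 so_E0 = grp 14 so_G0 :=
  le_antisymm le192 le193

theorem so_card0 : Nat.card (grp 14 so_E0) = 128 :=
  by rw [so_0_eq]; exact so_0_cardG

theorem so_stab0 : grp 14 so_E0 ⊓ MulAction.stabilizer (Equiv.Perm (Fin 14)) (⟨12, by decide⟩ : Fin 14) = grp 14 so_E1 :=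
  by rw [so_0_eq]; exact so_0_lev

theorem so_leO0 : grp 14 so_E0 ≤ grp 14 ES :=
  so_0_eq.le.trans (grp_cons_le ((le_refl (grp 14 ES)) (le165 (toPerm_mem_grp (E := V164) (by simp [V164])))) so_leO1)

theorem le194 : grp 14 ES ≤ grp 14 so_E0 :=
  grp_le_of_memB hn hk so_E0_ok ES_ok (ws := [nat_lit 1, nat_lit 3, nat_lit 5, nat_lit 7, nat_lit 9, nat_lit 11, nat_lit 13, nat_lit 15]) (by decide +kernel)

theorem so_eq : grp 14 ES = grp 14 so_E0 :=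
  le_antisymm le194 so_leO0

theorem so_card : Nat.card (grp 14 ES) = 128 :=
  by rw [so_eq]; exact so_card0

noncomputable def so_ch : Ch := (Ch.cons (nat_lit 12) [nat_lit 1, nat_lit 3, nat_lit 5, nat_lit 7, nat_lit 9, nat_lit 11, nat_lit 13, nat_lit 15] (Ch.cons (nat_lit 5) [nat_lit 17, nat_lit 19, nat_lit 21, nat_lit 23] (Ch.cons (nat_lit 7) [nat_lit 25] (Ch.cons (nat_lit 0) [nat_lit 27, nat_lit 29, nat_lit 31] Ch.nil))))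

theorem so_exact : Ch.Exact 14 so_E0 so_ch (grp 14 so_E0) :=
  Ch.exact (k := 4) (L := (lab 14 4)) hn so_E0_ok (by decide +kernel) (wgrp_le_grp _ _ _) so_card0.le

theorem le196 : grp 14 V195 ≤ grp 14 EX :=
  grp_le_of_memB hn hk EX_ok V195_ok (ws := [nat_lit 1]) (by decide +kernel)

theorem le200 : grp 14 V199 ≤ grp 14 EX :=
  grp_le_of_memB hn hk EX_ok V199_ok (ws := [nat_lit 0x60308020204050a01, nat_lit 0x5030a070902080a05]) (by decide +kernel)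

theorem le202 : grp 14 V201 ≤ grp 14 V199 :=
  grp_le_of_memB hn hk V199_ok V201_ok (ws := [nat_lit 3]) (by decide +kernel)

theorem le207 : grp 14 V206 ≤ grp 14 V199 :=
  grp_le_of_memB hn hk V199_ok V206_ok (ws := [nat_lit 0x20402040104020204, nat_lit 0x2040401, nat_lit 0x30204020203010402]) (by decide +kernel)

theorem le210 : grp 14 V209 ≤ grp 14 V206 :=
  grp_le_of_memB hn hk V206_ok V209_ok (ws := [nat_lit 6]) (by decide +kernel)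

theorem le213 : grp 14 V212 ≤ grp 14 V206 :=
  grp_le_of_memB hn hk V206_ok V212_ok (ws := [nat_lit 0x306040103010602, nat_lit 0x2020601060604]) (by decide +kernel)

theorem le216 : grp 14 V215 ≤ grp 14 V212 :=
  grp_le_of_memB hn hk V212_ok V215_ok (ws := [nat_lit 257]) (by decide +kernel)

theorem le220 : grp 14 V219 ≤ grp 14 V212 :=
  grp_le_of_memB hn hk V212_ok V219_ok (ws := [nat_lit 0x2040202, nat_lit 0x402030101]) (by decide +kernel)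

theorem le222 : grp 14 V221 ≤ grp 14 V219 :=
  grp_le_of_memB hn hk V219_ok V221_ok (ws := [nat_lit 2]) (by decide +kernel)

theorem xo_card5 : Nat.card (grp 14 xo_E5) = 1 :=
  card_grp_nil 14

theorem xo_leO5 : grp 14 xo_E5 ≤ grp 14 EX :=
  grp_nil_le _

theorem xo_4_fix : grp 14 xo_E5 ≤ MulAction.stabilizer (Equiv.Perm (Fin 14)) (⟨5, by decide⟩ : Fin 14) :=
  grp_le_stab xo_E5_ok (by decide : 5 < 14) (by decide +kernel)

noncomputable def xo_4_ts : List ℕ := [nat_lit 0, nat_lit 1, nat_lit 2, nat_lit 257]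

noncomputable def xo_4_ds : List ℕ := [nat_lit 5, nat_lit 8, nat_lit 3, nat_lit 11]

theorem xo_4_dist : Dist 14 xo_E5 xo_G4 (⟨5, by decide⟩ : Fin 14) xo_4_ts xo_4_ds :=
  dist_of_distB (k := 2) hn xo_E5_ok xo_G4_ok (by decide : 5 < 14) (by decide +kernel)

noncomputable def xo_4_sl0 : SL := (SL.cons (nat_lit 1) (nat_lit 8) Ch.nil [] (SL.cons (nat_lit 2) (nat_lit 3) Ch.nil [] (SL.cons (nat_lit 257) (nat_lit 11) Ch.nil [] SL.nil)))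

theorem xo_4_sc0 : SCs 14 xo_E5 xo_G4 (⟨5, by decide⟩ : Fin 14) (SL.words xo_4_sl0) :=
  scs_of_ok hn (det_lab hk ⊤) xo_E5_ok xo_G4_ok le_top le_top (by decide : 5 < 14) xo_4_fix xo_card5.le (by decide +kernel)

noncomputable def xo_4_l : List ℕ := (appL (SL.words xo_4_sl0) [])

theorem xo_4_scs : SCs 14 xo_E5 xo_G4 (⟨5, by decide⟩ : Fin 14) xo_4_l :=
  (SCs.append xo_4_sc0 SCs.nil)

noncomputable def xo_4_rl0_0 : RL := (RL.cons (nat_lit 0) (nat_lit 5) (nat_lit 0) (nat_lit 0) (nat_lit 2) (nat_lit 0) (RL.cons (nat_lit 1) (nat_lit 8) (nat_lit 0) (nat_lit 0) (nat_lit 0) (nat_lit 0) (RL.cons (nat_lit 2) (nat_lit 3) (nat_lit 0) (nat_lit 0) (nat_lit 3) (nat_lit 0) (RL.cons (nat_lit 3) (nat_lit 11) (nat_lit 0) (nat_lit 0) (nat_lit 1) (nat_lit 0) RL.nil))))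

theorem xo_4_good0_0 : GoodSet 14 xo_E5 xo_G4 (⟨5, by decide⟩ : Fin 14) xo_4_ts (nat_lit 1) (RL.pts xo_4_rl0_0) :=
  goodSet_of_ok hn (det_lab hk ⊤) xo_E5_ok xo_G4_ok le_top le_top (by decide : 5 < 14) (sepAt_lab hk _) (by decide +kernel)

theorem xo_4_step0 : Step 14 xo_E5 xo_G4 xo_4_ts (2 * 0 + 1) :=
  step_of_cover xo_E5_ok xo_4_dist (by decide +kernel) xo_4_scs (by decide +kernel) xo_4_good0_0 (kw := [])
    (conj_mem_of_scs xo_E5_ok xo_G4_ok (by decide : 5 < 14) xo_4_scs (c := 0) (d := 8) (by decide +kernel)) (by decide +kernel)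

theorem xo_4_lev : grp 14 xo_G4 ⊓ MulAction.stabilizer (Equiv.Perm (Fin 14)) (⟨5, by decide⟩ : Fin 14) = grp 14 xo_E5 :=
  sims_level (gs := V221) rfl (by decide) xo_4_fix xo_4_dist (forall_lt_one xo_4_step0)

theorem xo_4_cardG : Nat.card (grp 14 xo_G4) = 4 :=
  card_of_level hn xo_G4_ok (by decide : 5 < 14) xo_4_lev xo_card5 (m := 4) (by decide +kernel)

theorem le223 : grp 14 xo_E4 ≤ grp 14 xo_G4 :=
  grp_le_of_memB hn hk xo_G4_ok xo_E4_ok (ws := [nat_lit 1, nat_lit 2]) (by decide +kernel)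

theorem le224 : grp 14 xo_G4 ≤ grp 14 xo_E4 :=
  grp_le_of_memB hn hk xo_E4_ok xo_G4_ok (ws := [nat_lit 1]) (by decide +kernel)

theorem xo_4_eq : grp 14 xo_E4 = grp 14 xo_G4 :=
  le_antisymm le223 le224

theorem xo_card4 : Nat.card (grp 14 xo_E4) = 4 :=
  by rw [xo_4_eq]; exact xo_4_cardG

theorem xo_stab4 : grp 14 xo_E4 ⊓ MulAction.stabilizer (Equiv.Perm (Fin 14)) (⟨5, by decide⟩ : Fin 14) = grp 14 xo_E5 :=
  by rw [xo_4_eq]; exact xo_4_lev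

theorem xo_leO4 : grp 14 xo_E4 ≤ grp 14 EX :=
  xo_4_eq.le.trans (grp_cons_le ((le220.trans (le213.trans (le207.trans (le200.trans (le_refl (grp 14 EX)))))) (le222 (toPerm_mem_grp (E := V221) (by simp [V221])))) xo_leO5)

theorem xo_3_fix : grp 14 xo_E4 ≤ MulAction.stabilizer (Equiv.Perm (Fin 14)) (⟨4, by decide⟩ : Fin 14) :=
  grp_le_stab xo_E4_ok (by decide : 4 < 14) (by decide +kernel)

noncomputable def xo_3_ts : List ℕ := [nat_lit 0, nat_lit 1]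

noncomputable def xo_3_ds : List ℕ := [nat_lit 4, nat_lit 5]

theorem xo_3_dist : Dist 14 xo_E4 xo_G3 (⟨4, by decide⟩ : Fin 14) xo_3_ts xo_3_ds :=
  dist_of_distB (k := 1) hn xo_E4_ok xo_G3_ok (by decide : 4 < 14) (by decide +kernel)

noncomputable def xo_3_sl0 : SL := (SL.cons (nat_lit 1) (nat_lit 5) Ch.nil [] SL.nil)

theorem xo_3_sc0 : SCs 14 xo_E4 xo_G3 (⟨4, by decide⟩ : Fin 14) (SL.words xo_3_sl0) :=
  scs_of_ok hn (det_lab hk ⊤) xo_E4_ok xo_G3_ok le_top le_top (by decide : 4 < 14) xo_3_fix xo_card4.le (by decide +kernel)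

noncomputable def xo_3_l : List ℕ := (appL (SL.words xo_3_sl0) [])

theorem xo_3_scs : SCs 14 xo_E4 xo_G3 (⟨4, by decide⟩ : Fin 14) xo_3_l :=
  (SCs.append xo_3_sc0 SCs.nil)

noncomputable def xo_3_rl0_0 : RL := (RL.cons (nat_lit 0) (nat_lit 4) (nat_lit 0) (nat_lit 0) (nat_lit 1) (nat_lit 0) (RL.cons (nat_lit 1) (nat_lit 5) (nat_lit 0) (nat_lit 0) (nat_lit 0) (nat_lit 0) (RL.cons (nat_lit 1) (nat_lit 8) (nat_lit 1) (nat_lit 257) (nat_lit 1) (nat_lit 1) (RL.cons (nat_lit 1) (nat_lit 3) (nat_lit 2) (nat_lit 2) (nat_lit 1) (nat_lit 257) (RL.cons (nat_lit 1) (nat_lit 11) (nat_lit 257) (nat_lit 1) (nat_lit 1) (nat_lit 2) RL.nil)))))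

theorem xo_3_good0_0 : GoodSet 14 xo_E4 xo_G3 (⟨4, by decide⟩ : Fin 14) xo_3_ts (nat_lit 1) (RL.pts xo_3_rl0_0) :=
  goodSet_of_ok hn (det_lab hk ⊤) xo_E4_ok xo_G3_ok le_top le_top (by decide : 4 < 14) (sepAt_lab hk _) (by decide +kernel)

theorem xo_3_step0 : Step 14 xo_E4 xo_G3 xo_3_ts (2 * 0 + 1) :=
  step_of_cover xo_E4_ok xo_3_dist (by decide +kernel) xo_3_scs (by decide +kernel) xo_3_good0_0 (kw := [])
    (conj_mem_of_scs xo_E4_ok xo_G3_ok (by decide : 4 < 14) xo_3_scs (c := 0) (d := 5) (by decide +kernel)) (by decide +kernel)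

theorem xo_3_lev : grp 14 xo_G3 ⊓ MulAction.stabilizer (Equiv.Perm (Fin 14)) (⟨4, by decide⟩ : Fin 14) = grp 14 xo_E4 :=
  sims_level (gs := V215) rfl (by decide) xo_3_fix xo_3_dist (forall_lt_one xo_3_step0)

theorem xo_3_cardG : Nat.card (grp 14 xo_G3) = 20 :=
  card_of_level hn xo_G3_ok (by decide : 4 < 14) xo_3_lev xo_card4 (m := 5) (by decide +kernel)

theorem le225 : grp 14 xo_E3 ≤ grp 14 xo_G3 :=
  grp_le_of_memB hn hk xo_G3_ok xo_E3_ok (ws := [nat_lit 1, nat_lit 0x3030103, nat_lit 771, nat_lit 3, nat_lit 5]) (by decide +kernel)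

theorem le226 : grp 14 xo_G3 ≤ grp 14 xo_E3 :=
  grp_le_of_memB hn hk xo_E3_ok xo_G3_ok (ws := [nat_lit 1, nat_lit 7, nat_lit 9]) (by decide +kernel)

theorem xo_3_eq : grp 14 xo_E3 = grp 14 xo_G3 :=
  le_antisymm le225 le226

theorem xo_card3 : Nat.card (grp 14 xo_E3) = 20 :=
  by rw [xo_3_eq]; exact xo_3_cardG

theorem xo_stab3 : grp 14 xo_E3 ⊓ MulAction.stabilizer (Equiv.Perm (Fin 14)) (⟨4, by decide⟩ : Fin 14) = grp 14 xo_E4 :=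
  by rw [xo_3_eq]; exact xo_3_lev

theorem xo_leO3 : grp 14 xo_E3 ≤ grp 14 EX :=
  xo_3_eq.le.trans (grp_cons_le ((le213.trans (le207.trans (le200.trans (le_refl (grp 14 EX))))) (le216 (toPerm_mem_grp (E := V215) (by simp [V215])))) xo_leO4)

theorem xo_2_fix : grp 14 xo_E3 ≤ MulAction.stabilizer (Equiv.Perm (Fin 14)) (⟨6, by decide⟩ : Fin 14) :=
  grp_le_stab xo_E3_ok (by decide : 6 < 14) (by decide +kernel)

noncomputable def xo_2_ts : List ℕ := [nat_lit 0, nat_lit 1]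

noncomputable def xo_2_ds : List ℕ := [nat_lit 6, nat_lit 4]

theorem xo_2_dist : Dist 14 xo_E3 xo_G2 (⟨6, by decide⟩ : Fin 14) xo_2_ts xo_2_ds :=
  dist_of_distB (k := 1) hn xo_E3_ok xo_G2_ok (by decide : 6 < 14) (by decide +kernel)

noncomputable def xo_2_sl0 : SL := (SL.cons (nat_lit 1) (nat_lit 4) (Ch.cons (nat_lit 5) [nat_lit 7, nat_lit 9] Ch.nil) [nat_lit 4, nat_lit 3] SL.nil)

theorem xo_2_sc0 : SCs 14 xo_E3 xo_G2 (⟨6, by decide⟩ : Fin 14) (SL.words xo_2_sl0) :=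
  scs_of_ok hn (det_lab hk ⊤) xo_E3_ok xo_G2_ok le_top le_top (by decide : 6 < 14) xo_2_fix xo_card3.le (by decide +kernel)

noncomputable def xo_2_l : List ℕ := (appL (SL.words xo_2_sl0) [])

theorem xo_2_scs : SCs 14 xo_E3 xo_G2 (⟨6, by decide⟩ : Fin 14) xo_2_l :=
  (SCs.append xo_2_sc0 SCs.nil)

noncomputable def xo_2_rl0_0 : RL := (RL.cons (nat_lit 0) (nat_lit 6) (nat_lit 0) (nat_lit 264) (nat_lit 1) (nat_lit 264) (RL.cons (nat_lit 1) (nat_lit 4) (nat_lit 0) (nat_lit 0) (nat_lit 0) (nat_lit 0) (RL.cons (nat_lit 1) (nat_lit 5) (nat_lit 1) (nat_lit 1) (nat_lit 1) (nat_lit 8) RL.nil)))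

theorem xo_2_good0_0 : GoodSet 14 xo_E3 xo_G2 (⟨6, by decide⟩ : Fin 14) xo_2_ts (nat_lit 1) (RL.pts xo_2_rl0_0) :=
  goodSet_of_ok hn (det_lab hk ⊤) xo_E3_ok xo_G2_ok le_top le_top (by decide : 6 < 14) (sepAt_lab hk _) (by decide +kernel)

theorem xo_2_step0 : Step 14 xo_E3 xo_G2 xo_2_ts (2 * 0 + 1) :=
  step_of_cover xo_E3_ok xo_2_dist (by decide +kernel) xo_2_scs (by decide +kernel) xo_2_good0_0 (kw := [nat_lit 7, nat_lit 9])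
    (conj_mem_of_scs xo_E3_ok xo_G2_ok (by decide : 6 < 14) xo_2_scs (c := 0) (d := 4) (by decide +kernel)) (by decide +kernel)

theorem xo_2_lev : grp 14 xo_G2 ⊓ MulAction.stabilizer (Equiv.Perm (Fin 14)) (⟨6, by decide⟩ : Fin 14) = grp 14 xo_E3 :=
  sims_level (gs := V209) rfl (by decide) xo_2_fix xo_2_dist (forall_lt_one xo_2_step0)

theorem xo_2_cardG : Nat.card (grp 14 xo_G2) = 120 :=
  card_of_level hn xo_G2_ok (by decide : 6 < 14) xo_2_lev xo_card3 (m := 6) (by decide +kernel)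

theorem le227 : grp 14 xo_E2 ≤ grp 14 xo_G2 :=
  grp_le_of_memB hn hk xo_G2_ok xo_E2_ok (ws := [nat_lit 1, nat_lit 0x909030a0101, nat_lit 2, nat_lit 3, nat_lit 5, nat_lit 7, nat_lit 9, nat_lit 11]) (by decide +kernel)

theorem le228 : grp 14 xo_G2 ≤ grp 14 xo_E2 :=
  grp_le_of_memB hn hk xo_E2_ok xo_G2_ok (ws := [nat_lit 1, nat_lit 7, nat_lit 9, nat_lit 11, nat_lit 13, nat_lit 15]) (by decide +kernel)

theorem xo_2_eq : grp 14 xo_E2 = grp 14 xo_G2 :=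
  le_antisymm le227 le228

theorem xo_card2 : Nat.card (grp 14 xo_E2) = 120 :=
  by rw [xo_2_eq]; exact xo_2_cardG

theorem xo_stab2 : grp 14 xo_E2 ⊓ MulAction.stabilizer (Equiv.Perm (Fin 14)) (⟨6, by decide⟩ : Fin 14) = grp 14 xo_E3 :=
  by rw [xo_2_eq]; exact xo_2_lev

theorem xo_leO2 : grp 14 xo_E2 ≤ grp 14 EX :=
  xo_2_eq.le.trans (grp_cons_le ((le207.trans (le200.trans (le_refl (grp 14 EX)))) (le210 (toPerm_mem_grp (E := V209) (by simp [V209])))) xo_leO3)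

theorem xo_1_fix : grp 14 xo_E2 ≤ MulAction.stabilizer (Equiv.Perm (Fin 14)) (⟨0, by decide⟩ : Fin 14) :=
  grp_le_stab xo_E2_ok (by decide : 0 < 14) (by decide +kernel)

noncomputable def xo_1_ts : List ℕ := [nat_lit 0, nat_lit 1, nat_lit 257]

noncomputable def xo_1_ds : List ℕ := [nat_lit 0, nat_lit 6, nat_lit 10]

theorem xo_1_dist : Dist 14 xo_E2 xo_G1 (⟨0, by decide⟩ : Fin 14) xo_1_ts xo_1_ds :=
  dist_of_distB (k := 2) hn xo_E2_ok xo_G1_ok (by decide : 0 < 14) (by decide +kernel)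

noncomputable def xo_1_sl0 : SL := (SL.cons (nat_lit 1) (nat_lit 6) (Ch.cons (nat_lit 4) [nat_lit 7, nat_lit 9, nat_lit 11] (Ch.cons (nat_lit 5) [nat_lit 13, nat_lit 15] Ch.nil)) [nat_lit 3332, nat_lit 854530, nat_lit 853762, nat_lit 0xe070e0107, nat_lit 920065] (SL.cons (nat_lit 257) (nat_lit 10) (Ch.cons (nat_lit 3) [nat_lit 2307] (Ch.cons (nat_lit 1) [nat_lit 854532] Ch.nil)) [nat_lit 3329, nat_lit 855306] SL.nil))

theorem xo_1_sc0 : SCs 14 xo_E2 xo_G1 (⟨0, by decide⟩ : Fin 14) (SL.words xo_1_sl0) :=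
  scs_of_ok hn (det_lab hk ⊤) xo_E2_ok xo_G1_ok le_top le_top (by decide : 0 < 14) xo_1_fix xo_card2.le (by decide +kernel)

noncomputable def xo_1_l : List ℕ := (appL (SL.words xo_1_sl0) [])

theorem xo_1_scs : SCs 14 xo_E2 xo_G1 (⟨0, by decide⟩ : Fin 14) xo_1_l :=
  (SCs.append xo_1_sc0 SCs.nil)

noncomputable def xo_1_rl0_0 : RL := (RL.cons (nat_lit 0) (nat_lit 0) (nat_lit 0) (nat_lit 3) (nat_lit 1) (nat_lit 3) (RL.cons (nat_lit 1) (nat_lit 6) (nat_lit 0) (nat_lit 0) (nat_lit 0) (nat_lit 0) (RL.cons (nat_lit 1) (nat_lit 4) (nat_lit 1) (nat_lit 1) (nat_lit 2) (nat_lit 0xd0d070e03) (RL.cons (nat_lit 2) (nat_lit 10) (nat_lit 0) (nat_lit 0) (nat_lit 1) (nat_lit 0) RL.nil))))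

theorem xo_1_good0_0 : GoodSet 14 xo_E2 xo_G1 (⟨0, by decide⟩ : Fin 14) xo_1_ts (nat_lit 1) (RL.pts xo_1_rl0_0) :=
  goodSet_of_ok hn (det_lab hk ⊤) xo_E2_ok xo_G1_ok le_top le_top (by decide : 0 < 14) (sepAt_lab hk _) (by decide +kernel)

theorem xo_1_step0 : Step 14 xo_E2 xo_G1 xo_1_ts (2 * 0 + 1) :=
  step_of_cover xo_E2_ok xo_1_dist (by decide +kernel) xo_1_scs (by decide +kernel) xo_1_good0_0 (kw := [nat_lit 7, nat_lit 9, nat_lit 11, nat_lit 13, nat_lit 15])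
    (conj_mem_of_scs xo_E2_ok xo_G1_ok (by decide : 0 < 14) xo_1_scs (c := 0) (d := 6) (by decide +kernel)) (by decide +kernel)

theorem xo_1_lev : grp 14 xo_G1 ⊓ MulAction.stabilizer (Equiv.Perm (Fin 14)) (⟨0, by decide⟩ : Fin 14) = grp 14 xo_E2 :=
  sims_level (gs := V201) rfl (by decide) xo_1_fix xo_1_dist (forall_lt_one xo_1_step0)

theorem xo_1_cardG : Nat.card (grp 14 xo_G1) = 1440 :=
  card_of_level hn xo_G1_ok (by decide : 0 < 14) xo_1_lev xo_card2 (m := 12) (by decide +kernel)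

theorem le229 : grp 14 xo_E1 ≤ grp 14 xo_G1 :=
  grp_le_of_memB hn hk xo_G1_ok xo_E1_ok (ws := [nat_lit 1, nat_lit 0x9010103, nat_lit 3, nat_lit 5, nat_lit 7, nat_lit 9, nat_lit 11, nat_lit 13, nat_lit 15, nat_lit 17]) (by decide +kernel)

theorem le230 : grp 14 xo_G1 ≤ grp 14 xo_E1 :=
  grp_le_of_memB hn hk xo_E1_ok xo_G1_ok (ws := [nat_lit 1, nat_lit 5, nat_lit 7, nat_lit 9, nat_lit 11, nat_lit 13, nat_lit 15, nat_lit 17, nat_lit 19]) (by decide +kernel)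

theorem xo_1_eq : grp 14 xo_E1 = grp 14 xo_G1 :=
  le_antisymm le229 le230

theorem xo_card1 : Nat.card (grp 14 xo_E1) = 1440 :=
  by rw [xo_1_eq]; exact xo_1_cardG

theorem xo_stab1 : grp 14 xo_E1 ⊓ MulAction.stabilizer (Equiv.Perm (Fin 14)) (⟨0, by decide⟩ : Fin 14) = grp 14 xo_E2 :=
  by rw [xo_1_eq]; exact xo_1_lev

theorem xo_leO1 : grp 14 xo_E1 ≤ grp 14 EX :=
  xo_1_eq.le.trans (grp_cons_le ((le200.trans (le_refl (grp 14 EX))) (le202 (toPerm_mem_grp (E := V201) (by simp [V201])))) xo_leO2)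

theorem xo_0_fix : grp 14 xo_E1 ≤ MulAction.stabilizer (Equiv.Perm (Fin 14)) (⟨12, by decide⟩ : Fin 14) :=
  grp_le_stab xo_E1_ok (by decide : 12 < 14) (by decide +kernel)

noncomputable def xo_0_ts : List ℕ := [nat_lit 0, nat_lit 1]

noncomputable def xo_0_ds : List ℕ := [nat_lit 12, nat_lit 13]

theorem xo_0_dist : Dist 14 xo_E1 xo_G0 (⟨12, by decide⟩ : Fin 14) xo_0_ts xo_0_ds :=
  dist_of_distB (k := 1) hn xo_E1_ok xo_G0_ok (by decide : 12 < 14) (by decide +kernel)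

noncomputable def xo_0_sl0 : SL := (SL.cons (nat_lit 1) (nat_lit 13) (Ch.cons (nat_lit 0) [nat_lit 0x120601] (Ch.cons (nat_lit 3) [nat_lit 853259] (Ch.cons (nat_lit 1) [nat_lit 4613] (Ch.cons (nat_lit 2) [nat_lit 14] Ch.nil)))) [nat_lit 0x120601, nat_lit 853259, nat_lit 4613, nat_lit 14] SL.nil)

theorem xo_0_sc0 : SCs 14 xo_E1 xo_G0 (⟨12, by decide⟩ : Fin 14) (SL.words xo_0_sl0) :=
  scs_of_ok hn (det_lab hk ⊤) xo_E1_ok xo_G0_ok le_top le_top (by decide : 12 < 14) xo_0_fix xo_card1.le (by decide +kernel)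

noncomputable def xo_0_l : List ℕ := (appL (SL.words xo_0_sl0) [])

theorem xo_0_scs : SCs 14 xo_E1 xo_G0 (⟨12, by decide⟩ : Fin 14) xo_0_l :=
  (SCs.append xo_0_sc0 SCs.nil)

noncomputable def xo_0_rl0_0 : RL := (RL.cons (nat_lit 0) (nat_lit 12) (nat_lit 0) (nat_lit 0) (nat_lit 1) (nat_lit 0) (RL.cons (nat_lit 1) (nat_lit 13) (nat_lit 0) (nat_lit 0) (nat_lit 0) (nat_lit 0) RL.nil))

theorem xo_0_good0_0 : GoodSet 14 xo_E1 xo_G0 (⟨12, by decide⟩ : Fin 14) xo_0_ts (nat_lit 1) (RL.pts xo_0_rl0_0) :=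
  goodSet_of_ok hn (det_lab hk ⊤) xo_E1_ok xo_G0_ok le_top le_top (by decide : 12 < 14) (sepAt_lab hk _) (by decide +kernel)

theorem xo_0_step0 : Step 14 xo_E1 xo_G0 xo_0_ts (2 * 0 + 1) :=
  step_of_cover xo_E1_ok xo_0_dist (by decide +kernel) xo_0_scs (by decide +kernel) xo_0_good0_0 (kw := [nat_lit 0x120601, nat_lit 853259, nat_lit 4613, nat_lit 14])
    (conj_mem_of_scs xo_E1_ok xo_G0_ok (by decide : 12 < 14) xo_0_scs (c := 0) (d := 13) (by decide +kernel)) (by decide +kernel)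

theorem xo_0_lev : grp 14 xo_G0 ⊓ MulAction.stabilizer (Equiv.Perm (Fin 14)) (⟨12, by decide⟩ : Fin 14) = grp 14 xo_E1 :=
  sims_level (gs := V195) rfl (by decide) xo_0_fix xo_0_dist (forall_lt_one xo_0_step0)

theorem xo_0_cardG : Nat.card (grp 14 xo_G0) = 2880 :=
  card_of_level hn xo_G0_ok (by decide : 12 < 14) xo_0_lev xo_card1 (m := 2) (by decide +kernel)

theorem le231 : grp 14 xo_E0 ≤ grp 14 xo_G0 :=
  grp_le_of_memB hn hk xo_G0_ok xo_E0_ok (ws := [nat_lit 1, nat_lit 0x1310070d04, nat_lit 0x14100701, nat_lit 0x13130d1407, nat_lit 0x130d140501, nat_lit 3, nat_lit 5, nat_lit 7, nat_lit 9, nat_lit 11, nat_lit 13, nat_lit 15, nat_lit 17, nat_lit 19, nat_lit 21]) (by decide +kernel)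

theorem le232 : grp 14 xo_G0 ≤ grp 14 xo_E0 :=
  grp_le_of_memB hn hk xo_E0_ok xo_G0_ok (ws := [nat_lit 1, nat_lit 11, nat_lit 13, nat_lit 15, nat_lit 17, nat_lit 19, nat_lit 21, nat_lit 23, nat_lit 25, nat_lit 27, nat_lit 29]) (by decide +kernel)

theorem xo_0_eq : grp 14 xo_E0 = grp 14 xo_G0 :=
  le_antisymm le231 le232

theorem xo_card0 : Nat.card (grp 14 xo_E0) = 2880 :=
  by rw [xo_0_eq]; exact xo_0_cardG

theorem xo_stab0 : grp 14 xo_E0 ⊓ MulAction.stabilizer (Equiv.Perm (Fin 14)) (⟨12, by decide⟩ : Fin 14) = grp 14 xo_E1 :=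
  by rw [xo_0_eq]; exact xo_0_lev

theorem xo_leO0 : grp 14 xo_E0 ≤ grp 14 EX :=
  xo_0_eq.le.trans (grp_cons_le ((le_refl (grp 14 EX)) (le196 (toPerm_mem_grp (E := V195) (by simp [V195])))) xo_leO1)

theorem le233 : grp 14 EX ≤ grp 14 xo_E0 :=
  grp_le_of_memB hn hk xo_E0_ok EX_ok (ws := [nat_lit 1, nat_lit 3, nat_lit 5, nat_lit 7, nat_lit 9]) (by decide +kernel)

theorem xo_eq : grp 14 EX = grp 14 xo_E0 :=
  le_antisymm le233 xo_leO0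

theorem xo_card : Nat.card (grp 14 EX) = 2880 :=
  by rw [xo_eq]; exact xo_card0

noncomputable def xo_ch : Ch := (Ch.cons (nat_lit 12) [nat_lit 1, nat_lit 3, nat_lit 5, nat_lit 7, nat_lit 9] (Ch.cons (nat_lit 0) [nat_lit 11, nat_lit 13] (Ch.cons (nat_lit 6) [nat_lit 15, nat_lit 17, nat_lit 19] (Ch.cons (nat_lit 4) [nat_lit 21, nat_lit 23, nat_lit 25] (Ch.cons (nat_lit 5) [nat_lit 27, nat_lit 29] Ch.nil)))))

theorem xo_exact : Ch.Exact 14 xo_E0 xo_ch (grp 14 xo_E0) :=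
  Ch.exact (k := 4) (L := (lab 14 4)) hn xo_E0_ok (by decide +kernel) (wgrp_le_grp _ _ _) xo_card0.le

end Cfsg.Agent.H55.TM
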