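import Mathlib
import Cfsg.Agent.H55.TMD
import Cfsg.Agent.H55.PNet
import Cfsg.Agent.H59.Reg
import Cfsg.Agent.H89.Sy

/-!
# Codes for the elements of the model of `2 × M₁₂`
-/

set_option autoImplicit false
set_option maxRecDepth 200000

namespace Cfsg.Agent.H55.TM

open Cfsg.Agent.H43 Cfsg.Agent.H89.Rec Equiv Subgroup
open Cfsg.Agent.H44 (ev Sat gen ev_nil ev_cons ev_append)

/-- The model of `2 × M₁₂` on fourteen points. -/
noncomputable abbrev AM : Subgroup (Perm (Fin 14)) := grp 14 EA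

/-- Digit `i` of a code. -/
def ap (g i : ℕ) : ℕ := Nat.land (Nat.shiftRight g (Nat.shiftLeft i 2)) 15

theorem ap_eq (g i : ℕ) : ap g i = g / 16 ^ i % 16 := by
  unfold ap
  rw [show Nat.land (Nat.shiftRight g (Nat.shiftLeft i 2)) 15 =
    (g >>> (i <<< 2)) &&& (2 ^ 4 - 1) from rfl, Nat.and_two_pow_sub_one_eq_mod,
    Nat.shiftRight_eq_div_pow, Nat.shiftLeft_eq, mul_comm i, pow_mul]
  rfl

/-- The number with the digits `f 0, …, f (k - 1)`. -/
noncomputable def pk (f : ℕ → ℕ) (k : ℕ) : ℕ :=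
  Nat.rec 0 (fun i acc => Nat.add (Nat.shiftLeft (f i) (Nat.shiftLeft i 2)) acc) k

theorem pk_succ (f : ℕ → ℕ) (k : ℕ) : pk f (k + 1) = f k * 16 ^ k + pk f k := by
  change (f k <<< (k <<< 2)) + pk f k = _
  rw [Nat.shiftLeft_eq, Nat.shiftLeft_eq, mul_comm k, pow_mul]
  rfl

theorem pk_lt (f : ℕ → ℕ) (k : ℕ) (hf : ∀ i < k, f i < 16) : pk f k < 16 ^ k := by
  induction k with
  | zero => exact Nat.one_pos
  | succ k ih =>
    have h1 := ih fun i hi => hf i (by omega)
    have h2 := hf k (by omega)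
    rw [pk_succ, pow_succ]
    nlinarith

theorem ap_pk (f : ℕ → ℕ) (k : ℕ) (hf : ∀ i < k, f i < 16) {i : ℕ} (hi : i < k) :
    ap (pk f k) i = f i := by
  induction k with
  | zero => omega
  | succ k ih =>
    have h1 := pk_lt f k fun i hi => hf i (by omega)
    rw [ap_eq, pk_succ]
    rcases Nat.lt_succ_iff_lt_or_eq.1 hi with h | rfl
    · obtain ⟨d, rfl⟩ : ∃ d, k = i + 1 + d := ⟨k - (i + 1), by omega⟩
      rw [← ih (fun j hj => hf j (by omega)) h, ap_eq,
        show f (i + 1 + d) * 16 ^ (i + 1 + d) = 16 ^ i * (16 * (f (i + 1 + d) * 16 ^ d)) by ring,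
        Nat.mul_add_div (by positivity), Nat.mul_add_mod]
    · rw [mul_comm, Nat.mul_add_div (by positivity), Nat.div_eq_of_lt h1, add_zero,
        Nat.mod_eq_of_lt (hf i hi)]

theorem pk_congr {f f' : ℕ → ℕ} {k : ℕ} (h : ∀ i < k, f i = f' i) : pk f k = pk f' k := by
  induction k with
  | zero => rfl
  | succ k ih => rw [pk_succ, pk_succ, h k (by omega), ih fun i hi => h i (by omega)]

theorem pk_eq_sum (f : ℕ → ℕ) (k : ℕ) : pk f k = ∑ i ∈ Finset.range k, f i * 16 ^ i := by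
  induction k with
  | zero => rfl
  | succ k ih => rw [pk_succ, Finset.sum_range_succ, ih, add_comm]

/-- The code of a permutation. -/
noncomputable def pc (g : Perm (Fin 14)) : ℕ :=
  pk (fun i => if h : i < 14 then (g ⟨i, h⟩).val else 0) 14

theorem ap_pc (g : Perm (Fin 14)) (i : Fin 14) : ap (pc g) i = g i := by
  rw [pc, ap_pk _ _ (fun j hj => by rw [dif_pos hj]; exact (g _).2.trans (by norm_num)) i.2,
    dif_pos i.2]

theorem pc_inj {g h : Perm (Fin 14)} (e : pc g = pc h) : g = h :=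
  Equiv.ext fun i => Fin.ext (by rw [← ap_pc, e, ap_pc])

/-- The product of codes. -/
def mu (a b : ℕ) : ℕ :=
  (Nat.add (Nat.shiftLeft (Nat.land (Nat.shiftRight a (Nat.shiftLeft (Nat.land (Nat.shiftRight b (nat_lit 52)) (nat_lit 15)) (nat_lit 2))) (nat_lit 15)) (nat_lit 52))
    (Nat.add (Nat.shiftLeft (Nat.land (Nat.shiftRight a (Nat.shiftLeft (Nat.land (Nat.shiftRight b (nat_lit 48)) (nat_lit 15)) (nat_lit 2))) (nat_lit 15)) (nat_lit 48))
    (Nat.add (Nat.shiftLeft (Nat.land (Nat.shiftRight a (Nat.shiftLeft (Nat.land (Nat.shiftRight b (nat_lit 44)) (nat_lit 15)) (nat_lit 2))) (nat_lit 15)) (nat_lit 44))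
    (Nat.add (Nat.shiftLeft (Nat.land (Nat.shiftRight a (Nat.shiftLeft (Nat.land (Nat.shiftRight b (nat_lit 40)) (nat_lit 15)) (nat_lit 2))) (nat_lit 15)) (nat_lit 40))
    (Nat.add (Nat.shiftLeft (Nat.land (Nat.shiftRight a (Nat.shiftLeft (Nat.land (Nat.shiftRight b (nat_lit 36)) (nat_lit 15)) (nat_lit 2))) (nat_lit 15)) (nat_lit 36))
    (Nat.add (Nat.shiftLeft (Nat.land (Nat.shiftRight a (Nat.shiftLeft (Nat.land (Nat.shiftRight b (nat_lit 32)) (nat_lit 15)) (nat_lit 2))) (nat_lit 15)) (nat_lit 32))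
    (Nat.add (Nat.shiftLeft (Nat.land (Nat.shiftRight a (Nat.shiftLeft (Nat.land (Nat.shiftRight b (nat_lit 28)) (nat_lit 15)) (nat_lit 2))) (nat_lit 15)) (nat_lit 28))
    (Nat.add (Nat.shiftLeft (Nat.land (Nat.shiftRight a (Nat.shiftLeft (Nat.land (Nat.shiftRight b (nat_lit 24)) (nat_lit 15)) (nat_lit 2))) (nat_lit 15)) (nat_lit 24))
    (Nat.add (Nat.shiftLeft (Nat.land (Nat.shiftRight a (Nat.shiftLeft (Nat.land (Nat.shiftRight b (nat_lit 20)) (nat_lit 15)) (nat_lit 2))) (nat_lit 15)) (nat_lit 20))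
    (Nat.add (Nat.shiftLeft (Nat.land (Nat.shiftRight a (Nat.shiftLeft (Nat.land (Nat.shiftRight b (nat_lit 16)) (nat_lit 15)) (nat_lit 2))) (nat_lit 15)) (nat_lit 16))
    (Nat.add (Nat.shiftLeft (Nat.land (Nat.shiftRight a (Nat.shiftLeft (Nat.land (Nat.shiftRight b (nat_lit 12)) (nat_lit 15)) (nat_lit 2))) (nat_lit 15)) (nat_lit 12))
    (Nat.add (Nat.shiftLeft (Nat.land (Nat.shiftRight a (Nat.shiftLeft (Nat.land (Nat.shiftRight b (nat_lit 8)) (nat_lit 15)) (nat_lit 2))) (nat_lit 15)) (nat_lit 8))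
    (Nat.add (Nat.shiftLeft (Nat.land (Nat.shiftRight a (Nat.shiftLeft (Nat.land (Nat.shiftRight b (nat_lit 4)) (nat_lit 15)) (nat_lit 2))) (nat_lit 15)) (nat_lit 4))
    (Nat.land (Nat.shiftRight a (Nat.shiftLeft (Nat.land (Nat.shiftRight b (nat_lit 0)) (nat_lit 15)) (nat_lit 2))) (nat_lit 15)))))))))))))))

/-- The inverse of a code. -/
def iv (a : ℕ) : ℕ :=
  (Nat.add (Nat.shiftLeft (nat_lit 13) (Nat.shiftLeft (Nat.land (Nat.shiftRight a (nat_lit 52)) (nat_lit 15)) (nat_lit 2)))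
    (Nat.add (Nat.shiftLeft (nat_lit 12) (Nat.shiftLeft (Nat.land (Nat.shiftRight a (nat_lit 48)) (nat_lit 15)) (nat_lit 2)))
    (Nat.add (Nat.shiftLeft (nat_lit 11) (Nat.shiftLeft (Nat.land (Nat.shiftRight a (nat_lit 44)) (nat_lit 15)) (nat_lit 2)))
    (Nat.add (Nat.shiftLeft (nat_lit 10) (Nat.shiftLeft (Nat.land (Nat.shiftRight a (nat_lit 40)) (nat_lit 15)) (nat_lit 2)))
    (Nat.add (Nat.shiftLeft (nat_lit 9) (Nat.shiftLeft (Nat.land (Nat.shiftRight a (nat_lit 36)) (nat_lit 15)) (nat_lit 2)))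
    (Nat.add (Nat.shiftLeft (nat_lit 8) (Nat.shiftLeft (Nat.land (Nat.shiftRight a (nat_lit 32)) (nat_lit 15)) (nat_lit 2)))
    (Nat.add (Nat.shiftLeft (nat_lit 7) (Nat.shiftLeft (Nat.land (Nat.shiftRight a (nat_lit 28)) (nat_lit 15)) (nat_lit 2)))
    (Nat.add (Nat.shiftLeft (nat_lit 6) (Nat.shiftLeft (Nat.land (Nat.shiftRight a (nat_lit 24)) (nat_lit 15)) (nat_lit 2)))
    (Nat.add (Nat.shiftLeft (nat_lit 5) (Nat.shiftLeft (Nat.land (Nat.shiftRight a (nat_lit 20)) (nat_lit 15)) (nat_lit 2)))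
    (Nat.add (Nat.shiftLeft (nat_lit 4) (Nat.shiftLeft (Nat.land (Nat.shiftRight a (nat_lit 16)) (nat_lit 15)) (nat_lit 2)))
    (Nat.add (Nat.shiftLeft (nat_lit 3) (Nat.shiftLeft (Nat.land (Nat.shiftRight a (nat_lit 12)) (nat_lit 15)) (nat_lit 2)))
    (Nat.add (Nat.shiftLeft (nat_lit 2) (Nat.shiftLeft (Nat.land (Nat.shiftRight a (nat_lit 8)) (nat_lit 15)) (nat_lit 2)))
    (Nat.add (Nat.shiftLeft (nat_lit 1) (Nat.shiftLeft (Nat.land (Nat.shiftRight a (nat_lit 4)) (nat_lit 15)) (nat_lit 2)))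
    (Nat.shiftLeft (nat_lit 0) (Nat.shiftLeft (Nat.land (Nat.shiftRight a (nat_lit 0)) (nat_lit 15)) (nat_lit 2))))))))))))))))

/-- The code of the identity. -/
def c1 : ℕ := 0xdcba9876543210

theorem mu_eq (a b : ℕ) : mu a b = pk (fun i => ap a (ap b i)) 14 := by
  simp only [mu, pk, ap]; rfl

theorem iv_eq (a : ℕ) : iv a = ∑ i : Fin 14, (i : ℕ) * 16 ^ ap a i := by
  have h : ∀ i s : ℕ, Nat.shiftLeft i (Nat.shiftLeft s 2) = i * 16 ^ s := fun i s => by
    change i <<< (s <<< 2) = _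
    rw [Nat.shiftLeft_eq, Nat.shiftLeft_eq, mul_comm s, pow_mul]
    rfl
  have h3 : ∀ (f : ℕ → ℕ) (k : ℕ), Nat.rec (motive := fun _ => ℕ) 0
      (fun i acc => Nat.add (f i) acc) k = ∑ i ∈ Finset.range k, f i := fun f k => by
    induction k with
    | zero => rfl
    | succ k ih => rw [Finset.sum_range_succ, ← ih]; exact Nat.add_comm _ _
  have h2 : iv a = ∑ i ∈ Finset.range 14, Nat.shiftLeft i (Nat.shiftLeft (ap a i) 2) := by
    rw [← h3]
    simp only [iv, ap]; rfl
  rw [h2, Finset.sum_range]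
  exact Finset.sum_congr rfl fun i _ => h _ _

theorem pc_mul (g h : Perm (Fin 14)) : pc (g * h) = mu (pc g) (pc h) := by
  rw [mu_eq]
  refine pk_congr fun i hi => ?_
  rw [dif_pos hi, ap_pc h ⟨i, hi⟩, ap_pc]; rfl

theorem pc_inv (g : Perm (Fin 14)) : pc g⁻¹ = iv (pc g) := by
  rw [iv_eq, show pc g⁻¹ = pk _ 14 from rfl, pk_eq_sum, Finset.sum_range, ← Equiv.sum_comp g]
  refine Finset.sum_congr rfl fun i _ => ?_
  rw [dif_pos (g i).2, ap_pc]
  simp

theorem pc_one : pc 1 = c1 := by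
  have : pc 1 = pk (fun i => i) 14 := pk_congr fun i hi => by rw [dif_pos hi]; rfl
  rw [this]; decide +kernel

/-- The net `o` has the code `c`. -/
noncomputable def netc (o : Net) (c : ℕ) : Bool :=
  band (o.ok 14) (band (Nat.beq (pk (ap c) 14) c)
    (allN (fun i => band (Nat.ble (ap c i) 13) (ptB [o] 1 i (ap c i))) 14))

theorem pc_net {o : Net} {c : ℕ} (h : netc o c = true) : pc (o.toPerm 14) = c := by
  obtain ⟨h1, h⟩ := band_eq_true.1 h
  obtain ⟨h2, h⟩ := band_eq_true.1 h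
  rw [← Nat.eq_of_beq_eq_true h2]
  refine pk_congr fun i hi => ?_
  obtain ⟨h3, h4⟩ := band_eq_true.1 (allN_iff.1 h i hi)
  have h5 := wordP_apply (okE_cons.2 ⟨h1, okE_nil 14⟩) hi
    (Nat.lt_succ_of_le (Nat.le_of_ble_eq_true h3)) h4
  have h6 : wordP 14 [o] 1 = o.toPerm 14 := wordG_single _ (a := 0) (by norm_num)
  rw [dif_pos hi, ← h6, h5]

/-- The code of an element of the model. -/
noncomputable def cd (x : AM) : ℕ := pc x

theorem cd_mul (x y : AM) : cd (x * y) = mu (cd x) (cd y) := pc_mul _ _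
theorem cd_inv (x : AM) : cd x⁻¹ = iv (cd x) := pc_inv _
theorem cd_one : cd 1 = c1 := pc_one
theorem cd_inj {x y : AM} (h : cd x = cd y) : x = y := Subtype.ext (pc_inj h)

/-- The codes of elements of the model. -/
def Val (c : ℕ) : Prop := ∃ x : AM, cd x = c

open Classical in
/-- The element with a given code. -/
noncomputable def el (c : ℕ) : AM := if h : Val c then h.choose else 1

theorem Val.cd_el {c : ℕ} (h : Val c) : cd (el c) = c := by
  rw [el, dif_pos h]; exact h.choose_spec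

theorem val_cd (x : AM) : Val (cd x) := ⟨x, rfl⟩
theorem el_cd (x : AM) : el (cd x) = x := cd_inj (val_cd x).cd_el
theorem val_one : Val c1 := ⟨1, cd_one⟩
theorem el_one : el c1 = 1 := by rw [← cd_one, el_cd]
theorem Val.mu {a b : ℕ} (ha : Val a) (hb : Val b) : Val (mu a b) :=
  ⟨el a * el b, by rw [cd_mul, ha.cd_el, hb.cd_el]⟩
theorem Val.iv {a : ℕ} (ha : Val a) : Val (iv a) := ⟨(el a)⁻¹, by rw [cd_inv, ha.cd_el]⟩
theorem Val.el_mu {a b : ℕ} (ha : Val a) (hb : Val b) : el (TM.mu a b) = el a * el b :=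
  cd_inj (by rw [(ha.mu hb).cd_el, cd_mul, ha.cd_el, hb.cd_el])
theorem Val.el_iv {a : ℕ} (ha : Val a) : el (TM.iv a) = (el a)⁻¹ :=
  cd_inj (by rw [ha.iv.cd_el, cd_inv, ha.cd_el])
theorem Val.inj {a b : ℕ} (ha : Val a) (hb : Val b) (h : el a = el b) : a = b := by
  rw [← ha.cd_el, h, hb.cd_el]
theorem eq_el {x : AM} {c : ℕ} (h : cd x = c) : x = el c := by rw [← h, el_cd]

/-- Evaluate a number before it is used. -/
noncomputable def frc {α : Type} (a : ℕ) (f : ℕ → α) : α :=
  Nat.rec (motive := fun _ => α) (f 0) (fun a' _ => f a') (Nat.succ a)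

theorem frc_eq {α : Type} (a : ℕ) (f : ℕ → α) : frc a f = f a := rfl

/-- The code of letter `x`; the letters start at `1`. -/
noncomputable def lk (cs : List ℕ) (x : ℕ) : ℕ := H44.nth c1 (c1 :: cs) x

/-- The code of a word. -/
noncomputable def evC (cs l : List ℕ) : ℕ :=
  List.rec (motive := fun _ => ℕ) c1 (fun x _ ih => frc ih fun b => frc (lk cs x) fun a => mu a b) l

theorem evC_nil (cs : List ℕ) : evC cs [] = c1 := rfl
theorem evC_cons (cs : List ℕ) (x : ℕ) (l : List ℕ) :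
    evC cs (x :: l) = mu (lk cs x) (evC cs l) := rfl

/-- All members are codes. -/
def Vals (cs : List ℕ) : Prop := ∀ c ∈ cs, Val c

theorem nth_prop {α : Type} {p : α → Prop} {d : α} {l : List α} (hd : p d) (h : ∀ c ∈ l, p c)
    (x : ℕ) : p (H44.nth d l x) := by
  induction l generalizing x with
  | nil => exact hd
  | cons c l ih =>
    cases x with
    | zero => exact h c List.mem_cons_self
    | succ x => exact ih (fun c hc => h c (List.mem_cons_of_mem _ hc)) x

theorem Vals.lk {cs : List ℕ} (h : Vals cs) (x : ℕ) : Val (lk cs x) :=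
  nth_prop val_one (fun c hc => (List.mem_cons.1 hc).elim (fun e => e ▸ val_one) (h c)) x

theorem Vals.evC {cs : List ℕ} (h : Vals cs) (l : List ℕ) : Val (evC cs l) := by
  induction l with
  | nil => exact val_one
  | cons x l ih => exact (h.lk x).mu ih

theorem Vals.el_evC {cs : List ℕ} (h : Vals cs) (l : List ℕ) :
    el (TM.evC cs l) = ev (fun x => el (TM.lk cs x)) l := by
  induction l with
  | nil => exact el_one
  | cons x l ih => rw [evC_cons, (h.lk x).el_mu (h.evC l), ih, ev_cons]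

/-- Equality of lists of numbers. -/
noncomputable def eqL (l : List ℕ) : List ℕ → Bool :=
  List.rec (motive := fun _ => List ℕ → Bool)
    (fun m => List.rec (motive := fun _ => Bool) true (fun _ _ _ => false) m)
    (fun x _ ih m => List.rec (motive := fun _ => Bool) false
      (fun y m' _ => band (Nat.beq x y) (ih m')) m) l

theorem eq_of_eqL {l m : List ℕ} (h : eqL l m = true) : l = m := by
  induction l generalizing m with
  | nil => cases m with
    | nil => rfl
    | cons _ _ => exact Bool.noConfusion h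
  | cons x l ih => cases m with
    | nil => exact Bool.noConfusion h
    | cons y m =>
      obtain ⟨h1, h2⟩ := band_eq_true.1 h
      rw [Nat.eq_of_beq_eq_true h1, ih h2]

/-- The codes of a list of words. -/
noncomputable def evL (cs : List ℕ) (ws : List (List ℕ)) : List ℕ :=
  List.rec (motive := fun _ => List ℕ) [] (fun w _ ih => evC cs w :: ih) ws

theorem evL_eq (cs : List ℕ) (ws : List (List ℕ)) : evL cs ws = ws.map (evC cs) := by
  induction ws with
  | nil => rfl
  | cons w ws ih => exact congrArg (List.cons _) ih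

theorem Vals.of_words {cs cs' : List ℕ} (h : Vals cs) (ws : List (List ℕ))
    (e : eqL cs' (evL cs ws) = true) : Vals cs' := by
  rw [eq_of_eqL e, evL_eq]
  intro c hc
  obtain ⟨w, -, rfl⟩ := List.mem_map.1 hc
  exact h.evC w

/-- Membership in a list of numbers. -/
noncomputable def memL (c : ℕ) (l : List ℕ) : Bool := frc c fun c => anyL (Nat.beq c) l

theorem memL_iff {c : ℕ} {l : List ℕ} : memL c l = true ↔ c ∈ l := by
  rw [memL, frc_eq, anyL_iff]
  exact ⟨fun ⟨o, ho, e⟩ => Nat.eq_of_beq_eq_true e ▸ ho, fun h => ⟨c, h, Nat.beq_refl c⟩⟩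

/-- The list `L` contains the identity and is closed under multiplication by the codes `cs`. -/
noncomputable def clB (cs L : List ℕ) : Bool :=
  band (memL c1 L) (allL (fun g => allL (fun x => memL (mu g x) L) L) cs)

/-- The nets have the given codes. -/
noncomputable def netsB (E : List Net) (cs : List ℕ) : Bool :=
  allL (fun o => anyL (netc o) cs) E

theorem pc_mem_of_clB {E : List Net} {cs L : List ℕ} (h1 : netsB E cs = true)
    (h2 : clB cs L = true) {x : Perm (Fin 14)} (hx : x ∈ grp 14 E) : pc x ∈ L := by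
  obtain ⟨h2, h3⟩ := band_eq_true.1 h2
  have hx' : x ∈ (grp 14 E).toSubmonoid := hx
  rw [grp, closure_toSubmonoid_of_finite] at hx'
  induction hx' using Submonoid.closure_induction_left with
  | one => rw [pc_one]; exact memL_iff.1 h2
  | mul_left a ha d _ ih =>
    obtain ⟨o, ho, rfl⟩ := ha
    obtain ⟨c, hc, e⟩ := anyL_iff.1 (allL_iff.1 h1 o ho)
    rw [pc_mul, pc_net e]
    exact memL_iff.1 (allL_iff.1 (allL_iff.1 h3 c hc) _ (ih (by
      rw [← mem_toSubmonoid, grp, closure_toSubmonoid_of_finite]; assumption)))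

/-! ### Conjugation actions on codes -/

variable {G : Type*} [Group G] {ι : AM →* G} {g g' : G}

/-- `g` conjugates the element with code `a` to the element with code `b`. -/
def Act (ι : AM →* G) (g : G) (a b : ℕ) : Prop := Val a ∧ Val b ∧ Cj ι g (el a) (el b)

theorem Act.of_cj {x y : AM} {a b : ℕ} (h : Cj ι g x y) (ha : cd x = a) (hb : cd y = b) :
    Act ι g a b := by
  subst ha hb
  exact ⟨val_cd _, val_cd _, by rwa [el_cd, el_cd]⟩

theorem Act.one (g : G) : Act ι g c1 c1 := ⟨val_one, val_one, by rw [el_one]; exact Cj.one g⟩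

theorem Act.mu {a b a' b' : ℕ} (h : Act ι g a b) (h' : Act ι g a' b') :
    Act ι g (mu a a') (mu b b') :=
  ⟨h.1.mu h'.1, h.2.1.mu h'.2.1, by
    rw [h.1.el_mu h'.1, h.2.1.el_mu h'.2.1]; exact h.2.2.mul h'.2.2⟩

theorem Act.trans {a b c : ℕ} (h : Act ι g a b) (h' : Act ι g' b c) : Act ι (g' * g) a c :=
  ⟨h.1, h'.2.1, h.2.2.trans h'.2.2⟩

theorem Act.symm {a b : ℕ} (h : Act ι g a b) : Act ι g⁻¹ b a := ⟨h.2.1, h.1, h.2.2.symm⟩

/-- Conjugation of codes. -/
noncomputable def cj (c a : ℕ) : ℕ := frc c fun c => frc (mu c a) fun b => frc (iv c) (mu b)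

theorem Val.cj {c a : ℕ} (hc : Val c) (ha : Val a) : Val (cj c a) := (hc.mu ha).mu hc.iv

theorem Val.el_cj {c a : ℕ} (hc : Val c) (ha : Val a) :
    el (TM.cj c a) = el c * el a * (el c)⁻¹ := by
  rw [← hc.el_iv, ← hc.el_mu ha, ← (hc.mu ha).el_mu hc.iv]; rfl

theorem cd_cj (x y : AM) : cd (x * y * x⁻¹) = cj (cd x) (cd y) := by
  rw [cd_mul, cd_mul, cd_inv]; rfl

theorem Act.self {c a : ℕ} (hc : Val c) (ha : Val a) : Act ι (ι (el c)) a (cj c a) :=
  ⟨ha, hc.cj ha, Cj.self' (hc.el_cj ha).symm⟩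

theorem Act.eq_cj (hi : Function.Injective ι) {x : AM} {a b : ℕ} (h : Act ι (ι x) a b) :
    cj (cd x) a = b := by
  have := congrArg cd (Cj.of_map hi h.2.2)
  rwa [cd_cj, h.1.cd_el, h.2.1.cd_el] at this

theorem Act.uniq (hi : Function.Injective ι) {a b b' : ℕ} (h : Act ι g a b) (h' : Act ι g a b') :
    b = b' := h.2.1.inj h'.2.1 (Cj.uniq hi h.2.2 h'.2.2)

/-- `g` conjugates the members of `D` to the members of `I`. -/
def Acts (ι : AM →* G) (g : G) (D I : List ℕ) : Prop := ∀ x, Act ι g (lk D x) (lk I x)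

theorem Acts.nil (g : G) : Acts ι g [] [] := by
  rintro (_ | x) <;> exact Act.one g

theorem Acts.cons {a b : ℕ} {D I : List ℕ} (h : Act ι g a b) (h' : Acts ι g D I) :
    Acts ι g (a :: D) (b :: I) := by
  rintro (_ | _ | x)
  exacts [Act.one g, h, h' (x + 1)]

theorem Acts.word {D I : List ℕ} (h : Acts ι g D I) (U : List ℕ) :
    Act ι g (evC D U) (evC I U) := by
  induction U with
  | nil => exact Act.one g
  | cons x U ih => exact (h x).mu ih

theorem Acts.word' {D I : List ℕ} (h : Acts ι g D I) (U : List ℕ) {a b : ℕ}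
    (e : band (Nat.beq (evC D U) a) (Nat.beq (evC I U) b) = true) : Act ι g a b := by
  obtain ⟨e1, e2⟩ := band_eq_true.1 e
  rw [← Nat.eq_of_beq_eq_true e1, ← Nat.eq_of_beq_eq_true e2]
  exact h.word U

theorem Acts.evL {D I : List ℕ} (h : Acts ι g D I) (Us : List (List ℕ)) :
    Acts ι g (evL D Us) (evL I Us) := by
  induction Us with
  | nil => exact Acts.nil g
  | cons U Us ih => exact Acts.cons (h.word U) ih

theorem Acts.sub {D I D' I' : List ℕ} (h : Acts ι g D I) (Us : List (List ℕ))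
    (e : band (eqL D' (TM.evL D Us)) (eqL I' (TM.evL I Us)) = true) : Acts ι g D' I' := by
  obtain ⟨e1, e2⟩ := band_eq_true.1 e
  rw [eq_of_eqL e1, eq_of_eqL e2]
  exact h.evL Us

theorem Acts.trans {D I J : List ℕ} (h : Acts ι g D I) (h' : Acts ι g' I J) :
    Acts ι (g' * g) D J := fun x => (h x).trans (h' x)

theorem Acts.symm {D I : List ℕ} (h : Acts ι g D I) : Acts ι g⁻¹ I D := fun x => (h x).symm

theorem Acts.step {D I D' I' J : List ℕ} (h : Acts ι g D I) (h' : Acts ι g' D' I')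
    (Us : List (List ℕ)) (e : band (eqL I (TM.evL D' Us)) (eqL J (TM.evL I' Us)) = true) :
    Acts ι (g' * g) D J := h.trans (h'.sub Us e)

/-- The conjugates of the members of a list. -/
noncomputable def cjL (c : ℕ) (D : List ℕ) : List ℕ :=
  List.rec (motive := fun _ => List ℕ) [] (fun a _ ih => cj c a :: ih) D

theorem Acts.self {c : ℕ} {D I : List ℕ} (hc : Val c) (hD : Vals D)
    (e : eqL I (cjL c D) = true) : Acts ι (ι (el c)) D I := by
  rw [eq_of_eqL e]
  clear e
  induction D with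
  | nil => exact Acts.nil _
  | cons a D ih =>
    exact Acts.cons (Act.self hc (hD a List.mem_cons_self))
      (ih fun b hb => hD b (List.mem_cons_of_mem _ hb))

theorem exists_lk {D : List ℕ} {a : ℕ} (h : a ∈ D) : ∃ x, lk D x = a := by
  induction D with
  | nil => simp at h
  | cons b D ih =>
    rcases List.mem_cons.1 h with rfl | h
    · exact ⟨1, rfl⟩
    · obtain ⟨x, hx⟩ := ih h
      cases x with
      | zero => exact ⟨0, hx⟩
      | succ x => exact ⟨x + 2, hx⟩

theorem Acts.vals {D I : List ℕ} (h : Acts ι g D I) : Vals I := fun a ha => by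
  obtain ⟨x, rfl⟩ := exists_lk ha
  exact (h x).2.1

theorem Acts.left {D I : List ℕ} (h : Acts ι g D I) {c : ℕ} (hc : Val c) {J : List ℕ}
    (e : eqL J (cjL c I) = true) : Acts ι (ι (el c) * g) D J := h.trans (Acts.self hc h.vals e)

theorem Acts.right {D I : List ℕ} (h : Acts ι g D I) {c : ℕ} (hc : Val c) {D' J : List ℕ}
    (hD : Vals D') (Us : List (List ℕ))
    (e : band (eqL (cjL c D') (TM.evL D Us)) (eqL J (TM.evL I Us)) = true) :
    Acts ι (g * ι (el c)) D' J := by
  have e1 : ∀ l : List ℕ, eqL l l = true := fun l => by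
    induction l with
    | nil => rfl
    | cons x l ih => exact band_eq_true.2 ⟨Nat.beq_refl x, ih⟩
  exact (Acts.self hc hD (e1 _)).step h Us e

/-! ### Letters -/

/-- The first letters are elements of the model, the others are the members of `xs`. -/
noncomputable def mix (ι : AM →* G) (cs : List ℕ) (xs : List G) (i : ℕ) : G :=
  if i ≤ cs.length then ι (el (lk cs i)) else xs.getD (i - cs.length - 1) 1

/-- All letters are at most `k`. -/
noncomputable def aB (k : ℕ) (r : List ℕ) : Bool := allL (fun x => Nat.ble x k) r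

variable {cs : List ℕ} {xs : List G}

theorem ev_mix (h : Vals cs) {r : List ℕ} (hr : aB (lenL cs) r = true) :
    ev (mix ι cs xs) r = ι (el (evC cs r)) := by
  rw [h.el_evC, H44.map_ev]
  refine H44.ev_congr fun x hx => if_pos ?_
  rw [← lenL_eq]
  exact Nat.le_of_ble_eq_true (allL_iff.1 hr x hx)

theorem ev_mix' (h : Vals cs) (r : List ℕ) {c : ℕ}
    (hr : band (aB (lenL cs) r) (Nat.beq (evC cs r) c) = true) :
    ev (mix ι cs xs) r = ι (el c) := by
  rw [ev_mix h (band_eq_true.1 hr).1, Nat.eq_of_beq_eq_true (band_eq_true.1 hr).2]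

/-- Boolean disjunction. -/
noncomputable def bor (a b : Bool) : Bool := Bool.rec b true a

theorem bor_iff {a b : Bool} : bor a b = true ↔ a = true ∨ b = true := by cases a <;> simp [bor]

/-- Some number below `m` passes the test. -/
noncomputable def anyN (p : ℕ → Bool) (m : ℕ) : Bool :=
  Nat.rec (motive := fun _ => Bool) false (fun i ih => bor (p i) ih) m

theorem anyN_spec {p : ℕ → Bool} {m : ℕ} (h : anyN p m = true) : ∃ i < m, p i = true := by
  induction m with
  | zero => exact Bool.noConfusion h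
  | succ m ih =>
    rcases bor_iff.1 h with h | h
    · exact ⟨m, by omega, h⟩
    · obtain ⟨i, hi, e⟩ := ih h
      exact ⟨i, by omega, e⟩

/-- The relator describes the action of the letter `s.1`. -/
noncomputable def cjB (cs : List ℕ) (s : ℕ × ℕ × List ℕ × List ℕ) (r : List ℕ) : Bool :=
  band (eqL (r.take 3) [s.1, nthN r 1, s.2.1]) (band (aB (lenL cs) (nthN r 1 :: r.drop 3))
    (frc (evC cs (r.drop 3)) fun v => anyN (fun j => band
      (Nat.beq (lk s.2.2.1 j) (lk cs (nthN r 1))) (Nat.beq (mu (lk s.2.2.2 j) v) c1))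
      (Nat.succ (lenL s.2.2.1))))

/-- The letter `s.1` has the inverse `s.2.1` and acts as described. -/
def Spec (ι : AM →* G) (g : ℕ → G) (s : ℕ × ℕ × List ℕ × List ℕ) : Prop :=
  g s.2.1 = (g s.1)⁻¹ ∧ Acts ι (g s.1) s.2.2.1 s.2.2.2

theorem ev_of_cjB (h : Vals cs) {s : ℕ × ℕ × List ℕ × List ℕ} (hs : Spec ι (mix ι cs xs) s)
    {r : List ℕ} (hr : cjB cs s r = true) : ev (mix ι cs xs) r = 1 := by
  obtain ⟨h1, hr⟩ := band_eq_true.1 hr
  obtain ⟨h2, hr⟩ := band_eq_true.1 hr
  rw [frc_eq] at hr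
  obtain ⟨j, -, hr⟩ := anyN_spec hr
  obtain ⟨h3, h4⟩ := band_eq_true.1 hr
  obtain ⟨h2, h5⟩ := band_eq_true.1 h2
  have h6 := (hs.2 j).2.2
  have h7 : mix ι cs xs (nthN r 1) = ι (el (lk cs (nthN r 1))) :=
    if_pos (lenL_eq cs ▸ Nat.le_of_ble_eq_true h2)
  rw [← List.take_append_drop 3 r, eq_of_eqL h1, ev_append, ev_mix h h5, ev_cons, ev_cons,
    H44.ev_single, hs.1, h7, ← Nat.eq_of_beq_eq_true h3, ← mul_assoc, h6, ← map_mul,
    ← (hs.2 j).2.1.el_mu (h.evC _), Nat.eq_of_beq_eq_true h4, el_one, map_one]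

/-- A relator of the model, or one that describes an action, or a member of `Rx`. -/
noncomputable def relB (cs : List ℕ) (sp : List (ℕ × ℕ × List ℕ × List ℕ)) (Rx : List (List ℕ))
    (r : List ℕ) : Bool :=
  bor (band (aB (lenL cs) r) (Nat.beq (evC cs r) c1))
    (bor (anyL (eqL r) Rx) (anyL (fun s => cjB cs s r) sp))

theorem sat_mix (h : Vals cs) {sp : List (ℕ × ℕ × List ℕ × List ℕ)}
    (hs : ∀ s ∈ sp, Spec ι (mix ι cs xs) s) {Rx : List (List ℕ)} (hx : Sat (mix ι cs xs) Rx)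
    {R : List (List ℕ)} (hR : allL (relB cs sp Rx) R = true) : Sat (mix ι cs xs) R := by
  intro r hr
  rcases bor_iff.1 (allL_iff.1 hR r hr) with e | e
  · rw [ev_mix' h r e, el_one, map_one]
  rcases bor_iff.1 e with e | e
  · obtain ⟨r', hr', e⟩ := anyL_iff.1 e
    rw [eq_of_eqL e]; exact hx r' hr'
  · obtain ⟨s, hs', e⟩ := anyL_iff.1 e
    exact ev_of_cjB h (hs s hs') e

/-! ### Rewriting -/

/-- The subword of length `s.2.1` at position `s.1` may be replaced by `s.2.2`. -/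
noncomputable def okW (cs ivl : List ℕ) (Rk : List (List ℕ)) (w : List ℕ) (s : ℕ × ℕ × List ℕ) :
    Bool :=
  bor (band (aB (lenL cs) ((w.drop s.1).take s.2.1)) (band (aB (lenL cs) s.2.2)
      (Nat.beq (evC cs ((w.drop s.1).take s.2.1)) (evC cs s.2.2))))
    (band (anyL (eqL ((w.drop s.1).take s.2.1 ++ H44.invW (nthN ivl) s.2.2)) Rk)
      (allL (fun x => anyL (eqL [x, nthN ivl x]) Rk) s.2.2))

/-- The result of a rewriting step. -/
def stW (w : List ℕ) (s : ℕ × ℕ × List ℕ) : List ℕ :=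
  w.take s.1 ++ (s.2.2 ++ (w.drop s.1).drop s.2.1)

theorem ev_stW (h : Vals cs) {ivl : List ℕ} {Rk : List (List ℕ)} (hk : Sat (mix ι cs xs) Rk)
    {w : List ℕ} {s : ℕ × ℕ × List ℕ} (hs : okW cs ivl Rk w s = true) :
    ev (mix ι cs xs) (stW w s) = ev (mix ι cs xs) w := by
  have e : ev (mix ι cs xs) ((w.drop s.1).take s.2.1) = ev (mix ι cs xs) s.2.2 := by
    rcases bor_iff.1 hs with e | e
    · obtain ⟨e1, e⟩ := band_eq_true.1 e
      obtain ⟨e2, e⟩ := band_eq_true.1 e
      rw [ev_mix h e1, ev_mix h e2, Nat.eq_of_beq_eq_true e]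
    · obtain ⟨e1, e2⟩ := band_eq_true.1 e
      obtain ⟨r, hr, e1⟩ := anyL_iff.1 e1
      have := hk r hr
      rwa [← eq_of_eqL e1, ev_append, H44.ev_invW, mul_inv_eq_one] at this
      intro x hx
      obtain ⟨r, hr, e3⟩ := anyL_iff.1 (allL_iff.1 e2 x hx)
      have := hk r hr
      rw [← eq_of_eqL e3, ev_cons, H44.ev_single] at this
      exact eq_inv_of_mul_eq_one_right this
  rw [stW, ev_append, ev_append, ← e, ← ev_append, List.take_append_drop, ← ev_append,
    List.take_append_drop]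

/-- The steps rewrite `w` to the empty word. -/
noncomputable def rwB (cs ivl : List ℕ) (Rk : List (List ℕ)) (st : List (ℕ × ℕ × List ℕ)) :
    List ℕ → Bool :=
  List.rec (motive := fun _ => List ℕ → Bool) (fun w => eqL w [])
    (fun s _ ih w => band (okW cs ivl Rk w s) (ih (stW w s))) st

theorem ev_of_rwB (h : Vals cs) {ivl : List ℕ} {Rk : List (List ℕ)} (hk : Sat (mix ι cs xs) Rk)
    (st : List (ℕ × ℕ × List ℕ)) {w : List ℕ} (hs : rwB cs ivl Rk st w = true) :
    ev (mix ι cs xs) w = 1 := by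
  induction st generalizing w with
  | nil => rw [eq_of_eqL hs]; rfl
  | cons s st ih =>
    obtain ⟨h1, h2⟩ := band_eq_true.1 hs
    rw [← ev_stW h hk h1, ih h2]

end Cfsg.Agent.H55.TM
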