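import Mathlib
import Cfsg.Agent.H55.Co3F
import Cfsg.Agent.H55.TMG
import Cfsg.Agent.H55.TM0
import Cfsg.Agent.H58.Conj

/-!
# The centraliser of a pure four-group in the model of `Co₃`
-/

set_option autoImplicit false
set_option maxRecDepth 200000

namespace Cfsg.Agent.H55.TF

open Cfsg.Agent.H43 Cfsg.Agent.H89.Rec Equiv Subgroup C3
open Cfsg.Agent.H44 (ev ev_nil ev_cons ev_append)
open TM (frc frc_eq anyN anyN_spec bor bor_iff)

/-- The letters. -/
noncomputable def LT : List Net :=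
  Net.nil :: (TMG.EQ ++ (Net.nil :: (TMG.EH ++ [n_c1, n_c2, n_y, n_t, n_u, n_w, n_x])))

theorem LT_ok : okE 276 LT = true := by decide +kernel

theorem LT_le : grp 276 LT ≤ Ts := by
  have h : grp 276 ET ≤ Ts :=
    grp_cons_le c1_T0.mem_T (grp_cons_le c2_T0.mem_T (grp_cons_le y_T (grp_nil_le _)))
  refine grp_cons_le (one_mem _) ?_
  rw [grp_append]
  refine sup_le (TMG.EQ_le.trans h) (grp_cons_le (one_mem _) ?_)
  rw [grp_append]
  exact sup_le (TMG.EH_le.trans h) (grp_cons_le c1_T0.mem_T (grp_cons_le c2_T0.mem_T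
    (grp_cons_le y_T (grp_cons_le t_T0.mem_T (grp_cons_le u_T0.mem_T
    (grp_cons_le (mem_T.2 ⟨w_H, congrArg Subtype.val wM_u⟩)
    (grp_cons_le (mem_T.2 ⟨x_H, congrArg Subtype.val xM_u⟩) (grp_nil_le _))))))))

/-- The centraliser of `t` and `u`. -/
noncomputable abbrev TT : Subgroup Hs := centralizer {uM}

/-- An element of `Ts` in `TT`. -/
noncomputable def toT {p : P} (h : p ∈ Ts) : TT :=
  ⟨⟨p, T_le_H h⟩, mem_centralizer_singleton_iff.2 (Subtype.ext (mem_T.1 h).2)⟩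

/-- The letters in `TT`. -/
noncomputable def f (i : ℕ) : TT := toT (LT_le (getN_mem_grp 276 LT i))

theorem coe_ev (l : List ℕ) : ((ev f l : TT) : Hs).1 = ev (gn 276 LT) l :=
  H44.map_ev (Hs.subtype.comp TT.subtype) f l

theorem fT : (f 85 : Hs) = tM := Subtype.ext rfl
theorem fU : (f 86 : Hs) = uM := Subtype.ext rfl
theorem fW : (f 87 : Hs) = wM := Subtype.ext rfl
theorem fX : (f 88 : Hs) = xM := Subtype.ext rfl

/-- The code of a word. -/
noncomputable def cw (l : List ℕ) : ℕ := apL (FK 276 9) LT l (lab 276 9)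

theorem cw_iff {l l' : List ℕ} : Nat.beq (cw l) (cw l') = true ↔ ev f l = ev f l' := by
  have h1 := mov_apL (rep_FK C3.hn.1 9) LT_ok l (lab 276 9)
  have h2 := mov_apL (rep_FK C3.hn.1 9) LT_ok l' (lab 276 9)
  rw [Nat.beq_eq, Subtype.ext_iff, Subtype.ext_iff, coe_ev, coe_ev]
  constructor
  · intro e
    unfold cw at e
    rw [← e] at h2
    exact h1.perm_eq h2 (sepAt_lab C3.hk)
  · intro e
    rw [← e] at h2
    exact h1.unique h2

theorem cw_ne {l l' : List ℕ} (h : Nat.beq (cw l) (cw l') = false) : ev f l ≠ ev f l' :=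
  fun e => by rw [cw_iff.2 e] at h; exact Bool.noConfusion h

theorem nfix_ev (l : List ℕ) {m : ℕ}
    (h : Nat.beq (pcnt 276 (zeroM 276 9 (Nat.xor (cw l) (lab 276 9)))) m = true) :
    nfix ((ev f l : TT) : Hs).1 = m := by
  rw [← Nat.eq_of_beq_eq_true h, pcnt_eq C3.hn.2, nfix, coe_ev]
  congr 1
  ext i
  rw [mem_pset]
  exact ((mov_apL (rep_FK C3.hn.1 9) LT_ok l (lab 276 9)).zeroM_iff C3.hk i).symm

/-! ### The group `V` -/

/-- The words of the elements of `V`. -/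
noncomputable def vw (i : ℕ) : List ℕ := H44.nth [] [[], [85], [86], [85, 86], [87], [85, 87],
  [86, 87], [85, 86, 87], [88], [85, 88], [86, 88], [85, 86, 88], [87, 88], [85, 87, 88],
  [86, 87, 88], [85, 86, 87, 88]] i

/-- The elements of `V`. -/
noncomputable def vT (i : ℕ) : TT := ev f (vw i)

theorem vT_mul {i j : ℕ} (hi : i < 16) (hj : j < 16) : vT i * vT j = vT (i ^^^ j) := by
  have key : allN (fun i => allN (fun j =>
      Nat.beq (cw (vw i ++ vw j)) (cw (vw (Nat.xor i j)))) 16) 16 = true := by decide +kernel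
  rw [vT, vT, ← ev_append]
  exact cw_iff.1 (allN_iff.1 (allN_iff.1 key i hi) j hj)

theorem vT_zero : vT 0 = 1 := rfl

theorem vT_sq {i : ℕ} (hi : i < 16) : vT i * vT i = 1 := by rw [vT_mul hi hi, Nat.xor_self]; rfl

theorem vT_inj {i j : ℕ} (hi : i < 16) (hj : j < 16) (h : vT i = vT j) : i = j := by
  have key : allN (fun i => bor (Nat.beq i 0) (Bool.not (Nat.beq (cw (vw i)) (cw [])))) 16 = true := by
    decide +kernel
  have h1 := vT_mul hi hj
  rw [h, vT_sq hj] at h1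
  rcases bor_iff.1 (allN_iff.1 key _ (Nat.xor_lt_two_pow (n := 4) hi hj)) with e | e
  · exact Nat.eq_of_xor_eq_zero (Nat.eq_of_beq_eq_true e)
  · exact absurd h1.symm (cw_ne (l := vw (i ^^^ j)) (l' := []) (by simpa using e))

/-- The subgroups of order `2 ^ k` of `V`. -/
noncomputable def Vk (k : ℕ) : Subgroup Hs where
  carrier := {a | ∃ i < 2 ^ k, i < 16 ∧ (vT i : Hs) = a}
  one_mem' := ⟨0, by positivity, by decide, rfl⟩
  mul_mem' := by
    rintro _ _ ⟨i, h1, h2, rfl⟩ ⟨j, h3, h4, rfl⟩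
    exact ⟨_, Nat.xor_lt_two_pow h1 h3, Nat.xor_lt_two_pow (n := 4) h2 h4,
      congrArg Subtype.val (vT_mul h2 h4).symm⟩
  inv_mem' := by
    rintro _ ⟨i, h1, h2, rfl⟩
    exact ⟨i, h1, h2, congrArg Subtype.val (eq_inv_of_mul_eq_one_right (vT_sq h2))⟩

theorem Vk_mono {k l : ℕ} (h : k ≤ l) : Vk k ≤ Vk l := fun _ ⟨i, h1, h2⟩ =>
  ⟨i, h1.trans_le (Nat.pow_le_pow_right (by decide) h), h2⟩

theorem Vk_sq {k : ℕ} {a : Hs} (h : a ∈ Vk k) : a * a = 1 :=
  let ⟨_, _, h2, e⟩ := h; e ▸ congrArg Subtype.val (vT_sq h2)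

theorem Vk_comm {k l : ℕ} {a b : Hs} (h : a ∈ Vk k) (h' : b ∈ Vk l) : Commute a b := by
  obtain ⟨i, -, h1, rfl⟩ := h
  obtain ⟨j, -, h2, rfl⟩ := h'
  exact congrArg Subtype.val ((vT_mul h1 h2).trans ((Nat.xor_comm i j) ▸ (vT_mul h2 h1).symm))

theorem t_mem : tM ∈ Vk 2 := ⟨1, by decide, by decide, fT ▸ congrArg _ (H44.ev_single f 85)⟩
theorem u_mem : uM ∈ Vk 2 := ⟨2, by decide, by decide, fU ▸ congrArg _ (H44.ev_single f 86)⟩
theorem w_mem : wM ∈ Vk 3 := ⟨4, by decide, by decide, fW ▸ congrArg _ (H44.ev_single f 87)⟩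
theorem x_mem : xM ∈ Vk 4 := ⟨8, by decide, by decide, fX ▸ congrArg _ (H44.ev_single f 88)⟩

theorem Vk_le_of {k m : ℕ} {K : Subgroup Hs} (h : ∀ x, 85 ≤ x → x ≤ m → (f x : Hs) ∈ K)
    (e : allN (fun i => bor (Nat.ble (Nat.pow 2 k) i)
      (allL (fun x => band (Nat.ble 85 x) (Nat.ble x m)) (vw i))) 16 = true) : Vk k ≤ K := by
  rintro _ ⟨i, h1, h2, rfl⟩
  rcases bor_iff.1 (allN_iff.1 e i h2) with e | e
  · exact absurd (Nat.le_of_ble_eq_true e) (not_le.2 h1)
  · refine H44.ev_mem (K := K.comap TT.subtype) fun x hx => ?_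
    obtain ⟨e1, e2⟩ := band_eq_true.1 (allL_iff.1 e x hx)
    exact h x (Nat.le_of_ble_eq_true e1) (Nat.le_of_ble_eq_true e2)

theorem V2_le {K : Subgroup Hs} (h1 : tM ∈ K) (h2 : uM ∈ K) : Vk 2 ≤ K :=
  Vk_le_of (m := 86) (fun x _ _ => by
    interval_cases x
    exacts [fT ▸ h1, fU ▸ h2]) (by decide +kernel)

theorem V3_le {K : Subgroup Hs} (h1 : tM ∈ K) (h2 : uM ∈ K) (h3 : wM ∈ K) : Vk 3 ≤ K :=
  Vk_le_of (m := 87) (fun x _ _ => by
    interval_cases x
    exacts [fT ▸ h1, fU ▸ h2, fW ▸ h3]) (by decide +kernel)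

theorem V4_le {K : Subgroup Hs} (h1 : tM ∈ K) (h2 : uM ∈ K) (h3 : wM ∈ K) (h4 : xM ∈ K) :
    Vk 4 ≤ K :=
  Vk_le_of (m := 88) (fun x _ _ => by
    interval_cases x
    exacts [fT ▸ h1, fU ▸ h2, fW ▸ h3, fX ▸ h4]) (by decide +kernel)

theorem card_V3 : Nat.card (Vk 3) = 8 := by
  rw [← Nat.card_congr (Equiv.ofBijective (fun i : Fin 8 => (⟨vT i, i, i.2, by omega, rfl⟩ : Vk 3))
    ⟨fun i j e => Fin.ext (vT_inj (by omega) (by omega) (Subtype.ext
      (congrArg (fun z : Vk 3 => (z : Hs)) e))),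
      fun ⟨_, i, h, _, e⟩ => ⟨⟨i, h⟩, Subtype.ext e⟩⟩)]
  simp

theorem mem_V4 {a : Hs} (hu : Commute a uM) (hw : Commute a wM) (hx : Commute a xM) :
    a ∈ Vk 4 := by
  have h : Vs ≤ (Vk 4).map Hs.subtype :=
    grp_cons_le ⟨_, Vk_mono (by decide) t_mem, rfl⟩ (grp_cons_le ⟨_, Vk_mono (by decide) u_mem, rfl⟩
      (grp_cons_le ⟨_, Vk_mono (by decide) w_mem, rfl⟩ (grp_cons_le ⟨_, x_mem, rfl⟩ (grp_nil_le _))))
  obtain ⟨b, hb, e⟩ := h (mem_V_of_comm a.2 (congrArg Subtype.val hu) (congrArg Subtype.val hw)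
    (congrArg Subtype.val hx))
  rwa [← show b = a from Subtype.ext e]

theorem nfix_V {a : Hs} (h : a ∈ Vk 4) (h1 : a ≠ 1) : nfix a.1 = 36 := by
  have key : allN (fun i => Nat.beq (pcnt 276 (zeroM 276 9
      (Nat.xor (cw (vw (Nat.succ i))) (lab 276 9)))) 36) 15 = true := by decide +kernel
  obtain ⟨i, -, h2, rfl⟩ := h
  cases i with
  | zero => exact absurd rfl h1
  | succ i => exact nfix_ev _ (allN_iff.1 key i (by omega))

theorem comm_U (c : TT) {z : Hs} (h : z ∈ Vk 2) : Commute (c : Hs) z :=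
  (mem_centralizer_singleton_iff.1 (V2_le (K := centralizer {(c : Hs)})
    (mem_centralizer_singleton_iff.2 (tM_comm _).symm)
    (mem_centralizer_singleton_iff.2 (mem_centralizer_singleton_iff.1 c.2).symm) h)).symm

/-! ### Two involutions of the second class -/

/-- An involution of the second class. -/
noncomputable def d1 : Hs := f 14
/-- An involution of the second class. -/
noncomputable def d2 : Hs := f 35

theorem eqH {l l' : List ℕ} (h : Nat.beq (cw l) (cw l') = true) :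
    ev (fun i => (f i : Hs)) l = ev (fun i => (f i : Hs)) l' :=
  (H44.map_ev TT.subtype f l).symm.trans
    ((congrArg Subtype.val (cw_iff.1 h)).trans (H44.map_ev TT.subtype f l'))

theorem d1_sq : d1 * d1 = 1 := by
  have h0 := eqH (l := [14, 14]) (l' := []) (by decide +kernel)
  simp only [ev_cons, ev_nil, mul_one] at h0
  exact h0
theorem d2_sq : d2 * d2 = 1 := by
  have h0 := eqH (l := [35, 35]) (l' := []) (by decide +kernel)
  simp only [ev_cons, ev_nil, mul_one] at h0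
  exact h0
theorem d1_d2 : Commute d1 d2 := by
  have h0 := eqH (l := [14, 35]) (l' := [35, 14]) (by decide +kernel)
  simp only [ev_cons, ev_nil, mul_one] at h0
  exact h0
theorem d1_w : Commute d1 wM := by
  have h0 := eqH (l := [14, 87]) (l' := [87, 14]) (by decide +kernel)
  simp only [ev_cons, ev_nil, mul_one, fW] at h0
  exact h0
theorem d2_x : Commute d2 xM := by
  have h0 := eqH (l := [35, 88]) (l' := [88, 35]) (by decide +kernel)
  simp only [ev_cons, ev_nil, mul_one, fX] at h0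
  exact h0
theorem d1_x : d1 * xM * d1⁻¹ = uM * xM := by
  rw [mul_inv_eq_iff_eq_mul, mul_assoc]
  have h0 := eqH (l := [14, 88]) (l' := [86, 88, 14]) (by decide +kernel)
  simp only [ev_cons, ev_nil, mul_one, fX, fU] at h0
  exact h0
theorem d2_w : d2 * wM * d2⁻¹ = uM * wM := by
  rw [mul_inv_eq_iff_eq_mul, mul_assoc]
  have h0 := eqH (l := [35, 87]) (l' := [86, 87, 35]) (by decide +kernel)
  simp only [ev_cons, ev_nil, mul_one, fW, fU] at h0
  exact h0
theorem nfix_d1 : nfix d1.1 = 12 := by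
  have h0 := nfix_ev [14] (m := 12) (by decide +kernel)
  simp only [ev_cons, ev_nil, mul_one] at h0
  exact h0
theorem nfix_d2 : nfix d2.1 = 12 := by
  have h0 := nfix_ev [35] (m := 12) (by decide +kernel)
  simp only [ev_cons, ev_nil, mul_one] at h0
  exact h0
theorem nfix_d3 : nfix (d1 * d2).1 = 12 := by
  have h0 := nfix_ev [14, 35] (m := 12) (by decide +kernel)
  simp only [ev_cons, ev_nil, mul_one] at h0
  exact h0

theorem nrm_V {d : TT} {k : ℕ} (hk : k = 3 ∨ k = 4) (hw : (d : Hs) * wM * (d : Hs)⁻¹ ∈ Vk 3)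
    (hx : (d : Hs) * xM * (d : Hs)⁻¹ ∈ Vk 4) : ∀ a ∈ Vk k, (d : Hs) * a * (d : Hs)⁻¹ ∈ Vk k := by
  have h : ∀ z ∈ Vk 2, (d : Hs) * z * (d : Hs)⁻¹ ∈ Vk 3 := fun z hz => by
    rw [(comm_U d hz).eq, mul_inv_cancel_right]; exact Vk_mono (by decide) hz
  rcases hk with rfl | rfl
  · exact V3_le (K := (Vk 3).comap (MulAut.conj (d : Hs)).toMonoidHom) (h _ t_mem) (h _ u_mem) hw
  · exact V4_le (K := (Vk 4).comap (MulAut.conj (d : Hs)).toMonoidHom)
      (Vk_mono (by decide) (h _ t_mem)) (Vk_mono (by decide) (h _ u_mem)) (Vk_mono (by decide) hw) hx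

theorem d1_V {k : ℕ} (hk : k = 3 ∨ k = 4) : ∀ a ∈ Vk k, d1 * a * d1⁻¹ ∈ Vk k :=
  nrm_V (d := f 14) hk (by
    change d1 * wM * d1⁻¹ ∈ _
    rw [d1_w.eq, mul_inv_cancel_right]; exact w_mem)
    (d1_x ▸ mul_mem (Vk_mono (by decide) u_mem) x_mem)

theorem d2_V {k : ℕ} (hk : k = 3 ∨ k = 4) : ∀ a ∈ Vk k, d2 * a * d2⁻¹ ∈ Vk k :=
  nrm_V (d := f 35) hk (d2_w ▸ mul_mem (Vk_mono (by decide) u_mem) w_mem) (by
    change d2 * xM * d2⁻¹ ∈ _
    rw [d2_x.eq, mul_inv_cancel_right]; exact x_mem)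

theorem grp_C : IsPGroup 2 (TT ⊓ centralizer {wM} : Subgroup Hs) := by
  refine (IsPGroup.of_card (n := 7) (G := Cs) (by rw [Cs, ← tt_c4_eq, tt_c4_card]; rfl)).comap_subtype.to_le
    (H := TT ⊓ centralizer {wM}) (K := Cs.subgroupOf Hs) fun a ha => ?_
  exact mem_C.2 ⟨mem_T.2 ⟨a.2, congrArg Subtype.val (mem_centralizer_singleton_iff.1 ha.1)⟩,
    congrArg Subtype.val (mem_centralizer_singleton_iff.1 ha.2)⟩

/-! ### The quotient by the four-group -/

/-- The four-group in its centraliser. -/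
noncomputable abbrev U' : Subgroup TT := (Vk 2).subgroupOf TT

instance U'_normal : U'.Normal := ⟨fun z hz c => by
  rw [show c * z = z * c from Subtype.ext (comm_U c hz), mul_inv_cancel_right]; exact hz⟩

/-- The quotient map. -/
noncomputable abbrev mq : TT →* TT ⧸ U' := QuotientGroup.mk' U'

/-- The letters in the quotient. -/
noncomputable def q (i : ℕ) : TT ⧸ U' := mq (f i)

theorem mq_eq {a b : TT} : mq a = mq b ↔ ∃ i < 4, a = vT i * b := by
  rw [QuotientGroup.mk'_apply, QuotientGroup.mk'_apply, QuotientGroup.eq_iff_div_mem]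
  exact ⟨fun ⟨i, h, _, e⟩ => ⟨i, h, by rw [show vT i = a / b from Subtype.ext e]; simp⟩,
    fun ⟨i, h, e⟩ => ⟨i, h, by omega, by rw [e]; simp⟩⟩

theorem anyN_of {p : ℕ → Bool} {m i : ℕ} (hi : i < m) (h : p i = true) : anyN p m = true := by
  induction m with
  | zero => omega
  | succ m ih =>
    refine bor_iff.2 ?_
    rcases Nat.lt_succ_iff_lt_or_eq.1 hi with e | rfl
    exacts [Or.inr (ih e), Or.inl h]

/-- The words are equal in the quotient. -/
noncomputable def mdB (l l' : List ℕ) : Bool :=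
  frc (cw l) fun a => anyN (fun i => Nat.beq a (cw (vw (Nat.sub 3 i) ++ l'))) 4

theorem mdB_iff {l l' : List ℕ} : mdB l l' = true ↔ ev q l = ev q l' := by
  rw [show ev q l = mq (ev f l) from (H44.map_ev _ _ _).symm,
    show ev q l' = mq (ev f l') from (H44.map_ev _ _ _).symm, mq_eq, mdB, frc_eq]
  constructor
  · intro h
    obtain ⟨i, -, e⟩ := anyN_spec h
    exact ⟨3 - i, by omega, by rw [cw_iff.1 e, ev_append]; rfl⟩
  · rintro ⟨i, hi, e⟩
    rw [vT, ← ev_append, ← cw_iff] at e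
    refine anyN_of (i := 3 - i) (by omega) ?_
    rwa [show Nat.sub 3 (3 - i) = i from Nat.sub_sub_self (by omega)]

/-- The action on the normal subgroup of order `64`. -/
noncomputable def act (k i : ℕ) : ℕ := Nat.land (Nat.shiftRight (nthN [0xffef7cefae78df6d74cf2c70beeb6caeaa689e69648e28607de75c6da6585d65544d24503ce34c2ca2481c61440c2040,
  0x1236fcedc903c17bc83e8437d52a8d2ad5720667b9f998460a577af5a885d91a4e26e5b1cd4b0b32b4f41e063fe1f9c0,
  0xd8e4697a6e411ff818bd7230ccb52c6e3f040ba95da923750fb91cad3334c8a56d6a2f451be859b96271dcf4287e7e00,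
  0xfbff7c2ca2091c6105cb3c708e282159755469b658beeb2d4d24119a7964aaba687de71d38f34cefae39df6d35083040,
  0xbf59bc31615fdedfa450e747fe5dac70654f9fdbb411e357e22c6b6c148883aa730d9290a3287b2d1098c2ae634c9680,
  0x3c67158abc781ce51daa3e705de10deb3a607d6305cbb8689eed3d283650be6f3508b458ff6b2549b048dfe92d693240,
  0xcad29597a742de83d083f607199fa144ea760dcee450bb3305ee66589bb111bf234ccaf4d6a3528bd685c2f2179f87c0,
  0x833ea9bbdd27c23ab9fad937a3bca19b5f2fe2b8b1da5b3f7cc1564422d83dc5460526c85c435e64a0d01d474e25a4c0,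
  0x517595491413c33cb1db5d37b6ebecae8a6a24a2c83cc34e69961b71f79dfbdf3fe3beb98e08629669e41c41460420c0,
  0xaa8ae965b61adf5db410614738c3cdf7ff3e4d149082286324b20aeb8ef95165579e59a4b6fb2e79c7ddc32c730c1080,
  0x5d45959669271c4185d76d373cc38df7ef3f7dc79db6eb2fe3be7a2892c8a2ba6a6996d88238624914d0c33c720810c0,
  0xd6f9bc2d1602c2a8f939474711e5cdea0a7305b488fe5b360d940af67bb419c54fe22af1ca887b3167c5ded93e253680,
  0xce0ea964a4031d439db7e937da5fec70f5460912d8a3b87205221baf88b1d66f2f7cc58511735ebbd9f4c23e6a6894c0,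
  0xa2aae979c75fc32cf11841478228e1594557e3aef938c34f9e5926453490ffdf3e24b288bedb2e65b698df5d36043080,
  0x8c46fc32bd131e0fd8a0f437f991a1476a4e6bd885d5236a26ec569817b9b4a5720a5e9d533b0bedc0e4c1722f7f89c0,
  0xb722958bd15ac2f5c8fe060750bcec6c4f23256bb119987e4ccd2b703ee4391a7605e9b9ab535297a09dde840fe277c0,
  0x18f71549b201dfeb648eae70cbba219aff350ca6505de34408b61159f305cfaa609eef74dbfb258abe311ce7544da240,
  0x3b6469b96c49dcfa105ef230a92d4d2b256d4eb334ccbb146a217de8295d8dbf040fb724f868597a60791ff6209dfe00] k) (Nat.mul 6 i)) 63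

theorem tab (c : TT ⧸ U') : ∃ k < 18, ∀ i < 64, c * q i * c⁻¹ = q (act k i) := by
  have key : allN (fun j => allN (fun i => mdB [Nat.add 82 j, i]
      [act (nthN [9, 3, 15] j) i, Nat.add 82 j]) 64) 3 = true := by decide +kernel
  have key2 : allN (fun j => allN (fun k => anyN (fun k' => allN (fun i =>
      band (Nat.ble (act k i) 63) (Nat.beq (act k' i) (act (nthN [9, 3, 15] j) (act k i)))) 64)
      18) 18) 3 = true := by decide +kernel
  have key3 : allN (fun i => Nat.beq (act 0 i) i) 64 = true := by decide +kernel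
  have h : ∀ p ∈ (grp 276 ET).toSubmonoid, ∀ hp : p ∈ Ts, ∃ k < 18, ∀ i < 64,
      mq (toT hp) * q i * (mq (toT hp))⁻¹ = q (act k i) := by
    intro p hp
    rw [grp, closure_toSubmonoid_of_finite] at hp
    induction hp using Submonoid.closure_induction_left with
    | one =>
      refine fun hp => ⟨0, by decide, fun i hi => ?_⟩
      rw [show toT hp = 1 from rfl, map_one, Nat.eq_of_beq_eq_true (allN_iff.1 key3 i hi)]
      group
    | mul_left a ha d _ ih =>
      intro hp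
      obtain ⟨o, ho, rfl⟩ := ha
      obtain ⟨j, hj, rfl⟩ := exists_getN ho
      have e1 : (f (82 + j) : Hs).1 = (getN ET j).toPerm 276 := by
        change j < 3 at hj
        interval_cases j <;> rfl
      have h1 : (getN ET j).toPerm 276 ∈ Ts := e1 ▸ mem_T.2 ⟨(f (82 + j) : Hs).2,
        congrArg Subtype.val (mem_centralizer_singleton_iff.1 (f (82 + j)).2)⟩
      have h2 : d ∈ Ts := by simpa using mul_mem (inv_mem h1) hp
      obtain ⟨k, hk, ih⟩ := ih h2
      obtain ⟨k', hk', e⟩ := anyN_spec (allN_iff.1 (allN_iff.1 key2 j hj) k hk)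
      refine ⟨k', hk', fun i hi => ?_⟩
      obtain ⟨e2, e3⟩ := band_eq_true.1 (allN_iff.1 e i hi)
      have e4 := mdB_iff.1 (allN_iff.1 (allN_iff.1 key j hj) _
        (Nat.lt_succ_of_le (Nat.le_of_ble_eq_true e2)))
      rw [show toT hp = f (82 + j) * toT h2 from Subtype.ext (Subtype.ext (congrArg (· * d) e1.symm)),
        map_mul, Nat.eq_of_beq_eq_true e3, mul_inv_rev, mul_assoc, mul_assoc,
        ← mul_assoc (q i), ← mul_assoc (mq (toT h2)), ← mul_assoc (mq (toT h2)), ih i hi,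
        ← mul_assoc, mul_inv_eq_iff_eq_mul]
      have h0 := e4
      simp only [ev_cons, ev_nil, mul_one] at h0
      exact h0
  obtain ⟨c, rfl⟩ := QuotientGroup.mk'_surjective U' c
  have hc : (c : Hs).1 ∈ Ts :=
    mem_T.2 ⟨(c : Hs).2, congrArg Subtype.val (mem_centralizer_singleton_iff.1 c.2)⟩
  exact h _ (tK_le_ET hc) hc

theorem q_ne {a b : ℕ} (h : mdB [a] [b] = false) : q a ≠ q b := fun e => by
  rw [← H44.ev_single q a, ← H44.ev_single q b, ← mdB_iff, h] at e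
  exact Bool.noConfusion e

theorem q_comm {a b : ℕ} (h : mdB [a, b] [b, a] = true) : Commute (q a) (q b) := by
  have h0 := mdB_iff.1 h
  simp only [ev_cons, ev_nil, mul_one] at h0
  exact h0

theorem q_sq {a : ℕ} (h : mdB [a, a] [] = true) : q a * q a = 1 := by
  have h0 := mdB_iff.1 h
  simp only [ev_cons, ev_nil, mul_one] at h0
  exact h0

theorem q_conj {c a b : ℕ} (h : mdB [c, a] [b, c] = true) : q c * q a * (q c)⁻¹ = q b := by
  rw [mul_inv_eq_iff_eq_mul]
  have h0 := mdB_iff.1 h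
  simp only [ev_cons, ev_nil, mul_one] at h0
  exact h0

theorem q_zero : q 0 = 1 := map_one mq

theorem q_eq {a b : ℕ} (h : mdB [a] [b] = true) : q a = q b := by
  have h0 := mdB_iff.1 h
  simp only [ev_cons, ev_nil, mul_one] at h0
  exact h0

theorem q_W : q 87 = q 1 := q_eq (by decide +kernel)

theorem act_fix {c : TT ⧸ U'} {k i : ℕ} (hk : k < 18) (hi : i ∈ [1, 12, 49, 61])
    (h : ∀ i < 64, c * q i * c⁻¹ = q (act k i)) (hc : Commute c (q i)) : act k 1 = 1 := by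
  have key : allL (fun i => band (Nat.ble i 63) (allN (fun k => bor (Nat.beq (act k 1) 1)
      (Bool.not (mdB [act k i] [i]))) 18)) [1, 12, 49, 61] = true := by decide +kernel
  obtain ⟨e1, e⟩ := band_eq_true.1 (allL_iff.1 key i hi)
  rcases bor_iff.1 (allN_iff.1 e k hk) with e | e
  · exact Nat.eq_of_beq_eq_true e
  · refine absurd ?_ (q_ne (by simpa using e))
    rw [← h i (Nat.lt_succ_of_le (Nat.le_of_ble_eq_true e1)), hc.eq, mul_inv_cancel_right]

theorem comm_of_comm {c : TT ⧸ U'} {i : ℕ} (hi : i ∈ [1, 12, 49, 61]) (hc : Commute c (q i)) :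
    Commute c (q 1) := by
  obtain ⟨k, hk, h⟩ := tab c
  have := h 1 (by decide)
  rwa [act_fix hk hi h hc, mul_inv_eq_iff_eq_mul] at this

theorem comm_conj (c : TT ⧸ U') : Commute (q 1) (c * q 1 * c⁻¹) := by
  have key : allN (fun k => mdB [1, act k 1] [act k 1, 1]) 18 = true := by decide +kernel
  obtain ⟨k, hk, h⟩ := tab c
  rw [h 1 (by decide)]
  exact q_comm (allN_iff.1 key k hk)

theorem prod_conj (c : TT ⧸ U') : c * q 1 * c⁻¹ = q 1 ∨
    ∃ c', ∃ i ∈ [1, 12, 49, 61], c' * (q 1 * (c * q 1 * c⁻¹)) * c'⁻¹ = q i := by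
  have key : allN (fun k => bor (Nat.beq (act k 1) 1) (frc (act k 1) fun j =>
      frc (nthN [0, 64, 72, 73, 0, 0, 0, 0, 0, 66, 0, 0, 0, 0, 0, 0, 0, 0, 0, 70, 0, 0, 0, 0, 0, 0, 65, 0, 0, 0, 0, 71, 0, 0, 0, 0, 0, 0, 0, 68, 0, 0, 0, 0, 0, 0, 0, 0, 0, 0, 0, 0, 0, 0, 0, 0, 69] j) fun c => anyL (fun i => mdB [c, 1, j] [i, c]) [1, 12, 49, 61])) 18 = true := by
    decide +kernel
  obtain ⟨k, hk, h⟩ := tab c
  rw [h 1 (by decide)]
  rcases bor_iff.1 (allN_iff.1 key k hk) with e | e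
  · exact Or.inl (by rw [Nat.eq_of_beq_eq_true e])
  · rw [frc_eq, frc_eq] at e
    obtain ⟨i, hi, e⟩ := anyL_iff.1 e
    have h0 := mdB_iff.1 e
    simp only [ev_cons, ev_nil, mul_one] at h0
    exact Or.inr ⟨_, i, hi, mul_inv_eq_iff_eq_mul.2 h0⟩

theorem x_conj {c : Hs} (hu : Commute c uM) (hw : Commute c wM) : c * xM * c⁻¹ * xM⁻¹ ∈ Vk 3 := by
  have key : allN (fun k => bor (Bool.not (Nat.beq (act k 1) 1))
      (bor (mdB [act k 3] [88]) (mdB [act k 3] [87, 88]))) 18 = true := by decide +kernel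
  have e3 : q 88 = q 3 := q_eq (by decide +kernel)
  let c' : TT := ⟨c, mem_centralizer_singleton_iff.2 hu⟩
  obtain ⟨k, hk, h⟩ := tab (mq c')
  have h1 := act_fix hk (i := 1) (by simp) h (by
    rw [← q_W]; exact Commute.map (show Commute c' (f 87) from Subtype.ext (by
      rw [← fW] at hw; exact hw)) mq)
  have h2 := h 3 (by decide)
  rw [← e3, q, ← map_inv, ← map_mul, ← map_mul] at h2
  have h3 : ∀ b : TT, (b : Hs) ∈ Vk 3 → mq (c' * f 88 * c'⁻¹) = mq (b * f 88) →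
      c * xM * c⁻¹ * xM⁻¹ ∈ Vk 3 := fun b hb e => by
    obtain ⟨i, hi, e⟩ := mq_eq.1 e
    have e' : c * xM * c⁻¹ = vT i * (b * xM) := fX ▸ congrArg Subtype.val e
    rw [e', ← mul_assoc, mul_inv_cancel_right]
    exact mul_mem ⟨i, by omega, by omega, rfl⟩ hb
  rcases bor_iff.1 (allN_iff.1 key k hk) with e | e
  · simp [h1] at e
  rcases bor_iff.1 e with e | e
  · exact h3 1 (one_mem _) (by rw [h2, one_mul]; exact q_eq e)
  · refine h3 (f 87) (fW ▸ w_mem) ?_
    rw [h2, map_mul]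
    have h0 := mdB_iff.1 e
    simp only [ev_cons, ev_nil, mul_one] at h0
    exact h0

theorem index_w : (centralizer {q 1}).index = 9 := by
  classical
  have key : allL (fun j => anyN (fun k => mdB [Nat.add 64 k, 1] [j, Nat.add 64 k]) 10)
    [1, 2, 3, 9, 19, 26, 31, 39, 56] = true := by decide +kernel
  have key2 : ∀ k < 18, act k 1 ∈ [1, 2, 3, 9, 19, 26, 31, 39, 56] := by decide +kernel
  have key3 : [1, 2, 3, 9, 19, 26, 31, 39, 56].Pairwise fun a b => mdB [a] [b] = false := by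
    decide +kernel
  have : {y | IsConj (q 1) y} = ([1, 2, 3, 9, 19, 26, 31, 39, 56].map q).toFinset := by
    ext y
    rw [Set.mem_ofPred_eq, Finset.mem_coe, List.mem_toFinset, List.mem_map, isConj_iff]
    constructor
    · rintro ⟨c, rfl⟩
      obtain ⟨k, hk, h⟩ := tab c
      exact ⟨_, key2 k hk, (h 1 (by decide)).symm⟩
    · rintro ⟨j, hj, rfl⟩
      obtain ⟨k, -, e⟩ := anyN_spec (allL_iff.1 key j hj)
      exact ⟨_, q_conj e⟩
  rw [← H58.ncard_conj_eq_index, this, Set.ncard_coe_finset, List.toFinset_card_of_nodup]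
  · rfl
  · exact List.pairwise_map.2 (key3.imp q_ne)

theorem mem_U {a : Hs} (h : a ∈ Vk 4) (h1 : Commute a (f 9)) (h2 : Commute a (f 19)) :
    a ∈ Vk 2 := by
  have key : allN (fun i => bor (Nat.ble i 3) (bor
      (Bool.not (Nat.beq (cw (vw i ++ [9])) (cw (9 :: vw i))))
      (Bool.not (Nat.beq (cw (vw i ++ [19])) (cw (19 :: vw i)))))) 16 = true := by decide +kernel
  obtain ⟨i, -, hi, rfl⟩ := h
  have h3 : ∀ j, Commute (vT i : Hs) (f j) → Nat.beq (cw (vw i ++ [j])) (cw (j :: vw i)) = true :=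
    fun j e => cw_iff.2 (by
      rw [ev_append, H44.ev_single, ev_cons]; exact Subtype.ext e)
  rcases bor_iff.1 (allN_iff.1 key i hi) with e | e
  · exact ⟨i, Nat.lt_succ_of_le (Nat.le_of_ble_eq_true e), hi, rfl⟩
  · simp [bor_iff, h3 9 h1, h3 19 h2] at e

end Cfsg.Agent.H55.TF
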