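import Mathlib
import Cfsg.Agent.H55.TF1
import Cfsg.Agent.H55.Co3R

/-!
# A subgroup `Co₃` containing the centraliser of an involution of the second class: local steps
-/

set_option autoImplicit false
set_option linter.unusedSectionVars false

namespace Cfsg.Agent.H55.TF

open Cfsg.Agent.H43 Cfsg.Agent.H89.Rec Equiv Subgroup C3

universe u

variable {G : Type u} [Group G] [Finite G]

theorem exists_syl_ge {X K : Subgroup G} (h : X ≤ K) (hX : IsPGroup 2 X) :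
    ∃ R, X ≤ R ∧ Syl R K := by
  obtain ⟨P, hP⟩ := (hX.comap_subtype (K := K)).exists_le_sylow
  refine ⟨(P : Subgroup K).map K.subtype, fun x hx => ⟨⟨x, h hx⟩, hP hx, rfl⟩,
    Syl.of_sylow (map_subtype_le _) P ?_⟩
  exact (comap_map_eq_self_of_injective K.subtype_injective _).symm

theorem syl_trans {R A K : Subgroup G} (h : Syl R A) (h1 : A ≤ K) (h2 : Odd (A.relIndex K)) :
    Syl R K := ⟨h.le.trans h1, h.grp, relIndex_mul_relIndex R A K h.le h1 ▸ h.odd.mul h2⟩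

theorem grp_zpowers {d : G} (h : d * d = 1) : IsPGroup 2 (zpowers d) := by
  rintro ⟨_, n, rfl⟩
  exact ⟨1, Subtype.ext (by
    change (d ^ n) ^ 2 ^ 1 = 1
    rw [pow_one, ← zpow_natCast, ← zpow_mul, mul_comm, zpow_mul, zpow_natCast, pow_two, h,
      one_zpow])⟩

/-- The subgroup `L` with the centraliser `ψ Hs` of a central involution. -/
structure Hy (ψ : Hs →* G) (L : Subgroup G) : Prop where
  inj : Function.Injective ψ
  le : ψ.range ≤ L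
  cL : ∀ g ∈ L, Commute g (ψ tM) → g ∈ ψ.range
  ut : ∃ s ∈ L, Cj ψ s uM tM
  odd : Odd (ψ.range.relIndex L)
  cv : ∀ g, Commute g (ψ vM) → g ∈ L
  nt : ∀ g, ¬ Cj ψ g tM vM
  simple : IsSimpleGroup L

/-- The second class of involutions. -/
def D (ψ : Hs →* G) (y : G) : Prop := ∃ g, g * y * g⁻¹ = ψ vM

variable {ψ : Hs →* G} {L : Subgroup G}

theorem D.conj {y : G} (h : D ψ y) (g : G) : D ψ (g * y * g⁻¹) :=
  let ⟨c, e⟩ := h; ⟨c * g⁻¹, by rw [← e]; group⟩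

theorem D.of_conj {y g : G} (h : D ψ (g * y * g⁻¹)) : D ψ y := by
  simpa [mul_assoc] using h.conj g⁻¹

theorem D.sq {y : G} (h : D ψ y) : y * y = 1 := by
  obtain ⟨c, e⟩ := h
  have := conj_sq (map_sq ψ vM_sq) c⁻¹
  rw [← e] at this
  simpa [mul_assoc] using this

theorem D_of {a : Hs} (h : a * a = 1) (h12 : nfix a.1 = 12) : D ψ (ψ a) := by
  have h1 : nfix (1 : Hs).1 = 276 := nfix_ev [] (by decide +kernel)
  have ht := nfix_V (Vk_mono (by decide) t_mem) tM_ne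
  have hu := nfix_V (Vk_mono (by decide) u_mem) (by
    rintro e; obtain ⟨c, e'⟩ := cj_tuM; rw [e, mul_one, conj_eq_one_iff] at e'; exact tM_ne e')
  rcases inv_H a h (by rintro rfl; omega) with rfl | ⟨c, rfl⟩ | ⟨c, rfl⟩
  · omega
  · exact absurd ((nfix_conj c.1 uM.1).symm.trans h12) (by omega)
  · exact ⟨ψ c⁻¹, Cj.self' (by group)⟩

theorem D1 : D ψ (ψ d1) := D_of d1_sq nfix_d1
theorem D2 : D ψ (ψ d2) := D_of d2_sq nfix_d2
theorem D3 : D ψ (ψ d1 * ψ d2) := by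
  rw [← map_mul]
  refine D_of ?_ nfix_d3
  rw [mul_assoc, ← mul_assoc d2, ← d1_d2.eq, mul_assoc, d2_sq, mul_one, d1_sq]

/-- The centraliser of `Vk k`. -/
noncomputable def K (ψ : Hs →* G) (k : ℕ) : Subgroup G := centralizer ((Vk k).map ψ : Set G)

theorem mem_K {k : ℕ} {g : G} : g ∈ K ψ k ↔ ∀ a ∈ Vk k, Commute g (ψ a) :=
  ⟨fun h a ha => (h _ ⟨a, ha, rfl⟩).symm, fun h _ ⟨a, ha, e⟩ => e ▸ (h a ha).symm⟩

theorem mem_K' {k : ℕ} {g : G} (h : Vk k ≤ (centralizer {g}).comap ψ) : g ∈ K ψ k :=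
  mem_K.2 fun _ ha => (mem_centralizer_singleton_iff.1 (h ha)).symm

theorem mem_c {g : G} {a : Hs} (h : Commute g (ψ a)) : a ∈ (centralizer {g}).comap ψ :=
  mem_centralizer_singleton_iff.2 h.symm

theorem K_anti {k l : ℕ} (h : k ≤ l) : K ψ l ≤ K ψ k :=
  fun _ hg => mem_K.2 fun a ha => mem_K.1 hg a (Vk_mono h ha)

theorem nrm_K {k : ℕ} {d : Hs} (h2 : d * d = 1) (h : ∀ a ∈ Vk k, d * a * d⁻¹ ∈ Vk k) :
    ψ d ∈ normalizer (K ψ k : Set G) := mem_nrm fun g hg => mem_K.2 fun a ha => by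
  have := commute_conj (mem_K.1 hg _ (h a ha)) (ψ d)
  rwa [(Cj.self' (ι := ψ) (v := a) (by
    rw [← mul_assoc, ← mul_assoc, h2, one_mul, mul_assoc, ← mul_inv_rev, h2, inv_one, mul_one]) :
      ψ d * _ * _ = _)] at this

namespace Hy

variable (h : Hy ψ L)
include h

theorem mem (a : Hs) : ψ a ∈ L := h.le ⟨a, rfl⟩

theorem exists_syl : ∃ S, Syl S L ∧ S ≤ ψ.range := by
  obtain ⟨S, hS, -⟩ := C3.exists_syl
  have := hS.map h.inj
  rw [← MonoidHom.range_eq_map] at this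
  exact ⟨_, syl_trans this h.le h.odd, this.le⟩

theorem cls {y : G} (hy : y ∈ L) (h2 : y * y = 1) (h1 : y ≠ 1) :
    (∃ c ∈ L, c * y * c⁻¹ = ψ tM) ∨ ∃ c ∈ L, c * y * c⁻¹ = ψ vM := by
  obtain ⟨S, hS, hle⟩ := h.exists_syl
  obtain ⟨k, hk, e⟩ := hS.exists_conj hy (n := 1) (by rw [pow_one, pow_two, h2])
  obtain ⟨a, e⟩ := hle e
  obtain ⟨s, hs, es⟩ := h.ut
  rcases inv_H a (h.inj (by rw [map_mul, e, conj_sq h2, map_one]))
    (by rintro rfl; exact h1 (by simpa using e.symm)) with rfl | ⟨c, rfl⟩ | ⟨c, rfl⟩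
  · exact Or.inl ⟨k, hk, e.symm⟩
  · refine Or.inl ⟨s * (ψ c)⁻¹ * k, mul_mem (mul_mem hs (inv_mem (h.mem c))) hk, ?_⟩
    rw [← es, show ψ uM = (ψ c)⁻¹ * (k * y * k⁻¹) * ψ c by rw [← e]; simp [mul_assoc]]; group
  · refine Or.inr ⟨(ψ c)⁻¹ * k, mul_mem (inv_mem (h.mem c)) hk, ?_⟩
    rw [show ψ vM = (ψ c)⁻¹ * (k * y * k⁻¹) * ψ c by rw [← e]; simp [mul_assoc]]; group

theorem notD_t : ¬ D ψ (ψ tM) := fun ⟨g, e⟩ => h.nt g e

theorem D_ne {y : G} (hy : D ψ y) : y ≠ 1 := by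
  rintro rfl
  obtain ⟨g, e⟩ := hy
  exact vM_ne (h.inj (by simpa using e.symm))

theorem clsD {y : G} (hy : y ∈ L) (hD : D ψ y) : ∃ c ∈ L, c * y * c⁻¹ = ψ vM :=
  (h.cls hy hD.sq (h.D_ne hD)).resolve_left fun ⟨c, _, e⟩ => h.notD_t (e ▸ hD.conj c)

theorem ctl {y g : G} (hy : y ∈ L) (hD : D ψ y) (hg : g * y * g⁻¹ ∈ L) : g ∈ L := by
  obtain ⟨c, hc, e⟩ := h.clsD hy hD
  obtain ⟨c', hc', e'⟩ := h.clsD hg (hD.conj g)
  have : c' * g * c⁻¹ ∈ L := h.cv _ (mul_inv_eq_iff_eq_mul.1 (by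
    conv_lhs => rw [← e]
    rw [← e']; group))
  simpa [mul_assoc] using mul_mem (mul_mem (inv_mem hc') this) hc

theorem ctl' {y g : G} (hy : y ∈ L) (hD : D ψ y) (hg : Commute g y) : g ∈ L :=
  h.ctl hy hD (by rwa [hg.eq, mul_inv_cancel_right])

theorem notD_V {a : Hs} (ha : a ∈ Vk 4) : ¬ D ψ (ψ a) := fun hD => by
  have h1 : a ≠ 1 := by rintro rfl; exact h.D_ne hD (map_one _)
  obtain ⟨s, hs, es⟩ := h.ut
  rcases inv_H a (Vk_sq ha) h1 with rfl | ⟨c, e⟩ | ⟨c, e⟩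
  · exact h.notD_t hD
  · rw [← (Cj.self' e : ψ c * _ * _ = _)] at hD
    exact h.notD_t (es ▸ hD.of_conj.conj s)
  · have := nfix_V ha h1
    rw [← e] at this
    exact absurd ((nfix_conj c.1 vM.1).symm.trans this) (by rw [show nfix vM.1 = 12 from nfix_v]; omega)

theorem sylL {R K : Subgroup G} (hR : Syl R (K ⊓ L)) {d : G} (hd : d ∈ R) (hD : D ψ d) :
    Syl R K := hR.of_normalizer inf_le_left fun _ hk hn =>
  ⟨hk, h.ctl (hR.le hd).2 hD (hR.le (nrm_conj hn hd)).2⟩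

theorem odd_le {O : Subgroup G} (hO : Odd (Nat.card O)) (h1 : ψ d1 ∈ normalizer (O : Set G))
    (h2 : ψ d2 ∈ normalizer (O : Set G)) : O ≤ L :=
  four_gen D1.sq D2.sq (d1_d2.map ψ) (h.D_ne D1) (h.D_ne D2)
    (fun e => h.D_ne D3 (by rw [e, D2.sq])) hO h1 h2 (fun _ _ => h.ctl' (h.mem _) D1)
    (fun _ _ => h.ctl' (h.mem _) D2) fun _ _ => h.ctl' (mul_mem (h.mem _) (h.mem _)) D3

theorem comm {a b : Hs} (e : Commute (ψ a) (ψ b)) : Commute a b :=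
  h.inj (by rw [map_mul, map_mul]; exact e)

theorem exists_K {k : ℕ} (hk : 2 ≤ k) {g : G} (hg : g ∈ K ψ k) (hL : g ∈ L) :
    ∃ c, ψ c = g ∧ ∀ a ∈ Vk k, Commute c a := by
  obtain ⟨c, rfl⟩ := h.cL g hL (mem_K.1 hg _ (Vk_mono hk t_mem))
  exact ⟨c, rfl, fun a ha => h.comm (mem_K.1 hg a ha)⟩

theorem K4_le : K ψ 4 ≤ L := by
  set V := (Vk 4).map ψ with hV
  have hVK : V ≤ K ψ 4 := by
    rintro _ ⟨a, ha, rfl⟩
    exact mem_K.2 fun b hb => (Vk_comm ha hb).map ψ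
  have hd : ψ d1 ∈ normalizer (V : Set G) :=
    mem_normalizer_of_cj fun a ha => ⟨_, d1_V (Or.inr rfl) a ha, Cj.self _ _⟩
  obtain ⟨R, h1, hR⟩ := exists_syl_ge (X := zpowers (ψ d1)) (K := normalizer (V : Set G) ⊓ L)
    (zpowers_le.2 ⟨hd, h.mem _⟩) (grp_zpowers D1.sq)
  have hR' := h.sylL hR (h1 (mem_zpowers _)) D1
  obtain ⟨R', h2, h3⟩ := exists_syl_ge hVK (fun ⟨_, a, ha, rfl⟩ => ⟨1, Subtype.ext (by
    change ψ a ^ 2 ^ 1 = 1
    rw [pow_one, pow_two, map_sq ψ (Vk_sq ha)])⟩)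
  have h4 : R' = V := by
    refine le_antisymm (fun c hc => ?_) h2
    obtain ⟨n, hn⟩ := h3.grp ⟨c, hc⟩
    obtain ⟨k, hk, e⟩ := hR'.exists_conj (centralizer_le_normalizer _ (h3.le hc)) (n := n)
      (congrArg Subtype.val hn)
    obtain ⟨a, e', ha⟩ := h.exists_K (k := 4) (by decide) (g := k * c * k⁻¹)
      (mem_K.2 fun a ha => by
        have := commute_conj (h3.le hc _ (nrm_conj (inv_mem hk) ⟨a, ha, rfl⟩)).symm k
        simpa [mul_assoc] using this) (hR.le e).2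
    exact (mem_normalizer_iff.1 hk c).2 ⟨a, mem_V4 (ha _ (Vk_mono (by decide) u_mem))
      (ha _ (Vk_mono (by decide) w_mem)) (ha _ x_mem), e'⟩
  subst h4
  obtain ⟨O, hO, h5, h6⟩ := h3.twoNil fun k hk _ r hr => (hk r hr).symm
  have h7 : ∀ d : G, d ∈ normalizer (K ψ 4 : Set G) → d ∈ normalizer (O : Set G) := fun d hd =>
    mem_nrm fun y hy => (h5 _).2 ⟨nrm_conj hd ((h5 y).1 hy).1, by
      rw [H10.orderOf_conj]; exact ((h5 y).1 hy).2⟩
  intro k hk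
  obtain ⟨o, ho, _, ⟨a, -, rfl⟩, rfl⟩ := h6 k hk
  exact mul_mem (h.odd_le hO (h7 _ (nrm_K d1_sq (d1_V (Or.inr rfl))))
    (h7 _ (nrm_K d2_sq (d2_V (Or.inr rfl)))) ho) (h.mem a)

theorem X3 {k : G} (hk : k ∈ K ψ 3) (hx : k * ψ xM * k⁻¹ ∈ L) :
    ∃ c : Hs, Commute c uM ∧ Commute c wM ∧ Cj ψ k xM (c * xM * c⁻¹) := by
  have kt := Cj.of_commute (mem_K.1 hk _ (Vk_mono (by decide) t_mem))
  have ku := Cj.of_commute (mem_K.1 hk _ (Vk_mono (by decide) u_mem))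
  have kw := Cj.of_commute (mem_K.1 hk _ w_mem)
  obtain ⟨y, hy⟩ := h.cL _ hx (kt ▸ commute_conj ((tM_comm xM).map ψ) k)
  have hc : Cj ψ k xM y := hy.symm
  have hx1 : xM ≠ 1 := fun e => x_not_mem (e ▸ one_mem _)
  rcases inv_C y (hc.comm h.inj ku xM_u) (hc.comm h.inj kw xM_w)
    ((hc.mul hc).eq_one h.inj (Vk_sq x_mem)) (hc.ne_one h.inj hx1) with e | ⟨c, h1, h2, e⟩ | ⟨c, e⟩
  · refine absurd ((hc.uniq' h.inj (Cj.of_commute ?_)).symm ▸ e) x_not_mem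
    refine (mem_centralizer_singleton_iff.1 ((Subgroup.closure_le ((centralizer {k}).comap ψ)).2 ?_ e)).symm
    rintro _ (rfl | rfl | rfl)
    exacts [mem_c kt.commute, mem_c ku.commute, mem_c kw.commute]
  · exact ⟨c, h1, h2, e ▸ hc⟩
  · exact absurd ⟨_, hc.trans (Cj.self' e).symm⟩ (h.notD_V x_mem)

theorem X3' {k : G} (hk : k ∈ K ψ 3) (hx : k * ψ xM * k⁻¹ ∈ L) : k ∈ L := by
  obtain ⟨c, h1, h2, e⟩ := h.X3 hk hx
  have : (ψ c)⁻¹ * k ∈ L := h.K4_le (mem_K' (V4_le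
    (mem_c (((tM_comm c).map ψ).inv_left.mul_left (mem_K.1 hk _ (Vk_mono (by decide) t_mem))))
    (mem_c ((h1.map ψ).inv_left.mul_left (mem_K.1 hk _ (Vk_mono (by decide) u_mem))))
    (mem_c ((h2.map ψ).inv_left.mul_left (mem_K.1 hk _ w_mem)))
    (mem_c (e.trans (Cj.self c xM).symm).commute)))
  simpa using mul_mem (h.mem c) this

theorem K3_le : K ψ 3 ≤ L := by
  set R := (TT ⊓ centralizer {wM} : Subgroup Hs).map ψ with hR
  have hm : ∀ c : Hs, Commute c uM → Commute c wM → ψ c ∈ R := fun c h1 h2 =>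
    ⟨c, ⟨mem_centralizer_singleton_iff.2 h1, mem_centralizer_singleton_iff.2 h2⟩, rfl⟩
  have h1 : K ψ 3 ⊓ L = R := by
    refine le_antisymm (fun g hg => ?_) ?_
    · obtain ⟨c, rfl, hc⟩ := h.exists_K (by decide) hg.1 hg.2
      exact hm c (hc _ (Vk_mono (by decide) u_mem)) (hc _ w_mem)
    · rintro _ ⟨c, ⟨h1, h2⟩, rfl⟩
      exact ⟨mem_K' (V3_le (mem_c ((tM_comm c).map ψ))
        (mem_c (Commute.map (mem_centralizer_singleton_iff.1 h1) ψ))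
        (mem_c (Commute.map (mem_centralizer_singleton_iff.1 h2) ψ))), h.mem c⟩
  have hp : IsPGroup 2 R := grp_C.map ψ
  have hS : Syl R (K ψ 3) := h.sylL (by rw [h1]; exact Syl.refl hp)
    (hm d1 (mem_centralizer_singleton_iff.1 (f 14).2) d1_w) D1
  intro k hk
  have := hS.quot_central (Z := (Vk 3).map ψ) (y := ψ xM) (by
      rintro _ ⟨a, ha, rfl⟩
      exact hm a (Vk_comm ha u_mem) (Vk_comm ha w_mem))
    (fun u hu k hk => (hk u hu).symm) (hm _ xM_u xM_w)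
    (by rw [map_sq ψ (Vk_sq x_mem)]; exact one_mem _)
    (fun e => x_not_mem (V3_le (subset_closure (by simp)) (subset_closure (by simp))
      (subset_closure (by simp)) ((mem_map_inj h.inj).1 e)))
    (fun O h2 h3 h4 => eq_bot_iff.2 fun y hy => eq_one_of_mem h3 hp hy (h1 ▸ ⟨h2 hy,
      h.odd_le (oc_odd _) (oc_nrm (nrm_K d1_sq (d1_V (Or.inl rfl))))
        (oc_nrm (nrm_K d2_sq (d2_V (Or.inl rfl)))) (le_oc h2 h3 h4 hy)⟩))
    (fun k hk e => by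
      obtain ⟨c, h2, h3, e⟩ := h.X3 hk (h1.ge e).2
      exact ⟨_, x_conj h2 h3, by rw [e]; simp⟩) k hk
  obtain ⟨a, -, e⟩ := this
  exact h.X3' hk (by rw [← eq_mul_inv_iff_mul_eq.1 e]; exact mul_mem (h.mem _) (h.mem _))

theorem X2 {k : G} (hk : k ∈ K ψ 2) (hx : k * ψ wM * k⁻¹ ∈ L) : k ∈ L := by
  have kt := Cj.of_commute (mem_K.1 hk _ t_mem)
  have ku := Cj.of_commute (mem_K.1 hk _ u_mem)
  obtain ⟨y, hy⟩ := h.cL _ hx (kt ▸ commute_conj ((tM_comm wM).map ψ) k)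
  have hc : Cj ψ k wM y := hy.symm
  have hw1 : wM ≠ 1 := by
    rintro e; obtain ⟨c, e'⟩ := cj_wM; obtain ⟨c', e''⟩ := cj_tuM
    rw [e, mul_one, mul_inv_cancel] at e'
    rw [← e', mul_one, conj_eq_one_iff] at e''; exact tM_ne e''
  rcases inv_T y (hc.comm h.inj ku wM_u) ((hc.mul hc).eq_one h.inj (Vk_sq w_mem))
    (hc.ne_one h.inj hw1) with rfl | rfl | rfl | ⟨c, h1, e⟩ | ⟨c, e⟩
  · exact absurd (hc.uniq' h.inj kt) w_ne.1
  · exact absurd (hc.uniq' h.inj ku) w_ne.2.1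
  · exact absurd ((hc.uniq' h.inj (kt.mul ku)).trans (tM_comm uM).symm.eq) w_ne.2.2
  · have : (ψ c)⁻¹ * k ∈ L := h.K3_le (mem_K' (V3_le
      (mem_c (((tM_comm c).map ψ).inv_left.mul_left kt.commute))
      (mem_c ((h1.map ψ).inv_left.mul_left ku.commute))
      (mem_c (hc.trans (Cj.self' e).symm).commute)))
    simpa using mul_mem (h.mem c) this
  · exact absurd ⟨_, hc.trans (Cj.self' e).symm⟩ (h.notD_V (Vk_mono (by decide) w_mem))

end Hy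

end Cfsg.Agent.H55.TF
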