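import Mathlib
import Cfsg.Agent.H55.TM8

/-!
# Normal forms in a group of class two generated by involutions over a central four-group
-/

set_option autoImplicit false
set_option maxRecDepth 200000

namespace Cfsg.Agent.H55.SzA

open Subgroup
open Cfsg.Agent.H44 (ev ev_nil ev_cons ev_append ev_single)

variable {G : Type*} [Group G]

/-- the table of commutators -/
def cz (x h : ℕ) : ℕ :=
  (([[], [], [], [], [], [0, 0, 0, 0, 3], [0, 0, 0, 0, 2, 1], [], [0, 0, 0, 0, 2, 3, 1],
    [0, 0, 0, 0, 0, 0, 0, 1], [0, 0, 0, 0, 0, 0, 0, 2, 0, 3]] : List (List ℕ)).getD x []).getD h 0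

/-- multiplication of a sorted word by a letter -/
def ins (x : ℕ) : List ℕ → ℕ × List ℕ
  | [] => (0, [x])
  | h :: l => if x < h then (0, x :: h :: l) else if x = h then (0, l) else
      ((ins x l).1 ^^^ cz x h, h :: (ins x l).2)

/-- the normal form -/
def nf : List ℕ → ℕ × List ℕ
  | [] => (0, [])
  | x :: w => match nf w with
    | (v, l) => if x < 4 then (x ^^^ v, l) else match ins x l with
      | (a, l') => (a ^^^ v, l')

/-- the normal form as a word -/
def nw (w : List ℕ) : List ℕ := match nf w with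
  | (v, l) => if v < 4 then v :: l else w

/-- the relations -/
structure YS (g cv : ℕ → G) : Prop where
  cvx : ∀ a b, cv (a ^^^ b) = cv a * cv b
  cv0 : cv 0 = 1
  lo : ∀ x < 4, g x = cv x
  hi : ∀ x, 11 ≤ x → g x = 1
  cen : ∀ a x, g x * cv a = cv a * g x
  sq : ∀ x, g x * g x = 1
  cm : ∀ x h, h < x → g x * g h = cv (cz x h) * (g h * g x)
  ne : ∀ x < 4, 0 < x → g x ≠ 1

/-- `k` acts on the letters by the table `A` -/
def Mv (g : ℕ → G) (k : G) (A : List (List ℕ)) : Prop :=
  ∀ x, k * g x * k⁻¹ = ev g (A.getD x [])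

/-- substitution -/
def sb (A : List (List ℕ)) : List ℕ → List ℕ
  | [] => []
  | x :: w => A.getD x [] ++ sb A w

/-- the image of a word -/
def ap (A : List (List ℕ)) (w : List ℕ) : List ℕ := nw (sb A w)

/-- composition of tables -/
def cmp (A B : List (List ℕ)) : List (List ℕ) := B.map (ap A)

/-- the table of an inner automorphism -/
def inn (u : List ℕ) : List (List ℕ) := (List.range 11).map fun x => nw (u ++ x :: u.reverse)

/-- a test for a word to be different from `1` -/
def sep (w : List ℕ) : Bool :=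
  [[1], [2], [3]].contains (nw w) ||
    (List.range 11).any fun x => [[1], [2], [3]].contains (nw (w ++ x :: (w.reverse ++ [x])))

/-- the words have different values -/
def dis : List (List ℕ) → Bool
  | [] => true
  | u :: L => L.all (fun v => sep (u ++ v.reverse)) && dis L

/-- a sequence of tables applied to a word -/
def run (As : List (List (List ℕ))) (w : List ℕ) : List ℕ → List ℕ
  | [] => w
  | i :: r => ap (As.getD i []) (run As w r)

theorem Mv.sb {g : ℕ → G} {k : G} {A : List (List ℕ)} (m : Mv g k A) (w : List ℕ) :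
    k * ev g w * k⁻¹ = ev g (sb A w) := by
  induction w with
  | nil => simp [SzA.sb, ev_nil]
  | cons x w ih => rw [SzA.sb, ev_append, ev_cons, ← ih, ← m x]; group

namespace YS

variable {g cv : ℕ → G} (h : YS g cv)
include h

theorem ev_ins (x : ℕ) (l : List ℕ) : g x * ev g l = cv (ins x l).1 * ev g (ins x l).2 := by
  induction l with
  | nil => simp [ins, h.cv0, ev_single, ev_nil]
  | cons a l ih =>
    rw [ins]
    split_ifs with h1 h2
    · simp [h.cv0, ev_cons]
    · subst h2
      rw [ev_cons, ← mul_assoc, h.sq, h.cv0]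
    · dsimp only
      rw [ev_cons, ev_cons, ← mul_assoc, h.cm x a (by omega), mul_assoc, mul_assoc, ih,
        Nat.xor_comm, h.cvx, ← mul_assoc (g a), h.cen]
      simp only [mul_assoc]

theorem ev_nf (w : List ℕ) : ev g w = cv (nf w).1 * ev g (nf w).2 := by
  induction w with
  | nil => simp [nf, h.cv0]
  | cons x w ih =>
    rw [nf, ev_cons, ih]
    rcases nf w with ⟨v, l⟩
    dsimp only
    split_ifs with h1
    · rw [h.cvx, h.lo x h1, mul_assoc]
    · have := h.ev_ins x l
      rcases e : ins x l with ⟨a, l'⟩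
      rw [e] at this
      dsimp only at this ⊢
      rw [← mul_assoc, h.cen, mul_assoc, this, Nat.xor_comm, h.cvx, mul_assoc]

theorem ev_nw (w : List ℕ) : ev g (nw w) = ev g w := by
  have := h.ev_nf w
  unfold nw
  rcases e : nf w with ⟨v, l⟩
  rw [e] at this
  dsimp only at this ⊢
  split_ifs with h1
  · rw [ev_cons, h.lo v h1, this]
  · rfl

theorem eq_of {u v : List ℕ} (e : (nw u == nw v) = true) : ev g u = ev g v := by
  rw [← h.ev_nw u, eq_of_beq e, h.ev_nw]

theorem ev_rev (w : List ℕ) : ev g w.reverse = (ev g w)⁻¹ := by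
  induction w with
  | nil => simp [ev_nil]
  | cons x w ih =>
    rw [List.reverse_cons, ev_append, ih, ev_single, ev_cons, mul_inv_rev,
      inv_eq_of_mul_eq_one_right (h.sq x)]

theorem mv_ap {k : G} {A : List (List ℕ)} (m : Mv g k A) (w : List ℕ) :
    k * ev g w * k⁻¹ = ev g (ap A w) := by rw [ap, h.ev_nw, m.sb]

theorem mv_cmp {k k' : G} {A B : List (List ℕ)} (m : Mv g k A) (m' : Mv g k' B) :
    Mv g (k * k') (cmp A B) := fun x => by
  have e : k * k' * g x * (k * k')⁻¹ = k * (k' * g x * k'⁻¹) * k⁻¹ := by group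
  rw [e, m' x, h.mv_ap m, cmp]
  simp only [List.getD_eq_getElem?_getD, List.getElem?_map]
  cases B[x]? with
  | none => rw [← h.mv_ap m]; simp [ev_nil]
  | some w => rfl

theorem mv_inn (u : List ℕ) : Mv g (ev g u) (inn u) := fun x => by
  by_cases hx : x < 11
  · have : (inn u).getD x [] = nw (u ++ x :: u.reverse) := by
      simp [inn, List.getD_eq_getElem?_getD, hx]
    rw [this, h.ev_nw, ev_append, ev_cons, h.ev_rev, mul_assoc]
  · have : (inn u).getD x [] = [] := by
      simp [inn, List.getD_eq_getElem?_getD, hx]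
    rw [this, h.hi x (by omega)]
    simp [ev_nil]

theorem ne_of_con {w : List ℕ} (e : [[1], [2], [3]].contains (nw w) = true) : ev g w ≠ 1 := by
  rw [← h.ev_nw]
  simp only [List.contains_eq_mem, List.mem_cons, List.not_mem_nil, or_false,
    decide_eq_true_eq] at e
  rcases e with e | e | e <;> rw [e, ev_single] <;> exact h.ne _ (by omega) (by omega)

theorem ne_of_sep {w : List ℕ} (e : sep w = true) : ev g w ≠ 1 := by
  rcases Bool.or_eq_true_iff.1 e with e | e
  · exact h.ne_of_con e
  · obtain ⟨x, -, e⟩ := List.any_eq_true.1 e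
    intro e1
    refine h.ne_of_con e ?_
    rw [ev_append, ev_cons, ev_append, h.ev_rev, e1, ev_single]
    simpa using h.sq x

theorem nodup {L : List (List ℕ)} (e : dis L = true) : (L.map (ev g)).Nodup := by
  induction L with
  | nil => simp
  | cons u L ih =>
    rw [dis, Bool.and_eq_true] at e
    refine List.nodup_cons.2 ⟨fun hm => ?_, ih e.2⟩
    obtain ⟨v, hv, e1⟩ := List.mem_map.1 hm
    refine h.ne_of_sep (List.all_eq_true.1 e.1 v hv) ?_
    rw [ev_append, h.ev_rev, e1, mul_inv_cancel]

theorem run_mem {K : Subgroup G} {As : List (List (List ℕ))} (hA : ∀ A ∈ As, ∃ k ∈ K, Mv g k A)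
    (w r : List ℕ) (hr : r.all (· < As.length) = true) :
    ∃ k ∈ K, k * ev g w * k⁻¹ = ev g (run As w r) := by
  induction r with
  | nil => exact ⟨1, one_mem _, by simp [run]⟩
  | cons i r ih =>
    rw [List.all_cons, Bool.and_eq_true, decide_eq_true_eq] at hr
    obtain ⟨k, hk, e⟩ := ih hr.2
    obtain ⟨k', hk', m⟩ := hA (As.getD i []) (by
      rw [List.getD_eq_getElem _ _ hr.1]; exact List.getElem_mem _)
    exact ⟨k' * k, mul_mem hk' hk, by rw [run, ← h.mv_ap m, ← e]; group⟩

/-- the subgroup given by a list of words -/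
def sub (L : List (List ℕ)) (e : (L.contains [0] && L.all fun u => L.contains (nw u.reverse) &&
    L.all fun v => L.contains (nw (u ++ v))) = true) : Subgroup G where
  carrier := {x | x ∈ L.map (ev g)}
  one_mem' := by
    rw [Bool.and_eq_true] at e
    exact List.mem_map.2 ⟨[0], by simpa using e.1, by rw [ev_single, h.lo 0 (by omega), h.cv0]⟩
  mul_mem' := by
    rintro a b ha hb
    obtain ⟨u, hu, rfl⟩ := List.mem_map.1 ha
    obtain ⟨v, hv, rfl⟩ := List.mem_map.1 hb
    rw [Bool.and_eq_true] at e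
    have := List.all_eq_true.1 e.2 u hu
    rw [Bool.and_eq_true] at this
    exact List.mem_map.2 ⟨nw (u ++ v), by simpa using List.all_eq_true.1 this.2 v hv,
      by rw [h.ev_nw, ev_append]⟩
  inv_mem' := by
    rintro a ha
    obtain ⟨u, hu, rfl⟩ := List.mem_map.1 ha
    rw [Bool.and_eq_true] at e
    have := List.all_eq_true.1 e.2 u hu
    rw [Bool.and_eq_true] at this
    exact List.mem_map.2 ⟨nw u.reverse, by simpa using this.1, by rw [h.ev_nw, h.ev_rev]⟩

theorem mem_H [Finite G] {k : G} {A : List (List ℕ)} (m : Mv g k A) {w0 : List ℕ}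
    {X : List (List ℕ)} (e : (ap A w0 == nw w0 && X.all fun x => X.contains (ap A x)) = true) :
    k ∈ centralizer {ev g w0} ⊓ normalizer {x | x ∈ X.map (ev g)} := by
  rw [Bool.and_eq_true] at e
  refine ⟨mem_centralizer_singleton_iff.2 ?_, mem_normalizer_fintype fun x hx => ?_⟩
  · rw [← mul_inv_eq_iff_eq_mul, h.mv_ap m, eq_of_beq e.1, h.ev_nw]
  · obtain ⟨u, hu, rfl⟩ := List.mem_map.1 hx
    exact List.mem_map.2 ⟨ap A u, by simpa using List.all_eq_true.1 e.2 u hu, (h.mv_ap m u).symm⟩

/-- counting in the centraliser of `w0` by the orbit of `x0` -/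
theorem big [Finite G] {As : List (List (List ℕ))} (hA : ∀ A ∈ As, ∃ k, Mv g k A)
    (w0 x0 : List ℕ) (Rs L X : List (List ℕ)) (e0 : (X == Rs.map (run As x0)) = true)
    (e1 : (L.contains [0] && L.all fun u => L.contains (nw u.reverse) &&
      L.all fun v => L.contains (nw (u ++ v))) = true)
    (e2 : (As ++ L.map inn).all
      (fun A => ap A w0 == nw w0 && X.all fun x => X.contains (ap A x)) = true)
    (e3 : (dis L && dis X && X.contains x0 && Rs.all (fun r => r.all (· < As.length)) &&
      L.all fun u => nw (u ++ x0) == nw (x0 ++ u)) = true) :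
    L.length * X.length ∣ Nat.card (centralizer ({ev g w0} : Set G)) := by
  simp only [Bool.and_eq_true] at e3
  obtain ⟨⟨⟨⟨d1, d2⟩, d3⟩, d4⟩, d5⟩ := e3
  have h2 := List.all_eq_true.1 e2
  obtain ⟨m, -, hm⟩ := TM.card_orb (K := centralizer {ev g w0} ⊓ normalizer {x | x ∈ X.map (ev g)})
    (C := h.sub L e1) (z := ev g x0) (fun x hx => by
      obtain ⟨u, hu, rfl⟩ := List.mem_map.1 hx
      exact h.mem_H (h.mv_inn u) (h2 _ (List.mem_append_right _ (List.mem_map_of_mem hu))))
    (fun x hx => by
      obtain ⟨u, hu, rfl⟩ := List.mem_map.1 hx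
      rw [mem_centralizer_singleton_iff, ← ev_append, ← ev_append]
      exact h.eq_of (List.all_eq_true.1 d5 u hu))
  have c1 : Nat.card (h.sub L e1) = L.length := by
    change Nat.card {x | x ∈ L.map (ev g)} = _
    rw [Nat.card_coe_set_eq, TM.ncard_list (h.nodup d1), List.length_map]
  have c2 : {y | ∃ k ∈ centralizer {ev g w0} ⊓ normalizer {x | x ∈ X.map (ev g)},
      k * ev g x0 * k⁻¹ = y} = {x | x ∈ X.map (ev g)} := by
    ext y
    constructor
    · rintro ⟨k, hk, rfl⟩
      exact (mem_set_normalizer_iff.1 hk.2 _).1 (List.mem_map_of_mem (by simpa using d3))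
    · intro hy
      obtain ⟨u, hu, rfl⟩ := List.mem_map.1 hy
      rw [eq_of_beq e0] at hu
      obtain ⟨r, hr, rfl⟩ := List.mem_map.1 hu
      refine h.run_mem (fun A hA' => ?_) x0 r (List.all_eq_true.1 d4 r hr)
      obtain ⟨k, m⟩ := hA A hA'
      exact ⟨k, h.mem_H m (h2 _ (List.mem_append_left _ hA')), m⟩
  rw [c1, c2, TM.ncard_list (h.nodup d2), List.length_map] at hm
  exact dvd_trans ⟨m, by rw [hm]; ring⟩ (card_dvd_of_le inf_le_left)

end YS

end Cfsg.Agent.H55.SzA
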