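import Mathlib
import Cfsg.Agent.H55.SzA

/-!
# The twisted line: the orbit computations in the group of order 512
-/

set_option autoImplicit false
set_option maxRecDepth 200000

namespace Cfsg.Agent.H55.SzA

open Subgroup
open Cfsg.Agent.H44 (ev ev_nil ev_cons ev_append ev_single)

variable {G : Type*} [Group G]

/-- the action of the element of order three -/
def tR : List (List ℕ) := [[], [2], [3], [1], [5], [6], [4], [7], [8], [10], [10, 9, 7, 2]]

/-- the action of `τ` -/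
def tT : List (List ℕ) :=
  [[], [1], [3], [2], [4], [6], [5], [7], [2, 4, 5, 6, 8], [9], [10, 9, 7, 2]]

/-- the action of the lift of `s` -/
def tS (e : ℕ) : List (List ℕ) :=
  [[], [1], [2], [3], [4], [5, 8, 7, 6, 4, e, 10, 1, 4, 9, 7, 4, 2, 4], [6, 8, 7, 6, 4, e, 10],
    [7, 4], [8, 8, 7, 6, 4, e, 10], [1, 4, 9], [8, 7, 6, 4, e, 10, 4, 8, 7, 6, 4, e]]

/-- the element that swaps the two elementary subgroups -/
def tG (e : ℕ) : List (List ℕ) :=
  cmp tR (cmp (tS e) (cmp (cmp tR tR) (cmp (tS e) (cmp (cmp tR tR) (cmp (tS e) tR)))))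

/-- the generators -/
def aS (e : ℕ) : List (List (List ℕ)) := [inn [4, 9], inn [5, 10], tT, tG e]

/-- the paths -/
def rS : List (List ℕ) := [[], [0], [1], [2], [3], [1, 0], [2, 0], [3, 0], [2, 1], [3, 1], [1, 2],
  [3, 2], [3, 1, 0], [3, 2, 0], [3, 2, 1], [3, 1, 2]]

/-- the elementary subgroup of order 32 -/
def lE : List (List ℕ) := (List.range 4).flatMap fun v =>
  [[v], [v, 8], [v, 7], [v, 7, 8], [v, 4, 5, 6], [v, 4, 5, 6, 8], [v, 4, 5, 6, 7],
    [v, 4, 5, 6, 7, 8]]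

theorem fin [Finite G] {g cv : ℕ → G} (h : YS g cv) {e : ℕ} (he : e < 2) {r τ s : G}
    (mR : Mv g r tR) (mT : Mv g τ tT) (mS : Mv g s (tS e)) :
    IsConj (g 7) (g 7 * g 8) ∧
      512 ∣ Nat.card (centralizer ({ev g [7, 2, 4, 5, 6]} : Set G)) := by
  have m2 := h.mv_cmp mR mR
  have mG := h.mv_cmp mR (h.mv_cmp mS (h.mv_cmp m2 (h.mv_cmp mS (h.mv_cmp m2 (h.mv_cmp mS mR)))))
  have mH := h.mv_cmp mS (h.mv_cmp mR (h.mv_cmp mS (h.mv_cmp m2 (h.mv_cmp mS (h.mv_cmp mR mS)))))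
  have hA : ∀ A ∈ aS e, ∃ k, Mv g k A := by
    simp only [aS, List.mem_cons, List.not_mem_nil, or_false]
    rintro A (rfl | rfl | rfl | rfl)
    exacts [⟨_, h.mv_inn _⟩, ⟨_, h.mv_inn _⟩, ⟨_, mT⟩, ⟨_, mG⟩]
  have e78 : g 7 * g 8 = ev g [7, 8] := by rw [ev_cons, ev_single]
  have key : ∀ {k : G} {A : List (List ℕ)}, Mv g k A → (nw (ap A [7]) == nw [7, 8]) = true →
      IsConj (g 7) (g 7 * g 8) := fun {k A} m e => isConj_iff.2 ⟨k, by
    rw [e78, ← h.eq_of e, ← h.mv_ap m, ev_single]⟩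
  interval_cases e
  · exact ⟨key (h.mv_cmp (h.mv_inn [4]) mH) (by decide +kernel),
      h.big hA [7, 2, 4, 5, 6] [0, 8] rS lE (rS.map (run (aS 0) [0, 8]))
      (beq_self_eq_true _) (by decide +kernel) (by decide +kernel) (by decide +kernel)⟩
  · exact ⟨key mH (by decide +kernel),
      h.big hA [7, 2, 4, 5, 6] [0, 8] rS lE (rS.map (run (aS 1) [0, 8]))
      (beq_self_eq_true _) (by decide +kernel) (by decide +kernel) (by decide +kernel)⟩

end Cfsg.Agent.H55.SzA
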