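import Mathlib
import Cfsg.Agent.H46.J1Defs
import Cfsg.Agent.H10.GHMod2
import Cfsg.Agent.H1.Card

/-!
# The two extensions of `Q₈ ∘ Q₈` by an involution
-/

set_option autoImplicit false

namespace Cfsg.Agent.H55.JG4a

open Subgroup Cfsg.Agent.H46.S94 Cfsg.Agent.H8 Cfsg.Agent.H8.GHO Cfsg.Agent.H10.GHM
open scoped Pointwise

universe u

theorem q8 : ∀ z : QuaternionGroup 2, z ≠ 1 → (∀ w, w * z = z * w) → z * z = 1 ∧
    (∀ x, x ≠ 1 → x ≠ z → x * x = z) ∧
    (∀ x y, x ≠ 1 → x ≠ z → y ≠ 1 → y ≠ z → y * x⁻¹ ≠ 1 → y * x⁻¹ ≠ z → y * x = z * (x * y)) ∧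
    ∃ a b, a ^ 2 = z ∧ b * a = a⁻¹ * b ∧ b * b = z := by decide

variable {G : Type u} [Group G]

/-- facts about a quaternion group with central involution `z` -/
structure QF {Q : Type*} [Group Q] (z : Q) : Prop where
  zz : z * z = 1
  sq : ∀ x, x ≠ 1 → x ≠ z → x * x = z
  an : ∀ x y, x ≠ 1 → x ≠ z → y ≠ 1 → y ≠ z → y * x⁻¹ ≠ 1 → y * x⁻¹ ≠ z → y * x = z * (x * y)
  ex : ∃ a b, a ^ 2 = z ∧ b * a = a⁻¹ * b ∧ b * b = z

theorem qf {Q : Type*} [Group Q] (e : Q ≃* QuaternionGroup 2) {z : Q} (h1 : z ≠ 1)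
    (hc : ∀ w, w * z = z * w) : QF z := by
  obtain ⟨h2, h3, h4, a, b, h5, h6, h7⟩ := q8 (e z) (by simpa using h1) (fun w => by
    obtain ⟨w, rfl⟩ := e.surjective w
    rw [← map_mul, hc, map_mul])
  refine ⟨e.injective (by simpa using h2), fun x a b => e.injective ?_,
    fun x y a b c d f g => e.injective ?_, e.symm a, e.symm b, e.injective (by simpa using h5),
    e.injective (by simpa using h6), e.injective (by simpa using h7)⟩
  · simpa using h3 (e x) (by simpa using a) (by simpa using b)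
  · have := h4 (e x) (e y) (by simpa using a) (by simpa using b) (by simpa using c)
      (by simpa using d) (by rwa [← map_inv, ← map_mul, ne_eq, e.map_eq_one_iff])
      (by rwa [← map_inv, ← map_mul, ne_eq, e.apply_eq_iff_eq])
    simpa using this

theorem hom_g2 {H : Type*} [Group H] {i j k l s z : H} (zz : z * z = 1) (ss : s * s = 1)
    (ii : i * i = z) (jj : j * j = z) (kk : k * k = z) (ll : l * l = z)
    (ji : j * i = z * (i * j)) (lk : l * k = z * (k * l)) (ki : k * i = i * k)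
    (kj : k * j = j * k) (li : l * i = i * l) (lj : l * j = j * l) (si : s * i = j * s)
    (sk : s * k = l * s) :
    ∃ f : G2S (2 ^ 2) →* H, ∀ x : G2S (2 ^ 2), x.1 = jz 2 → f x = z := by
  have iz : i * z = z * i := by rw [← ii, mul_assoc]
  have jz' : j * z = z * j := by rw [← jj, mul_assoc]
  have kz : k * z = z * k := by rw [← kk, mul_assoc]
  have lz : l * z = z * l := by rw [← ll, mul_assoc]
  have sz : s * z = z * s := by rw [← ii, ← mul_assoc, si, mul_assoc, si, ← mul_assoc, jj, ii]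
  have sj : s * j = i * s := by
    rw [← mul_one (s * j), ← ss, ← mul_assoc, mul_assoc s j, ← si, ← mul_assoc, ss, one_mul]
  have sl : s * l = k * s := by
    rw [← mul_one (s * l), ← ss, ← mul_assoc, mul_assoc s l, ← sk, ← mul_assoc, ss, one_mul]
  have t : ∀ {a b c : H}, a * b = c → ∀ w, a * (b * w) = c * w := fun e w => by
    rw [← mul_assoc, e]
  have key : ∀ a b : H, (∀ w, a * w = b * w) → a = b := fun a b e => by simpa using e 1
  have p4 : ∀ x : H, x ^ 2 ^ 2 = x * x * (x * x) := fun x => by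
    rw [show 2 ^ 2 = 2 + 2 from rfl, pow_add, pow_two]
  have R := And.intro (t zz) <| And.intro (t ss) <| And.intro (t ii) <| And.intro (t jj) <|
    And.intro (t kk) <| And.intro (t ll) <| And.intro (t ji) <| And.intro (t lk) <|
    And.intro (t ki) <| And.intro (t kj) <| And.intro (t li) <| And.intro (t lj) <|
    And.intro (t si) <| And.intro (t sk) <| And.intro (t sj) <| And.intro (t sl) <|
    And.intro (t iz) <| And.intro (t jz') <| And.intro (t kz) <| And.intro (t lz) (t sz)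
  obtain ⟨X, hX, hX'⟩ := exists_pow_fun (n := 2 ^ 2) (a := i * k * s) (by
    rw [p4]; exact key _ _ fun w => by simp only [mul_assoc, R, one_mul])
  obtain ⟨Y, hY, hY'⟩ := exists_pow_fun (n := 2 ^ 2) (a := j * k * s) (by
    rw [p4]; exact key _ _ fun w => by simp only [mul_assoc, R, one_mul])
  have nat : ∀ c : ZMod (2 ^ 2), ∃ n : ℕ, c = n := fun c => ⟨c.val, (ZMod.natCast_zmod_val c).symm⟩
  have neg : ∀ {Z : ZMod (2 ^ 2) → H} {x : H}, (∀ a b, Z (a + b) = Z a * Z b) →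
      (∀ n : ℕ, Z n = x ^ n) → ∀ n : ℕ, Z (-n) = x⁻¹ ^ n := fun {Z x} h h' n => by
    rw [inv_pow, eq_inv_iff_mul_eq_one, ← h', ← h, neg_add_cancel]
    simpa using h' 0
  have c : Commute (i * k * s) (j * k * s) :=
    key _ _ fun w => by simp only [mul_assoc, R, one_mul]
  have a1 : SemiconjBy (j * l) (i * k * s) (i * k * s)⁻¹ := by
    rw [SemiconjBy, eq_inv_mul_iff_mul_eq]
    exact key _ _ fun w => by simp only [mul_assoc, R, one_mul]
  have a2 : SemiconjBy (j * l) (j * k * s) (j * k * s)⁻¹ := by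
    rw [SemiconjBy, eq_inv_mul_iff_mul_eq]
    exact key _ _ fun w => by simp only [mul_assoc, R, one_mul]
  have s1 : SemiconjBy (i * (k * l)) (i * k * s) (j * k * s) :=
    key _ _ fun w => by simp only [mul_assoc, R, one_mul]
  have s2 : SemiconjBy (i * (k * l)) (j * k * s) (i * k * s) :=
    key _ _ fun w => by simp only [mul_assoc, R, one_mul]
  obtain ⟨f, hf⟩ := exists_hom_g2s (fun a b => X a * Y b) (j * l) (i * (k * l))
    (fun a b a' b' => by
      obtain ⟨n, rfl⟩ := nat b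
      obtain ⟨m, rfl⟩ := nat a'
      rw [hX, hY, mul_assoc, mul_assoc, ← mul_assoc (X m), ← mul_assoc (Y n), hX' m, hY' n,
        (c.pow_pow m n).eq])
    (fun a b => by
      obtain ⟨n, rfl⟩ := nat a
      obtain ⟨m, rfl⟩ := nat b
      rw [neg hX hX', neg hY hY', hX', hY']
      exact ((a1.pow_right n).mul_right (a2.pow_right m)).eq)
    (fun a b => by
      obtain ⟨n, rfl⟩ := nat a
      obtain ⟨m, rfl⟩ := nat b
      rw [hX', hY', hX', hY', (c.pow_pow m n).eq]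
      exact ((s1.pow_right n).mul_right (s2.pow_right m)).eq)
    (key _ _ fun w => by simp only [mul_assoc, R, one_mul])
    (key _ _ fun w => by simp only [mul_assoc, R, one_mul])
    (key _ _ fun w => by simp only [mul_assoc, R, one_mul])
  refine ⟨f, fun x hx => ?_⟩
  rw [hf, hx]
  change X ((2 : ℕ) : ZMod (2 ^ 2)) * Y ((2 : ℕ) : ZMod (2 ^ 2)) * 1 * 1 = z
  rw [hX', hY', pow_two, pow_two]
  exact key _ _ fun w => by simp only [mul_assoc, R, one_mul]

theorem g2t {z s : G} {Q : Subgroup G} (hz : z ∈ Q) (q : QF (⟨z, hz⟩ : Q)) (h1 : z ≠ 1)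
    (h : G2T z s Q) : ∃ i ∈ Q, ∃ j ∈ Q, i * i = z ∧ j * j = z ∧ j * i = z * (i * j) ∧
      s * i = j * s := by
  obtain ⟨hs, x, hx, hn⟩ := h
  have mem : ∀ y ∈ Q, s * y * s⁻¹ ∈ Q := fun y hy => (mem_normalizer_iff.1 hs y).1 hy
  have zz : z * z = 1 := congrArg Subtype.val q.zz
  have sz : s * z * s⁻¹ = z := by
    by_contra hne
    have := congrArg Subtype.val (q.sq ⟨_, mem z hz⟩ (fun e => h1 (by
      simpa using congrArg Subtype.val e)) fun e => hne (congrArg Subtype.val e))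
    change s * z * s⁻¹ * (s * z * s⁻¹) = z at this
    rw [conj_mul, zz] at this
    exact h1 (by simpa using this.symm)
  have x1 : x ≠ 1 := by rintro rfl; simp at hn
  have xz : x ≠ z := by rintro rfl; rw [sz] at hn; simp at hn
  have y1 : s * x * s⁻¹ ≠ 1 := by simpa using x1
  have yz : s * x * s⁻¹ ≠ z := fun e => xz (by rw [← sz] at e; simpa using e)
  have ne : ∀ {a b : Q}, (a : G) ≠ b → a ≠ b := fun h e => h (congrArg _ e)
  exact ⟨x, hx, _, mem x hx, congrArg Subtype.val (q.sq ⟨x, hx⟩ (ne x1) (ne xz)),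
    congrArg Subtype.val (q.sq ⟨_, mem x hx⟩ (ne y1) (ne yz)),
    congrArg Subtype.val (q.an ⟨x, hx⟩ ⟨_, mem x hx⟩ (ne x1) (ne xz) (ne y1) (ne yz)
      (ne fun e => hn (by rw [show s * x * s⁻¹ * x⁻¹ = 1 from e]; exact one_mem _))
      (ne fun e => hn (by rw [show s * x * s⁻¹ * x⁻¹ = z from e]; exact mem_zpowers _))),
    by rw [inv_mul_cancel_right]⟩

theorem jg4a : JG4aStmt.{u} := by
  intro G _ _ F z s Q1 Q2 h
  obtain ⟨e1⟩ := h.q1
  obtain ⟨e2⟩ := h.q2
  have hz : z ∈ Q1 ⊓ Q2 := h.inter ▸ mem_zpowers z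
  have com : ∀ x ∈ Q1, ∀ y ∈ Q2, y * x = x * y := fun x hx y hy => h.com hx y hy
  have q1 := qf e1 (z := ⟨z, hz.1⟩) (fun e => h.z1 (congrArg Subtype.val e))
    fun w => Subtype.ext (com w w.2 z hz.2).symm
  have q2 := qf e2 (z := ⟨z, hz.2⟩) (fun e => h.z1 (congrArg Subtype.val e))
    fun w => Subtype.ext (com z hz.1 w w.2)
  have zz : z * z = 1 := congrArg Subtype.val q1.zz
  have l1 : Q1 ≤ Q1 ⊔ Q2 ⊔ zpowers s := le_sup_left.trans le_sup_left
  have l2 : Q2 ≤ Q1 ⊔ Q2 ⊔ zpowers s := le_sup_right.trans le_sup_left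
  have ls : s ∈ Q1 ⊔ Q2 ⊔ zpowers s := mem_sup_right (mem_zpowers s)
  have hc : ¬ 2 ^ (2 * 2 + 3) ∣ Nat.card (Q1 ⊔ Q2 ⊔ zpowers s : Subgroup G) := by
    have c1 := H1.card_sup_mul_card_inf_of_le_normalizer (h.com.trans (centralizer_le_normalizer _))
    rw [h.inter, Nat.card_zpowers, orderOf_eq_prime (p := 2) (by rw [pow_two, zz]) h.z1,
      Nat.card_congr e1.toEquiv, Nat.card_congr e2.toEquiv, Nat.card_eq_fintype_card
        (α := QuaternionGroup 2), QuaternionGroup.card] at c1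
    have c2 := H1.card_sup_mul_card_inf_of_le_normalizer (zpowers_le.2 h.sN)
    have c3 : orderOf s ≤ 2 := orderOf_le_of_pow_eq_one (by norm_num) (by rw [pow_two, h.ss])
    rw [Nat.card_zpowers, sup_comm, show Nat.card (Q1 ⊔ Q2 : Subgroup G) = 32 by omega] at c2
    intro hd
    have c4 := Nat.le_of_dvd Nat.card_pos hd
    have c5 : 0 < Nat.card (zpowers s ⊓ (Q1 ⊔ Q2) : Subgroup G) := Nat.card_pos
    have c6 := Nat.mul_le_mul c4 c5
    omega
  have fin : ∀ {M : Subgroup (DW (2 ^ 2))}, Nat.card M = 2 ^ (2 * 2 + 2) →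
      (∀ x ∈ center M, x.1 = 1 ∨ x.1 = jz 2) →
      (∃ f : M →* (Q1 ⊔ Q2 ⊔ zpowers s : Subgroup G), ∀ x : M, x.1 = jz 2 → f x ≠ 1) →
      Nonempty ((Q1 ⊔ Q2 ⊔ zpowers s : Subgroup G) ≃* M) := fun hM hZ ⟨f, hf⟩ => by
    have hp : IsPGroup 2 (⊤ : Subgroup (Q1 ⊔ Q2 ⊔ zpowers s : Subgroup G)) :=
      h.syl.isPGroup.of_equiv topEquiv.symm
    obtain ⟨e⟩ := sylow_equiv hM hZ f hf hc (hp.toSylow (by simp))
    exact ⟨topEquiv.symm.trans e⟩
  refine ⟨fun g1 g2 => ?_, fun hs => ?_⟩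
  · obtain ⟨i, hi, j, hj, ii, jj, ji, si⟩ := g2t hz.1 q1 h.z1 g1
    obtain ⟨k, hk, l, hl, kk, ll, lk, sk⟩ := g2t hz.2 q2 h.z1 g2
    obtain ⟨f, hf⟩ := hom_g2 (H := (Q1 ⊔ Q2 ⊔ zpowers s : Subgroup G)) (i := ⟨i, l1 hi⟩)
      (j := ⟨j, l1 hj⟩) (k := ⟨k, l2 hk⟩) (l := ⟨l, l2 hl⟩) (s := ⟨s, ls⟩) (z := ⟨z, l1 hz.1⟩)
      (Subtype.ext zz) (Subtype.ext h.ss) (Subtype.ext ii) (Subtype.ext jj) (Subtype.ext kk)
      (Subtype.ext ll) (Subtype.ext ji) (Subtype.ext lk) (Subtype.ext (com i hi k hk))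
      (Subtype.ext (com j hj k hk)) (Subtype.ext (com i hi l hl)) (Subtype.ext (com j hj l hl))
      (Subtype.ext si) (Subtype.ext sk)
    exact fin (card_g2s 2) (fun x hx => center_g2s le_rfl hx)
      ⟨f, fun x hx e => h.z1 (congrArg Subtype.val ((hf x hx).symm.trans e))⟩
  · have mem : ∀ y ∈ Q1, s * y * s⁻¹ ∈ Q2 := fun y hy =>
      hs ▸ smul_mem_pointwise_smul y (MulAut.conj s) Q1 hy
    have sz : s * z * s⁻¹ = z := by
      by_contra hne
      have := congrArg Subtype.val (q2.sq ⟨_, mem z hz.1⟩ (fun e => h.z1 (by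
        simpa using congrArg Subtype.val e)) fun e => hne (congrArg Subtype.val e))
      change s * z * s⁻¹ * (s * z * s⁻¹) = z at this
      rw [conj_mul, zz] at this
      exact h.z1 (by simpa using this.symm)
    obtain ⟨a, b, ha, hba, hb⟩ := q1.ex
    have si : s⁻¹ = s := inv_eq_of_mul_eq_one_right h.ss
    let ψ := (inclusion l1).noncommCoprod
      ((MulAut.conj (⟨s, ls⟩ : (Q1 ⊔ Q2 ⊔ zpowers s : Subgroup G))).toMonoidHom.comp (inclusion l1))
      fun x y => Subtype.ext (com x x.2 _ (mem y y.2)).symm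
    have hψ : ∀ x y : Q1, (ψ (x, y) : G) = x * (s * y * s⁻¹) := fun _ _ => rfl
    obtain ⟨f, hf⟩ := exists_hom_wr (m := 2) le_rfl ψ ⟨s, ls⟩ a b ⟨z, hz.1⟩ ha hba hb
      (Subtype.ext (by rw [hψ, sz]; exact zz)) q1.zz
      (fun x y => Subtype.ext (by
        change s * (ψ (x, y) : G) = ψ (y, x) * s
        rw [hψ, hψ, ← com y y.2 _ (mem x x.2), ← com x x.2 _ (mem y y.2), si]
        calc s * (s * y * s * x) = s * s * y * s * x := by group
          _ = y * s * x * (s * s) := by rw [h.ss]; group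
          _ = y * (s * x * s⁻¹) * s := by rw [si]; group
          _ = s * x * s⁻¹ * y * s := by rw [com y y.2 _ (mem x x.2)]
          _ = _ := by rw [si]))
      (Subtype.ext h.ss)
    refine fin (card_sps one_le_two) (fun x hx => center_sps le_rfl hx)
      ⟨f, fun x hx e => h.z1 ?_⟩
    have := congrArg Subtype.val ((hf x hx).symm.trans e)
    rw [hψ, sz] at this
    simpa using this

end Cfsg.Agent.H55.JG4a
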