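import Mathlib
import Cfsg.Agent.H55.Co3R
import Cfsg.Agent.H55.Co3H
import Cfsg.Agent.H10.Std1
import Cfsg.Agent.S0814
import Cfsg.Agent.H28.Transport
import Cfsg.Agent.H28.OutCard

/-!
# A standard subgroup `2 · Sp₆(2)` in a locally balanced group is an involution centraliser
-/

set_option autoImplicit false
set_option maxRecDepth 200000

namespace Cfsg.Agent.H55.C3

open Cfsg.Agent.H43 Cfsg.Agent.H89.Rec Cfsg.Agent.H10.Std Cfsg.Agent.H8 Equiv Subgroup
open scoped Pointwise commutatorElement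

theorem sq_mul {Γ : Type*} [Group Γ] {a b : Γ} (h : Commute a b) : a * b * (a * b) = a * a * (b * b) :=
  h.symm.mul_mul_mul_comm a b

theorem center_Sp : center Sp6.Sp = ⊥ := by
  rw [eq_bot_iff]
  intro z hz
  apply Sp6.toMat_inj
  apply H47.matrix_ext_mulVec
  intro x
  obtain ⟨u, hu, rfl⟩ := Sp6.dec_surj x
  obtain ⟨u', hu', e⟩ := Sp6.dec_surj (Matrix.mulVec (spToMat 3 (ZMod 2) z) (Sp6.dec u))
  have h1 : Sp6.g u = Sp6.g u' := by
    rw [Sp6.g, Sp6.g, e, ← Sp6.conj_tv, ← mem_center_iff.1 hz, mul_inv_cancel_right]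
  have key : ∀ u < 64, ∀ u' < 64, (∀ v < 64, Sp6.dec (Sp6.mv u v) = Sp6.dec (Sp6.mv u' v)) →
      u = u' := by decide +kernel
  rw [map_one, Matrix.one_mulVec, ← e, key u hu u' hu' fun v hv => by
    rw [← Sp6.g_mulVec hu hv, ← Sp6.g_mulVec hu' hv, h1]]

theorem eq_of_card_two {Γ : Type*} [Group Γ] {Z : Subgroup Γ} (h : Nat.card Z = 2) {t : Γ}
    (ht : t ∈ Z) (h1 : t ≠ 1) {k : Γ} (hk : k ∈ Z) : k = 1 ∨ k = t := by
  obtain ⟨y, -, hy⟩ := (Nat.card_eq_two_iff' (1 : Z)).1 h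
  by_cases h2 : k = 1
  · exact Or.inl h2
  · exact Or.inr (congrArg Subtype.val ((hy ⟨k, hk⟩ fun h => h2 (congrArg Subtype.val h)).trans
      (hy ⟨t, ht⟩ fun h => h1 (congrArg Subtype.val h)).symm))

theorem nonsplit_of_perfect {L K : Type*} [Group L] [Group K] [Group.IsPerfect L]
    (h2 : Nat.card (center L) = 2) (e : L ⧸ center L ≃* K) : IsNonsplitDoubleCover L K := by
  refine ⟨h2, ⟨e⟩, fun C hC => ?_⟩
  have h1 : commutator L ≤ C := by
    rw [commutator_def, commutator_le]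
    intro a _ b _
    obtain ⟨⟨⟨z1, h1⟩, c1⟩, rfl, -⟩ := hC.existsUnique a
    obtain ⟨⟨⟨z2, h2⟩, c2⟩, rfl, -⟩ := hC.existsUnique b
    have e1 := fun g => mem_center_iff.1 h1 g
    have e2 := fun g => mem_center_iff.1 h2 g
    have : ⁅z1 * (c1 : L), z2 * (c2 : L)⁆ = ⁅(c1 : L), (c2 : L)⁆ := by
      rw [commutatorElement_def, commutatorElement_def]
      calc z1 * c1 * (z2 * c2) * (z1 * c1)⁻¹ * (z2 * c2)⁻¹
          = z1 * (c1 * z2 * c2 * (c1 : L)⁻¹) * z1⁻¹ * ((c2 : L)⁻¹ * z2⁻¹) := by group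
        _ = z2 * (c1 * c2 * (c1 : L)⁻¹ * (c2 : L)⁻¹) * z2⁻¹ := by
          rw [← e1, mul_inv_cancel_right, e2]; group
        _ = _ := by rw [← e2, mul_inv_cancel_right]
    change ⁅z1 * (c1 : L), z2 * (c2 : L)⁆ ∈ C
    rw [this, commutatorElement_def]
    exact mul_mem (mul_mem (mul_mem c1.2 c2.2) (inv_mem c1.2)) (inv_mem c2.2)
  rw [Group.IsPerfect.commutator_eq_top, top_le_iff] at h1
  have h3 := hC.disjoint
  rw [h1, disjoint_top] at h3
  rw [h3, card_bot] at h2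
  omega

theorem exists_model {L : Type*} [Group L] [Finite L] [Group.IsPerfect L]
    (h2 : Nat.card (center L) = 2) (e : L ⧸ center L ≃* Sp6.Sp) :
    ∃ j : Hs →* L, Function.Bijective j ∧ j tM ∈ center L := by
  obtain ⟨z, hz⟩ := exists_prime_orderOf_dvd_card' (G := center L) 2 (by rw [h2])
  have htop : centralizer {(z : L)} = ⊤ := eq_top_iff.2 fun g _ =>
    mem_centralizer_singleton_iff.2 (mem_center_iff.1 z.2 g)
  let f : centralizer {(z : L)} ≃* L := (MulEquiv.subgroupCongr htop).trans topEquiv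
  haveI : Group.IsPerfect (centralizer {(z : L)}) :=
    Group.IsPerfect.ofSurjective (f := f.symm.toMonoidHom) f.symm.surjective
  have hmap : (center (centralizer {(z : L)})).map f.toMonoidHom = center L := by
    ext a
    constructor
    · rintro ⟨b, hb, rfl⟩
      exact (centerCongr f ⟨b, hb⟩).2
    · intro ha
      exact ⟨_, (centerCongr f.symm ⟨a, ha⟩).2, f.apply_symm_apply a⟩
  obtain ⟨ι, h, ht⟩ := exists_emb (t := (z : L)) (by rw [Subgroup.orderOf_coe, hz])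
    (nonsplit_of_perfect (by rw [← h2]; exact Nat.card_congr (centerCongr f).toEquiv)
      ((QuotientGroup.congr _ _ f hmap).trans e))
  refine ⟨ι, ⟨h.inj, fun g => h.cent g ?_⟩, ht ▸ z.2⟩
  rw [ht]
  exact mem_center_iff.1 z.2 g

variable {G : Type*} [Group G] [Finite G]

/-- The situation after identifying the standard subgroup with the model. -/
structure Sit (ι : Hs →* G) (L : Subgroup G) : Prop where
  ctr : Ctr L (ι tM)
  inj : Function.Injective ι
  range : ι.range = L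
  inn : ∀ x, Commute x (ι tM) → ∃ a : Hs, ∃ k ∈ centralizer (L : Set G), x = ι a * k
  cap : ∀ a, ι a ∈ centralizer (L : Set G) → a = 1 ∨ a = tM

namespace Sit

variable {ι : Hs →* G} {L : Subgroup G} (h : Sit ι L)
include h

omit [Finite G] in
theorem comm (a : Hs) {k : G} (hk : k ∈ centralizer (L : Set G)) : Commute (ι a) k :=
  comm_of_mem (h.range ▸ ⟨a, rfl⟩) hk

omit [Finite G] in
theorem comm_of {c a : Hs} {k : G} (hk : k ∈ centralizer (L : Set G))
    (e : Commute (ι c) (ι a * k)) : Commute c a := by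
  have := e.mul_right (h.comm c hk).inv_right
  rw [mul_inv_cancel_right] at this
  exact h.inj (by rw [map_mul, map_mul]; exact this)

omit [Finite G] in
theorem sq_of {a y : Hs} {k : G} (hk : k ∈ centralizer (L : Set G))
    (e : ι a * k * (ι a * k) = ι y) :
    a * a = y ∧ k * k = 1 ∨ a * a = y * tM := by
  have e1 : ι ((a * a)⁻¹ * y) = k * k := by
    rw [map_mul, map_inv, ← e, map_mul, inv_mul_eq_iff_eq_mul, mul_assoc, ← mul_assoc k,
      ← (h.comm a hk).eq]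
    group
  rcases h.cap _ (e1 ▸ mul_mem hk hk) with e2 | e2
  · exact Or.inl ⟨inv_mul_eq_one.1 e2, by rw [← e1, e2, map_one]⟩
  · right
    rw [inv_mul_eq_iff_eq_mul] at e2
    rw [e2, mul_assoc, tM_sq, mul_one]

theorem rank {g : G} (hc : Commute (g * ι tM * g⁻¹) (ι tM)) (hne : g * ι tM * g⁻¹ ≠ ι tM) :
    ∀ s ∈ MulAut.conj g • centralizer (L : Set G), Commute s (ι tM) → s * s = 1 →
      s = 1 ∨ s = g * ι tM * g⁻¹ := by
  have noK : ∀ s ∈ MulAut.conj g • centralizer (L : Set G), s ∈ centralizer (L : Set G) →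
      s * s = 1 → s = 1 := by
    intro s hs hK hss
    by_contra h1
    have h2 := norm_of_conj_mem h.ctr.std (g := g⁻¹)
      (orderOf_eq_prime (by rw [pow_two, hss]) h1) hK (by simpa using mem_conj_smul.1 hs)
    rw [h.ctr.norm_eq] at h2
    exact hne (by rw [(mem_cent1.1 (inv_mem_iff.1 h2)).eq, mul_inv_cancel_right])
  intro s hs hsz hss
  by_contra! hn
  have hs2 : orderOf s = 2 := orderOf_eq_prime (by rw [pow_two, hss]) hn.1
  have hle := h.ctr.cent_le_conj g hs2 hs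
  have huK : g * ι tM * g⁻¹ ∈ MulAut.conj g • centralizer (L : Set G) :=
    conj_mem_conj_smul.2 h.ctr.memK
  have hsu : Commute s (g * ι tM * g⁻¹) := mem_cent1.1 (hle (mem_cent1.2 (Commute.refl s)))
  have huu : g * ι tM * g⁻¹ * (g * ι tM * g⁻¹) = 1 := by
    calc g * ι tM * g⁻¹ * (g * ι tM * g⁻¹) = g * ι (tM * tM) * g⁻¹ := by rw [map_mul]; group
      _ = 1 := by rw [tM_sq, map_one]; group
  have hsu1 : s * (g * ι tM * g⁻¹) ∉ centralizer (L : Set G) := fun hK => by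
    have := noK _ (mul_mem hs huK) hK (by
      rw [sq_mul hsu, hss, huu, one_mul])
    exact hn.2 ((eq_inv_of_mul_eq_one_left this).trans (inv_eq_of_mul_eq_one_right huu))
  obtain ⟨a, k, hk, ea⟩ := h.inn _ hc
  obtain ⟨b, l, hl, eb⟩ := h.inn _ hsz
  have hK : ∀ c : Hs, c = 1 ∨ c = tM → ι c ∈ centralizer (L : Set G) := by
    rintro _ (rfl | rfl)
    · rw [map_one]; exact one_mem _
    · exact h.ctr.memK
  have hb : ¬ (b = 1 ∨ b = tM) := fun hb => hn.1 (noK s hs (eb ▸ mul_mem (hK b hb) hl) hss)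
  have hbb : b * b = 1 ∨ b * b = tM := by
    rcases h.sq_of (y := 1) hl (by rw [← eb, hss, map_one]) with e | e
    exacts [Or.inl e.1, Or.inr (by rw [e, one_mul])]
  have hba : ¬ (b * a = 1 ∨ b * a = tM) := fun hba => hsu1 (by
    have : s * (g * ι tM * g⁻¹) = ι (b * a) * (l * k) := by
      rw [ea, eb, map_mul, mul_assoc, ← mul_assoc l, ← (h.comm a hl).eq]; group
    rw [this]
    exact mul_mem (hK _ hba) (mul_mem hl hk))
  rcases zc_spec (a := a) hbb (fun e => hb (Or.inl e)) (fun e => hb (Or.inr e)) (fun c hcb =>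
    h.comm_of hk (ea ▸ mem_cent1.1 (hle (mem_cent1.2
      (eb ▸ (hcb.map ι).mul_right (h.comm c hl)))))) with e | e | e | e
  · exact hne (h.ctr.eq_of_conj_mem (ea ▸ mul_mem (hK a (Or.inl e)) hk))
  · exact hne (h.ctr.eq_of_conj_mem (ea ▸ mul_mem (hK a (Or.inr e)) hk))
  · exact hba (e ▸ hbb)
  · apply hba
    rw [e, ← mul_assoc]
    rcases hbb with e2 | e2
    · rw [e2, one_mul]; exact Or.inr rfl
    · rw [e2, tM_sq]; exact Or.inl rfl

section Four

variable (hu : ∀ s ∈ centralizer (L : Set G), s * s = 1 → s = 1 ∨ s = ι tM)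
  {k₀ : G} (hk₀ : k₀ ∈ centralizer (L : Set G)) (h4 : k₀ * k₀ = ι tM)
include hu

theorem conj_mem {g : G} (hc : Commute (g * ι tM * g⁻¹) (ι tM)) :
    ∃ y, ι y = g * ι tM * g⁻¹ := by
  have := h.ctr.conj_mem_of_uniq hu (fun x hx _ => by
    obtain ⟨a, k, hk, e⟩ := h.inn x hx
    exact ⟨ι a, h.range ▸ ⟨a, rfl⟩, k, hk, e⟩) hc
  rwa [← h.range] at this

include hk₀ h4

theorem conj_u {g : G} (hc : Commute (g * ι tM * g⁻¹) (ι tM)) (hne : g * ι tM * g⁻¹ ≠ ι tM) :
    ∃ c : Hs, Cj ι g tM (c * uM * c⁻¹) := by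
  obtain ⟨y, hy⟩ := h.conj_mem hu hc
  obtain ⟨y', hy'⟩ := h.conj_mem hu (g := g⁻¹) (by
    have := conj_comm (g := g⁻¹) hc.symm.eq rfl
    rwa [show g⁻¹ * (g * ι tM * g⁻¹) * g⁻¹⁻¹ = ι tM by group] at this)
  have h1 : Commute (g * k₀ * g⁻¹) (ι tM) :=
    conj_comm (h.comm y' hk₀).symm.eq (by rw [hy']; group)
  obtain ⟨a, k, hk, e⟩ := h.inn _ h1
  have h2 := h.sq_of (a := a) (y := y) hk (by rw [← e, hy, ← h4]; group)
  have yy : y * y = 1 := h.inj (by
    rw [map_mul, hy, map_one]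
    calc g * ι tM * g⁻¹ * (g * ι tM * g⁻¹) = g * ι (tM * tM) * g⁻¹ := by rw [map_mul]; group
      _ = 1 := by rw [tM_sq, map_one]; group)
  have y1 : y ≠ 1 := by
    rintro rfl
    rw [map_one, eq_comm, conj_eq_one_iff] at hy
    exact tM_ne (h.inj (by rw [hy, map_one]))
  have yt : y ≠ tM := by rintro rfl; exact hne hy.symm
  rcases inv_H y yy y1 with e1 | ⟨c, e1⟩ | ⟨c, e1⟩
  · exact absurd e1 yt
  · exact ⟨c, e1 ▸ hy.symm⟩
  rcases h2 with ⟨h2, -⟩ | h2
  · exact absurd (e1.trans h2.symm) (sq_ne_v a c)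
  rcases inv_H (y * tM) (by rw [sq_mul (tM_comm y), yy, tM_sq, one_mul])
    (fun e => yt ((eq_inv_of_mul_eq_one_left e).trans (inv_eq_of_mul_eq_one_right tM_sq))) with
    e2 | ⟨c', e2⟩ | ⟨c', e2⟩
  · exact absurd (mul_eq_right.1 e2) y1
  · obtain ⟨d, hd⟩ := cj_tuM
    refine ⟨c' * d⁻¹, Cj.of_eq (show Cj ι g tM y from hy.symm) rfl (Eq.symm ?_)⟩
    calc c' * d⁻¹ * uM * (c' * d⁻¹)⁻¹ = c' * tM * (uM * c'⁻¹) := by
          conv_lhs => rw [← hd]
          group
      _ = c' * uM * c'⁻¹ * tM := by rw [mul_assoc, ← (tM_comm _).eq]; group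
      _ = y := by rw [e2, mul_assoc, tM_sq, mul_one]
  · exact absurd (e2.trans h2.symm) (sq_ne_v a c')

theorem swap {g : G} (hc : Commute (g * ι tM * g⁻¹) (ι tM)) (hne : g * ι tM * g⁻¹ ≠ ι tM) :
    ∃ g, Cj ι g tM uM ∧ Cj ι g uM tM := by
  obtain ⟨c, h1⟩ := h.conj_u hu hk₀ h4 hc hne
  have h2 : Cj ι (ι c⁻¹ * g) tM uM := h1.trans (Cj.self' (by group))
  generalize ι c⁻¹ * g = g1 at h2
  obtain ⟨c', h3⟩ := h.conj_u hu hk₀ h4 (g := g1⁻¹)
    (conj_comm ((tM_comm uM).map ι).symm.eq h2.symm)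
    (fun e => uM_ne_t (Cj.uniq' h.inj h2.symm e))
  exact ⟨g1 * ι c', (Cj.self' (by rw [(tM_comm c').eq, mul_inv_cancel_right])).trans h2,
    (Cj.self c' uM).trans h3.symm'⟩

omit hk₀ h4 in
theorem mem_W_of {J : Subgroup G} (h1 : ∀ x ∈ J, Commute x (ι tM) ∧ Commute x (ι uM))
    (h2 : ∀ d, Commute d (ι tM) → Commute d (ι uM) → ∀ x ∈ J, d * x * d⁻¹ ∈ J)
    (h3 : ∀ x ∈ J, x * x = 1 → x = 1 ∨ x = ι uM) {x : G} (hx : x ∈ J) (hxx : x * x = ι uM) :
    ∃ a : Hs, (a : P) ∈ grp 276 EW ∧ a * a = uM ∧ x = ι a := by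
  obtain ⟨a, k, hk, e⟩ := h.inn _ (h1 x hx).1
  have ha : Commute uM a := h.comm_of hk (e ▸ (h1 x hx).2.symm)
  have haT : (a : P) ∈ Ts := mem_T.2 ⟨a.2, congrArg Subtype.val ha.symm⟩
  have key : ∀ {R : Subgroup P} {s : Hs}, QN R s → s * s = 1 → s ≠ 1 → s ≠ uM →
      ∀ r ∈ R, r * a = a * r := by
    intro R s hR hs hs1 hsu r hr
    let r' : Hs := ⟨r, T_le_H (hR.le hr)⟩
    have hρ : (a : P) * r * (a : P)⁻¹ * r⁻¹ ∈ R := mul_mem (hR.norm _ haT r hr) (inv_mem hr)
    have hJ : ι (a * r' * a⁻¹ * r'⁻¹) ∈ J := by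
      have : ι (a * r' * a⁻¹ * r'⁻¹) = x * (ι r' * x⁻¹ * (ι r')⁻¹) := by
        rw [e, map_mul, map_mul, map_mul, map_inv, map_inv]
        calc ι a * ι r' * (ι a)⁻¹ * (ι r')⁻¹ = ι a * (ι r' * k) * k⁻¹ * (ι a)⁻¹ * (ι r')⁻¹ := by
              group
          _ = _ := by rw [(h.comm r' hk).eq]; group
      rw [this]
      exact mul_mem hx (h2 _ ((tM_comm r').map ι)
        (Commute.map (show Commute r' uM from Subtype.ext (mem_T.1 (hR.le hr)).2) ι) _ (inv_mem hx))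
    have hns : ι s ∉ J := fun hsJ => by
      rcases h3 _ hsJ (by rw [← map_mul, hs, map_one]) with e | e
      · exact hs1 (h.inj (by rw [e, map_one]))
      · exact hsu (h.inj e)
    rcases hR.sq _ hρ with e1 | e1 | e1
    · exact (mul_inv_eq_iff_eq_mul.1 (mul_inv_eq_one.1 e1)).symm
    · exact absurd ((show a * r' * a⁻¹ * r'⁻¹ = s from Subtype.ext e1) ▸ hJ) hns
    · refine absurd ?_ hns
      rw [← show a * r' * a⁻¹ * r'⁻¹ * (a * r' * a⁻¹ * r'⁻¹) = s from Subtype.ext e1, map_mul]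
      exact mul_mem hJ hJ
  have uu : uM * uM = 1 := Subtype.ext (V_sq u_V)
  have hW : (a : P) ∈ grp 276 EW := mem_W a.2 (key (s := tM) qn_t tM_sq tM_ne uM_ne_t.symm)
    (key (s := tM * uM) qn_o (Subtype.ext (V_sq (mul_mem t_V u_V)))
      (fun e => uM_ne_t ((eq_inv_of_mul_eq_one_right e).trans (inv_eq_of_mul_eq_one_right tM_sq)))
      (fun e => tM_ne (mul_eq_right.1 e)))
  rcases h.sq_of (a := a) (y := uM) hk (e ▸ hxx) with ⟨e1, e2⟩ | e1
  · rcases hu k hk e2 with e3 | e3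
    · exact ⟨a, hW, e1, by rw [e, e3, mul_one]⟩
    · exact ⟨a * tM, mul_mem hW t_W,
        by rw [sq_mul (tM_comm a), e1, tM_sq, mul_one], by rw [e, e3, map_mul]⟩
  · exfalso
    rcases W_sq hW with e2 | e2
    · have e3 : uM * tM = 1 := e1.symm.trans (Subtype.ext e2)
      exact uM_ne_t ((eq_inv_of_mul_eq_one_left e3).trans (inv_eq_of_mul_eq_one_right tM_sq))
    · exact tM_ne (mul_eq_left.1 (e1.symm.trans (Subtype.ext e2)))

theorem no_four {g : G} (hc : Commute (g * ι tM * g⁻¹) (ι tM)) (hne : g * ι tM * g⁻¹ ≠ ι tM) :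
    False := by
  obtain ⟨g, g1, g2⟩ := h.swap hu hk₀ h4 hc hne
  have key : ∀ J : Subgroup G, (∀ x ∈ J, Commute x (ι tM) ∧ Commute x (ι uM)) →
      (∀ d, Commute d (ι tM) → Commute d (ι uM) → ∀ x ∈ J, d * x * d⁻¹ ∈ J) →
      (∀ x ∈ J, x * x = 1 → x = 1 ∨ x = ι tM) → ∀ x ∈ J, x * x = ι tM →
      ∃ a : Hs, (a : P) ∈ grp 276 EW ∧ a * a = uM ∧ g * x * g⁻¹ = ι a := by
    intro J h1 h2 h3 x hx hxx
    refine h.mem_W_of hu (J := J.map (MulAut.conj g).toMonoidHom) ?_ ?_ ?_ ⟨x, hx, rfl⟩ ?_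
    · rintro _ ⟨x, hx, rfl⟩
      exact ⟨conj_comm (h1 x hx).2.eq g2, conj_comm (h1 x hx).1.eq g1⟩
    · rintro d d1 d2 _ ⟨x, hx, rfl⟩
      refine ⟨_, h2 (g⁻¹ * d * g⁻¹⁻¹) (conj_comm d2.eq g1.symm) (conj_comm d1.eq g2.symm) x hx, ?_⟩
      simp [mul_assoc]
    · rintro _ ⟨x, hx, rfl⟩ e
      rcases h3 x hx (by rw [← map_mul] at e; simpa using e) with e | e
      · exact Or.inl (by rw [e, map_one])
      · exact Or.inr (by rw [e]; exact g1)
    · rw [← g1, ← hxx]; group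
  obtain ⟨a0, w0, s0, e0⟩ := key (centralizer (L : Set G))
    (fun x hx => ⟨(h.comm _ hx).symm, (h.comm _ hx).symm⟩)
    (fun d d1 _ x hx => by
      have hd : d ∈ normalizer (L : Set G) := h.ctr.norm_eq ▸ mem_cent1.2 d1
      rw [h.ctr.std.2.2.2] at hd
      exact (mem_normalizer_iff.1 hd x).1 hx) hu k₀ hk₀ h4
  have kR := key ((Rt.comap Hs.subtype).map ι)
    (by
      rintro _ ⟨r, hr, rfl⟩
      exact ⟨(tM_comm r).map ι,
        Commute.map (show Commute r uM from Subtype.ext (mem_T.1 (qn_t.le hr)).2) ι⟩)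
    (by
      rintro d d1 d2 _ ⟨r, hr, rfl⟩
      obtain ⟨a, k, hk, e⟩ := h.inn _ d1
      have ha : Commute uM a := h.comm_of hk (e ▸ d2.symm)
      refine ⟨a * r * a⁻¹, qn_t.norm _ (mem_T.2 ⟨a.2, congrArg Subtype.val ha.symm⟩) _ hr, ?_⟩
      rw [e, map_mul, map_mul, map_inv]
      calc ι a * ι r * (ι a)⁻¹ = ι a * (ι r * k) * k⁻¹ * (ι a)⁻¹ := by group
        _ = _ := by rw [(h.comm r hk).eq]; group)
    (by
      rintro _ ⟨r, hr, rfl⟩ e
      have e1 : r * r = 1 := h.inj (by rw [map_mul, e, map_one])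
      rcases qn_t.sq _ hr with e2 | e2 | e2
      · exact Or.inl (by rw [show r = 1 from Subtype.ext e2, map_one])
      · exact Or.inr (by rw [show r = tM from Subtype.ext e2])
      · exact absurd ((show r * r = tM from Subtype.ext e2).symm.trans e1) tM_ne)
  have m1 : N g667 ∈ Rt := getN_mem_grp 276 _ 0
  have m2 : N g431 ∈ Rt := getN_mem_grp 276 _ 1
  let r1 : Hs := ⟨_, T_le_H (qn_t.le m1)⟩
  let r2 : Hs := ⟨_, T_le_H (qn_t.le m2)⟩
  obtain ⟨a1, w1, -, e1⟩ := kR (ι r1) ⟨r1, m1, rfl⟩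
    (by rw [← map_mul, show r1 * r1 = tM from Subtype.ext ra_sq])
  obtain ⟨a2, w2, -, e2⟩ := kR (ι r2) ⟨r2, m2, rfl⟩
    (by rw [← map_mul, show r2 * r2 = tM from Subtype.ext rb_sq])
  have c0 : ∀ {r a : Hs}, g * ι r * g⁻¹ = ι a → (a0 : P) * a = a * a0 := by
    intro r a e
    have := conj_comm (g := g) (h.comm r hk₀).symm.eq e
    rw [e0, ← map_mul, ← map_mul] at this
    exact congrArg Subtype.val (h.inj this)
  have c1 : Commute a1 a2 :=
    Subtype.ext (W_comm w0 w1 w2 (congrArg Subtype.val s0) (c0 e1) (c0 e2))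
  exact ra_rb (congrArg Subtype.val (Cj.comm h.inj (Cj.symm e1) (Cj.symm e2) c1))

end Four

theorem emb (hO : oddCore G = ⊥) (hn : ¬ L.Normal) (hbal : centralizerPPrimeCore 2 (ι tM) = ⊥) :
    Emb ι tM := by
  obtain ⟨g, hc, hne⟩ := exists_conj_comm h.ctr.std hO hn h.ctr.ord h.ctr.memK
  have hrk := h.rank hc hne
  have hu : ∀ s ∈ centralizer (L : Set G), s * s = 1 → s = 1 ∨ s = ι tM := fun s hs hss =>
    h.ctr.uniq_K (h.ctr.conj_mem hc hne (fun x _ hx _ => by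
      obtain ⟨a, k, hk, e⟩ := h.inn x hx
      exact ⟨ι a, h.range ▸ ⟨a, rfl⟩, k, hk, e⟩) hrk) hne hrk hs hss
  set K := centralizer (L : Set G) with hK
  let z : K := ⟨ι tM, h.ctr.memK⟩
  have hz : orderOf z = 2 := by rw [← Subgroup.orderOf_coe]; exact h.ctr.ord
  have hzc : zpowers z ≤ center K := zpowers_le_of_mem (mem_center_iff.2 fun k =>
    Subtype.ext (h.ctr.comm_K k.2))
  haveI : (zpowers z).Normal := ⟨fun n hn g => by
    rw [mem_center_iff.1 (hzc hn) g, mul_inv_cancel_right]; exact hn⟩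
  have hcard : Nat.card (zpowers z) = 2 := by rw [Nat.card_zpowers, hz]
  have hz1 : z ≠ 1 := by rintro e; rw [e] at hz; simp at hz
  have hodd : Odd (zpowers z).index := by
    rw [← Nat.not_even_iff_odd, even_iff_two_dvd]
    intro h2
    obtain ⟨q, hq⟩ := exists_prime_orderOf_dvd_card' (G := K ⧸ zpowers z) 2 h2
    obtain ⟨k, rfl⟩ := QuotientGroup.mk_surjective q
    have h3 : k * k ∈ zpowers z := by
      rw [← QuotientGroup.eq_one_iff, QuotientGroup.mk_mul, ← pow_two, ← hq, pow_orderOf_eq_one]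
    have h5 : k ∉ zpowers z := fun hk => by
      rw [(QuotientGroup.eq_one_iff k).2 hk] at hq; simp at hq
    rcases eq_of_card_two hcard (mem_zpowers z) hz1 h3 with e | e
    · rcases hu k k.2 (congrArg Subtype.val e) with e | e
      · exact h5 ((show k = 1 from Subtype.ext e) ▸ one_mem _)
      · exact h5 ((show k = z from Subtype.ext e) ▸ mem_zpowers z)
    · exact h.no_four hu k.2 (congrArg Subtype.val e) hc hne
  obtain ⟨O, hO⟩ := exists_right_complement'_of_coprime (N := zpowers z)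
    (by rw [hcard]; exact hodd.coprime_two_left)
  have hOodd : Odd (Nat.card O) := by rwa [← hO.symm.index_eq_card]
  have hmem : ∀ k : K, Odd (orderOf k) → k ∈ O := by
    intro k hk
    obtain ⟨⟨⟨n, hn⟩, o⟩, rfl, -⟩ := hO.existsUnique k
    rcases eq_of_card_two hcard (mem_zpowers z) hz1 hn with e | e
    · subst e; simp
    · exfalso
      subst e
      have hzo : Commute z (o : K) := (mem_center_iff.1 (hzc hn) o).symm
      have e1 := pow_orderOf_eq_one (z * (o : K))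
      change (z * (o : K)) ^ orderOf (z * (o : K)) = 1 at e1
      change Odd (orderOf (z * (o : K))) at hk
      rw [hzo.mul_pow, ← pow_mod_orderOf z, hz, Nat.odd_iff.1 hk, pow_one] at e1
      have : z ∈ zpowers z ⊓ O :=
        mem_inf.2 ⟨hn, by rw [eq_inv_of_mul_eq_one_left e1]; exact inv_mem (pow_mem o.2 _)⟩
      rw [hO.disjoint.eq_bot] at this
      exact hz1 this
  have hKC : K ≤ centralizer {ι tM} := fun k hk => mem_cent1.2 (h.ctr.comm_K hk)
  have hle : (O.map K.subtype).subgroupOf (centralizer {ι tM}) ≤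
      pPrimeCore 2 (centralizer {ι tM}) := by
    refine le_sSup ⟨⟨?_⟩, ?_⟩
    · rintro ⟨_, hx⟩ ⟨o, ho, rfl⟩ ⟨d, hd⟩
      rw [← h.ctr.norm_eq, h.ctr.std.2.2.2] at hd
      refine ⟨⟨d * o * d⁻¹, (mem_normalizer_iff.1 hd _).1 o.2⟩, hmem _ ?_, rfl⟩
      rw [← Subgroup.orderOf_coe]
      change Odd (orderOf (d * (o : G) * d⁻¹))
      rw [show orderOf (d * (o : G) * d⁻¹) = orderOf (o : G) from
        (MulAut.conj d).orderOf_eq (o : G), Subgroup.orderOf_coe]
      exact hOodd.of_dvd_nat (orderOf_dvd_natCard O ho)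
    · rw [Nat.card_congr (subgroupOfEquivOfLe ((map_subtype_le O).trans hKC)).toEquiv,
        card_map_of_injective Subtype.val_injective]
      exact hOodd.coprime_two_right
  have hO1 : ∀ o ∈ O, o = 1 := by
    intro o ho
    have : (o : G) ∈ centralizerPPrimeCore 2 (ι tM) :=
      ⟨⟨o, hKC o.2⟩, hle ⟨o, ho, rfl⟩, rfl⟩
    rw [hbal] at this
    exact Subtype.ext this
  refine ⟨h.inj, fun x hx => ?_, tM_comm, tM_sq, tM_ne⟩
  obtain ⟨a, k, hk, rfl⟩ := h.inn x hx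
  obtain ⟨⟨⟨n, hn⟩, o⟩, e, -⟩ := hO.existsUnique ⟨k, hk⟩
  have e' : k = n := by
    have := congrArg Subtype.val e
    rw [hO1 o o.2, mul_one] at this
    exact this.symm
  rcases eq_of_card_two hcard (mem_zpowers z) hz1 hn with e | e
  · exact ⟨a, by rw [e', e]; simp⟩
  · exact ⟨a * tM, by rw [e', e, map_mul]⟩

end Sit

theorem exists_sit {L : Subgroup G} (hL : IsStandardSubgroup L) {F : Type*} [Field F] [Fintype F]
    (hF : Fintype.card F = 2) (h2 : Nat.card (center L) = 2) (e : L ⧸ center L ≃* PSp 3 F) :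
    ∃ ι : Hs →* G, Sit ι L := by
  haveI := hL.1.1
  let f : F ≃+* ZMod 2 := (ZMod.ringEquivOfPrime F Nat.prime_two hF).symm
  let e1 : PSp 3 (ZMod 2) ≃* Sp6.Sp :=
    (QuotientGroup.quotientMulEquivOfEq center_Sp).trans QuotientGroup.quotientBot
  let e2 : L ⧸ center L ≃* Sp6.Sp := e.trans ((H28.pspEquiv f 3).trans e1)
  obtain ⟨j, hj, hz⟩ := exists_model h2 e2
  have hj1 : j tM ≠ 1 := fun e => tM_ne (hj.1 (by rw [e, map_one]))
  have hcap : ∀ x : L, (x : G) ∈ centralizer (L : Set G) → x = 1 ∨ x = j tM := fun x hx =>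
    eq_of_card_two h2 hz hj1 (mem_center_iff.2 fun y => Subtype.ext (hx y y.2))
  have hout : Nat.card (Out (L ⧸ center L)) = 1 := by
    have hc : center (L ⧸ center L) = ⊥ := by
      rw [eq_bot_iff]
      intro a ha
      have : e2 a ∈ center Sp6.Sp := (centerCongr e2 ⟨a, ha⟩).2
      rw [center_Sp, mem_bot] at this
      exact e2.injective (by rw [this, map_one])
    have h3 := H28.card_mulAut_of_center hc
    have h4 := S0814.result (F := F) 2 1 le_rfl (by rw [hF]; rfl) 3 (by norm_num) (by norm_num)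
    rw [Nat.card_congr (MulAut.congr e).toEquiv, h4, Nat.card_congr e.toEquiv] at h3
    have h5 : 0 < Nat.card (PSp 3 F) := Nat.card_pos
    norm_num at h3
    exact (Nat.mul_eq_right h5.ne').1 h3.symm
  have hctr : Ctr L ((L.subtype.comp j) tM) :=
    ⟨hL, by
      change orderOf ((j tM : L) : G) = 2
      rw [Subgroup.orderOf_coe]
      exact orderOf_eq_prime (by rw [pow_two, ← map_mul, tM_sq, map_one]) hj1,
    (j tM).2, fun y hy => congrArg Subtype.val (mem_center_iff.1 hz ⟨y, hy⟩),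
    fun x hx hk _ => (hcap ⟨x, hx⟩ hk).imp (congrArg Subtype.val) (congrArg Subtype.val)⟩
  refine ⟨L.subtype.comp j, hctr, Subtype.val_injective.comp hj.1, ?_, fun x hx => ?_,
    fun a ha => ?_⟩
  · rw [MonoidHom.range_comp, MonoidHom.range_eq_top.2 hj.2, ← MonoidHom.range_eq_map,
      range_subtype]
  · obtain ⟨a, ha, k, hk, rfl⟩ := inner_of_out hL.1.1 hout (hctr.norm_eq ▸ mem_cent1.2 hx)
    obtain ⟨b, hb⟩ := hj.2 ⟨a, ha⟩
    exact ⟨b, k, hk, by rw [← show ((j b : L) : G) = a from congrArg Subtype.val hb]; rfl⟩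
  · exact (hcap (j a) ha).imp (fun e => hj.1 (by rw [e, map_one])) (fun e => hj.1 e)

/-- A simple locally balanced group with a standard subgroup `2 · Sp₆(2)` is `Co₃`. -/
theorem std_Co3 [IsSimpleGroup G] (hbal : ∀ t : G, orderOf t = 2 → centralizerPPrimeCore 2 t = ⊥)
    {L : Subgroup G} (hL : IsStandardSubgroup L) {F : Type*} [Field F] [Fintype F]
    (hF : Fintype.card F = 2) (h2 : Nat.card (center L) = 2) (e : L ⧸ center L ≃* PSp 3 F) :
    Spor.IsoCo3 G := by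
  obtain ⟨ι, h⟩ := exists_sit hL hF h2 e
  have hz1 : ι tM ≠ 1 := fun e => tM_ne (h.inj (by rw [e, map_one]))
  have hO : ∀ N : Subgroup G, N.Normal → Odd (Nat.card N) → N = ⊥ := by
    intro A hA ho
    refine (IsSimpleGroup.eq_bot_or_eq_top_of_normal A hA).resolve_right fun e => ?_
    have := ho.of_dvd_nat (orderOf_dvd_natCard A (x := ι tM) (e ▸ mem_top _))
    rw [h.ctr.ord] at this
    exact absurd this (by decide)
  have hnc : ι tM ∉ center G := fun hc => by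
    rcases IsSimpleGroup.eq_bot_or_eq_top_of_normal (center G) inferInstance with e | e
    · exact hz1 (by rwa [e] at hc)
    · have m1 : N g667 ∈ Rt := getN_mem_grp 276 _ 0
      have m2 : N g431 ∈ Rt := getN_mem_grp 276 _ 1
      let r1 : Hs := ⟨_, T_le_H (qn_t.le m1)⟩
      let r2 : Hs := ⟨_, T_le_H (qn_t.le m2)⟩
      have : r1 * r2 = r2 * r1 := h.inj (by
        rw [map_mul, map_mul]; exact mem_center_iff.1 (e ▸ mem_top _) _)
      exact ra_rb (congrArg Subtype.val this)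
  have hn : ¬ L.Normal := fun hn => hnc (mem_center_iff.2 fun g =>
    mem_cent1.1 (h.ctr.norm_eq ▸ (normalizer_eq_top L ▸ mem_top g)))
  have hE := h.emb (eq_bot_iff.2 (sSup_le fun A hA =>
    (hO A hA.1 (Nat.coprime_two_right.1 hA.2)).le)) hn (hbal _ h.ctr.ord)
  refine iso_of_emb hE hO fun htop => hnc (mem_center_iff.2 fun g => ?_)
  obtain ⟨u, rfl⟩ : g ∈ ι.range := htop ▸ mem_top g
  exact hE.commute u

end Cfsg.Agent.H55.C3
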