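import Mathlib
import Cfsg.Agent.H43.Cent
import Cfsg.Agent.H55.Co3D

set_option autoImplicit false
set_option maxRecDepth 200000
set_option linter.style.longLine false

namespace Cfsg.Agent.H55.C3

open Cfsg.Agent.H43

noncomputable def zc2 : List Net := [n_u, n_t]

theorem zc2_ok : okE 276 zc2 = true := (okE_cons.2 ⟨n_u_ok, (okE_cons.2 ⟨n_t_ok, (okE_nil 276)⟩)⟩)

noncomputable def zc2_cnt_EG : List Net := [g35, g36, g37, g38, g39, g40, g41, g42, g144, n_t]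

theorem zc2_cnt_EG_ok : okE 276 zc2_cnt_EG = true := (okE_cons.2 ⟨g35_ok, (okE_cons.2 ⟨g36_ok, (okE_cons.2 ⟨g37_ok, (okE_cons.2 ⟨g38_ok, (okE_cons.2 ⟨g39_ok, (okE_cons.2 ⟨g40_ok, (okE_cons.2 ⟨g41_ok, (okE_cons.2 ⟨g42_ok, (okE_cons.2 ⟨g144_ok, (okE_cons.2 ⟨n_t_ok, (okE_nil 276)⟩)⟩)⟩)⟩)⟩)⟩)⟩)⟩)⟩)⟩)

noncomputable def Ez2 : List Net := [n_u, n_t]

theorem Ez2_ok : okE 276 Ez2 = true := (okE_cons.2 ⟨n_u_ok, (okE_cons.2 ⟨n_t_ok, (okE_nil 276)⟩)⟩)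

noncomputable def g907 : Net := (Net.cons (nat_lit 1) (nat_lit 0x110140050041450151154105141544400515114540544511444004501410444454400) (Net.cons (nat_lit 2) (nat_lit 0x102310123323300203103011033001311021333322111123101032111002121030000) (Net.cons (nat_lit 4) (nat_lit 0x2060d090d0f0d050c0d0f090d0206080d0c0b03000c03030301040a0c0b0f090208) (Net.cons (nat_lit 8) (nat_lit 0x3f001900bc009100d0005a0099006c009600d8000b009300510080000800030000) (Net.cons (nat_lit 16) (nat_lit 0xc0000ae1a000088440000083b0000f6020000bac80000b3c20000a1a800000010) (Net.cons (nat_lit 32) (nat_lit 0x2403558d000000004065ea9300000000c520128a00000000000c1068) (Net.cons (nat_lit 64) (nat_lit 0xc33b733011d53550000000000000000000000000000248c) (Net.cons (nat_lit 128) (nat_lit 0x892b0d7b488c4af4d6d8ba08bf343385) (Net.cons (nat_lit 256) (nat_lit 882685) (Net.cons (nat_lit 128) (nat_lit 365476) (Net.cons (nat_lit 64)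 (nat_lit 0xbf17499b1adf7b5d0000000000000000af6c4a30d8a99046) (Net.cons (nat_lit 32) (nat_lit 0x2e8bd9b4000000003069ffe200000000129fb327000000006c8aba9a) (Net.cons (nat_lit 16) (nat_lit 0x50000c6b90000a10e0000a5520000e5690000eac500002cbe0000a8440000c165) (Net.cons (nat_lit 8) (nat_lit 0x5f00b100b4000900c0004700b1004800a400fd009b000200cb00a4004f007300fb) (Net.cons (nat_lit 4) (nat_lit 0x202060a070d09040d0c07070d020a020b010a060205040c060b09060b0e03070e0f) (Net.cons (nat_lit 2) (nat_lit 0x132313122103322212003102323322212123130131002202231002211113223300102) (Net.cons (nat_lit 1) (nat_lit 0x110140050041450551154105141544400515114540544511444004501410444454400) Net.nil)))))))))))))))))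

theorem g907_ok : Net.ok 276 g907 = true := by decide +kernel

noncomputable def zc3 : List Net := [n_t, g907]

theorem zc3_ok : okE 276 zc3 = true := (okE_cons.2 ⟨n_t_ok, (okE_cons.2 ⟨g907_ok, (okE_nil 276)⟩)⟩)

noncomputable def g909 : Net := (Net.cons (nat_lit 1) (nat_lit 0x554400551001505511145401540500500445405551044515114101104440100011400) (Net.cons (nat_lit 2) (nat_lit 0x131003233322210103311222213010333302330330311000130133202300103320100) (Net.cons (nat_lit 4) (nat_lit 0x104080f03000e030905090e000a05050c060b0b0c00060a08010e0502070105040c) (Net.cons (nat_lit 8) (nat_lit 0xe0006c00e1003300a3009b008d007a005a0042008400e8003c002c002700c90004) (Net.cons (nat_lit 16) (nat_lit 0x62a600005306000000d30000e2b40000104400000b15000046c000006300) (Net.cons (nat_lit 32) (nat_lit 0xd06be943000000009241d35000000000491d39d8000000000008c07c) (Net.cons (nat_lit 64) (nat_lit 0x1689082205186bc100000000000000000000000000007810)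 (Net.cons (nat_lit 128) (nat_lit 0xdacf89d20014ad93e454c2e52f8cbad2) (Net.cons (nat_lit 256) (nat_lit 850942) (Net.cons (nat_lit 128) (nat_lit 323290) (Net.cons (nat_lit 64) (nat_lit 0x49c6b92bc532389b00000000000000000c78e10cdd553811) (Net.cons (nat_lit 32) (nat_lit 0xb4e7fa5900000000e9c0c1e30000000020136ecd000000002a9cd3fa) (Net.cons (nat_lit 16) (nat_lit 0x8000029a600005a2e0000124c0000a12c000043c3000007420000045c000060c4) (Net.cons (nat_lit 8) (nat_lit 0xbf007600f9003100a200d3009c006f0098005600bb00af006d00fc002600910044) (Net.cons (nat_lit 4) (nat_lit 0x4010c0f06050b0308010c0f010e04050c060a0f08000c0a0a050a050a070006040c) (Net.cons (nat_lit 2) (nat_lit 0x120113213233301102200332303210333302231031211321120012203311112220101) (Net.cons (nat_lit 1) (nat_lit 0x554400541001505511545401540400501445405151044511114111104440101011400) Net.nil)))))))))))))))))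

theorem g909_ok : Net.ok 276 g909 = true := by decide +kernel

noncomputable def V910 : List Net := [g909]

theorem V910_ok : okE 276 V910 = true := (okE_cons.2 ⟨g909_ok, (okE_nil 276)⟩)

noncomputable def V912 : List Net := []

theorem V912_ok : okE 276 V912 = true := (okE_nil 276)

noncomputable def zc3_cnt_EG : List Net := [g36, g37, g38, g39, g40, g41, g42, g35, g909]

theorem zc3_cnt_EG_ok : okE 276 zc3_cnt_EG = true := (okE_cons.2 ⟨g36_ok, (okE_cons.2 ⟨g37_ok, (okE_cons.2 ⟨g38_ok, (okE_cons.2 ⟨g39_ok, (okE_cons.2 ⟨g40_ok, (okE_cons.2 ⟨g41_ok, (okE_cons.2 ⟨g42_ok, (okE_cons.2 ⟨g35_ok, (okE_cons.2 ⟨g909_ok, (okE_nil 276)⟩)⟩)⟩)⟩)⟩)⟩)⟩)⟩)⟩)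

noncomputable def Ez3 : List Net := [n_v, n_t]

theorem Ez3_ok : okE 276 Ez3 = true := (okE_cons.2 ⟨n_v_ok, (okE_cons.2 ⟨n_t_ok, (okE_nil 276)⟩)⟩)

noncomputable def g913 : Net := (Net.cons (nat_lit 1) (nat_lit 0x54544011455455445145150544115451510100010544501554055410155544500404) (Net.cons (nat_lit 2) (nat_lit 0x231132120002313130203310202111211122131130133012312121102212132100300) (Net.cons (nat_lit 4) (nat_lit 0x20f0d030a0800080a0b020e020a060e0e020f0c050101080106090a0e0f000b0004) (Net.cons (nat_lit 8) (nat_lit 0x78006500d300b20081004100a300fd0081008f00ed0097000200d100c200810000) (Net.cons (nat_lit 16) (nat_lit 0x700002348000030c60000c483000040460000e1d2000001740000100000000100) (Net.cons (nat_lit 32) (nat_lit 0x4e986108000000000e398a5d000000001acd00de000000000008500c) (Net.cons (nat_lit 64) (nat_lit 0xb6422254c664003a000000000000000000000000000c93ca) (Net.cons (nat_lit 128) (nat_lit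 0x62ec03aa45340a91949ef15e9b5ca01c) (Net.cons (nat_lit 256) (nat_lit 0xff3de) (Net.cons (nat_lit 128) (nat_lit 479651) (Net.cons (nat_lit 64) (nat_lit 0x918affbe28fe12290000000000000000d8831d4f033c2209) (Net.cons (nat_lit 32) (nat_lit 0x711bfb300000000023ad7dc90000000051e747a800000000ca7795cf) (Net.cons (nat_lit 16) (nat_lit 0xf00009e43000044bd0000c67f000092e00000f7ba0000c47100004dbc00005ec4) (Net.cons (nat_lit 8) (nat_lit 0xba0098005c0051001a00200095007700a700cc0047000d005e0094008200d900f2) (Net.cons (nat_lit 4) (nat_lit 0x30b040904010408090508040808000b06000f0d0e0301060f0c0801050607060402) (Net.cons (nat_lit 2) (nat_lit 0x11133300310220010003303100200023300231323113221121012033102132020332) (Net.cons (nat_lit 1) (nat_lit 0x10414050514544141541055154004414415444554555454155515551404111415414) Net.nil)))))))))))))))))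

theorem g913_ok : Net.ok 276 g913 = true := by decide +kernel

noncomputable def zc7 : List Net := [g913, n_t]

theorem zc7_ok : okE 276 zc7 = true := (okE_cons.2 ⟨g913_ok, (okE_cons.2 ⟨n_t_ok, (okE_nil 276)⟩)⟩)

noncomputable def zc7_cnt_EG : List Net := [g244, n_t, g243, g38, g39, g40, g41, g42, g37, g36, g35]

theorem zc7_cnt_EG_ok : okE 276 zc7_cnt_EG = true := (okE_cons.2 ⟨g244_ok, (okE_cons.2 ⟨n_t_ok, (okE_cons.2 ⟨g243_ok, (okE_cons.2 ⟨g38_ok, (okE_cons.2 ⟨g39_ok, (okE_cons.2 ⟨g40_ok, (okE_cons.2 ⟨g41_ok, (okE_cons.2 ⟨g42_ok, (okE_cons.2 ⟨g37_ok, (okE_cons.2 ⟨g36_ok, (okE_cons.2 ⟨g35_ok, (okE_nil 276)⟩)⟩)⟩)⟩)⟩)⟩)⟩)⟩)⟩)⟩)⟩)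

noncomputable def Ez7 : List Net := [g190, n_t]

theorem Ez7_ok : okE 276 Ez7 = true := (okE_cons.2 ⟨g190_ok, (okE_cons.2 ⟨n_t_ok, (okE_nil 276)⟩)⟩)

noncomputable def zc8 : List Net := [g200]

theorem zc8_ok : okE 276 zc8 = true := (okE_cons.2 ⟨g200_ok, (okE_nil 276)⟩)

noncomputable def zc8_cnt_EG : List Net := [g35, g36, g37, g38, g39, g40, g41, g42, g173, g174, g175, g176, g177, g214, g215, g216, g217]

theorem zc8_cnt_EG_ok : okE 276 zc8_cnt_EG = true := (okE_cons.2 ⟨g35_ok, (okE_cons.2 ⟨g36_ok, (okE_cons.2 ⟨g37_ok, (okE_cons.2 ⟨g38_ok, (okE_cons.2 ⟨g39_ok, (okE_cons.2 ⟨g40_ok, (okE_cons.2 ⟨g41_ok, (okE_cons.2 ⟨g42_ok, (okE_cons.2 ⟨g173_ok, (okE_cons.2 ⟨g174_ok, (okE_cons.2 ⟨g175_ok, (okE_cons.2 ⟨g176_ok, (okE_cons.2 ⟨g177_ok, (okE_cons.2 ⟨g214_ok, (okE_cons.2 ⟨g215_ok, (okE_cons.2 ⟨g216_ok, (okE_cons.2 ⟨g217_ok, (okE_nil 276)⟩)⟩)⟩)⟩)⟩)⟩)⟩)⟩)⟩)⟩)⟩)⟩)⟩)⟩)⟩)⟩)⟩)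

noncomputable def Ez8 : List Net := [g200, n_t]

theorem Ez8_ok : okE 276 Ez8 = true := (okE_cons.2 ⟨g200_ok, (okE_cons.2 ⟨n_t_ok, (okE_nil 276)⟩)⟩)

noncomputable def n_ob : Net := (Net.cons (nat_lit 1) (nat_lit 0x54004504511544050440041141550000151055551154514105505500554110001404) (Net.cons (nat_lit 2) (nat_lit 0x23303233101323000323120113303321201322020132230221021321322020032100) (Net.cons (nat_lit 4) (nat_lit 0x90d090d0d000b02010f0f0802030e0a06030e0806010207010c000f090b09090a01) (Net.cons (nat_lit 8) (nat_lit 0xcf004d0026006700980035009200c30097003b009000a5000b0088006600a70006) (Net.cons (nat_lit 16) (nat_lit 0xb000044400000b1860000498c00005d290000df98000001210000ca2300006e60) (Net.cons (nat_lit 32) (nat_lit 0xd960d10b00000000d04db65300000000e80906cc0000000000018a68) (Net.cons (nat_lit 64) (nat_lit 0x84554600199200a90000000000000000000000000000060c) (Net.cons (nat_lit 128) (nat_lit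 0xd93b3ce199198143764e737084867083) (Net.cons (nat_lit 256) (nat_lit 0xffeef) (Net.cons (nat_lit 128) (nat_lit 290360) (Net.cons (nat_lit 64) (nat_lit 0xae76b187776b0958000000000000000035638dfa1c7e27c9) (Net.cons (nat_lit 32) (nat_lit 0x7a20eb1c000000002775706400000000fb0e6a8300000000c4410b3d) (Net.cons (nat_lit 16) (nat_lit 0x6000046e7000014fc00009db500001bfd0000f542000036ae0000ce430000cc3b) (Net.cons (nat_lit 8) (nat_lit 0x3b008000f1000200f100d40055003a0062007900a600340066007b00e600fd009e) (Net.cons (nat_lit 4) (nat_lit 0x702010e0e020f0c0d0c0f010d0e00050c0903020a0a0e0d0504070c0f0d0f0b040f) (Net.cons (nat_lit 2) (nat_lit 0x322000332112213100302122333302200231212023303130022021321303222232323) (Net.cons (nat_lit 1) (nat_lit 0x450005111451141150154144454544554454441455504500411515441540501001144) Net.nil)))))))))))))))))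

theorem n_ob_ok : Net.ok 276 n_ob = true := by decide +kernel

noncomputable def ER : List Net := [g667, g431, g499, n_ob]

theorem ER_ok : okE 276 ER = true := (okE_cons.2 ⟨g667_ok, (okE_cons.2 ⟨g431_ok, (okE_cons.2 ⟨g499_ok, (okE_cons.2 ⟨n_ob_ok, (okE_nil 276)⟩)⟩)⟩)⟩)

noncomputable def cw : List Net := [g507, g526, n_tu]

theorem cw_ok : okE 276 cw = true := (okE_cons.2 ⟨g507_ok, (okE_cons.2 ⟨g526_ok, (okE_cons.2 ⟨n_tu_ok, (okE_nil 276)⟩)⟩)⟩)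

noncomputable def cw_cnt_EG : List Net := [g214, g215, g216, g217, g173, g174, g175, g176, g177, g35, g36, g37, g38, g39, g40, g41, g42]

theorem cw_cnt_EG_ok : okE 276 cw_cnt_EG = true := (okE_cons.2 ⟨g214_ok, (okE_cons.2 ⟨g215_ok, (okE_cons.2 ⟨g216_ok, (okE_cons.2 ⟨g217_ok, (okE_cons.2 ⟨g173_ok, (okE_cons.2 ⟨g174_ok, (okE_cons.2 ⟨g175_ok, (okE_cons.2 ⟨g176_ok, (okE_cons.2 ⟨g177_ok, (okE_cons.2 ⟨g35_ok, (okE_cons.2 ⟨g36_ok, (okE_cons.2 ⟨g37_ok, (okE_cons.2 ⟨g38_ok, (okE_cons.2 ⟨g39_ok, (okE_cons.2 ⟨g40_ok, (okE_cons.2 ⟨g41_ok, (okE_cons.2 ⟨g42_ok, (okE_nil 276)⟩)⟩)⟩)⟩)⟩)⟩)⟩)⟩)⟩)⟩)⟩)⟩)⟩)⟩)⟩)⟩)⟩)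

noncomputable def EW : List Net := [g509, g416, n_t]

theorem EW_ok : okE 276 EW = true := (okE_cons.2 ⟨g509_ok, (okE_cons.2 ⟨g416_ok, (okE_cons.2 ⟨n_t_ok, (okE_nil 276)⟩)⟩)⟩)

theorem le906 : grp 276 zc2 ≤ grp 276 h_K :=
  grp_le_of_memB hn hk h_K_ok zc2_ok (ws := [nat_lit 0xf090709050508040607, nat_lit 2315]) (by decide +kernel)

theorem zc2_le : grp 276 zc2 ≤ (grp 276 h_K) :=
  (le906.trans TH_s0.le)

theorem zc2_sym : Sym 276 (grp 276 h_K) ht_c2_K zc2 0 :=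
  Sym.of_lab hn hk ht_c2_K_ok zc2_ok zc2_le (kT := 0) (by decide +kernel)

noncomputable def TH_s1_O : ℕ := (nat_lit 0x23450000008800230004510080080120022012010108000001000010244210001010100000000000000000000000000000000000000000000000000000000000000000000)

theorem TH_s1_F : Frame 276 (grp 276 h_K) 1 2 TH_s1_O 0 1 :=
  Stab.frame hn TH_s1 (by decide +kernel)

noncomputable def zc2_cnt_L : List ℕ := [0, 1, TH_s0_O, 0, 0, 1, 2, TH_s1_O, 0, 0, 2, 5, TH_s2_O, 0, 0, 5, 12, TH_s13_O, 0, 0, 6, 14, TH_s50_O, 0, 0, 7, 11, TH_s51_O, 1, 0]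

theorem zc2_cnt_P : Prob 276 9 (grp 276 h_K) zc2_cnt_EG ht_c2_K ht_c2_K zc2 zc2_cnt_L 0 0 :=
  Sym.prob hn hk zc2_sym zc2_cnt_EG_ok (grp_cons_le g35_TH (grp_cons_le g36_TH (grp_cons_le g37_TH (grp_cons_le g38_TH (grp_cons_le g39_TH (grp_cons_le g40_TH (grp_cons_le g41_TH (grp_cons_le g42_TH (grp_cons_le g144_TH (grp_cons_le n_t_TH (grp_nil_le _))))))))))) (Frames.cons TH_s0_F (Frames.cons TH_s1_F (Frames.cons TH_s2_F (Frames.cons TH_s13_F (Frames.cons TH_s50_F (Frames.cons TH_s51_F Frames.nil)))))) ht_c2_K_ok _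

noncomputable def zc2_cnt_t : BT := (BT.frm (nat_lit 0) (nat_lit 0) (nat_lit 0) [] (BT.pln (nat_lit 0) (nat_lit 0) (BT.fix (nat_lit 9) (BT.dif (nat_lit 1) (nat_lit 0) (BT.fix (nat_lit 65793) (BT.dif (nat_lit 1) (nat_lit 0) (BT.fix (nat_lit 7) (BT.and (nat_lit 5) (nat_lit 0) (BT.fix (nat_lit 3) (BT.dif (nat_lit 1) (nat_lit 0) (BT.fix (nat_lit 5) (BT.dif (nat_lit 1) (nat_lit 0) (BT.img (nat_lit 1) (nat_lit 0) (BT.and (nat_lit 7) (nat_lit 0) (BT.br (nat_lit 0) (nat_lit 28) [nat_lit 1] (BT.kid (nat_lit 28) (nat_lit 2) (BT.dif (nat_lit 17) (nat_lit 10) (BT.dif (nat_lit 0) (nat_lit 14) (BT.and (nat_lit 15) (nat_lit 12) (BT.fix (nat_lit 771) (BT.dif (nat_lit 1) (nat_lit 0) (BT.fix (nat_lit 1285) (BT.dif (nat_lit 1) (nat_lit 0) (BT.and (nat_lit 20) (nat_lit 1) (BT.dif (nat_lit 0) (nat_lit 12) (BT.img (nat_lit 1) (nat_lit 0) (BT.and (nat_lit 3) (nat_lit 0) (BT.img (nat_lit 3) (nat_lit 2) (BT.and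 (nat_lit 1) (nat_lit 0) (BT.dif (nat_lit 2) (nat_lit 1) (BT.frm (nat_lit 1) (nat_lit 66310) (nat_lit 66310) [nat_lit 0] (BT.pln (nat_lit 0) (nat_lit 1) (BT.dif (nat_lit 9) (nat_lit 0) (BT.frm (nat_lit 2) (nat_lit 0x406010306) (nat_lit 0x406010306) [nat_lit 4, nat_lit 0] (BT.pln (nat_lit 0) (nat_lit 2) (BT.dif (nat_lit 17) (nat_lit 0) (BT.dif (nat_lit 37) (nat_lit 33) (BT.dif (nat_lit 0) (nat_lit 31) (BT.and (nat_lit 0) (nat_lit 3) (BT.img (nat_lit 1) (nat_lit 0) (BT.dif (nat_lit 4) (nat_lit 0) (BT.dif (nat_lit 18) (nat_lit 15) (BT.and (nat_lit 0) (nat_lit 14) (BT.img (nat_lit 3) (nat_lit 0) (BT.and (nat_lit 19) (nat_lit 0) (BT.and (nat_lit 42) (nat_lit 35) (BT.dif (nat_lit 0) (nat_lit 38) (BT.img (nat_lit 1) (nat_lit 4) (BT.and (nat_lit 1) (nat_lit 0) (BT.dif (nat_lit 7) (nat_lit 21) (BT.frm (nat_lit 3) (nat_lit 0x907090805070d0406010306) (nat_lit 0x907090805070d0406010306) [nat_lit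 5, nat_lit 1, nat_lit 0, nat_lit 21, nat_lit 17] (BT.pln (nat_lit 0) (nat_lit 6) (BT.and (nat_lit 11) (nat_lit 0) (BT.pln (nat_lit 2) (nat_lit 5) (BT.and (nat_lit 1) (nat_lit 0) (BT.pln (nat_lit 4) (nat_lit 7) (BT.dif (nat_lit 1) (nat_lit 0) (BT.frm (nat_lit 4) (nat_lit 0x110907090805070d0406010306) (nat_lit 0x110907090805070d0406010306) [nat_lit 41, nat_lit 12, nat_lit 8, nat_lit 7, nat_lit 28, nat_lit 24] (BT.pln (nat_lit 0) (nat_lit 10) (BT.dif (nat_lit 2) (nat_lit 0) (BT.br (nat_lit 0) (nat_lit 51) [nat_lit 3] (BT.kid (nat_lit 51) (nat_lit 1) (BT.one (nat_lit 5) (nat_lit 0x110907090805070d0406010306) (nat_lit 0x110907090805070d0406010306) [nat_lit 0, nat_lit 45, nat_lit 16, nat_lit 12, nat_lit 11, nat_lit 32, nat_lit 28]) BT.nil)))))))))))))))))))))))))))))))))))))))))))))) BT.nil))))))))))))))))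

theorem zc2_cnt : Cnt 276 (grp 276 h_K) ht_c2_K ht_c2_K 0 0 0 0 4 :=
  BT.sound zc2_cnt_P Known.nil (t := zc2_cnt_t) (d := 0) (by decide +kernel)

theorem zc2_ge : 4 ≤ Nat.card (grp 276 zc2) :=
  Ch.le_card_grp (k := 9) (L := (lab 276 9)) hn zc2_ok (c := (Ch.cons (nat_lit 28) [nat_lit 1] (Ch.cons (nat_lit 51) [nat_lit 3] Ch.nil))) (by decide +kernel)

theorem zc2_eq : (grp 276 h_K) ⊓ Subgroup.centralizer (grp 276 ht_c2_K : Set (Equiv.Perm (Fin 276))) = grp 276 zc2 :=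
  cent_grp_eq zc2_sym zc2_cnt zc2_ge

theorem zc2_card : Nat.card (grp 276 zc2) = 4 :=
  (zc2_sym.mem_iff zc2_cnt zc2_ge).1

theorem zc2_le_Ez : grp 276 zc2 ≤ grp 276 Ez2 :=
  grp_le_of_memB hn hk Ez2_ok zc2_ok (ws := [nat_lit 1, nat_lit 3]) (by decide +kernel)

theorem le908 : grp 276 zc3 ≤ grp 276 h_K :=
  grp_le_of_memB hn hk h_K_ok zc3_ok (ws := [nat_lit 2315, nat_lit 0xf0d090b07050504050306]) (by decide +kernel)

theorem zc3_le : grp 276 zc3 ≤ (grp 276 h_K) :=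
  (le908.trans TH_s0.le)

theorem zc3_sym : Sym 276 (grp 276 h_K) ht_c3_K zc3 0 :=
  Sym.of_lab hn hk ht_c3_K_ok zc3_ok zc3_le (kT := 0) (by decide +kernel)

theorem le911 : grp 276 V910 ≤ grp 276 V119 :=
  grp_le_of_memB hn hk V119_ok V910_ok (ws := [nat_lit 0x907030502]) (by decide +kernel)

theorem TH_s64 : Stab 276 (grp 276 h_K) [nat_lit 275, nat_lit 124, nat_lit 4, nat_lit 272] V910 2 :=
  Stab.step (k := 9) (L := (lab 276 9)) hn TH_s3 V910_ok le911 (c := (Ch.cons (nat_lit 148) [nat_lit 1] Ch.nil)) (by decide +kernel)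

theorem TH_s65 : Stab 276 (grp 276 h_K) [nat_lit 148, nat_lit 275, nat_lit 124, nat_lit 4, nat_lit 272] V912 1 :=
  Stab.step (k := 9) (L := (lab 276 9)) hn TH_s64 V912_ok (grp_mono (List.subset_append_right [g909] _)) (c := Ch.nil) (by decide +kernel)

theorem g909_TH : Net.toPerm 276 g909 ∈ (grp 276 h_K) :=
  TH_s64.le (toPerm_mem_grp (E := V910) (List.Mem.head _))

noncomputable def TH_s65_O : ℕ := (nat_lit 0x9993333366666ccccc99999b3333666664ccccd9999b3333266666ccccd9999933332c1f07c1f07c1f07c0f83e0f83e0f83e0f81f07c1f07c1f07c1f03e0f83e0f83e0f83e7319cc63398ce7319cc63398ce7319ce63398c67319ce63398c67319ce63398c6731826d926c93649b24db26d936c9b649b24d926d936c9b64db24d926c93649b64db26d92100000000000000000000000000000000000000000000000000000000000000000000000000000000000000000000000000000000000000000000000000000000000000010000000000000000000000000000000000000010000000000000000000000000000000800000000000000000000000000000000000000000000000000000000000000000000000000000000000000000000000000010000000000000000000000000000000000000)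

theorem TH_s65_F : Frame 276 (grp 276 h_K) 5 9 TH_s65_O 1 1 :=
  IsBase.frame TH_s65.isBase (by decide +kernel)

noncomputable def TH_s64_O : ℕ := (nat_lit 0x52138880000000400010004000000000000000000000000000002540000000000002325e4764ffefef5bf7260d3bfebfff7603e58759fe775bf7000000000000000000004f85e4507f7d7fb599dbc95bbbfdb7d11e410280600880000afeffdab3f5c0000000023a9a46357fb9ff73fb880f98414000a52ba5c6cd6788a008efffb8000023fffe000020a1e47c7fe527cfe44e1ea47bb1082c847f7a412917e9a00eff045ab9023fc01fe002dadcc33456d8812399722263a1ebb22757b002cb90f445e8fe1f07f4af03c361e1e00af5167b598ee6ba5e04875831dcd8c82035d2ad279ea7594399ce74a2cd33399998c6cbc55cc46cfbb2691205fed2966aab853ec6828a4c5b6d52254ad6994aeaaa55554a100000000000000000000000000000000000000000000000000000000000000000000000000000000000000000000000000000000000000000000000000000000000000010000000000000000000000000000000000000010000000000000000000000000000000800000000000000000000000000000000000000000000000000000000000000000000)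

theorem TH_s64_F : Frame 276 (grp 276 h_K) 4 12 TH_s64_O 0 1 :=
  Stab.frame hn TH_s64 (by decide +kernel)

noncomputable def zc3_cnt_L : List ℕ := [0, 1, TH_s0_O, 0, 0, 2, 5, TH_s2_O, 0, 0, 3, 15, TH_s3_O, 0, 0, 4, 12, TH_s64_O, 0, 0, 5, 9, TH_s65_O, 1, 0]

theorem zc3_cnt_P : Prob 276 9 (grp 276 h_K) zc3_cnt_EG ht_c3_K ht_c3_K zc3 zc3_cnt_L 0 0 :=
  Sym.prob hn hk zc3_sym zc3_cnt_EG_ok (grp_cons_le g36_TH (grp_cons_le g37_TH (grp_cons_le g38_TH (grp_cons_le g39_TH (grp_cons_le g40_TH (grp_cons_le g41_TH (grp_cons_le g42_TH (grp_cons_le g35_TH (grp_cons_le g909_TH (grp_nil_le _)))))))))) (Frames.cons TH_s0_F (Frames.cons TH_s2_F (Frames.cons TH_s3_F (Frames.cons TH_s64_F (Frames.cons TH_s65_F Frames.nil))))) ht_c3_K_ok _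

noncomputable def zc3_cnt_t : BT := (BT.fix (nat_lit 5) (BT.frm (nat_lit 0) (nat_lit 0) (nat_lit 0) [] (BT.pln (nat_lit 0) (nat_lit 0) (BT.dif (nat_lit 2) (nat_lit 0) (BT.fix (nat_lit 1) (BT.and (nat_lit 2) (nat_lit 0) (BT.and (nat_lit 0) (nat_lit 5) (BT.fix (nat_lit 3) (BT.and (nat_lit 5) (nat_lit 0) (BT.and (nat_lit 0) (nat_lit 8) (BT.frm (nat_lit 1) (nat_lit 259) (nat_lit 259) [nat_lit 3, nat_lit 0] (BT.pln (nat_lit 0) (nat_lit 2) (BT.dif (nat_lit 8) (nat_lit 0) (BT.img (nat_lit 9) (nat_lit 9) (BT.dif (nat_lit 0) (nat_lit 9) (BT.fix (nat_lit 771) (BT.dif (nat_lit 1) (nat_lit 0) (BT.img (nat_lit 1) (nat_lit 13) (BT.dif (nat_lit 1) (nat_lit 0) (BT.img (nat_lit 3) (nat_lit 15) (BT.dif (nat_lit 1) (nat_lit 0) (BT.img (nat_lit 9) (nat_lit 0) (BT.dif (nat_lit 9) (nat_lit 0) (BT.dif (nat_lit 7) (nat_lit 20) (BT.img (nat_lit 7) (nat_lit 20) (BT.and (nat_lit 1) (nat_lit 0) (BT.and (nat_lit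 6) (nat_lit 12) (BT.dif (nat_lit 0) (nat_lit 22) (BT.img (nat_lit 5) (nat_lit 0) (BT.dif (nat_lit 3) (nat_lit 0) (BT.img (nat_lit 1) (nat_lit 0) (BT.dif (nat_lit 8) (nat_lit 0) (BT.br (nat_lit 0) (nat_lit 229) [nat_lit 1] (BT.kid (nat_lit 229) (nat_lit 2) (BT.dif (nat_lit 35) (nat_lit 21) (BT.dif (nat_lit 0) (nat_lit 31) (BT.dif (nat_lit 0) (nat_lit 17) (BT.dif (nat_lit 0) (nat_lit 16) (BT.dif (nat_lit 0) (nat_lit 36) (BT.dif (nat_lit 0) (nat_lit 13) (BT.dif (nat_lit 0) (nat_lit 25) (BT.fix (nat_lit 9) (BT.and (nat_lit 38) (nat_lit 0) (BT.fix (nat_lit 11) (BT.and (nat_lit 1) (nat_lit 0) (BT.dif (nat_lit 0) (nat_lit 43) (BT.img (nat_lit 1) (nat_lit 0) (BT.dif (nat_lit 1) (nat_lit 0) (BT.frm (nat_lit 2) (nat_lit 0x3030103) (nat_lit 0x3030103) [nat_lit 0, nat_lit 40, nat_lit 37] (BT.pln (nat_lit 0) (nat_lit 7) (BT.and (nat_lit 9) (nat_lit 0) (BT.frm (nat_lit 3) (nat_lit 0xb0d03030103)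 (nat_lit 0xb0d03030103) [nat_lit 17, nat_lit 3, nat_lit 43, nat_lit 40] (BT.pln (nat_lit 0) (nat_lit 7) (BT.dif (nat_lit 2) (nat_lit 0) (BT.pln (nat_lit 2) (nat_lit 9) (BT.and (nat_lit 1) (nat_lit 0) (BT.br (nat_lit 0) (nat_lit 77) [nat_lit 3] (BT.kid (nat_lit 77) (nat_lit 1) (BT.one (nat_lit 4) (nat_lit 0xb0d03030103) (nat_lit 0xb0d03030103) [nat_lit 0, nat_lit 23, nat_lit 9, nat_lit 49, nat_lit 46]) BT.nil)))))))))))))))))))))))) BT.nil))))))))))))))))))))))))))))))))))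

theorem zc3_cnt : Cnt 276 (grp 276 h_K) ht_c3_K ht_c3_K 0 0 0 0 4 :=
  BT.sound zc3_cnt_P Known.nil (t := zc3_cnt_t) (d := 0) (by decide +kernel)

theorem zc3_ge : 4 ≤ Nat.card (grp 276 zc3) :=
  Ch.le_card_grp (k := 9) (L := (lab 276 9)) hn zc3_ok (c := (Ch.cons (nat_lit 229) [nat_lit 1] (Ch.cons (nat_lit 77) [nat_lit 3] Ch.nil))) (by decide +kernel)

theorem zc3_eq : (grp 276 h_K) ⊓ Subgroup.centralizer (grp 276 ht_c3_K : Set (Equiv.Perm (Fin 276))) = grp 276 zc3 :=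
  cent_grp_eq zc3_sym zc3_cnt zc3_ge

theorem zc3_card : Nat.card (grp 276 zc3) = 4 :=
  (zc3_sym.mem_iff zc3_cnt zc3_ge).1

theorem zc3_le_Ez : grp 276 zc3 ≤ grp 276 Ez3 :=
  grp_le_of_memB hn hk Ez3_ok zc3_ok (ws := [nat_lit 3, nat_lit 259]) (by decide +kernel)

theorem le914 : grp 276 zc7 ≤ grp 276 h_K :=
  grp_le_of_memB hn hk h_K_ok zc7_ok (ws := [nat_lit 0xf0d0b0709050704050305, nat_lit 2315]) (by decide +kernel)

theorem zc7_le : grp 276 zc7 ≤ (grp 276 h_K) :=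
  (le914.trans TH_s0.le)

theorem zc7_sym : Sym 276 (grp 276 h_K) ht_c7_K zc7 0 :=
  Sym.of_lab hn hk ht_c7_K_ok zc7_ok zc7_le (kT := 0) (by decide +kernel)

noncomputable def zc7_cnt_L : List ℕ := [0, 1, TH_s0_O, 0, 0, 6, 14, TH_s36_O, 0, 0, 7, 11, TH_s37_O, 1, 0]

theorem zc7_cnt_P : Prob 276 9 (grp 276 h_K) zc7_cnt_EG ht_c7_K ht_c7_K zc7 zc7_cnt_L 0 0 :=
  Sym.prob hn hk zc7_sym zc7_cnt_EG_ok (grp_cons_le g244_TH (grp_cons_le n_t_TH (grp_cons_le g243_TH (grp_cons_le g38_TH (grp_cons_le g39_TH (grp_cons_le g40_TH (grp_cons_le g41_TH (grp_cons_le g42_TH (grp_cons_le g37_TH (grp_cons_le g36_TH (grp_cons_le g35_TH (grp_nil_le _)))))))))))) (Frames.cons TH_s0_F (Frames.cons TH_s36_F (Frames.cons TH_s37_F Frames.nil))) ht_c7_K_ok _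

noncomputable def zc7_cnt_t : BT := (BT.frm (nat_lit 0) (nat_lit 0) (nat_lit 0) [] (BT.pln (nat_lit 0) (nat_lit 0) (BT.fix (nat_lit 9) (BT.dif (nat_lit 1) (nat_lit 0) (BT.fix (nat_lit 0x101010101) (BT.dif (nat_lit 1) (nat_lit 0) (BT.fix (nat_lit 11) (BT.dif (nat_lit 1) (nat_lit 0) (BT.fix (nat_lit 0x3030303) (BT.dif (nat_lit 1) (nat_lit 0) (BT.br (nat_lit 0) (nat_lit 104) [nat_lit 1] (BT.kid (nat_lit 104) (nat_lit 2) (BT.dif (nat_lit 13) (nat_lit 2) (BT.dif (nat_lit 0) (nat_lit 5) (BT.dif (nat_lit 15) (nat_lit 11) (BT.dif (nat_lit 7) (nat_lit 12) (BT.dif (nat_lit 0) (nat_lit 12) (BT.dif (nat_lit 13) (nat_lit 14) (BT.dif (nat_lit 8) (nat_lit 15) (BT.and (nat_lit 15) (nat_lit 11) (BT.dif (nat_lit 0) (nat_lit 17) (BT.img (nat_lit 5) (nat_lit 0) (BT.img (nat_lit 11) (nat_lit 0) (BT.and (nat_lit 4) (nat_lit 0) (BT.img (nat_lit 5) (nat_lit 0) (BT.and (nat_lit 7) (nat_lit 0) (BT.img (nat_lit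 3) (nat_lit 0) (BT.img (nat_lit 3) (nat_lit 0) (BT.img (nat_lit 11) (nat_lit 0) (BT.img (nat_lit 9) (nat_lit 0) (BT.and (nat_lit 15) (nat_lit 0) (BT.img (nat_lit 3) (nat_lit 0) (BT.and (nat_lit 17) (nat_lit 0) (BT.img (nat_lit 3) (nat_lit 0) (BT.and (nat_lit 18) (nat_lit 0) (BT.img (nat_lit 5) (nat_lit 0) (BT.and (nat_lit 18) (nat_lit 0) (BT.img (nat_lit 5) (nat_lit 0) (BT.and (nat_lit 23) (nat_lit 0) (BT.img (nat_lit 1) (nat_lit 0) (BT.and (nat_lit 25) (nat_lit 0) (BT.img (nat_lit 5) (nat_lit 0) (BT.and (nat_lit 27) (nat_lit 0) (BT.img (nat_lit 11) (nat_lit 0) (BT.and (nat_lit 29) (nat_lit 0) (BT.img (nat_lit 9) (nat_lit 0) (BT.and (nat_lit 31) (nat_lit 0) (BT.img (nat_lit 3) (nat_lit 0) (BT.and (nat_lit 33) (nat_lit 0) (BT.img (nat_lit 5) (nat_lit 0) (BT.and (nat_lit 33) (nat_lit 0) (BT.img (nat_lit 5) (nat_lit 0) (BT.and (nat_lit 37) (nat_lit 0) (BT.img (nat_lit 5) (nat_lit 0) (BT.and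 (nat_lit 40) (nat_lit 0) (BT.fix (nat_lit 5) (BT.and (nat_lit 53) (nat_lit 0) (BT.dif (nat_lit 0) (nat_lit 53) (BT.fix (nat_lit 1285) (BT.and (nat_lit 56) (nat_lit 0) (BT.dif (nat_lit 0) (nat_lit 4) (BT.img (nat_lit 3) (nat_lit 0) (BT.dif (nat_lit 4) (nat_lit 0) (BT.img (nat_lit 1) (nat_lit 2) (BT.and (nat_lit 61) (nat_lit 0) (BT.dif (nat_lit 0) (nat_lit 6) (BT.and (nat_lit 8) (nat_lit 4) (BT.dif (nat_lit 6) (nat_lit 3) (BT.fix (nat_lit 1) (BT.frm (nat_lit 1) (nat_lit 0x1060d12121311130d1514) (nat_lit 0x1060d12121311130d1514) [nat_lit 57, nat_lit 6, nat_lit 3, nat_lit 2, nat_lit 1, nat_lit 0] (BT.pln (nat_lit 0) (nat_lit 7) (BT.dif (nat_lit 16) (nat_lit 0) (BT.br (nat_lit 0) (nat_lit 131) [nat_lit 3] (BT.kid (nat_lit 131) (nat_lit 1) (BT.one (nat_lit 2) (nat_lit 0x1060d12121311130d1514) (nat_lit 0x1060d12121311130d1514) [nat_lit 0, nat_lit 61, nat_lit 10, nat_lit 7, nat_lit 6, nat_lit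 5, nat_lit 4]) BT.nil)))))))))))))))))))))))))))))))))))))))))))))))))))))))))))))) BT.nil))))))))))))

theorem zc7_cnt : Cnt 276 (grp 276 h_K) ht_c7_K ht_c7_K 0 0 0 0 4 :=
  BT.sound zc7_cnt_P Known.nil (t := zc7_cnt_t) (d := 0) (by decide +kernel)

theorem zc7_ge : 4 ≤ Nat.card (grp 276 zc7) :=
  Ch.le_card_grp (k := 9) (L := (lab 276 9)) hn zc7_ok (c := (Ch.cons (nat_lit 104) [nat_lit 1] (Ch.cons (nat_lit 131) [nat_lit 3] Ch.nil))) (by decide +kernel)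

theorem zc7_eq : (grp 276 h_K) ⊓ Subgroup.centralizer (grp 276 ht_c7_K : Set (Equiv.Perm (Fin 276))) = grp 276 zc7 :=
  cent_grp_eq zc7_sym zc7_cnt zc7_ge

theorem zc7_card : Nat.card (grp 276 zc7) = 4 :=
  (zc7_sym.mem_iff zc7_cnt zc7_ge).1

theorem zc7_le_Ez : grp 276 zc7 ≤ grp 276 Ez7 :=
  grp_le_of_memB hn hk Ez7_ok zc7_ok (ws := [nat_lit 2, nat_lit 3]) (by decide +kernel)

theorem le915 : grp 276 zc8 ≤ grp 276 h_K :=
  grp_le_of_memB hn hk h_K_ok zc8_ok (ws := [nat_lit 0x9050507040604010f]) (by decide +kernel)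

theorem zc8_le : grp 276 zc8 ≤ (grp 276 h_K) :=
  (le915.trans TH_s0.le)

theorem zc8_sym : Sym 276 (grp 276 h_K) ht_c8_K zc8 0 :=
  Sym.of_lab hn hk ht_c8_K_ok zc8_ok zc8_le (kT := 0) (by decide +kernel)

noncomputable def zc8_cnt_L : List ℕ := [0, 1, TH_s0_O, 0, 0, 1, 4, TH_s21_O, 0, 0, 2, 14, TH_s28_O, 0, 0, 3, 9, TH_s29_O, 0, 0, 5, 9, TH_s33_O, 1, 0]

theorem zc8_cnt_P : Prob 276 9 (grp 276 h_K) zc8_cnt_EG ht_c8_K ht_c8_K zc8 zc8_cnt_L 0 0 :=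
  Sym.prob hn hk zc8_sym zc8_cnt_EG_ok (grp_cons_le g35_TH (grp_cons_le g36_TH (grp_cons_le g37_TH (grp_cons_le g38_TH (grp_cons_le g39_TH (grp_cons_le g40_TH (grp_cons_le g41_TH (grp_cons_le g42_TH (grp_cons_le g173_TH (grp_cons_le g174_TH (grp_cons_le g175_TH (grp_cons_le g176_TH (grp_cons_le g177_TH (grp_cons_le g214_TH (grp_cons_le g215_TH (grp_cons_le g216_TH (grp_cons_le g217_TH (grp_nil_le _)))))))))))))))))) (Frames.cons TH_s0_F (Frames.cons TH_s21_F (Frames.cons TH_s28_F (Frames.cons TH_s29_F (Frames.cons TH_s33_F Frames.nil))))) ht_c8_K_ok _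

noncomputable def zc8_cnt_t : BT := (BT.fix (nat_lit 1) (BT.fix (nat_lit 9) (BT.frm (nat_lit 0) (nat_lit 0) (nat_lit 0) [] (BT.pln (nat_lit 0) (nat_lit 0) (BT.dif (nat_lit 2) (nat_lit 0) (BT.fix (nat_lit 257) (BT.and (nat_lit 1) (nat_lit 0) (BT.img (nat_lit 3) (nat_lit 0) (BT.dif (nat_lit 7) (nat_lit 0) (BT.br (nat_lit 0) (nat_lit 8) [nat_lit 1] (BT.kid (nat_lit 8) (nat_lit 1) (BT.frm (nat_lit 1) (nat_lit 2050) (nat_lit 2050) [nat_lit 0] (BT.pln (nat_lit 0) (nat_lit 1) (BT.dif (nat_lit 14) (nat_lit 0) (BT.dif (nat_lit 0) (nat_lit 9) (BT.dif (nat_lit 16) (nat_lit 10) (BT.dif (nat_lit 10) (nat_lit 9) (BT.and (nat_lit 15) (nat_lit 8) (BT.img (nat_lit 5) (nat_lit 0) (BT.img (nat_lit 9) (nat_lit 0) (BT.img (nat_lit 3) (nat_lit 0) (BT.img (nat_lit 3) (nat_lit 0) (BT.dif (nat_lit 5) (nat_lit 0) (BT.img (nat_lit 3) (nat_lit 0) (BT.and (nat_lit 8) (nat_lit 0) (BT.img (nat_lit 5) (nat_lit 0)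 (BT.and (nat_lit 10) (nat_lit 0) (BT.img (nat_lit 3) (nat_lit 0) (BT.and (nat_lit 13) (nat_lit 0) (BT.img (nat_lit 11) (nat_lit 18) (BT.img (nat_lit 9) (nat_lit 0) (BT.img (nat_lit 5) (nat_lit 0) (BT.img (nat_lit 1) (nat_lit 0) (BT.img (nat_lit 5) (nat_lit 22) (BT.frm (nat_lit 3) (nat_lit 0x1b1e1b130802) (nat_lit 0x1b1e1b130802) [nat_lit 1, nat_lit 0, nat_lit 23] (BT.pln (nat_lit 0) (nat_lit 4) (BT.dif (nat_lit 7) (nat_lit 0) (BT.pln (nat_lit 2) (nat_lit 5) (BT.and (nat_lit 1) (nat_lit 0) (BT.frm (nat_lit 2) (nat_lit 0x130802) (nat_lit 0x130802) [nat_lit 5, nat_lit 28] (BT.pln (nat_lit 0) (nat_lit 7) (BT.pln (nat_lit 6) (nat_lit 3) (BT.dif (nat_lit 1) (nat_lit 0) (BT.pln (nat_lit 3) (nat_lit 6) (BT.and (nat_lit 28) (nat_lit 16) (BT.img (nat_lit 1) (nat_lit 0) (BT.and (nat_lit 30) (nat_lit 0) (BT.img (nat_lit 5) (nat_lit 0) (BT.and (nat_lit 4) (nat_lit 0) (BT.and (nat_lit 34) (nat_lit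 3) (BT.pln (nat_lit 10) (nat_lit 2) (BT.dif (nat_lit 1) (nat_lit 0) (BT.pln (nat_lit 12) (nat_lit 5) (BT.dif (nat_lit 1) (nat_lit 0) (BT.dif (nat_lit 13) (nat_lit 51) (BT.fix (nat_lit 1799) (BT.dif (nat_lit 1) (nat_lit 0) (BT.dif (nat_lit 44) (nat_lit 54) (BT.dif (nat_lit 0) (nat_lit 51) (BT.dif (nat_lit 0) (nat_lit 3) (BT.img (nat_lit 3) (nat_lit 13) (BT.and (nat_lit 48) (nat_lit 0) (BT.and (nat_lit 47) (nat_lit 1) (BT.dif (nat_lit 7) (nat_lit 58) (BT.dif (nat_lit 0) (nat_lit 51) (BT.fix (nat_lit 7) (BT.dif (nat_lit 1) (nat_lit 0) (BT.and (nat_lit 61) (nat_lit 54) (BT.dif (nat_lit 0) (nat_lit 61) (BT.dif (nat_lit 63) (nat_lit 56) (BT.dif (nat_lit 0) (nat_lit 48) (BT.img (nat_lit 3) (nat_lit 46) (BT.and (nat_lit 57) (nat_lit 0) (BT.and (nat_lit 58) (nat_lit 49) (BT.and (nat_lit 61) (nat_lit 48) (BT.and (nat_lit 62) (nat_lit 47) (BT.img (nat_lit 7) (nat_lit 0) (BT.and (nat_lit 3) (nat_lit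 0) (BT.img (nat_lit 5) (nat_lit 0) (BT.and (nat_lit 4) (nat_lit 0) (BT.img (nat_lit 9) (nat_lit 2) (BT.and (nat_lit 1) (nat_lit 0) (BT.img (nat_lit 9) (nat_lit 0) (BT.and (nat_lit 9) (nat_lit 0) (BT.img (nat_lit 3) (nat_lit 0) (BT.and (nat_lit 12) (nat_lit 0) (BT.img (nat_lit 3) (nat_lit 0) (BT.and (nat_lit 16) (nat_lit 0) (BT.img (nat_lit 7) (nat_lit 0) (BT.and (nat_lit 20) (nat_lit 0) (BT.img (nat_lit 5) (nat_lit 0) (BT.and (nat_lit 24) (nat_lit 0) (BT.img (nat_lit 1) (nat_lit 0) (BT.and (nat_lit 30) (nat_lit 0) (BT.img (nat_lit 5) (nat_lit 0) (BT.and (nat_lit 33) (nat_lit 0) (BT.img (nat_lit 3) (nat_lit 0) (BT.and (nat_lit 37) (nat_lit 0) (BT.img (nat_lit 1) (nat_lit 0) (BT.and (nat_lit 42) (nat_lit 0) (BT.img (nat_lit 7) (nat_lit 53) (BT.and (nat_lit 86) (nat_lit 0) (BT.pln (nat_lit 62) (nat_lit 9) (BT.dif (nat_lit 1) (nat_lit 0) (BT.img (nat_lit 1) (nat_lit 81) (BT.and (nat_lit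 90) (nat_lit 0) (BT.dif (nat_lit 0) (nat_lit 55) (BT.dif (nat_lit 0) (nat_lit 54) (BT.and (nat_lit 93) (nat_lit 60) (BT.dif (nat_lit 0) (nat_lit 58) (BT.dif (nat_lit 0) (nat_lit 57) (BT.dif (nat_lit 8) (nat_lit 109) (BT.dif (nat_lit 0) (nat_lit 79) (BT.and (nat_lit 56) (nat_lit 16) (BT.pln (nat_lit 74) (nat_lit 3) (BT.dif (nat_lit 0) (nat_lit 108) (BT.and (nat_lit 0) (nat_lit 55) (BT.pln (nat_lit 77) (nat_lit 4) (BT.dif (nat_lit 0) (nat_lit 111) (BT.and (nat_lit 0) (nat_lit 58) (BT.and (nat_lit 64) (nat_lit 76) (BT.and (nat_lit 115) (nat_lit 3) (BT.dif (nat_lit 0) (nat_lit 115) (BT.dif (nat_lit 56) (nat_lit 72) (BT.dif (nat_lit 0) (nat_lit 71) (BT.and (nat_lit 6) (nat_lit 97) (BT.dif (nat_lit 97) (nat_lit 75) (BT.dif (nat_lit 0) (nat_lit 74) (BT.and (nat_lit 87) (nat_lit 56) (BT.dif (nat_lit 78) (nat_lit 126) (BT.dif (nat_lit 0) (nat_lit 74) (BT.and (nat_lit 0) (nat_lit 107) (BT.dif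 (nat_lit 13) (nat_lit 129) (BT.dif (nat_lit 0) (nat_lit 77) (BT.and (nat_lit 0) (nat_lit 108) (BT.dif (nat_lit 82) (nat_lit 132) (BT.dif (nat_lit 0) (nat_lit 80) (BT.and (nat_lit 0) (nat_lit 113) (BT.dif (nat_lit 65) (nat_lit 87) (BT.dif (nat_lit 0) (nat_lit 86) (BT.and (nat_lit 96) (nat_lit 112) (BT.img (nat_lit 9) (nat_lit 0) (BT.and (nat_lit 2) (nat_lit 0) (BT.img (nat_lit 7) (nat_lit 0) (BT.and (nat_lit 25) (nat_lit 0) (BT.img (nat_lit 5) (nat_lit 0) (BT.and (nat_lit 8) (nat_lit 0) (BT.img (nat_lit 9) (nat_lit 0) (BT.and (nat_lit 13) (nat_lit 0) (BT.img (nat_lit 11) (nat_lit 0) (BT.and (nat_lit 18) (nat_lit 0) (BT.img (nat_lit 5) (nat_lit 0) (BT.and (nat_lit 17) (nat_lit 0) (BT.img (nat_lit 11) (nat_lit 0) (BT.and (nat_lit 22) (nat_lit 0) (BT.img (nat_lit 7) (nat_lit 0) (BT.and (nat_lit 27) (nat_lit 0) (BT.img (nat_lit 9) (nat_lit 0) (BT.and (nat_lit 30) (nat_lit 0) (BT.img (nat_lit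 5) (nat_lit 0) (BT.and (nat_lit 34) (nat_lit 0) (BT.img (nat_lit 3) (nat_lit 0) (BT.and (nat_lit 37) (nat_lit 0) (BT.img (nat_lit 9) (nat_lit 0) (BT.and (nat_lit 39) (nat_lit 0) (BT.img (nat_lit 5) (nat_lit 0) (BT.and (nat_lit 43) (nat_lit 0) (BT.img (nat_lit 5) (nat_lit 0) (BT.and (nat_lit 47) (nat_lit 0) (BT.img (nat_lit 1) (nat_lit 0) (BT.and (nat_lit 50) (nat_lit 0) (BT.img (nat_lit 9) (nat_lit 0) (BT.and (nat_lit 55) (nat_lit 0) (BT.img (nat_lit 3) (nat_lit 0) (BT.and (nat_lit 60) (nat_lit 0) (BT.img (nat_lit 11) (nat_lit 0) (BT.and (nat_lit 63) (nat_lit 0) (BT.img (nat_lit 7) (nat_lit 0) (BT.and (nat_lit 67) (nat_lit 0) (BT.img (nat_lit 3) (nat_lit 0) (BT.and (nat_lit 72) (nat_lit 0) (BT.img (nat_lit 9) (nat_lit 0) (BT.and (nat_lit 74) (nat_lit 0) (BT.img (nat_lit 3) (nat_lit 0) (BT.and (nat_lit 80) (nat_lit 0) (BT.img (nat_lit 9) (nat_lit 0) (BT.and (nat_lit 86) (nat_lit 0)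 (BT.img (nat_lit 3) (nat_lit 0) (BT.and (nat_lit 134) (nat_lit 0) (BT.img (nat_lit 9) (nat_lit 0) (BT.and (nat_lit 141) (nat_lit 0) (BT.img (nat_lit 7) (nat_lit 0) (BT.and (nat_lit 149) (nat_lit 0) (BT.one (nat_lit 4) (nat_lit 0x211b1e1b130802) (nat_lit 0x211b1e1b130802) [nat_lit 154, nat_lit 0, nat_lit 160, nat_lit 159, nat_lit 182]))))))))))))))))))))))))))))))))))))))))))))))))))))))))))))))))))))))))))))))))))))))))))))))))))))))))))))))))))))))))))))))))))))))))))))))))))))))))))))))))))))))))))))))))))))))) BT.nil)))))))))))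

theorem zc8_cnt : Cnt 276 (grp 276 h_K) ht_c8_K ht_c8_K 0 0 0 0 4 :=
  BT.sound zc8_cnt_P Known.nil (t := zc8_cnt_t) (d := 0) (by decide +kernel)

theorem zc8_ge : 4 ≤ Nat.card (grp 276 zc8) :=
  Ch.le_card_grp (k := 9) (L := (lab 276 9)) hn zc8_ok (c := (Ch.cons (nat_lit 8) [nat_lit 1] Ch.nil)) (by decide +kernel)

theorem zc8_eq : (grp 276 h_K) ⊓ Subgroup.centralizer (grp 276 ht_c8_K : Set (Equiv.Perm (Fin 276))) = grp 276 zc8 :=
  cent_grp_eq zc8_sym zc8_cnt zc8_ge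

theorem zc8_card : Nat.card (grp 276 zc8) = 4 :=
  (zc8_sym.mem_iff zc8_cnt zc8_ge).1

theorem zc8_le_Ez : grp 276 zc8 ≤ grp 276 Ez8 :=
  grp_le_of_memB hn hk Ez8_ok zc8_ok (ws := [nat_lit 1]) (by decide +kernel)

theorem ER_le : grp 276 ER ≤ grp 276 h_K :=
  grp_le_of_memB hn hk h_K_ok ER_ok (ws := [nat_lit 0x70705070405030209, nat_lit 0x70907050508040603010306, nat_lit 0xd07090805050305030d0209, nat_lit 0xd090b0709050806040d010306]) (by decide +kernel)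

theorem le916 : grp 276 cw ≤ grp 276 h_K :=
  grp_le_of_memB hn hk h_K_ok cw_ok (ws := [nat_lit 0xf0d090b0709070406030103, nat_lit 0x907090706080305030d0209, nat_lit 0xf0b0709050508040607]) (by decide +kernel)

theorem cw_le : grp 276 cw ≤ (grp 276 h_K) :=
  (le916.trans TH_s0.le)

theorem cw_sym : Sym 276 (grp 276 h_K) ER cw 0 :=
  Sym.of_lab hn hk ER_ok cw_ok cw_le (kT := 0) (by decide +kernel)

noncomputable def cw_cnt_L : List ℕ := [3, 9, TH_s29_O, 0, 0, 4, 11, TH_s30_O, 0, 0, 5, 13, TH_s31_O, 0, 0, 6, 10, TH_s32_O, 1, 0]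

theorem cw_cnt_P : Prob 276 9 (grp 276 h_K) cw_cnt_EG ER ER cw cw_cnt_L 0 0 :=
  Sym.prob hn hk cw_sym cw_cnt_EG_ok (grp_cons_le g214_TH (grp_cons_le g215_TH (grp_cons_le g216_TH (grp_cons_le g217_TH (grp_cons_le g173_TH (grp_cons_le g174_TH (grp_cons_le g175_TH (grp_cons_le g176_TH (grp_cons_le g177_TH (grp_cons_le g35_TH (grp_cons_le g36_TH (grp_cons_le g37_TH (grp_cons_le g38_TH (grp_cons_le g39_TH (grp_cons_le g40_TH (grp_cons_le g41_TH (grp_cons_le g42_TH (grp_nil_le _)))))))))))))))))) (Frames.cons TH_s29_F (Frames.cons TH_s30_F (Frames.cons TH_s31_F (Frames.cons TH_s32_F Frames.nil)))) ER_ok _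

noncomputable def cw_cnt_t : BT := (BT.fix (nat_lit 5) (BT.br (nat_lit 0) (nat_lit 273) [nat_lit 1, nat_lit 3] (BT.kid (nat_lit 273) (nat_lit 2) (BT.fix (nat_lit 7) (BT.img (nat_lit 3) (nat_lit 1) (BT.img (nat_lit 1) (nat_lit 2) (BT.frm (nat_lit 0) (nat_lit 0x1090e0a141814) (nat_lit 0x1090e0a141814) [nat_lit 1, nat_lit 0, nat_lit 3] (BT.pln (nat_lit 0) (nat_lit 5) (BT.dif (nat_lit 4) (nat_lit 0) (BT.br (nat_lit 0) (nat_lit 16) [] (BT.dead (nat_lit 91) (BT.pln (nat_lit 3) (nat_lit 8) (BT.and (nat_lit 3) (nat_lit 0) (BT.dif (nat_lit 0) (nat_lit 8) (BT.dif (nat_lit 0) (nat_lit 11) (BT.br (nat_lit 0) (nat_lit 169) [] (BT.dead (nat_lit 169) (BT.pln (nat_lit 8) (nat_lit 6) (BT.and (nat_lit 8) (nat_lit 0) (BT.pln (nat_lit 10) (nat_lit 3) (BT.dif (nat_lit 1) (nat_lit 0) (BT.pln (nat_lit 12) (nat_lit 4) (BT.dif (nat_lit 1) (nat_lit 0) (BT.pln (nat_lit 14) (nat_lit 7) (BT.dif (nat_lit 1) (nat_lit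 0) (BT.dif (nat_lit 0) (nat_lit 21) (BT.frm (nat_lit 1) (nat_lit 0x1090e0a141814) (nat_lit 0x301090e0a141814) [nat_lit 14, nat_lit 19, nat_lit 18, nat_lit 21] (BT.pln (nat_lit 0) (nat_lit 7) (BT.dif (nat_lit 2) (nat_lit 0) (BT.frm (nat_lit 2) (nat_lit 0x1090e0a141814) (nat_lit 0x50301090e0a141814) [nat_lit 12, nat_lit 17, nat_lit 22, nat_lit 21, nat_lit 24] (BT.pln (nat_lit 0) (nat_lit 5) (BT.and (nat_lit 2) (nat_lit 0) (BT.br (nat_lit 0) (nat_lit 257) [nat_lit 5] (BT.dead (nat_lit 171) (BT.frm (nat_lit 3) (nat_lit 0x1090e0a141814) (nat_lit 0x7050301090e0a141814) [nat_lit 0, nat_lit 16, nat_lit 21, nat_lit 26, nat_lit 25, nat_lit 28] (BT.pln (nat_lit 0) (nat_lit 7) (BT.img (nat_lit 5) (nat_lit 2) (BT.and (nat_lit 1) (nat_lit 0) (BT.cnt (nat_lit 0)))))) BT.nil))))))))))))))))) (BT.dead (nat_lit 86) (BT.pln (nat_lit 8) (nat_lit 6) (BT.and (nat_lit 8) (nat_lit 0) (BT.pln (nat_lit 10)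 (nat_lit 3) (BT.dif (nat_lit 1) (nat_lit 0) (BT.pln (nat_lit 12) (nat_lit 4) (BT.dif (nat_lit 1) (nat_lit 0) (BT.pln (nat_lit 14) (nat_lit 7) (BT.dif (nat_lit 1) (nat_lit 0) (BT.dif (nat_lit 0) (nat_lit 21) (BT.frm (nat_lit 1) (nat_lit 0x1090e0a141814) (nat_lit 0x301090e0a141814) [nat_lit 14, nat_lit 19, nat_lit 18, nat_lit 21] (BT.pln (nat_lit 0) (nat_lit 7) (BT.dif (nat_lit 2) (nat_lit 0) (BT.frm (nat_lit 2) (nat_lit 0x1090e0a141814) (nat_lit 0x301090e0a141814) [nat_lit 12, nat_lit 17, nat_lit 22, nat_lit 21, nat_lit 24] (BT.pln (nat_lit 0) (nat_lit 5) (BT.and (nat_lit 2) (nat_lit 0) (BT.br (nat_lit 0) (nat_lit 257) [nat_lit 5] (BT.dead (nat_lit 60) (BT.frm (nat_lit 3) (nat_lit 0x1090e0a141814) (nat_lit 0x301090e0a141814) [nat_lit 0, nat_lit 16, nat_lit 21, nat_lit 26, nat_lit 25, nat_lit 28] (BT.pln (nat_lit 0) (nat_lit 6) (BT.img (nat_lit 7) (nat_lit 0) (BT.img (nat_lit 3) (nat_lit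 3) (BT.and (nat_lit 1) (nat_lit 0) (BT.cnt (nat_lit 0))))))) BT.nil))))))))))))))))) BT.nil))))))) (BT.kid (nat_lit 16) (nat_lit 2) (BT.pln (nat_lit 3) (nat_lit 8) (BT.and (nat_lit 3) (nat_lit 0) (BT.dif (nat_lit 0) (nat_lit 8) (BT.dif (nat_lit 0) (nat_lit 11) (BT.br (nat_lit 0) (nat_lit 169) [] (BT.dead (nat_lit 86) (BT.pln (nat_lit 8) (nat_lit 6) (BT.and (nat_lit 8) (nat_lit 0) (BT.pln (nat_lit 10) (nat_lit 3) (BT.dif (nat_lit 1) (nat_lit 0) (BT.pln (nat_lit 12) (nat_lit 4) (BT.dif (nat_lit 1) (nat_lit 0) (BT.pln (nat_lit 14) (nat_lit 7) (BT.dif (nat_lit 1) (nat_lit 0) (BT.dif (nat_lit 0) (nat_lit 21) (BT.frm (nat_lit 1) (nat_lit 0x1090e0a141814) (nat_lit 0x1090e0a141814) [nat_lit 14, nat_lit 19, nat_lit 18, nat_lit 21] (BT.pln (nat_lit 0) (nat_lit 7) (BT.dif (nat_lit 2) (nat_lit 0) (BT.frm (nat_lit 2) (nat_lit 0x1090e0a141814) (nat_lit 0x501090e0a141814) [nat_lit 12, nat_lit 17,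 nat_lit 22, nat_lit 21, nat_lit 24] (BT.pln (nat_lit 0) (nat_lit 5) (BT.and (nat_lit 2) (nat_lit 0) (BT.br (nat_lit 0) (nat_lit 257) [nat_lit 5] (BT.dead (nat_lit 219) (BT.frm (nat_lit 3) (nat_lit 0x1090e0a141814) (nat_lit 0x501090e0a141814) [nat_lit 0, nat_lit 16, nat_lit 21, nat_lit 26, nat_lit 25, nat_lit 28] (BT.pln (nat_lit 0) (nat_lit 7) (BT.img (nat_lit 5) (nat_lit 2) (BT.and (nat_lit 1) (nat_lit 0) (BT.cnt (nat_lit 0)))))) BT.nil))))))))))))))))) (BT.kid (nat_lit 169) (nat_lit 2) (BT.pln (nat_lit 8) (nat_lit 6) (BT.and (nat_lit 8) (nat_lit 0) (BT.pln (nat_lit 10) (nat_lit 3) (BT.dif (nat_lit 1) (nat_lit 0) (BT.pln (nat_lit 12) (nat_lit 4) (BT.dif (nat_lit 1) (nat_lit 0) (BT.pln (nat_lit 14) (nat_lit 7) (BT.dif (nat_lit 1) (nat_lit 0) (BT.dif (nat_lit 0) (nat_lit 21) (BT.frm (nat_lit 1) (nat_lit 0x1090e0a141814) (nat_lit 0x1090e0a141814) [nat_lit 14, nat_lit 19, nat_lit 18,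 nat_lit 21] (BT.pln (nat_lit 0) (nat_lit 7) (BT.dif (nat_lit 2) (nat_lit 0) (BT.frm (nat_lit 2) (nat_lit 0x1090e0a141814) (nat_lit 0x1090e0a141814) [nat_lit 12, nat_lit 17, nat_lit 22, nat_lit 21, nat_lit 24] (BT.pln (nat_lit 0) (nat_lit 5) (BT.and (nat_lit 2) (nat_lit 0) (BT.br (nat_lit 0) (nat_lit 257) [nat_lit 5] (BT.kid (nat_lit 257) (nat_lit 1) (BT.one (nat_lit 3) (nat_lit 0x1090e0a141814) (nat_lit 0x1090e0a141814) [nat_lit 0, nat_lit 16, nat_lit 21, nat_lit 26, nat_lit 25, nat_lit 28]) BT.nil))))))))))))))))) BT.nil))))))) BT.nil))))))))) BT.nil)))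

theorem cw_cnt : Cnt 276 (grp 276 h_K) ER ER 0 0 0 0 16 :=
  BT.sound cw_cnt_P Known.nil (t := cw_cnt_t) (d := 0) (by decide +kernel)

theorem cw_ge : 16 ≤ Nat.card (grp 276 cw) :=
  Ch.le_card_grp (k := 9) (L := (lab 276 9)) hn cw_ok (c := (Ch.cons (nat_lit 273) [nat_lit 1, nat_lit 3] (Ch.cons (nat_lit 257) [nat_lit 5] Ch.nil))) (by decide +kernel)

theorem cw_eq : (grp 276 h_K) ⊓ Subgroup.centralizer (grp 276 ER : Set (Equiv.Perm (Fin 276))) = grp 276 cw :=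
  cent_grp_eq cw_sym cw_cnt cw_ge

theorem cw_card : Nat.card (grp 276 cw) = 16 :=
  (cw_sym.mem_iff cw_cnt cw_ge).1

theorem cw_le_EW : grp 276 cw ≤ grp 276 EW :=
  grp_le_of_memB hn hk EW_ok cw_ok (ws := [nat_lit 4, nat_lit 259, nat_lit 65797]) (by decide +kernel)

end Cfsg.Agent.H55.C3
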