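import Cfsg.Agent.H73.CVKit

/-!
# Project C6V, piece H3D: three homologies generate an irreducible primitive group
-/

set_option autoImplicit false

namespace Cfsg.Agent.H55.CvH3d

open Matrix Cfsg.Geo Module
open Cfsg.Agent.H25 Cfsg.Agent.H73.CV
open Cfsg.Agent.H25.CU (qF hf subSU qF_eq hf_eq)
open Cfsg.Agent.H25.C6 hiding Fld Mod Bc Low Ar Tri StdStmt NrmStmt EsStmt GeoStmt TpStmt TvStmt
  OddStmt ZsStmt H3bStmt H3cStmt H3dStmt H3Stmt A1Stmt K0Stmt SwStmt PrimStmt RealStmt BigStmt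
  SmallStmt ClsStmt A2Stmt CopStmt Tv5Stmt LiftStmt KbStmt KoddStmt UqStmt One

universe u

variable {K : Type u} [Field K] {r p : ℕ} {γ l c : K} {s : Fin 3 → GL (Fin 3) K}

theorem arith (h : Ar r p γ l) :
    (2 : K) ≠ 0 ∧ (r : K) ≠ 0 ∧ (r : K) ≠ 3 ∧ (l = -1 → (r : K) ≠ 4) := by
  have := h.char
  have k : ∀ n : ℕ, n.Prime → (n : K) = 0 → p = n := fun n hn e =>
    (Nat.prime_dvd_prime_iff_eq h.prime hn).1 ((CharP.cast_eq_zero_iff K p n).1 e)
  have h2 : (2 : K) ≠ 0 := fun e => h.two (k 2 Nat.prime_two (by exact_mod_cast e))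
  obtain ⟨rfl, h'⟩ := h.pr
  refine ⟨h2, fun e => ?_, fun e => ?_, fun hl e => ?_⟩
  · have := k 11 (by norm_num) e; omega
  · exact pow_ne_zero 3 h2 (by push_cast at e; linear_combination e)
  · exact h.exc hl (k 7 (by norm_num) (by push_cast at e ⊢; linear_combination e))

theorem a_diag (i : Fin 3) : aM r γ i i = 1 := by fin_cases i <;> rfl

theorem a_mul (h : Ar r p γ l) {i j : Fin 3} (e : i ≠ j) : aM r γ i j * aM r γ j i * r = 1 := by
  have h0 := (arith h).2.1
  have := h.gam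
  fin_cases i <;> fin_cases j <;> simp [aM] at e ⊢ <;> field_simp <;> linear_combination -this

theorem a_ne (h : Ar r p γ l) (i j : Fin 3) : aM r γ i j ≠ 0 := fun k => by
  by_cases e : i = j
  · rw [e, a_diag] at k; exact one_ne_zero k
  · simpa [k] using a_mul h e

theorem a_det (h : Ar r p γ l) : (aM r γ).det ≠ 0 := fun k => by
  obtain ⟨-, h0, h3, -⟩ := arith h
  have := h.gam
  simp [aM, det_fin_three] at k
  field_simp at k
  exact h3 (mul_left_cancel₀ h0 (by linear_combination k - this))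

theorem act (h : Tri r p γ l c s) (i : Fin 3) (v : Fin 3 → K) :
    (s i).1 *ᵥ v = c • (v + ((l - 1) * (aM r γ i ⬝ᵥ v)) • Pi.single i 1) := by
  rw [h.eq, sM, smul_mulVec, add_mulVec, one_mulVec, smul_mulVec, vecMulVec_mulVec, op_smul_eq_smul,
    smul_smul]

theorem c_ne (h : Tri r p γ l c s) : c ≠ 0 := fun e => by simpa [e] using h.c3

theorem mem_s (i : Fin 3) : s i ∈ Subgroup.closure (Set.range s) :=
  Subgroup.subset_closure ⟨i, rfl⟩

theorem two_forms (f g : (Fin 3 → K) →ₗ[K] K) : ∃ v, v ≠ 0 ∧ f v = 0 ∧ g v = 0 := by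
  obtain ⟨v, hv, h0⟩ := Submodule.exists_mem_ne_zero_of_ne_bot
    (LinearMap.ker_ne_bot_of_finrank_lt (f := f.prod g) (by simp))
  exact ⟨v, h0, congrArg Prod.fst hv, congrArg Prod.snd hv⟩

theorem irr (h : Tri r p γ l c s) (W : Submodule K (Fin 3 → K))
    (hW : ∀ i, ∀ v ∈ W, (s i).1 *ᵥ v ∈ W) : W = ⊥ ∨ W = ⊤ := by
  have k : ∀ i, ∀ v ∈ W, aM r γ i ⬝ᵥ v ≠ 0 → Pi.single i 1 ∈ W := fun i v hv e => by
    have := hW i v hv
    rwa [act h, W.smul_mem_iff (c_ne h), W.add_mem_iff_right hv,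
      W.smul_mem_iff (mul_ne_zero (sub_ne_zero.2 h.ne) e)] at this
  refine (eq_or_ne W ⊥).imp_right fun e => ?_
  obtain ⟨v, hv, h0⟩ := Submodule.exists_mem_ne_zero_of_ne_bot e
  obtain ⟨i, hi⟩ : ∃ i, aM r γ i ⬝ᵥ v ≠ 0 := by
    by_contra k'
    push Not at k'
    exact h0 (eq_zero_of_mulVec_eq_zero (a_det h.toAr) (funext k'))
  have k2 : ∀ j, Pi.single j 1 ∈ W := fun j =>
    k j _ (k i v hv hi) (by simpa using a_ne h.toAr j i)
  refine eq_top_iff.2 fun w _ => ?_
  rw [pi_eq_sum_univ' w]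
  exact W.sum_mem fun j _ => W.smul_mem _ (k2 j)

/-- A monomial homology which is not diagonal. -/
theorem mono {t : K} {x y : Fin 3 → K} {σ : Equiv.Perm (Fin 3)} (hxy : x ⬝ᵥ y = 1)
    (h : ∀ m k, m ≠ σ k → (if m = k then 1 else 0) + t * y k * x m = 0) {a : Fin 3} (ha : σ a ≠ a) :
    t = -2 ∧ ∃ m, σ m = m ∧ x m = 0 ∧ y m = 0 ∧ ∀ k, k ≠ m → 2 * (x k * y k) = 1 := by
  have d : ∀ k, σ k ≠ k → t * y k * x k = -1 := fun k hk => by
    have := h k k hk.symm
    rw [if_pos rfl] at this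
    linear_combination this
  have n : ∀ k, σ k ≠ k → t ≠ 0 ∧ y k ≠ 0 ∧ x k ≠ 0 := fun k hk => by
    have : t * y k * x k ≠ 0 := by rw [d k hk]; simp
    simpa [not_or, and_assoc] using this
  have o : ∀ m k, m ≠ σ k → m ≠ k → y k = 0 ∨ x m = 0 := fun m k e e' => by
    simpa [e', (n a ha).1] using h m k e
  obtain ⟨m, hm⟩ : ∃ m, σ m = m := by
    by_contra k
    push Not at k
    obtain ⟨m, e, e'⟩ : ∃ m, m ≠ σ a ∧ m ≠ a := 
      (by decide : ∀ a b : Fin 3, ∃ m, m ≠ b ∧ m ≠ a) a _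
    exact (o m a e e').elim (n a ha).2.1 (n m (k m)).2.2
  have mv : ∀ k, k ≠ m → σ k ≠ k := (by decide : ∀ (σ : Equiv.Perm (Fin 3)) (a m : Fin 3),
    σ a ≠ a → σ m = m → ∀ k, k ≠ m → σ k ≠ k) σ a m ha hm
  have am : a ≠ m := fun e => ha (e ▸ hm)
  have hx : x m = 0 := (o m a (fun e => am (σ.injective (e.symm.trans hm.symm))) am.symm).resolve_left
    (n a ha).2.1
  have hy : y m = 0 := (o a m (hm.symm ▸ am) am).resolve_right (n a ha).2.2
  have e : t = -2 := by
    have k1 : ∀ k, t * (x k * y k) = if k = m then 0 else -1 := fun k => by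
      split_ifs with e
      · rw [e, hx, zero_mul, mul_zero]
      · linear_combination d k (mv k e)
    rw [← mul_one t, ← hxy, dotProduct, Finset.mul_sum, Finset.sum_congr rfl fun k _ => k1 k]
    fin_cases m <;> simp [Fin.sum_univ_three] <;> ring
  refine ⟨e, m, hm, hx, hy, fun k hk => mul_left_cancel₀ (n a ha).1 ?_⟩
  linear_combination 2 * d k (mv k hk) - e

theorem prim (h : Tri r p γ l c s) (D : Fin 3 → Submodule K (Fin 3 → K))
    (hD : IsMDecomposition 1 D) : ¬ Subgroup.closure (Set.range s) ≤ decompositionStabilizer D := by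
  intro hle
  choose d d0 hd using fun i => finrank_eq_one_iff'.1 (hD.finrank_eq i)
  let B := basisOfLinearIndependentOfCardEqFinrank
    (hD.indep.linearIndependent D (v := fun i => (d i).1) (fun i => (d i).2)
      fun i e => d0 i (Subtype.ext e)) (by simp)
  have hB : ∀ i, B i = d i := fun i => by simp [B]
  choose σ hσ using fun i => hle (mem_s (s := s) i)
  have xy : ∀ i j, B.repr (Pi.single i 1) ⬝ᵥ (fun k => aM r γ j ⬝ᵥ B k) = aM r γ j i := fun i j => by
    have := congrArg (aM r γ j ⬝ᵥ ·) (B.sum_repr (Pi.single i 1))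
    simp only [dotProduct_sum, dotProduct_smul, dotProduct_single, mul_one] at this
    exact this
  have mn : ∀ i m k, m ≠ σ i k → (if m = k then 1 else 0) +
      (l - 1) * (aM r γ i ⬝ᵥ B k) * B.repr (Pi.single i 1) m = 0 := fun i m k e => by
    obtain ⟨a, ha⟩ := hd (σ i k) ⟨_, hσ i k ▸ Submodule.mem_map_of_mem (d k).2⟩
    have k1 := congrArg (fun v => B.repr v m) (congrArg Subtype.val ha)
    simp only [Submodule.coe_smul, toLin'_apply, act h, ← hB, map_smul, map_add, B.repr_self,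
      Finsupp.smul_apply, Finsupp.add_apply, Finsupp.single_apply, if_neg e.symm, smul_eq_mul,
      mul_zero] at k1
    simpa [eq_comm] using (mul_eq_zero.1 k1.symm).resolve_left (c_ne h)
  have mv : ∀ m, ∃ i, σ i m ≠ m := fun m => by
    by_contra k
    push Not at k
    have := hD.finrank_eq m
    rcases irr h (D m) (fun i v hv => by
      have := hσ i m ▸ Submodule.mem_map_of_mem (f := toLin' (s i).1) hv
      rwa [k] at this) with e | e <;> rw [e] at this <;> simp at this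
  obtain ⟨i, hi⟩ := mv 0
  obtain ⟨hl, m, m1, m2, m3, m4⟩ := mono ((xy i i).trans (a_diag i)) (mn i) hi
  obtain ⟨j, hj⟩ := mv m
  obtain ⟨-, n, n1, n2, n3, n4⟩ := mono ((xy j j).trans (a_diag j)) (mn j) hj
  have mn' : m ≠ n := fun e => hj (e ▸ n1)
  obtain ⟨a, a1, a2, a3⟩ : ∃ a, a ≠ m ∧ a ≠ n ∧ ∀ f : Fin 3 → K, ∑ k, f k = f a + f m + f n := by
    fin_cases m <;> fin_cases n <;> simp at mn'
    exacts [⟨2, by decide, by decide, fun f => by simp [Fin.sum_univ_three]; ring⟩,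
      ⟨1, by decide, by decide, fun f => by simp [Fin.sum_univ_three]; ring⟩,
      ⟨2, by decide, by decide, fun f => by simp [Fin.sum_univ_three]; ring⟩,
      ⟨0, by decide, by decide, fun f => by simp [Fin.sum_univ_three]⟩,
      ⟨1, by decide, by decide, fun f => by simp [Fin.sum_univ_three]; ring⟩,
      ⟨0, by decide, by decide, fun f => by simp [Fin.sum_univ_three]; ring⟩]
  have k1 := xy i j
  have k2 := xy j i
  have k3 := a_mul h.toAr (i := i) (j := j) fun e => hj (e ▸ m1)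
  rw [dotProduct, a3, m2, n3, zero_mul, mul_zero, add_zero, add_zero] at k1
  rw [dotProduct, a3, m3, n2, zero_mul, mul_zero, add_zero, add_zero] at k2
  rw [← k1, ← k2] at k3
  have k4 := m4 a a1
  have k5 := n4 a a2
  refine (arith h.toAr).2.2.2 (by linear_combination hl) ?_
  linear_combination 4 * k3 - r * k4 - 2 * r * (B.repr (Pi.single i 1) a * aM r γ i ⬝ᵥ B a) * k5

theorem fld (h : Tri r p γ l c s) (L : Subalgebra K (Matrix (Fin 3) (Fin 3) K))
    (hL : IsFieldSubalgebra 3 L) : ¬ Subgroup.closure (Set.range s) ≤ subalgebraNormalizer L := by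
  intro hle
  have z : ∀ k ∈ L, ∀ v, v ≠ 0 → k *ᵥ v = 0 → k = 0 := fun k hk v h0 e => by
    by_contra k0
    obtain ⟨y, hy, e'⟩ := hL.inv k hk k0
    rw [hL.comm k hk y hy] at e'
    exact h0 (by rw [← one_mulVec v, ← e', ← mulVec_mulVec, e, mulVec_zero])
  have : L = ⊥ := eq_bot_iff.2 fun k hk => by
    obtain ⟨v, h0, h1, h2⟩ := two_forms (dotProductBilin K K (aM r γ 0))
      ((dotProductBilin K K (aM r γ 0)).comp (toLin' k))
    have e1 : (s 0).1 *ᵥ v = c • v := by rw [act h, show _ ⬝ᵥ v = 0 from h1]; simp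
    have e2 : (s 0).1 *ᵥ (k *ᵥ v) = c • k *ᵥ v := by
      rw [act h, show _ ⬝ᵥ k *ᵥ v = 0 from h2]; simp
    have e3 := z _ (sub_mem ((hle (mem_s 0) k).1 hk) hk) ((s 0).1 *ᵥ v)
      (by rw [e1]; exact smul_ne_zero (c_ne h) h0) (by
        rw [sub_mulVec, mulVec_mulVec, Matrix.mul_assoc, Units.inv_mul, Matrix.mul_one,
          ← mulVec_mulVec, e2, e1, mulVec_smul, sub_self])
    have e4 : (s 0).1 *ᵥ (k *ᵥ Pi.single 0 1) = k *ᵥ ((s 0).1 *ᵥ Pi.single 0 1) := by
      conv_rhs => rw [← sub_eq_zero.1 e3]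
      rw [mulVec_mulVec, mulVec_mulVec, Matrix.mul_assoc, Units.inv_mul, Matrix.mul_one]
    rw [act h, act h, mulVec_smul, smul_right_inj (c_ne h), mulVec_add, add_right_inj, mulVec_smul,
      dotProduct_single, a_diag, mul_one, mul_one, mul_smul,
      smul_right_inj (sub_ne_zero.2 h.ne)] at e4
    have e5 := z _ (sub_mem hk (L.algebraMap_mem (aM r γ 0 ⬝ᵥ k *ᵥ Pi.single 0 1))) (Pi.single 0 1)
      (by simp) (by
        rw [sub_mulVec, Algebra.algebraMap_eq_smul_one, smul_mulVec, one_mulVec, e4, sub_self])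
    exact ⟨_, (sub_eq_zero.1 e5).symm⟩
  have k := hL.finrank_eq
  rw [this] at k
  simp at k

theorem orth (h : Tri r p γ l c s) (b : (Fin 3 → K) → (Fin 3 → K) → K) (hb : Sq (idF K) 1 b) :
    ¬ Subgroup.closure (Set.range s) ≤ similarityGroup b := by
  intro hle
  have S := hb.sesq
  have sr : ∀ a v x, b v (a • x) = a * b v x := S.smul_right
  have sy : ∀ u v, b u v = b v u := fun u v => (hb.herm u v).trans (one_mul _)
  have key : ∀ i u, b u (Pi.single i 1) =
      aM r γ i ⬝ᵥ u * b (Pi.single i 1) (Pi.single i 1) := fun i u => by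
    obtain ⟨μ, hμ⟩ := hle (mem_s (s := s) i)
    simp only [act h, S.smul_left, sr, S.add_left, S.add_right] at hμ
    obtain ⟨v, h0, h1, h2⟩ := two_forms (dotProductBilin K K (aM r γ i))
      (IsLinearMap.mk' (b · (Pi.single i 1)) ⟨fun _ _ => S.add_left _ _ _, fun _ _ => S.smul_left _ _ _⟩)
    have e : c * c = μ := by
      by_contra e
      refine h0 (hb.nondeg v fun w => mul_left_cancel₀ (sub_ne_zero.2 e) ?_)
      have := hμ v w
      rw [show _ ⬝ᵥ v = 0 from h1, show b v _ = 0 from h2] at this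
      linear_combination this
    have k := hμ (u + (-(aM r γ i ⬝ᵥ u)) • Pi.single i 1) (Pi.single i 1)
    simp only [dotProduct_add, dotProduct_smul, dotProduct_single, a_diag, S.add_left, S.smul_left,
      smul_eq_mul, ← e] at k
    refine mul_left_cancel₀ (mul_ne_zero (mul_ne_zero (c_ne h) (c_ne h)) (sub_ne_zero.2 h.ne)) ?_
    linear_combination k
  have n : b (Pi.single 0 1) (Pi.single 0 1) ≠ 0 := fun e => by
    simpa using hb.nondeg (Pi.single 0 1) fun w => by rw [sy, key, e, mul_zero]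
  have k : ∀ i j, aM r γ i j * b (Pi.single i 1) (Pi.single i 1) =
      aM r γ j i * b (Pi.single j 1) (Pi.single j 1) := fun i j => by
    simpa using (key i (Pi.single j 1)).symm.trans ((sy _ _).trans (key j (Pi.single i 1)))
  have k1 := k 0 1
  have k2 := k 1 2
  have k3 := k 0 2
  have k4 := a_ne h.toAr 1 2
  simp [aM, -mul_eq_zero] at k1 k2 k3 k4
  refine mul_ne_zero (mul_ne_zero (arith h.toAr).1 k4) n ?_
  obtain ⟨-, h0, -⟩ := arith h.toAr
  have k5 : b (Pi.single 1 1) (Pi.single 1 1) = r * b (Pi.single 0 1) (Pi.single 0 1) := by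
    rw [k1, mul_inv_cancel_left₀ h0]
  have k6 : b (Pi.single 2 1) (Pi.single 2 1) = r * b (Pi.single 0 1) (Pi.single 0 1) := by
    rw [k3, mul_inv_cancel_left₀ h0]
  rw [k5, k6] at k2
  exact mul_left_cancel₀ h0 (by linear_combination k2)

theorem h3d : Cfsg.Agent.H73.CV.H3dStmt.{u} := fun _ _ _ _ _ _ _ _ _ h => 
  ⟨fun W hW => irr h W fun i => hW _ (mem_s i), prim h, fld h, orth h⟩

end Cfsg.Agent.H55.CvH3d
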