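import Cfsg.Agent.H44.Coset
import Cfsg.Agent.H55.ECo3D0
import Cfsg.Agent.H55.ECo3D1
import Cfsg.Agent.H55.ECo3D2
import Cfsg.Agent.H55.ECo3D3

set_option autoImplicit false
set_option maxRecDepth 1000000
set_option linter.all false
set_option Elab.async false

namespace Cfsg.Agent.H55.ECo3
open Cfsg.Agent.H44

/-- The relators. -/
def R : List (List ℕ) := [[1, 1],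
  [2, 2],
  [3, 3],
  [4, 4],
  [5, 5],
  [6, 6],
  [1, 4, 1, 4],
  [2, 4, 2, 4],
  [3, 5, 3, 5],
  [3, 6, 3, 6],
  [1, 5, 1, 5, 1, 5],
  [2, 6, 2, 6, 2, 6],
  [1, 2, 1, 2, 1, 2, 1, 2],
  [1, 3, 1, 6, 1, 3, 1, 6],
  [1, 6, 1, 6, 1, 6, 1, 6],
  [1, 3, 5, 1, 5, 6, 1, 6, 5],
  [3, 4, 3, 6, 4, 3, 6, 4, 6],
  [1, 2, 3, 4, 3, 2, 1, 3, 4, 3],
  [2, 3, 2, 3, 6, 2, 3, 2, 6, 3],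
  [2, 4, 6, 4, 6, 4, 2, 6, 4, 6],
  [1, 3, 6, 1, 5, 6, 5, 6, 5, 6, 5],
  [1, 2, 1, 2, 5, 3, 4, 5, 4, 5, 4, 3],
  [1, 2, 3, 1, 2, 4, 3, 4, 1, 2, 3, 4],
  [1, 2, 3, 5, 1, 2, 3, 5, 1, 2, 5, 3],
  [1, 2, 4, 3, 4, 2, 1, 6, 4, 3, 4, 6],
  [1, 3, 6, 1, 6, 3, 2, 5, 2, 5, 2, 5]]
/-- The subgroup generators. -/
def S : List (List ℕ) := [[1],
  [2],
  [3],
  [5],
  [6]]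
def Wr : List (List ℕ) := [[4, 4],
  [1, 4, 1, 4],
  [2, 4, 2, 4],
  [3, 3],
  [5, 5],
  [1, 1],
  [2, 2],
  [4, 5, 4, 3, 1, 2, 1, 2, 5, 3, 4, 5],
  [6, 6],
  [3, 5, 3, 5],
  [3, 5, 1, 5, 6, 1, 6, 5, 1],
  [4, 1, 4, 1],
  [5, 1, 5, 1, 5, 1],
  [4, 2, 4, 2],
  [5, 2, 5, 1, 3, 6, 1, 6, 3, 2, 5, 2],
  [3, 6, 3, 6],
  [1, 6, 5, 1, 3, 5, 1, 5, 6],
  [4, 3, 2, 1, 3, 4, 3, 1, 2, 3],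
  [5, 3, 5, 3],
  [1, 6, 5, 1, 5, 3, 1, 5, 6],
  [3, 1, 6, 1, 3, 1, 6, 1],
  [6, 1, 3, 1, 6, 1, 3, 1],
  [1, 2, 5, 3, 4, 5, 4, 5, 4, 3, 1, 2],
  [6, 5, 6, 5, 6, 5, 1, 3, 6, 1, 5],
  [1, 5, 1, 5, 1, 5],
  [2, 5, 2, 5, 1, 3, 6, 1, 6, 3, 2, 5],
  [5, 1, 2, 3, 5, 1, 2, 5, 3, 1, 2, 3],
  [1, 6, 1, 6, 1, 6, 1, 6],
  [2, 3, 1, 2, 4, 3, 4, 1, 2, 3, 4, 1],
  [4, 3, 1, 2, 3, 4, 3, 2, 1, 3],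
  [1, 2, 3, 4, 3, 2, 1, 3, 4, 3],
  [6, 2, 6, 2, 6, 2],
  [3, 4, 6, 1, 2, 4, 3, 4, 2, 1, 6, 4],
  [6, 3, 4, 3, 6, 4, 3, 6, 4],
  [2, 1, 6, 4, 3, 4, 6, 1, 2, 4, 3, 4],
  [3, 4, 2, 1, 3, 2, 1, 4, 3, 2, 1, 4],
  [6, 4, 3, 6, 4, 6, 3, 4, 3],
  [3, 1, 5, 6, 1, 6, 5, 1, 5],
  [6, 1, 6, 5, 1, 3, 5, 1, 5],
  [1, 3, 1, 6, 1, 3, 1, 6],
  [3, 2, 3, 6, 2, 3, 2, 6, 3, 2],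
  [6, 1, 2, 4, 3, 4, 2, 1, 6, 4, 3, 4],
  [2, 1, 2, 5, 3, 4, 5, 4, 5, 4, 3, 1],
  [5, 6, 5, 6, 5, 1, 3, 6, 1, 5, 6],
  [3, 6, 4, 3, 6, 4, 6, 3, 4],
  [5, 4, 5, 4, 3, 1, 2, 1, 2, 5, 3, 4],
  [1, 2, 1, 2, 1, 2, 1, 2],
  [3, 2, 1, 3, 4, 3, 1, 2, 3, 4],
  [6, 4, 6, 4, 2, 6, 4, 6, 2, 4],
  [2, 1, 2, 1, 2, 1, 2, 1],
  [2, 6, 2, 6, 2, 6],
  [1, 2, 3, 5, 1, 2, 3, 5, 1, 2, 5, 3],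
  [1, 5, 6, 1, 6, 5, 1, 5, 3],
  [6, 5, 1, 3, 5, 1, 5, 6, 1],
  [2, 1, 5, 3, 2, 1, 3, 5, 2, 1, 5, 3],
  [1, 3, 5, 2, 1, 5, 3, 2, 1, 5, 3, 2],
  [3, 6, 1, 6, 3, 2, 5, 2, 5, 2, 5, 1],
  [5, 3, 4, 5, 4, 5, 4, 3, 1, 2, 1, 2],
  [2, 3, 5, 1, 2, 3, 5, 1, 2, 5, 3, 1],
  [1, 3, 5, 1, 5, 6, 1, 6, 5],
  [2, 5, 3, 1, 2, 3, 5, 1, 2, 3, 5, 1],
  [2, 3, 4, 3, 2, 1, 3, 4, 3, 1],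
  [6, 4, 6, 2, 4, 6, 4, 6, 4, 2],
  [1, 5, 3, 2, 1, 5, 3, 2, 1, 3, 5, 2],
  [3, 5, 2, 1, 5, 3, 2, 1, 5, 3, 2, 1],
  [5, 3, 2, 1, 5, 3, 2, 1, 3, 5, 2, 1],
  [2, 1, 3, 5, 2, 1, 5, 3, 2, 1, 5, 3],
  [1, 6, 1, 3, 1, 6, 1, 3],
  [3, 2, 6, 3, 2, 3, 2, 3, 6, 2],
  [6, 2, 3, 2, 6, 3, 2, 3, 2, 3],
  [4, 3, 6, 4, 3, 6, 4, 6, 3],
  [3, 5, 1, 2, 3, 5, 1, 2, 5, 3, 1, 2],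
  [5, 3, 1, 2, 3, 5, 1, 2, 3, 5, 1, 2],
  [1, 6, 3, 1, 5, 2, 5, 2, 5, 2, 3, 6],
  [6, 1, 6, 1, 6, 1, 6, 1],
  [6, 3, 2, 5, 2, 5, 2, 5, 1, 3, 6, 1],
  [5, 1, 5, 6, 1, 6, 5, 1, 3],
  [2, 4, 6, 4, 6, 4, 2, 6, 4, 6],
  [6, 4, 3, 4, 6, 1, 2, 4, 3, 4, 2, 1],
  [4, 3, 4, 1, 2, 3, 4, 1, 2, 3, 1, 2],
  [6, 5, 1, 5, 3, 1, 5, 6, 1],
  [2, 5, 2, 5, 2, 5, 1, 3, 6, 1, 6, 3],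
  [4, 5, 4, 5, 4, 3, 5, 2, 1, 2, 1, 3],
  [3, 4, 5, 4, 5, 4, 3, 1, 2, 1, 2, 5],
  [2, 5, 1, 3, 6, 1, 6, 3, 2, 5, 2, 5],
  [6, 3, 6, 3],
  [3, 6, 2, 3, 2, 6, 3, 2, 3, 2],
  [6, 2, 4, 6, 4, 6, 4, 2, 6, 4],
  [2, 1, 3, 4, 3, 1, 2, 3, 4, 3],
  [4, 2, 1, 3, 2, 1, 4, 3, 2, 1, 4, 3],
  [1, 2, 4, 3, 4, 2, 1, 6, 4, 3, 4, 6],
  [1, 6, 4, 3, 4, 6, 1, 2, 4, 3, 4, 2],
  [3, 4, 1, 2, 3, 1, 2, 4, 3, 4, 1, 2],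
  [2, 1, 5, 3, 2, 1, 5, 3, 2, 1, 3, 5],
  [4, 6, 2, 4, 6, 4, 6, 4, 2, 6],
  [2, 3, 2, 6, 3, 2, 3, 2, 3, 6],
  [2, 6, 3, 2, 3, 2, 3, 6, 2, 3],
  [2, 3, 6, 2, 3, 2, 6, 3, 2, 3],
  [4, 6, 4, 2, 6, 4, 6, 2, 4, 6],
  [3, 4, 3, 2, 1, 3, 4, 3, 1, 2],
  [2, 4, 3, 4, 2, 1, 6, 4, 3, 4, 6, 1],
  [3, 1, 2, 3, 4, 3, 2, 1, 3, 4],
  [1, 3, 4, 5, 4, 5, 4, 3, 5, 2, 1, 2],
  [5, 1, 3, 5, 1, 5, 6, 1, 6],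
  [1, 3, 4, 3, 1, 2, 3, 4, 3, 2],
  [6, 3, 2, 3, 2, 3, 6, 2, 3, 2],
  [4, 3, 6, 4, 6, 3, 4, 3, 6],
  [2, 5, 2, 5, 2, 3, 6, 1, 6, 3, 1, 5],
  [2, 1, 4, 3, 2, 1, 4, 3, 4, 2, 1, 3],
  [4, 2, 1, 6, 4, 3, 4, 6, 1, 2, 4, 3],
  [1, 2, 3, 4, 1, 2, 3, 1, 2, 4, 3, 4],
  [4, 6, 1, 2, 4, 3, 4, 2, 1, 6, 4, 3],
  [4, 3, 4, 6, 1, 2, 4, 3, 4, 2, 1, 6],
  [5, 2, 3, 6, 1, 6, 3, 1, 5, 2, 5, 2],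
  [5, 6, 5, 6, 5, 6, 5, 1, 3, 6, 1],
  [5, 4, 3, 1, 2, 1, 2, 5, 3, 4, 5, 4],
  [2, 4, 3, 4, 1, 2, 3, 4, 1, 2, 3, 1],
  [5, 2, 1, 5, 3, 2, 1, 5, 3, 2, 1, 3],
  [4, 1, 2, 3, 4, 1, 2, 3, 1, 2, 4, 3],
  [4, 6, 4, 6, 4, 2, 6, 4, 6, 2],
  [2, 3, 2, 3, 6, 2, 3, 2, 6, 3],
  [3, 6, 1, 5, 6, 5, 6, 5, 6, 5, 1],
  [3, 4, 3, 1, 2, 3, 4, 3, 2, 1],
  [4, 6, 3, 4, 3, 6, 4, 3, 6],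
  [6, 4, 6, 3, 4, 3, 6, 4, 3],
  [4, 5, 4, 3, 5, 2, 1, 2, 1, 3, 4, 5],
  [3, 4, 6, 3, 4, 3, 6, 4, 6],
  [3, 6, 1, 6, 3, 1, 5, 2, 5, 2, 5, 2],
  [6, 3, 1, 5, 2, 5, 2, 5, 2, 3, 6, 1],
  [5, 4, 3, 5, 2, 1, 2, 1, 3, 4, 5, 4],
  [1, 6, 3, 2, 5, 2, 5, 2, 5, 1, 3, 6],
  [1, 3, 2, 1, 4, 3, 2, 1, 4, 3, 4, 2],
  [2, 5, 2, 3, 6, 1, 6, 3, 1, 5, 2, 5],
  [3, 4, 1, 2, 3, 4, 1, 2, 3, 1, 2, 4],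
  [1, 2, 3, 1, 2, 4, 3, 4, 1, 2, 3, 4],
  [3, 5, 2, 1, 2, 1, 3, 4, 5, 4, 5, 4],
  [6, 1, 5, 6, 5, 6, 5, 6, 5, 1, 3],
  [4, 5, 4, 5, 4, 3, 1, 2, 1, 2, 5, 3],
  [1, 2, 5, 3, 1, 2, 3, 5, 1, 2, 3, 5],
  [1, 2, 4, 3, 4, 1, 2, 3, 4, 1, 2, 3],
  [4, 1, 2, 3, 1, 2, 4, 3, 4, 1, 2, 3],
  [5, 6, 5, 1, 3, 6, 1, 5, 6, 5, 6],
  [6, 5, 1, 3, 6, 1, 5, 6, 5, 6, 5],
  [6, 3, 4, 3, 6, 4, 6, 3, 4],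
  [3, 2, 1, 5, 3, 2, 1, 3, 5, 2, 1, 5],
  [3, 6, 4, 6, 3, 4, 6, 3, 4],
  [1, 2, 1, 2, 5, 3, 4, 5, 4, 5, 4, 3],
  [6, 3, 4, 6, 3, 4, 3, 6, 4],
  [2, 1, 2, 1, 3, 4, 5, 4, 5, 4, 3, 5],
  [6, 3, 1, 5, 6, 5, 6, 5, 6, 5, 1],
  [6, 5, 6, 5, 1, 3, 6, 1, 5, 6, 5],
  [1, 6, 3, 1, 5, 6, 5, 6, 5, 6, 5],
  [5, 2, 5, 2, 3, 6, 1, 6, 3, 1, 5, 2],
  [2, 3, 5, 1, 2, 5, 3, 1, 2, 3, 5, 1],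
  [4, 3, 4, 2, 1, 3, 2, 1, 4, 3, 2, 1],
  [4, 3, 2, 1, 4, 3, 4, 2, 1, 3, 2, 1],
  [1, 2, 3, 5, 1, 2, 5, 3, 1, 2, 3, 5],
  [2, 6, 4, 6, 2, 4, 6, 4, 6, 4],
  [5, 2, 1, 2, 1, 3, 4, 5, 4, 5, 4, 3],
  [4, 6, 3, 4, 3, 6, 4, 6, 3],
  [1, 5, 3, 2, 1, 3, 5, 2, 1, 5, 3, 2],
  [6, 5, 6, 5, 6, 5, 1, 6, 3, 1, 5],
  [3, 1, 2, 4, 3, 4, 1, 2, 3, 4, 1, 2],
  [3, 1, 5, 6, 5, 6, 5, 6, 5, 1, 6],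
  [1, 5, 6, 1, 6, 5, 1, 3, 5],
  [5, 1, 3, 6, 1, 6, 3, 2, 5, 2, 5, 2],
  [3, 1, 5, 2, 5, 2, 5, 2, 3, 6, 1, 6],
  [2, 1, 3, 4, 5, 4, 5, 4, 3, 5, 2, 1],
  [4, 3, 5, 2, 1, 2, 1, 3, 4, 5, 4, 5],
  [4, 6, 3, 4, 6, 3, 4, 3, 6],
  [6, 1, 6, 5, 1, 5, 3, 1, 5],
  [3, 2, 1, 4, 3, 2, 1, 4, 3, 4, 2, 1],
  [4, 2, 6, 4, 6, 2, 4, 6, 4, 6],
  [3, 2, 1, 4, 3, 4, 2, 1, 3, 2, 1, 4],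
  [1, 2, 1, 3, 4, 5, 4, 5, 4, 3, 5, 2],
  [3, 4, 5, 4, 5, 4, 3, 5, 2, 1, 2, 1],
  [2, 1, 4, 3, 4, 2, 1, 3, 2, 1, 4, 3],
  [2, 5, 3, 4, 5, 4, 5, 4, 3, 1, 2, 1],
  [3, 5, 1, 2, 5, 3, 1, 2, 3, 5, 1, 2],
  [3, 1, 2, 1, 2, 5, 3, 4, 5, 4, 5, 4],
  [4, 3, 1, 2, 1, 2, 5, 3, 4, 5, 4, 5],
  [5, 2, 5, 2, 5, 1, 3, 6, 1, 6, 3, 2],
  [3, 2, 3, 2, 3, 6, 2, 3, 2, 6],
  [3, 6, 4, 6, 3, 4, 3, 6, 4],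
  [4, 3, 4, 2, 1, 6, 4, 3, 4, 6, 1, 2],
  [3, 4, 3, 6, 4, 3, 6, 4, 6],
  [5, 4, 5, 4, 3, 5, 2, 1, 2, 1, 3, 4],
  [1, 4, 3, 4, 2, 1, 3, 2, 1, 4, 3, 2],
  [6, 4, 2, 6, 4, 6, 2, 4, 6, 4],
  [1, 4, 3, 2, 1, 4, 3, 4, 2, 1, 3, 2],
  [3, 1, 2, 3, 5, 1, 2, 3, 5, 1, 2, 5],
  [2, 3, 4, 1, 2, 3, 1, 2, 4, 3, 4, 1],
  [1, 3, 6, 1, 6, 3, 2, 5, 2, 5, 2, 5],
  [2, 3, 6, 1, 6, 3, 1, 5, 2, 5, 2, 5],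
  [6, 1, 6, 3, 1, 5, 2, 5, 2, 5, 2, 3],
  [1, 5, 2, 5, 2, 5, 2, 3, 6, 1, 6, 3],
  [6, 1, 6, 3, 2, 5, 2, 5, 2, 5, 1, 3],
  [5, 6, 1, 6, 5, 1, 5, 3, 1],
  [3, 2, 1, 3, 5, 2, 1, 5, 3, 2, 1, 5],
  [5, 1, 5, 3, 1, 5, 6, 1, 6],
  [2, 1, 3, 2, 1, 4, 3, 2, 1, 4, 3, 4],
  [5, 3, 1, 5, 6, 1, 6, 5, 1],
  [5, 6, 1, 6, 5, 1, 3, 5, 1],
  [5, 2, 5, 2, 5, 2, 3, 6, 1, 6, 3, 1],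
  [1, 3, 6, 1, 5, 6, 5, 6, 5, 6, 5],
  [5, 1, 3, 6, 1, 5, 6, 5, 6, 5, 6],
  [3, 4, 2, 1, 6, 4, 3, 4, 6, 1, 2, 4],
  [5, 3, 2, 1, 3, 5, 2, 1, 5, 3, 2, 1],
  [3, 4, 3, 6, 4, 6, 3, 4, 6],
  [5, 1, 2, 5, 3, 1, 2, 3, 5, 1, 2, 3],
  [1, 5, 3, 1, 5, 6, 1, 6, 5],
  [5, 1, 6, 3, 1, 5, 6, 5, 6, 5, 6],
  [6, 5, 6, 5, 1, 6, 3, 1, 5, 6, 5],
  [1, 5, 6, 5, 6, 5, 6, 5, 1, 6, 3],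
  [3, 2, 5, 2, 5, 2, 5, 1, 3, 6, 1, 6],
  [4, 3, 6, 4, 6, 3, 4, 6, 3],
  [1, 5, 6, 5, 6, 5, 6, 5, 1, 3, 6],
  [5, 6, 5, 6, 5, 6, 5, 1, 6, 3, 1],
  [5, 6, 5, 6, 5, 1, 6, 3, 1, 5, 6],
  [5, 6, 5, 1, 6, 3, 1, 5, 6, 5, 6],
  [6, 5, 1, 6, 3, 1, 5, 6, 5, 6, 5],
  [6, 4, 6, 3, 4, 6, 3, 4, 3]]
def Wn : List (List ℕ) := [[1, 7],
  [2, 9],
  [3, 11],
  [5, 13],
  [6, 15],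
  [2, 3, 4, 3, 2, 1, 3, 4, 3, 1],
  [4, 1, 2, 3, 1, 2, 4, 3, 4, 1, 2, 3],
  [6, 1, 2, 4, 3, 4, 2, 1, 6, 4, 3, 4],
  [4, 6, 3, 4, 3, 6, 4, 3, 6],
  [6, 6],
  [6, 1, 3, 1, 6, 1, 3, 1],
  [2, 6, 2, 6, 2, 6],
  [1, 1],
  [2, 2],
  [5, 4, 5, 4, 3, 1, 2, 1, 2, 5, 3, 4],
  [1, 2, 5, 3, 4, 5, 4, 5, 4, 3, 1, 2],
  [1, 4, 1, 4],
  [2, 4, 2, 4],
  [2, 3, 1, 2, 4, 3, 4, 1, 2, 3, 4, 1],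
  [6, 2, 4, 6, 4, 6, 4, 2, 6, 4],
  [4, 4],
  [4, 1, 2, 3, 4, 1, 2, 3, 1, 2, 4, 3],
  [3, 3],
  [3, 6, 3, 6],
  [2, 3, 5, 1, 2, 3, 5, 1, 2, 5, 3, 1],
  [6, 2, 6, 2, 6, 2],
  [3, 6, 4, 3, 6, 4, 6, 3, 4],
  [6, 3, 4, 3, 6, 4, 3, 6, 4],
  [3, 2, 1, 3, 4, 3, 1, 2, 3, 4],
  [6, 1, 6, 1, 6, 1, 6, 1],
  [4, 3, 4, 6, 1, 2, 4, 3, 4, 2, 1, 6],
  [2, 6, 3, 2, 3, 2, 3, 6, 2, 3],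
  [4, 1, 4, 1],
  [6, 4, 6, 4, 2, 6, 4, 6, 2, 4],
  [3, 2, 6, 3, 2, 3, 2, 3, 6, 2],
  [2, 3, 6, 2, 3, 2, 6, 3, 2, 3],
  [1, 3, 4, 3, 1, 2, 3, 4, 3, 2],
  [4, 3, 1, 2, 3, 4, 3, 2, 1, 3],
  [6, 4, 3, 4, 6, 1, 2, 4, 3, 4, 2, 1],
  [2, 3, 4, 1, 2, 3, 1, 2, 4, 3, 4, 1],
  [2, 1, 2, 1, 2, 1, 2, 1],
  [1, 6, 5, 1, 3, 5, 1, 5, 6],
  [3, 1, 6, 1, 3, 1, 6, 1],
  [2, 5, 2, 5, 1, 3, 6, 1, 6, 3, 2, 5],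
  [2, 1, 3, 4, 5, 4, 5, 4, 3, 5, 2, 1],
  [1, 2, 1, 2, 1, 2, 1, 2],
  [2, 3, 2, 6, 3, 2, 3, 2, 3, 6],
  [1, 3, 5, 1, 5, 6, 1, 6, 5],
  [2, 5, 2, 5, 2, 5, 1, 3, 6, 1, 6, 3],
  [5, 5],
  [3, 2, 5, 2, 5, 2, 5, 1, 3, 6, 1, 6],
  [3, 5, 3, 5],
  [1, 2, 3, 5, 1, 2, 5, 3, 1, 2, 3, 5],
  [2, 1, 5, 3, 2, 1, 5, 3, 2, 1, 3, 5],
  [5, 1, 5, 1, 5, 1],
  [6, 5, 1, 5, 3, 1, 5, 6, 1],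
  [1, 6, 3, 2, 5, 2, 5, 2, 5, 1, 3, 6],
  [3, 1, 5, 6, 1, 6, 5, 1, 5],
  [1, 6, 1, 3, 1, 6, 1, 3],
  [6, 3, 6, 3],
  [5, 1, 2, 3, 5, 1, 2, 5, 3, 1, 2, 3],
  [4, 3, 4, 1, 2, 3, 4, 1, 2, 3, 1, 2],
  [3, 1, 2, 3, 4, 3, 2, 1, 3, 4],
  [2, 4, 6, 4, 6, 4, 2, 6, 4, 6],
  [4, 6, 4, 2, 6, 4, 6, 2, 4, 6],
  [3, 4, 3, 1, 2, 3, 4, 3, 2, 1],
  [1, 2, 4, 3, 4, 2, 1, 6, 4, 3, 4, 6],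
  [6, 3, 4, 3, 6, 4, 6, 3, 4],
  [4, 3, 4, 2, 1, 6, 4, 3, 4, 6, 1, 2],
  [3, 6, 4, 6, 3, 4, 3, 6, 4],
  [5, 1, 2, 5, 3, 1, 2, 3, 5, 1, 2, 3],
  [5, 3, 5, 3],
  [2, 1, 3, 4, 3, 1, 2, 3, 4, 3],
  [3, 4, 2, 1, 3, 2, 1, 4, 3, 2, 1, 4],
  [4, 6, 3, 4, 6, 3, 4, 3, 6],
  [5, 3, 4, 5, 4, 5, 4, 3, 1, 2, 1, 2],
  [3, 2, 3, 6, 2, 3, 2, 6, 3, 2],
  [1, 2, 3, 1, 2, 4, 3, 4, 1, 2, 3, 4],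
  [6, 5, 6, 5, 6, 5, 1, 3, 6, 1, 5],
  [1, 3, 1, 6, 1, 3, 1, 6],
  [6, 5, 1, 3, 5, 1, 5, 6, 1],
  [1, 5, 6, 1, 6, 5, 1, 5, 3],
  [1, 5, 1, 5, 1, 5],
  [6, 1, 6, 5, 1, 3, 5, 1, 5],
  [4, 2, 1, 3, 2, 1, 4, 3, 2, 1, 4, 3],
  [3, 1, 2, 1, 2, 5, 3, 4, 5, 4, 5, 4],
  [4, 5, 4, 3, 1, 2, 1, 2, 5, 3, 4, 5],
  [3, 1, 5, 2, 5, 2, 5, 2, 3, 6, 1, 6],
  [3, 5, 1, 5, 6, 1, 6, 5, 1],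
  [4, 3, 6, 4, 6, 3, 4, 3, 6],
  [4, 2, 4, 2],
  [6, 4, 6, 2, 4, 6, 4, 6, 4, 2],
  [2, 6, 4, 6, 2, 4, 6, 4, 6, 4],
  [4, 6, 4, 6, 4, 2, 6, 4, 6, 2],
  [1, 2, 3, 4, 3, 2, 1, 3, 4, 3],
  [6, 1, 6, 3, 2, 5, 2, 5, 2, 5, 1, 3],
  [2, 4, 3, 4, 2, 1, 6, 4, 3, 4, 6, 1],
  [5, 1, 3, 5, 1, 5, 6, 1, 6],
  [6, 4, 3, 6, 4, 6, 3, 4, 3],
  [5, 6, 5, 6, 5, 1, 3, 6, 1, 5, 6],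
  [4, 6, 2, 4, 6, 4, 6, 4, 2, 6],
  [4, 6, 1, 2, 4, 3, 4, 2, 1, 6, 4, 3],
  [5, 2, 5, 2, 3, 6, 1, 6, 3, 1, 5, 2],
  [3, 4, 6, 1, 2, 4, 3, 4, 2, 1, 6, 4],
  [6, 3, 4, 6, 3, 4, 3, 6, 4],
  [1, 6, 1, 6, 1, 6, 1, 6],
  [4, 3, 2, 1, 3, 4, 3, 1, 2, 3],
  [3, 1, 2, 4, 3, 4, 1, 2, 3, 4, 1, 2],
  [2, 1, 4, 3, 2, 1, 4, 3, 4, 2, 1, 3],
  [2, 1, 2, 1, 3, 4, 5, 4, 5, 4, 3, 5],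
  [6, 3, 2, 3, 2, 3, 6, 2, 3, 2],
  [1, 2, 1, 3, 4, 5, 4, 5, 4, 3, 5, 2],
  [4, 3, 2, 1, 4, 3, 4, 2, 1, 3, 2, 1],
  [6, 5, 1, 3, 6, 1, 5, 6, 5, 6, 5],
  [5, 4, 3, 5, 2, 1, 2, 1, 3, 4, 5, 4],
  [1, 3, 4, 5, 4, 5, 4, 3, 5, 2, 1, 2],
  [4, 3, 6, 4, 3, 6, 4, 6, 3],
  [5, 6, 5, 6, 5, 6, 5, 1, 3, 6, 1],
  [3, 4, 3, 2, 1, 3, 4, 3, 1, 2],
  [2, 1, 3, 2, 1, 4, 3, 2, 1, 4, 3, 4],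
  [4, 3, 4, 2, 1, 3, 2, 1, 4, 3, 2, 1],
  [2, 5, 3, 4, 5, 4, 5, 4, 3, 1, 2, 1],
  [4, 2, 6, 4, 6, 2, 4, 6, 4, 6],
  [5, 4, 3, 1, 2, 1, 2, 5, 3, 4, 5, 4],
  [1, 4, 3, 2, 1, 4, 3, 4, 2, 1, 3, 2],
  [5, 2, 5, 1, 3, 6, 1, 6, 3, 2, 5, 2],
  [3, 6, 2, 3, 2, 6, 3, 2, 3, 2],
  [2, 1, 6, 4, 3, 4, 6, 1, 2, 4, 3, 4],
  [3, 4, 1, 2, 3, 4, 1, 2, 3, 1, 2, 4],
  [1, 5, 3, 2, 1, 3, 5, 2, 1, 5, 3, 2],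
  [5, 3, 1, 2, 3, 5, 1, 2, 3, 5, 1, 2],
  [1, 5, 6, 5, 6, 5, 6, 5, 1, 6, 3],
  [6, 2, 3, 2, 6, 3, 2, 3, 2, 3],
  [5, 1, 6, 3, 1, 5, 6, 5, 6, 5, 6],
  [1, 6, 5, 1, 5, 3, 1, 5, 6],
  [5, 1, 5, 6, 1, 6, 5, 1, 3],
  [3, 2, 1, 4, 3, 2, 1, 4, 3, 4, 2, 1],
  [2, 3, 2, 3, 6, 2, 3, 2, 6, 3],
  [3, 2, 1, 4, 3, 4, 2, 1, 3, 2, 1, 4],
  [6, 3, 1, 5, 6, 5, 6, 5, 6, 5, 1],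
  [2, 1, 2, 5, 3, 4, 5, 4, 5, 4, 3, 1],
  [1, 3, 5, 2, 1, 5, 3, 2, 1, 5, 3, 2],
  [3, 4, 6, 3, 4, 3, 6, 4, 6],
  [4, 3, 6, 4, 6, 3, 4, 6, 3],
  [3, 6, 4, 6, 3, 4, 6, 3, 4],
  [6, 4, 2, 6, 4, 6, 2, 4, 6, 4],
  [2, 4, 3, 4, 1, 2, 3, 4, 1, 2, 3, 1],
  [1, 4, 3, 4, 2, 1, 3, 2, 1, 4, 3, 2],
  [5, 4, 5, 4, 3, 5, 2, 1, 2, 1, 3, 4],
  [5, 2, 5, 2, 5, 1, 3, 6, 1, 6, 3, 2],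
  [1, 2, 3, 4, 1, 2, 3, 1, 2, 4, 3, 4],
  [1, 2, 3, 5, 1, 2, 3, 5, 1, 2, 5, 3],
  [2, 5, 2, 3, 6, 1, 6, 3, 1, 5, 2, 5],
  [5, 2, 3, 6, 1, 6, 3, 1, 5, 2, 5, 2],
  [2, 3, 5, 1, 2, 5, 3, 1, 2, 3, 5, 1],
  [5, 2, 1, 5, 3, 2, 1, 5, 3, 2, 1, 3],
  [4, 5, 4, 3, 5, 2, 1, 2, 1, 3, 4, 5],
  [6, 1, 6, 3, 1, 5, 2, 5, 2, 5, 2, 3],
  [6, 3, 2, 5, 2, 5, 2, 5, 1, 3, 6, 1],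
  [5, 1, 3, 6, 1, 6, 3, 2, 5, 2, 5, 2],
  [3, 5, 1, 2, 3, 5, 1, 2, 5, 3, 1, 2],
  [2, 1, 5, 3, 2, 1, 3, 5, 2, 1, 5, 3],
  [5, 1, 5, 3, 1, 5, 6, 1, 6],
  [3, 1, 2, 3, 5, 1, 2, 3, 5, 1, 2, 5],
  [3, 6, 1, 6, 3, 1, 5, 2, 5, 2, 5, 2],
  [3, 5, 1, 2, 5, 3, 1, 2, 3, 5, 1, 2],
  [1, 5, 2, 5, 2, 5, 2, 3, 6, 1, 6, 3],
  [3, 5, 2, 1, 5, 3, 2, 1, 5, 3, 2, 1],
  [1, 6, 3, 1, 5, 2, 5, 2, 5, 2, 3, 6],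
  [3, 2, 3, 2, 3, 6, 2, 3, 2, 6],
  [1, 6, 4, 3, 4, 6, 1, 2, 4, 3, 4, 2],
  [3, 4, 1, 2, 3, 1, 2, 4, 3, 4, 1, 2],
  [6, 4, 6, 3, 4, 6, 3, 4, 3],
  [3, 4, 3, 6, 4, 6, 3, 4, 6],
  [6, 4, 6, 3, 4, 3, 6, 4, 3],
  [3, 5, 2, 1, 2, 1, 3, 4, 5, 4, 5, 4],
  [3, 4, 3, 6, 4, 3, 6, 4, 6],
  [1, 3, 2, 1, 4, 3, 2, 1, 4, 3, 4, 2],
  [3, 2, 1, 3, 5, 2, 1, 5, 3, 2, 1, 5],
  [2, 5, 1, 3, 6, 1, 6, 3, 2, 5, 2, 5],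
  [1, 2, 1, 2, 5, 3, 4, 5, 4, 5, 4, 3],
  [4, 2, 1, 6, 4, 3, 4, 6, 1, 2, 4, 3],
  [5, 3, 1, 5, 6, 1, 6, 5, 1],
  [3, 6, 1, 5, 6, 5, 6, 5, 6, 5, 1],
  [3, 1, 5, 6, 5, 6, 5, 6, 5, 1, 6],
  [6, 3, 1, 5, 2, 5, 2, 5, 2, 3, 6, 1],
  [3, 6, 1, 6, 3, 2, 5, 2, 5, 2, 5, 1],
  [1, 3, 6, 1, 6, 3, 2, 5, 2, 5, 2, 5],
  [1, 5, 3, 1, 5, 6, 1, 6, 5],
  [1, 5, 6, 1, 6, 5, 1, 3, 5],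
  [3, 4, 5, 4, 5, 4, 3, 1, 2, 1, 2, 5],
  [4, 5, 4, 5, 4, 3, 5, 2, 1, 2, 1, 3],
  [4, 3, 1, 2, 1, 2, 5, 3, 4, 5, 4, 5],
  [5, 2, 1, 2, 1, 3, 4, 5, 4, 5, 4, 3],
  [4, 3, 5, 2, 1, 2, 1, 3, 4, 5, 4, 5],
  [4, 5, 4, 5, 4, 3, 1, 2, 1, 2, 5, 3],
  [5, 6, 1, 6, 5, 1, 3, 5, 1],
  [3, 4, 5, 4, 5, 4, 3, 5, 2, 1, 2, 1],
  [5, 6, 1, 6, 5, 1, 5, 3, 1],
  [5, 2, 5, 2, 5, 2, 3, 6, 1, 6, 3, 1],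
  [2, 3, 6, 1, 6, 3, 1, 5, 2, 5, 2, 5],
  [5, 1, 3, 6, 1, 5, 6, 5, 6, 5, 6],
  [5, 6, 5, 1, 3, 6, 1, 5, 6, 5, 6],
  [3, 4, 2, 1, 6, 4, 3, 4, 6, 1, 2, 4],
  [6, 5, 6, 5, 1, 3, 6, 1, 5, 6, 5],
  [6, 1, 6, 5, 1, 5, 3, 1, 5],
  [2, 5, 2, 5, 2, 3, 6, 1, 6, 3, 1, 5],
  [1, 3, 6, 1, 5, 6, 5, 6, 5, 6, 5],
  [6, 5, 6, 5, 6, 5, 1, 6, 3, 1, 5],
  [5, 6, 5, 1, 6, 3, 1, 5, 6, 5, 6],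
  [5, 6, 5, 6, 5, 1, 6, 3, 1, 5, 6],
  [2, 5, 3, 1, 2, 3, 5, 1, 2, 3, 5, 1],
  [5, 3, 2, 1, 5, 3, 2, 1, 3, 5, 2, 1],
  [6, 1, 5, 6, 5, 6, 5, 6, 5, 1, 3],
  [4, 6, 3, 4, 3, 6, 4, 6, 3],
  [2, 1, 3, 5, 2, 1, 5, 3, 2, 1, 5, 3],
  [3, 2, 1, 5, 3, 2, 1, 3, 5, 2, 1, 5],
  [1, 5, 3, 2, 1, 5, 3, 2, 1, 3, 5, 2],
  [6, 5, 1, 6, 3, 1, 5, 6, 5, 6, 5],
  [1, 5, 6, 5, 6, 5, 6, 5, 1, 3, 6],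
  [1, 2, 5, 3, 1, 2, 3, 5, 1, 2, 3, 5],
  [5, 6, 5, 6, 5, 6, 5, 1, 6, 3, 1],
  [1, 2, 4, 3, 4, 1, 2, 3, 4, 1, 2, 3],
  [1, 6, 3, 1, 5, 6, 5, 6, 5, 6, 5],
  [6, 5, 6, 5, 1, 6, 3, 1, 5, 6, 5],
  [5, 3, 2, 1, 3, 5, 2, 1, 5, 3, 2, 1],
  [2, 1, 4, 3, 4, 2, 1, 3, 2, 1, 4, 3]]
def cr : List (ℕ × ℕ × ℕ) := [(0, 0, 0), (1, 6, 0), (1, 7, 0), (0, 0, 0), (0, 0, 0), (0, 0, 0), (0, 0, 0), (1, 21, 8), (0, 0, 0), (1, 8, 0), (1, 15, 1), (1, 6, 1), (1, 10, 1), (1, 7, 1), (1, 25, 9), (1, 9, 0), (1, 15, 6), (1, 17, 3), (1, 8, 1), (2, 15, 2), (1, 13, 1), (1, 13, 3), (1, 21, 2), (1, 20, 5), (1, 10, 0), (1, 25, 8), (1, 23, 3), (1, 14, 0), (1, 22, 1), (1, 17, 8), (1, 17, 0), (1, 11, 1), (1, 24, 9), (1, 16, 8), (1, 24, 5), (2, 22, 5),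 (1, 16, 3), (2, 15, 7), (1, 15, 5), (1, 13, 0), (1, 18, 1), (1, 24, 11), (1, 21, 1), (1, 20, 6), (1, 16, 2), (1, 21, 7), (1, 12, 0), (1, 17, 4), (1, 19, 2), (1, 12, 1), (1, 11, 0), (1, 23, 0), (2, 15, 8), (1, 15, 7), (2, 23, 6), (2, 23, 11), (1, 25, 1), (1, 21, 4), (1, 23, 1), (1, 15, 0), (1, 23, 9), (1, 17, 1), (1, 19, 7), (2, 23, 3), (2, 23, 0), (2, 23, 4), (2, 23, 10), (1, 13, 2), (1, 18, 6), (1, 18, 4), (1, 16, 1), (1, 23, 2), (1, 23, 10), (2, 25, 8), (1, 14, 1), (1, 25, 4), (1, 15, 2), (1, 19, 0), (1, 24, 7), (1, 22, 5), (2, 15, 3), (1, 25, 6), (2, 21, 1), (1, 21, 5), (1, 25, 10), (1, 9, 1), (1, 18, 3), (1, 19, 9), (1, 17, 5), (2, 22, 6), (1, 24, 0), (1, 24, 6), (1, 22, 10), (2, 23, 2), (1, 19, 8), (1, 18,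 5), (1, 18, 7), (1, 18, 2), (1, 19, 3), (1, 17, 2), (1, 24, 1), (1, 17, 9), (2, 21, 11), (1, 15, 8), (1, 17, 6), (1, 18, 8), (1, 16, 4), (2, 25, 1), (2, 22, 10), (1, 24, 4), (1, 22, 8), (1, 24, 10), (1, 24, 8), (2, 25, 4), (1, 20, 4), (1, 21, 9), (1, 22, 4), (2, 23, 1), (1, 22, 7), (1, 19, 1), (1, 18, 0), (1, 20, 1), (1, 17, 7), (1, 16, 7), (1, 16, 6), (2, 21, 3), (2, 16, 3), (2, 25, 6), (2, 25, 9), (2, 21, 4), (1, 25, 3), (2, 22, 8), (2, 25, 3), (1, 22, 6), (1, 22, 0), (2, 21, 6), (1, 20, 2), (1, 21, 6), (1, 23, 8), (1, 22, 3), (1, 22, 11), (1, 20, 8), (1, 20, 9), (2, 16, 5), (2, 23, 5), (2, 16, 8), (1, 21, 0), (2, 16, 2), (2, 21, 8), (2, 20, 8), (1, 20, 7), (2, 20, 7), (2, 25, 2), (1, 23, 5), (2, 22, 4), (2,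 22, 0), (1, 23, 4), (1, 19, 6), (2, 21, 7), (2, 16, 4), (2, 23, 7), (2, 20, 1), (1, 22, 2), (2, 20, 9), (1, 15, 3), (1, 25, 11), (2, 25, 10), (2, 21, 10), (2, 21, 5), (2, 16, 1), (2, 15, 1), (2, 22, 9), (1, 19, 5), (2, 22, 1), (2, 21, 9), (2, 21, 0), (2, 22, 2), (1, 21, 3), (1, 23, 6), (1, 21, 11), (1, 21, 10), (1, 25, 7), (1, 18, 9), (1, 16, 5), (1, 24, 2), (1, 16, 0), (2, 21, 2), (2, 22, 3), (1, 19, 4), (2, 22, 11), (1, 23, 11), (1, 22, 9), (1, 25, 0), (2, 25, 5), (2, 25, 7), (2, 25, 11), (1, 25, 2), (2, 15, 0), (2, 23, 9), (2, 15, 4), (2, 22, 7), (2, 15, 6), (1, 15, 4), (2, 25, 0), (1, 20, 0), (1, 20, 10), (1, 24, 3), (2, 23, 8), (2, 16, 6), (1, 23, 7), (2, 15, 5), (2, 20, 6), (2, 20, 3), (2, 20, 10), (1,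 25, 5), (2, 16, 7), (1, 20, 3), (2, 20, 0), (2, 20, 2), (2, 20, 4), (2, 20, 5), (2, 16, 0)]
def cn : List (ℕ × ℕ × ℕ) := [(1, 26, 0), (1, 27, 0), (1, 28, 0), (1, 29, 0), (1, 30, 0), (1, 17, 1), (1, 22, 11), (1, 24, 11), (1, 16, 7), (0, 0, 0), (1, 13, 3), (1, 11, 0), (0, 0, 0), (0, 0, 0), (1, 21, 7), (1, 21, 2), (1, 6, 0), (1, 7, 0), (1, 22, 1), (1, 19, 9), (0, 0, 0), (1, 22, 7), (0, 0, 0), (1, 9, 0), (1, 23, 1), (1, 11, 1), (1, 16, 2), (1, 16, 8), (1, 17, 4), (1, 14, 1), (1, 24, 8), (1, 18, 7), (1, 6, 1), (1, 19, 2), (1, 18, 6), (1, 18, 2), (1, 17, 6), (1, 17, 8), (1, 24, 7), (1, 22, 9), (1, 12, 1), (1, 15, 6), (1, 13, 1), (1, 25, 8), (2, 21, 10), (1, 12, 0), (1, 18, 5), (1, 15, 0), (1, 25, 6), (0, 0, 0), (1,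 25, 5), (1, 8, 0), (1, 23, 4), (2, 23, 2), (1, 10, 1), (2, 15, 3), (1, 25, 3), (2, 15, 7), (1, 13, 2), (1, 9, 1), (1, 23, 3), (1, 22, 5), (1, 17, 9), (1, 19, 0), (1, 19, 3), (1, 17, 7), (1, 24, 0), (2, 16, 5), (1, 24, 2), (1, 16, 5), (1, 23, 7), (1, 8, 1), (1, 17, 5), (2, 22, 5), (2, 16, 1), (1, 21, 4), (1, 18, 1), (1, 22, 0), (1, 20, 5), (1, 13, 0), (1, 15, 7), (2, 15, 8), (1, 10, 0), (1, 15, 5), (2, 22, 6), (1, 21, 11), (1, 21, 8), (2, 25, 10), (1, 15, 1), (1, 16, 4), (1, 7, 1), (1, 19, 7), (1, 19, 6), (1, 19, 1), (1, 17, 0), (1, 25, 2), (1, 24, 1), (1, 15, 8), (1, 16, 3), (1, 20, 6), (1, 19, 8), (1, 24, 10), (2, 25, 2), (1, 24, 9), (2, 16, 2), (1, 14, 0), (1, 17, 3), (1, 22, 2), (2, 22, 10), (2, 21, 8), (1,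 18, 8), (2, 21, 9), (2, 22, 0), (1, 20, 9), (2, 21, 4), (2, 21, 11), (1, 16, 1), (1, 20, 4), (1, 17, 2), (2, 22, 7), (2, 22, 4), (1, 21, 3), (1, 19, 5), (1, 21, 9), (2, 22, 11), (1, 25, 9), (1, 18, 3), (1, 24, 5), (1, 22, 6), (2, 23, 7), (1, 23, 10), (2, 20, 10), (1, 18, 4), (2, 20, 6), (2, 15, 2), (1, 15, 2), (2, 22, 9), (1, 18, 0), (2, 22, 1), (2, 20, 8), (1, 21, 1), (2, 23, 11), (2, 16, 3), (2, 16, 7), (2, 16, 8), (1, 19, 4), (1, 22, 4), (2, 22, 3), (2, 21, 2), (1, 25, 7), (1, 22, 8), (1, 23, 0), (2, 25, 3), (2, 25, 4), (1, 23, 5), (2, 23, 1), (2, 21, 3), (2, 25, 7), (1, 25, 4), (1, 25, 11), (1, 23, 2), (2, 23, 6), (2, 15, 4), (1, 23, 11), (2, 25, 6), (1, 23, 6), (2, 25, 11), (2, 23, 0), (2, 25, 8), (1, 18,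 9), (1, 24, 6), (1, 22, 10), (2, 16, 0), (2, 16, 6), (1, 16, 6), (2, 21, 6), (1, 16, 0), (2, 22, 8), (2, 23, 9), (1, 25, 10), (1, 21, 0), (1, 24, 4), (2, 15, 6), (1, 20, 1), (2, 20, 9), (2, 25, 9), (1, 25, 1), (1, 25, 0), (2, 15, 5), (1, 15, 3), (1, 21, 5), (2, 21, 1), (1, 21, 10), (2, 21, 7), (2, 21, 5), (1, 21, 6), (1, 15, 4), (2, 21, 0), (2, 15, 0), (2, 25, 0), (2, 25, 5), (1, 20, 10), (1, 20, 8), (1, 24, 3), (1, 20, 7), (2, 15, 1), (2, 25, 1), (1, 20, 0), (2, 20, 1), (2, 20, 4), (2, 20, 2), (1, 23, 9), (2, 23, 4), (1, 20, 2), (2, 16, 4), (2, 23, 10), (2, 23, 5), (2, 23, 3), (2, 20, 5), (1, 20, 3), (1, 23, 8), (2, 20, 0), (1, 22, 3), (2, 20, 7), (2, 20, 3), (2, 23, 8), (2, 22, 2)]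
noncomputable def rT : Tr := (.node (.node (.node (.node (.node (.node (.node (.node rT0
 rT1)
 (.node rT2
 rT3))
 (.node (.node rT4
 rT5)
 (.node rT6
 rT7)))
 (.node (.node (.node rT8
 rT9)
 (.node rT10
 rT11))
 (.node (.node rT12
 rT13)
 (.node rT14
 rT15))))
 (.node (.node (.node (.node rT16
 rT17)
 (.node rT18
 rT19))
 (.node (.node rT20
 rT21)
 (.node rT22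
 rT23)))
 (.node (.node (.node rT24
 rT25)
 (.node rT26
 rT27))
 (.node (.node rT28
 rT29)
 (.node rT30
 rT31)))))
 (.node (.node (.node (.node (.node rT32
 rT33)
 (.node rT34
 rT35))
 (.node (.node rT36
 rT37)
 (.node rT38
 rT39)))
 (.node (.node (.node rT40
 rT41)
 (.node rT42
 rT43))
 (.node (.node rT44
 rT45)
 (.node rT46
 rT47))))
 (.node (.node (.node (.node rT48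
 rT49)
 (.node rT50
 rT51))
 (.node (.node rT52
 rT53)
 (.node rT54
 rT55)))
 (.node (.node (.node rT56
 rT57)
 (.node rT58
 rT59))
 (.node (.node rT60
 rT61)
 (.node rT62
 rT63))))))
 (.node (.node (.node (.node (.node (.node rT64
 rT65)
 (.node rT66
 rT67))
 (.node (.node rT68
 rT69)
 (.node rT70
 rT71)))
 (.node (.node (.node rT72
 rT73)
 (.node rT74
 rT75))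
 (.node (.node rT76
 rT77)
 (.node rT78
 rT79))))
 (.node (.node (.node (.node rT80
 rT81)
 (.node rT82
 rT83))
 (.node (.node rT84
 rT85)
 (.node rT86
 rT87)))
 (.node (.node (.node rT88
 rT89)
 (.node rT90
 rT91))
 (.node (.node rT92
 rT93)
 (.node rT94
 rT95)))))
 (.node (.node (.node (.node (.node rT96
 rT97)
 (.node rT98
 rT99))
 (.node (.node rT100
 rT101)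
 (.node rT102
 rT103)))
 (.node (.node (.node rT104
 rT105)
 (.node rT106
 rT107))
 (.node (.node rT108
 rT109)
 (.node rT110
 rT111))))
 (.node (.node (.node (.node rT112
 rT113)
 (.node rT114
 rT115))
 (.node (.node rT116
 rT117)
 (.node rT118
 rT119)))
 (.node (.node (.node rT120
 rT121)
 (.node rT122
 rT123))
 (.node (.node rT124
 rT125)
 (.node rT126
 rT127)))))))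
 (.node (.node (.node (.node (.node (.node (.node rT128
 rT129)
 (.node rT130
 rT131))
 (.node (.node rT132
 rT133)
 (.node rT134
 rT135)))
 (.node (.node (.node rT136
 rT137)
 (.node rT138
 rT139))
 (.node (.node rT140
 rT141)
 (.node rT142
 rT143))))
 (.node (.node (.node (.node rT144
 rT145)
 (.node rT146
 rT147))
 (.node (.node rT148
 rT149)
 (.node rT150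
 rT151)))
 (.node (.node (.node rT152
 rT153)
 (.node rT154
 rT155))
 (.node (.node rT156
 rT157)
 (.node rT158
 rT159)))))
 (.node (.node (.node (.node (.node rT160
 rT161)
 (.node rT162
 rT163))
 (.node (.node rT164
 rT165)
 (.node rT166
 (.leaf (nat_lit 0)))))
 (.leaf (nat_lit 0)))
 (.leaf (nat_lit 0))))
 (.leaf (nat_lit 0))))
noncomputable def gT : Tr := (.node (.node (.node (.node gT0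
 gT1)
 (.node gT2
 gT3))
 (.node (.node gT4
 gT5)
 (.node gT6
 gT7)))
 (.node (.node (.node gT8
 gT9)
 (.node gT10
 gT11))
 (.node (.node gT12
 gT13)
 (.leaf (nat_lit 0)))))
noncomputable def rC (i : ℕ) : ℕ := rT.get (nat_lit 8192) i
noncomputable def gC (i : ℕ) : ℕ := gT.get (nat_lit 512) i
noncomputable def row (p : ℕ) : ℕ := rec2 rC (nat_lit 4) (nat_lit 15) (nat_lit 203) (nat_lit 0x7ffffffffffffffffffffffffffffffffffffffffffffffffff) p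
noncomputable def gf (p : ℕ) : ℕ := rec2 gC (nat_lit 6) (nat_lit 63) (nat_lit 52) (nat_lit 0xfffffffffffff) p
noncomputable def gw (c : ℕ) : List ℕ := nth [] Wr c
noncomputable def wn (c : ℕ) : ℕ := pack (nat_lit 5) (nth [] Wn c) (nat_lit 0)
noncomputable def C : Cert :=
  { n := (nat_lit 170775), na := (nat_lit 13732), M := (nat_lit 55668), nc := (nat_lit 6), W := (nat_lit 18), EB := (nat_lit 29),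
    LB := (nat_lit 5), nreg := (nat_lit 222), ivT := (nat_lit 0xf835cb62547418a418820), base := (nat_lit 43648),
    row := row, gf := gf, gw := gw, wn := wn }
theorem masks : Masks C (nat_lit 262143) (nat_lit 0x1fffffff) (nat_lit 31) (nat_lit 41) (nat_lit 0x1ffffffffff) :=
  ⟨by decide +kernel, by decide +kernel, by decide +kernel, by decide +kernel, by decide +kernel⟩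
noncomputable def rchk : ℕ → ℕ → ℕ → Bool :=
  rowChk row gf gw (nat_lit 170775) (nat_lit 55668) (nat_lit 6) (nat_lit 18) (nat_lit 262143) (nat_lit 29) (nat_lit 0x1fffffff) (nat_lit 5) (nat_lit 31) (nat_lit 41) (nat_lit 0x1ffffffffff) (nat_lit 222) (nat_lit 0xf835cb62547418a418820) (nat_lit 16) (nat_lit 65535) (nat_lit 9) (nat_lit 511)
noncomputable def fchk : ℕ → ℕ → ℕ → Bool :=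
  auxRun row gf wn (nat_lit 170775) (nat_lit 13732) (nat_lit 55668) (nat_lit 6) (nat_lit 18) (nat_lit 262143) (nat_lit 29) (nat_lit 0x1fffffff) (nat_lit 5) (nat_lit 31) (nat_lit 41) (nat_lit 0xf835cb62547418a418820) (nat_lit 43648) (nat_lit 17) (nat_lit 131071)
theorem rows_of {lo hi : ℕ} {t : JL} (h : t.run rchk (nat_lit 54) hi lo = true) : C.RowsOK lo hi :=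
  rowsOK_of_run masks h
theorem facts_of {lo hi : ℕ} {t : JL} (h : t.run fchk (nat_lit 20) hi lo = true) : C.FactsOK lo hi :=
  factsOK_of_run masks h
theorem words_ok : wordsChk 170775 6 18 5 222 18754227528905178281510944 43648 R S Wr Wn cr cn = true := by
  decide +kernel

end Cfsg.Agent.H55.ECo3

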