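import Mathlib
import Cfsg.Agent.H43.Cent
import Cfsg.Agent.H55.EjB
import Cfsg.Agent.H17.EvHS

set_option autoImplicit false
set_option maxRecDepth 200000
set_option linter.style.longLine false

namespace Cfsg.Agent.H55.EjHS

open Cfsg.Agent.H43 Cfsg.Agent.H17
open scoped commutatorElement

theorem q_hn : NOk 100 := by decide

theorem q_hk : 100 ≤ 2 ^ 7 := by decide

noncomputable def q_g1 : Net := (Net.cons (nat_lit 1) (nat_lit 0x4045550055104445400105040) (Net.cons (nat_lit 2) (nat_lit 0x3020322211021303233212110) (Net.cons (nat_lit 4) (nat_lit 0x2070f010202090f08030102) (Net.cons (nat_lit 8) (nat_lit 0x840015005000aa00220001) (Net.cons (nat_lit 16) (nat_lit 0xca24000008a900000004) (Net.cons (nat_lit 32) (nat_lit 0x60000000012a86e00) (Net.cons (nat_lit 64) (nat_lit 0x352f8ffe5) (Net.cons (nat_lit 32) (nat_lit 0x90000000047b304d1) (Net.cons (nat_lit 16) (nat_lit 0x1e1c000041d90000d06e) (Net.cons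 (nat_lit 8) (nat_lit 0x6b009700e3003d00ad00b9) (Net.cons (nat_lit 4) (nat_lit 0xc060d0e0901030b0f0b030c) (Net.cons (nat_lit 2) (nat_lit 0x211300210202201010020333) (Net.cons (nat_lit 1) (nat_lit 0x1441541145111551455514045) Net.nil)))))))))))))

theorem q_g1_ok : Net.ok 100 q_g1 = true := by decide +kernel

noncomputable def q_g2 : Net := (Net.cons (nat_lit 1) (nat_lit 0x444014444505054411010000) (Net.cons (nat_lit 2) (nat_lit 0x1230333333310302201000100) (Net.cons (nat_lit 4) (nat_lit 0xc0901010a03030604090301) (Net.cons (nat_lit 8) (nat_lit 0x570042005100300062000c) (Net.cons (nat_lit 16) (nat_lit 0x16b20000220d00000003) (Net.cons (nat_lit 32) (nat_lit 0x2cd40e30) (Net.cons (nat_lit 64) (nat_lit 0xffffe3ffd) (Net.cons (nat_lit 32) (nat_lit 0x800000000b7b7e004) (Net.cons (nat_lit 16) (nat_lit 0xede50000ed0a00001963) (Net.cons (nat_lit 8) (nat_lit 0x36003500cd00100045007c) (Net.cons (nat_lit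 4) (nat_lit 0xe0f030304090a0b080d0105) (Net.cons (nat_lit 2) (nat_lit 0x3103320102123033023333003) (Net.cons (nat_lit 1) (nat_lit 0x5400000515001051150140410) Net.nil)))))))))))))

theorem q_g2_ok : Net.ok 100 q_g2 = true := by decide +kernel

noncomputable def q_g3 : Net := (Net.cons (nat_lit 1) (nat_lit 0x4405010540040450454145150) (Net.cons (nat_lit 2) (nat_lit 0x1010022003133101210121320) (Net.cons (nat_lit 4) (nat_lit 0xa0307070409080f060800) (Net.cons (nat_lit 8) (nat_lit 0xca0081004300f900250009) (Net.cons (nat_lit 16) (nat_lit 0xc6140000041100000000) (Net.cons (nat_lit 32) (nat_lit 0x20000000044408320) (Net.cons (nat_lit 64) (nat_lit 0x34e5c97ec) (Net.cons (nat_lit 32) (nat_lit 0xb000000007b16548b) (Net.cons (nat_lit 16) (nat_lit 0xdc100000cdb60000ff38) (Net.cons (nat_lit 8) (nat_lit 0xe7002d0060008900d0009d) (Net.cons (nat_lit 4) (nat_lit 0xf020b090a0d040303090b02) (Net.cons (nat_lit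 2) (nat_lit 0x1231030302302011313321132) (Net.cons (nat_lit 1) (nat_lit 0x1545141414415101010400501) Net.nil)))))))))))))

theorem q_g3_ok : Net.ok 100 q_g3 = true := by decide +kernel

noncomputable def q_g4 : Net := (Net.cons (nat_lit 1) (nat_lit 0x1050051100150455441114040) (Net.cons (nat_lit 2) (nat_lit 0x130130200220021002332320) (Net.cons (nat_lit 4) (nat_lit 0x50901080e080c0908050909) (Net.cons (nat_lit 8) (nat_lit 0x60000c0052003000d2000f) (Net.cons (nat_lit 16) (nat_lit 0x18360000c38a0000000f) (Net.cons (nat_lit 32) (nat_lit 0xa000000003c083200) (Net.cons (nat_lit 64) (nat_lit 0x13d7b368e) (Net.cons (nat_lit 32) (nat_lit 0x6000000004db89443) (Net.cons (nat_lit 16) (nat_lit 0xe7f9000020a50000efdf) (Net.cons (nat_lit 8) (nat_lit 0x9500360091001400d1003f) (Net.cons (nat_lit 4) (nat_lit 0xe060a040d0c0806040a0606) (Net.cons (nat_lit 2) (nat_lit 0x231230100130312011331312) (Net.cons (nat_lit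 1) (nat_lit 0x4505504455405100114441515) Net.nil)))))))))))))

theorem q_g4_ok : Net.ok 100 q_g4 = true := by decide +kernel

noncomputable def q_g5 : Net := (Net.cons (nat_lit 1) (nat_lit 0x554005014114544010415400) (Net.cons (nat_lit 2) (nat_lit 0x213301202201100012300000) (Net.cons (nat_lit 4) (nat_lit 0xc0901000a00000901040c04) (Net.cons (nat_lit 8) (nat_lit 0x750082001c00c800160008) (Net.cons (nat_lit 16) (nat_lit 0xa4d80000888300000002) (Net.cons (nat_lit 32) (nat_lit 0x40000000083050e40) (Net.cons (nat_lit 64) (nat_lit 0x8f3271edc) (Net.cons (nat_lit 32) (nat_lit 0xf000000008bdd8e4a) (Net.cons (nat_lit 16) (nat_lit 0xaed00000828b00000503) (Net.cons (nat_lit 8) (nat_lit 0x7d00ce003400e0001f0049) (Net.cons (nat_lit 4) (nat_lit 0xc0901000a01010901040c04) (Net.cons (nat_lit 2) (nat_lit 0x213301202201100012300000) (Net.cons (nat_lit 1) (nat_lit 0x554005014114544010415400) Net.nil)))))))))))))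

theorem q_g5_ok : Net.ok 100 q_g5 = true := by decide +kernel

noncomputable def q_g6 : Net := (Net.cons (nat_lit 1) (nat_lit 0x5510044444410041411410100) (Net.cons (nat_lit 2) (nat_lit 0x3203202202332302122300100) (Net.cons (nat_lit 4) (nat_lit 0x80804080c01090100050300) (Net.cons (nat_lit 8) (nat_lit 0x2c00aa009000d000900002) (Net.cons (nat_lit 16) (nat_lit 0xc2150000040d00000001) (Net.cons (nat_lit 32) (nat_lit 0x20000000054c4c000) (Net.cons (nat_lit 64) (nat_lit 0x95fecc8d3) (Net.cons (nat_lit 32) (nat_lit 0x2000000008445e6d4) (Net.cons (nat_lit 16) (nat_lit 0xaa9500005dbd000058d1) (Net.cons (nat_lit 8) (nat_lit 0x7e00ea00c2008000c00052) (Net.cons (nat_lit 4) (nat_lit 0x808060c0c01090500050300) (Net.cons (nat_lit 2) (nat_lit 0x3203202202332302122300100) (Net.cons (nat_lit 1) (nat_lit 0x5510044444410041411410100) Net.nil)))))))))))))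

theorem q_g6_ok : Net.ok 100 q_g6 = true := by decide +kernel

noncomputable def q_g7 : Net := (Net.cons (nat_lit 1) (nat_lit 0x4405015151555101404510000) (Net.cons (nat_lit 2) (nat_lit 0x332012111310211122201010) (Net.cons (nat_lit 4) (nat_lit 0xc0a08080009090002030100) (Net.cons (nat_lit 8) (nat_lit 0x1400080008000400a0000a) (Net.cons (nat_lit 16) (nat_lit 0x58090000124c00000005) (Net.cons (nat_lit 32) (nat_lit 0x600000000900bc1c0) (Net.cons (nat_lit 64) (nat_lit 0xb40bddc6) (Net.cons (nat_lit 32) (nat_lit 0xf00000000d1cfe3c9) (Net.cons (nat_lit 16) (nat_lit 0x984d0000db1d00008035) (Net.cons (nat_lit 8) (nat_lit 0x5400490069004500eb004b) (Net.cons (nat_lit 4) (nat_lit 0xc0a08080009090002030100) (Net.cons (nat_lit 2) (nat_lit 0x332012111310211122201010) (Net.cons (nat_lit 1) (nat_lit 0x4405015151555101404510000) Net.nil)))))))))))))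

theorem q_g7_ok : Net.ok 100 q_g7 = true := by decide +kernel

noncomputable def q_g8 : Net := (Net.cons (nat_lit 1) (nat_lit 0x4001510500040441400100010) (Net.cons (nat_lit 2) (nat_lit 0x3232010330302001021100100) (Net.cons (nat_lit 4) (nat_lit 0x4050901040400030b000201) (Net.cons (nat_lit 8) (nat_lit 0xa5006b00d3000100000000) (Net.cons (nat_lit 16) (nat_lit 0x83000000c200000002) (Net.cons (nat_lit 32) (nat_lit 0x2600b0) (Net.cons (nat_lit 64) (nat_lit 0xb032751b8) (Net.cons (nat_lit 32) (nat_lit 0x80000000002b401e8) (Net.cons (nat_lit 16) (nat_lit 0xab810000dad100000b10) (Net.cons (nat_lit 8) (nat_lit 0xe7006800d1000300470026) (Net.cons (nat_lit 4) (nat_lit 0x4050d00040400060b010201) (Net.cons (nat_lit 2) (nat_lit 0x3232010330302001023100100) (Net.cons (nat_lit 1) (nat_lit 0x1510500440455400500010) Net.nil)))))))))))))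

theorem q_g8_ok : Net.ok 100 q_g8 = true := by decide +kernel

noncomputable def U : List Net := [q_g2, q_g3, q_g4, q_g5, q_g6, q_g7, q_g8, EvHT.t_g181, EvHT.t_g60]

theorem U_ok : okE 100 U = true := (okE_cons.2 ⟨q_g2_ok, (okE_cons.2 ⟨q_g3_ok, (okE_cons.2 ⟨q_g4_ok, (okE_cons.2 ⟨q_g5_ok, (okE_cons.2 ⟨q_g6_ok, (okE_cons.2 ⟨q_g7_ok, (okE_cons.2 ⟨q_g8_ok, (okE_cons.2 ⟨EvHT.t_g181_ok, (okE_cons.2 ⟨EvHT.t_g60_ok, (okE_nil 100)⟩)⟩)⟩)⟩)⟩)⟩)⟩)⟩)⟩)

noncomputable def q_g9 : Net := (Net.cons (nat_lit 1) (nat_lit 0x514455050154504414544150) (Net.cons (nat_lit 2) (nat_lit 0x1311002100110031310200200) (Net.cons (nat_lit 4) (nat_lit 0x90007090a0c0c0b02050802) (Net.cons (nat_lit 8) (nat_lit 0xac003e006f00c000020000) (Net.cons (nat_lit 16) (nat_lit 0x22900000129900000004) (Net.cons (nat_lit 32) (nat_lit 0x70000000001698780) (Net.cons (nat_lit 64) (nat_lit 0xae7fd97cd) (Net.cons (nat_lit 32) (nat_lit 0x400000000b7d74401)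 (Net.cons (nat_lit 16) (nat_lit 0xe76a000096630000228e) (Net.cons (nat_lit 8) (nat_lit 0xd500f800ec00d200030025) (Net.cons (nat_lit 4) (nat_lit 0xf05010b040d0d0904010b02) (Net.cons (nat_lit 2) (nat_lit 0x3000203032020013310210201) (Net.cons (nat_lit 1) (nat_lit 0x1414545144051554454105151) Net.nil)))))))))))))

theorem q_g9_ok : Net.ok 100 q_g9 = true := by decide +kernel

noncomputable def q_g10 : Net := (Net.cons (nat_lit 1) (nat_lit 0x5014550000010041040141000) (Net.cons (nat_lit 2) (nat_lit 0x333122022210021100012200) (Net.cons (nat_lit 4) (nat_lit 0xd0505080c08070e000e0d01) (Net.cons (nat_lit 8) (nat_lit 0xc9002a009c009f000a0001) (Net.cons (nat_lit 16) (nat_lit 0x73b50000630000000005) (Net.cons (nat_lit 32) (nat_lit 0x40000000081040010) (Net.cons (nat_lit 64) (nat_lit 0xb892573d6) (Net.cons (nat_lit 32) (nat_lit 0x400000000b21a5505) (Net.cons (nat_lit 16) (nat_lit 0x227800006a9000001105)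 (Net.cons (nat_lit 8) (nat_lit 0xc8003f008c009e009a0058) (Net.cons (nat_lit 4) (nat_lit 0xe00000c090c060f010f0e05) (Net.cons (nat_lit 2) (nat_lit 0x1333132132210121100112310) (Net.cons (nat_lit 1) (nat_lit 0x5004550010010041040141040) Net.nil)))))))))))))

theorem q_g10_ok : Net.ok 100 q_g10 = true := by decide +kernel

noncomputable def q_V11 : List Net := [EvHT.t_g68, q_g9, q_g10]

theorem q_V11_ok : okE 100 q_V11 = true := (okE_cons.2 ⟨EvHT.t_g68_ok, (okE_cons.2 ⟨q_g9_ok, (okE_cons.2 ⟨q_g10_ok, (okE_nil 100)⟩)⟩)⟩)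

noncomputable def q_g13 : Net := (Net.cons (nat_lit 1) (nat_lit 0x5040441515501105145401000) (Net.cons (nat_lit 2) (nat_lit 0x21311033031103302300230) (Net.cons (nat_lit 4) (nat_lit 0xc09010d090c040c07060a03) (Net.cons (nat_lit 8) (nat_lit 0x89002c00b000da00c8000a) (Net.cons (nat_lit 16) (nat_lit 0x83b000080f900000003) (Net.cons (nat_lit 32) (nat_lit 0x90000000073835040) (Net.cons (nat_lit 64) (nat_lit 0xe7bf7db45) (Net.cons (nat_lit 32) (nat_lit 0x3000000003560cf18) (Net.cons (nat_lit 16) (nat_lit 0x78030000d55300001347) (Net.cons (nat_lit 8) (nat_lit 0x7400f600e200d300540032) (Net.cons (nat_lit 4) (nat_lit 0xa0b070e0b0e0c0e0b090b02) (Net.cons (nat_lit 2) (nat_lit 0x300013023101123222320320) (Net.cons (nat_lit 1) (nat_lit 0x4151015501104115545411504) Net.nil)))))))))))))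

theorem q_g13_ok : Net.ok 100 q_g13 = true := by decide +kernel

noncomputable def q_g14 : Net := (Net.cons (nat_lit 1) (nat_lit 0x404041540114051110101410) (Net.cons (nat_lit 2) (nat_lit 0x3223100033301002212001000) (Net.cons (nat_lit 4) (nat_lit 0x10b00000c0209030809040f) (Net.cons (nat_lit 8) (nat_lit 0x5900140004008700190009) (Net.cons (nat_lit 16) (nat_lit 0xb5ac0000012800000005) (Net.cons (nat_lit 32) (nat_lit 0xf000000005290b180) (Net.cons (nat_lit 64) (nat_lit 0xc72d4bda3) (Net.cons (nat_lit 32) (nat_lit 0x3000000009bd4af2c) (Net.cons (nat_lit 16) (nat_lit 0xd3330000171c0000a2b6) (Net.cons (nat_lit 8) (nat_lit 0x6b0093004a001700eb0065) (Net.cons (nat_lit 4) (nat_lit 0x90c0a02040d030301050c0f) (Net.cons (nat_lit 2) (nat_lit 0x1303110000300330320232020) (Net.cons (nat_lit 1) (nat_lit 0x5001514410110015511110050) Net.nil)))))))))))))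

theorem q_g14_ok : Net.ok 100 q_g14 = true := by decide +kernel

noncomputable def q_g15 : Net := (Net.cons (nat_lit 1) (nat_lit 0x4545400005111451510001454) (Net.cons (nat_lit 2) (nat_lit 0x1033311112310313031222020) (Net.cons (nat_lit 4) (nat_lit 0x2070f0605080a0700050d02) (Net.cons (nat_lit 8) (nat_lit 0x99004d0093008400f60000) (Net.cons (nat_lit 16) (nat_lit 0x21040000110900000004) (Net.cons (nat_lit 32) (nat_lit 0xc7559010) (Net.cons (nat_lit 64) (nat_lit 0xfffdf9b76) (Net.cons (nat_lit 32) (nat_lit 0x60000000015471651) (Net.cons (nat_lit 16) (nat_lit 0x8c4100008edd00003ce1) (Net.cons (nat_lit 8) (nat_lit 0x23007a00000080003a0049) (Net.cons (nat_lit 4) (nat_lit 0x80e08040d010103020d0f0c) (Net.cons (nat_lit 2) (nat_lit 0x2003101033221222131023100) (Net.cons (nat_lit 1) (nat_lit 0x4505105144545110540114011) Net.nil)))))))))))))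

theorem q_g15_ok : Net.ok 100 q_g15 = true := by decide +kernel

noncomputable def q_V16 : List Net := [q_g10, q_g13, q_g14, q_g15]

theorem q_V16_ok : okE 100 q_V16 = true := (okE_cons.2 ⟨q_g10_ok, (okE_cons.2 ⟨q_g13_ok, (okE_cons.2 ⟨q_g14_ok, (okE_cons.2 ⟨q_g15_ok, (okE_nil 100)⟩)⟩)⟩)⟩)

noncomputable def q_g18 : Net := (Net.cons (nat_lit 1) (nat_lit 0x1515554415445404050110010) (Net.cons (nat_lit 2) (nat_lit 0x1122000302110222000221020) (Net.cons (nat_lit 4) (nat_lit 0x3010007000e0e060100000a) (Net.cons (nat_lit 8) (nat_lit 0xc200a40049009a00680008) (Net.cons (nat_lit 16) (nat_lit 0x8181000022d10000000a) (Net.cons (nat_lit 32) (nat_lit 0x80000000013a22070) (Net.cons (nat_lit 64) (nat_lit 0x693e222fe) (Net.cons (nat_lit 32) (nat_lit 0x90000000031b6207b) (Net.cons (nat_lit 16) (nat_lit 0x9c8b0000eed30000582a) (Net.cons (nat_lit 8) (nat_lit 0xc000b400590098006b0008) (Net.cons (nat_lit 4) (nat_lit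 0x2050107000f0e060100000a) (Net.cons (nat_lit 2) (nat_lit 0x3122000302310022002221020) (Net.cons (nat_lit 1) (nat_lit 0x1515554415445404050110010) Net.nil)))))))))))))

theorem q_g18_ok : Net.ok 100 q_g18 = true := by decide +kernel

noncomputable def q_g19 : Net := (Net.cons (nat_lit 1) (nat_lit 0x14155401441514051101140) (Net.cons (nat_lit 2) (nat_lit 0x1000113223003102100211200) (Net.cons (nat_lit 4) (nat_lit 0xf0001040f0d020001000a05) (Net.cons (nat_lit 8) (nat_lit 0x1000ed006d000800010002) (Net.cons (nat_lit 16) (nat_lit 0xca100000021c00000001) (Net.cons (nat_lit 32) (nat_lit 0x24801230) (Net.cons (nat_lit 64) (nat_lit 0xffca6123f) (Net.cons (nat_lit 32) (nat_lit 0x30000000037c83263) (Net.cons (nat_lit 16) (nat_lit 0xca5400004a5c00001055) (Net.cons (nat_lit 8) (nat_lit 0x900cf007d008800110093) (Net.cons (nat_lit 4) (nat_lit 0xf0203060f0d020201020e05) (Net.cons (nat_lit 2) (nat_lit 0x1000113223103102100211201)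 (Net.cons (nat_lit 1) (nat_lit 0x14155401441514051101140) Net.nil)))))))))))))

theorem q_g19_ok : Net.ok 100 q_g19 = true := by decide +kernel

noncomputable def q_g20 : Net := (Net.cons (nat_lit 1) (nat_lit 0x404411045511500440451000) (Net.cons (nat_lit 2) (nat_lit 0x3100101220223200103200030) (Net.cons (nat_lit 4) (nat_lit 0x6060e0e0d0a03000a020404) (Net.cons (nat_lit 8) (nat_lit 0x4200000088004b00060004) (Net.cons (nat_lit 16) (nat_lit 0x44da0000820400000003) (Net.cons (nat_lit 32) (nat_lit 0x1000000000280cc80) (Net.cons (nat_lit 64) (nat_lit 0xee6e8eebb) (Net.cons (nat_lit 32) (nat_lit 0x9000000009c03dbc8) (Net.cons (nat_lit 16) (nat_lit 0xc2fa0000a5a500000425) (Net.cons (nat_lit 8) (nat_lit 0xc00080006b00ea00840007) (Net.cons (nat_lit 4) (nat_lit 0x6060e0e0d0a03000a020404) (Net.cons (nat_lit 2) (nat_lit 0x3100101220223200103200030) (Net.cons (nat_lit 1) (nat_lit 0x404411045511500440451400)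 Net.nil)))))))))))))

theorem q_g20_ok : Net.ok 100 q_g20 = true := by decide +kernel

noncomputable def q_V21 : List Net := [q_g18, q_g19, q_g20, EvHS.p_g142]

theorem q_V21_ok : okE 100 q_V21 = true := (okE_cons.2 ⟨q_g18_ok, (okE_cons.2 ⟨q_g19_ok, (okE_cons.2 ⟨q_g20_ok, (okE_cons.2 ⟨EvHS.p_g142_ok, (okE_nil 100)⟩)⟩)⟩)⟩)

noncomputable def q_g23 : Net := (Net.cons (nat_lit 1) (nat_lit 0x5405105001405411415001140) (Net.cons (nat_lit 2) (nat_lit 0x2123312021100203010101200) (Net.cons (nat_lit 4) (nat_lit 0xb050200010c050c06010901) (Net.cons (nat_lit 8) (nat_lit 0x1400d00021006b00100007) (Net.cons (nat_lit 16) (nat_lit 0xb4400000040b00000003) (Net.cons (nat_lit 32) (nat_lit 0x20000000020889490) (Net.cons (nat_lit 64) (nat_lit 0x5248895d3) (Net.cons (nat_lit 32) (nat_lit 0xb00000000e58bb099) (Net.cons (nat_lit 16) (nat_lit 0xea560000006b00001603) (Net.cons (nat_lit 8) (nat_lit 0x700c20021007b00300087)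 (Net.cons (nat_lit 4) (nat_lit 0xf050204010c050c06090d01) (Net.cons (nat_lit 2) (nat_lit 0x2133312121300203010101200) (Net.cons (nat_lit 1) (nat_lit 0x5505105041405411415001140) Net.nil)))))))))))))

theorem q_g23_ok : Net.ok 100 q_g23 = true := by decide +kernel

noncomputable def q_V24 : List Net := [EvHS.p_g142, q_g23]

theorem q_V24_ok : okE 100 q_V24 = true := (okE_cons.2 ⟨EvHS.p_g142_ok, (okE_cons.2 ⟨q_g23_ok, (okE_nil 100)⟩)⟩)

noncomputable def q_V26 : List Net := [EvHS.p_g142, EvHS.p_g142]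

theorem q_V26_ok : okE 100 q_V26 = true := (okE_cons.2 ⟨EvHS.p_g142_ok, (okE_cons.2 ⟨EvHS.p_g142_ok, (okE_nil 100)⟩)⟩)

noncomputable def Ulb_E : List Net := [q_g2, q_g3, q_g4, q_g5, q_g6, q_g7, q_g8, EvHT.t_g181, EvHT.t_g60, EvHT.t_g68, q_g9, q_g10, q_g10, q_g13, q_g14, q_g15, q_g18, q_g19, q_g20, EvHS.p_g142, EvHS.p_g142, q_g23, EvHS.p_g142, EvHS.p_g142]

theorem Ulb_E_ok : okE 100 Ulb_E = true := (okE_cons.2 ⟨q_g2_ok, (okE_cons.2 ⟨q_g3_ok, (okE_cons.2 ⟨q_g4_ok, (okE_cons.2 ⟨q_g5_ok, (okE_cons.2 ⟨q_g6_ok, (okE_cons.2 ⟨q_g7_ok, (okE_cons.2 ⟨q_g8_ok, (okE_cons.2 ⟨EvHT.t_g181_ok, (okE_cons.2 ⟨EvHT.t_g60_ok, (okE_cons.2 ⟨EvHT.t_g68_ok, (okE_cons.2 ⟨q_g9_ok, (okE_cons.2 ⟨q_g10_ok, (okE_cons.2 ⟨q_g10_ok, (okE_cons.2 ⟨q_g13_ok, (okE_cons.2 ⟨q_g14_ok, (okE_cons.2 ⟨q_g15_ok, (okE_cons.2 ⟨q_g18_ok, (okE_cons.2 ⟨q_g19_ok, (okE_cons.2 ⟨q_g20_ok, (okE_cons.2 ⟨EvHS.p_g142_ok, (okE_cons.2 ⟨EvHS.p_g142_ok,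 (okE_cons.2 ⟨q_g23_ok, (okE_cons.2 ⟨EvHS.p_g142_ok, (okE_cons.2 ⟨EvHS.p_g142_ok, (okE_nil 100)⟩)⟩)⟩)⟩)⟩)⟩)⟩)⟩)⟩)⟩)⟩)⟩)⟩)⟩)⟩)⟩)⟩)⟩)⟩)⟩)⟩)⟩)⟩)⟩)

noncomputable def CU : List Net := [EvHT.t_g60]

theorem CU_ok : okE 100 CU = true := (okE_cons.2 ⟨EvHT.t_g60_ok, (okE_nil 100)⟩)

noncomputable def q_V30 : List Net := [EvHT.t_g1, EvHT.t_g2, EvHT.t_g5, EvHT.t_g6, EvHT.t_g9, EvHT.t_g10, EvHT.t_g13, EvHT.t_g14, EvHT.t_g15, EvHT.t_g18, EvHT.t_g19, EvHT.t_g20, EvHT.t_g23, EvHT.t_g24, EvHT.t_g25, EvHT.t_g28, EvHT.t_g29, EvHT.t_g30, EvHT.t_g31, EvHT.t_g34, EvHT.t_g30, EvHT.t_g34, EvHT.t_g34]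

theorem q_V30_ok : okE 100 q_V30 = true := (okE_cons.2 ⟨EvHT.t_g1_ok, (okE_cons.2 ⟨EvHT.t_g2_ok, (okE_cons.2 ⟨EvHT.t_g5_ok, (okE_cons.2 ⟨EvHT.t_g6_ok, (okE_cons.2 ⟨EvHT.t_g9_ok, (okE_cons.2 ⟨EvHT.t_g10_ok, (okE_cons.2 ⟨EvHT.t_g13_ok, (okE_cons.2 ⟨EvHT.t_g14_ok, (okE_cons.2 ⟨EvHT.t_g15_ok, (okE_cons.2 ⟨EvHT.t_g18_ok, (okE_cons.2 ⟨EvHT.t_g19_ok, (okE_cons.2 ⟨EvHT.t_g20_ok, (okE_cons.2 ⟨EvHT.t_g23_ok, (okE_cons.2 ⟨EvHT.t_g24_ok, (okE_cons.2 ⟨EvHT.t_g25_ok, (okE_cons.2 ⟨EvHT.t_g28_ok, (okE_cons.2 ⟨EvHT.t_g29_ok, (okE_cons.2 ⟨EvHT.t_g30_ok, (okE_cons.2 ⟨EvHT.t_g31_ok, (okE_cons.2 ⟨EvHT.t_g34_ok, (okE_cons.2 ⟨EvHT.t_g30_ok, (okE_cons.2 ⟨EvHT.t_g34_ok, (okE_cons.2 ⟨EvHT.t_g34_ok, (okE_nil 100)⟩)⟩)⟩)⟩)⟩)⟩)⟩)⟩)⟩)⟩)⟩)⟩)⟩)⟩)⟩)⟩)⟩)⟩)⟩)⟩)⟩)⟩)⟩)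

noncomputable def q_V31 : List Net := [EvHT.t_g5, EvHT.t_g6, EvHT.t_g9, EvHT.t_g10, EvHT.t_g13, EvHT.t_g14, EvHT.t_g15, EvHT.t_g18, EvHT.t_g19, EvHT.t_g20, EvHT.t_g23, EvHT.t_g24, EvHT.t_g25, EvHT.t_g28, EvHT.t_g29, EvHT.t_g30, EvHT.t_g31, EvHT.t_g34, EvHT.t_g30, EvHT.t_g34, EvHT.t_g34]

theorem q_V31_ok : okE 100 q_V31 = true := (okE_cons.2 ⟨EvHT.t_g5_ok, (okE_cons.2 ⟨EvHT.t_g6_ok, (okE_cons.2 ⟨EvHT.t_g9_ok, (okE_cons.2 ⟨EvHT.t_g10_ok, (okE_cons.2 ⟨EvHT.t_g13_ok, (okE_cons.2 ⟨EvHT.t_g14_ok, (okE_cons.2 ⟨EvHT.t_g15_ok, (okE_cons.2 ⟨EvHT.t_g18_ok, (okE_cons.2 ⟨EvHT.t_g19_ok, (okE_cons.2 ⟨EvHT.t_g20_ok, (okE_cons.2 ⟨EvHT.t_g23_ok, (okE_cons.2 ⟨EvHT.t_g24_ok, (okE_cons.2 ⟨EvHT.t_g25_ok, (okE_cons.2 ⟨EvHT.t_g28_ok, (okE_cons.2 ⟨EvHT.t_g29_ok, (okE_cons.2 ⟨EvHT.t_g30_ok, (okE_cons.2 ⟨EvHT.t_g31_ok, (okE_cons.2 ⟨EvHT.t_g34_ok, (okE_cons.2 ⟨EvHT.t_g30_ok, (okE_cons.2 ⟨EvHT.t_g34_ok, (okE_cons.2 ⟨EvHT.t_g34_ok,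 (okE_nil 100)⟩)⟩)⟩)⟩)⟩)⟩)⟩)⟩)⟩)⟩)⟩)⟩)⟩)⟩)⟩)⟩)⟩)⟩)⟩)⟩)⟩)

noncomputable def q_V32 : List Net := [EvHT.t_g9, EvHT.t_g10, EvHT.t_g13, EvHT.t_g14, EvHT.t_g15, EvHT.t_g18, EvHT.t_g19, EvHT.t_g20, EvHT.t_g23, EvHT.t_g24, EvHT.t_g25, EvHT.t_g28, EvHT.t_g29, EvHT.t_g30, EvHT.t_g31, EvHT.t_g34, EvHT.t_g30, EvHT.t_g34, EvHT.t_g34]

theorem q_V32_ok : okE 100 q_V32 = true := (okE_cons.2 ⟨EvHT.t_g9_ok, (okE_cons.2 ⟨EvHT.t_g10_ok, (okE_cons.2 ⟨EvHT.t_g13_ok, (okE_cons.2 ⟨EvHT.t_g14_ok, (okE_cons.2 ⟨EvHT.t_g15_ok, (okE_cons.2 ⟨EvHT.t_g18_ok, (okE_cons.2 ⟨EvHT.t_g19_ok, (okE_cons.2 ⟨EvHT.t_g20_ok, (okE_cons.2 ⟨EvHT.t_g23_ok, (okE_cons.2 ⟨EvHT.t_g24_ok, (okE_cons.2 ⟨EvHT.t_g25_ok, (okE_cons.2 ⟨EvHT.t_g28_ok, (okE_cons.2 ⟨EvHT.t_g29_ok, (okE_cons.2 ⟨EvHT.t_g30_ok, (okE_cons.2 ⟨EvHT.t_g31_ok, (okE_cons.2 ⟨EvHT.t_g34_ok, (okE_cons.2 ⟨EvHT.t_g30_ok, (okE_cons.2 ⟨EvHT.t_g34_ok, (okE_cons.2 ⟨EvHT.t_g34_ok, (okE_nil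 100)⟩)⟩)⟩)⟩)⟩)⟩)⟩)⟩)⟩)⟩)⟩)⟩)⟩)⟩)⟩)⟩)⟩)⟩)⟩)

noncomputable def q_V33 : List Net := [EvHT.t_g13, EvHT.t_g14, EvHT.t_g15, EvHT.t_g18, EvHT.t_g19, EvHT.t_g20, EvHT.t_g23, EvHT.t_g24, EvHT.t_g25, EvHT.t_g28, EvHT.t_g29, EvHT.t_g30, EvHT.t_g31, EvHT.t_g34, EvHT.t_g30, EvHT.t_g34, EvHT.t_g34]

theorem q_V33_ok : okE 100 q_V33 = true := (okE_cons.2 ⟨EvHT.t_g13_ok, (okE_cons.2 ⟨EvHT.t_g14_ok, (okE_cons.2 ⟨EvHT.t_g15_ok, (okE_cons.2 ⟨EvHT.t_g18_ok, (okE_cons.2 ⟨EvHT.t_g19_ok, (okE_cons.2 ⟨EvHT.t_g20_ok, (okE_cons.2 ⟨EvHT.t_g23_ok, (okE_cons.2 ⟨EvHT.t_g24_ok, (okE_cons.2 ⟨EvHT.t_g25_ok, (okE_cons.2 ⟨EvHT.t_g28_ok, (okE_cons.2 ⟨EvHT.t_g29_ok, (okE_cons.2 ⟨EvHT.t_g30_ok, (okE_cons.2 ⟨EvHT.t_g31_ok, (okE_cons.2 ⟨EvHT.t_g34_ok, (okE_cons.2 ⟨EvHT.t_g30_ok, (okE_cons.2 ⟨EvHT.t_g34_ok, (okE_cons.2 ⟨EvHT.t_g34_ok, (okE_nil 100)⟩)⟩)⟩)⟩)⟩)⟩)⟩)⟩)⟩)⟩)⟩)⟩)⟩)⟩)⟩)⟩)⟩)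

noncomputable def q_V34 : List Net := [EvHT.t_g18, EvHT.t_g19, EvHT.t_g20, EvHT.t_g23, EvHT.t_g24, EvHT.t_g25, EvHT.t_g28, EvHT.t_g29, EvHT.t_g30, EvHT.t_g31, EvHT.t_g34, EvHT.t_g30, EvHT.t_g34, EvHT.t_g34]

theorem q_V34_ok : okE 100 q_V34 = true := (okE_cons.2 ⟨EvHT.t_g18_ok, (okE_cons.2 ⟨EvHT.t_g19_ok, (okE_cons.2 ⟨EvHT.t_g20_ok, (okE_cons.2 ⟨EvHT.t_g23_ok, (okE_cons.2 ⟨EvHT.t_g24_ok, (okE_cons.2 ⟨EvHT.t_g25_ok, (okE_cons.2 ⟨EvHT.t_g28_ok, (okE_cons.2 ⟨EvHT.t_g29_ok, (okE_cons.2 ⟨EvHT.t_g30_ok, (okE_cons.2 ⟨EvHT.t_g31_ok, (okE_cons.2 ⟨EvHT.t_g34_ok, (okE_cons.2 ⟨EvHT.t_g30_ok, (okE_cons.2 ⟨EvHT.t_g34_ok, (okE_cons.2 ⟨EvHT.t_g34_ok, (okE_nil 100)⟩)⟩)⟩)⟩)⟩)⟩)⟩)⟩)⟩)⟩)⟩)⟩)⟩)⟩)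

noncomputable def q_V35 : List Net := [EvHT.t_g23, EvHT.t_g24, EvHT.t_g25, EvHT.t_g28, EvHT.t_g29, EvHT.t_g30, EvHT.t_g31, EvHT.t_g34, EvHT.t_g30, EvHT.t_g34, EvHT.t_g34]

theorem q_V35_ok : okE 100 q_V35 = true := (okE_cons.2 ⟨EvHT.t_g23_ok, (okE_cons.2 ⟨EvHT.t_g24_ok, (okE_cons.2 ⟨EvHT.t_g25_ok, (okE_cons.2 ⟨EvHT.t_g28_ok, (okE_cons.2 ⟨EvHT.t_g29_ok, (okE_cons.2 ⟨EvHT.t_g30_ok, (okE_cons.2 ⟨EvHT.t_g31_ok, (okE_cons.2 ⟨EvHT.t_g34_ok, (okE_cons.2 ⟨EvHT.t_g30_ok, (okE_cons.2 ⟨EvHT.t_g34_ok, (okE_cons.2 ⟨EvHT.t_g34_ok, (okE_nil 100)⟩)⟩)⟩)⟩)⟩)⟩)⟩)⟩)⟩)⟩)⟩)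

noncomputable def q_V36 : List Net := [EvHT.t_g28, EvHT.t_g29, EvHT.t_g30, EvHT.t_g31, EvHT.t_g34, EvHT.t_g30, EvHT.t_g34, EvHT.t_g34]

theorem q_V36_ok : okE 100 q_V36 = true := (okE_cons.2 ⟨EvHT.t_g28_ok, (okE_cons.2 ⟨EvHT.t_g29_ok, (okE_cons.2 ⟨EvHT.t_g30_ok, (okE_cons.2 ⟨EvHT.t_g31_ok, (okE_cons.2 ⟨EvHT.t_g34_ok, (okE_cons.2 ⟨EvHT.t_g30_ok, (okE_cons.2 ⟨EvHT.t_g34_ok, (okE_cons.2 ⟨EvHT.t_g34_ok, (okE_nil 100)⟩)⟩)⟩)⟩)⟩)⟩)⟩)⟩)

noncomputable def q_V37 : List Net := [MpHS.g36, EvHT.t_g72]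

theorem q_V37_ok : okE 100 q_V37 = true := (okE_cons.2 ⟨MpHS.g36_ok, (okE_cons.2 ⟨EvHT.t_g72_ok, (okE_nil 100)⟩)⟩)

noncomputable def q_V39 : List Net := []

theorem q_V39_ok : okE 100 q_V39 = true := (okE_nil 100)

noncomputable def CU_cnt_EG : List Net := [EvHT.t_g1, EvHT.t_g2, EvHT.t_g5, EvHT.t_g6, EvHT.t_g9, EvHT.t_g10, EvHT.t_g13, EvHT.t_g14, EvHT.t_g15, EvHT.t_g18, EvHT.t_g19, EvHT.t_g20, EvHT.t_g23, EvHT.t_g24, EvHT.t_g25, EvHT.t_g28, EvHT.t_g29, EvHT.t_g30, EvHT.t_g31, EvHT.t_g34, MpHS.a, HSM.g1, HSM.g2, MpHS.g36, EvHT.t_g72]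

theorem CU_cnt_EG_ok : okE 100 CU_cnt_EG = true := (okE_cons.2 ⟨EvHT.t_g1_ok, (okE_cons.2 ⟨EvHT.t_g2_ok, (okE_cons.2 ⟨EvHT.t_g5_ok, (okE_cons.2 ⟨EvHT.t_g6_ok, (okE_cons.2 ⟨EvHT.t_g9_ok, (okE_cons.2 ⟨EvHT.t_g10_ok, (okE_cons.2 ⟨EvHT.t_g13_ok, (okE_cons.2 ⟨EvHT.t_g14_ok, (okE_cons.2 ⟨EvHT.t_g15_ok, (okE_cons.2 ⟨EvHT.t_g18_ok, (okE_cons.2 ⟨EvHT.t_g19_ok, (okE_cons.2 ⟨EvHT.t_g20_ok, (okE_cons.2 ⟨EvHT.t_g23_ok, (okE_cons.2 ⟨EvHT.t_g24_ok, (okE_cons.2 ⟨EvHT.t_g25_ok, (okE_cons.2 ⟨EvHT.t_g28_ok, (okE_cons.2 ⟨EvHT.t_g29_ok, (okE_cons.2 ⟨EvHT.t_g30_ok, (okE_cons.2 ⟨EvHT.t_g31_ok, (okE_cons.2 ⟨EvHT.t_g34_ok, (okE_cons.2 ⟨MpHS.a_ok, (okE_cons.2 ⟨HSM.g1_ok, (okE_cons.2 ⟨HSM.g2_ok, (okE_cons.2 ⟨MpHS.g36_ok, (okE_cons.2 ⟨EvHT.t_g72_ok, (okE_nil 100)⟩)⟩)⟩)⟩)⟩)⟩)⟩)⟩)⟩)⟩)⟩)⟩)⟩)⟩)⟩)⟩)⟩)⟩)⟩)⟩)⟩)⟩)⟩)⟩)⟩)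

noncomputable def EZ : List Net := [EvHT.t_g60]

theorem EZ_ok : okE 100 EZ = true := (okE_cons.2 ⟨EvHT.t_g60_ok, (okE_nil 100)⟩)

noncomputable def q_g40 : Net := (Net.cons (nat_lit 1) (nat_lit 0x1044400554404140450041110) (Net.cons (nat_lit 2) (nat_lit 0x2323303121132200130220000) (Net.cons (nat_lit 4) (nat_lit 0x5020d020901030507080008) (Net.cons (nat_lit 8) (nat_lit 0xb0061005d000c00250008) (Net.cons (nat_lit 16) (nat_lit 0x62a900002e8300000004) (Net.cons (nat_lit 32) (nat_lit 0x4a080580) (Net.cons (nat_lit 64) (nat_lit 0x46ac80de4) (Net.cons (nat_lit 32) (nat_lit 0xd00000000c7ac3f07) (Net.cons (nat_lit 16) (nat_lit 0xda4b00002613000029e5) (Net.cons (nat_lit 8) (nat_lit 0x2f0041007e000c0006002b) (Net.cons (nat_lit 4) (nat_lit 0x5030d020901030507080008) (Net.cons (nat_lit 2) (nat_lit 0x2323303121132220130220000) (Net.cons (nat_lit 1) (nat_lit 0x1044400554404140450041510) Net.nil)))))))))))))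

theorem q_g40_ok : Net.ok 100 q_g40 = true := by decide +kernel

noncomputable def q_g41 : Net := (Net.cons (nat_lit 1) (nat_lit 0x1511010155010404155400400) (Net.cons (nat_lit 2) (nat_lit 0x3320322310000023033130100) (Net.cons (nat_lit 4) (nat_lit 0x8090a0b0f03050e00020a05) (Net.cons (nat_lit 8) (nat_lit 0xfe000100320090008e0000) (Net.cons (nat_lit 16) (nat_lit 0x2a37000051410000000d) (Net.cons (nat_lit 32) (nat_lit 0x80000000082285140) (Net.cons (nat_lit 64) (nat_lit 0x3e3bc5d5e) (Net.cons (nat_lit 32) (nat_lit 0x50000000045a86f17) (Net.cons (nat_lit 16) (nat_lit 0xb8460000f84800004289) (Net.cons (nat_lit 8) (nat_lit 0x56008100720050008b001c) (Net.cons (nat_lit 4) (nat_lit 0x608090e050e080e09000f09) (Net.cons (nat_lit 2) (nat_lit 0x1303032221210101102332101) (Net.cons (nat_lit 1) (nat_lit 0x11010015150415115405441) Net.nil)))))))))))))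

theorem q_g41_ok : Net.ok 100 q_g41 = true := by decide +kernel

noncomputable def q_g42 : Net := (Net.cons (nat_lit 1) (nat_lit 0x5451151414005544054111140) (Net.cons (nat_lit 2) (nat_lit 0x323220023210330102203020) (Net.cons (nat_lit 4) (nat_lit 0xf0402030101030d0b0e0800) (Net.cons (nat_lit 8) (nat_lit 0xe70095000b007e00200002) (Net.cons (nat_lit 16) (nat_lit 0xfbf0000a2c000000007) (Net.cons (nat_lit 32) (nat_lit 0x60000000003804840) (Net.cons (nat_lit 64) (nat_lit 0x597b94c42) (Net.cons (nat_lit 32) (nat_lit 0x90000000095e031ec) (Net.cons (nat_lit 16) (nat_lit 0x1dcd0000dba300001a17) (Net.cons (nat_lit 8) (nat_lit 0xc500a500640023005a00aa) (Net.cons (nat_lit 4) (nat_lit 0xc0009070d0d06050c0100) (Net.cons (nat_lit 2) (nat_lit 0x2033201102002133020200302) (Net.cons (nat_lit 1) (nat_lit 0x1405151044101051154415440) Net.nil)))))))))))))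

theorem q_g42_ok : Net.ok 100 q_g42 = true := by decide +kernel

noncomputable def q_g43 : Net := (Net.cons (nat_lit 1) (nat_lit 0x4400114440550510414404154) (Net.cons (nat_lit 2) (nat_lit 0x333231121033101313102220) (Net.cons (nat_lit 4) (nat_lit 0x408050f0a0206090e000f0d) (Net.cons (nat_lit 8) (nat_lit 0xb900cd00a8007700b50002) (Net.cons (nat_lit 16) (nat_lit 0x3ba70000acd80000000d) (Net.cons (nat_lit 32) (nat_lit 0x30000000017084230) (Net.cons (nat_lit 64) (nat_lit 0xd570bfeb6) (Net.cons (nat_lit 32) (nat_lit 0x200000000f5670a81) (Net.cons (nat_lit 16) (nat_lit 0x6ec9000006ed0000328f) (Net.cons (nat_lit 8) (nat_lit 0xf000ed0072001000b5002e) (Net.cons (nat_lit 4) (nat_lit 0x90305010304040b0c020f06) (Net.cons (nat_lit 2) (nat_lit 0x2022232111201021313222110) (Net.cons (nat_lit 1) (nat_lit 0x51150501511400410404055) Net.nil)))))))))))))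

theorem q_g43_ok : Net.ok 100 q_g43 = true := by decide +kernel

noncomputable def EX : List Net := [q_g42, q_g43]

theorem EX_ok : okE 100 EX = true := (okE_cons.2 ⟨q_g42_ok, (okE_cons.2 ⟨q_g43_ok, (okE_nil 100)⟩)⟩)

noncomputable def q_g44 : Net := (Net.cons (nat_lit 1) (nat_lit 0x5541400155044411400004144) (Net.cons (nat_lit 2) (nat_lit 0x1233302023000021200003100) (Net.cons (nat_lit 4) (nat_lit 0x90f04030c07040b0606040b) (Net.cons (nat_lit 8) (nat_lit 0x2500080098003d00930004) (Net.cons (nat_lit 16) (nat_lit 0xd18e000029af00000000) (Net.cons (nat_lit 32) (nat_lit 0x8000000000c100020) (Net.cons (nat_lit 64) (nat_lit 0x7cd3bf0ee) (Net.cons (nat_lit 32) (nat_lit 0x10000000068078bdd) (Net.cons (nat_lit 16) (nat_lit 0xba3d0000d5f300007b63) (Net.cons (nat_lit 8) (nat_lit 0x36000500d40070005c007f) (Net.cons (nat_lit 4) (nat_lit 0x501060f0701020d0a060704) (Net.cons (nat_lit 2) (nat_lit 0x3300013110232111011003013)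 (Net.cons (nat_lit 1) (nat_lit 0x1105555505440005415410044) Net.nil)))))))))))))

theorem q_g44_ok : Net.ok 100 q_g44 = true := by decide +kernel

noncomputable def KZ : List Net := [q_g42, q_g43, q_g44]

theorem KZ_ok : okE 100 KZ = true := (okE_cons.2 ⟨q_g42_ok, (okE_cons.2 ⟨q_g43_ok, (okE_cons.2 ⟨q_g44_ok, (okE_nil 100)⟩)⟩)⟩)

noncomputable def q_g45 : Net := (Net.cons (nat_lit 1) (nat_lit 0x5055101040550401500001554) (Net.cons (nat_lit 2) (nat_lit 0x2220121012101303121320220) (Net.cons (nat_lit 4) (nat_lit 0xd0607040907070402000802) (Net.cons (nat_lit 8) (nat_lit 0x1500c4006b00e200220008) (Net.cons (nat_lit 16) (nat_lit 0x74f900003bdc00000008) (Net.cons (nat_lit 32) (nat_lit 0x2000000003eac4010) (Net.cons (nat_lit 64) (nat_lit 0x53eeddd16) (Net.cons (nat_lit 32) (nat_lit 0x8000000009e358b73) (Net.cons (nat_lit 16) (nat_lit 0xa2bc0000266f0000b402) (Net.cons (nat_lit 8) (nat_lit 0x6d0012004300f300e600a5)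 (Net.cons (nat_lit 4) (nat_lit 0x5040a0e0906040c02000b02) (Net.cons (nat_lit 2) (nat_lit 0x1021310330013012221332203) (Net.cons (nat_lit 1) (nat_lit 0x5144141140444545540514050) Net.nil)))))))))))))

theorem q_g45_ok : Net.ok 100 q_g45 = true := by decide +kernel

noncomputable def q_g46 : Net := (Net.cons (nat_lit 1) (nat_lit 0x1145145414441104015001440) (Net.cons (nat_lit 2) (nat_lit 0x3001111312110210130221000) (Net.cons (nat_lit 4) (nat_lit 0x50006000b0c090b0c000200) (Net.cons (nat_lit 8) (nat_lit 0xf3004c0086006100840004) (Net.cons (nat_lit 16) (nat_lit 0xca00000100400000000) (Net.cons (nat_lit 32) (nat_lit 0x700000000060838b0) (Net.cons (nat_lit 64) (nat_lit 0xc772dbbfb) (Net.cons (nat_lit 32) (nat_lit 0x200000000d81d28e1) (Net.cons (nat_lit 16) (nat_lit 0x47b50000889e0000a50a) (Net.cons (nat_lit 8) (nat_lit 0x4700e6009e0041008b0017) (Net.cons (nat_lit 4) (nat_lit 0xf010a060c040b010f060604)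 (Net.cons (nat_lit 2) (nat_lit 0x2100000000112132010321011) (Net.cons (nat_lit 1) (nat_lit 0x440155111011500054455545) Net.nil)))))))))))))

theorem q_g46_ok : Net.ok 100 q_g46 = true := by decide +kernel

noncomputable def q_V47 : List Net := [q_g45, q_g46]

theorem q_V47_ok : okE 100 q_V47 = true := (okE_cons.2 ⟨q_g45_ok, (okE_cons.2 ⟨q_g46_ok, (okE_nil 100)⟩)⟩)

noncomputable def q_g49 : Net := (Net.cons (nat_lit 1) (nat_lit 0x4505541055111145544140410) (Net.cons (nat_lit 2) (nat_lit 0x100310011031332301213120) (Net.cons (nat_lit 4) (nat_lit 0xa08010b080605040e0f0f00) (Net.cons (nat_lit 8) (nat_lit 0x42008b001100b8000a000b) (Net.cons (nat_lit 16) (nat_lit 0x2a08000001ba00000002) (Net.cons (nat_lit 32) (nat_lit 0x800000000c86e8890) (Net.cons (nat_lit 64) (nat_lit 0x7ca7ea8b9) (Net.cons (nat_lit 32) (nat_lit 0xc00000000f99734b3) (Net.cons (nat_lit 16) (nat_lit 0x1d6b000088a200006787) (Net.cons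 (nat_lit 8) (nat_lit 0x82008e006a009c006900c2) (Net.cons (nat_lit 4) (nat_lit 0x6050b05010a010e0a0a0b00) (Net.cons (nat_lit 2) (nat_lit 0x1212201132311012200322322) (Net.cons (nat_lit 1) (nat_lit 0x514450015110045155511115) Net.nil)))))))))))))

theorem q_g49_ok : Net.ok 100 q_g49 = true := by decide +kernel

noncomputable def q_g50 : Net := (Net.cons (nat_lit 1) (nat_lit 0x4005041010014041145415040) (Net.cons (nat_lit 2) (nat_lit 0x2131300020030320002000100) (Net.cons (nat_lit 4) (nat_lit 0x10f0a0c0c03030d060c0c09) (Net.cons (nat_lit 8) (nat_lit 0x7500aa0091001c00370001) (Net.cons (nat_lit 16) (nat_lit 0xba28000056020000000b) (Net.cons (nat_lit 32) (nat_lit 0xa00000000b0600400) (Net.cons (nat_lit 64) (nat_lit 0x1b6ea0dca) (Net.cons (nat_lit 32) (nat_lit 0xb00000000dfb09d0b) (Net.cons (nat_lit 16) (nat_lit 0x30df000037130000e38d) (Net.cons (nat_lit 8) (nat_lit 0xb4002700060091003d00d0) (Net.cons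 (nat_lit 4) (nat_lit 0x301020a030c0d0f0a000e04) (Net.cons (nat_lit 2) (nat_lit 0x2112230211332220123222112) (Net.cons (nat_lit 1) (nat_lit 0x401040005511011114455540) Net.nil)))))))))))))

theorem q_g50_ok : Net.ok 100 q_g50 = true := by decide +kernel

noncomputable def q_g51 : Net := (Net.cons (nat_lit 1) (nat_lit 0x1410115100514050110010440) (Net.cons (nat_lit 2) (nat_lit 0x1323030031332302122201300) (Net.cons (nat_lit 4) (nat_lit 0x80e090b0903010906040009) (Net.cons (nat_lit 8) (nat_lit 0x8f000000e000a00068000a) (Net.cons (nat_lit 16) (nat_lit 0x25aa00002c050000000c) (Net.cons (nat_lit 32) (nat_lit 0x80000000043390210) (Net.cons (nat_lit 64) (nat_lit 0x36bb9061f) (Net.cons (nat_lit 32) (nat_lit 0xe00000000e69b4886) (Net.cons (nat_lit 16) (nat_lit 0xd3e40000f42c00007b87) (Net.cons (nat_lit 8) (nat_lit 0xf00110047006100c70005) (Net.cons (nat_lit 4) (nat_lit 0x4060a06070b0c020c060100) (Net.cons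 (nat_lit 2) (nat_lit 0x3031230302002120312220102) (Net.cons (nat_lit 1) (nat_lit 0x5140555041544041500411441) Net.nil)))))))))))))

theorem q_g51_ok : Net.ok 100 q_g51 = true := by decide +kernel

noncomputable def q_g52 : Net := (Net.cons (nat_lit 1) (nat_lit 0x10500051554551001545440) (Net.cons (nat_lit 2) (nat_lit 0x10010103213113032121330) (Net.cons (nat_lit 4) (nat_lit 0xe0b08020b000f050a05010d) (Net.cons (nat_lit 8) (nat_lit 0x92006b00ba006200ae000e) (Net.cons (nat_lit 16) (nat_lit 0xd54300003b020000000b) (Net.cons (nat_lit 32) (nat_lit 0x20000000022404500) (Net.cons (nat_lit 64) (nat_lit 0x7b360c70d) (Net.cons (nat_lit 32) (nat_lit 0x9000000007e8ba309) (Net.cons (nat_lit 16) (nat_lit 0x45a80000cf6f000046e2) (Net.cons (nat_lit 8) (nat_lit 0xd2006900e60028003700b8) (Net.cons (nat_lit 4) (nat_lit 0xc080a040f010f0809000509) (Net.cons (nat_lit 2) (nat_lit 0x112020131303232222121122) (Net.cons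 (nat_lit 1) (nat_lit 0x1100440100105454141145144) Net.nil)))))))))))))

theorem q_g52_ok : Net.ok 100 q_g52 = true := by decide +kernel

noncomputable def q_V53 : List Net := [q_g49, q_g50, q_g51, q_g52]

theorem q_V53_ok : okE 100 q_V53 = true := (okE_cons.2 ⟨q_g49_ok, (okE_cons.2 ⟨q_g50_ok, (okE_cons.2 ⟨q_g51_ok, (okE_cons.2 ⟨q_g52_ok, (okE_nil 100)⟩)⟩)⟩)⟩)

noncomputable def q_g55 : Net := (Net.cons (nat_lit 1) (nat_lit 0x151005450400400514100100) (Net.cons (nat_lit 2) (nat_lit 0x3222311310311320123100210) (Net.cons (nat_lit 4) (nat_lit 0xe0a090b070a00090508000a) (Net.cons (nat_lit 8) (nat_lit 0xd8000e0073005200110004) (Net.cons (nat_lit 16) (nat_lit 0x9a0a0000042b0000000a) (Net.cons (nat_lit 32) (nat_lit 0x20000000002028490) (Net.cons (nat_lit 64) (nat_lit 0x1120b9cd2) (Net.cons (nat_lit 32) (nat_lit 0xe00000000bb4280eb) (Net.cons (nat_lit 16) (nat_lit 0x7aaa0000147f000051db) (Net.cons (nat_lit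 8) (nat_lit 0x7e00be006200e200000015) (Net.cons (nat_lit 4) (nat_lit 0xf0b090f0b0b00090c08010f) (Net.cons (nat_lit 2) (nat_lit 0x3222311310311320123100210) (Net.cons (nat_lit 1) (nat_lit 0x4151005451400404514110100) Net.nil)))))))))))))

theorem q_g55_ok : Net.ok 100 q_g55 = true := by decide +kernel

noncomputable def q_g56 : Net := (Net.cons (nat_lit 1) (nat_lit 0x50004404401455414101000) (Net.cons (nat_lit 2) (nat_lit 0x131202222031112021021200) (Net.cons (nat_lit 4) (nat_lit 0x20802000c0a0f0e00080201) (Net.cons (nat_lit 8) (nat_lit 0x9b000400c3001b00d20000) (Net.cons (nat_lit 16) (nat_lit 0x4000000d1600000000) (Net.cons (nat_lit 32) (nat_lit 0x100000000201e4000) (Net.cons (nat_lit 64) (nat_lit 0x8601e4045) (Net.cons (nat_lit 32) (nat_lit 0x300000000269e6b92) (Net.cons (nat_lit 16) (nat_lit 0x954000009d7700001008) (Net.cons (nat_lit 8) (nat_lit 0x9b002c00c7001b00d30000) (Net.cons (nat_lit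 4) (nat_lit 0x20802010c0a0f0e02080601) (Net.cons (nat_lit 2) (nat_lit 0x131202222031112021021200) (Net.cons (nat_lit 1) (nat_lit 0x50004404401455414101000) Net.nil)))))))))))))

theorem q_g56_ok : Net.ok 100 q_g56 = true := by decide +kernel

noncomputable def q_g57 : Net := (Net.cons (nat_lit 1) (nat_lit 0x151144154554150145000140) (Net.cons (nat_lit 2) (nat_lit 0x3323300103320011200000200) (Net.cons (nat_lit 4) (nat_lit 0xb0e08070a01020705010900) (Net.cons (nat_lit 8) (nat_lit 0xd90085008c008100440000) (Net.cons (nat_lit 16) (nat_lit 0x8746000001480000000c) (Net.cons (nat_lit 32) (nat_lit 0x4000000001b138850) (Net.cons (nat_lit 64) (nat_lit 0xa1f5f985c) (Net.cons (nat_lit 32) (nat_lit 0xc000000009b43b919) (Net.cons (nat_lit 16) (nat_lit 0xf6b7000054b90000105c) (Net.cons (nat_lit 8) (nat_lit 0xea00b6009f009000540091) (Net.cons (nat_lit 4) (nat_lit 0xb0e08070a01020705010900) (Net.cons (nat_lit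 2) (nat_lit 0x3323300103320011200000200) (Net.cons (nat_lit 1) (nat_lit 0x151144154554150145400540) Net.nil)))))))))))))

theorem q_g57_ok : Net.ok 100 q_g57 = true := by decide +kernel

noncomputable def q_V58 : List Net := [q_g18, q_g55, q_g56, q_g57]

theorem q_V58_ok : okE 100 q_V58 = true := (okE_cons.2 ⟨q_g18_ok, (okE_cons.2 ⟨q_g55_ok, (okE_cons.2 ⟨q_g56_ok, (okE_cons.2 ⟨q_g57_ok, (okE_nil 100)⟩)⟩)⟩)⟩)

noncomputable def q_V60 : List Net := [EvHS.p_g142, q_g23]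

theorem q_V60_ok : okE 100 q_V60 = true := (okE_cons.2 ⟨EvHS.p_g142_ok, (okE_cons.2 ⟨q_g23_ok, (okE_nil 100)⟩)⟩)

noncomputable def q_V62 : List Net := [EvHS.p_g142, EvHS.p_g142]

theorem q_V62_ok : okE 100 q_V62 = true := (okE_cons.2 ⟨EvHS.p_g142_ok, (okE_cons.2 ⟨EvHS.p_g142_ok, (okE_nil 100)⟩)⟩)

noncomputable def KZlb_E : List Net := [q_g42, q_g43, q_g44, q_g45, q_g46, q_g49, q_g50, q_g51, q_g52, q_g18, q_g55, q_g56, q_g57, EvHS.p_g142, q_g23, EvHS.p_g142, EvHS.p_g142]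

theorem KZlb_E_ok : okE 100 KZlb_E = true := (okE_cons.2 ⟨q_g42_ok, (okE_cons.2 ⟨q_g43_ok, (okE_cons.2 ⟨q_g44_ok, (okE_cons.2 ⟨q_g45_ok, (okE_cons.2 ⟨q_g46_ok, (okE_cons.2 ⟨q_g49_ok, (okE_cons.2 ⟨q_g50_ok, (okE_cons.2 ⟨q_g51_ok, (okE_cons.2 ⟨q_g52_ok, (okE_cons.2 ⟨q_g18_ok, (okE_cons.2 ⟨q_g55_ok, (okE_cons.2 ⟨q_g56_ok, (okE_cons.2 ⟨q_g57_ok, (okE_cons.2 ⟨EvHS.p_g142_ok, (okE_cons.2 ⟨q_g23_ok, (okE_cons.2 ⟨EvHS.p_g142_ok, (okE_cons.2 ⟨EvHS.p_g142_ok, (okE_nil 100)⟩)⟩)⟩)⟩)⟩)⟩)⟩)⟩)⟩)⟩)⟩)⟩)⟩)⟩)⟩)⟩)⟩)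

noncomputable def q_g64 : Net := (Net.cons (nat_lit 1) (nat_lit 0x411114115500110150445454) (Net.cons (nat_lit 2) (nat_lit 0x1030132133010130122103330) (Net.cons (nat_lit 4) (nat_lit 0xe0d0b08010e08070c000804) (Net.cons (nat_lit 8) (nat_lit 0x28002f00cb006c00880006) (Net.cons (nat_lit 16) (nat_lit 0x15ab0000551c00000001) (Net.cons (nat_lit 32) (nat_lit 0x10000000000004d90) (Net.cons (nat_lit 64) (nat_lit 0xc2a315dd9) (Net.cons (nat_lit 32) (nat_lit 0x7000000001d5ea7cc) (Net.cons (nat_lit 16) (nat_lit 0xedec0000a546000020d4) (Net.cons (nat_lit 8) (nat_lit 0x7400f100ab002200ad0066) (Net.cons (nat_lit 4) (nat_lit 0xa090004090a060f0c050e04) (Net.cons (nat_lit 2) (nat_lit 0x133021322212310120010133) (Net.cons (nat_lit 1) (nat_lit 0x4455411450104040100150) Net.nil)))))))))))))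

theorem q_g64_ok : Net.ok 100 q_g64 = true := by decide +kernel

noncomputable def q_g65 : Net := (Net.cons (nat_lit 1) (nat_lit 0x50454405411051545110410) (Net.cons (nat_lit 2) (nat_lit 0x3321103000320133030301310) (Net.cons (nat_lit 4) (nat_lit 0x50a010c0b0108050a090008) (Net.cons (nat_lit 8) (nat_lit 0x2b00cc0014009100200000) (Net.cons (nat_lit 16) (nat_lit 0x32380000024a00000009) (Net.cons (nat_lit 32) (nat_lit 0x900000000426c5980) (Net.cons (nat_lit 64) (nat_lit 0x46f7c59ad) (Net.cons (nat_lit 32) (nat_lit 0x3000000002614febf) (Net.cons (nat_lit 16) (nat_lit 0x8e17000064d70000273d) (Net.cons (nat_lit 8) (nat_lit 0x2800a7003800e4004c003c) (Net.cons (nat_lit 4) (nat_lit 0xb060a0b07080f0a09030b) (Net.cons (nat_lit 2) (nat_lit 0x301010110122020210301231) (Net.cons (nat_lit 1) (nat_lit 0x1550554055151551544410411) Net.nil)))))))))))))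

theorem q_g65_ok : Net.ok 100 q_g65 = true := by decide +kernel

noncomputable def q_g66 : Net := (Net.cons (nat_lit 1) (nat_lit 0x554111144115011444105504) (Net.cons (nat_lit 2) (nat_lit 0x3130131031103332333300000) (Net.cons (nat_lit 4) (nat_lit 0x60703000d010204060302) (Net.cons (nat_lit 8) (nat_lit 0x46002c007c0050002a0002) (Net.cons (nat_lit 16) (nat_lit 0x2dbe0000922800000001) (Net.cons (nat_lit 32) (nat_lit 0x10000000038364000) (Net.cons (nat_lit 64) (nat_lit 0xf3bbe7d40) (Net.cons (nat_lit 32) (nat_lit 0xc000000009fd6248f) (Net.cons (nat_lit 16) (nat_lit 0x6abc00009bbb000050e4) (Net.cons (nat_lit 8) (nat_lit 0x74004300fd0071002f0026) (Net.cons (nat_lit 4) (nat_lit 0xe0305050e0d0409020d02) (Net.cons (nat_lit 2) (nat_lit 0x1122312131333232122311001) (Net.cons (nat_lit 1) (nat_lit 0x550011104401045454115500) Net.nil)))))))))))))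

theorem q_g66_ok : Net.ok 100 q_g66 = true := by decide +kernel

noncomputable def q_V67 : List Net := [q_g64, q_g65, q_g66]

theorem q_V67_ok : okE 100 q_V67 = true := (okE_cons.2 ⟨q_g64_ok, (okE_cons.2 ⟨q_g65_ok, (okE_cons.2 ⟨q_g66_ok, (okE_nil 100)⟩)⟩)⟩)

noncomputable def q_g69 : Net := (Net.cons (nat_lit 1) (nat_lit 0x4150504555115540015554000) (Net.cons (nat_lit 2) (nat_lit 0x1330133100100000102130200) (Net.cons (nat_lit 4) (nat_lit 0x4060c0e0b0f080d08010604) (Net.cons (nat_lit 8) (nat_lit 0x410000005f00140004000e) (Net.cons (nat_lit 16) (nat_lit 0x5980000905800000008) (Net.cons (nat_lit 32) (nat_lit 0x40000000005700000) (Net.cons (nat_lit 64) (nat_lit 0xf05f7885b) (Net.cons (nat_lit 32) (nat_lit 0xb0000000029b7fcc3) (Net.cons (nat_lit 16) (nat_lit 0xeab20000ca1f0000d5d2) (Net.cons (nat_lit 8) (nat_lit 0xf50026001f0020004c00d7) (Net.cons (nat_lit 4) (nat_lit 0xf050809030d0f08040c0605)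 (Net.cons (nat_lit 2) (nat_lit 0x3323033313122310232020100) (Net.cons (nat_lit 1) (nat_lit 0x1155001514000054044104140) Net.nil)))))))))))))

theorem q_g69_ok : Net.ok 100 q_g69 = true := by decide +kernel

noncomputable def q_V70 : List Net := [q_g51, q_g69, q_g8]

theorem q_V70_ok : okE 100 q_V70 = true := (okE_cons.2 ⟨q_g51_ok, (okE_cons.2 ⟨q_g69_ok, (okE_cons.2 ⟨q_g8_ok, (okE_nil 100)⟩)⟩)⟩)

noncomputable def q_g72 : Net := (Net.cons (nat_lit 1) (nat_lit 0x5004551050050454440551000) (Net.cons (nat_lit 2) (nat_lit 0x1122221012231330002100) (Net.cons (nat_lit 4) (nat_lit 0x204030104050900000c0100) (Net.cons (nat_lit 8) (nat_lit 0xe40008007c001000020000) (Net.cons (nat_lit 16) (nat_lit 0x16960000094500000003) (Net.cons (nat_lit 32) (nat_lit 0xa0000000094321800) (Net.cons (nat_lit 64) (nat_lit 0xd96f69e02) (Net.cons (nat_lit 32) (nat_lit 0xa00000000ff318840) (Net.cons (nat_lit 16) (nat_lit 0x85d3000009450000525b)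 (Net.cons (nat_lit 8) (nat_lit 0x75000b00a600a000520052) (Net.cons (nat_lit 4) (nat_lit 0x6040b050c0d090800080800) (Net.cons (nat_lit 2) (nat_lit 0x111322321012201330103100) (Net.cons (nat_lit 1) (nat_lit 0x5400550044051400440550400) Net.nil)))))))))))))

theorem q_g72_ok : Net.ok 100 q_g72 = true := by decide +kernel

noncomputable def q_V73 : List Net := [q_g72, q_g8]

theorem q_V73_ok : okE 100 q_V73 = true := (okE_cons.2 ⟨q_g72_ok, (okE_cons.2 ⟨q_g8_ok, (okE_nil 100)⟩)⟩)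

noncomputable def q_V75 : List Net := [q_g72, EvHT.t_g60]

theorem q_V75_ok : okE 100 q_V75 = true := (okE_cons.2 ⟨q_g72_ok, (okE_cons.2 ⟨EvHT.t_g60_ok, (okE_nil 100)⟩)⟩)

noncomputable def q_V77 : List Net := [q_g72, q_g72]

theorem q_V77_ok : okE 100 q_V77 = true := (okE_cons.2 ⟨q_g72_ok, (okE_cons.2 ⟨q_g72_ok, (okE_nil 100)⟩)⟩)

noncomputable def EXlb_E : List Net := [q_g42, q_g43, q_g64, q_g65, q_g66, q_g51, q_g69, q_g8, q_g72, q_g8, q_g72, EvHT.t_g60, q_g72, q_g72]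

theorem EXlb_E_ok : okE 100 EXlb_E = true := (okE_cons.2 ⟨q_g42_ok, (okE_cons.2 ⟨q_g43_ok, (okE_cons.2 ⟨q_g64_ok, (okE_cons.2 ⟨q_g65_ok, (okE_cons.2 ⟨q_g66_ok, (okE_cons.2 ⟨q_g51_ok, (okE_cons.2 ⟨q_g69_ok, (okE_cons.2 ⟨q_g8_ok, (okE_cons.2 ⟨q_g72_ok, (okE_cons.2 ⟨q_g8_ok, (okE_cons.2 ⟨q_g72_ok, (okE_cons.2 ⟨EvHT.t_g60_ok, (okE_cons.2 ⟨q_g72_ok, (okE_cons.2 ⟨q_g72_ok, (okE_nil 100)⟩)⟩)⟩)⟩)⟩)⟩)⟩)⟩)⟩)⟩)⟩)⟩)⟩)⟩)

noncomputable def q_g80 : Net := (Net.cons (nat_lit 1) (nat_lit 0x4411004450441540455454000) (Net.cons (nat_lit 2) (nat_lit 0x1210223212320120103200110) (Net.cons (nat_lit 4) (nat_lit 0x40c050f000802000b040200) (Net.cons (nat_lit 8) (nat_lit 0xa80003003200930000000a) (Net.cons (nat_lit 16) (nat_lit 0xe0510000085300000006) (Net.cons (nat_lit 32) (nat_lit 0x90000000088b0a000) (Net.cons (nat_lit 64) (nat_lit 0x7daf2ba9e) (Net.cons (nat_lit 32) (nat_lit 0xf000000008cb72446) (Net.cons (nat_lit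 16) (nat_lit 0xe5c100000dc300002526) (Net.cons (nat_lit 8) (nat_lit 0x68009300ba0053002800ba) (Net.cons (nat_lit 4) (nat_lit 0x40e050f000800000b040200) (Net.cons (nat_lit 2) (nat_lit 0x1210223212320320103202110) (Net.cons (nat_lit 1) (nat_lit 0x4410004411441140455455000) Net.nil)))))))))))))

theorem q_g80_ok : Net.ok 100 q_g80 = true := by decide +kernel

noncomputable def q_g81 : Net := (Net.cons (nat_lit 1) (nat_lit 0x5014444001010514101010000) (Net.cons (nat_lit 2) (nat_lit 0x2203202332032032020010000) (Net.cons (nat_lit 4) (nat_lit 0xa04030c020a0801000200) (Net.cons (nat_lit 8) (nat_lit 0x7c00c50088002800040002) (Net.cons (nat_lit 16) (nat_lit 0x5a800000a00400000000) (Net.cons (nat_lit 32) (nat_lit 0x2620d520) (Net.cons (nat_lit 64) (nat_lit 0x22760dfe2) (Net.cons (nat_lit 32) (nat_lit 0xb00000000bf20f426) (Net.cons (nat_lit 16) (nat_lit 0x5f800000a58c00000500) (Net.cons (nat_lit 8) (nat_lit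 0x6d00c500c8002800260002) (Net.cons (nat_lit 4) (nat_lit 0x10b04030c020b08030a0200) (Net.cons (nat_lit 2) (nat_lit 0x2203222332032032020010000) (Net.cons (nat_lit 1) (nat_lit 0x5014444001010514101010000) Net.nil)))))))))))))

theorem q_g81_ok : Net.ok 100 q_g81 = true := by decide +kernel

noncomputable def UA : List Net := [q_g2, q_g3, q_g4]

theorem UA_ok : okE 100 UA = true := (okE_cons.2 ⟨q_g2_ok, (okE_cons.2 ⟨q_g3_ok, (okE_cons.2 ⟨q_g4_ok, (okE_nil 100)⟩)⟩)⟩)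

noncomputable def UB : List Net := [q_g5, q_g6, q_g7, q_g8, EvHT.t_g181, EvHT.t_g60]

theorem UB_ok : okE 100 UB = true := (okE_cons.2 ⟨q_g5_ok, (okE_cons.2 ⟨q_g6_ok, (okE_cons.2 ⟨q_g7_ok, (okE_cons.2 ⟨q_g8_ok, (okE_cons.2 ⟨EvHT.t_g181_ok, (okE_cons.2 ⟨EvHT.t_g60_ok, (okE_nil 100)⟩)⟩)⟩)⟩)⟩)⟩)

noncomputable def q_g83 : Net := (Net.cons (nat_lit 1) (nat_lit 0x1011015411010100004051400) (Net.cons (nat_lit 2) (nat_lit 0x2313312221310213022023200) (Net.cons (nat_lit 4) (nat_lit 0xa0805060f030e020e0a0001) (Net.cons (nat_lit 8) (nat_lit 0xc00280028000000010002) (Net.cons (nat_lit 16) (nat_lit 0x2400000094860000000a) (Net.cons (nat_lit 32) (nat_lit 0x90000000020800520) (Net.cons (nat_lit 64) (nat_lit 0x668c445e9) (Net.cons (nat_lit 32) (nat_lit 0x900000000a62b17a0) (Net.cons (nat_lit 16) (nat_lit 0x34c90000d606000021f8) (Net.cons (nat_lit 8) (nat_lit 0xe002a0028001a00230034) (Net.cons (nat_lit 4)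 (nat_lit 0xa0805060d030e020e080801) (Net.cons (nat_lit 2) (nat_lit 0x2313312221310213022023200) (Net.cons (nat_lit 1) (nat_lit 0x1011015411410100004155401) Net.nil)))))))))))))

theorem q_g83_ok : Net.ok 100 q_g83 = true := by decide +kernel

noncomputable def EF : List Net := [q_g83]

theorem EF_ok : okE 100 EF = true := (okE_cons.2 ⟨q_g83_ok, (okE_nil 100)⟩)

noncomputable def q_g84 : Net := (Net.cons (nat_lit 1) (nat_lit 0x1451441101150154501404014) (Net.cons (nat_lit 2) (nat_lit 0x320120313313320233210220) (Net.cons (nat_lit 4) (nat_lit 0x4060c050c0308010e070300) (Net.cons (nat_lit 8) (nat_lit 0xb8000a00830016009d0008) (Net.cons (nat_lit 16) (nat_lit 0x9c3000007d500000000) (Net.cons (nat_lit 32) (nat_lit 0x80000000088805b10) (Net.cons (nat_lit 64) (nat_lit 0x7e8dc7b3f) (Net.cons (nat_lit 32) (nat_lit 0x8000000007324cf6c) (Net.cons (nat_lit 16) (nat_lit 0x429b0000831a00002480) (Net.cons (nat_lit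 8) (nat_lit 0xc0007100b3001100520074) (Net.cons (nat_lit 4) (nat_lit 0x40500060007080e01070b0c) (Net.cons (nat_lit 2) (nat_lit 0x310210323323310133120110) (Net.cons (nat_lit 1) (nat_lit 0x4104114454405401054151541) Net.nil)))))))))))))

theorem q_g84_ok : Net.ok 100 q_g84 = true := by decide +kernel

noncomputable def q_g85 : Net := (Net.cons (nat_lit 1) (nat_lit 0x4504400045050545054550100) (Net.cons (nat_lit 2) (nat_lit 0x2201021302302011321100300) (Net.cons (nat_lit 4) (nat_lit 0x505050d0a02060a040d0005) (Net.cons (nat_lit 8) (nat_lit 0x4a00a9009b0049003a0003) (Net.cons (nat_lit 16) (nat_lit 0x47ad0000365000000000) (Net.cons (nat_lit 32) (nat_lit 0x500000000658c9220) (Net.cons (nat_lit 64) (nat_lit 0x9ff8ff7a6) (Net.cons (nat_lit 32) (nat_lit 0xa000000003dab6a5d) (Net.cons (nat_lit 16) (nat_lit 0xb52f0000eb5a000082a2) (Net.cons (nat_lit 8) (nat_lit 0x1a0084004c009e0042002e) (Net.cons (nat_lit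 4) (nat_lit 0x50f0f0d000201000b0d020f) (Net.cons (nat_lit 2) (nat_lit 0x1132312031031322012233033) (Net.cons (nat_lit 1) (nat_lit 0x4504400045050545054550100) Net.nil)))))))))))))

theorem q_g85_ok : Net.ok 100 q_g85 = true := by decide +kernel

noncomputable def q_g86 : Net := (Net.cons (nat_lit 1) (nat_lit 0x5414415050000411000010) (Net.cons (nat_lit 2) (nat_lit 0x2123110033003100222200000) (Net.cons (nat_lit 4) (nat_lit 0x60406050400000200080800) (Net.cons (nat_lit 8) (nat_lit 0x2200c60013005100910000) (Net.cons (nat_lit 16) (nat_lit 0x94900000894100000000) (Net.cons (nat_lit 32) (nat_lit 0x7e6c8300) (Net.cons (nat_lit 64) (nat_lit 0x4fe7ddba4) (Net.cons (nat_lit 32) (nat_lit 0x6000000006fce9367) (Net.cons (nat_lit 16) (nat_lit 0x86a10000936900001628) (Net.cons (nat_lit 8) (nat_lit 0x2a008e001b005900910000) (Net.cons (nat_lit 4) (nat_lit 0x605060604020003010d0800) (Net.cons (nat_lit 2) (nat_lit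 0x2123310033003120222200000) (Net.cons (nat_lit 1) (nat_lit 0x5410405050400411004010) Net.nil)))))))))))))

theorem q_g86_ok : Net.ok 100 q_g86 = true := by decide +kernel

noncomputable def q_g87 : Net := (Net.cons (nat_lit 1) (nat_lit 0x1404055401504115045540040) (Net.cons (nat_lit 2) (nat_lit 0x210203202002201102022300) (Net.cons (nat_lit 4) (nat_lit 0x20807050400090506090404) (Net.cons (nat_lit 8) (nat_lit 0x2800aa009800a500430006) (Net.cons (nat_lit 16) (nat_lit 0xd6cf00003c400000000a) (Net.cons (nat_lit 32) (nat_lit 0x5a61aa0) (Net.cons (nat_lit 64) (nat_lit 0xcddbefaeb) (Net.cons (nat_lit 32) (nat_lit 0xe000000006183987d) (Net.cons (nat_lit 16) (nat_lit 0x16e600006e5400003c86) (Net.cons (nat_lit 8) (nat_lit 0x430040005c0005002b00ca) (Net.cons (nat_lit 4) (nat_lit 0x7020c040c09040d0d0002) (Net.cons (nat_lit 2) (nat_lit 0x13223302101201103012333) (Net.cons (nat_lit 1) (nat_lit 0x1440144501405111004551014)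 Net.nil)))))))))))))

theorem q_g87_ok : Net.ok 100 q_g87 = true := by decide +kernel

noncomputable def pft_Q : List Net := [q_g86, q_g87]

theorem pft_Q_ok : okE 100 pft_Q = true := (okE_cons.2 ⟨q_g86_ok, (okE_cons.2 ⟨q_g87_ok, (okE_nil 100)⟩)⟩)

noncomputable def q_g88 : Net := (Net.cons (nat_lit 1) (nat_lit 0x454145014404104041454040) (Net.cons (nat_lit 2) (nat_lit 0x3313322323211231222021230) (Net.cons (nat_lit 4) (nat_lit 0xb02040a000f0200020b0502) (Net.cons (nat_lit 8) (nat_lit 0x1700820010008500040005) (Net.cons (nat_lit 16) (nat_lit 0x4b420000b21400000004) (Net.cons (nat_lit 32) (nat_lit 0x40000000000188080) (Net.cons (nat_lit 64) (nat_lit 0x2069cc9e6) (Net.cons (nat_lit 32) (nat_lit 0x7000000008263b547) (Net.cons (nat_lit 16) (nat_lit 0x10c00000911f0000b154) (Net.cons (nat_lit 8) (nat_lit 0x1a00840059000b00200044) (Net.cons (nat_lit 4) (nat_lit 0xe0a060600030204070c0001) (Net.cons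 (nat_lit 2) (nat_lit 0x3000321313013010112232230) (Net.cons (nat_lit 1) (nat_lit 0x4055155144145511405414050) Net.nil)))))))))))))

theorem q_g88_ok : Net.ok 100 q_g88 = true := by decide +kernel

noncomputable def q_g89 : Net := (Net.cons (nat_lit 1) (nat_lit 0x10501401551111014140110) (Net.cons (nat_lit 2) (nat_lit 0x2000011123112222011223020) (Net.cons (nat_lit 4) (nat_lit 0x90e000e0d010305030e0200) (Net.cons (nat_lit 8) (nat_lit 0x61009a00e8009200320006) (Net.cons (nat_lit 16) (nat_lit 0xd58a0000839100000001) (Net.cons (nat_lit 32) (nat_lit 0x400000000800f03a0) (Net.cons (nat_lit 64) (nat_lit 0x1c97f57e6) (Net.cons (nat_lit 32) (nat_lit 0x600000000a88ae59c) (Net.cons (nat_lit 16) (nat_lit 0x98f30000214100007221) (Net.cons (nat_lit 8) (nat_lit 0xe100340068000e00080076) (Net.cons (nat_lit 4) (nat_lit 0x8070500090a0b0a0904070d) (Net.cons (nat_lit 2) (nat_lit 0x3010033223332231111223123) (Net.cons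 (nat_lit 1) (nat_lit 0x550510050451115550051055) Net.nil)))))))))))))

theorem q_g89_ok : Net.ok 100 q_g89 = true := by decide +kernel

noncomputable def q_g90 : Net := (Net.cons (nat_lit 1) (nat_lit 0x4150411104444010010514010) (Net.cons (nat_lit 2) (nat_lit 0x2200202313331232030213000) (Net.cons (nat_lit 4) (nat_lit 0x4070c0c030706020d040003) (Net.cons (nat_lit 8) (nat_lit 0x41000f00fc005800010002) (Net.cons (nat_lit 16) (nat_lit 0x43330000c00800000004) (Net.cons (nat_lit 32) (nat_lit 0x50000000088157c40) (Net.cons (nat_lit 64) (nat_lit 0xef9dfdf7) (Net.cons (nat_lit 32) (nat_lit 0x6000000009295cf8a) (Net.cons (nat_lit 16) (nat_lit 0x2ae3000024800000e3a5) (Net.cons (nat_lit 8) (nat_lit 0xd1000200ae009a00c10020) (Net.cons (nat_lit 4) (nat_lit 0x10c0b020300080605040207) (Net.cons (nat_lit 2) (nat_lit 0x2112211113322232002232033) (Net.cons (nat_lit 1) (nat_lit 0x415541455555414015155054) Net.nil)))))))))))))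

theorem q_g90_ok : Net.ok 100 q_g90 = true := by decide +kernel

noncomputable def q_g91 : Net := (Net.cons (nat_lit 1) (nat_lit 0x5150054100114155505051000) (Net.cons (nat_lit 2) (nat_lit 0x2302301032023310102300000) (Net.cons (nat_lit 4) (nat_lit 0x4040a0d01020900000e0100) (Net.cons (nat_lit 8) (nat_lit 0x6c00960045000800070000) (Net.cons (nat_lit 16) (nat_lit 0xa6200000458b00000004) (Net.cons (nat_lit 32) (nat_lit 0x50000000041000480) (Net.cons (nat_lit 64) (nat_lit 0xbe78395a6) (Net.cons (nat_lit 32) (nat_lit 0x5000000005929c441) (Net.cons (nat_lit 16) (nat_lit 0x2ee50000c70e00000005) (Net.cons (nat_lit 8) (nat_lit 0xfc001600c5009800c70080) (Net.cons (nat_lit 4) (nat_lit 0x4040a0d01020900000f0300) (Net.cons (nat_lit 2) (nat_lit 0x2302301232023310102300000) (Net.cons (nat_lit 1) (nat_lit 0x5150054100114155505051000) Net.nil)))))))))))))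

theorem q_g91_ok : Net.ok 100 q_g91 = true := by decide +kernel

noncomputable def q_g93 : Net := (Net.cons (nat_lit 1) (nat_lit 0x5041411001501411544414114) (Net.cons (nat_lit 2) (nat_lit 0x1310332232221032101030130) (Net.cons (nat_lit 4) (nat_lit 0x5010805000305070b0e0508) (Net.cons (nat_lit 8) (nat_lit 0x480018001d000d000e000c) (Net.cons (nat_lit 16) (nat_lit 0x23d00000040c00000003) (Net.cons (nat_lit 32) (nat_lit 0x24100830) (Net.cons (nat_lit 64) (nat_lit 0xfbf7048f8) (Net.cons (nat_lit 32) (nat_lit 0x900000000df5e16ad) (Net.cons (nat_lit 16) (nat_lit 0x33bd0000129d00001e4a) (Net.cons (nat_lit 8) (nat_lit 0x4500cd008700af0043004d) (Net.cons (nat_lit 4) (nat_lit 0xc050e0f0d050f0703080e0b) (Net.cons (nat_lit 2) (nat_lit 0x131131321123102020031312) (Net.cons (nat_lit 1) (nat_lit 0x541150514010014010140140) Net.nil)))))))))))))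

theorem q_g93_ok : Net.ok 100 q_g93 = true := by decide +kernel

theorem T_s0 : Stab 100 (grp 100 EvHT.EG) [] EvHT.lb_E 88704000 :=
  Stab.root' EvHT.lb_E_ok EvHT.eq_lb EvHT.card_N

theorem tu_G : Net.toPerm 100 q_g1 ∈ (grp 100 HSM.E) :=
  HSM.lb_le (mem_grp_of_memB q_hn q_hk HSM.lb_E_ok q_g1_ok (w := (nat_lit 0x14120e0c0c05070a010108)) (by decide +kernel))

theorem t_G : (Net.toPerm 100 EvHT.t_g103) ∉ (grp 100 HSM.E) :=
  Ej.nmem_of (EvG.mul_net q_hn q_hk (by decide +kernel)) tu_G EvHS.u_G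

theorem U_poly : Ej.Poly 100 U :=
  Ej.poly_of q_hn q_hk U_ok (W := [(nat_lit 0, [nat_lit 129, nat_lit 91, nat_lit 40, nat_lit 56, nat_lit 140, nat_lit 60, nat_lit 108, nat_lit 128]), (nat_lit 0, [nat_lit 99, nat_lit 32, nat_lit 112, nat_lit 30, nat_lit 70, nat_lit 2, nat_lit 64]), (nat_lit 0, [nat_lit 48, nat_lit 40, nat_lit 46, nat_lit 34, nat_lit 33, nat_lit 32]), (nat_lit 0, [nat_lit 1, nat_lit 18, nat_lit 20, nat_lit 8, nat_lit 16]), (nat_lit 0, [nat_lit 9, nat_lit 2, nat_lit 12, nat_lit 8]), (nat_lit 0, [nat_lit 5, nat_lit 2, nat_lit 4]), (nat_lit 0, [nat_lit 1, nat_lit 2]), (nat_lit 0, [nat_lit 1]), (nat_lit 0, [])]) (by decide +kernel)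

theorem q_le12 : grp 100 q_V11 ≤ grp 100 U :=
  grp_le_of_memB q_hn q_hk U_ok q_V11_ok (ws := [nat_lit 0xc0e040b0b120b04, nat_lit 0x20b110f08040f0f0a02, nat_lit 0x80f0809030a0805]) (by decide +kernel)

theorem q_le17 : grp 100 q_V16 ≤ grp 100 q_V11 :=
  grp_le_of_memB q_hn q_hk q_V11_ok q_V16_ok (ws := [nat_lit 65798, nat_lit 0x202060604050505050505, nat_lit 0x6040405020503060602, nat_lit 0x3030301030503030602]) (by decide +kernel)

theorem q_le22 : grp 100 q_V21 ≤ grp 100 q_V16 :=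
  grp_le_of_memB q_hn q_hk q_V16_ok q_V21_ok (ws := [nat_lit 0x7040602050205040105080306, nat_lit 0x601040702030503010806, nat_lit 0x80505070408010507, nat_lit 0x6010801050104]) (by decide +kernel)

theorem q_le25 : grp 100 q_V24 ≤ grp 100 q_V21 :=
  grp_le_of_memB q_hn q_hk q_V21_ok q_V24_ok (ws := [nat_lit 0x107040402, nat_lit 0x20204060602]) (by decide +kernel)

theorem q_le27 : grp 100 q_V26 ≤ grp 100 q_V24 :=
  grp_le_of_memB q_hn q_hk q_V24_ok q_V26_ok (ws := [nat_lit 197377, nat_lit 196867]) (by decide +kernel)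

theorem Ulb_le : grp 100 Ulb_E ≤ grp 100 U :=
  (grp_cons_le ((le_refl (grp 100 U)) (toPerm_mem_grp (E := U) (by simp [U]))) (grp_cons_le ((le_refl (grp 100 U)) (toPerm_mem_grp (E := U) (by simp [U]))) (grp_cons_le ((le_refl (grp 100 U)) (toPerm_mem_grp (E := U) (by simp [U]))) (grp_cons_le ((le_refl (grp 100 U)) (toPerm_mem_grp (E := U) (by simp [U]))) (grp_cons_le ((le_refl (grp 100 U)) (toPerm_mem_grp (E := U) (by simp [U]))) (grp_cons_le ((le_refl (grp 100 U)) (toPerm_mem_grp (E := U) (by simp [U]))) (grp_cons_le ((le_refl (grp 100 U)) (toPerm_mem_grp (E := U) (by simp [U]))) (grp_cons_le ((le_refl (grp 100 U)) (toPerm_mem_grp (E := U) (by simp [U]))) (grp_cons_le ((le_refl (grp 100 U)) (toPerm_mem_grp (E := U) (by simp [U]))) (grp_cons_le ((q_le12.trans (le_refl (grp 100 U))) (toPerm_mem_grp (E := q_V11) (by simp [q_V11]))) (grp_cons_le ((q_le12.trans (le_refl (grp 100 U))) (toPerm_mem_grp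 (E := q_V11) (by simp [q_V11]))) (grp_cons_le ((q_le12.trans (le_refl (grp 100 U))) (toPerm_mem_grp (E := q_V11) (by simp [q_V11]))) (grp_cons_le ((q_le17.trans (q_le12.trans (le_refl (grp 100 U)))) (toPerm_mem_grp (E := q_V16) (by simp [q_V16]))) (grp_cons_le ((q_le17.trans (q_le12.trans (le_refl (grp 100 U)))) (toPerm_mem_grp (E := q_V16) (by simp [q_V16]))) (grp_cons_le ((q_le17.trans (q_le12.trans (le_refl (grp 100 U)))) (toPerm_mem_grp (E := q_V16) (by simp [q_V16]))) (grp_cons_le ((q_le17.trans (q_le12.trans (le_refl (grp 100 U)))) (toPerm_mem_grp (E := q_V16) (by simp [q_V16]))) (grp_cons_le ((q_le22.trans (q_le17.trans (q_le12.trans (le_refl (grp 100 U))))) (toPerm_mem_grp (E := q_V21) (by simp [q_V21]))) (grp_cons_le ((q_le22.trans (q_le17.trans (q_le12.trans (le_refl (grp 100 U))))) (toPerm_mem_grp (E := q_V21) (by simp [q_V21]))) (grp_cons_le ((q_le22.trans (q_le17.trans (q_le12.trans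 (le_refl (grp 100 U))))) (toPerm_mem_grp (E := q_V21) (by simp [q_V21]))) (grp_cons_le ((q_le22.trans (q_le17.trans (q_le12.trans (le_refl (grp 100 U))))) (toPerm_mem_grp (E := q_V21) (by simp [q_V21]))) (grp_cons_le ((q_le25.trans (q_le22.trans (q_le17.trans (q_le12.trans (le_refl (grp 100 U)))))) (toPerm_mem_grp (E := q_V24) (by simp [q_V24]))) (grp_cons_le ((q_le25.trans (q_le22.trans (q_le17.trans (q_le12.trans (le_refl (grp 100 U)))))) (toPerm_mem_grp (E := q_V24) (by simp [q_V24]))) (grp_cons_le ((q_le27.trans (q_le25.trans (q_le22.trans (q_le17.trans (q_le12.trans (le_refl (grp 100 U))))))) (toPerm_mem_grp (E := q_V26) (by simp [q_V26]))) (grp_cons_le ((q_le27.trans (q_le25.trans (q_le22.trans (q_le17.trans (q_le12.trans (le_refl (grp 100 U))))))) (toPerm_mem_grp (E := q_V26) (by simp [q_V26]))) (grp_nil_le _)))))))))))))))))))))))))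

noncomputable def Ulb_ch : Ch := (Ch.cons (nat_lit 5) [nat_lit 1, nat_lit 3, nat_lit 5, nat_lit 7, nat_lit 9, nat_lit 11, nat_lit 13, nat_lit 15, nat_lit 17] (Ch.cons (nat_lit 32) [nat_lit 19, nat_lit 21, nat_lit 23] (Ch.cons (nat_lit 15) [nat_lit 25, nat_lit 27, nat_lit 29, nat_lit 31] (Ch.cons (nat_lit 0) [nat_lit 33, nat_lit 35, nat_lit 37, nat_lit 39] (Ch.cons (nat_lit 1) [nat_lit 41, nat_lit 43] (Ch.cons (nat_lit 2) [nat_lit 45, nat_lit 47] Ch.nil))))))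

theorem Ulb_chk : Ch.chk 100 7 (lab 100 7) Ulb_E Ulb_ch 512 = true :=
  by decide +kernel

theorem Ulb_ge : 512 ≤ Nat.card (grp 100 U) :=
  (Ch.le_card_grp q_hn Ulb_E_ok Ulb_chk).trans (Subgroup.card_le_of_le Ulb_le)

theorem U_ge : 2 ^ 9 ≤ Nat.card (grp 100 U) :=
  le_of_eq_of_le (by norm_num) Ulb_ge

theorem q_le28 : grp 100 U ≤ grp 100 HSM.lb_E :=
  grp_le_of_memB q_hn q_hk HSM.lb_E_ok U_ok (ws := [nat_lit 0x130e0f140a1405120204, nat_lit 0x130e120a0b0e050e0901030a, nat_lit 0xd1011090c0505080310, nat_lit 0x130a0b0507130310, nat_lit 0xe13090e0705020c, nat_lit 0x140f0a0b050e05010d06, nat_lit 0x130d10110b11050901030b, nat_lit 0x140d100c0505130205, nat_lit 0x130e12091405050c0206]) (by decide +kernel)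

theorem U_G : grp 100 U ≤ (grp 100 HSM.E) :=
  (q_le28).trans HSM.lb_le

theorem q_le29 : grp 100 CU ≤ grp 100 EvHT.lb_E :=
  grp_le_of_memB q_hn q_hk EvHT.lb_E_ok CU_ok (ws := [nat_lit 0x2f252b1a170f0f0d110712040a]) (by decide +kernel)

theorem CU_le : grp 100 CU ≤ (grp 100 EvHT.EG) :=
  (q_le29.trans T_s0.le)

theorem CU_sym : Sym 100 (grp 100 EvHT.EG) U CU 0 :=
  Sym.of_lab q_hn q_hk U_ok CU_ok CU_le (kT := 0) (by decide +kernel)

theorem T_s1 : Stab 100 (grp 100 EvHT.EG) [nat_lit 0] q_V30 887040 :=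
  Stab.step (k := 7) (L := (lab 100 7)) q_hn T_s0 q_V30_ok (grp_mono (List.subset_append_right [MpHS.a, HSM.g1, HSM.g2] _)) (c := (Ch.cons (nat_lit 1) [nat_lit 1, nat_lit 3] (Ch.cons (nat_lit 2) [nat_lit 5, nat_lit 7] (Ch.cons (nat_lit 3) [nat_lit 9, nat_lit 11] (Ch.cons (nat_lit 29) [nat_lit 13, nat_lit 15, nat_lit 17] (Ch.cons (nat_lit 32) [nat_lit 19, nat_lit 21, nat_lit 23] (Ch.cons (nat_lit 78) [nat_lit 25, nat_lit 27, nat_lit 29] (Ch.cons (nat_lit 5) [nat_lit 31, nat_lit 33, nat_lit 35, nat_lit 37] (Ch.cons (nat_lit 14) [nat_lit 39, nat_lit 41] (Ch.cons (nat_lit 4) [nat_lit 43, nat_lit 45] Ch.nil)))))))))) (by decide +kernel)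

theorem T_s2 : Stab 100 (grp 100 EvHT.EG) [nat_lit 1, nat_lit 0] q_V31 40320 :=
  Stab.step (k := 7) (L := (lab 100 7)) q_hn T_s1 q_V31_ok (grp_mono (List.subset_append_right [EvHT.t_g1, EvHT.t_g2] _)) (c := (Ch.cons (nat_lit 2) [nat_lit 1, nat_lit 3] (Ch.cons (nat_lit 3) [nat_lit 5, nat_lit 7] (Ch.cons (nat_lit 29) [nat_lit 9, nat_lit 11, nat_lit 13] (Ch.cons (nat_lit 32) [nat_lit 15, nat_lit 17, nat_lit 19] (Ch.cons (nat_lit 78) [nat_lit 21, nat_lit 23, nat_lit 25] (Ch.cons (nat_lit 5) [nat_lit 27, nat_lit 29, nat_lit 31, nat_lit 33] (Ch.cons (nat_lit 14) [nat_lit 35, nat_lit 37] (Ch.cons (nat_lit 4) [nat_lit 39, nat_lit 41] Ch.nil))))))))) (by decide +kernel)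

theorem T_s3 : Stab 100 (grp 100 EvHT.EG) [nat_lit 2, nat_lit 1, nat_lit 0] q_V32 1920 :=
  Stab.step (k := 7) (L := (lab 100 7)) q_hn T_s2 q_V32_ok (grp_mono (List.subset_append_right [EvHT.t_g5, EvHT.t_g6] _)) (c := (Ch.cons (nat_lit 3) [nat_lit 1, nat_lit 3] (Ch.cons (nat_lit 29) [nat_lit 5, nat_lit 7, nat_lit 9] (Ch.cons (nat_lit 32) [nat_lit 11, nat_lit 13, nat_lit 15] (Ch.cons (nat_lit 78) [nat_lit 17, nat_lit 19, nat_lit 21] (Ch.cons (nat_lit 5) [nat_lit 23, nat_lit 25, nat_lit 27, nat_lit 29] (Ch.cons (nat_lit 14) [nat_lit 31, nat_lit 33] (Ch.cons (nat_lit 4) [nat_lit 35, nat_lit 37] Ch.nil)))))))) (by decide +kernel)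

theorem T_s4 : Stab 100 (grp 100 EvHT.EG) [nat_lit 3, nat_lit 2, nat_lit 1, nat_lit 0] q_V33 384 :=
  Stab.step (k := 7) (L := (lab 100 7)) q_hn T_s3 q_V33_ok (grp_mono (List.subset_append_right [EvHT.t_g9, EvHT.t_g10] _)) (c := (Ch.cons (nat_lit 29) [nat_lit 1, nat_lit 3, nat_lit 5] (Ch.cons (nat_lit 32) [nat_lit 7, nat_lit 9, nat_lit 11] (Ch.cons (nat_lit 78) [nat_lit 13, nat_lit 15, nat_lit 17] (Ch.cons (nat_lit 5) [nat_lit 19, nat_lit 21, nat_lit 23, nat_lit 25] (Ch.cons (nat_lit 14) [nat_lit 27, nat_lit 29] (Ch.cons (nat_lit 4) [nat_lit 31, nat_lit 33] Ch.nil))))))) (by decide +kernel)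

theorem T_s5 : Stab 100 (grp 100 EvHT.EG) [nat_lit 29, nat_lit 3, nat_lit 2, nat_lit 1, nat_lit 0] q_V34 96 :=
  Stab.step (k := 7) (L := (lab 100 7)) q_hn T_s4 q_V34_ok (grp_mono (List.subset_append_right [EvHT.t_g13, EvHT.t_g14, EvHT.t_g15] _)) (c := (Ch.cons (nat_lit 32) [nat_lit 1, nat_lit 3, nat_lit 5] (Ch.cons (nat_lit 78) [nat_lit 7, nat_lit 9, nat_lit 11] (Ch.cons (nat_lit 5) [nat_lit 13, nat_lit 15, nat_lit 17, nat_lit 19] (Ch.cons (nat_lit 14) [nat_lit 21, nat_lit 23] (Ch.cons (nat_lit 4) [nat_lit 25, nat_lit 27] Ch.nil)))))) (by decide +kernel)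

theorem T_s6 : Stab 100 (grp 100 EvHT.EG) [nat_lit 32, nat_lit 29, nat_lit 3, nat_lit 2, nat_lit 1, nat_lit 0] q_V35 32 :=
  Stab.step (k := 7) (L := (lab 100 7)) q_hn T_s5 q_V35_ok (grp_mono (List.subset_append_right [EvHT.t_g18, EvHT.t_g19, EvHT.t_g20] _)) (c := (Ch.cons (nat_lit 78) [nat_lit 1, nat_lit 3, nat_lit 5] (Ch.cons (nat_lit 5) [nat_lit 7, nat_lit 9, nat_lit 11, nat_lit 13] (Ch.cons (nat_lit 14) [nat_lit 15, nat_lit 17] (Ch.cons (nat_lit 4) [nat_lit 19, nat_lit 21] Ch.nil))))) (by decide +kernel)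

theorem T_s7 : Stab 100 (grp 100 EvHT.EG) [nat_lit 78, nat_lit 32, nat_lit 29, nat_lit 3, nat_lit 2, nat_lit 1, nat_lit 0] q_V36 16 :=
  Stab.step (k := 7) (L := (lab 100 7)) q_hn T_s6 q_V36_ok (grp_mono (List.subset_append_right [EvHT.t_g23, EvHT.t_g24, EvHT.t_g25] _)) (c := (Ch.cons (nat_lit 5) [nat_lit 1, nat_lit 3, nat_lit 5, nat_lit 7] (Ch.cons (nat_lit 14) [nat_lit 9, nat_lit 11] (Ch.cons (nat_lit 4) [nat_lit 13, nat_lit 15] Ch.nil)))) (by decide +kernel)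

theorem q_le38 : grp 100 q_V37 ≤ grp 100 q_V36 :=
  grp_le_of_memB q_hn q_hk q_V36_ok q_V37_ok (ws := [nat_lit 3339, nat_lit 721159]) (by decide +kernel)

theorem T_s8 : Stab 100 (grp 100 EvHT.EG) [nat_lit 96, nat_lit 78, nat_lit 32, nat_lit 29, nat_lit 3, nat_lit 2, nat_lit 1, nat_lit 0] q_V37 4 :=
  Stab.step (k := 7) (L := (lab 100 7)) q_hn T_s7 q_V37_ok q_le38 (c := (Ch.cons (nat_lit 59) [nat_lit 1, nat_lit 3] Ch.nil)) (by decide +kernel)

theorem T_s9 : Stab 100 (grp 100 EvHT.EG) [nat_lit 59, nat_lit 96, nat_lit 78, nat_lit 32, nat_lit 29, nat_lit 3, nat_lit 2, nat_lit 1, nat_lit 0] q_V39 1 :=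
  Stab.step (k := 7) (L := (lab 100 7)) q_hn T_s8 q_V39_ok (grp_mono (List.subset_append_right [MpHS.g36, EvHT.t_g72] _)) (c := Ch.nil) (by decide +kernel)

theorem EvHT.t_g1_T : Net.toPerm 100 EvHT.t_g1 ∈ (grp 100 EvHT.EG) :=
  T_s1.le (toPerm_mem_grp (E := q_V30) (List.Mem.head _))

theorem EvHT.t_g2_T : Net.toPerm 100 EvHT.t_g2 ∈ (grp 100 EvHT.EG) :=
  T_s1.le (toPerm_mem_grp (E := q_V30) (List.Mem.tail _ (List.Mem.head _)))

theorem EvHT.t_g5_T : Net.toPerm 100 EvHT.t_g5 ∈ (grp 100 EvHT.EG) :=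
  T_s1.le (toPerm_mem_grp (E := q_V30) (List.Mem.tail _ (List.Mem.tail _ (List.Mem.head _))))

theorem EvHT.t_g6_T : Net.toPerm 100 EvHT.t_g6 ∈ (grp 100 EvHT.EG) :=
  T_s1.le (toPerm_mem_grp (E := q_V30) (List.Mem.tail _ (List.Mem.tail _ (List.Mem.tail _ (List.Mem.head _)))))

theorem EvHT.t_g9_T : Net.toPerm 100 EvHT.t_g9 ∈ (grp 100 EvHT.EG) :=
  T_s1.le (toPerm_mem_grp (E := q_V30) (List.Mem.tail _ (List.Mem.tail _ (List.Mem.tail _ (List.Mem.tail _ (List.Mem.head _))))))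

theorem EvHT.t_g10_T : Net.toPerm 100 EvHT.t_g10 ∈ (grp 100 EvHT.EG) :=
  T_s1.le (toPerm_mem_grp (E := q_V30) (List.Mem.tail _ (List.Mem.tail _ (List.Mem.tail _ (List.Mem.tail _ (List.Mem.tail _ (List.Mem.head _)))))))

theorem EvHT.t_g13_T : Net.toPerm 100 EvHT.t_g13 ∈ (grp 100 EvHT.EG) :=
  T_s1.le (toPerm_mem_grp (E := q_V30) (List.Mem.tail _ (List.Mem.tail _ (List.Mem.tail _ (List.Mem.tail _ (List.Mem.tail _ (List.Mem.tail _ (List.Mem.head _))))))))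

theorem EvHT.t_g14_T : Net.toPerm 100 EvHT.t_g14 ∈ (grp 100 EvHT.EG) :=
  T_s1.le (toPerm_mem_grp (E := q_V30) (List.Mem.tail _ (List.Mem.tail _ (List.Mem.tail _ (List.Mem.tail _ (List.Mem.tail _ (List.Mem.tail _ (List.Mem.tail _ (List.Mem.head _)))))))))

theorem EvHT.t_g15_T : Net.toPerm 100 EvHT.t_g15 ∈ (grp 100 EvHT.EG) :=
  T_s1.le (toPerm_mem_grp (E := q_V30) (List.Mem.tail _ (List.Mem.tail _ (List.Mem.tail _ (List.Mem.tail _ (List.Mem.tail _ (List.Mem.tail _ (List.Mem.tail _ (List.Mem.tail _ (List.Mem.head _))))))))))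

theorem EvHT.t_g18_T : Net.toPerm 100 EvHT.t_g18 ∈ (grp 100 EvHT.EG) :=
  T_s1.le (toPerm_mem_grp (E := q_V30) (List.Mem.tail _ (List.Mem.tail _ (List.Mem.tail _ (List.Mem.tail _ (List.Mem.tail _ (List.Mem.tail _ (List.Mem.tail _ (List.Mem.tail _ (List.Mem.tail _ (List.Mem.head _)))))))))))

theorem EvHT.t_g19_T : Net.toPerm 100 EvHT.t_g19 ∈ (grp 100 EvHT.EG) :=
  T_s1.le (toPerm_mem_grp (E := q_V30) (List.Mem.tail _ (List.Mem.tail _ (List.Mem.tail _ (List.Mem.tail _ (List.Mem.tail _ (List.Mem.tail _ (List.Mem.tail _ (List.Mem.tail _ (List.Mem.tail _ (List.Mem.tail _ (List.Mem.head _))))))))))))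

theorem EvHT.t_g20_T : Net.toPerm 100 EvHT.t_g20 ∈ (grp 100 EvHT.EG) :=
  T_s1.le (toPerm_mem_grp (E := q_V30) (List.Mem.tail _ (List.Mem.tail _ (List.Mem.tail _ (List.Mem.tail _ (List.Mem.tail _ (List.Mem.tail _ (List.Mem.tail _ (List.Mem.tail _ (List.Mem.tail _ (List.Mem.tail _ (List.Mem.tail _ (List.Mem.head _)))))))))))))

theorem EvHT.t_g23_T : Net.toPerm 100 EvHT.t_g23 ∈ (grp 100 EvHT.EG) :=
  T_s1.le (toPerm_mem_grp (E := q_V30) (List.Mem.tail _ (List.Mem.tail _ (List.Mem.tail _ (List.Mem.tail _ (List.Mem.tail _ (List.Mem.tail _ (List.Mem.tail _ (List.Mem.tail _ (List.Mem.tail _ (List.Mem.tail _ (List.Mem.tail _ (List.Mem.tail _ (List.Mem.head _))))))))))))))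

theorem EvHT.t_g24_T : Net.toPerm 100 EvHT.t_g24 ∈ (grp 100 EvHT.EG) :=
  T_s1.le (toPerm_mem_grp (E := q_V30) (List.Mem.tail _ (List.Mem.tail _ (List.Mem.tail _ (List.Mem.tail _ (List.Mem.tail _ (List.Mem.tail _ (List.Mem.tail _ (List.Mem.tail _ (List.Mem.tail _ (List.Mem.tail _ (List.Mem.tail _ (List.Mem.tail _ (List.Mem.tail _ (List.Mem.head _)))))))))))))))

theorem EvHT.t_g25_T : Net.toPerm 100 EvHT.t_g25 ∈ (grp 100 EvHT.EG) :=
  T_s1.le (toPerm_mem_grp (E := q_V30) (List.Mem.tail _ (List.Mem.tail _ (List.Mem.tail _ (List.Mem.tail _ (List.Mem.tail _ (List.Mem.tail _ (List.Mem.tail _ (List.Mem.tail _ (List.Mem.tail _ (List.Mem.tail _ (List.Mem.tail _ (List.Mem.tail _ (List.Mem.tail _ (List.Mem.tail _ (List.Mem.head _))))))))))))))))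

theorem EvHT.t_g28_T : Net.toPerm 100 EvHT.t_g28 ∈ (grp 100 EvHT.EG) :=
  T_s1.le (toPerm_mem_grp (E := q_V30) (List.Mem.tail _ (List.Mem.tail _ (List.Mem.tail _ (List.Mem.tail _ (List.Mem.tail _ (List.Mem.tail _ (List.Mem.tail _ (List.Mem.tail _ (List.Mem.tail _ (List.Mem.tail _ (List.Mem.tail _ (List.Mem.tail _ (List.Mem.tail _ (List.Mem.tail _ (List.Mem.tail _ (List.Mem.head _)))))))))))))))))

theorem EvHT.t_g29_T : Net.toPerm 100 EvHT.t_g29 ∈ (grp 100 EvHT.EG) :=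
  T_s1.le (toPerm_mem_grp (E := q_V30) (List.Mem.tail _ (List.Mem.tail _ (List.Mem.tail _ (List.Mem.tail _ (List.Mem.tail _ (List.Mem.tail _ (List.Mem.tail _ (List.Mem.tail _ (List.Mem.tail _ (List.Mem.tail _ (List.Mem.tail _ (List.Mem.tail _ (List.Mem.tail _ (List.Mem.tail _ (List.Mem.tail _ (List.Mem.tail _ (List.Mem.head _))))))))))))))))))

theorem EvHT.t_g30_T : Net.toPerm 100 EvHT.t_g30 ∈ (grp 100 EvHT.EG) :=
  T_s1.le (toPerm_mem_grp (E := q_V30) (List.Mem.tail _ (List.Mem.tail _ (List.Mem.tail _ (List.Mem.tail _ (List.Mem.tail _ (List.Mem.tail _ (List.Mem.tail _ (List.Mem.tail _ (List.Mem.tail _ (List.Mem.tail _ (List.Mem.tail _ (List.Mem.tail _ (List.Mem.tail _ (List.Mem.tail _ (List.Mem.tail _ (List.Mem.tail _ (List.Mem.tail _ (List.Mem.head _)))))))))))))))))))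

theorem EvHT.t_g31_T : Net.toPerm 100 EvHT.t_g31 ∈ (grp 100 EvHT.EG) :=
  T_s1.le (toPerm_mem_grp (E := q_V30) (List.Mem.tail _ (List.Mem.tail _ (List.Mem.tail _ (List.Mem.tail _ (List.Mem.tail _ (List.Mem.tail _ (List.Mem.tail _ (List.Mem.tail _ (List.Mem.tail _ (List.Mem.tail _ (List.Mem.tail _ (List.Mem.tail _ (List.Mem.tail _ (List.Mem.tail _ (List.Mem.tail _ (List.Mem.tail _ (List.Mem.tail _ (List.Mem.tail _ (List.Mem.head _))))))))))))))))))))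

theorem EvHT.t_g34_T : Net.toPerm 100 EvHT.t_g34 ∈ (grp 100 EvHT.EG) :=
  T_s1.le (toPerm_mem_grp (E := q_V30) (List.Mem.tail _ (List.Mem.tail _ (List.Mem.tail _ (List.Mem.tail _ (List.Mem.tail _ (List.Mem.tail _ (List.Mem.tail _ (List.Mem.tail _ (List.Mem.tail _ (List.Mem.tail _ (List.Mem.tail _ (List.Mem.tail _ (List.Mem.tail _ (List.Mem.tail _ (List.Mem.tail _ (List.Mem.tail _ (List.Mem.tail _ (List.Mem.tail _ (List.Mem.tail _ (List.Mem.head _)))))))))))))))))))))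

theorem MpHS.a_T : Net.toPerm 100 MpHS.a ∈ (grp 100 EvHT.EG) :=
  T_s0.le (toPerm_mem_grp (E := EvHT.lb_E) (List.Mem.head _))

theorem HSM.g1_T : Net.toPerm 100 HSM.g1 ∈ (grp 100 EvHT.EG) :=
  T_s0.le (toPerm_mem_grp (E := EvHT.lb_E) (List.Mem.tail _ (List.Mem.head _)))

theorem HSM.g2_T : Net.toPerm 100 HSM.g2 ∈ (grp 100 EvHT.EG) :=
  T_s0.le (toPerm_mem_grp (E := EvHT.lb_E) (List.Mem.tail _ (List.Mem.tail _ (List.Mem.head _))))

theorem MpHS.g36_T : Net.toPerm 100 MpHS.g36 ∈ (grp 100 EvHT.EG) :=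
  T_s8.le (toPerm_mem_grp (E := q_V37) (List.Mem.head _))

theorem EvHT.t_g72_T : Net.toPerm 100 EvHT.t_g72 ∈ (grp 100 EvHT.EG) :=
  T_s8.le (toPerm_mem_grp (E := q_V37) (List.Mem.tail _ (List.Mem.head _)))

noncomputable def T_s9_O : ℕ := (nat_lit 0x3333266666ccccd99999333321f07c1f03e0f83e0f83e0f83ee63398c67319ce63398c673184db24d926c93649b64db26d92000000000000000000000000100000000000000000000000020000000000000000000000004000000000000000000000000800000000000000000200000000000000000000000100000000000004000000000000000000010000000000000000000000000000000000800000000000000)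

theorem T_s9_F : Frame 100 (grp 100 EvHT.EG) 9 13 T_s9_O 1 1 :=
  IsBase.frame T_s9.isBase (by decide +kernel)

noncomputable def T_s5_O : ℕ := (nat_lit 0x200400000000001000000001010000020004000000000000020000000001000000018000000000000000000004080140000001000640001809210801000804281000004202008404080028080088802802000402000800404120011500010000002420000028600a02848680042800000000000000000000000000010000000000000000000000002000000000000000000000000400000000000000000000000080000000000000000020000000)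

theorem T_s5_F : Frame 100 (grp 100 EvHT.EG) 5 14 T_s5_O 0 1 :=
  Stab.frame q_hn T_s5 (by decide +kernel)

noncomputable def T_s2_O : ℕ := (nat_lit 0x41a0441104800140123000358121100066001580921098100400000000000000000000000010000000000000000000000002)

theorem T_s2_F : Frame 100 (grp 100 EvHT.EG) 2 4 T_s2_O 0 1 :=
  Stab.frame q_hn T_s2 (by decide +kernel)

noncomputable def CU_cnt_L : List ℕ := [2, 4, T_s2_O, 0, 0, 5, 14, T_s5_O, 0, 0, 9, 13, T_s9_O, 1, 0]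

theorem CU_cnt_P : Prob 100 7 (grp 100 EvHT.EG) CU_cnt_EG U U CU CU_cnt_L 0 0 :=
  Sym.prob q_hn q_hk CU_sym CU_cnt_EG_ok (grp_cons_le EvHT.t_g1_T (grp_cons_le EvHT.t_g2_T (grp_cons_le EvHT.t_g5_T (grp_cons_le EvHT.t_g6_T (grp_cons_le EvHT.t_g9_T (grp_cons_le EvHT.t_g10_T (grp_cons_le EvHT.t_g13_T (grp_cons_le EvHT.t_g14_T (grp_cons_le EvHT.t_g15_T (grp_cons_le EvHT.t_g18_T (grp_cons_le EvHT.t_g19_T (grp_cons_le EvHT.t_g20_T (grp_cons_le EvHT.t_g23_T (grp_cons_le EvHT.t_g24_T (grp_cons_le EvHT.t_g25_T (grp_cons_le EvHT.t_g28_T (grp_cons_le EvHT.t_g29_T (grp_cons_le EvHT.t_g30_T (grp_cons_le EvHT.t_g31_T (grp_cons_le EvHT.t_g34_T (grp_cons_le MpHS.a_T (grp_cons_le HSM.g1_T (grp_cons_le HSM.g2_T (grp_cons_le MpHS.g36_T (grp_cons_le EvHT.t_g72_T (grp_nil_le _)))))))))))))))))))))))))) (Frames.cons T_s2_F (Frames.cons T_s5_F (Frames.cons T_s9_F Frames.nil))) U_ok _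

noncomputable def CU_cnt_t : BT := (BT.fix (nat_lit 7) (BT.fix (nat_lit 11) (BT.and (nat_lit 1) (nat_lit 0) (BT.fix (nat_lit 9) (BT.dif (nat_lit 1) (nat_lit 0) (BT.br (nat_lit 0) (nat_lit 71) [] (BT.dead (nat_lit 32) (BT.dif (nat_lit 2) (nat_lit 5) (BT.fix (nat_lit 13) (BT.and (nat_lit 1) (nat_lit 0) (BT.dif (nat_lit 0) (nat_lit 7) (BT.br (nat_lit 0) (nat_lit 20) [] (BT.dead (nat_lit 15) (BT.dif (nat_lit 10) (nat_lit 7) (BT.fix (nat_lit 15) (BT.dif (nat_lit 1) (nat_lit 0) (BT.img (nat_lit 1) (nat_lit 8) (BT.frm (nat_lit 0) (nat_lit 0x1072a2b) (nat_lit 0x2022a2d) [nat_lit 0, nat_lit 9] (BT.pln (nat_lit 0) (nat_lit 3) (BT.and (nat_lit 3) (nat_lit 0) (BT.br (nat_lit 0) (nat_lit 39) [nat_lit 1] (BT.dead (nat_lit 9) (BT.img (nat_lit 1) (nat_lit 8) (BT.dif (nat_lit 11) (nat_lit 9) (BT.dif (nat_lit 0) (nat_lit 19) (BT.img (nat_lit 3) (nat_lit 11) (BT.and (nat_lit 20) (nat_lit 6) (BT.and (nat_lit 23)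 (nat_lit 16) (BT.and (nat_lit 0) (nat_lit 21) (BT.pln (nat_lit 10) (nat_lit 2) (BT.and (nat_lit 1) (nat_lit 0) (BT.frm (nat_lit 2) (nat_lit 0x2f23130d090b051401072a2b) (nat_lit 0x2f25060e02022a2d) [nat_lit 9, nat_lit 8, nat_lit 6, nat_lit 5, nat_lit 17, nat_lit 4, nat_lit 0, nat_lit 13, nat_lit 22] (BT.pln (nat_lit 0) (nat_lit 9) (BT.img (nat_lit 15) (nat_lit 11) (BT.img (nat_lit 5) (nat_lit 0) (BT.and (nat_lit 2) (nat_lit 0) (BT.cnt (nat_lit 0)))))))))))))))) BT.nil))))))))) (BT.dead (nat_lit 20) (BT.img (nat_lit 1) (nat_lit 5) (BT.frm (nat_lit 0) (nat_lit 0x1072a2b) (nat_lit 0x2022a2d) [nat_lit 0, nat_lit 6] (BT.pln (nat_lit 0) (nat_lit 3) (BT.and (nat_lit 11) (nat_lit 0) (BT.and (nat_lit 14) (nat_lit 7) (BT.and (nat_lit 0) (nat_lit 12) (BT.pln (nat_lit 4) (nat_lit 2) (BT.and (nat_lit 1) (nat_lit 0) (BT.frm (nat_lit 1) (nat_lit 0xd090b051401072a2b) (nat_lit 0xd060e02022a2d) [nat_lit 8, nat_lit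 4, nat_lit 0, nat_lit 7, nat_lit 13] (BT.pln (nat_lit 0) (nat_lit 8) (BT.fix (nat_lit 15) (BT.dif (nat_lit 0) (nat_lit 14) (BT.dif (nat_lit 0) (nat_lit 22) (BT.img (nat_lit 1) (nat_lit 0) (BT.and (nat_lit 4) (nat_lit 0) (BT.cnt (nat_lit 0))))))))))))))))) BT.nil))))))) (BT.kid (nat_lit 71) (nat_lit 2) (BT.dif (nat_lit 2) (nat_lit 5) (BT.fix (nat_lit 13) (BT.and (nat_lit 1) (nat_lit 0) (BT.dif (nat_lit 0) (nat_lit 7) (BT.br (nat_lit 0) (nat_lit 20) [] (BT.dead (nat_lit 15) (BT.img (nat_lit 1) (nat_lit 5) (BT.frm (nat_lit 0) (nat_lit 0x1072a2b) (nat_lit 0x1072a2b) [nat_lit 0, nat_lit 6] (BT.pln (nat_lit 0) (nat_lit 3) (BT.and (nat_lit 11) (nat_lit 0) (BT.and (nat_lit 14) (nat_lit 7) (BT.and (nat_lit 0) (nat_lit 12) (BT.pln (nat_lit 4) (nat_lit 2) (BT.and (nat_lit 1) (nat_lit 0) (BT.frm (nat_lit 1) (nat_lit 0xd090b051401072a2b) (nat_lit 0x11090b051401072a2b) [nat_lit 8, nat_lit 4, nat_lit 0, nat_lit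 7, nat_lit 13] (BT.pln (nat_lit 0) (nat_lit 8) (BT.fix (nat_lit 15) (BT.dif (nat_lit 0) (nat_lit 14) (BT.dif (nat_lit 0) (nat_lit 22) (BT.img (nat_lit 1) (nat_lit 0) (BT.and (nat_lit 4) (nat_lit 0) (BT.cnt (nat_lit 0))))))))))))))))) (BT.kid (nat_lit 20) (nat_lit 2) (BT.dif (nat_lit 10) (nat_lit 7) (BT.fix (nat_lit 15) (BT.dif (nat_lit 1) (nat_lit 0) (BT.img (nat_lit 1) (nat_lit 8) (BT.frm (nat_lit 0) (nat_lit 0x1072a2b) (nat_lit 0x1072a2b) [nat_lit 0, nat_lit 9] (BT.pln (nat_lit 0) (nat_lit 3) (BT.and (nat_lit 3) (nat_lit 0) (BT.br (nat_lit 0) (nat_lit 39) [nat_lit 1] (BT.kid (nat_lit 39) (nat_lit 1) (BT.img (nat_lit 1) (nat_lit 8) (BT.dif (nat_lit 11) (nat_lit 9) (BT.dif (nat_lit 0) (nat_lit 19) (BT.img (nat_lit 3) (nat_lit 11) (BT.and (nat_lit 20) (nat_lit 6) (BT.and (nat_lit 23) (nat_lit 16) (BT.and (nat_lit 0) (nat_lit 21) (BT.pln (nat_lit 10) (nat_lit 2) (BT.and (nat_lit 1) (nat_lit 0)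 (BT.one (nat_lit 2) (nat_lit 0x2f23130d090b051401072a2b) (nat_lit 0x2f23130d090b051401072a2b) [nat_lit 9, nat_lit 8, nat_lit 6, nat_lit 5, nat_lit 17, nat_lit 4, nat_lit 0, nat_lit 13, nat_lit 22])))))))))) BT.nil))))))))) BT.nil))))))) BT.nil))))))))

theorem CU_cnt : Cnt 100 (grp 100 EvHT.EG) U U 0 0 0 0 2 :=
  BT.sound CU_cnt_P Known.nil (t := CU_cnt_t) (d := 0) (by decide +kernel)

theorem CU_ge : 2 ≤ Nat.card (grp 100 CU) :=
  Ch.le_card_grp (k := 7) (L := (lab 100 7)) q_hn CU_ok (c := (Ch.cons (nat_lit 39) [nat_lit 1] Ch.nil)) (by decide +kernel)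

theorem CU_eq : (grp 100 EvHT.EG) ⊓ Subgroup.centralizer (grp 100 U : Set (Equiv.Perm (Fin 100))) = grp 100 CU :=
  cent_grp_eq CU_sym CU_cnt CU_ge

theorem CU_card : Nat.card (grp 100 CU) = 2 :=
  (CU_sym.mem_iff CU_cnt CU_ge).1

theorem CU_z : grp 100 CU ≤ grp 100 EZ :=
  grp_le_of_memB q_hn q_hk EZ_ok CU_ok (ws := [nat_lit 1]) (by decide +kernel)

theorem bx : Ej.Bx (grp 100 HSM.E) (grp 100 EvHT.EG) (Net.toPerm 100 EvHT.t_g60) (grp 100 U) :=
  ⟨by rw [EvHT.card_N, HSM.card_grp],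
    Ej.syl_of_card U_G (a := 9) (m := 86625) (U_poly.card_eq rfl U_ge) (by rw [HSM.card_grp]; norm_num) (by norm_num),
    Ej.ord2 q_hn q_hk (by decide +kernel), (toPerm_mem_grp (E := U) (List.Mem.tail _ (List.Mem.tail _ (List.Mem.tail _ (List.Mem.tail _ (List.Mem.tail _ (List.Mem.tail _ (List.Mem.tail _ (List.Mem.tail _ (List.Mem.head _)))))))))),
    fun _ hx => H62.TE.mem_c1.1 (EvG.le_cent q_hn q_hk (by decide +kernel) hx),
    fun _ hσ h => EvG.mem_single q_hn q_hk (by decide +kernel) (CU_z (CU_eq.le ⟨hσ, fun x hx => (h x hx).symm⟩)),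
    ⟨_, (toPerm_mem_grp (E := U) (List.Mem.tail _ (List.Mem.head _))), _, (toPerm_mem_grp (E := U) (List.Mem.head _)), EvG.ncomm_net (k := 7) q_hn (by decide +kernel)⟩, EvHS.rank3⟩

theorem cls : ∀ x ∈ (grp 100 HSM.E), orderOf x = 2 → CjIn (grp 100 EvHT.EG) (Net.toPerm 100 EvHT.t_g60) x ∨ CjIn (grp 100 EvHT.EG) (Net.toPerm 100 EvHT.t_g77) x :=
  Ej.in_reps EvHT.amb EvHS.reps fun t ht => by
  rcases ht with rfl | rfl | rfl | rfl
  · exact .inr (.inr EvHS.u_G)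
  · exact .inl rfl
  · exact .inr (.inl rfl)
  · exact .inr (.inr t_G)

theorem crit : Ej.Crit (grp 100 HSM.E) (grp 100 EvHT.EG) (Net.toPerm 100 EvHT.t_g60) :=
  Ej.crit_of q_hn q_hk cls (by decide +kernel)

theorem z_G : Net.toPerm 100 EvHT.t_g60 ∈ (grp 100 HSM.E) :=
  HSM.lb_le (mem_grp_of_memB q_hn q_hk HSM.lb_E_ok EvHT.t_g60_ok (w := (nat_lit 0x130e12091405050c0206)) (by decide +kernel))

theorem c_G : Net.toPerm 100 q_g41 ∈ (grp 100 HSM.E) :=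
  HSM.lb_le (mem_grp_of_memB q_hn q_hk HSM.lb_E_ok q_g41_ok (w := (nat_lit 0xd0f120c05070f020a)) (by decide +kernel))

theorem e_U : (Net.toPerm 100 q_g40) ∈ grp 100 U :=
  Ej.pr_one (n := 100) q_g40 ▸ Ej.mem_of_inB q_hn q_hk U_ok (Ej.ok_one q_g40_ok) (m := 136) (by decide +kernel)

theorem k1 : ∀ y ∈ grp 100 U, y * (Net.toPerm 100 q_g40) = (Net.toPerm 100 q_g40) * y ∨ y * (Net.toPerm 100 q_g40) = (Net.toPerm 100 q_g40) * y * (Net.toPerm 100 EvHT.t_g60) :=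
  Ej.four_a q_hn q_hk U_ok EvHT.t_g60_ok q_g40_ok bx.z2 (fun x hx => H62.TE.mem_c1.2 (bx.zc x hx)) (by decide +kernel)

theorem k2 : ∀ x ∈ grp 100 U, x * x = 1 → (∀ y ∈ grp 100 U, y * x = x * y ∨ y * x = x * y * (Net.toPerm 100 EvHT.t_g60)) → x = 1 ∨ x = (Net.toPerm 100 EvHT.t_g60) ∨ x = (Net.toPerm 100 q_g40) ∨ x = (Net.toPerm 100 EvHT.t_g60) * (Net.toPerm 100 q_g40) :=
  Ej.four_b q_hn q_hk U_ok U_poly EvHT.t_g60_ok q_g40_ok (by decide +kernel)

theorem q_le48 : grp 100 q_V47 ≤ grp 100 KZ :=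
  grp_le_of_memB q_hn q_hk KZ_ok q_V47_ok (ws := [nat_lit 0x603060305, nat_lit 0x10405030601]) (by decide +kernel)

theorem q_le54 : grp 100 q_V53 ≤ grp 100 q_V47 :=
  grp_le_of_memB q_hn q_hk q_V47_ok q_V53_ok (ws := [nat_lit 0x20203010402020202, nat_lit 0x30203010104020204, nat_lit 0x40203010104020202040202, nat_lit 0x204010303020203030202]) (by decide +kernel)

theorem q_le59 : grp 100 q_V58 ≤ grp 100 q_V53 :=
  grp_le_of_memB q_hn q_hk q_V53_ok q_V58_ok (ws := [nat_lit 0x6030106080806, nat_lit 0x20307060105, nat_lit 0x703030108050404070101, nat_lit 0x808080808020301]) (by decide +kernel)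

theorem q_le61 : grp 100 q_V60 ≤ grp 100 q_V58 :=
  grp_le_of_memB q_hn q_hk q_V58_ok q_V60_ok (ws := [nat_lit 0x601050206020704, nat_lit 0x408080405040101]) (by decide +kernel)

theorem q_le63 : grp 100 q_V62 ≤ grp 100 q_V60 :=
  grp_le_of_memB q_hn q_hk q_V60_ok q_V62_ok (ws := [nat_lit 0x404020404, nat_lit 197124]) (by decide +kernel)

theorem KZlb_le : grp 100 KZlb_E ≤ grp 100 KZ :=
  (grp_cons_le ((le_refl (grp 100 KZ)) (toPerm_mem_grp (E := KZ) (by simp [KZ]))) (grp_cons_le ((le_refl (grp 100 KZ)) (toPerm_mem_grp (E := KZ) (by simp [KZ]))) (grp_cons_le ((le_refl (grp 100 KZ)) (toPerm_mem_grp (E := KZ) (by simp [KZ]))) (grp_cons_le ((q_le48.trans (le_refl (grp 100 KZ))) (toPerm_mem_grp (E := q_V47) (by simp [q_V47]))) (grp_cons_le ((q_le48.trans (le_refl (grp 100 KZ))) (toPerm_mem_grp (E := q_V47) (by simp [q_V47]))) (grp_cons_le ((q_le54.trans (q_le48.trans (le_refl (grp 100 KZ)))) (toPerm_mem_grp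 (E := q_V53) (by simp [q_V53]))) (grp_cons_le ((q_le54.trans (q_le48.trans (le_refl (grp 100 KZ)))) (toPerm_mem_grp (E := q_V53) (by simp [q_V53]))) (grp_cons_le ((q_le54.trans (q_le48.trans (le_refl (grp 100 KZ)))) (toPerm_mem_grp (E := q_V53) (by simp [q_V53]))) (grp_cons_le ((q_le54.trans (q_le48.trans (le_refl (grp 100 KZ)))) (toPerm_mem_grp (E := q_V53) (by simp [q_V53]))) (grp_cons_le ((q_le59.trans (q_le54.trans (q_le48.trans (le_refl (grp 100 KZ))))) (toPerm_mem_grp (E := q_V58) (by simp [q_V58]))) (grp_cons_le ((q_le59.trans (q_le54.trans (q_le48.trans (le_refl (grp 100 KZ))))) (toPerm_mem_grp (E := q_V58) (by simp [q_V58]))) (grp_cons_le ((q_le59.trans (q_le54.trans (q_le48.trans (le_refl (grp 100 KZ))))) (toPerm_mem_grp (E := q_V58) (by simp [q_V58]))) (grp_cons_le ((q_le59.trans (q_le54.trans (q_le48.trans (le_refl (grp 100 KZ))))) (toPerm_mem_grp (E := q_V58) (by simp [q_V58])))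 (grp_cons_le ((q_le61.trans (q_le59.trans (q_le54.trans (q_le48.trans (le_refl (grp 100 KZ)))))) (toPerm_mem_grp (E := q_V60) (by simp [q_V60]))) (grp_cons_le ((q_le61.trans (q_le59.trans (q_le54.trans (q_le48.trans (le_refl (grp 100 KZ)))))) (toPerm_mem_grp (E := q_V60) (by simp [q_V60]))) (grp_cons_le ((q_le63.trans (q_le61.trans (q_le59.trans (q_le54.trans (q_le48.trans (le_refl (grp 100 KZ))))))) (toPerm_mem_grp (E := q_V62) (by simp [q_V62]))) (grp_cons_le ((q_le63.trans (q_le61.trans (q_le59.trans (q_le54.trans (q_le48.trans (le_refl (grp 100 KZ))))))) (toPerm_mem_grp (E := q_V62) (by simp [q_V62]))) (grp_nil_le _))))))))))))))))))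

noncomputable def KZlb_ch : Ch := (Ch.cons (nat_lit 5) [nat_lit 1, nat_lit 3, nat_lit 5] (Ch.cons (nat_lit 15) [nat_lit 7, nat_lit 9] (Ch.cons (nat_lit 32) [nat_lit 11, nat_lit 13, nat_lit 15, nat_lit 17] (Ch.cons (nat_lit 0) [nat_lit 19, nat_lit 21, nat_lit 23, nat_lit 25] (Ch.cons (nat_lit 1) [nat_lit 27, nat_lit 29] (Ch.cons (nat_lit 2) [nat_lit 31, nat_lit 33] Ch.nil))))))

theorem KZlb_chk : Ch.chk 100 7 (lab 100 7) KZlb_E KZlb_ch 7680 = true :=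
  by decide +kernel

theorem KZlb_ge : 7680 ≤ Nat.card (grp 100 KZ) :=
  (Ch.le_card_grp q_hn KZlb_E_ok KZlb_chk).trans (Subgroup.card_le_of_le KZlb_le)

theorem q_le68 : grp 100 q_V67 ≤ grp 100 EX :=
  grp_le_of_memB q_hn q_hk EX_ok q_V67_ok (ws := [nat_lit 0x303020401040104040104, nat_lit 0x3010402, nat_lit 0x20404020401]) (by decide +kernel)

theorem q_le71 : grp 100 q_V70 ≤ grp 100 q_V67 :=
  grp_le_of_memB q_hn q_hk q_V67_ok q_V70_ok (ws := [nat_lit 0x1060106, nat_lit 0x1010301060404, nat_lit 774]) (by decide +kernel)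

theorem q_le74 : grp 100 q_V73 ≤ grp 100 q_V70 :=
  grp_le_of_memB q_hn q_hk q_V70_ok q_V73_ok (ws := [nat_lit 0x301030206020404, nat_lit 6]) (by decide +kernel)

theorem q_le76 : grp 100 q_V75 ≤ grp 100 q_V73 :=
  grp_le_of_memB q_hn q_hk q_V73_ok q_V75_ok (ws := [nat_lit 0x103030202, nat_lit 0x301040401010402]) (by decide +kernel)

theorem q_le78 : grp 100 q_V77 ≤ grp 100 q_V75 :=
  grp_le_of_memB q_hn q_hk q_V75_ok q_V77_ok (ws := [nat_lit 0x3020401040104, nat_lit 0x301040404]) (by decide +kernel)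

theorem EXlb_le : grp 100 EXlb_E ≤ grp 100 EX :=
  (grp_cons_le ((le_refl (grp 100 EX)) (toPerm_mem_grp (E := EX) (by simp [EX]))) (grp_cons_le ((le_refl (grp 100 EX)) (toPerm_mem_grp (E := EX) (by simp [EX]))) (grp_cons_le ((q_le68.trans (le_refl (grp 100 EX))) (toPerm_mem_grp (E := q_V67) (by simp [q_V67]))) (grp_cons_le ((q_le68.trans (le_refl (grp 100 EX))) (toPerm_mem_grp (E := q_V67) (by simp [q_V67]))) (grp_cons_le ((q_le68.trans (le_refl (grp 100 EX))) (toPerm_mem_grp (E := q_V67) (by simp [q_V67]))) (grp_cons_le ((q_le71.trans (q_le68.trans (le_refl (grp 100 EX)))) (toPerm_mem_grp (E := q_V70) (by simp [q_V70]))) (grp_cons_le ((q_le71.trans (q_le68.trans (le_refl (grp 100 EX)))) (toPerm_mem_grp (E := q_V70) (by simp [q_V70]))) (grp_cons_le ((q_le71.trans (q_le68.trans (le_refl (grp 100 EX)))) (toPerm_mem_grp (E := q_V70) (by simp [q_V70]))) (grp_cons_le ((q_le74.trans (q_le71.trans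 (q_le68.trans (le_refl (grp 100 EX))))) (toPerm_mem_grp (E := q_V73) (by simp [q_V73]))) (grp_cons_le ((q_le74.trans (q_le71.trans (q_le68.trans (le_refl (grp 100 EX))))) (toPerm_mem_grp (E := q_V73) (by simp [q_V73]))) (grp_cons_le ((q_le76.trans (q_le74.trans (q_le71.trans (q_le68.trans (le_refl (grp 100 EX)))))) (toPerm_mem_grp (E := q_V75) (by simp [q_V75]))) (grp_cons_le ((q_le76.trans (q_le74.trans (q_le71.trans (q_le68.trans (le_refl (grp 100 EX)))))) (toPerm_mem_grp (E := q_V75) (by simp [q_V75]))) (grp_cons_le ((q_le78.trans (q_le76.trans (q_le74.trans (q_le71.trans (q_le68.trans (le_refl (grp 100 EX))))))) (toPerm_mem_grp (E := q_V77) (by simp [q_V77]))) (grp_cons_le ((q_le78.trans (q_le76.trans (q_le74.trans (q_le71.trans (q_le68.trans (le_refl (grp 100 EX))))))) (toPerm_mem_grp (E := q_V77) (by simp [q_V77]))) (grp_nil_le _)))))))))))))))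

noncomputable def EXlb_ch : Ch := (Ch.cons (nat_lit 5) [nat_lit 1, nat_lit 3] (Ch.cons (nat_lit 15) [nat_lit 5, nat_lit 7, nat_lit 9] (Ch.cons (nat_lit 7) [nat_lit 11, nat_lit 13, nat_lit 15] (Ch.cons (nat_lit 32) [nat_lit 17, nat_lit 19] (Ch.cons (nat_lit 2) [nat_lit 21, nat_lit 23] (Ch.cons (nat_lit 0) [nat_lit 25, nat_lit 27] Ch.nil))))))

theorem EXlb_chk : Ch.chk 100 7 (lab 100 7) EXlb_E EXlb_ch 3840 = true :=
  by decide +kernel

theorem EXlb_ge : 3840 ≤ Nat.card (grp 100 EX) :=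
  (Ch.le_card_grp q_hn EXlb_E_ok EXlb_chk).trans (Subgroup.card_le_of_le EXlb_le)

theorem q_le79 : grp 100 KZ ≤ grp 100 HSM.lb_E :=
  grp_le_of_memB q_hn q_hk HSM.lb_E_ok KZ_ok (ws := [nat_lit 0x120f090e0505100105, nat_lit 0x130d0d0f09110a06060204, nat_lit 0x13100b0a0514010305]) (by decide +kernel)

theorem KZ_G : grp 100 KZ ≤ (grp 100 HSM.E) :=
  (q_le79).trans HSM.lb_le

theorem KZ_C : grp 100 KZ ≤ (grp 100 HSM.E) ⊓ H62.TE.c1 (Net.toPerm 100 EvHT.t_g60) :=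
  le_inf KZ_G (EvG.le_cent q_hn q_hk (by decide +kernel))

theorem y_G : Net.toPerm 100 q_g80 ∈ (grp 100 HSM.E) :=
  HSM.lb_le (mem_grp_of_memB q_hn q_hk HSM.lb_E_ok q_g80_ok (w := (nat_lit 0xd12091309060a)) (by decide +kernel))

theorem x_N : Net.toPerm 100 q_g81 ∈ (grp 100 EvHT.EG) :=
  T_s0.le (mem_grp_of_memB q_hn q_hk EvHT.lb_E_ok q_g81_ok (w := (nat_lit 0x2b100b0d080d)) (by decide +kernel))

theorem x_G : (Net.toPerm 100 q_g81) ∉ (grp 100 HSM.E) :=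
  Ej.nmem_of (EvG.mul_net q_hn q_hk (by decide +kernel)) y_G EvHS.u_G

theorem CZ_dvd : Nat.card ↥((grp 100 HSM.E) ⊓ H62.TE.c1 (Net.toPerm 100 EvHT.t_g60)) ∣ 7680 :=
  EvG.two_mul_dvd' EvHT.amb x_N (EvG.comm_net q_hn q_hk (by decide +kernel)) (EvG.sq_net q_hn q_hk (by decide +kernel)) x_G EvHT.nt_c2_card

theorem CZ_le : (grp 100 HSM.E) ⊓ H62.TE.c1 (Net.toPerm 100 EvHT.t_g60) ≤ grp 100 KZ :=
  Ej.le_of_card KZ_C KZlb_ge CZ_dvd (by norm_num)

theorem xz : H62.EJ.Xp 3 ((grp 100 HSM.E) ⊓ H62.TE.c1 (Net.toPerm 100 EvHT.t_g60)) = grp 100 EX :=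
  Ej.xp_of_index ((grp_mono (List.subset_append_left EX [q_g44])).trans KZ_C) CZ_dvd (by norm_num) EXlb_ge (by norm_num) (Ej.cube q_hn q_hk (by decide +kernel))

theorem z_X : Net.toPerm 100 EvHT.t_g60 ∈ grp 100 EX :=
  EXlb_le (mem_grp_of_memB q_hn q_hk EXlb_E_ok EvHT.t_g60_ok (w := (nat_lit 23)) (by decide +kernel))

theorem q_le82 : grp 100 UB ≤ grp 100 EXlb_E :=
  grp_le_of_memB q_hn q_hk EXlb_E_ok UB_ok (ws := [nat_lit 0x130e0508, nat_lit 0x17130d0d, nat_lit 0x1917130e0a010503, nat_lit 19, nat_lit 0x19130d0508, nat_lit 23]) (by decide +kernel)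

theorem B_X : grp 100 UB ≤ grp 100 EX :=
  (q_le82).trans EXlb_le

theorem B_n : grp 100 EX ≤ H62.TE.nz (grp 100 UB) :=
  Ej.le_nz_of_nzB q_hn q_hk UB_ok EX_ok (W := [[nat_lit 22, nat_lit 49, nat_lit 35, nat_lit 16, nat_lit 24, nat_lit 32], [nat_lit 2, nat_lit 3, nat_lit 48, nat_lit 27, nat_lit 52, nat_lit 32]]) (by decide +kernel)

theorem B_poly : Ej.Poly 100 UB :=
  Ej.Poly.tail (A := UA) U_poly

theorem B_ge : 2 ^ 6 ≤ Nat.card (grp 100 UB) :=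
  Ej.Poly.card_tail (A := UA) (B := UB) U_poly U_ge

theorem B_U : grp 100 UB ≤ grp 100 U :=
  grp_mono (List.subset_append_right UA UB)

theorem o2z : pCoreTwoOf (H62.EJ.Xp 3 ((grp 100 HSM.E) ⊓ H62.TE.c1 (Net.toPerm 100 EvHT.t_g60))) = grp 100 UB :=
  Ej.o2_eq q_hn q_hk (A := UA) (B := UB) UA_ok EF_ok EX_ok EvHT.t_g60_ok q_g40_ok U_poly bx xz B_X B_n k1
    (ws := [nat_lit 2]) (by decide +kernel) (by decide +kernel)

theorem dv : Ej.Dv (grp 100 HSM.E) (grp 100 EvHT.EG) (Net.toPerm 100 EvHT.t_g60) (grp 100 U) :=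
  ⟨⟨_, CZ_le, crit.gen q_hn q_hk z_G KZ_G (m := 3) (by decide) (by decide +kernel)⟩,
    ⟨_, e_U, _, c_G, Ej.cube1 q_hn q_hk (by decide +kernel), Ej.conj_net q_hn q_hk (by decide +kernel), Ej.conj_net2 q_hn q_hk (by decide +kernel), k1, k2⟩,
    xz ▸ z_X, o2z ▸ Ej.cnt_ne q_hn q_hk UB_ok B_poly B_ge (B_U.trans U_G) EvHT.t_g60_ok crit (by decide +kernel)⟩

theorem xs : H62.EJ.Xp 3 ((grp 100 HSM.E) ⊓ H62.TE.c1 (Net.toPerm 100 EvHT.t_g77)) = grp 100 EvHS.L3 :=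
  Ej.xp_of_cmp EvHT.amb EvHS.cmp3 (by rw [EvHS.L3o_card]; norm_num)

theorem ds : Ej.Ds (grp 100 HSM.E) (grp 100 EvHT.EG) (Net.toPerm 100 EvHT.t_g60) (Net.toPerm 100 EvHT.t_g77) :=
  ⟨cls, Ej.ey_of xs EvHS.Y3_eq fun y hy _ => EvHS.Y3_sq y hy,
    xs ▸ crit.table q_hn q_hk EvHS.L3_G EvHS.lt3 (by decide +kernel),
    xs ▸ ⟨_, EvHS.lt3_c1_mem, EvHS.lt3_c1_ord, Ej.cjIn_of_cob EvHS.j3_G (EvG.cob_net q_hn q_hk (by decide +kernel))⟩⟩

theorem pfu_s : Net.toPerm 100 q_g84 ∈ (grp 100 HSM.E) :=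
  HSM.lb_le (mem_grp_of_memB q_hn q_hk HSM.lb_E_ok q_g84_ok (w := (nat_lit 0xe0f0b1406060a010503)) (by decide +kernel))

theorem pfu : Ej.Pf (grp 100 HSM.E) (grp 100 EvHT.EG) (Net.toPerm 100 EvHT.t_g60) (Net.toPerm 100 EvHT.t_g39) :=
  ⟨⟨_, le_inf EvHS.cmp1.leG EvHS.cmp1.leC, Ej.perf_of_cmp EvHS.cmp1, _, EvHS.lt1_c1_mem,
    crit.tc1 q_hn q_hk (EvHS.L1_G EvHS.lt1_c1_mem) (by decide +kernel), _, EvHS.j1_G, EvG.cob_net q_hn q_hk (by decide +kernel)⟩,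
    _, pfu_s, EvG.comm_net q_hn q_hk (by decide +kernel), crit.ntc q_hn q_hk pfu_s (by decide +kernel)⟩

theorem pft_s : Net.toPerm 100 q_g85 ∈ (grp 100 HSM.E) :=
  HSM.lb_le (mem_grp_of_memB q_hn q_hk HSM.lb_E_ok q_g85_ok (w := (nat_lit 0x130e09050b0d010302)) (by decide +kernel))

theorem pft_m0 : Net.toPerm 100 q_g88 ∈ grp 100 pft_Q :=
  id (mem_grp_of_memB q_hn q_hk pft_Q_ok q_g88_ok (w := (nat_lit 0x301030104)) (by decide +kernel))

theorem pft_m1 : Net.toPerm 100 q_g89 ∈ grp 100 pft_Q :=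
  id (mem_grp_of_memB q_hn q_hk pft_Q_ok q_g89_ok (w := (nat_lit 0x401040103)) (by decide +kernel))

theorem pft_m2 : Net.toPerm 100 q_g90 ∈ grp 100 pft_Q :=
  id (mem_grp_of_memB q_hn q_hk pft_Q_ok q_g90_ok (w := (nat_lit 4)) (by decide +kernel))

theorem pft_m3 : Net.toPerm 100 q_g91 ∈ grp 100 pft_Q :=
  id (mem_grp_of_memB q_hn q_hk pft_Q_ok q_g91_ok (w := (nat_lit 0x10301040103010401)) (by decide +kernel))

theorem pft_m4 : Net.toPerm 100 q_g86 ∈ grp 100 pft_Q :=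
  id (mem_grp_of_memB q_hn q_hk pft_Q_ok q_g86_ok (w := (nat_lit 1)) (by decide +kernel))

theorem q_le92 : grp 100 pft_Q ≤ grp 100 HSM.lb_E :=
  grp_le_of_memB q_hn q_hk HSM.lb_E_ok pft_Q_ok (ws := [nat_lit 0x140e120c11050b07010305, nat_lit 0x13100a0a050511010910]) (by decide +kernel)

theorem pft_G : grp 100 pft_Q ≤ (grp 100 HSM.E) :=
  (q_le92).trans HSM.lb_le

theorem pft_j : Net.toPerm 100 q_g93 ∈ (grp 100 HSM.E) :=
  HSM.lb_le (mem_grp_of_memB q_hn q_hk HSM.lb_E_ok q_g93_ok (w := (nat_lit 0x130d0f120b140b07070104)) (by decide +kernel))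

theorem pft_pf : ⁅grp 100 pft_Q, grp 100 pft_Q⁆ = grp 100 pft_Q :=
  by
  have e : grp 100 pft_Q = _ := EvG.grp_pair q_g86 q_g87
  rw [e]
  exact Ej.perf_pair (e ▸ pft_m0) (e ▸ pft_m1) (e ▸ pft_m2) (e ▸ pft_m3) (Ej.brk_net q_hn q_hk (by decide +kernel)) (Ej.brk_net q_hn q_hk (by decide +kernel))

theorem pft : Ej.Pf (grp 100 HSM.E) (grp 100 EvHT.EG) (Net.toPerm 100 EvHT.t_g60) (Net.toPerm 100 EvHT.t_g103) :=
  ⟨⟨_, le_inf pft_G (EvG.le_cent q_hn q_hk (by decide +kernel)), pft_pf, _, pft_m4,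
    crit.tc1 q_hn q_hk (pft_G pft_m4) (by decide +kernel), _, pft_j, EvG.cob_net q_hn q_hk (by decide +kernel)⟩,
    _, pft_s, EvG.comm_net q_hn q_hk (by decide +kernel), crit.ntc q_hn q_hk pft_s (by decide +kernel)⟩

theorem outr : ∀ σ ∈ (grp 100 EvHT.EG), σ ∉ (grp 100 HSM.E) → orderOf σ = 2 → ∃ t, CjIn (grp 100 EvHT.EG) t σ ∧ Ej.Pf (grp 100 HSM.E) (grp 100 EvHT.EG) (Net.toPerm 100 EvHT.t_g60) t :=
  Ej.out_reps EvHT.amb EvHS.reps fun t ht => by
  rcases ht with rfl | rfl | rfl | rfl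
  · exact .inr pfu
  · exact .inl z_G
  · exact .inl EvHS.s_G
  · exact .inr pft

universe u

open Cfsg.Agent.H62.EJ

theorem kgHS : KGF.{u} (fun S _ => Spor.IsoHS S) := fun _ _ _ _ _ ⟨e⟩ =>
  bx.kgD1 (Ej.em_of EvHT.amb (e.trans HSM.equiv)) ds

theorem kvHS : KVF.{u} (fun S _ => Spor.IsoHS S) False := fun _ _ _ _ _ ⟨e⟩ =>
  have h := Ej.em_of EvHT.amb (e.trans HSM.equiv)
  ⟨bx.kv0D h dv ds, bx.kv2 h dv, bx.kc0 h outr⟩

theorem kcHS : KCF.{u} (fun S _ => Spor.IsoHS S) := fun _ _ _ _ _ ⟨e⟩ _ _ _ _ hπ =>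
  ⟨EvG.card_ker_eq (H80.hasSchurMultiplier_congr_left EvHS.mult (e.trans HSM.equiv).symm) hπ,
    bx.l4 (Ej.em_of EvHT.amb (e.trans HSM.equiv)) EvHS.s_G cls hπ fun _ h => EvHS.lift h EvHS.s_G EvHS.cmp3.sq
      (EvG.spin_net q_hn q_hk EvHT.t_g77_ok (by decide +kernel))⟩

end Cfsg.Agent.H55.EjHS
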