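import Mathlib
import Cfsg.Agent.H43.Cent
import Cfsg.Agent.H55.EjB
import Cfsg.Agent.H17.EvM11

set_option autoImplicit false
set_option maxRecDepth 200000
set_option linter.style.longLine false

namespace Cfsg.Agent.H55.EjM11

open Cfsg.Agent.H43 Cfsg.Agent.H17
open scoped commutatorElement

theorem q_hn : NOk 24 := by decide

theorem q_hk : 24 ≤ 2 ^ 5 := by decide

noncomputable def q_g1 : Net := (Net.cons (nat_lit 1) (nat_lit 0x410140) (Net.cons (nat_lit 2) (nat_lit 0x332200) (Net.cons (nat_lit 4) (nat_lit 197888) (Net.cons (nat_lit 8) (nat_lit 30) (Net.cons (nat_lit 16) (nat_lit 94) (Net.cons (nat_lit 8) (nat_lit 198) (Net.cons (nat_lit 4) (nat_lit 459008) (Net.cons (nat_lit 2) (nat_lit 0x332200) (Net.cons (nat_lit 1) (nat_lit 0x111140) Net.nil)))))))))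

theorem q_g1_ok : Net.ok 24 q_g1 = true := by decide +kernel

noncomputable def q_g2 : Net := (Net.cons (nat_lit 1) (nat_lit 0x154400) (Net.cons (nat_lit 2) (nat_lit 0x211320) (Net.cons (nat_lit 4) (nat_lit 329728) (Net.cons (nat_lit 8) (nat_lit 74) (Net.cons (nat_lit 16) (nat_lit 218) (Net.cons (nat_lit 8) (nat_lit 186) (Net.cons (nat_lit 4) (nat_lit 853512) (Net.cons (nat_lit 2) (nat_lit 0x201300) (Net.cons (nat_lit 1) (nat_lit 17744) Net.nil)))))))))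

theorem q_g2_ok : Net.ok 24 q_g2 = true := by decide +kernel

noncomputable def E3 : List Net := [q_g1, q_g2]

theorem E3_ok : okE 24 E3 = true := (okE_cons.2 ⟨q_g1_ok, (okE_cons.2 ⟨q_g2_ok, (okE_nil 24)⟩)⟩)

noncomputable def q_g3 : Net := (Net.cons (nat_lit 1) (nat_lit 0x111140) (Net.cons (nat_lit 2) (nat_lit 0x332200) (Net.cons (nat_lit 4) (nat_lit 459008) (Net.cons (nat_lit 8) (nat_lit 70) (Net.cons (nat_lit 16) (nat_lit 94) (Net.cons (nat_lit 8) (nat_lit 158) (Net.cons (nat_lit 4) (nat_lit 197888) (Net.cons (nat_lit 2) (nat_lit 0x332200) (Net.cons (nat_lit 1) (nat_lit 0x410140) Net.nil)))))))))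

theorem q_g3_ok : Net.ok 24 q_g3 = true := by decide +kernel

noncomputable def q_V4 : List Net := [q_g3, q_g1]

theorem q_V4_ok : okE 24 q_V4 = true := (okE_cons.2 ⟨q_g3_ok, (okE_cons.2 ⟨q_g1_ok, (okE_nil 24)⟩)⟩)

noncomputable def E3lb_E : List Net := [q_g1, q_g2, q_g3, q_g1]

theorem E3lb_E_ok : okE 24 E3lb_E = true := (okE_cons.2 ⟨q_g1_ok, (okE_cons.2 ⟨q_g2_ok, (okE_cons.2 ⟨q_g3_ok, (okE_cons.2 ⟨q_g1_ok, (okE_nil 24)⟩)⟩)⟩)⟩)

noncomputable def q_g6 : Net := (Net.cons (nat_lit 1) (nat_lit 263232) (Net.cons (nat_lit 2) (nat_lit 0x230300) (Net.cons (nat_lit 4) (nat_lit 327936) (Net.cons (nat_lit 8) (nat_lit 3) (Net.cons (nat_lit 16) (nat_lit 195) (Net.cons (nat_lit 8) (nat_lit 51) (Net.cons (nat_lit 4) (nat_lit 655874) (Net.cons (nat_lit 2) (nat_lit 0x200302) (Net.cons (nat_lit 1) (nat_lit 0x445010) Net.nil)))))))))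

theorem q_g6_ok : Net.ok 24 q_g6 = true := by decide +kernel

noncomputable def q_g7 : Net := (Net.cons (nat_lit 1) (nat_lit 344144) (Net.cons (nat_lit 2) (nat_lit 256) (Net.cons (nat_lit 4) (nat_lit 262144) (Net.cons (nat_lit 8) (nat_lit 1) (Net.cons (nat_lit 16) (nat_lit 65) (Net.cons (nat_lit 8) (nat_lit 1) (Net.cons (nat_lit 4) (nat_lit 264202) (Net.cons (nat_lit 2) (nat_lit 0x100122) (Net.cons (nat_lit 1) (nat_lit 348496) Net.nil)))))))))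

theorem q_g7_ok : Net.ok 24 q_g7 = true := by decide +kernel

noncomputable def q_g8 : Net := (Net.cons (nat_lit 1) (nat_lit 262144) (Net.cons (nat_lit 2) (nat_lit 4128) (Net.cons (nat_lit 4) (nat_lit 196608) (Net.cons (nat_lit 16) (nat_lit 56) (Net.cons (nat_lit 8) (nat_lit 192) (Net.cons (nat_lit 4) (nat_lit 196608) (Net.cons (nat_lit 2) (nat_lit 4128) (Net.cons (nat_lit 1) (nat_lit 0x540100) Net.nil))))))))

theorem q_g8_ok : Net.ok 24 q_g8 = true := by decide +kernel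

noncomputable def U : List Net := [q_g6, q_g7, q_g8, EvM11.p_g24]

theorem U_ok : okE 24 U = true := (okE_cons.2 ⟨q_g6_ok, (okE_cons.2 ⟨q_g7_ok, (okE_cons.2 ⟨q_g8_ok, (okE_cons.2 ⟨EvM11.p_g24_ok, (okE_nil 24)⟩)⟩)⟩)⟩)

noncomputable def q_V9 : List Net := [EvM11.p_g27, q_g6, q_g6]

theorem q_V9_ok : okE 24 q_V9 = true := (okE_cons.2 ⟨EvM11.p_g27_ok, (okE_cons.2 ⟨q_g6_ok, (okE_cons.2 ⟨q_g6_ok, (okE_nil 24)⟩)⟩)⟩)

noncomputable def q_V11 : List Net := [EvM11.p_g24, EvM11.p_g24]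

theorem q_V11_ok : okE 24 q_V11 = true := (okE_cons.2 ⟨EvM11.p_g24_ok, (okE_cons.2 ⟨EvM11.p_g24_ok, (okE_nil 24)⟩)⟩)

noncomputable def Ulb_E : List Net := [q_g6, q_g7, q_g8, EvM11.p_g24, EvM11.p_g27, q_g6, q_g6, EvM11.p_g24, EvM11.p_g24]

theorem Ulb_E_ok : okE 24 Ulb_E = true := (okE_cons.2 ⟨q_g6_ok, (okE_cons.2 ⟨q_g7_ok, (okE_cons.2 ⟨q_g8_ok, (okE_cons.2 ⟨EvM11.p_g24_ok, (okE_cons.2 ⟨EvM11.p_g27_ok, (okE_cons.2 ⟨q_g6_ok, (okE_cons.2 ⟨q_g6_ok, (okE_cons.2 ⟨EvM11.p_g24_ok, (okE_cons.2 ⟨EvM11.p_g24_ok, (okE_nil 24)⟩)⟩)⟩)⟩)⟩)⟩)⟩)⟩)⟩)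

noncomputable def CU : List Net := [EvM11.p_g24]

theorem CU_ok : okE 24 CU = true := (okE_cons.2 ⟨EvM11.p_g24_ok, (okE_nil 24)⟩)

noncomputable def q_V15 : List Net := [EvM11.p_g3, EvM11.p_g4, EvM11.p_g7, EvM11.p_g8, EvM11.p_g11, EvM11.p_g12, EvM11.p_g15, EvM11.p_g15]

theorem q_V15_ok : okE 24 q_V15 = true := (okE_cons.2 ⟨EvM11.p_g3_ok, (okE_cons.2 ⟨EvM11.p_g4_ok, (okE_cons.2 ⟨EvM11.p_g7_ok, (okE_cons.2 ⟨EvM11.p_g8_ok, (okE_cons.2 ⟨EvM11.p_g11_ok, (okE_cons.2 ⟨EvM11.p_g12_ok, (okE_cons.2 ⟨EvM11.p_g15_ok, (okE_cons.2 ⟨EvM11.p_g15_ok, (okE_nil 24)⟩)⟩)⟩)⟩)⟩)⟩)⟩)⟩)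

noncomputable def q_V16 : List Net := [EvM11.p_g7, EvM11.p_g8, EvM11.p_g11, EvM11.p_g12, EvM11.p_g15, EvM11.p_g15]

theorem q_V16_ok : okE 24 q_V16 = true := (okE_cons.2 ⟨EvM11.p_g7_ok, (okE_cons.2 ⟨EvM11.p_g8_ok, (okE_cons.2 ⟨EvM11.p_g11_ok, (okE_cons.2 ⟨EvM11.p_g12_ok, (okE_cons.2 ⟨EvM11.p_g15_ok, (okE_cons.2 ⟨EvM11.p_g15_ok, (okE_nil 24)⟩)⟩)⟩)⟩)⟩)⟩)

noncomputable def q_V17 : List Net := [EvM11.p_g11, EvM11.p_g12, EvM11.p_g15, EvM11.p_g15]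

theorem q_V17_ok : okE 24 q_V17 = true := (okE_cons.2 ⟨EvM11.p_g11_ok, (okE_cons.2 ⟨EvM11.p_g12_ok, (okE_cons.2 ⟨EvM11.p_g15_ok, (okE_cons.2 ⟨EvM11.p_g15_ok, (okE_nil 24)⟩)⟩)⟩)⟩)

noncomputable def q_V18 : List Net := [EvM11.p_g15, EvM11.p_g15]

theorem q_V18_ok : okE 24 q_V18 = true := (okE_cons.2 ⟨EvM11.p_g15_ok, (okE_cons.2 ⟨EvM11.p_g15_ok, (okE_nil 24)⟩)⟩)

noncomputable def q_V19 : List Net := []

theorem q_V19_ok : okE 24 q_V19 = true := (okE_nil 24)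

noncomputable def CU_cnt_EG : List Net := [EvM11.p_g7, EvM11.p_g8, EvM11.p_g11, EvM11.p_g12, EvM11.p_g15, EvM11.p_g3, EvM11.p_g4, EvM11.p_g1, EvM11.p_g2]

theorem CU_cnt_EG_ok : okE 24 CU_cnt_EG = true := (okE_cons.2 ⟨EvM11.p_g7_ok, (okE_cons.2 ⟨EvM11.p_g8_ok, (okE_cons.2 ⟨EvM11.p_g11_ok, (okE_cons.2 ⟨EvM11.p_g12_ok, (okE_cons.2 ⟨EvM11.p_g15_ok, (okE_cons.2 ⟨EvM11.p_g3_ok, (okE_cons.2 ⟨EvM11.p_g4_ok, (okE_cons.2 ⟨EvM11.p_g1_ok, (okE_cons.2 ⟨EvM11.p_g2_ok, (okE_nil 24)⟩)⟩)⟩)⟩)⟩)⟩)⟩)⟩)⟩)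

noncomputable def EZ : List Net := [EvM11.p_g24]

theorem EZ_ok : okE 24 EZ = true := (okE_cons.2 ⟨EvM11.p_g24_ok, (okE_nil 24)⟩)

theorem T_s0 : Stab 24 (grp 24 EvM11.E) [] EvM11.lb_E 7920 :=
  Stab.root' EvM11.lb_E_ok EvM11.eq_lb EvM11.card_G

theorem q_le5 : grp 24 q_V4 ≤ grp 24 E3 :=
  grp_le_of_memB q_hn q_hk E3_ok q_V4_ok (ws := [nat_lit 0x2030202030203, nat_lit 514]) (by decide +kernel)

theorem E3lb_le : grp 24 E3lb_E ≤ grp 24 E3 :=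
  (grp_cons_le ((le_refl (grp 24 E3)) (toPerm_mem_grp (E := E3) (by simp [E3]))) (grp_cons_le ((le_refl (grp 24 E3)) (toPerm_mem_grp (E := E3) (by simp [E3]))) (grp_cons_le ((q_le5.trans (le_refl (grp 24 E3))) (toPerm_mem_grp (E := q_V4) (by simp [q_V4]))) (grp_cons_le ((q_le5.trans (le_refl (grp 24 E3))) (toPerm_mem_grp (E := q_V4) (by simp [q_V4]))) (grp_nil_le _)))))

noncomputable def E3lb_ch : Ch := (Ch.cons (nat_lit 5) [nat_lit 1, nat_lit 3] (Ch.cons (nat_lit 3) [nat_lit 5, nat_lit 7] Ch.nil))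

theorem E3lb_chk : Ch.chk 24 5 (lab 24 5) E3lb_E E3lb_ch 9 = true :=
  by decide +kernel

theorem E3lb_ge : 9 ≤ Nat.card (grp 24 E3) :=
  (Ch.le_card_grp q_hn E3lb_E_ok E3lb_chk).trans (Subgroup.card_le_of_le E3lb_le)

theorem x3_G : Net.toPerm 24 q_g1 ∈ (grp 24 EvM11.E) :=
  EvM11.lb_le (mem_grp_of_memB q_hn q_hk EvM11.lb_E_ok q_g1_ok (w := (nat_lit 0xd0f090d)) (by decide +kernel))

theorem y3_G : Net.toPerm 24 q_g2 ∈ (grp 24 EvM11.E) :=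
  EvM11.lb_le (mem_grp_of_memB q_hn q_hk EvM11.lb_E_ok q_g2_ok (w := (nat_lit 985361)) (by decide +kernel))

theorem x3_ord : orderOf (Net.toPerm 24 q_g1) = 3 :=
  orderOf_net q_hn q_hk q_g1_ok (by decide) (ps := [3]) (by set_option linter.unusedSimpArgs false in simp [Nat.primeFactorsList_ofNat]) (by decide +kernel)

theorem y3_ord : orderOf (Net.toPerm 24 q_g2) = 3 :=
  orderOf_net q_hn q_hk q_g2_ok (by decide) (ps := [3]) (by set_option linter.unusedSimpArgs false in simp [Nat.primeFactorsList_ofNat]) (by decide +kernel)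

theorem rank3 : ¬ PRankLE 3 1 (grp 24 EvM11.E) :=
  EvG.not_rank x3_G y3_G (EvG.comm_net q_hn q_hk (by decide +kernel)) (x3_ord ▸ pow_orderOf_eq_one _) (y3_ord ▸ pow_orderOf_eq_one _)
    (by rw [← EvG.grp_pair]; exact le_trans (by norm_num) E3lb_ge)

theorem U_poly : Ej.Poly 24 U :=
  Ej.poly_of q_hn q_hk U_ok (W := [(nat_lit 4, [nat_lit 6, nat_lit 5, nat_lit 4]), (nat_lit 0, [nat_lit 3, nat_lit 2]), (nat_lit 0, [nat_lit 1]), (nat_lit 0, [])]) (by decide +kernel)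

theorem q_le10 : grp 24 q_V9 ≤ grp 24 U :=
  grp_le_of_memB q_hn q_hk U_ok q_V9_ok (ws := [nat_lit 0x105010302080103070204, nat_lit 0x704020704010804020804, nat_lit 0x20504020302070704]) (by decide +kernel)

theorem q_le12 : grp 24 q_V11 ≤ grp 24 q_V9 :=
  grp_le_of_memB q_hn q_hk q_V9_ok q_V11_ok (ws := [nat_lit 0x1030206, nat_lit 0x401030504050402]) (by decide +kernel)

theorem Ulb_le : grp 24 Ulb_E ≤ grp 24 U :=
  (grp_cons_le ((le_refl (grp 24 U)) (toPerm_mem_grp (E := U) (by simp [U]))) (grp_cons_le ((le_refl (grp 24 U)) (toPerm_mem_grp (E := U) (by simp [U]))) (grp_cons_le ((le_refl (grp 24 U)) (toPerm_mem_grp (E := U) (by simp [U]))) (grp_cons_le ((le_refl (grp 24 U)) (toPerm_mem_grp (E := U) (by simp [U]))) (grp_cons_le ((q_le10.trans (le_refl (grp 24 U))) (toPerm_mem_grp (E := q_V9) (by simp [q_V9]))) (grp_cons_le ((q_le10.trans (le_refl (grp 24 U)))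 (toPerm_mem_grp (E := q_V9) (by simp [q_V9]))) (grp_cons_le ((q_le10.trans (le_refl (grp 24 U))) (toPerm_mem_grp (E := q_V9) (by simp [q_V9]))) (grp_cons_le ((q_le12.trans (q_le10.trans (le_refl (grp 24 U)))) (toPerm_mem_grp (E := q_V11) (by simp [q_V11]))) (grp_cons_le ((q_le12.trans (q_le10.trans (le_refl (grp 24 U)))) (toPerm_mem_grp (E := q_V11) (by simp [q_V11]))) (grp_nil_le _))))))))))

noncomputable def Ulb_ch : Ch := (Ch.cons (nat_lit 8) [nat_lit 1, nat_lit 3, nat_lit 5, nat_lit 7] (Ch.cons (nat_lit 5) [nat_lit 9, nat_lit 11, nat_lit 13] (Ch.cons (nat_lit 1) [nat_lit 15, nat_lit 17] Ch.nil)))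

theorem Ulb_chk : Ch.chk 24 5 (lab 24 5) Ulb_E Ulb_ch 16 = true :=
  by decide +kernel

theorem Ulb_ge : 16 ≤ Nat.card (grp 24 U) :=
  (Ch.le_card_grp q_hn Ulb_E_ok Ulb_chk).trans (Subgroup.card_le_of_le Ulb_le)

theorem U_ge : 2 ^ 4 ≤ Nat.card (grp 24 U) :=
  le_of_eq_of_le (by norm_num) Ulb_ge

theorem q_le13 : grp 24 U ≤ grp 24 EvM11.lb_E :=
  grp_le_of_memB q_hn q_hk EvM11.lb_E_ok U_ok (ws := [nat_lit 0xd0f0910050701, nat_lit 0xd090507010f, nat_lit 0x110d090c, nat_lit 0xd0905110103]) (by decide +kernel)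

theorem U_G : grp 24 U ≤ (grp 24 EvM11.E) :=
  (q_le13).trans EvM11.lb_le

theorem q_le14 : grp 24 CU ≤ grp 24 EvM11.lb_E :=
  grp_le_of_memB q_hn q_hk EvM11.lb_E_ok CU_ok (ws := [nat_lit 0xd0905110103]) (by decide +kernel)

theorem CU_le : grp 24 CU ≤ (grp 24 EvM11.E) :=
  (q_le14.trans T_s0.le)

theorem CU_sym : Sym 24 (grp 24 EvM11.E) U CU 0 :=
  Sym.of_lab q_hn q_hk U_ok CU_ok CU_le (kT := 0) (by decide +kernel)

theorem T_s1 : Stab 24 (grp 24 EvM11.E) [nat_lit 1] q_V15 720 :=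
  Stab.step (k := 5) (L := (lab 24 5)) q_hn T_s0 q_V15_ok (grp_mono (List.subset_append_right [EvM11.p_g1, EvM11.p_g2] _)) (c := (Ch.cons (nat_lit 2) [nat_lit 1, nat_lit 3] (Ch.cons (nat_lit 3) [nat_lit 5, nat_lit 7] (Ch.cons (nat_lit 5) [nat_lit 9, nat_lit 11] (Ch.cons (nat_lit 4) [nat_lit 13, nat_lit 15] Ch.nil))))) (by decide +kernel)

theorem T_s2 : Stab 24 (grp 24 EvM11.E) [nat_lit 2, nat_lit 1] q_V16 72 :=
  Stab.step (k := 5) (L := (lab 24 5)) q_hn T_s1 q_V16_ok (grp_mono (List.subset_append_right [EvM11.p_g3, EvM11.p_g4] _)) (c := (Ch.cons (nat_lit 3) [nat_lit 1, nat_lit 3] (Ch.cons (nat_lit 5) [nat_lit 5, nat_lit 7] (Ch.cons (nat_lit 4) [nat_lit 9, nat_lit 11] Ch.nil)))) (by decide +kernel)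

theorem T_s3 : Stab 24 (grp 24 EvM11.E) [nat_lit 3, nat_lit 2, nat_lit 1] q_V17 8 :=
  Stab.step (k := 5) (L := (lab 24 5)) q_hn T_s2 q_V17_ok (grp_mono (List.subset_append_right [EvM11.p_g7, EvM11.p_g8] _)) (c := (Ch.cons (nat_lit 5) [nat_lit 1, nat_lit 3] (Ch.cons (nat_lit 4) [nat_lit 5, nat_lit 7] Ch.nil))) (by decide +kernel)

theorem T_s4 : Stab 24 (grp 24 EvM11.E) [nat_lit 5, nat_lit 3, nat_lit 2, nat_lit 1] q_V18 2 :=
  Stab.step (k := 5) (L := (lab 24 5)) q_hn T_s3 q_V18_ok (grp_mono (List.subset_append_right [EvM11.p_g11, EvM11.p_g12] _)) (c := (Ch.cons (nat_lit 4) [nat_lit 1, nat_lit 3] Ch.nil)) (by decide +kernel)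

theorem T_s5 : Stab 24 (grp 24 EvM11.E) [nat_lit 4, nat_lit 5, nat_lit 3, nat_lit 2, nat_lit 1] q_V19 1 :=
  Stab.step (k := 5) (L := (lab 24 5)) q_hn T_s4 q_V19_ok (grp_mono (List.subset_append_right [EvM11.p_g15, EvM11.p_g15] _)) (c := Ch.nil) (by decide +kernel)

theorem EvM11.p_g7_T : Net.toPerm 24 EvM11.p_g7 ∈ (grp 24 EvM11.E) :=
  T_s2.le (toPerm_mem_grp (E := q_V16) (List.Mem.head _))

theorem EvM11.p_g8_T : Net.toPerm 24 EvM11.p_g8 ∈ (grp 24 EvM11.E) :=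
  T_s2.le (toPerm_mem_grp (E := q_V16) (List.Mem.tail _ (List.Mem.head _)))

theorem EvM11.p_g11_T : Net.toPerm 24 EvM11.p_g11 ∈ (grp 24 EvM11.E) :=
  T_s2.le (toPerm_mem_grp (E := q_V16) (List.Mem.tail _ (List.Mem.tail _ (List.Mem.head _))))

theorem EvM11.p_g12_T : Net.toPerm 24 EvM11.p_g12 ∈ (grp 24 EvM11.E) :=
  T_s2.le (toPerm_mem_grp (E := q_V16) (List.Mem.tail _ (List.Mem.tail _ (List.Mem.tail _ (List.Mem.head _)))))

theorem EvM11.p_g15_T : Net.toPerm 24 EvM11.p_g15 ∈ (grp 24 EvM11.E) :=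
  T_s2.le (toPerm_mem_grp (E := q_V16) (List.Mem.tail _ (List.Mem.tail _ (List.Mem.tail _ (List.Mem.tail _ (List.Mem.head _))))))

theorem EvM11.p_g3_T : Net.toPerm 24 EvM11.p_g3 ∈ (grp 24 EvM11.E) :=
  T_s1.le (toPerm_mem_grp (E := q_V15) (List.Mem.head _))

theorem EvM11.p_g4_T : Net.toPerm 24 EvM11.p_g4 ∈ (grp 24 EvM11.E) :=
  T_s1.le (toPerm_mem_grp (E := q_V15) (List.Mem.tail _ (List.Mem.head _)))

theorem EvM11.p_g1_T : Net.toPerm 24 EvM11.p_g1 ∈ (grp 24 EvM11.E) :=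
  T_s0.le (toPerm_mem_grp (E := EvM11.lb_E) (List.Mem.head _))

theorem EvM11.p_g2_T : Net.toPerm 24 EvM11.p_g2 ∈ (grp 24 EvM11.E) :=
  T_s0.le (toPerm_mem_grp (E := EvM11.lb_E) (List.Mem.tail _ (List.Mem.head _)))

noncomputable def T_s5_O : ℕ := (nat_lit 0x933332e0f83ec67318b26d92000002000004000008000020000010)

theorem T_s5_F : Frame 24 (grp 24 EvM11.E) 5 9 T_s5_O 1 1 :=
  IsBase.frame T_s5.isBase (by decide +kernel)

noncomputable def T_s3_O : ℕ := (nat_lit 0x1824020788c80000002000004000008)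

theorem T_s3_F : Frame 24 (grp 24 EvM11.E) 3 6 T_s3_O 0 1 :=
  Stab.frame q_hn T_s3 (by decide +kernel)

noncomputable def T_s0_O : ℕ := (nat_lit 0x105335e)

theorem T_s0_F : Frame 24 (grp 24 EvM11.E) 0 2 T_s0_O 0 1 :=
  Stab.frame q_hn T_s0 (by decide +kernel)

noncomputable def CU_cnt_L : List ℕ := [0, 2, T_s0_O, 0, 0, 3, 6, T_s3_O, 0, 0, 5, 9, T_s5_O, 1, 0]

theorem CU_cnt_P : Prob 24 5 (grp 24 EvM11.E) CU_cnt_EG U U CU CU_cnt_L 0 0 :=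
  Sym.prob q_hn q_hk CU_sym CU_cnt_EG_ok (grp_cons_le EvM11.p_g7_T (grp_cons_le EvM11.p_g8_T (grp_cons_le EvM11.p_g11_T (grp_cons_le EvM11.p_g12_T (grp_cons_le EvM11.p_g15_T (grp_cons_le EvM11.p_g3_T (grp_cons_le EvM11.p_g4_T (grp_cons_le EvM11.p_g1_T (grp_cons_le EvM11.p_g2_T (grp_nil_le _)))))))))) (Frames.cons T_s0_F (Frames.cons T_s3_F (Frames.cons T_s5_F Frames.nil))) U_ok _

noncomputable def CU_cnt_t : BT := (BT.frm (nat_lit 0) (nat_lit 0) (nat_lit 0) [] (BT.pln (nat_lit 0) (nat_lit 0) (BT.fix (nat_lit 5) (BT.and (nat_lit 1) (nat_lit 0) (BT.fix (nat_lit 1) (BT.dif (nat_lit 1) (nat_lit 0) (BT.br (nat_lit 0) (nat_lit 13) [nat_lit 1] (BT.kid (nat_lit 13) (nat_lit 1) (BT.fix (nat_lit 3) (BT.and (nat_lit 6) (nat_lit 0) (BT.dif (nat_lit 0) (nat_lit 4) (BT.img (nat_lit 1) (nat_lit 0) (BT.and (nat_lit 9) (nat_lit 0) (BT.img (nat_lit 3) (nat_lit 5) (BT.dif (nat_lit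 1) (nat_lit 0) (BT.dif (nat_lit 16) (nat_lit 12) (BT.and (nat_lit 0) (nat_lit 12) (BT.img (nat_lit 1) (nat_lit 9) (BT.and (nat_lit 15) (nat_lit 12) (BT.and (nat_lit 0) (nat_lit 10) (BT.frm (nat_lit 1) (nat_lit 0xb0d100b) (nat_lit 0xb0d100b) [nat_lit 2, nat_lit 12, nat_lit 0] (BT.pln (nat_lit 0) (nat_lit 4) (BT.and (nat_lit 5) (nat_lit 0) (BT.one (nat_lit 2) (nat_lit 0xb0d100b) (nat_lit 0xb0d100b) [nat_lit 8, nat_lit 0, nat_lit 5, nat_lit 15, nat_lit 3])))))))))))))))) BT.nil))))))))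

theorem CU_cnt : Cnt 24 (grp 24 EvM11.E) U U 0 0 0 0 2 :=
  BT.sound CU_cnt_P Known.nil (t := CU_cnt_t) (d := 0) (by decide +kernel)

theorem CU_ge : 2 ≤ Nat.card (grp 24 CU) :=
  Ch.le_card_grp (k := 5) (L := (lab 24 5)) q_hn CU_ok (c := (Ch.cons (nat_lit 13) [nat_lit 1] Ch.nil)) (by decide +kernel)

theorem CU_eq : (grp 24 EvM11.E) ⊓ Subgroup.centralizer (grp 24 U : Set (Equiv.Perm (Fin 24))) = grp 24 CU :=
  cent_grp_eq CU_sym CU_cnt CU_ge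

theorem CU_card : Nat.card (grp 24 CU) = 2 :=
  (CU_sym.mem_iff CU_cnt CU_ge).1

theorem CU_z : grp 24 CU ≤ grp 24 EZ :=
  grp_le_of_memB q_hn q_hk EZ_ok CU_ok (ws := [nat_lit 1]) (by decide +kernel)

theorem bx : Ej.Bx (grp 24 EvM11.E) (grp 24 EvM11.E) (Net.toPerm 24 EvM11.p_g24) (grp 24 U) :=
  ⟨by rw [EvM11.card_G]; norm_num,
    Ej.syl_of_card U_G (a := 4) (m := 495) (U_poly.card_eq rfl U_ge) (by rw [EvM11.card_G]; norm_num) (by norm_num),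
    Ej.ord2 q_hn q_hk (by decide +kernel), (toPerm_mem_grp (E := U) (List.Mem.tail _ (List.Mem.tail _ (List.Mem.tail _ (List.Mem.head _))))),
    fun _ hx => H62.TE.mem_c1.1 (EvG.le_cent q_hn q_hk (by decide +kernel) hx),
    fun _ hσ h => EvG.mem_single q_hn q_hk (by decide +kernel) (CU_z (CU_eq.le ⟨hσ, fun x hx => (h x hx).symm⟩)),
    ⟨_, (toPerm_mem_grp (E := U) (List.Mem.tail _ (List.Mem.head _))), _, (toPerm_mem_grp (E := U) (List.Mem.head _)), EvG.ncomm_net (k := 5) q_hn (by decide +kernel)⟩, rank3⟩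

universe u

open Cfsg.Agent.H62.EJ

theorem kM11 : KM11.{u} := fun _ _ _ _ _ ⟨e⟩ =>
  have h := Ej.em_of EvM11.amb (e.trans EvM11.equiv)
  bx.kg h (.inl (bx.allTC h fun x hx h2 => by
    obtain ⟨t, rfl, e⟩ := EvM11.reps x hx h2
    exact e))

end Cfsg.Agent.H55.EjM11
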