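import Mathlib
import Cfsg.Agent.H43.Cent
import Cfsg.Agent.H55.EjB
import Cfsg.Agent.H17.EvM12

set_option autoImplicit false
set_option maxRecDepth 200000
set_option linter.style.longLine false

namespace Cfsg.Agent.H55.EjM12

open Cfsg.Agent.H43 Cfsg.Agent.H17
open scoped commutatorElement

theorem q_hn : NOk 24 := by decide

theorem q_hk : 24 ≤ 2 ^ 5 := by decide

noncomputable def q_g1 : Net := (Net.cons (nat_lit 1) (nat_lit 0x451000) (Net.cons (nat_lit 2) (nat_lit 0x222000) (Net.cons (nat_lit 4) (nat_lit 2048) (Net.cons (nat_lit 8) (nat_lit 8) (Net.cons (nat_lit 16) (nat_lit 42) (Net.cons (nat_lit 8) (nat_lit 136) (Net.cons (nat_lit 4) (nat_lit 3072) (Net.cons (nat_lit 2) (nat_lit 0x232000) (Net.cons (nat_lit 1) (nat_lit 0x451104) Net.nil)))))))))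

theorem q_g1_ok : Net.ok 24 q_g1 = true := by decide +kernel

noncomputable def q_g2 : Net := (Net.cons (nat_lit 1) (nat_lit 0x441140) (Net.cons (nat_lit 2) (nat_lit 0x200200) (Net.cons (nat_lit 4) (nat_lit 264192) (Net.cons (nat_lit 8) (nat_lit 4) (Net.cons (nat_lit 16) (nat_lit 100) (Net.cons (nat_lit 8) (nat_lit 149) (Net.cons (nat_lit 4) (nat_lit 264449) (Net.cons (nat_lit 2) (nat_lit 0x200202) (Net.cons (nat_lit 1) (nat_lit 0x445140) Net.nil)))))))))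

theorem q_g2_ok : Net.ok 24 q_g2 = true := by decide +kernel

noncomputable def q_g3 : Net := (Net.cons (nat_lit 1) (nat_lit 0x110000) (Net.cons (nat_lit 2) (nat_lit 0x213300) (Net.cons (nat_lit 4) (nat_lit 134144) (Net.cons (nat_lit 8) (nat_lit 18) (Net.cons (nat_lit 16) (nat_lit 18) (Net.cons (nat_lit 8) (nat_lit 30) (Net.cons (nat_lit 4) (nat_lit 921344) (Net.cons (nat_lit 2) (nat_lit 0x123330) (Net.cons (nat_lit 1) (nat_lit 0x444501) Net.nil)))))))))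

theorem q_g3_ok : Net.ok 24 q_g3 = true := by decide +kernel

noncomputable def q_g4 : Net := (Net.cons (nat_lit 1) (nat_lit 278592) (Net.cons (nat_lit 2) (nat_lit 512) (Net.cons (nat_lit 4) (nat_lit 788736) (Net.cons (nat_lit 8) (nat_lit 9) (Net.cons (nat_lit 16) (nat_lit 73) (Net.cons (nat_lit 8) (nat_lit 153) (Net.cons (nat_lit 4) (nat_lit 789760) (Net.cons (nat_lit 2) (nat_lit 514) (Net.cons (nat_lit 1) (nat_lit 0x144040) Net.nil)))))))))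

theorem q_g4_ok : Net.ok 24 q_g4 = true := by decide +kernel

noncomputable def q_g5 : Net := (Net.cons (nat_lit 1) (nat_lit 65600) (Net.cons (nat_lit 2) (nat_lit 0x332000) (Net.cons (nat_lit 4) (nat_lit 2816) (Net.cons (nat_lit 8) (nat_lit 64) (Net.cons (nat_lit 16) (nat_lit 105) (Net.cons (nat_lit 8) (nat_lit 176) (Net.cons (nat_lit 4) (nat_lit 3328) (Net.cons (nat_lit 2) (nat_lit 8723) (Net.cons (nat_lit 1) (nat_lit 0x545515) Net.nil)))))))))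

theorem q_g5_ok : Net.ok 24 q_g5 = true := by decide +kernel

noncomputable def U : List Net := [q_g1, q_g2, q_g3, q_g4, q_g5, EvM12.p_g90]

theorem U_ok : okE 24 U = true := (okE_cons.2 ⟨q_g1_ok, (okE_cons.2 ⟨q_g2_ok, (okE_cons.2 ⟨q_g3_ok, (okE_cons.2 ⟨q_g4_ok, (okE_cons.2 ⟨q_g5_ok, (okE_cons.2 ⟨EvM12.p_g90_ok, (okE_nil 24)⟩)⟩)⟩)⟩)⟩)⟩)

noncomputable def q_g6 : Net := (Net.cons (nat_lit 1) (nat_lit 0x110400) (Net.cons (nat_lit 2) (nat_lit 65536) (Net.cons (nat_lit 4) (nat_lit 768) (Net.cons (nat_lit 8) (nat_lit 134) (Net.cons (nat_lit 16) (nat_lit 166) (Net.cons (nat_lit 8) (nat_lit 135) (Net.cons (nat_lit 4) (nat_lit 768) (Net.cons (nat_lit 2) (nat_lit 0x110002) (Net.cons (nat_lit 1) (nat_lit 0x110500) Net.nil)))))))))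

theorem q_g6_ok : Net.ok 24 q_g6 = true := by decide +kernel

noncomputable def q_V7 : List Net := [EvM12.p_g174, q_g6]

theorem q_V7_ok : okE 24 q_V7 = true := (okE_cons.2 ⟨EvM12.p_g174_ok, (okE_cons.2 ⟨q_g6_ok, (okE_nil 24)⟩)⟩)

noncomputable def q_g9 : Net := (Net.cons (nat_lit 1) (nat_lit 0x111000) (Net.cons (nat_lit 2) (nat_lit 65536) (Net.cons (nat_lit 4) (nat_lit 2304) (Net.cons (nat_lit 8) (nat_lit 9) (Net.cons (nat_lit 16) (nat_lit 171) (Net.cons (nat_lit 8) (nat_lit 136) (Net.cons (nat_lit 4) (nat_lit 525568) (Net.cons (nat_lit 2) (nat_lit 0x120001) (Net.cons (nat_lit 1) (nat_lit 262149) Net.nil)))))))))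

theorem q_g9_ok : Net.ok 24 q_g9 = true := by decide +kernel

noncomputable def q_V10 : List Net := [q_g9, EvM12.p_g123, EvM12.p_g174]

theorem q_V10_ok : okE 24 q_V10 = true := (okE_cons.2 ⟨q_g9_ok, (okE_cons.2 ⟨EvM12.p_g123_ok, (okE_cons.2 ⟨EvM12.p_g174_ok, (okE_nil 24)⟩)⟩)⟩)

noncomputable def q_V12 : List Net := [EvM12.p_g90, EvM12.p_g90]

theorem q_V12_ok : okE 24 q_V12 = true := (okE_cons.2 ⟨EvM12.p_g90_ok, (okE_cons.2 ⟨EvM12.p_g90_ok, (okE_nil 24)⟩)⟩)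

noncomputable def Ulb_E : List Net := [q_g1, q_g2, q_g3, q_g4, q_g5, EvM12.p_g90, EvM12.p_g174, q_g6, q_g9, EvM12.p_g123, EvM12.p_g174, EvM12.p_g90, EvM12.p_g90]

theorem Ulb_E_ok : okE 24 Ulb_E = true := (okE_cons.2 ⟨q_g1_ok, (okE_cons.2 ⟨q_g2_ok, (okE_cons.2 ⟨q_g3_ok, (okE_cons.2 ⟨q_g4_ok, (okE_cons.2 ⟨q_g5_ok, (okE_cons.2 ⟨EvM12.p_g90_ok, (okE_cons.2 ⟨EvM12.p_g174_ok, (okE_cons.2 ⟨q_g6_ok, (okE_cons.2 ⟨q_g9_ok, (okE_cons.2 ⟨EvM12.p_g123_ok, (okE_cons.2 ⟨EvM12.p_g174_ok, (okE_cons.2 ⟨EvM12.p_g90_ok, (okE_cons.2 ⟨EvM12.p_g90_ok, (okE_nil 24)⟩)⟩)⟩)⟩)⟩)⟩)⟩)⟩)⟩)⟩)⟩)⟩)⟩)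

noncomputable def CU : List Net := [EvM12.p_g90]

theorem CU_ok : okE 24 CU = true := (okE_cons.2 ⟨EvM12.p_g90_ok, (okE_nil 24)⟩)

noncomputable def q_V16 : List Net := [EvM12.p_g29, EvM12.p_g25, EvM12.p_g26, EvM12.p_g36, EvM12.p_g32, EvM12.p_g33, EvM12.p_g43, EvM12.p_g40, EvM12.p_g47, EvM12.p_g46, EvM12.p_g39]

theorem q_V16_ok : okE 24 q_V16 = true := (okE_cons.2 ⟨EvM12.p_g29_ok, (okE_cons.2 ⟨EvM12.p_g25_ok, (okE_cons.2 ⟨EvM12.p_g26_ok, (okE_cons.2 ⟨EvM12.p_g36_ok, (okE_cons.2 ⟨EvM12.p_g32_ok, (okE_cons.2 ⟨EvM12.p_g33_ok, (okE_cons.2 ⟨EvM12.p_g43_ok, (okE_cons.2 ⟨EvM12.p_g40_ok, (okE_cons.2 ⟨EvM12.p_g47_ok, (okE_cons.2 ⟨EvM12.p_g46_ok, (okE_cons.2 ⟨EvM12.p_g39_ok, (okE_nil 24)⟩)⟩)⟩)⟩)⟩)⟩)⟩)⟩)⟩)⟩)⟩)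

noncomputable def q_g17 : Net := (Net.cons (nat_lit 1) (nat_lit 20496) (Net.cons (nat_lit 2) (nat_lit 0x211000) (Net.cons (nat_lit 8) (nat_lit 140) (Net.cons (nat_lit 16) (nat_lit 220) (Net.cons (nat_lit 8) (nat_lit 72) (Net.cons (nat_lit 4) (nat_lit 264454) (Net.cons (nat_lit 2) (nat_lit 196912) (Net.cons (nat_lit 1) (nat_lit 0x500440) Net.nil))))))))

theorem q_g17_ok : Net.ok 24 q_g17 = true := by decide +kernel

noncomputable def q_g18 : Net := (Net.cons (nat_lit 1) (nat_lit 0x500140) (Net.cons (nat_lit 2) (nat_lit 0x200100) (Net.cons (nat_lit 4) (nat_lit 134656) (Net.cons (nat_lit 8) (nat_lit 145) (Net.cons (nat_lit 16) (nat_lit 241) (Net.cons (nat_lit 8) (nat_lit 97) (Net.cons (nat_lit 4) (nat_lit 590850) (Net.cons (nat_lit 2) (nat_lit 0x122030) (Net.cons (nat_lit 1) (nat_lit 0x404140) Net.nil)))))))))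

theorem q_g18_ok : Net.ok 24 q_g18 = true := by decide +kernel

noncomputable def q_g19 : Net := (Net.cons (nat_lit 1) (nat_lit 0x150140) (Net.cons (nat_lit 2) (nat_lit 0x110300) (Net.cons (nat_lit 4) (nat_lit 394240) (Net.cons (nat_lit 8) (nat_lit 39) (Net.cons (nat_lit 16) (nat_lit 103) (Net.cons (nat_lit 8) (nat_lit 151) (Net.cons (nat_lit 4) (nat_lit 396290) (Net.cons (nat_lit 2) (nat_lit 0x112310) (Net.cons (nat_lit 1) (nat_lit 0x451010) Net.nil)))))))))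

theorem q_g19_ok : Net.ok 24 q_g19 = true := by decide +kernel

noncomputable def q_V20 : List Net := [EvM12.p_g47, q_g17, q_g18, q_g19]

theorem q_V20_ok : okE 24 q_V20 = true := (okE_cons.2 ⟨EvM12.p_g47_ok, (okE_cons.2 ⟨q_g17_ok, (okE_cons.2 ⟨q_g18_ok, (okE_cons.2 ⟨q_g19_ok, (okE_nil 24)⟩)⟩)⟩)⟩)

noncomputable def q_V22 : List Net := [q_g17, q_g18, q_g19]

theorem q_V22_ok : okE 24 q_V22 = true := (okE_cons.2 ⟨q_g17_ok, (okE_cons.2 ⟨q_g18_ok, (okE_cons.2 ⟨q_g19_ok, (okE_nil 24)⟩)⟩)⟩)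

noncomputable def q_V23 : List Net := [q_g18, q_g19]

theorem q_V23_ok : okE 24 q_V23 = true := (okE_cons.2 ⟨q_g18_ok, (okE_cons.2 ⟨q_g19_ok, (okE_nil 24)⟩)⟩)

noncomputable def q_V24 : List Net := []

theorem q_V24_ok : okE 24 q_V24 = true := (okE_nil 24)

noncomputable def CU_cnt_EG : List Net := [q_g18, q_g19, q_g17, EvM12.p_g47, EvM12.p_g29, EvM12.p_g25, EvM12.p_g26, EvM12.p_g36, EvM12.p_g32, EvM12.p_g33, EvM12.p_g43, EvM12.p_g40, EvM12.p_g46, EvM12.p_g39, EvM12.p_g22, EvM12.p_g1, EvM12.p_g2]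

theorem CU_cnt_EG_ok : okE 24 CU_cnt_EG = true := (okE_cons.2 ⟨q_g18_ok, (okE_cons.2 ⟨q_g19_ok, (okE_cons.2 ⟨q_g17_ok, (okE_cons.2 ⟨EvM12.p_g47_ok, (okE_cons.2 ⟨EvM12.p_g29_ok, (okE_cons.2 ⟨EvM12.p_g25_ok, (okE_cons.2 ⟨EvM12.p_g26_ok, (okE_cons.2 ⟨EvM12.p_g36_ok, (okE_cons.2 ⟨EvM12.p_g32_ok, (okE_cons.2 ⟨EvM12.p_g33_ok, (okE_cons.2 ⟨EvM12.p_g43_ok, (okE_cons.2 ⟨EvM12.p_g40_ok, (okE_cons.2 ⟨EvM12.p_g46_ok, (okE_cons.2 ⟨EvM12.p_g39_ok, (okE_cons.2 ⟨EvM12.p_g22_ok, (okE_cons.2 ⟨EvM12.p_g1_ok, (okE_cons.2 ⟨EvM12.p_g2_ok, (okE_nil 24)⟩)⟩)⟩)⟩)⟩)⟩)⟩)⟩)⟩)⟩)⟩)⟩)⟩)⟩)⟩)⟩)⟩)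

noncomputable def EZ : List Net := [EvM12.p_g90]

theorem EZ_ok : okE 24 EZ = true := (okE_cons.2 ⟨EvM12.p_g90_ok, (okE_nil 24)⟩)

noncomputable def q_g25 : Net := (Net.cons (nat_lit 2) (nat_lit 512) (Net.cons (nat_lit 4) (nat_lit 526336) (Net.cons (nat_lit 8) (nat_lit 10) (Net.cons (nat_lit 16) (nat_lit 142) (Net.cons (nat_lit 8) (nat_lit 10) (Net.cons (nat_lit 4) (nat_lit 527360) (Net.cons (nat_lit 2) (nat_lit 530) (Net.cons (nat_lit 1) (nat_lit 256) Net.nil))))))))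

theorem q_g25_ok : Net.ok 24 q_g25 = true := by decide +kernel

noncomputable def q_g26 : Net := (Net.cons (nat_lit 1) (nat_lit 0x550104) (Net.cons (nat_lit 2) (nat_lit 131360) (Net.cons (nat_lit 4) (nat_lit 918016) (Net.cons (nat_lit 8) (nat_lit 145) (Net.cons (nat_lit 16) (nat_lit 241) (Net.cons (nat_lit 8) (nat_lit 71) (Net.cons (nat_lit 4) (nat_lit 329736) (Net.cons (nat_lit 2) (nat_lit 0x330111) (Net.cons (nat_lit 1) (nat_lit 0x104154) Net.nil)))))))))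

theorem q_g26_ok : Net.ok 24 q_g26 = true := by decide +kernel

noncomputable def q_g27 : Net := (Net.cons (nat_lit 1) (nat_lit 0x405004) (Net.cons (nat_lit 2) (nat_lit 0x301110) (Net.cons (nat_lit 4) (nat_lit 67584) (Net.cons (nat_lit 8) (nat_lit 1) (Net.cons (nat_lit 16) (nat_lit 5) (Net.cons (nat_lit 8) (nat_lit 197) (Net.cons (nat_lit 4) (nat_lit 199940) (Net.cons (nat_lit 2) (nat_lit 0x321122) (Net.cons (nat_lit 1) (nat_lit 0x405005) Net.nil)))))))))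

theorem q_g27_ok : Net.ok 24 q_g27 = true := by decide +kernel

noncomputable def q_g28 : Net := (Net.cons (nat_lit 1) (nat_lit 327936) (Net.cons (nat_lit 2) (nat_lit 0x122010) (Net.cons (nat_lit 4) (nat_lit 2048) (Net.cons (nat_lit 8) (nat_lit 8) (Net.cons (nat_lit 16) (nat_lit 40) (Net.cons (nat_lit 8) (nat_lit 17) (Net.cons (nat_lit 4) (nat_lit 265473) (Net.cons (nat_lit 2) (nat_lit 139296) (Net.cons (nat_lit 1) (nat_lit 344321) Net.nil)))))))))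

theorem q_g28_ok : Net.ok 24 q_g28 = true := by decide +kernel

noncomputable def q_g29 : Net := (Net.cons (nat_lit 1) (nat_lit 0x514100) (Net.cons (nat_lit 2) (nat_lit 0x311110) (Net.cons (nat_lit 8) (nat_lit 24) (Net.cons (nat_lit 16) (nat_lit 154) (Net.cons (nat_lit 8) (nat_lit 92) (Net.cons (nat_lit 4) (nat_lit 787716) (Net.cons (nat_lit 2) (nat_lit 0x321100) (Net.cons (nat_lit 1) (nat_lit 0x444104) Net.nil))))))))

theorem q_g29_ok : Net.ok 24 q_g29 = true := by decide +kernel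

noncomputable def EX : List Net := [q_g27, q_g28, q_g29]

theorem EX_ok : okE 24 EX = true := (okE_cons.2 ⟨q_g27_ok, (okE_cons.2 ⟨q_g28_ok, (okE_cons.2 ⟨q_g29_ok, (okE_nil 24)⟩)⟩)⟩)

noncomputable def q_g30 : Net := (Net.cons (nat_lit 1) (nat_lit 86272) (Net.cons (nat_lit 2) (nat_lit 70400) (Net.cons (nat_lit 4) (nat_lit 526848) (Net.cons (nat_lit 8) (nat_lit 10) (Net.cons (nat_lit 16) (nat_lit 139) (Net.cons (nat_lit 8) (nat_lit 110) (Net.cons (nat_lit 4) (nat_lit 790020) (Net.cons (nat_lit 2) (nat_lit 70400) (Net.cons (nat_lit 1) (nat_lit 86272) Net.nil)))))))))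

theorem q_g30_ok : Net.ok 24 q_g30 = true := by decide +kernel

noncomputable def KZ : List Net := [q_g27, q_g28, q_g29, q_g30]

theorem KZ_ok : okE 24 KZ = true := (okE_cons.2 ⟨q_g27_ok, (okE_cons.2 ⟨q_g28_ok, (okE_cons.2 ⟨q_g29_ok, (okE_cons.2 ⟨q_g30_ok, (okE_nil 24)⟩)⟩)⟩)⟩)

noncomputable def q_g31 : Net := (Net.cons (nat_lit 1) (nat_lit 282640) (Net.cons (nat_lit 2) (nat_lit 131072) (Net.cons (nat_lit 4) (nat_lit 265984) (Net.cons (nat_lit 8) (nat_lit 67) (Net.cons (nat_lit 16) (nat_lit 195) (Net.cons (nat_lit 8) (nat_lit 145) (Net.cons (nat_lit 4) (nat_lit 1792) (Net.cons (nat_lit 2) (nat_lit 65811) (Net.cons (nat_lit 1) (nat_lit 0x514511) Net.nil)))))))))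

theorem q_g31_ok : Net.ok 24 q_g31 = true := by decide +kernel

noncomputable def q_g32 : Net := (Net.cons (nat_lit 1) (nat_lit 0x415040) (Net.cons (nat_lit 2) (nat_lit 0x120020) (Net.cons (nat_lit 16) (nat_lit 204) (Net.cons (nat_lit 8) (nat_lit 34) (Net.cons (nat_lit 4) (nat_lit 132610) (Net.cons (nat_lit 2) (nat_lit 0x120020) (Net.cons (nat_lit 1) (nat_lit 0x415040) Net.nil)))))))

theorem q_g32_ok : Net.ok 24 q_g32 = true := by decide +kernel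

noncomputable def q_V33 : List Net := [q_g31, q_g32]

theorem q_V33_ok : okE 24 q_V33 = true := (okE_cons.2 ⟨q_g31_ok, (okE_cons.2 ⟨q_g32_ok, (okE_nil 24)⟩)⟩)

noncomputable def q_g35 : Net := (Net.cons (nat_lit 4) (nat_lit 526336) (Net.cons (nat_lit 8) (nat_lit 8) (Net.cons (nat_lit 16) (nat_lit 173) (Net.cons (nat_lit 8) (nat_lit 8) (Net.cons (nat_lit 4) (nat_lit 526336) (Net.cons (nat_lit 2) (nat_lit 0x100000) (Net.cons (nat_lit 1) (nat_lit 4352) Net.nil)))))))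

theorem q_g35_ok : Net.ok 24 q_g35 = true := by decide +kernel

noncomputable def q_V36 : List Net := [q_g35, EvM12.p_g123]

theorem q_V36_ok : okE 24 q_V36 = true := (okE_cons.2 ⟨q_g35_ok, (okE_cons.2 ⟨EvM12.p_g123_ok, (okE_nil 24)⟩)⟩)

noncomputable def q_g38 : Net := (Net.cons (nat_lit 1) (nat_lit 0x110000) (Net.cons (nat_lit 2) (nat_lit 0x301200) (Net.cons (nat_lit 4) (nat_lit 525824) (Net.cons (nat_lit 8) (nat_lit 96) (Net.cons (nat_lit 16) (nat_lit 228) (Net.cons (nat_lit 8) (nat_lit 102) (Net.cons (nat_lit 4) (nat_lit 67072) (Net.cons (nat_lit 2) (nat_lit 201250) (Net.cons (nat_lit 1) (nat_lit 0x544401) Net.nil)))))))))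

theorem q_g38_ok : Net.ok 24 q_g38 = true := by decide +kernel

noncomputable def q_V39 : List Net := [q_g38, EvM12.p_g169]

theorem q_V39_ok : okE 24 q_V39 = true := (okE_cons.2 ⟨q_g38_ok, (okE_cons.2 ⟨EvM12.p_g169_ok, (okE_nil 24)⟩)⟩)

noncomputable def q_V41 : List Net := [EvM12.p_g90, EvM12.p_g90]

theorem q_V41_ok : okE 24 q_V41 = true := (okE_cons.2 ⟨EvM12.p_g90_ok, (okE_cons.2 ⟨EvM12.p_g90_ok, (okE_nil 24)⟩)⟩)

noncomputable def KZlb_E : List Net := [q_g27, q_g28, q_g29, q_g30, q_g31, q_g32, q_g35, EvM12.p_g123, q_g38, EvM12.p_g169, EvM12.p_g90, EvM12.p_g90]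

theorem KZlb_E_ok : okE 24 KZlb_E = true := (okE_cons.2 ⟨q_g27_ok, (okE_cons.2 ⟨q_g28_ok, (okE_cons.2 ⟨q_g29_ok, (okE_cons.2 ⟨q_g30_ok, (okE_cons.2 ⟨q_g31_ok, (okE_cons.2 ⟨q_g32_ok, (okE_cons.2 ⟨q_g35_ok, (okE_cons.2 ⟨EvM12.p_g123_ok, (okE_cons.2 ⟨q_g38_ok, (okE_cons.2 ⟨EvM12.p_g169_ok, (okE_cons.2 ⟨EvM12.p_g90_ok, (okE_cons.2 ⟨EvM12.p_g90_ok, (okE_nil 24)⟩)⟩)⟩)⟩)⟩)⟩)⟩)⟩)⟩)⟩)⟩)⟩)

noncomputable def q_V43 : List Net := [EvM12.p_g169, q_g31]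

theorem q_V43_ok : okE 24 q_V43 = true := (okE_cons.2 ⟨EvM12.p_g169_ok, (okE_cons.2 ⟨q_g31_ok, (okE_nil 24)⟩)⟩)

noncomputable def q_g45 : Net := (Net.cons (nat_lit 1) (nat_lit 0x515450) (Net.cons (nat_lit 2) (nat_lit 0x230210) (Net.cons (nat_lit 4) (nat_lit 200192) (Net.cons (nat_lit 8) (nat_lit 8) (Net.cons (nat_lit 16) (nat_lit 91) (Net.cons (nat_lit 8) (nat_lit 82) (Net.cons (nat_lit 4) (nat_lit 788481) (Net.cons (nat_lit 2) (nat_lit 74257) (Net.cons (nat_lit 1) (nat_lit 69712) Net.nil)))))))))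

theorem q_g45_ok : Net.ok 24 q_g45 = true := by decide +kernel

noncomputable def q_V46 : List Net := [EvM12.p_g169, q_g45]

theorem q_V46_ok : okE 24 q_V46 = true := (okE_cons.2 ⟨EvM12.p_g169_ok, (okE_cons.2 ⟨q_g45_ok, (okE_nil 24)⟩)⟩)

noncomputable def q_V48 : List Net := [EvM12.p_g90, EvM12.p_g90]

theorem q_V48_ok : okE 24 q_V48 = true := (okE_cons.2 ⟨EvM12.p_g90_ok, (okE_cons.2 ⟨EvM12.p_g90_ok, (okE_nil 24)⟩)⟩)

noncomputable def EXlb_E : List Net := [q_g27, q_g28, q_g29, EvM12.p_g169, q_g31, EvM12.p_g169, q_g45, EvM12.p_g90, EvM12.p_g90]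

theorem EXlb_E_ok : okE 24 EXlb_E = true := (okE_cons.2 ⟨q_g27_ok, (okE_cons.2 ⟨q_g28_ok, (okE_cons.2 ⟨q_g29_ok, (okE_cons.2 ⟨EvM12.p_g169_ok, (okE_cons.2 ⟨q_g31_ok, (okE_cons.2 ⟨EvM12.p_g169_ok, (okE_cons.2 ⟨q_g45_ok, (okE_cons.2 ⟨EvM12.p_g90_ok, (okE_cons.2 ⟨EvM12.p_g90_ok, (okE_nil 24)⟩)⟩)⟩)⟩)⟩)⟩)⟩)⟩)⟩)

noncomputable def q_g51 : Net := (Net.cons (nat_lit 1) (nat_lit 0x454050) (Net.cons (nat_lit 2) (nat_lit 0x203000) (Net.cons (nat_lit 4) (nat_lit 983552) (Net.cons (nat_lit 8) (nat_lit 44) (Net.cons (nat_lit 16) (nat_lit 124) (Net.cons (nat_lit 8) (nat_lit 217) (Net.cons (nat_lit 4) (nat_lit 658438) (Net.cons (nat_lit 2) (nat_lit 0x321203) (Net.cons (nat_lit 1) (nat_lit 0x151454) Net.nil)))))))))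

theorem q_g51_ok : Net.ok 24 q_g51 = true := by decide +kernel

noncomputable def q_g52 : Net := (Net.cons (nat_lit 1) (nat_lit 0x514440) (Net.cons (nat_lit 2) (nat_lit 0x102100) (Net.cons (nat_lit 4) (nat_lit 66816) (Net.cons (nat_lit 8) (nat_lit 193) (Net.cons (nat_lit 16) (nat_lit 201) (Net.cons (nat_lit 8) (nat_lit 93) (Net.cons (nat_lit 4) (nat_lit 723471) (Net.cons (nat_lit 2) (nat_lit 77841) (Net.cons (nat_lit 1) (nat_lit 0x514440) Net.nil)))))))))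

theorem q_g52_ok : Net.ok 24 q_g52 = true := by decide +kernel

noncomputable def UA : List Net := [q_g1]

theorem UA_ok : okE 24 UA = true := (okE_cons.2 ⟨q_g1_ok, (okE_nil 24)⟩)

noncomputable def UB : List Net := [q_g2, q_g3, q_g4, q_g5, EvM12.p_g90]

theorem UB_ok : okE 24 UB = true := (okE_cons.2 ⟨q_g2_ok, (okE_cons.2 ⟨q_g3_ok, (okE_cons.2 ⟨q_g4_ok, (okE_cons.2 ⟨q_g5_ok, (okE_cons.2 ⟨EvM12.p_g90_ok, (okE_nil 24)⟩)⟩)⟩)⟩)⟩)

noncomputable def q_g54 : Net := (Net.cons (nat_lit 1) (nat_lit 0x411440) (Net.cons (nat_lit 2) (nat_lit 0x202310) (Net.cons (nat_lit 4) (nat_lit 329984) (Net.cons (nat_lit 8) (nat_lit 80) (Net.cons (nat_lit 16) (nat_lit 116) (Net.cons (nat_lit 8) (nat_lit 149) (Net.cons (nat_lit 4) (nat_lit 69380) (Net.cons (nat_lit 2) (nat_lit 0x202310) (Net.cons (nat_lit 1) (nat_lit 0x411440) Net.nil)))))))))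

theorem q_g54_ok : Net.ok 24 q_g54 = true := by decide +kernel

noncomputable def EF : List Net := [q_g54]

theorem EF_ok : okE 24 EF = true := (okE_cons.2 ⟨q_g54_ok, (okE_nil 24)⟩)

theorem T_s0 : Stab 24 (grp 24 EvM12.EG) [] EvM12.N_E0 190080 :=
  Stab.root' EvM12.N_E0_ok EvM12.N_eq EvM12.N_card

theorem U_poly : Ej.Poly 24 U :=
  Ej.poly_of q_hn q_hk U_ok (W := [(nat_lit 0, [nat_lit 20, nat_lit 11, nat_lit 17, nat_lit 13, nat_lit 16]), (nat_lit 0, [nat_lit 1, nat_lit 2, nat_lit 12, nat_lit 8]), (nat_lit 0, [nat_lit 5, nat_lit 6, nat_lit 4]), (nat_lit 0, [nat_lit 3, nat_lit 2]), (nat_lit 0, [nat_lit 1]), (nat_lit 0, [])]) (by decide +kernel)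

theorem q_le8 : grp 24 q_V7 ≤ grp 24 U :=
  grp_le_of_memB q_hn q_hk U_ok q_V7_ok (ws := [nat_lit 0xc0104020a0b040a06, nat_lit 0x10b0a0609010601]) (by decide +kernel)

theorem q_le11 : grp 24 q_V10 ≤ grp 24 q_V7 :=
  grp_le_of_memB q_hn q_hk q_V7_ok q_V10_ok (ws := [nat_lit 0x401040404040402, nat_lit 0x402040404, nat_lit 0x30104010101030204]) (by decide +kernel)

theorem q_le13 : grp 24 q_V12 ≤ grp 24 q_V10 :=
  grp_le_of_memB q_hn q_hk q_V10_ok q_V12_ok (ws := [nat_lit 0x504020404, nat_lit 0x301030105040604]) (by decide +kernel)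

theorem Ulb_le : grp 24 Ulb_E ≤ grp 24 U :=
  (grp_cons_le ((le_refl (grp 24 U)) (toPerm_mem_grp (E := U) (by simp [U]))) (grp_cons_le ((le_refl (grp 24 U)) (toPerm_mem_grp (E := U) (by simp [U]))) (grp_cons_le ((le_refl (grp 24 U)) (toPerm_mem_grp (E := U) (by simp [U]))) (grp_cons_le ((le_refl (grp 24 U)) (toPerm_mem_grp (E := U) (by simp [U]))) (grp_cons_le ((le_refl (grp 24 U)) (toPerm_mem_grp (E := U) (by simp [U]))) (grp_cons_le ((le_refl (grp 24 U)) (toPerm_mem_grp (E := U) (by simp [U]))) (grp_cons_le ((q_le8.trans (le_refl (grp 24 U))) (toPerm_mem_grp (E := q_V7) (by simp [q_V7]))) (grp_cons_le ((q_le8.trans (le_refl (grp 24 U))) (toPerm_mem_grp (E := q_V7) (by simp [q_V7]))) (grp_cons_le ((q_le11.trans (q_le8.trans (le_refl (grp 24 U)))) (toPerm_mem_grp (E := q_V10) (by simp [q_V10]))) (grp_cons_le ((q_le11.trans (q_le8.trans (le_refl (grp 24 U)))) (toPerm_mem_grp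 (E := q_V10) (by simp [q_V10]))) (grp_cons_le ((q_le11.trans (q_le8.trans (le_refl (grp 24 U)))) (toPerm_mem_grp (E := q_V10) (by simp [q_V10]))) (grp_cons_le ((q_le13.trans (q_le11.trans (q_le8.trans (le_refl (grp 24 U))))) (toPerm_mem_grp (E := q_V12) (by simp [q_V12]))) (grp_cons_le ((q_le13.trans (q_le11.trans (q_le8.trans (le_refl (grp 24 U))))) (toPerm_mem_grp (E := q_V12) (by simp [q_V12]))) (grp_nil_le _))))))))))))))

noncomputable def Ulb_ch : Ch := (Ch.cons (nat_lit 4) [nat_lit 1, nat_lit 3, nat_lit 5, nat_lit 7, nat_lit 9, nat_lit 11] (Ch.cons (nat_lit 8) [nat_lit 13, nat_lit 15] (Ch.cons (nat_lit 10) [nat_lit 17, nat_lit 19, nat_lit 21] (Ch.cons (nat_lit 0) [nat_lit 23, nat_lit 25] Ch.nil))))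

theorem Ulb_chk : Ch.chk 24 5 (lab 24 5) Ulb_E Ulb_ch 64 = true :=
  by decide +kernel

theorem Ulb_ge : 64 ≤ Nat.card (grp 24 U) :=
  (Ch.le_card_grp q_hn Ulb_E_ok Ulb_chk).trans (Subgroup.card_le_of_le Ulb_le)

theorem U_ge : 2 ^ 6 ≤ Nat.card (grp 24 U) :=
  le_of_eq_of_le (by norm_num) Ulb_ge

theorem q_le14 : grp 24 U ≤ grp 24 EvM12.lb_E :=
  grp_le_of_memB q_hn q_hk EvM12.lb_E_ok U_ok (ws := [nat_lit 0x13110e0b0610, nat_lit 0x13110915060f0310, nat_lit 0x171511091105070401, nat_lit 0x130d090b08, nat_lit 0x1315110b050a030c, nat_lit 0x110f0a060f0310]) (by decide +kernel)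

theorem U_G : grp 24 U ≤ (grp 24 EvM12.E) :=
  (q_le14).trans EvM12.lb_le

theorem q_le15 : grp 24 CU ≤ grp 24 EvM12.N_E0 :=
  grp_le_of_memB q_hn q_hk EvM12.N_E0_ok CU_ok (ws := [nat_lit 0x1715110e081a0507]) (by decide +kernel)

theorem CU_le : grp 24 CU ≤ (grp 24 EvM12.EG) :=
  (q_le15.trans T_s0.le)

theorem CU_sym : Sym 24 (grp 24 EvM12.EG) U CU 0 :=
  Sym.of_lab q_hn q_hk U_ok CU_ok CU_le (kT := 0) (by decide +kernel)

theorem T_s1 : Stab 24 (grp 24 EvM12.EG) [nat_lit 0] q_V16 7920 :=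
  Stab.step (k := 5) (L := (lab 24 5)) q_hn T_s0 q_V16_ok (grp_mono (List.subset_append_right [EvM12.p_g22, EvM12.p_g1, EvM12.p_g2] _)) (c := (Ch.cons (nat_lit 22) [nat_lit 1, nat_lit 3, nat_lit 5] (Ch.cons (nat_lit 19) [nat_lit 7, nat_lit 9, nat_lit 11] (Ch.cons (nat_lit 3) [nat_lit 13, nat_lit 15] (Ch.cons (nat_lit 16) [nat_lit 17] (Ch.cons (nat_lit 4) [nat_lit 19, nat_lit 21] Ch.nil)))))) (by decide +kernel)

theorem q_le21 : grp 24 q_V20 ≤ grp 24 q_V16 :=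
  grp_le_of_memB q_hn q_hk q_V16_ok q_V20_ok (ws := [nat_lit 17, nat_lit 0x120d0f080f03, nat_lit 0x140e0c01, nat_lit 0x1411130e06]) (by decide +kernel)

theorem T_s2 : Stab 24 (grp 24 EvM12.EG) [nat_lit 3, nat_lit 0] q_V20 720 :=
  Stab.step (k := 5) (L := (lab 24 5)) q_hn T_s1 q_V20_ok q_le21 (c := (Ch.cons (nat_lit 18) [nat_lit 1] (Ch.cons (nat_lit 2) [nat_lit 3] (Ch.cons (nat_lit 9) [nat_lit 5, nat_lit 7] Ch.nil)))) (by decide +kernel)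

theorem T_s3 : Stab 24 (grp 24 EvM12.EG) [nat_lit 18, nat_lit 3, nat_lit 0] q_V22 72 :=
  Stab.step (k := 5) (L := (lab 24 5)) q_hn T_s2 q_V22_ok (grp_mono (List.subset_append_right [EvM12.p_g47] _)) (c := (Ch.cons (nat_lit 2) [nat_lit 1] (Ch.cons (nat_lit 9) [nat_lit 3, nat_lit 5] Ch.nil))) (by decide +kernel)

theorem T_s4 : Stab 24 (grp 24 EvM12.EG) [nat_lit 2, nat_lit 18, nat_lit 3, nat_lit 0] q_V23 8 :=
  Stab.step (k := 5) (L := (lab 24 5)) q_hn T_s3 q_V23_ok (grp_mono (List.subset_append_right [q_g17] _)) (c := (Ch.cons (nat_lit 9) [nat_lit 1, nat_lit 3] Ch.nil)) (by decide +kernel)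

theorem T_s5 : Stab 24 (grp 24 EvM12.EG) [nat_lit 9, nat_lit 2, nat_lit 18, nat_lit 3, nat_lit 0] q_V24 1 :=
  Stab.step (k := 5) (L := (lab 24 5)) q_hn T_s4 q_V24_ok (grp_mono (List.subset_append_right [q_g18, q_g19] _)) (c := Ch.nil) (by decide +kernel)

theorem q_g18_T : Net.toPerm 24 q_g18 ∈ (grp 24 EvM12.EG) :=
  T_s4.le (toPerm_mem_grp (E := q_V23) (List.Mem.head _))

theorem q_g19_T : Net.toPerm 24 q_g19 ∈ (grp 24 EvM12.EG) :=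
  T_s4.le (toPerm_mem_grp (E := q_V23) (List.Mem.tail _ (List.Mem.head _)))

theorem q_g17_T : Net.toPerm 24 q_g17 ∈ (grp 24 EvM12.EG) :=
  T_s3.le (toPerm_mem_grp (E := q_V22) (List.Mem.head _))

theorem EvM12.p_g47_T : Net.toPerm 24 EvM12.p_g47 ∈ (grp 24 EvM12.EG) :=
  T_s2.le (toPerm_mem_grp (E := q_V20) (List.Mem.head _))

theorem EvM12.p_g29_T : Net.toPerm 24 EvM12.p_g29 ∈ (grp 24 EvM12.EG) :=
  T_s1.le (toPerm_mem_grp (E := q_V16) (List.Mem.head _))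

theorem EvM12.p_g25_T : Net.toPerm 24 EvM12.p_g25 ∈ (grp 24 EvM12.EG) :=
  T_s1.le (toPerm_mem_grp (E := q_V16) (List.Mem.tail _ (List.Mem.head _)))

theorem EvM12.p_g26_T : Net.toPerm 24 EvM12.p_g26 ∈ (grp 24 EvM12.EG) :=
  T_s1.le (toPerm_mem_grp (E := q_V16) (List.Mem.tail _ (List.Mem.tail _ (List.Mem.head _))))

theorem EvM12.p_g36_T : Net.toPerm 24 EvM12.p_g36 ∈ (grp 24 EvM12.EG) :=
  T_s1.le (toPerm_mem_grp (E := q_V16) (List.Mem.tail _ (List.Mem.tail _ (List.Mem.tail _ (List.Mem.head _)))))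

theorem EvM12.p_g32_T : Net.toPerm 24 EvM12.p_g32 ∈ (grp 24 EvM12.EG) :=
  T_s1.le (toPerm_mem_grp (E := q_V16) (List.Mem.tail _ (List.Mem.tail _ (List.Mem.tail _ (List.Mem.tail _ (List.Mem.head _))))))

theorem EvM12.p_g33_T : Net.toPerm 24 EvM12.p_g33 ∈ (grp 24 EvM12.EG) :=
  T_s1.le (toPerm_mem_grp (E := q_V16) (List.Mem.tail _ (List.Mem.tail _ (List.Mem.tail _ (List.Mem.tail _ (List.Mem.tail _ (List.Mem.head _)))))))

theorem EvM12.p_g43_T : Net.toPerm 24 EvM12.p_g43 ∈ (grp 24 EvM12.EG) :=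
  T_s1.le (toPerm_mem_grp (E := q_V16) (List.Mem.tail _ (List.Mem.tail _ (List.Mem.tail _ (List.Mem.tail _ (List.Mem.tail _ (List.Mem.tail _ (List.Mem.head _))))))))

theorem EvM12.p_g40_T : Net.toPerm 24 EvM12.p_g40 ∈ (grp 24 EvM12.EG) :=
  T_s1.le (toPerm_mem_grp (E := q_V16) (List.Mem.tail _ (List.Mem.tail _ (List.Mem.tail _ (List.Mem.tail _ (List.Mem.tail _ (List.Mem.tail _ (List.Mem.tail _ (List.Mem.head _)))))))))

theorem EvM12.p_g46_T : Net.toPerm 24 EvM12.p_g46 ∈ (grp 24 EvM12.EG) :=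
  T_s1.le (toPerm_mem_grp (E := q_V16) (List.Mem.tail _ (List.Mem.tail _ (List.Mem.tail _ (List.Mem.tail _ (List.Mem.tail _ (List.Mem.tail _ (List.Mem.tail _ (List.Mem.tail _ (List.Mem.tail _ (List.Mem.head _)))))))))))

theorem EvM12.p_g39_T : Net.toPerm 24 EvM12.p_g39 ∈ (grp 24 EvM12.EG) :=
  T_s1.le (toPerm_mem_grp (E := q_V16) (List.Mem.tail _ (List.Mem.tail _ (List.Mem.tail _ (List.Mem.tail _ (List.Mem.tail _ (List.Mem.tail _ (List.Mem.tail _ (List.Mem.tail _ (List.Mem.tail _ (List.Mem.tail _ (List.Mem.head _))))))))))))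

theorem EvM12.p_g22_T : Net.toPerm 24 EvM12.p_g22 ∈ (grp 24 EvM12.EG) :=
  T_s0.le (toPerm_mem_grp (E := EvM12.N_E0) (List.Mem.head _))

theorem EvM12.p_g1_T : Net.toPerm 24 EvM12.p_g1 ∈ (grp 24 EvM12.EG) :=
  T_s0.le (toPerm_mem_grp (E := EvM12.N_E0) (List.Mem.tail _ (List.Mem.head _)))

theorem EvM12.p_g2_T : Net.toPerm 24 EvM12.p_g2 ∈ (grp 24 EvM12.EG) :=
  T_s0.le (toPerm_mem_grp (E := EvM12.N_E0) (List.Mem.tail _ (List.Mem.tail _ (List.Mem.head _))))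

noncomputable def T_s5_O : ℕ := (nat_lit 0x933332e0f83ec67318b26d92000001000008040000000004000200)

theorem T_s5_F : Frame 24 (grp 24 EvM12.EG) 5 9 T_s5_O 1 1 :=
  IsBase.frame T_s5.isBase (by decide +kernel)

noncomputable def CU_cnt_L : List ℕ := [5, 9, T_s5_O, 1, 0]

theorem CU_cnt_P : Prob 24 5 (grp 24 EvM12.EG) CU_cnt_EG U U CU CU_cnt_L 0 0 :=
  Sym.prob q_hn q_hk CU_sym CU_cnt_EG_ok (grp_cons_le q_g18_T (grp_cons_le q_g19_T (grp_cons_le q_g17_T (grp_cons_le EvM12.p_g47_T (grp_cons_le EvM12.p_g29_T (grp_cons_le EvM12.p_g25_T (grp_cons_le EvM12.p_g26_T (grp_cons_le EvM12.p_g36_T (grp_cons_le EvM12.p_g32_T (grp_cons_le EvM12.p_g33_T (grp_cons_le EvM12.p_g43_T (grp_cons_le EvM12.p_g40_T (grp_cons_le EvM12.p_g46_T (grp_cons_le EvM12.p_g39_T (grp_cons_le EvM12.p_g22_T (grp_cons_le EvM12.p_g1_T (grp_cons_le EvM12.p_g2_T (grp_nil_le _)))))))))))))))))) (Frames.cons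 T_s5_F Frames.nil) U_ok _

noncomputable def CU_cnt_t : BT := (BT.fix (nat_lit 1) (BT.dif (nat_lit 3) (nat_lit 0) (BT.fix (nat_lit 3) (BT.dif (nat_lit 1) (nat_lit 0) (BT.fix (nat_lit 11) (BT.dif (nat_lit 1) (nat_lit 0) (BT.fix (nat_lit 7) (BT.dif (nat_lit 1) (nat_lit 0) (BT.dif (nat_lit 1) (nat_lit 5) (BT.dif (nat_lit 0) (nat_lit 8) (BT.img (nat_lit 5) (nat_lit 0) (BT.dif (nat_lit 3) (nat_lit 0) (BT.br (nat_lit 0) (nat_lit 3) [nat_lit 1] (BT.kid (nat_lit 3) (nat_lit 1) (BT.and (nat_lit 12) (nat_lit 6) (BT.img (nat_lit 5) (nat_lit 1) (BT.dif (nat_lit 1) (nat_lit 0) (BT.img (nat_lit 9) (nat_lit 1) (BT.img (nat_lit 1) (nat_lit 4) (BT.one (nat_lit 0) (nat_lit 0x101060f210c) (nat_lit 0x101060f210c) [nat_lit 2, nat_lit 1, nat_lit 3, nat_lit 0, nat_lit 5])))))) BT.nil))))))))))))))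

theorem CU_cnt : Cnt 24 (grp 24 EvM12.EG) U U 0 0 0 0 2 :=
  BT.sound CU_cnt_P Known.nil (t := CU_cnt_t) (d := 0) (by decide +kernel)

theorem CU_ge : 2 ≤ Nat.card (grp 24 CU) :=
  Ch.le_card_grp (k := 5) (L := (lab 24 5)) q_hn CU_ok (c := (Ch.cons (nat_lit 3) [nat_lit 1] Ch.nil)) (by decide +kernel)

theorem CU_eq : (grp 24 EvM12.EG) ⊓ Subgroup.centralizer (grp 24 U : Set (Equiv.Perm (Fin 24))) = grp 24 CU :=
  cent_grp_eq CU_sym CU_cnt CU_ge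

theorem CU_card : Nat.card (grp 24 CU) = 2 :=
  (CU_sym.mem_iff CU_cnt CU_ge).1

theorem CU_z : grp 24 CU ≤ grp 24 EZ :=
  grp_le_of_memB q_hn q_hk EZ_ok CU_ok (ws := [nat_lit 1]) (by decide +kernel)

theorem bx : Ej.Bx (grp 24 EvM12.E) (grp 24 EvM12.EG) (Net.toPerm 24 EvM12.p_g90) (grp 24 U) :=
  ⟨by rw [EvM12.N_card, EvM12.card_G],
    Ej.syl_of_card U_G (a := 6) (m := 1485) (U_poly.card_eq rfl U_ge) (by rw [EvM12.card_G]; norm_num) (by norm_num),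
    Ej.ord2 q_hn q_hk (by decide +kernel), (toPerm_mem_grp (E := U) (List.Mem.tail _ (List.Mem.tail _ (List.Mem.tail _ (List.Mem.tail _ (List.Mem.tail _ (List.Mem.head _))))))),
    fun _ hx => H62.TE.mem_c1.1 (EvG.le_cent q_hn q_hk (by decide +kernel) hx),
    fun _ hσ h => EvG.mem_single q_hn q_hk (by decide +kernel) (CU_z (CU_eq.le ⟨hσ, fun x hx => (h x hx).symm⟩)),
    ⟨_, (toPerm_mem_grp (E := U) (List.Mem.tail _ (List.Mem.head _))), _, (toPerm_mem_grp (E := U) (List.Mem.head _)), EvG.ncomm_net (k := 5) q_hn (by decide +kernel)⟩, EvM12.rank3⟩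

theorem cls : ∀ x ∈ (grp 24 EvM12.E), orderOf x = 2 → CjIn (grp 24 EvM12.EG) (Net.toPerm 24 EvM12.p_g90) x ∨ CjIn (grp 24 EvM12.EG) (Net.toPerm 24 EvM12.p_g76) x :=
  Ej.in_reps EvM12.amb EvM12.reps fun t ht => by
  rcases ht with rfl | rfl | rfl
  · exact .inr (.inl rfl)
  · exact .inl rfl
  · exact .inr (.inr EvM12.u_G)

theorem crit : Ej.Crit (grp 24 EvM12.E) (grp 24 EvM12.EG) (Net.toPerm 24 EvM12.p_g90) :=
  Ej.crit_of q_hn q_hk cls (by decide +kernel)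

theorem z_G : Net.toPerm 24 EvM12.p_g90 ∈ (grp 24 EvM12.E) :=
  EvM12.lb_le (mem_grp_of_memB q_hn q_hk EvM12.lb_E_ok EvM12.p_g90_ok (w := (nat_lit 0x110f0a060f0310)) (by decide +kernel))

theorem c_G : Net.toPerm 24 q_g26 ∈ (grp 24 EvM12.E) :=
  EvM12.lb_le (mem_grp_of_memB q_hn q_hk EvM12.lb_E_ok q_g26_ok (w := (nat_lit 0x13110f0c0507030a)) (by decide +kernel))

theorem e_U : (Net.toPerm 24 q_g25) ∈ grp 24 U :=
  Ej.pr_one (n := 24) q_g25 ▸ Ej.mem_of_inB q_hn q_hk U_ok (Ej.ok_one q_g25_ok) (m := 42) (by decide +kernel)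

theorem k1 : ∀ y ∈ grp 24 U, y * (Net.toPerm 24 q_g25) = (Net.toPerm 24 q_g25) * y ∨ y * (Net.toPerm 24 q_g25) = (Net.toPerm 24 q_g25) * y * (Net.toPerm 24 EvM12.p_g90) :=
  Ej.four_a q_hn q_hk U_ok EvM12.p_g90_ok q_g25_ok bx.z2 (fun x hx => H62.TE.mem_c1.2 (bx.zc x hx)) (by decide +kernel)

theorem k2 : ∀ x ∈ grp 24 U, x * x = 1 → (∀ y ∈ grp 24 U, y * x = x * y ∨ y * x = x * y * (Net.toPerm 24 EvM12.p_g90)) → x = 1 ∨ x = (Net.toPerm 24 EvM12.p_g90) ∨ x = (Net.toPerm 24 q_g25) ∨ x = (Net.toPerm 24 EvM12.p_g90) * (Net.toPerm 24 q_g25) :=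
  Ej.four_b q_hn q_hk U_ok U_poly EvM12.p_g90_ok q_g25_ok (by decide +kernel)

theorem q_le34 : grp 24 q_V33 ≤ grp 24 KZ :=
  grp_le_of_memB q_hn q_hk KZ_ok q_V33_ok (ws := [nat_lit 0x5010803010701, nat_lit 0x7030603]) (by decide +kernel)

theorem q_le37 : grp 24 q_V36 ≤ grp 24 q_V33 :=
  grp_le_of_memB q_hn q_hk q_V33_ok q_V36_ok (ws := [nat_lit 0x2040202, nat_lit 0x20204040104010402]) (by decide +kernel)

theorem q_le40 : grp 24 q_V39 ≤ grp 24 q_V36 :=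
  grp_le_of_memB q_hn q_hk q_V36_ok q_V39_ok (ws := [nat_lit 131842, nat_lit 0x1040103]) (by decide +kernel)

theorem q_le42 : grp 24 q_V41 ≤ grp 24 q_V39 :=
  grp_le_of_memB q_hn q_hk q_V39_ok q_V41_ok (ws := [nat_lit 0x4010302, nat_lit 0x301010404010402]) (by decide +kernel)

theorem KZlb_le : grp 24 KZlb_E ≤ grp 24 KZ :=
  (grp_cons_le ((le_refl (grp 24 KZ)) (toPerm_mem_grp (E := KZ) (by simp [KZ]))) (grp_cons_le ((le_refl (grp 24 KZ)) (toPerm_mem_grp (E := KZ) (by simp [KZ]))) (grp_cons_le ((le_refl (grp 24 KZ)) (toPerm_mem_grp (E := KZ) (by simp [KZ]))) (grp_cons_le ((le_refl (grp 24 KZ)) (toPerm_mem_grp (E := KZ) (by simp [KZ]))) (grp_cons_le ((q_le34.trans (le_refl (grp 24 KZ))) (toPerm_mem_grp (E := q_V33) (by simp [q_V33]))) (grp_cons_le ((q_le34.trans (le_refl (grp 24 KZ))) (toPerm_mem_grp (E := q_V33) (by simp [q_V33]))) (grp_cons_le ((q_le37.trans (q_le34.trans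 (le_refl (grp 24 KZ)))) (toPerm_mem_grp (E := q_V36) (by simp [q_V36]))) (grp_cons_le ((q_le37.trans (q_le34.trans (le_refl (grp 24 KZ)))) (toPerm_mem_grp (E := q_V36) (by simp [q_V36]))) (grp_cons_le ((q_le40.trans (q_le37.trans (q_le34.trans (le_refl (grp 24 KZ))))) (toPerm_mem_grp (E := q_V39) (by simp [q_V39]))) (grp_cons_le ((q_le40.trans (q_le37.trans (q_le34.trans (le_refl (grp 24 KZ))))) (toPerm_mem_grp (E := q_V39) (by simp [q_V39]))) (grp_cons_le ((q_le42.trans (q_le40.trans (q_le37.trans (q_le34.trans (le_refl (grp 24 KZ)))))) (toPerm_mem_grp (E := q_V41) (by simp [q_V41]))) (grp_cons_le ((q_le42.trans (q_le40.trans (q_le37.trans (q_le34.trans (le_refl (grp 24 KZ)))))) (toPerm_mem_grp (E := q_V41) (by simp [q_V41]))) (grp_nil_le _)))))))))))))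

noncomputable def KZlb_ch : Ch := (Ch.cons (nat_lit 4) [nat_lit 1, nat_lit 3, nat_lit 5, nat_lit 7] (Ch.cons (nat_lit 6) [nat_lit 9, nat_lit 11] (Ch.cons (nat_lit 8) [nat_lit 13, nat_lit 15] (Ch.cons (nat_lit 10) [nat_lit 17, nat_lit 19] (Ch.cons (nat_lit 0) [nat_lit 21, nat_lit 23] Ch.nil)))))

theorem KZlb_chk : Ch.chk 24 5 (lab 24 5) KZlb_E KZlb_ch 192 = true :=
  by decide +kernel

theorem KZlb_ge : 192 ≤ Nat.card (grp 24 KZ) :=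
  (Ch.le_card_grp q_hn KZlb_E_ok KZlb_chk).trans (Subgroup.card_le_of_le KZlb_le)

theorem q_le44 : grp 24 q_V43 ≤ grp 24 EX :=
  grp_le_of_memB q_hn q_hk EX_ok q_V43_ok (ws := [nat_lit 0x406010101, nat_lit 328195]) (by decide +kernel)

theorem q_le47 : grp 24 q_V46 ≤ grp 24 q_V43 :=
  grp_le_of_memB q_hn q_hk q_V43_ok q_V46_ok (ws := [nat_lit 0x301010402, nat_lit 196868]) (by decide +kernel)

theorem q_le49 : grp 24 q_V48 ≤ grp 24 q_V46 :=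
  grp_le_of_memB q_hn q_hk q_V46_ok q_V48_ok (ws := [nat_lit 0x4020402, nat_lit 1028]) (by decide +kernel)

theorem EXlb_le : grp 24 EXlb_E ≤ grp 24 EX :=
  (grp_cons_le ((le_refl (grp 24 EX)) (toPerm_mem_grp (E := EX) (by simp [EX]))) (grp_cons_le ((le_refl (grp 24 EX)) (toPerm_mem_grp (E := EX) (by simp [EX]))) (grp_cons_le ((le_refl (grp 24 EX)) (toPerm_mem_grp (E := EX) (by simp [EX]))) (grp_cons_le ((q_le44.trans (le_refl (grp 24 EX))) (toPerm_mem_grp (E := q_V43) (by simp [q_V43]))) (grp_cons_le ((q_le44.trans (le_refl (grp 24 EX))) (toPerm_mem_grp (E := q_V43) (by simp [q_V43]))) (grp_cons_le ((q_le47.trans (q_le44.trans (le_refl (grp 24 EX)))) (toPerm_mem_grp (E := q_V46) (by simp [q_V46]))) (grp_cons_le ((q_le47.trans (q_le44.trans (le_refl (grp 24 EX)))) (toPerm_mem_grp (E := q_V46) (by simp [q_V46]))) (grp_cons_le ((q_le49.trans (q_le47.trans (q_le44.trans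 (le_refl (grp 24 EX))))) (toPerm_mem_grp (E := q_V48) (by simp [q_V48]))) (grp_cons_le ((q_le49.trans (q_le47.trans (q_le44.trans (le_refl (grp 24 EX))))) (toPerm_mem_grp (E := q_V48) (by simp [q_V48]))) (grp_nil_le _))))))))))

noncomputable def EXlb_ch : Ch := (Ch.cons (nat_lit 4) [nat_lit 1, nat_lit 3, nat_lit 5] (Ch.cons (nat_lit 6) [nat_lit 7, nat_lit 9] (Ch.cons (nat_lit 10) [nat_lit 11, nat_lit 13] (Ch.cons (nat_lit 0) [nat_lit 15, nat_lit 17] Ch.nil))))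

theorem EXlb_chk : Ch.chk 24 5 (lab 24 5) EXlb_E EXlb_ch 96 = true :=
  by decide +kernel

theorem EXlb_ge : 96 ≤ Nat.card (grp 24 EX) :=
  (Ch.le_card_grp q_hn EXlb_E_ok EXlb_chk).trans (Subgroup.card_le_of_le EXlb_le)

theorem q_le50 : grp 24 KZ ≤ grp 24 EvM12.lb_E :=
  grp_le_of_memB q_hn q_hk EvM12.lb_E_ok KZ_ok (ws := [nat_lit 0x171312090b050401, nat_lit 0x1209061603, nat_lit 0x131511090c0610, nat_lit 0x13120b060f0307]) (by decide +kernel)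

theorem KZ_G : grp 24 KZ ≤ (grp 24 EvM12.E) :=
  (q_le50).trans EvM12.lb_le

theorem KZ_C : grp 24 KZ ≤ (grp 24 EvM12.E) ⊓ H62.TE.c1 (Net.toPerm 24 EvM12.p_g90) :=
  le_inf KZ_G (EvG.le_cent q_hn q_hk (by decide +kernel))

theorem y_G : Net.toPerm 24 q_g51 ∈ (grp 24 EvM12.E) :=
  EvM12.lb_le (mem_grp_of_memB q_hn q_hk EvM12.lb_E_ok q_g51_ok (w := (nat_lit 0x110f0b050a0301)) (by decide +kernel))

theorem x_N : Net.toPerm 24 q_g52 ∈ (grp 24 EvM12.EG) :=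
  T_s0.le (mem_grp_of_memB q_hn q_hk EvM12.N_E0_ok q_g52_ok (w := (nat_lit 0x1917191307020c)) (by decide +kernel))

theorem x_G : (Net.toPerm 24 q_g52) ∉ (grp 24 EvM12.E) :=
  Ej.nmem_of (EvG.mul_net q_hn q_hk (by decide +kernel)) y_G EvM12.u_G

theorem CZ_dvd : Nat.card ↥((grp 24 EvM12.E) ⊓ H62.TE.c1 (Net.toPerm 24 EvM12.p_g90)) ∣ 192 :=
  EvG.two_mul_dvd' EvM12.amb x_N (EvG.comm_net q_hn q_hk (by decide +kernel)) (EvG.sq_net q_hn q_hk (by decide +kernel)) x_G EvM12.nt_c2_card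

theorem CZ_le : (grp 24 EvM12.E) ⊓ H62.TE.c1 (Net.toPerm 24 EvM12.p_g90) ≤ grp 24 KZ :=
  Ej.le_of_card KZ_C KZlb_ge CZ_dvd (by norm_num)

theorem xz : H62.EJ.Xp 3 ((grp 24 EvM12.E) ⊓ H62.TE.c1 (Net.toPerm 24 EvM12.p_g90)) = grp 24 EX :=
  Ej.xp_of_index ((grp_mono (List.subset_append_left EX [q_g30])).trans KZ_C) CZ_dvd (by norm_num) EXlb_ge (by norm_num) (Ej.cube q_hn q_hk (by decide +kernel))

theorem z_X : Net.toPerm 24 EvM12.p_g90 ∈ grp 24 EX :=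
  EXlb_le (mem_grp_of_memB q_hn q_hk EXlb_E_ok EvM12.p_g90_ok (w := (nat_lit 15)) (by decide +kernel))

theorem q_le53 : grp 24 UB ≤ grp 24 EXlb_E :=
  grp_le_of_memB q_hn q_hk EXlb_E_ok UB_ok (ws := [nat_lit 0xf0b0a04, nat_lit 0xf0b0d0a02, nat_lit 2305, nat_lit 2564, nat_lit 15]) (by decide +kernel)

theorem B_X : grp 24 UB ≤ grp 24 EX :=
  (q_le53).trans EXlb_le

theorem B_n : grp 24 EX ≤ H62.TE.nz (grp 24 UB) :=
  Ej.le_nz_of_nzB q_hn q_hk UB_ok EX_ok (W := [[nat_lit 21, nat_lit 13, nat_lit 17, nat_lit 27, nat_lit 16], [nat_lit 5, nat_lit 13, nat_lit 1, nat_lit 27, nat_lit 16], [nat_lit 20, nat_lit 31, nat_lit 21, nat_lit 19, nat_lit 16]]) (by decide +kernel)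

theorem B_poly : Ej.Poly 24 UB :=
  Ej.Poly.tail (A := UA) U_poly

theorem B_ge : 2 ^ 5 ≤ Nat.card (grp 24 UB) :=
  Ej.Poly.card_tail (A := UA) (B := UB) U_poly U_ge

theorem B_U : grp 24 UB ≤ grp 24 U :=
  grp_mono (List.subset_append_right UA UB)

theorem o2z : pCoreTwoOf (H62.EJ.Xp 3 ((grp 24 EvM12.E) ⊓ H62.TE.c1 (Net.toPerm 24 EvM12.p_g90))) = grp 24 UB :=
  Ej.o2_eq q_hn q_hk (A := UA) (B := UB) UA_ok EF_ok EX_ok EvM12.p_g90_ok q_g25_ok U_poly bx xz B_X B_n k1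
    (ws := [nat_lit 2]) (by decide +kernel) (by decide +kernel)

theorem dv : Ej.Dv (grp 24 EvM12.E) (grp 24 EvM12.EG) (Net.toPerm 24 EvM12.p_g90) (grp 24 U) :=
  ⟨⟨_, CZ_le, crit.gen q_hn q_hk z_G KZ_G (m := 3) (by decide) (by decide +kernel)⟩,
    ⟨_, e_U, _, c_G, Ej.cube1 q_hn q_hk (by decide +kernel), Ej.conj_net q_hn q_hk (by decide +kernel), Ej.conj_net2 q_hn q_hk (by decide +kernel), k1, k2⟩,
    xz ▸ z_X, o2z ▸ Ej.cnt_ne q_hn q_hk UB_ok B_poly B_ge (B_U.trans U_G) EvM12.p_g90_ok crit (by decide +kernel)⟩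

theorem xs : H62.EJ.Xp 3 ((grp 24 EvM12.E) ⊓ H62.TE.c1 (Net.toPerm 24 EvM12.p_g76)) = grp 24 EvM12.L1 :=
  Ej.xp_of_cmp EvM12.amb EvM12.cmp1 (by rw [EvM12.L1o_card]; norm_num)

theorem ds : Ej.Ds (grp 24 EvM12.E) (grp 24 EvM12.EG) (Net.toPerm 24 EvM12.p_g90) (Net.toPerm 24 EvM12.p_g76) :=
  ⟨cls, Ej.ey_of xs EvM12.Y1_eq fun y hy _ => EvM12.Y1_sq y hy,
    xs ▸ crit.table q_hn q_hk EvM12.L1_G EvM12.lt1 (by decide +kernel),
    xs ▸ ⟨_, EvM12.lt1_c1_mem, EvM12.lt1_c1_ord, Ej.cjIn_of_cob EvM12.j1_G (EvG.cob_net q_hn q_hk (by decide +kernel))⟩⟩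

theorem pfu_s : Net.toPerm 24 EvM12.p_g277 ∈ (grp 24 EvM12.E) :=
  EvM12.lb_le (mem_grp_of_memB q_hn q_hk EvM12.lb_E_ok EvM12.p_g277_ok (w := (nat_lit 0x170e0b07030c)) (by decide +kernel))

theorem pfu : Ej.Pf (grp 24 EvM12.E) (grp 24 EvM12.EG) (Net.toPerm 24 EvM12.p_g90) (Net.toPerm 24 EvM12.p_g95) :=
  ⟨⟨_, le_inf EvM12.cmp3.leG EvM12.cmp3.leC, Ej.perf_of_cmp EvM12.cmp3, _, EvM12.lt3_c1_mem,
    crit.tc1 q_hn q_hk (EvM12.L3_G EvM12.lt3_c1_mem) (by decide +kernel), _, EvM12.j3_G, EvG.cob_net q_hn q_hk (by decide +kernel)⟩,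
    _, pfu_s, EvG.comm_net q_hn q_hk (by decide +kernel), crit.ntc q_hn q_hk pfu_s (by decide +kernel)⟩

theorem outr : ∀ σ ∈ (grp 24 EvM12.EG), σ ∉ (grp 24 EvM12.E) → orderOf σ = 2 → ∃ t, CjIn (grp 24 EvM12.EG) t σ ∧ Ej.Pf (grp 24 EvM12.E) (grp 24 EvM12.EG) (Net.toPerm 24 EvM12.p_g90) t :=
  Ej.out_reps EvM12.amb EvM12.reps fun t ht => by
  rcases ht with rfl | rfl | rfl
  · exact .inl EvM12.s_G
  · exact .inl z_G
  · exact .inr pfu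

universe u

open Cfsg.Agent.H62.EJ

theorem kgM12 : KGF.{u} (fun S _ => Spor.IsoM12 S) := fun _ _ _ _ _ ⟨e⟩ =>
  bx.kgD1 (Ej.em_of EvM12.amb (e.trans EvM12.equiv)) ds

theorem kvM12 : KVF.{u} (fun S _ => Spor.IsoM12 S) False := fun _ _ _ _ _ ⟨e⟩ =>
  have h := Ej.em_of EvM12.amb (e.trans EvM12.equiv)
  ⟨bx.kv0D h dv ds, bx.kv2 h dv, bx.kc0 h outr⟩

theorem kcM12 : KCF.{u} (fun S _ => Spor.IsoM12 S) := fun _ _ _ _ _ ⟨e⟩ _ _ _ _ hπ =>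
  ⟨EvG.card_ker_eq (H80.hasSchurMultiplier_congr_left EvM12.mult (e.trans EvM12.equiv).symm) hπ,
    bx.l4 (Ej.em_of EvM12.amb (e.trans EvM12.equiv)) EvM12.s_G cls hπ fun _ h => EvM12.lift_s h⟩

end Cfsg.Agent.H55.EjM12
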