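import Mathlib
import Cfsg.Agent.H43.Cent
import Cfsg.Agent.H55.EjB
import Cfsg.Agent.H17.EvM22
import Cfsg.Agent.S2036

set_option autoImplicit false
set_option maxRecDepth 200000
set_option linter.style.longLine false

namespace Cfsg.Agent.H55.EjM22

open Cfsg.Agent.H43 Cfsg.Agent.H17
open scoped commutatorElement

theorem q_hn : NOk 24 := by decide

theorem q_hk : 24 ≤ 2 ^ 5 := by decide

noncomputable def q_g1 : Net := (Net.cons (nat_lit 1) (nat_lit 0x441440) (Net.cons (nat_lit 2) (nat_lit 0x210300) (Net.cons (nat_lit 4) (nat_lit 396032) (Net.cons (nat_lit 8) (nat_lit 120) (Net.cons (nat_lit 16) (nat_lit 248) (Net.cons (nat_lit 8) (nat_lit 72) (Net.cons (nat_lit 4) (nat_lit 263424) (Net.cons (nat_lit 2) (nat_lit 0x232100) (Net.cons (nat_lit 1) (nat_lit 0x454400) Net.nil)))))))))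

theorem q_g1_ok : Net.ok 24 q_g1 = true := by decide +kernel

noncomputable def q_g2 : Net := (Net.cons (nat_lit 1) (nat_lit 0x540540) (Net.cons (nat_lit 2) (nat_lit 0x103000) (Net.cons (nat_lit 4) (nat_lit 458752) (Net.cons (nat_lit 8) (nat_lit 10) (Net.cons (nat_lit 16) (nat_lit 126) (Net.cons (nat_lit 8) (nat_lit 30) (Net.cons (nat_lit 4) (nat_lit 590340) (Net.cons (nat_lit 2) (nat_lit 0x103030) (Net.cons (nat_lit 1) (nat_lit 0x454554) Net.nil)))))))))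

theorem q_g2_ok : Net.ok 24 q_g2 = true := by decide +kernel

noncomputable def E3 : List Net := [q_g1, q_g2]

theorem E3_ok : okE 24 E3 = true := (okE_cons.2 ⟨q_g1_ok, (okE_cons.2 ⟨q_g2_ok, (okE_nil 24)⟩)⟩)

noncomputable def q_g3 : Net := (Net.cons (nat_lit 1) (nat_lit 0x444400) (Net.cons (nat_lit 2) (nat_lit 196864) (Net.cons (nat_lit 4) (nat_lit 256) (Net.cons (nat_lit 8) (nat_lit 12) (Net.cons (nat_lit 16) (nat_lit 188) (Net.cons (nat_lit 8) (nat_lit 156) (Net.cons (nat_lit 4) (nat_lit 134912) (Net.cons (nat_lit 2) (nat_lit 0x210120) (Net.cons (nat_lit 1) (nat_lit 0x445440) Net.nil)))))))))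

theorem q_g3_ok : Net.ok 24 q_g3 = true := by decide +kernel

noncomputable def q_V4 : List Net := [q_g3, q_g3]

theorem q_V4_ok : okE 24 q_V4 = true := (okE_cons.2 ⟨q_g3_ok, (okE_cons.2 ⟨q_g3_ok, (okE_nil 24)⟩)⟩)

noncomputable def E3lb_E : List Net := [q_g1, q_g2, q_g3, q_g3]

theorem E3lb_E_ok : okE 24 E3lb_E = true := (okE_cons.2 ⟨q_g1_ok, (okE_cons.2 ⟨q_g2_ok, (okE_cons.2 ⟨q_g3_ok, (okE_cons.2 ⟨q_g3_ok, (okE_nil 24)⟩)⟩)⟩)⟩)

noncomputable def u_G_X : List Net := [EvM22.p_g90, EvM22.p_g1, EvM22.p_g2, EvM22.p_g3, EvM22.p_g4, EvM22.p_g7, EvM22.p_g8, EvM22.p_g11, EvM22.p_g12, EvM22.p_g13, EvM22.p_g16, EvM22.p_g17, EvM22.p_g18, EvM22.p_g19]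

theorem u_G_X_ok : okE 24 u_G_X = true := (okE_cons.2 ⟨EvM22.p_g90_ok, (okE_cons.2 ⟨EvM22.p_g1_ok, (okE_cons.2 ⟨EvM22.p_g2_ok, (okE_cons.2 ⟨EvM22.p_g3_ok, (okE_cons.2 ⟨EvM22.p_g4_ok, (okE_cons.2 ⟨EvM22.p_g7_ok, (okE_cons.2 ⟨EvM22.p_g8_ok, (okE_cons.2 ⟨EvM22.p_g11_ok, (okE_cons.2 ⟨EvM22.p_g12_ok, (okE_cons.2 ⟨EvM22.p_g13_ok, (okE_cons.2 ⟨EvM22.p_g16_ok, (okE_cons.2 ⟨EvM22.p_g17_ok, (okE_cons.2 ⟨EvM22.p_g18_ok, (okE_cons.2 ⟨EvM22.p_g19_ok, (okE_nil 24)⟩)⟩)⟩)⟩)⟩)⟩)⟩)⟩)⟩)⟩)⟩)⟩)⟩)⟩)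

noncomputable def q_g6 : Net := (Net.cons (nat_lit 1) (nat_lit 0x404044) (Net.cons (nat_lit 2) (nat_lit 0x310110) (Net.cons (nat_lit 4) (nat_lit 589824) (Net.cons (nat_lit 8) (nat_lit 56) (Net.cons (nat_lit 16) (nat_lit 122) (Net.cons (nat_lit 8) (nat_lit 182) (Net.cons (nat_lit 4) (nat_lit 984074) (Net.cons (nat_lit 2) (nat_lit 0x120220) (Net.cons (nat_lit 1) (nat_lit 0x555444) Net.nil)))))))))

theorem q_g6_ok : Net.ok 24 q_g6 = true := by decide +kernel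

noncomputable def q_g7 : Net := (Net.cons (nat_lit 1) (nat_lit 0x105100) (Net.cons (nat_lit 2) (nat_lit 0x321100) (Net.cons (nat_lit 4) (nat_lit 131584) (Net.cons (nat_lit 8) (nat_lit 36) (Net.cons (nat_lit 16) (nat_lit 236) (Net.cons (nat_lit 8) (nat_lit 132) (Net.cons (nat_lit 4) (nat_lit 395520) (Net.cons (nat_lit 2) (nat_lit 0x323320) (Net.cons (nat_lit 1) (nat_lit 282688) Net.nil)))))))))

theorem q_g7_ok : Net.ok 24 q_g7 = true := by decide +kernel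

noncomputable def q_g8 : Net := (Net.cons (nat_lit 1) (nat_lit 0x444510) (Net.cons (nat_lit 2) (nat_lit 8208) (Net.cons (nat_lit 4) (nat_lit 788480) (Net.cons (nat_lit 8) (nat_lit 89) (Net.cons (nat_lit 16) (nat_lit 89) (Net.cons (nat_lit 8) (nat_lit 251) (Net.cons (nat_lit 4) (nat_lit 854790) (Net.cons (nat_lit 2) (nat_lit 78384) (Net.cons (nat_lit 1) (nat_lit 0x444510) Net.nil)))))))))

theorem q_g8_ok : Net.ok 24 q_g8 = true := by decide +kernel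

noncomputable def q_g9 : Net := (Net.cons (nat_lit 1) (nat_lit 0x101040) (Net.cons (nat_lit 2) (nat_lit 0x310120) (Net.cons (nat_lit 4) (nat_lit 132096) (Net.cons (nat_lit 8) (nat_lit 16) (Net.cons (nat_lit 16) (nat_lit 52) (Net.cons (nat_lit 8) (nat_lit 216) (Net.cons (nat_lit 4) (nat_lit 656896) (Net.cons (nat_lit 2) (nat_lit 0x310120) (Net.cons (nat_lit 1) (nat_lit 0x101040) Net.nil)))))))))

theorem q_g9_ok : Net.ok 24 q_g9 = true := by decide +kernel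

noncomputable def q_g10 : Net := (Net.cons (nat_lit 1) (nat_lit 81920) (Net.cons (nat_lit 2) (nat_lit 0x113000) (Net.cons (nat_lit 4) (nat_lit 394240) (Net.cons (nat_lit 8) (nat_lit 36) (Net.cons (nat_lit 16) (nat_lit 108) (Net.cons (nat_lit 8) (nat_lit 112) (Net.cons (nat_lit 4) (nat_lit 131078) (Net.cons (nat_lit 2) (nat_lit 0x113200) (Net.cons (nat_lit 1) (nat_lit 81920) Net.nil)))))))))

theorem q_g10_ok : Net.ok 24 q_g10 = true := by decide +kernel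

noncomputable def q_g11 : Net := (Net.cons (nat_lit 1) (nat_lit 0x440000) (Net.cons (nat_lit 4) (nat_lit 854528) (Net.cons (nat_lit 8) (nat_lit 82) (Net.cons (nat_lit 16) (nat_lit 90) (Net.cons (nat_lit 8) (nat_lit 92) (Net.cons (nat_lit 4) (nat_lit 461312) (Net.cons (nat_lit 2) (nat_lit 0x233002) (Net.cons (nat_lit 1) (nat_lit 0x440010) Net.nil))))))))

theorem q_g11_ok : Net.ok 24 q_g11 = true := by decide +kernel

noncomputable def U : List Net := [EvM22.p_g135, q_g7, q_g8, q_g9, q_g10, q_g11, EvM22.p_g104]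

theorem U_ok : okE 24 U = true := (okE_cons.2 ⟨EvM22.p_g135_ok, (okE_cons.2 ⟨q_g7_ok, (okE_cons.2 ⟨q_g8_ok, (okE_cons.2 ⟨q_g9_ok, (okE_cons.2 ⟨q_g10_ok, (okE_cons.2 ⟨q_g11_ok, (okE_cons.2 ⟨EvM22.p_g104_ok, (okE_nil 24)⟩)⟩)⟩)⟩)⟩)⟩)⟩)

noncomputable def q_g12 : Net := (Net.cons (nat_lit 1) (nat_lit 0x101014) (Net.cons (nat_lit 2) (nat_lit 0x312000) (Net.cons (nat_lit 4) (nat_lit 788480) (Net.cons (nat_lit 8) (nat_lit 15) (Net.cons (nat_lit 16) (nat_lit 207) (Net.cons (nat_lit 8) (nat_lit 105) (Net.cons (nat_lit 4) (nat_lit 2062) (Net.cons (nat_lit 2) (nat_lit 0x332220) (Net.cons (nat_lit 1) (nat_lit 21568) Net.nil)))))))))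

theorem q_g12_ok : Net.ok 24 q_g12 = true := by decide +kernel

noncomputable def q_g13 : Net := (Net.cons (nat_lit 1) (nat_lit 0x140400) (Net.cons (nat_lit 2) (nat_lit 66048) (Net.cons (nat_lit 4) (nat_lit 525824) (Net.cons (nat_lit 8) (nat_lit 17) (Net.cons (nat_lit 16) (nat_lit 145) (Net.cons (nat_lit 8) (nat_lit 121) (Net.cons (nat_lit 4) (nat_lit 722688) (Net.cons (nat_lit 2) (nat_lit 66048) (Net.cons (nat_lit 1) (nat_lit 0x144400) Net.nil)))))))))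

theorem q_g13_ok : Net.ok 24 q_g13 = true := by decide +kernel

noncomputable def q_g14 : Net := (Net.cons (nat_lit 1) (nat_lit 328724) (Net.cons (nat_lit 2) (nat_lit 0x111100) (Net.cons (nat_lit 4) (nat_lit 918528) (Net.cons (nat_lit 8) (nat_lit 67) (Net.cons (nat_lit 16) (nat_lit 231) (Net.cons (nat_lit 8) (nat_lit 7) (Net.cons (nat_lit 4) (nat_lit 655364) (Net.cons (nat_lit 2) (nat_lit 0x111102) (Net.cons (nat_lit 1) (nat_lit 0x150514) Net.nil)))))))))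

theorem q_g14_ok : Net.ok 24 q_g14 = true := by decide +kernel

noncomputable def q_g15 : Net := (Net.cons (nat_lit 1) (nat_lit 0x101040) (Net.cons (nat_lit 2) (nat_lit 0x120320) (Net.cons (nat_lit 4) (nat_lit 198912) (Net.cons (nat_lit 8) (nat_lit 22) (Net.cons (nat_lit 16) (nat_lit 94) (Net.cons (nat_lit 8) (nat_lit 72) (Net.cons (nat_lit 4) (nat_lit 331526) (Net.cons (nat_lit 2) (nat_lit 0x102122) (Net.cons (nat_lit 1) (nat_lit 0x105050) Net.nil)))))))))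

theorem q_g15_ok : Net.ok 24 q_g15 = true := by decide +kernel

noncomputable def q_V16 : List Net := [EvM22.p_g231, q_g12, q_g13, q_g14, q_g15]

theorem q_V16_ok : okE 24 q_V16 = true := (okE_cons.2 ⟨EvM22.p_g231_ok, (okE_cons.2 ⟨q_g12_ok, (okE_cons.2 ⟨q_g13_ok, (okE_cons.2 ⟨q_g14_ok, (okE_cons.2 ⟨q_g15_ok, (okE_nil 24)⟩)⟩)⟩)⟩)⟩)

noncomputable def q_g18 : Net := (Net.cons (nat_lit 1) (nat_lit 16384) (Net.cons (nat_lit 2) (nat_lit 205088) (Net.cons (nat_lit 4) (nat_lit 133120) (Net.cons (nat_lit 8) (nat_lit 32) (Net.cons (nat_lit 16) (nat_lit 60) (Net.cons (nat_lit 8) (nat_lit 226) (Net.cons (nat_lit 4) (nat_lit 133376) (Net.cons (nat_lit 2) (nat_lit 205088) (Net.cons (nat_lit 1) (nat_lit 81924) Net.nil)))))))))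

theorem q_g18_ok : Net.ok 24 q_g18 = true := by decide +kernel

noncomputable def q_V19 : List Net := [EvM22.p_g109, EvM22.p_g231, q_g18, EvM22.p_g111]

theorem q_V19_ok : okE 24 q_V19 = true := (okE_cons.2 ⟨EvM22.p_g109_ok, (okE_cons.2 ⟨EvM22.p_g231_ok, (okE_cons.2 ⟨q_g18_ok, (okE_cons.2 ⟨EvM22.p_g111_ok, (okE_nil 24)⟩)⟩)⟩)⟩)

noncomputable def Ulb_E : List Net := [EvM22.p_g135, q_g7, q_g8, q_g9, q_g10, q_g11, EvM22.p_g104, EvM22.p_g231, q_g12, q_g13, q_g14, q_g15, EvM22.p_g109, EvM22.p_g231, q_g18, EvM22.p_g111]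

theorem Ulb_E_ok : okE 24 Ulb_E = true := (okE_cons.2 ⟨EvM22.p_g135_ok, (okE_cons.2 ⟨q_g7_ok, (okE_cons.2 ⟨q_g8_ok, (okE_cons.2 ⟨q_g9_ok, (okE_cons.2 ⟨q_g10_ok, (okE_cons.2 ⟨q_g11_ok, (okE_cons.2 ⟨EvM22.p_g104_ok, (okE_cons.2 ⟨EvM22.p_g231_ok, (okE_cons.2 ⟨q_g12_ok, (okE_cons.2 ⟨q_g13_ok, (okE_cons.2 ⟨q_g14_ok, (okE_cons.2 ⟨q_g15_ok, (okE_cons.2 ⟨EvM22.p_g109_ok, (okE_cons.2 ⟨EvM22.p_g231_ok, (okE_cons.2 ⟨q_g18_ok, (okE_cons.2 ⟨EvM22.p_g111_ok, (okE_nil 24)⟩)⟩)⟩)⟩)⟩)⟩)⟩)⟩)⟩)⟩)⟩)⟩)⟩)⟩)⟩)⟩)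

noncomputable def CU : List Net := [EvM22.p_g104]

theorem CU_ok : okE 24 CU = true := (okE_cons.2 ⟨EvM22.p_g104_ok, (okE_nil 24)⟩)

noncomputable def q_g23 : Net := (Net.cons (nat_lit 1) (nat_lit 0x441440) (Net.cons (nat_lit 2) (nat_lit 74016) (Net.cons (nat_lit 4) (nat_lit 983040) (Net.cons (nat_lit 8) (nat_lit 164) (Net.cons (nat_lit 16) (nat_lit 183) (Net.cons (nat_lit 8) (nat_lit 169) (Net.cons (nat_lit 4) (nat_lit 461826) (Net.cons (nat_lit 2) (nat_lit 0x320033) (Net.cons (nat_lit 1) (nat_lit 0x510000) Net.nil)))))))))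

theorem q_g23_ok : Net.ok 24 q_g23 = true := by decide +kernel

noncomputable def q_g24 : Net := (Net.cons (nat_lit 1) (nat_lit 0x515140) (Net.cons (nat_lit 2) (nat_lit 0x220320) (Net.cons (nat_lit 4) (nat_lit 655360) (Net.cons (nat_lit 8) (nat_lit 64) (Net.cons (nat_lit 16) (nat_lit 109) (Net.cons (nat_lit 8) (nat_lit 27) (Net.cons (nat_lit 4) (nat_lit 199687) (Net.cons (nat_lit 2) (nat_lit 0x110033) (Net.cons (nat_lit 1) (nat_lit 0x555444) Net.nil)))))))))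

theorem q_g24_ok : Net.ok 24 q_g24 = true := by decide +kernel

noncomputable def q_g25 : Net := (Net.cons (nat_lit 1) (nat_lit 0x415500) (Net.cons (nat_lit 2) (nat_lit 0x130220) (Net.cons (nat_lit 4) (nat_lit 787456) (Net.cons (nat_lit 8) (nat_lit 16) (Net.cons (nat_lit 16) (nat_lit 123) (Net.cons (nat_lit 8) (nat_lit 7) (Net.cons (nat_lit 4) (nat_lit 590081) (Net.cons (nat_lit 2) (nat_lit 0x301330) (Net.cons (nat_lit 1) (nat_lit 0x515544) Net.nil)))))))))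

theorem q_g25_ok : Net.ok 24 q_g25 = true := by decide +kernel

noncomputable def q_g26 : Net := (Net.cons (nat_lit 1) (nat_lit 0x541044) (Net.cons (nat_lit 2) (nat_lit 0x313010) (Net.cons (nat_lit 4) (nat_lit 66816) (Net.cons (nat_lit 8) (nat_lit 64) (Net.cons (nat_lit 16) (nat_lit 208) (Net.cons (nat_lit 8) (nat_lit 94) (Net.cons (nat_lit 4) (nat_lit 198412) (Net.cons (nat_lit 2) (nat_lit 0x313110) (Net.cons (nat_lit 1) (nat_lit 0x451404) Net.nil)))))))))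

theorem q_g26_ok : Net.ok 24 q_g26 = true := by decide +kernel

noncomputable def q_g27 : Net := (Net.cons (nat_lit 1) (nat_lit 0x545400) (Net.cons (nat_lit 2) (nat_lit 0x130300) (Net.cons (nat_lit 4) (nat_lit 199936) (Net.cons (nat_lit 8) (nat_lit 150) (Net.cons (nat_lit 16) (nat_lit 222) (Net.cons (nat_lit 8) (nat_lit 70) (Net.cons (nat_lit 4) (nat_lit 68608) (Net.cons (nat_lit 2) (nat_lit 0x121302) (Net.cons (nat_lit 1) (nat_lit 0x545400) Net.nil)))))))))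

theorem q_g27_ok : Net.ok 24 q_g27 = true := by decide +kernel

noncomputable def q_g28 : Net := (Net.cons (nat_lit 1) (nat_lit 0x551000) (Net.cons (nat_lit 2) (nat_lit 0x110300) (Net.cons (nat_lit 4) (nat_lit 134144) (Net.cons (nat_lit 8) (nat_lit 2) (Net.cons (nat_lit 16) (nat_lit 19) (Net.cons (nat_lit 8) (nat_lit 194) (Net.cons (nat_lit 4) (nat_lit 199937) (Net.cons (nat_lit 2) (nat_lit 0x130302) (Net.cons (nat_lit 1) (nat_lit 0x551000) Net.nil)))))))))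

theorem q_g28_ok : Net.ok 24 q_g28 = true := by decide +kernel

noncomputable def q_V29 : List Net := [q_g23, q_g24, q_g25, q_g26, q_g27, q_g28]

theorem q_V29_ok : okE 24 q_V29 = true := (okE_cons.2 ⟨q_g23_ok, (okE_cons.2 ⟨q_g24_ok, (okE_cons.2 ⟨q_g25_ok, (okE_cons.2 ⟨q_g26_ok, (okE_cons.2 ⟨q_g27_ok, (okE_cons.2 ⟨q_g28_ok, (okE_nil 24)⟩)⟩)⟩)⟩)⟩)⟩)

noncomputable def q_V31 : List Net := [q_g24, q_g25, q_g26, q_g27, q_g28]

theorem q_V31_ok : okE 24 q_V31 = true := (okE_cons.2 ⟨q_g24_ok, (okE_cons.2 ⟨q_g25_ok, (okE_cons.2 ⟨q_g26_ok, (okE_cons.2 ⟨q_g27_ok, (okE_cons.2 ⟨q_g28_ok, (okE_nil 24)⟩)⟩)⟩)⟩)⟩)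

noncomputable def q_V32 : List Net := [q_g25, q_g26, q_g27, q_g28]

theorem q_V32_ok : okE 24 q_V32 = true := (okE_cons.2 ⟨q_g25_ok, (okE_cons.2 ⟨q_g26_ok, (okE_cons.2 ⟨q_g27_ok, (okE_cons.2 ⟨q_g28_ok, (okE_nil 24)⟩)⟩)⟩)⟩)

noncomputable def q_V33 : List Net := [q_g27, q_g28]

theorem q_V33_ok : okE 24 q_V33 = true := (okE_cons.2 ⟨q_g27_ok, (okE_cons.2 ⟨q_g28_ok, (okE_nil 24)⟩)⟩)

noncomputable def q_V34 : List Net := []

theorem q_V34_ok : okE 24 q_V34 = true := (okE_nil 24)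

noncomputable def CU_cnt_EG : List Net := [q_g27, q_g28, q_g25, q_g26, q_g24, q_g23, EvM22.p_g22, EvM22.p_g1, EvM22.p_g2, EvM22.p_g29, EvM22.p_g25, EvM22.p_g26, EvM22.p_g36, EvM22.p_g32, EvM22.p_g42, EvM22.p_g33, EvM22.p_g39, EvM22.p_g50, EvM22.p_g45, EvM22.p_g46, EvM22.p_g47, EvM22.p_g59, EvM22.p_g60, EvM22.p_g61, EvM22.p_g62, EvM22.p_g53, EvM22.p_g54, EvM22.p_g55, EvM22.p_g56]

theorem CU_cnt_EG_ok : okE 24 CU_cnt_EG = true := (okE_cons.2 ⟨q_g27_ok, (okE_cons.2 ⟨q_g28_ok, (okE_cons.2 ⟨q_g25_ok, (okE_cons.2 ⟨q_g26_ok, (okE_cons.2 ⟨q_g24_ok, (okE_cons.2 ⟨q_g23_ok, (okE_cons.2 ⟨EvM22.p_g22_ok, (okE_cons.2 ⟨EvM22.p_g1_ok, (okE_cons.2 ⟨EvM22.p_g2_ok, (okE_cons.2 ⟨EvM22.p_g29_ok, (okE_cons.2 ⟨EvM22.p_g25_ok, (okE_cons.2 ⟨EvM22.p_g26_ok, (okE_cons.2 ⟨EvM22.p_g36_ok, (okE_cons.2 ⟨EvM22.p_g32_ok, (okE_cons.2 ⟨EvM22.p_g42_ok, (okE_cons.2 ⟨EvM22.p_g33_ok, (okE_cons.2 ⟨EvM22.p_g39_ok,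 (okE_cons.2 ⟨EvM22.p_g50_ok, (okE_cons.2 ⟨EvM22.p_g45_ok, (okE_cons.2 ⟨EvM22.p_g46_ok, (okE_cons.2 ⟨EvM22.p_g47_ok, (okE_cons.2 ⟨EvM22.p_g59_ok, (okE_cons.2 ⟨EvM22.p_g60_ok, (okE_cons.2 ⟨EvM22.p_g61_ok, (okE_cons.2 ⟨EvM22.p_g62_ok, (okE_cons.2 ⟨EvM22.p_g53_ok, (okE_cons.2 ⟨EvM22.p_g54_ok, (okE_cons.2 ⟨EvM22.p_g55_ok, (okE_cons.2 ⟨EvM22.p_g56_ok, (okE_nil 24)⟩)⟩)⟩)⟩)⟩)⟩)⟩)⟩)⟩)⟩)⟩)⟩)⟩)⟩)⟩)⟩)⟩)⟩)⟩)⟩)⟩)⟩)⟩)⟩)⟩)⟩)⟩)⟩)⟩)

noncomputable def EZ : List Net := [EvM22.p_g104]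

theorem EZ_ok : okE 24 EZ = true := (okE_cons.2 ⟨EvM22.p_g104_ok, (okE_nil 24)⟩)

noncomputable def q_g35 : Net := (Net.cons (nat_lit 1) (nat_lit 0x555555) Net.nil)

theorem q_g35_ok : Net.ok 24 q_g35 = true := by decide +kernel

noncomputable def q_g36 : Net := (Net.cons (nat_lit 1) (nat_lit 0x140144) (Net.cons (nat_lit 2) (nat_lit 0x122200) (Net.cons (nat_lit 4) (nat_lit 918528) (Net.cons (nat_lit 8) (nat_lit 1) (Net.cons (nat_lit 16) (nat_lit 225) (Net.cons (nat_lit 8) (nat_lit 23) (Net.cons (nat_lit 4) (nat_lit 656140) (Net.cons (nat_lit 2) (nat_lit 0x123320) (Net.cons (nat_lit 1) (nat_lit 0x110100) Net.nil)))))))))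

theorem q_g36_ok : Net.ok 24 q_g36 = true := by decide +kernel

noncomputable def q_g37 : Net := (Net.cons (nat_lit 1) (nat_lit 65600) (Net.cons (nat_lit 2) (nat_lit 0x232100) (Net.cons (nat_lit 4) (nat_lit 852480) (Net.cons (nat_lit 8) (nat_lit 5) (Net.cons (nat_lit 16) (nat_lit 205) (Net.cons (nat_lit 8) (nat_lit 105) (Net.cons (nat_lit 4) (nat_lit 790020) (Net.cons (nat_lit 2) (nat_lit 0x322320) (Net.cons (nat_lit 1) (nat_lit 0x104540) Net.nil)))))))))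

theorem q_g37_ok : Net.ok 24 q_g37 = true := by decide +kernel

noncomputable def q_g38 : Net := (Net.cons (nat_lit 1) (nat_lit 20544) (Net.cons (nat_lit 2) (nat_lit 0x312100) (Net.cons (nat_lit 4) (nat_lit 256) (Net.cons (nat_lit 8) (nat_lit 137) (Net.cons (nat_lit 16) (nat_lit 201) (Net.cons (nat_lit 8) (nat_lit 57) (Net.cons (nat_lit 4) (nat_lit 1026) (Net.cons (nat_lit 2) (nat_lit 0x213200) (Net.cons (nat_lit 1) (nat_lit 0x105000) Net.nil)))))))))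

theorem q_g38_ok : Net.ok 24 q_g38 = true := by decide +kernel

noncomputable def q_g39 : Net := (Net.cons (nat_lit 1) (nat_lit 0x454500) (Net.cons (nat_lit 2) (nat_lit 16) (Net.cons (nat_lit 4) (nat_lit 723456) (Net.cons (nat_lit 8) (nat_lit 60) (Net.cons (nat_lit 16) (nat_lit 188) (Net.cons (nat_lit 8) (nat_lit 128) (Net.cons (nat_lit 4) (nat_lit 197640) (Net.cons (nat_lit 2) (nat_lit 0x222010) (Net.cons (nat_lit 1) (nat_lit 0x454104) Net.nil)))))))))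

theorem q_g39_ok : Net.ok 24 q_g39 = true := by decide +kernel

noncomputable def EX : List Net := [q_g37, q_g38, q_g39]

theorem EX_ok : okE 24 EX = true := (okE_cons.2 ⟨q_g37_ok, (okE_cons.2 ⟨q_g38_ok, (okE_cons.2 ⟨q_g39_ok, (okE_nil 24)⟩)⟩)⟩)

noncomputable def q_g40 : Net := (Net.cons (nat_lit 1) (nat_lit 0x440040) (Net.cons (nat_lit 2) (nat_lit 201216) (Net.cons (nat_lit 4) (nat_lit 524544) (Net.cons (nat_lit 8) (nat_lit 33) (Net.cons (nat_lit 16) (nat_lit 177) (Net.cons (nat_lit 8) (nat_lit 119) (Net.cons (nat_lit 4) (nat_lit 658688) (Net.cons (nat_lit 2) (nat_lit 0x221132) (Net.cons (nat_lit 1) (nat_lit 0x454054) Net.nil)))))))))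

theorem q_g40_ok : Net.ok 24 q_g40 = true := by decide +kernel

noncomputable def KZ : List Net := [q_g37, q_g38, q_g39, q_g40, EvM22.p_g134]

theorem KZ_ok : okE 24 KZ = true := (okE_cons.2 ⟨q_g37_ok, (okE_cons.2 ⟨q_g38_ok, (okE_cons.2 ⟨q_g39_ok, (okE_cons.2 ⟨q_g40_ok, (okE_cons.2 ⟨EvM22.p_g134_ok, (okE_nil 24)⟩)⟩)⟩)⟩)⟩)

noncomputable def q_g41 : Net := (Net.cons (nat_lit 1) (nat_lit 0x441004) (Net.cons (nat_lit 2) (nat_lit 0x121020) (Net.cons (nat_lit 4) (nat_lit 2048) (Net.cons (nat_lit 8) (nat_lit 108) (Net.cons (nat_lit 16) (nat_lit 108) (Net.cons (nat_lit 8) (nat_lit 170) (Net.cons (nat_lit 4) (nat_lit 657408) (Net.cons (nat_lit 2) (nat_lit 0x300230) (Net.cons (nat_lit 1) (nat_lit 0x554000) Net.nil)))))))))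

theorem q_g41_ok : Net.ok 24 q_g41 = true := by decide +kernel

noncomputable def q_g42 : Net := (Net.cons (nat_lit 1) (nat_lit 0x111500) (Net.cons (nat_lit 2) (nat_lit 0x222110) (Net.cons (nat_lit 4) (nat_lit 986112) (Net.cons (nat_lit 8) (nat_lit 144) (Net.cons (nat_lit 16) (nat_lit 240) (Net.cons (nat_lit 8) (nat_lit 200) (Net.cons (nat_lit 4) (nat_lit 460804) (Net.cons (nat_lit 2) (nat_lit 0x331102) (Net.cons (nat_lit 1) (nat_lit 0x111110) Net.nil)))))))))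

theorem q_g42_ok : Net.ok 24 q_g42 = true := by decide +kernel

noncomputable def q_g43 : Net := (Net.cons (nat_lit 1) (nat_lit 0x450114) (Net.cons (nat_lit 2) (nat_lit 0x111310) (Net.cons (nat_lit 4) (nat_lit 722176) (Net.cons (nat_lit 8) (nat_lit 224) (Net.cons (nat_lit 16) (nat_lit 240) (Net.cons (nat_lit 8) (nat_lit 214) (Net.cons (nat_lit 4) (nat_lit 983300) (Net.cons (nat_lit 2) (nat_lit 0x323302) (Net.cons (nat_lit 1) (nat_lit 0x454510) Net.nil)))))))))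

theorem q_g43_ok : Net.ok 24 q_g43 = true := by decide +kernel

noncomputable def q_V44 : List Net := [q_g41, EvM22.p_g232, q_g42, q_g43]

theorem q_V44_ok : okE 24 q_V44 = true := (okE_cons.2 ⟨q_g41_ok, (okE_cons.2 ⟨EvM22.p_g232_ok, (okE_cons.2 ⟨q_g42_ok, (okE_cons.2 ⟨q_g43_ok, (okE_nil 24)⟩)⟩)⟩)⟩)

noncomputable def q_V46 : List Net := [EvM22.p_g104, EvM22.p_g111, EvM22.p_g134, EvM22.p_g110]

theorem q_V46_ok : okE 24 q_V46 = true := (okE_cons.2 ⟨EvM22.p_g104_ok, (okE_cons.2 ⟨EvM22.p_g111_ok, (okE_cons.2 ⟨EvM22.p_g134_ok, (okE_cons.2 ⟨EvM22.p_g110_ok, (okE_nil 24)⟩)⟩)⟩)⟩)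

noncomputable def KZlb_E : List Net := [q_g37, q_g38, q_g39, q_g40, EvM22.p_g134, q_g41, EvM22.p_g232, q_g42, q_g43, EvM22.p_g104, EvM22.p_g111, EvM22.p_g134, EvM22.p_g110]

theorem KZlb_E_ok : okE 24 KZlb_E = true := (okE_cons.2 ⟨q_g37_ok, (okE_cons.2 ⟨q_g38_ok, (okE_cons.2 ⟨q_g39_ok, (okE_cons.2 ⟨q_g40_ok, (okE_cons.2 ⟨EvM22.p_g134_ok, (okE_cons.2 ⟨q_g41_ok, (okE_cons.2 ⟨EvM22.p_g232_ok, (okE_cons.2 ⟨q_g42_ok, (okE_cons.2 ⟨q_g43_ok, (okE_cons.2 ⟨EvM22.p_g104_ok, (okE_cons.2 ⟨EvM22.p_g111_ok, (okE_cons.2 ⟨EvM22.p_g134_ok, (okE_cons.2 ⟨EvM22.p_g110_ok, (okE_nil 24)⟩)⟩)⟩)⟩)⟩)⟩)⟩)⟩)⟩)⟩)⟩)⟩)⟩)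

noncomputable def q_g48 : Net := (Net.cons (nat_lit 1) (nat_lit 0x104540) (Net.cons (nat_lit 2) (nat_lit 0x322320) (Net.cons (nat_lit 4) (nat_lit 2560) (Net.cons (nat_lit 8) (nat_lit 13) (Net.cons (nat_lit 16) (nat_lit 205) (Net.cons (nat_lit 8) (nat_lit 97) (Net.cons (nat_lit 4) (nat_lit 591372) (Net.cons (nat_lit 2) (nat_lit 0x232100) (Net.cons (nat_lit 1) (nat_lit 65600) Net.nil)))))))))

theorem q_g48_ok : Net.ok 24 q_g48 = true := by decide +kernel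

noncomputable def q_V49 : List Net := [q_g48]

theorem q_V49_ok : okE 24 q_V49 = true := (okE_cons.2 ⟨q_g48_ok, (okE_nil 24)⟩)

noncomputable def q_g51 : Net := (Net.cons (nat_lit 1) (nat_lit 0x400504) (Net.cons (nat_lit 2) (nat_lit 0x102020) (Net.cons (nat_lit 4) (nat_lit 3584) (Net.cons (nat_lit 8) (nat_lit 9) (Net.cons (nat_lit 16) (nat_lit 201) (Net.cons (nat_lit 8) (nat_lit 159) (Net.cons (nat_lit 4) (nat_lit 918284) (Net.cons (nat_lit 2) (nat_lit 0x123132) (Net.cons (nat_lit 1) (nat_lit 0x554104) Net.nil)))))))))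

theorem q_g51_ok : Net.ok 24 q_g51 = true := by decide +kernel

noncomputable def q_V52 : List Net := [EvM22.p_g236, q_g51, EvM22.p_g109]

theorem q_V52_ok : okE 24 q_V52 = true := (okE_cons.2 ⟨EvM22.p_g236_ok, (okE_cons.2 ⟨q_g51_ok, (okE_cons.2 ⟨EvM22.p_g109_ok, (okE_nil 24)⟩)⟩)⟩)

noncomputable def q_V54 : List Net := [q_g51]

theorem q_V54_ok : okE 24 q_V54 = true := (okE_cons.2 ⟨q_g51_ok, (okE_nil 24)⟩)

noncomputable def q_V56 : List Net := [EvM22.p_g225, EvM22.p_g104, EvM22.p_g235]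

theorem q_V56_ok : okE 24 q_V56 = true := (okE_cons.2 ⟨EvM22.p_g225_ok, (okE_cons.2 ⟨EvM22.p_g104_ok, (okE_cons.2 ⟨EvM22.p_g235_ok, (okE_nil 24)⟩)⟩)⟩)

noncomputable def q_V58 : List Net := [EvM22.p_g225, EvM22.p_g109, q_g10]

theorem q_V58_ok : okE 24 q_V58 = true := (okE_cons.2 ⟨EvM22.p_g225_ok, (okE_cons.2 ⟨EvM22.p_g109_ok, (okE_cons.2 ⟨q_g10_ok, (okE_nil 24)⟩)⟩)⟩)

noncomputable def EXo_E3 : List Net := []

theorem EXo_E3_ok : okE 24 EXo_E3 = true := (okE_nil 24)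

noncomputable def EXo_G2 : List Net := [EvM22.p_g225, EvM22.p_g109, q_g10]

theorem EXo_G2_ok : okE 24 EXo_G2 = true := (okE_cons.2 ⟨EvM22.p_g225_ok, (okE_cons.2 ⟨EvM22.p_g109_ok, (okE_cons.2 ⟨q_g10_ok, (okE_nil 24)⟩)⟩)⟩)

noncomputable def EXo_E2 : List Net := [EvM22.p_g225, EvM22.p_g109, q_g10, EvM22.p_g104, EvM22.p_g235]

theorem EXo_E2_ok : okE 24 EXo_E2 = true := (okE_cons.2 ⟨EvM22.p_g225_ok, (okE_cons.2 ⟨EvM22.p_g109_ok, (okE_cons.2 ⟨q_g10_ok, (okE_cons.2 ⟨EvM22.p_g104_ok, (okE_cons.2 ⟨EvM22.p_g235_ok, (okE_nil 24)⟩)⟩)⟩)⟩)⟩)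

noncomputable def EXo_G1 : List Net := [q_g51, EvM22.p_g225, EvM22.p_g109, q_g10, EvM22.p_g104, EvM22.p_g235]

theorem EXo_G1_ok : okE 24 EXo_G1 = true := (okE_cons.2 ⟨q_g51_ok, (okE_cons.2 ⟨EvM22.p_g225_ok, (okE_cons.2 ⟨EvM22.p_g109_ok, (okE_cons.2 ⟨q_g10_ok, (okE_cons.2 ⟨EvM22.p_g104_ok, (okE_cons.2 ⟨EvM22.p_g235_ok, (okE_nil 24)⟩)⟩)⟩)⟩)⟩)⟩)

noncomputable def EXo_E1 : List Net := [q_g51, EvM22.p_g236, EvM22.p_g225, EvM22.p_g109, q_g10, EvM22.p_g104, EvM22.p_g235]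

theorem EXo_E1_ok : okE 24 EXo_E1 = true := (okE_cons.2 ⟨q_g51_ok, (okE_cons.2 ⟨EvM22.p_g236_ok, (okE_cons.2 ⟨EvM22.p_g225_ok, (okE_cons.2 ⟨EvM22.p_g109_ok, (okE_cons.2 ⟨q_g10_ok, (okE_cons.2 ⟨EvM22.p_g104_ok, (okE_cons.2 ⟨EvM22.p_g235_ok, (okE_nil 24)⟩)⟩)⟩)⟩)⟩)⟩)⟩)

noncomputable def EXo_G0 : List Net := [q_g48, q_g51, EvM22.p_g236, EvM22.p_g225, EvM22.p_g109, q_g10, EvM22.p_g104, EvM22.p_g235]

theorem EXo_G0_ok : okE 24 EXo_G0 = true := (okE_cons.2 ⟨q_g48_ok, (okE_cons.2 ⟨q_g51_ok, (okE_cons.2 ⟨EvM22.p_g236_ok, (okE_cons.2 ⟨EvM22.p_g225_ok, (okE_cons.2 ⟨EvM22.p_g109_ok, (okE_cons.2 ⟨q_g10_ok, (okE_cons.2 ⟨EvM22.p_g104_ok, (okE_cons.2 ⟨EvM22.p_g235_ok, (okE_nil 24)⟩)⟩)⟩)⟩)⟩)⟩)⟩)⟩)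

noncomputable def EXo_E0 : List Net := [q_g48, q_g37, q_g38, q_g39, q_g51, EvM22.p_g236, EvM22.p_g225, EvM22.p_g109, q_g10, EvM22.p_g104, EvM22.p_g235]

theorem EXo_E0_ok : okE 24 EXo_E0 = true := (okE_cons.2 ⟨q_g48_ok, (okE_cons.2 ⟨q_g37_ok, (okE_cons.2 ⟨q_g38_ok, (okE_cons.2 ⟨q_g39_ok, (okE_cons.2 ⟨q_g51_ok, (okE_cons.2 ⟨EvM22.p_g236_ok, (okE_cons.2 ⟨EvM22.p_g225_ok, (okE_cons.2 ⟨EvM22.p_g109_ok, (okE_cons.2 ⟨q_g10_ok, (okE_cons.2 ⟨EvM22.p_g104_ok, (okE_cons.2 ⟨EvM22.p_g235_ok, (okE_nil 24)⟩)⟩)⟩)⟩)⟩)⟩)⟩)⟩)⟩)⟩)⟩)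

noncomputable def q_g68 : Net := (Net.cons (nat_lit 1) (nat_lit 0x105400) (Net.cons (nat_lit 2) (nat_lit 8736) (Net.cons (nat_lit 4) (nat_lit 590848) (Net.cons (nat_lit 8) (nat_lit 114) (Net.cons (nat_lit 16) (nat_lit 242) (Net.cons (nat_lit 4) (nat_lit 790280) (Net.cons (nat_lit 2) (nat_lit 0x130002) (Net.cons (nat_lit 1) (nat_lit 0x115550) Net.nil))))))))

theorem q_g68_ok : Net.ok 24 q_g68 = true := by decide +kernel

noncomputable def q_g69 : Net := (Net.cons (nat_lit 1) (nat_lit 0x440500) (Net.cons (nat_lit 2) (nat_lit 0x132310) (Net.cons (nat_lit 4) (nat_lit 786432) (Net.cons (nat_lit 8) (nat_lit 148) (Net.cons (nat_lit 16) (nat_lit 157) (Net.cons (nat_lit 8) (nat_lit 13) (Net.cons (nat_lit 4) (nat_lit 461065) (Net.cons (nat_lit 2) (nat_lit 0x132310) (Net.cons (nat_lit 1) (nat_lit 0x440500) Net.nil)))))))))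

theorem q_g69_ok : Net.ok 24 q_g69 = true := by decide +kernel

noncomputable def UA : List Net := [EvM22.p_g135, q_g7]

theorem UA_ok : okE 24 UA = true := (okE_cons.2 ⟨EvM22.p_g135_ok, (okE_cons.2 ⟨q_g7_ok, (okE_nil 24)⟩)⟩)

noncomputable def UB : List Net := [q_g8, q_g9, q_g10, q_g11, EvM22.p_g104]

theorem UB_ok : okE 24 UB = true := (okE_cons.2 ⟨q_g8_ok, (okE_cons.2 ⟨q_g9_ok, (okE_cons.2 ⟨q_g10_ok, (okE_cons.2 ⟨q_g11_ok, (okE_cons.2 ⟨EvM22.p_g104_ok, (okE_nil 24)⟩)⟩)⟩)⟩)⟩)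

noncomputable def q_g71 : Net := (Net.cons (nat_lit 1) (nat_lit 0x504510) (Net.cons (nat_lit 2) (nat_lit 12800) (Net.cons (nat_lit 4) (nat_lit 788480) (Net.cons (nat_lit 8) (nat_lit 8) (Net.cons (nat_lit 16) (nat_lit 13) (Net.cons (nat_lit 8) (nat_lit 152) (Net.cons (nat_lit 4) (nat_lit 592386) (Net.cons (nat_lit 2) (nat_lit 0x113201) (Net.cons (nat_lit 1) (nat_lit 0x504510) Net.nil)))))))))

theorem q_g71_ok : Net.ok 24 q_g71 = true := by decide +kernel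

noncomputable def Y : List Net := [q_g69, q_g71]

theorem Y_ok : okE 24 Y = true := (okE_cons.2 ⟨q_g69_ok, (okE_cons.2 ⟨q_g71_ok, (okE_nil 24)⟩)⟩)

noncomputable def q_V73 : List Net := [q_g28]

theorem q_V73_ok : okE 24 q_V73 = true := (okE_cons.2 ⟨q_g28_ok, (okE_nil 24)⟩)

noncomputable def q_V75 : List Net := []

theorem q_V75_ok : okE 24 q_V75 = true := (okE_nil 24)

noncomputable def Y_cnt_EG : List Net := [q_g27, q_g28, q_g25, q_g26, q_g24, q_g23, EvM22.p_g22, EvM22.p_g1, EvM22.p_g2, EvM22.p_g29, EvM22.p_g25, EvM22.p_g26, EvM22.p_g36, EvM22.p_g32, EvM22.p_g42, EvM22.p_g33, EvM22.p_g39, EvM22.p_g50, EvM22.p_g45, EvM22.p_g46, EvM22.p_g47, EvM22.p_g59, EvM22.p_g60, EvM22.p_g61, EvM22.p_g62, EvM22.p_g53, EvM22.p_g54, EvM22.p_g55, EvM22.p_g56]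

theorem Y_cnt_EG_ok : okE 24 Y_cnt_EG = true := (okE_cons.2 ⟨q_g27_ok, (okE_cons.2 ⟨q_g28_ok, (okE_cons.2 ⟨q_g25_ok, (okE_cons.2 ⟨q_g26_ok, (okE_cons.2 ⟨q_g24_ok, (okE_cons.2 ⟨q_g23_ok, (okE_cons.2 ⟨EvM22.p_g22_ok, (okE_cons.2 ⟨EvM22.p_g1_ok, (okE_cons.2 ⟨EvM22.p_g2_ok, (okE_cons.2 ⟨EvM22.p_g29_ok, (okE_cons.2 ⟨EvM22.p_g25_ok, (okE_cons.2 ⟨EvM22.p_g26_ok, (okE_cons.2 ⟨EvM22.p_g36_ok, (okE_cons.2 ⟨EvM22.p_g32_ok, (okE_cons.2 ⟨EvM22.p_g42_ok, (okE_cons.2 ⟨EvM22.p_g33_ok, (okE_cons.2 ⟨EvM22.p_g39_ok, (okE_cons.2 ⟨EvM22.p_g50_ok, (okE_cons.2 ⟨EvM22.p_g45_ok, (okE_cons.2 ⟨EvM22.p_g46_ok, (okE_cons.2 ⟨EvM22.p_g47_ok, (okE_cons.2 ⟨EvM22.p_g59_ok, (okE_cons.2 ⟨EvM22.p_g60_ok, (okE_cons.2 ⟨EvM22.p_g61_ok, (okE_cons.2 ⟨EvM22.p_g62_ok, (okE_cons.2 ⟨EvM22.p_g53_ok, (okE_cons.2 ⟨EvM22.p_g54_ok, (okE_cons.2 ⟨EvM22.p_g55_ok, (okE_cons.2 ⟨EvM22.p_g56_ok, (okE_nil 24)⟩)⟩)⟩)⟩)⟩)⟩)⟩)⟩)⟩)⟩)⟩)⟩)⟩)⟩)⟩)⟩)⟩)⟩)⟩)⟩)⟩)⟩)⟩)⟩)⟩)⟩)⟩)⟩)⟩)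

noncomputable def q_g76 : Net := (Net.cons (nat_lit 1) (nat_lit 0x411100) (Net.cons (nat_lit 2) (nat_lit 0x203200) (Net.cons (nat_lit 4) (nat_lit 526336) (Net.cons (nat_lit 8) (nat_lit 128) (Net.cons (nat_lit 16) (nat_lit 182) (Net.cons (nat_lit 8) (nat_lit 200) (Net.cons (nat_lit 4) (nat_lit 657410) (Net.cons (nat_lit 2) (nat_lit 0x203200) (Net.cons (nat_lit 1) (nat_lit 0x411500) Net.nil)))))))))

theorem q_g76_ok : Net.ok 24 q_g76 = true := by decide +kernel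

noncomputable def q_g77 : Net := (Net.cons (nat_lit 1) (nat_lit 0x400100) (Net.cons (nat_lit 2) (nat_lit 0x223200) (Net.cons (nat_lit 4) (nat_lit 917504) (Net.cons (nat_lit 8) (nat_lit 40) (Net.cons (nat_lit 16) (nat_lit 234) (Net.cons (nat_lit 8) (nat_lit 164) (Net.cons (nat_lit 4) (nat_lit 394760) (Net.cons (nat_lit 2) (nat_lit 0x201000) (Net.cons (nat_lit 1) (nat_lit 0x401504) Net.nil)))))))))

theorem q_g77_ok : Net.ok 24 q_g77 = true := by decide +kernel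

noncomputable def q_g78 : Net := (Net.cons (nat_lit 1) (nat_lit 0x450000) (Net.cons (nat_lit 2) (nat_lit 0x222120) (Net.cons (nat_lit 4) (nat_lit 655360) (Net.cons (nat_lit 8) (nat_lit 4) (Net.cons (nat_lit 16) (nat_lit 150) (Net.cons (nat_lit 8) (nat_lit 44) (Net.cons (nat_lit 4) (nat_lit 196864) (Net.cons (nat_lit 2) (nat_lit 0x222120) (Net.cons (nat_lit 1) (nat_lit 0x540010) Net.nil)))))))))

theorem q_g78_ok : Net.ok 24 q_g78 = true := by decide +kernel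

noncomputable def mbu_E : List Net := [q_g76, EvM22.p_g196, q_g77, q_g78]

theorem mbu_E_ok : okE 24 mbu_E = true := (okE_cons.2 ⟨q_g76_ok, (okE_cons.2 ⟨EvM22.p_g196_ok, (okE_cons.2 ⟨q_g77_ok, (okE_cons.2 ⟨q_g78_ok, (okE_nil 24)⟩)⟩)⟩)⟩)

noncomputable def q_g79 : Net := (Net.cons (nat_lit 1) (nat_lit 0x554500) (Net.cons (nat_lit 2) (nat_lit 0x323200) (Net.cons (nat_lit 4) (nat_lit 590336) (Net.cons (nat_lit 8) (nat_lit 32) (Net.cons (nat_lit 16) (nat_lit 124) (Net.cons (nat_lit 8) (nat_lit 182) (Net.cons (nat_lit 4) (nat_lit 66564) (Net.cons (nat_lit 2) (nat_lit 0x333312) (Net.cons (nat_lit 1) (nat_lit 0x554450) Net.nil)))))))))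

theorem q_g79_ok : Net.ok 24 q_g79 = true := by decide +kernel

noncomputable def q_g80 : Net := (Net.cons (nat_lit 1) (nat_lit 0x501100) (Net.cons (nat_lit 2) (nat_lit 0x120100) (Net.cons (nat_lit 4) (nat_lit 393472) (Net.cons (nat_lit 8) (nat_lit 33) (Net.cons (nat_lit 16) (nat_lit 47) (Net.cons (nat_lit 8) (nat_lit 151) (Net.cons (nat_lit 4) (nat_lit 918528) (Net.cons (nat_lit 2) (nat_lit 0x112200) (Net.cons (nat_lit 1) (nat_lit 0x514514) Net.nil)))))))))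

theorem q_g80_ok : Net.ok 24 q_g80 = true := by decide +kernel

noncomputable def mbu_T : List Net := [q_g79, q_g80]

theorem mbu_T_ok : okE 24 mbu_T = true := (okE_cons.2 ⟨q_g79_ok, (okE_cons.2 ⟨q_g80_ok, (okE_nil 24)⟩)⟩)

noncomputable def q_g81 : Net := (Net.cons (nat_lit 1) (nat_lit 0x105150) (Net.cons (nat_lit 2) (nat_lit 0x312020) (Net.cons (nat_lit 4) (nat_lit 331264) (Net.cons (nat_lit 8) (nat_lit 25) (Net.cons (nat_lit 16) (nat_lit 219) (Net.cons (nat_lit 8) (nat_lit 97) (Net.cons (nat_lit 4) (nat_lit 590858) (Net.cons (nat_lit 2) (nat_lit 0x303132) (Net.cons (nat_lit 1) (nat_lit 0x111500) Net.nil)))))))))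

theorem q_g81_ok : Net.ok 24 q_g81 = true := by decide +kernel

noncomputable def q_g82 : Net := (Net.cons (nat_lit 1) (nat_lit 0x554040) (Net.cons (nat_lit 2) (nat_lit 0x310200) (Net.cons (nat_lit 4) (nat_lit 65792) (Net.cons (nat_lit 8) (nat_lit 10) (Net.cons (nat_lit 16) (nat_lit 218) (Net.cons (nat_lit 8) (nat_lit 120) (Net.cons (nat_lit 4) (nat_lit 592640) (Net.cons (nat_lit 2) (nat_lit 0x121322) (Net.cons (nat_lit 1) (nat_lit 0x501140) Net.nil)))))))))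

theorem q_g82_ok : Net.ok 24 q_g82 = true := by decide +kernel

noncomputable def q_V83 : List Net := [q_g81, q_g82]

theorem q_V83_ok : okE 24 q_V83 = true := (okE_cons.2 ⟨q_g81_ok, (okE_cons.2 ⟨q_g82_ok, (okE_nil 24)⟩)⟩)

noncomputable def q_g85 : Net := (Net.cons (nat_lit 1) (nat_lit 344320) (Net.cons (nat_lit 2) (nat_lit 0x233020) (Net.cons (nat_lit 4) (nat_lit 131584) (Net.cons (nat_lit 8) (nat_lit 137) (Net.cons (nat_lit 16) (nat_lit 185) (Net.cons (nat_lit 8) (nat_lit 139) (Net.cons (nat_lit 4) (nat_lit 132616) (Net.cons (nat_lit 2) (nat_lit 0x233020) (Net.cons (nat_lit 1) (nat_lit 344320) Net.nil)))))))))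

theorem q_g85_ok : Net.ok 24 q_g85 = true := by decide +kernel

noncomputable def q_g86 : Net := (Net.cons (nat_lit 1) (nat_lit 0x415014) (Net.cons (nat_lit 2) (nat_lit 0x130010) (Net.cons (nat_lit 4) (nat_lit 525824) (Net.cons (nat_lit 8) (nat_lit 44) (Net.cons (nat_lit 16) (nat_lit 238) (Net.cons (nat_lit 8) (nat_lit 76) (Net.cons (nat_lit 4) (nat_lit 3076) (Net.cons (nat_lit 2) (nat_lit 0x321230) (Net.cons (nat_lit 1) (nat_lit 0x415114) Net.nil)))))))))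

theorem q_g86_ok : Net.ok 24 q_g86 = true := by decide +kernel

noncomputable def q_V87 : List Net := [q_g85, q_g86]

theorem q_V87_ok : okE 24 q_V87 = true := (okE_cons.2 ⟨q_g85_ok, (okE_cons.2 ⟨q_g86_ok, (okE_nil 24)⟩)⟩)

noncomputable def q_g89 : Net := (Net.cons (nat_lit 1) (nat_lit 0x140010) (Net.cons (nat_lit 2) (nat_lit 0x301020) (Net.cons (nat_lit 4) (nat_lit 196864) (Net.cons (nat_lit 8) (nat_lit 169) (Net.cons (nat_lit 16) (nat_lit 185) (Net.cons (nat_lit 8) (nat_lit 169) (Net.cons (nat_lit 4) (nat_lit 724232) (Net.cons (nat_lit 2) (nat_lit 0x301020) (Net.cons (nat_lit 1) (nat_lit 0x140110) Net.nil)))))))))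

theorem q_g89_ok : Net.ok 24 q_g89 = true := by decide +kernel

noncomputable def q_g90 : Net := (Net.cons (nat_lit 1) (nat_lit 0x115000) (Net.cons (nat_lit 2) (nat_lit 0x200300) (Net.cons (nat_lit 4) (nat_lit 525056) (Net.cons (nat_lit 8) (nat_lit 71) (Net.cons (nat_lit 16) (nat_lit 79) (Net.cons (nat_lit 8) (nat_lit 119) (Net.cons (nat_lit 4) (nat_lit 790272) (Net.cons (nat_lit 2) (nat_lit 0x211300) (Net.cons (nat_lit 1) (nat_lit 0x115410) Net.nil)))))))))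

theorem q_g90_ok : Net.ok 24 q_g90 = true := by decide +kernel

noncomputable def q_V91 : List Net := [q_g89, q_g90]

theorem q_V91_ok : okE 24 q_V91 = true := (okE_cons.2 ⟨q_g89_ok, (okE_cons.2 ⟨q_g90_ok, (okE_nil 24)⟩)⟩)

noncomputable def mbu_lb_E : List Net := [q_g79, q_g80, q_g81, q_g82, q_g85, q_g86, q_g89, q_g90]

theorem mbu_lb_E_ok : okE 24 mbu_lb_E = true := (okE_cons.2 ⟨q_g79_ok, (okE_cons.2 ⟨q_g80_ok, (okE_cons.2 ⟨q_g81_ok, (okE_cons.2 ⟨q_g82_ok, (okE_cons.2 ⟨q_g85_ok, (okE_cons.2 ⟨q_g86_ok, (okE_cons.2 ⟨q_g89_ok, (okE_cons.2 ⟨q_g90_ok, (okE_nil 24)⟩)⟩)⟩)⟩)⟩)⟩)⟩)⟩)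

noncomputable def q_g95 : Net := (Net.cons (nat_lit 1) (nat_lit 267584) (Net.cons (nat_lit 2) (nat_lit 12800) (Net.cons (nat_lit 4) (nat_lit 393728) (Net.cons (nat_lit 8) (nat_lit 32) (Net.cons (nat_lit 16) (nat_lit 120) (Net.cons (nat_lit 8) (nat_lit 204) (Net.cons (nat_lit 4) (nat_lit 65542) (Net.cons (nat_lit 2) (nat_lit 143408) (Net.cons (nat_lit 1) (nat_lit 0x111554) Net.nil)))))))))

theorem q_g95_ok : Net.ok 24 q_g95 = true := by decide +kernel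

noncomputable def mbu_L : List Net := [q_g95]

theorem mbu_L_ok : okE 24 mbu_L = true := (okE_cons.2 ⟨q_g95_ok, (okE_nil 24)⟩)

noncomputable def q_g96 : Net := (Net.cons (nat_lit 1) (nat_lit 0x110100) (Net.cons (nat_lit 2) (nat_lit 0x311000) (Net.cons (nat_lit 4) (nat_lit 512) (Net.cons (nat_lit 8) (nat_lit 68) (Net.cons (nat_lit 16) (nat_lit 86) (Net.cons (nat_lit 8) (nat_lit 100) (Net.cons (nat_lit 4) (nat_lit 526856) (Net.cons (nat_lit 2) (nat_lit 0x311000) (Net.cons (nat_lit 1) (nat_lit 0x110100) Net.nil)))))))))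

theorem q_g96_ok : Net.ok 24 q_g96 = true := by decide +kernel

noncomputable def q_g97 : Net := (Net.cons (nat_lit 1) (nat_lit 0x401140) (Net.cons (nat_lit 2) (nat_lit 65792) (Net.cons (nat_lit 4) (nat_lit 655872) (Net.cons (nat_lit 8) (nat_lit 19) (Net.cons (nat_lit 16) (nat_lit 27) (Net.cons (nat_lit 8) (nat_lit 55) (Net.cons (nat_lit 4) (nat_lit 721664) (Net.cons (nat_lit 2) (nat_lit 196880) (Net.cons (nat_lit 1) (nat_lit 0x401140) Net.nil)))))))))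

theorem q_g97_ok : Net.ok 24 q_g97 = true := by decide +kernel

noncomputable def q_g98 : Net := (Net.cons (nat_lit 1) (nat_lit 327952) (Net.cons (nat_lit 2) (nat_lit 0x300300) (Net.cons (nat_lit 4) (nat_lit 131072) (Net.cons (nat_lit 8) (nat_lit 169) (Net.cons (nat_lit 16) (nat_lit 169) (Net.cons (nat_lit 8) (nat_lit 191) (Net.cons (nat_lit 4) (nat_lit 919552) (Net.cons (nat_lit 2) (nat_lit 0x322300) (Net.cons (nat_lit 1) (nat_lit 327952) Net.nil)))))))))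

theorem q_g98_ok : Net.ok 24 q_g98 = true := by decide +kernel

noncomputable def mbt_E : List Net := [EvM22.p_g253, q_g96, q_g97, q_g98]

theorem mbt_E_ok : okE 24 mbt_E = true := (okE_cons.2 ⟨EvM22.p_g253_ok, (okE_cons.2 ⟨q_g96_ok, (okE_cons.2 ⟨q_g97_ok, (okE_cons.2 ⟨q_g98_ok, (okE_nil 24)⟩)⟩)⟩)⟩)

noncomputable def q_g99 : Net := (Net.cons (nat_lit 1) (nat_lit 345360) (Net.cons (nat_lit 2) (nat_lit 0x232210) (Net.cons (nat_lit 4) (nat_lit 788992) (Net.cons (nat_lit 8) (nat_lit 148) (Net.cons (nat_lit 16) (nat_lit 220) (Net.cons (nat_lit 8) (nat_lit 120) (Net.cons (nat_lit 4) (nat_lit 787974) (Net.cons (nat_lit 2) (nat_lit 0x212132) (Net.cons (nat_lit 1) (nat_lit 87316) Net.nil)))))))))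

theorem q_g99_ok : Net.ok 24 q_g99 = true := by decide +kernel

noncomputable def q_g100 : Net := (Net.cons (nat_lit 1) (nat_lit 0x501054) (Net.cons (nat_lit 2) (nat_lit 74032) (Net.cons (nat_lit 8) (nat_lit 154) (Net.cons (nat_lit 16) (nat_lit 158) (Net.cons (nat_lit 8) (nat_lit 6) (Net.cons (nat_lit 4) (nat_lit 264) (Net.cons (nat_lit 2) (nat_lit 65826) (Net.cons (nat_lit 1) (nat_lit 0x440544) Net.nil))))))))

theorem q_g100_ok : Net.ok 24 q_g100 = true := by decide +kernel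

noncomputable def mbt_T : List Net := [q_g99, q_g100]

theorem mbt_T_ok : okE 24 mbt_T = true := (okE_cons.2 ⟨q_g99_ok, (okE_cons.2 ⟨q_g100_ok, (okE_nil 24)⟩)⟩)

noncomputable def q_V101 : List Net := [EvM22.p_g264, EvM22.p_g265]

theorem q_V101_ok : okE 24 q_V101 = true := (okE_cons.2 ⟨EvM22.p_g264_ok, (okE_cons.2 ⟨EvM22.p_g265_ok, (okE_nil 24)⟩)⟩)

noncomputable def mbt_lb_E : List Net := [q_g99, q_g100, EvM22.p_g264, EvM22.p_g265]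

theorem mbt_lb_E_ok : okE 24 mbt_lb_E = true := (okE_cons.2 ⟨q_g99_ok, (okE_cons.2 ⟨q_g100_ok, (okE_cons.2 ⟨EvM22.p_g264_ok, (okE_cons.2 ⟨EvM22.p_g265_ok, (okE_nil 24)⟩)⟩)⟩)⟩)

noncomputable def q_g105 : Net := (Net.cons (nat_lit 1) (nat_lit 0x100440) (Net.cons (nat_lit 2) (nat_lit 0x210000) (Net.cons (nat_lit 4) (nat_lit 527104) (Net.cons (nat_lit 8) (nat_lit 144) (Net.cons (nat_lit 16) (nat_lit 144) (Net.cons (nat_lit 8) (nat_lit 172) (Net.cons (nat_lit 4) (nat_lit 264966) (Net.cons (nat_lit 2) (nat_lit 0x202000) (Net.cons (nat_lit 1) (nat_lit 0x100550) Net.nil)))))))))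

theorem q_g105_ok : Net.ok 24 q_g105 = true := by decide +kernel

noncomputable def mbt_L : List Net := [q_g105]

theorem mbt_L_ok : okE 24 mbt_L = true := (okE_cons.2 ⟨q_g105_ok, (okE_nil 24)⟩)

theorem T_s0 : Stab 24 (grp 24 EvM22.EG) [] EvM22.N_E0 887040 :=
  Stab.root' EvM22.N_E0_ok EvM22.N_eq EvM22.N_card

theorem q_le5 : grp 24 q_V4 ≤ grp 24 E3 :=
  grp_le_of_memB q_hn q_hk E3_ok q_V4_ok (ws := [nat_lit 197124, nat_lit 0x20203020204]) (by decide +kernel)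

theorem E3lb_le : grp 24 E3lb_E ≤ grp 24 E3 :=
  (grp_cons_le ((le_refl (grp 24 E3)) (toPerm_mem_grp (E := E3) (by simp [E3]))) (grp_cons_le ((le_refl (grp 24 E3)) (toPerm_mem_grp (E := E3) (by simp [E3]))) (grp_cons_le ((q_le5.trans (le_refl (grp 24 E3))) (toPerm_mem_grp (E := q_V4) (by simp [q_V4]))) (grp_cons_le ((q_le5.trans (le_refl (grp 24 E3))) (toPerm_mem_grp (E := q_V4) (by simp [q_V4]))) (grp_nil_le _)))))

noncomputable def E3lb_ch : Ch := (Ch.cons (nat_lit 2) [nat_lit 1, nat_lit 3] (Ch.cons (nat_lit 4) [nat_lit 5, nat_lit 7] Ch.nil))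

theorem E3lb_chk : Ch.chk 24 5 (lab 24 5) E3lb_E E3lb_ch 9 = true :=
  by decide +kernel

theorem E3lb_ge : 9 ≤ Nat.card (grp 24 E3) :=
  (Ch.le_card_grp q_hn E3lb_E_ok E3lb_chk).trans (Subgroup.card_le_of_le E3lb_le)

theorem x3_G : Net.toPerm 24 q_g1 ∈ (grp 24 EvM22.E) :=
  EvM22.lb_le (mem_grp_of_memB q_hn q_hk EvM22.lb_E_ok q_g1_ok (w := (nat_lit 6414)) (by decide +kernel))

theorem y3_G : Net.toPerm 24 q_g2 ∈ (grp 24 EvM22.E) :=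
  EvM22.lb_le (mem_grp_of_memB q_hn q_hk EvM22.lb_E_ok q_g2_ok (w := (nat_lit 0x170d0905)) (by decide +kernel))

theorem x3_ord : orderOf (Net.toPerm 24 q_g1) = 3 :=
  orderOf_net q_hn q_hk q_g1_ok (by decide) (ps := [3]) (by set_option linter.unusedSimpArgs false in simp [Nat.primeFactorsList_ofNat]) (by decide +kernel)

theorem y3_ord : orderOf (Net.toPerm 24 q_g2) = 3 :=
  orderOf_net q_hn q_hk q_g2_ok (by decide) (ps := [3]) (by set_option linter.unusedSimpArgs false in simp [Nat.primeFactorsList_ofNat]) (by decide +kernel)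

theorem rank3 : ¬ PRankLE 3 1 (grp 24 EvM22.E) :=
  EvG.not_rank x3_G y3_G (EvG.comm_net q_hn q_hk (by decide +kernel)) (x3_ord ▸ pow_orderOf_eq_one _) (y3_ord ▸ pow_orderOf_eq_one _)
    (by rw [← EvG.grp_pair]; exact le_trans (by norm_num) E3lb_ge)

theorem u_G_le : grp 24 EvM22.EG ≤ grp 24 u_G_X :=
  grp_le_of_memB q_hn q_hk u_G_X_ok EvM22.EG_ok (ws := [nat_lit 0x1517190b0f070d030801, nat_lit 3, nat_lit 5]) (by decide +kernel)

theorem u_G : Net.toPerm 24 EvM22.p_g90 ∉ (grp 24 EvM22.E) :=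
  EvG.not_mem_of_card (u_G_le.trans (EvG.grp_cons_le_sup _ EvM22.lb_le)) (by rw [EvM22.card_G, EvM22.N_card]; norm_num)

theorem tu_G : Net.toPerm 24 q_g6 ∈ (grp 24 EvM22.E) :=
  EvM22.lb_le (mem_grp_of_memB q_hn q_hk EvM22.lb_E_ok q_g6_ok (w := (nat_lit 0x15170d0b1107060101)) (by decide +kernel))

theorem t_G : (Net.toPerm 24 EvM22.p_g113) ∉ (grp 24 EvM22.E) :=
  Ej.nmem_of (EvG.mul_net q_hn q_hk (by decide +kernel)) tu_G u_G

theorem U_poly : Ej.Poly 24 U :=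
  Ej.poly_of q_hn q_hk U_ok (W := [(nat_lit 0, [nat_lit 33, nat_lit 4, nat_lit 2, nat_lit 8, nat_lit 24, nat_lit 32]), (nat_lit 0, [nat_lit 24, nat_lit 28, nat_lit 3, nat_lit 17, nat_lit 16]), (nat_lit 0, [nat_lit 1, nat_lit 10, nat_lit 4, nat_lit 8]), (nat_lit 0, [nat_lit 5, nat_lit 6, nat_lit 4]), (nat_lit 0, [nat_lit 1, nat_lit 2]), (nat_lit 0, [nat_lit 1]), (nat_lit 0, [])]) (by decide +kernel)

theorem q_le17 : grp 24 q_V16 ≤ grp 24 U :=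
  grp_le_of_memB q_hn q_hk U_ok q_V16_ok (ws := [nat_lit 0xa020d0d070e0e0c030a070305, nat_lit 0x80c040206010b0707060d0906, nat_lit 0xc0c0e0c0c0d0d0604080a, nat_lit 0x10e0106030704020c020306, nat_lit 0x5010e0607060204020a02050b]) (by decide +kernel)

theorem q_le20 : grp 24 q_V19 ≤ grp 24 q_V16 :=
  grp_le_of_memB q_hn q_hk q_V16_ok q_V19_ok (ws := [nat_lit 0x20a050704080204, nat_lit 0x40404060101010804, nat_lit 0x90509020305050704, nat_lit 0x3010407050a07060106]) (by decide +kernel)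

theorem Ulb_le : grp 24 Ulb_E ≤ grp 24 U :=
  (grp_cons_le ((le_refl (grp 24 U)) (toPerm_mem_grp (E := U) (by simp [U]))) (grp_cons_le ((le_refl (grp 24 U)) (toPerm_mem_grp (E := U) (by simp [U]))) (grp_cons_le ((le_refl (grp 24 U)) (toPerm_mem_grp (E := U) (by simp [U]))) (grp_cons_le ((le_refl (grp 24 U)) (toPerm_mem_grp (E := U) (by simp [U]))) (grp_cons_le ((le_refl (grp 24 U)) (toPerm_mem_grp (E := U) (by simp [U]))) (grp_cons_le ((le_refl (grp 24 U)) (toPerm_mem_grp (E := U) (by simp [U]))) (grp_cons_le ((le_refl (grp 24 U)) (toPerm_mem_grp (E := U) (by simp [U]))) (grp_cons_le ((q_le17.trans (le_refl (grp 24 U))) (toPerm_mem_grp (E := q_V16) (by simp [q_V16]))) (grp_cons_le ((q_le17.trans (le_refl (grp 24 U))) (toPerm_mem_grp (E := q_V16) (by simp [q_V16]))) (grp_cons_le ((q_le17.trans (le_refl (grp 24 U))) (toPerm_mem_grp (E := q_V16) (by simp [q_V16]))) (grp_cons_le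 ((q_le17.trans (le_refl (grp 24 U))) (toPerm_mem_grp (E := q_V16) (by simp [q_V16]))) (grp_cons_le ((q_le17.trans (le_refl (grp 24 U))) (toPerm_mem_grp (E := q_V16) (by simp [q_V16]))) (grp_cons_le ((q_le20.trans (q_le17.trans (le_refl (grp 24 U)))) (toPerm_mem_grp (E := q_V19) (by simp [q_V19]))) (grp_cons_le ((q_le20.trans (q_le17.trans (le_refl (grp 24 U)))) (toPerm_mem_grp (E := q_V19) (by simp [q_V19]))) (grp_cons_le ((q_le20.trans (q_le17.trans (le_refl (grp 24 U)))) (toPerm_mem_grp (E := q_V19) (by simp [q_V19]))) (grp_cons_le ((q_le20.trans (q_le17.trans (le_refl (grp 24 U)))) (toPerm_mem_grp (E := q_V19) (by simp [q_V19]))) (grp_nil_le _)))))))))))))))))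

noncomputable def Ulb_ch : Ch := (Ch.cons (nat_lit 13) [nat_lit 1, nat_lit 3, nat_lit 5, nat_lit 7, nat_lit 9, nat_lit 11, nat_lit 13] (Ch.cons (nat_lit 7) [nat_lit 15, nat_lit 17, nat_lit 19, nat_lit 21, nat_lit 23] (Ch.cons (nat_lit 1) [nat_lit 25, nat_lit 27, nat_lit 29, nat_lit 31] Ch.nil)))

theorem Ulb_chk : Ch.chk 24 5 (lab 24 5) Ulb_E Ulb_ch 128 = true :=
  by decide +kernel

theorem Ulb_ge : 128 ≤ Nat.card (grp 24 U) :=
  (Ch.le_card_grp q_hn Ulb_E_ok Ulb_chk).trans (Subgroup.card_le_of_le Ulb_le)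

theorem U_ge : 2 ^ 7 ≤ Nat.card (grp 24 U) :=
  le_of_eq_of_le (by norm_num) Ulb_ge

theorem q_le21 : grp 24 U ≤ grp 24 EvM22.lb_E :=
  grp_le_of_memB q_hn q_hk EvM22.lb_E_ok U_ok (ws := [nat_lit 0x1517190e090d0503, nat_lit 0x190d090b, nat_lit 0x1315190d0909050504, nat_lit 0x15050d, nat_lit 0x13150e090c07060208, nat_lit 0x1315170e0919060c0104, nat_lit 0xd091105050308]) (by decide +kernel)

theorem U_G : grp 24 U ≤ (grp 24 EvM22.E) :=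
  (q_le21).trans EvM22.lb_le

theorem q_le22 : grp 24 CU ≤ grp 24 EvM22.N_E0 :=
  grp_le_of_memB q_hn q_hk EvM22.N_E0_ok CU_ok (ws := [nat_lit 0x2b1712140e1b08]) (by decide +kernel)

theorem CU_le : grp 24 CU ≤ (grp 24 EvM22.EG) :=
  (q_le22.trans T_s0.le)

theorem CU_sym : Sym 24 (grp 24 EvM22.EG) U CU 0 :=
  Sym.of_lab q_hn q_hk U_ok CU_ok CU_le (kT := 0) (by decide +kernel)

theorem q_le30 : grp 24 q_V29 ≤ grp 24 EvM22.N_E0 :=
  grp_le_of_memB q_hn q_hk EvM22.N_E0_ok q_V29_ok (ws := [nat_lit 0x2518131f0d110a01, nat_lit 0x2117140e120701, nat_lit 0x1f211712180d092701, nat_lit 0x1f2d1812180f1307, nat_lit 0x2717112b0e080b, nat_lit 0x1f211712180e12092501]) (by decide +kernel)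

theorem T_s1 : Stab 24 (grp 24 EvM22.EG) [nat_lit 5] q_V29 40320 :=
  Stab.step (k := 5) (L := (lab 24 5)) q_hn T_s0 q_V29_ok q_le30 (c := (Ch.cons (nat_lit 12) [nat_lit 1] (Ch.cons (nat_lit 14) [nat_lit 3] (Ch.cons (nat_lit 2) [nat_lit 5, nat_lit 7] (Ch.cons (nat_lit 20) [nat_lit 9, nat_lit 11] Ch.nil))))) (by decide +kernel)

theorem T_s2 : Stab 24 (grp 24 EvM22.EG) [nat_lit 12, nat_lit 5] q_V31 1920 :=
  Stab.step (k := 5) (L := (lab 24 5)) q_hn T_s1 q_V31_ok (grp_mono (List.subset_append_right [q_g23] _)) (c := (Ch.cons (nat_lit 14) [nat_lit 1] (Ch.cons (nat_lit 2) [nat_lit 3, nat_lit 5] (Ch.cons (nat_lit 20) [nat_lit 7, nat_lit 9] Ch.nil)))) (by decide +kernel)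

theorem T_s3 : Stab 24 (grp 24 EvM22.EG) [nat_lit 14, nat_lit 12, nat_lit 5] q_V32 96 :=
  Stab.step (k := 5) (L := (lab 24 5)) q_hn T_s2 q_V32_ok (grp_mono (List.subset_append_right [q_g24] _)) (c := (Ch.cons (nat_lit 2) [nat_lit 1, nat_lit 3] (Ch.cons (nat_lit 20) [nat_lit 5, nat_lit 7] Ch.nil))) (by decide +kernel)

theorem T_s4 : Stab 24 (grp 24 EvM22.EG) [nat_lit 2, nat_lit 14, nat_lit 12, nat_lit 5] q_V33 6 :=
  Stab.step (k := 5) (L := (lab 24 5)) q_hn T_s3 q_V33_ok (grp_mono (List.subset_append_right [q_g25, q_g26] _)) (c := (Ch.cons (nat_lit 20) [nat_lit 1, nat_lit 3] Ch.nil)) (by decide +kernel)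

theorem T_s5 : Stab 24 (grp 24 EvM22.EG) [nat_lit 20, nat_lit 2, nat_lit 14, nat_lit 12, nat_lit 5] q_V34 1 :=
  Stab.step (k := 5) (L := (lab 24 5)) q_hn T_s4 q_V34_ok (grp_mono (List.subset_append_right [q_g27, q_g28] _)) (c := Ch.nil) (by decide +kernel)

theorem q_g27_T : Net.toPerm 24 q_g27 ∈ (grp 24 EvM22.EG) :=
  T_s4.le (toPerm_mem_grp (E := q_V33) (List.Mem.head _))

theorem q_g28_T : Net.toPerm 24 q_g28 ∈ (grp 24 EvM22.EG) :=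
  T_s4.le (toPerm_mem_grp (E := q_V33) (List.Mem.tail _ (List.Mem.head _)))

theorem q_g25_T : Net.toPerm 24 q_g25 ∈ (grp 24 EvM22.EG) :=
  T_s3.le (toPerm_mem_grp (E := q_V32) (List.Mem.head _))

theorem q_g26_T : Net.toPerm 24 q_g26 ∈ (grp 24 EvM22.EG) :=
  T_s3.le (toPerm_mem_grp (E := q_V32) (List.Mem.tail _ (List.Mem.head _)))

theorem q_g24_T : Net.toPerm 24 q_g24 ∈ (grp 24 EvM22.EG) :=
  T_s2.le (toPerm_mem_grp (E := q_V31) (List.Mem.head _))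

theorem q_g23_T : Net.toPerm 24 q_g23 ∈ (grp 24 EvM22.EG) :=
  T_s1.le (toPerm_mem_grp (E := q_V29) (List.Mem.head _))

theorem EvM22.p_g22_T : Net.toPerm 24 EvM22.p_g22 ∈ (grp 24 EvM22.EG) :=
  T_s0.le (toPerm_mem_grp (E := EvM22.N_E0) (List.Mem.head _))

theorem EvM22.p_g1_T : Net.toPerm 24 EvM22.p_g1 ∈ (grp 24 EvM22.EG) :=
  T_s0.le (toPerm_mem_grp (E := EvM22.N_E0) (List.Mem.tail _ (List.Mem.head _)))

theorem EvM22.p_g2_T : Net.toPerm 24 EvM22.p_g2 ∈ (grp 24 EvM22.EG) :=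
  T_s0.le (toPerm_mem_grp (E := EvM22.N_E0) (List.Mem.tail _ (List.Mem.tail _ (List.Mem.head _))))

theorem EvM22.p_g29_T : Net.toPerm 24 EvM22.p_g29 ∈ (grp 24 EvM22.EG) :=
  T_s0.le (toPerm_mem_grp (E := EvM22.N_E0) (List.Mem.tail _ (List.Mem.tail _ (List.Mem.tail _ (List.Mem.head _)))))

theorem EvM22.p_g25_T : Net.toPerm 24 EvM22.p_g25 ∈ (grp 24 EvM22.EG) :=
  T_s0.le (toPerm_mem_grp (E := EvM22.N_E0) (List.Mem.tail _ (List.Mem.tail _ (List.Mem.tail _ (List.Mem.tail _ (List.Mem.head _))))))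

theorem EvM22.p_g26_T : Net.toPerm 24 EvM22.p_g26 ∈ (grp 24 EvM22.EG) :=
  T_s0.le (toPerm_mem_grp (E := EvM22.N_E0) (List.Mem.tail _ (List.Mem.tail _ (List.Mem.tail _ (List.Mem.tail _ (List.Mem.tail _ (List.Mem.head _)))))))

theorem EvM22.p_g36_T : Net.toPerm 24 EvM22.p_g36 ∈ (grp 24 EvM22.EG) :=
  T_s0.le (toPerm_mem_grp (E := EvM22.N_E0) (List.Mem.tail _ (List.Mem.tail _ (List.Mem.tail _ (List.Mem.tail _ (List.Mem.tail _ (List.Mem.tail _ (List.Mem.head _))))))))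

theorem EvM22.p_g32_T : Net.toPerm 24 EvM22.p_g32 ∈ (grp 24 EvM22.EG) :=
  T_s0.le (toPerm_mem_grp (E := EvM22.N_E0) (List.Mem.tail _ (List.Mem.tail _ (List.Mem.tail _ (List.Mem.tail _ (List.Mem.tail _ (List.Mem.tail _ (List.Mem.tail _ (List.Mem.head _)))))))))

theorem EvM22.p_g42_T : Net.toPerm 24 EvM22.p_g42 ∈ (grp 24 EvM22.EG) :=
  T_s0.le (toPerm_mem_grp (E := EvM22.N_E0) (List.Mem.tail _ (List.Mem.tail _ (List.Mem.tail _ (List.Mem.tail _ (List.Mem.tail _ (List.Mem.tail _ (List.Mem.tail _ (List.Mem.tail _ (List.Mem.head _))))))))))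

theorem EvM22.p_g33_T : Net.toPerm 24 EvM22.p_g33 ∈ (grp 24 EvM22.EG) :=
  T_s0.le (toPerm_mem_grp (E := EvM22.N_E0) (List.Mem.tail _ (List.Mem.tail _ (List.Mem.tail _ (List.Mem.tail _ (List.Mem.tail _ (List.Mem.tail _ (List.Mem.tail _ (List.Mem.tail _ (List.Mem.tail _ (List.Mem.head _)))))))))))

theorem EvM22.p_g39_T : Net.toPerm 24 EvM22.p_g39 ∈ (grp 24 EvM22.EG) :=
  T_s0.le (toPerm_mem_grp (E := EvM22.N_E0) (List.Mem.tail _ (List.Mem.tail _ (List.Mem.tail _ (List.Mem.tail _ (List.Mem.tail _ (List.Mem.tail _ (List.Mem.tail _ (List.Mem.tail _ (List.Mem.tail _ (List.Mem.tail _ (List.Mem.head _))))))))))))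

theorem EvM22.p_g50_T : Net.toPerm 24 EvM22.p_g50 ∈ (grp 24 EvM22.EG) :=
  T_s0.le (toPerm_mem_grp (E := EvM22.N_E0) (List.Mem.tail _ (List.Mem.tail _ (List.Mem.tail _ (List.Mem.tail _ (List.Mem.tail _ (List.Mem.tail _ (List.Mem.tail _ (List.Mem.tail _ (List.Mem.tail _ (List.Mem.tail _ (List.Mem.tail _ (List.Mem.head _)))))))))))))

theorem EvM22.p_g45_T : Net.toPerm 24 EvM22.p_g45 ∈ (grp 24 EvM22.EG) :=
  T_s0.le (toPerm_mem_grp (E := EvM22.N_E0) (List.Mem.tail _ (List.Mem.tail _ (List.Mem.tail _ (List.Mem.tail _ (List.Mem.tail _ (List.Mem.tail _ (List.Mem.tail _ (List.Mem.tail _ (List.Mem.tail _ (List.Mem.tail _ (List.Mem.tail _ (List.Mem.tail _ (List.Mem.head _))))))))))))))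

theorem EvM22.p_g46_T : Net.toPerm 24 EvM22.p_g46 ∈ (grp 24 EvM22.EG) :=
  T_s0.le (toPerm_mem_grp (E := EvM22.N_E0) (List.Mem.tail _ (List.Mem.tail _ (List.Mem.tail _ (List.Mem.tail _ (List.Mem.tail _ (List.Mem.tail _ (List.Mem.tail _ (List.Mem.tail _ (List.Mem.tail _ (List.Mem.tail _ (List.Mem.tail _ (List.Mem.tail _ (List.Mem.tail _ (List.Mem.head _)))))))))))))))

theorem EvM22.p_g47_T : Net.toPerm 24 EvM22.p_g47 ∈ (grp 24 EvM22.EG) :=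
  T_s0.le (toPerm_mem_grp (E := EvM22.N_E0) (List.Mem.tail _ (List.Mem.tail _ (List.Mem.tail _ (List.Mem.tail _ (List.Mem.tail _ (List.Mem.tail _ (List.Mem.tail _ (List.Mem.tail _ (List.Mem.tail _ (List.Mem.tail _ (List.Mem.tail _ (List.Mem.tail _ (List.Mem.tail _ (List.Mem.tail _ (List.Mem.head _))))))))))))))))

theorem EvM22.p_g59_T : Net.toPerm 24 EvM22.p_g59 ∈ (grp 24 EvM22.EG) :=
  T_s0.le (toPerm_mem_grp (E := EvM22.N_E0) (List.Mem.tail _ (List.Mem.tail _ (List.Mem.tail _ (List.Mem.tail _ (List.Mem.tail _ (List.Mem.tail _ (List.Mem.tail _ (List.Mem.tail _ (List.Mem.tail _ (List.Mem.tail _ (List.Mem.tail _ (List.Mem.tail _ (List.Mem.tail _ (List.Mem.tail _ (List.Mem.tail _ (List.Mem.head _)))))))))))))))))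

theorem EvM22.p_g60_T : Net.toPerm 24 EvM22.p_g60 ∈ (grp 24 EvM22.EG) :=
  T_s0.le (toPerm_mem_grp (E := EvM22.N_E0) (List.Mem.tail _ (List.Mem.tail _ (List.Mem.tail _ (List.Mem.tail _ (List.Mem.tail _ (List.Mem.tail _ (List.Mem.tail _ (List.Mem.tail _ (List.Mem.tail _ (List.Mem.tail _ (List.Mem.tail _ (List.Mem.tail _ (List.Mem.tail _ (List.Mem.tail _ (List.Mem.tail _ (List.Mem.tail _ (List.Mem.head _))))))))))))))))))

theorem EvM22.p_g61_T : Net.toPerm 24 EvM22.p_g61 ∈ (grp 24 EvM22.EG) :=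
  T_s0.le (toPerm_mem_grp (E := EvM22.N_E0) (List.Mem.tail _ (List.Mem.tail _ (List.Mem.tail _ (List.Mem.tail _ (List.Mem.tail _ (List.Mem.tail _ (List.Mem.tail _ (List.Mem.tail _ (List.Mem.tail _ (List.Mem.tail _ (List.Mem.tail _ (List.Mem.tail _ (List.Mem.tail _ (List.Mem.tail _ (List.Mem.tail _ (List.Mem.tail _ (List.Mem.tail _ (List.Mem.head _)))))))))))))))))))

theorem EvM22.p_g62_T : Net.toPerm 24 EvM22.p_g62 ∈ (grp 24 EvM22.EG) :=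
  T_s0.le (toPerm_mem_grp (E := EvM22.N_E0) (List.Mem.tail _ (List.Mem.tail _ (List.Mem.tail _ (List.Mem.tail _ (List.Mem.tail _ (List.Mem.tail _ (List.Mem.tail _ (List.Mem.tail _ (List.Mem.tail _ (List.Mem.tail _ (List.Mem.tail _ (List.Mem.tail _ (List.Mem.tail _ (List.Mem.tail _ (List.Mem.tail _ (List.Mem.tail _ (List.Mem.tail _ (List.Mem.tail _ (List.Mem.head _))))))))))))))))))))

theorem EvM22.p_g53_T : Net.toPerm 24 EvM22.p_g53 ∈ (grp 24 EvM22.EG) :=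
  T_s0.le (toPerm_mem_grp (E := EvM22.N_E0) (List.Mem.tail _ (List.Mem.tail _ (List.Mem.tail _ (List.Mem.tail _ (List.Mem.tail _ (List.Mem.tail _ (List.Mem.tail _ (List.Mem.tail _ (List.Mem.tail _ (List.Mem.tail _ (List.Mem.tail _ (List.Mem.tail _ (List.Mem.tail _ (List.Mem.tail _ (List.Mem.tail _ (List.Mem.tail _ (List.Mem.tail _ (List.Mem.tail _ (List.Mem.tail _ (List.Mem.head _)))))))))))))))))))))

theorem EvM22.p_g54_T : Net.toPerm 24 EvM22.p_g54 ∈ (grp 24 EvM22.EG) :=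
  T_s0.le (toPerm_mem_grp (E := EvM22.N_E0) (List.Mem.tail _ (List.Mem.tail _ (List.Mem.tail _ (List.Mem.tail _ (List.Mem.tail _ (List.Mem.tail _ (List.Mem.tail _ (List.Mem.tail _ (List.Mem.tail _ (List.Mem.tail _ (List.Mem.tail _ (List.Mem.tail _ (List.Mem.tail _ (List.Mem.tail _ (List.Mem.tail _ (List.Mem.tail _ (List.Mem.tail _ (List.Mem.tail _ (List.Mem.tail _ (List.Mem.tail _ (List.Mem.head _))))))))))))))))))))))

theorem EvM22.p_g55_T : Net.toPerm 24 EvM22.p_g55 ∈ (grp 24 EvM22.EG) :=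
  T_s0.le (toPerm_mem_grp (E := EvM22.N_E0) (List.Mem.tail _ (List.Mem.tail _ (List.Mem.tail _ (List.Mem.tail _ (List.Mem.tail _ (List.Mem.tail _ (List.Mem.tail _ (List.Mem.tail _ (List.Mem.tail _ (List.Mem.tail _ (List.Mem.tail _ (List.Mem.tail _ (List.Mem.tail _ (List.Mem.tail _ (List.Mem.tail _ (List.Mem.tail _ (List.Mem.tail _ (List.Mem.tail _ (List.Mem.tail _ (List.Mem.tail _ (List.Mem.tail _ (List.Mem.head _)))))))))))))))))))))))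

theorem EvM22.p_g56_T : Net.toPerm 24 EvM22.p_g56 ∈ (grp 24 EvM22.EG) :=
  T_s0.le (toPerm_mem_grp (E := EvM22.N_E0) (List.Mem.tail _ (List.Mem.tail _ (List.Mem.tail _ (List.Mem.tail _ (List.Mem.tail _ (List.Mem.tail _ (List.Mem.tail _ (List.Mem.tail _ (List.Mem.tail _ (List.Mem.tail _ (List.Mem.tail _ (List.Mem.tail _ (List.Mem.tail _ (List.Mem.tail _ (List.Mem.tail _ (List.Mem.tail _ (List.Mem.tail _ (List.Mem.tail _ (List.Mem.tail _ (List.Mem.tail _ (List.Mem.tail _ (List.Mem.tail _ (List.Mem.head _))))))))))))))))))))))))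

noncomputable def T_s5_O : ℕ := (nat_lit 0x933332e0f83ec67318b26d92000020001000004000000004100000)

theorem T_s5_F : Frame 24 (grp 24 EvM22.EG) 5 9 T_s5_O 1 1 :=
  IsBase.frame T_s5.isBase (by decide +kernel)

noncomputable def T_s0_O : ℕ := (nat_lit 0x800001)

theorem T_s0_F : Frame 24 (grp 24 EvM22.EG) 0 1 T_s0_O 0 1 :=
  Stab.frame q_hn T_s0 (by decide +kernel)

noncomputable def CU_cnt_L : List ℕ := [0, 1, T_s0_O, 0, 0, 5, 9, T_s5_O, 1, 0]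

theorem CU_cnt_P : Prob 24 5 (grp 24 EvM22.EG) CU_cnt_EG U U CU CU_cnt_L 0 0 :=
  Sym.prob q_hn q_hk CU_sym CU_cnt_EG_ok (grp_cons_le q_g27_T (grp_cons_le q_g28_T (grp_cons_le q_g25_T (grp_cons_le q_g26_T (grp_cons_le q_g24_T (grp_cons_le q_g23_T (grp_cons_le EvM22.p_g22_T (grp_cons_le EvM22.p_g1_T (grp_cons_le EvM22.p_g2_T (grp_cons_le EvM22.p_g29_T (grp_cons_le EvM22.p_g25_T (grp_cons_le EvM22.p_g26_T (grp_cons_le EvM22.p_g36_T (grp_cons_le EvM22.p_g32_T (grp_cons_le EvM22.p_g42_T (grp_cons_le EvM22.p_g33_T (grp_cons_le EvM22.p_g39_T (grp_cons_le EvM22.p_g50_T (grp_cons_le EvM22.p_g45_T (grp_cons_le EvM22.p_g46_T (grp_cons_le EvM22.p_g47_T (grp_cons_le EvM22.p_g59_T (grp_cons_le EvM22.p_g60_T (grp_cons_le EvM22.p_g61_T (grp_cons_le EvM22.p_g62_T (grp_cons_le EvM22.p_g53_T (grp_cons_le EvM22.p_g54_T (grp_cons_le EvM22.p_g55_T (grp_cons_le EvM22.p_g56_T (grp_nil_le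 _)))))))))))))))))))))))))))))) (Frames.cons T_s0_F (Frames.cons T_s5_F Frames.nil)) U_ok _

noncomputable def CU_cnt_t : BT := (BT.fix (nat_lit 1) (BT.dif (nat_lit 3) (nat_lit 0) (BT.fix (nat_lit 3) (BT.dif (nat_lit 1) (nat_lit 0) (BT.fix (nat_lit 5) (BT.dif (nat_lit 1) (nat_lit 0) (BT.fix (nat_lit 7) (BT.dif (nat_lit 1) (nat_lit 0) (BT.fix (nat_lit 11) (BT.dif (nat_lit 1) (nat_lit 0) (BT.frm (nat_lit 0) (nat_lit 0) (nat_lit 0) [] (BT.pln (nat_lit 0) (nat_lit 0) (BT.dif (nat_lit 3) (nat_lit 0) (BT.dif (nat_lit 0) (nat_lit 12) (BT.dif (nat_lit 0) (nat_lit 9) (BT.img (nat_lit 7) (nat_lit 0) (BT.dif (nat_lit 6) (nat_lit 0) (BT.br (nat_lit 0) (nat_lit 5) [nat_lit 1] (BT.kid (nat_lit 5) (nat_lit 1) (BT.img (nat_lit 9) (nat_lit 0) (BT.img (nat_lit 1) (nat_lit 0) (BT.img (nat_lit 7) (nat_lit 0) (BT.img (nat_lit 9) (nat_lit 0) (BT.img (nat_lit 5) (nat_lit 4) (BT.img (nat_lit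 3) (nat_lit 5) (BT.img (nat_lit 1) (nat_lit 6) (BT.one (nat_lit 1) (nat_lit 0) (nat_lit 0) [nat_lit 3, nat_lit 2, nat_lit 1, nat_lit 0, nat_lit 7])))))))) BT.nil)))))))))))))))))))

theorem CU_cnt : Cnt 24 (grp 24 EvM22.EG) U U 0 0 0 0 2 :=
  BT.sound CU_cnt_P Known.nil (t := CU_cnt_t) (d := 0) (by decide +kernel)

theorem CU_ge : 2 ≤ Nat.card (grp 24 CU) :=
  Ch.le_card_grp (k := 5) (L := (lab 24 5)) q_hn CU_ok (c := (Ch.cons (nat_lit 5) [nat_lit 1] Ch.nil)) (by decide +kernel)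

theorem CU_eq : (grp 24 EvM22.EG) ⊓ Subgroup.centralizer (grp 24 U : Set (Equiv.Perm (Fin 24))) = grp 24 CU :=
  cent_grp_eq CU_sym CU_cnt CU_ge

theorem CU_card : Nat.card (grp 24 CU) = 2 :=
  (CU_sym.mem_iff CU_cnt CU_ge).1

theorem CU_z : grp 24 CU ≤ grp 24 EZ :=
  grp_le_of_memB q_hn q_hk EZ_ok CU_ok (ws := [nat_lit 1]) (by decide +kernel)

theorem bx : Ej.Bx (grp 24 EvM22.E) (grp 24 EvM22.EG) (Net.toPerm 24 EvM22.p_g104) (grp 24 U) :=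
  ⟨by rw [EvM22.N_card, EvM22.card_G],
    Ej.syl_of_card U_G (a := 7) (m := 3465) (U_poly.card_eq rfl U_ge) (by rw [EvM22.card_G]; norm_num) (by norm_num),
    Ej.ord2 q_hn q_hk (by decide +kernel), (toPerm_mem_grp (E := U) (List.Mem.tail _ (List.Mem.tail _ (List.Mem.tail _ (List.Mem.tail _ (List.Mem.tail _ (List.Mem.tail _ (List.Mem.head _)))))))),
    fun _ hx => H62.TE.mem_c1.1 (EvG.le_cent q_hn q_hk (by decide +kernel) hx),
    fun _ hσ h => EvG.mem_single q_hn q_hk (by decide +kernel) (CU_z (CU_eq.le ⟨hσ, fun x hx => (h x hx).symm⟩)),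
    ⟨_, (toPerm_mem_grp (E := U) (List.Mem.tail _ (List.Mem.head _))), _, (toPerm_mem_grp (E := U) (List.Mem.head _)), EvG.ncomm_net (k := 5) q_hn (by decide +kernel)⟩, rank3⟩

theorem cls0 : ∀ x ∈ (grp 24 EvM22.E), orderOf x = 2 → CjIn (grp 24 EvM22.EG) (Net.toPerm 24 EvM22.p_g104) x ∨ CjIn (grp 24 EvM22.EG) (Net.toPerm 24 q_g35) x :=
  Ej.in_reps EvM22.amb EvM22.reps fun t ht => by
  rcases ht with rfl | rfl | rfl
  · exact .inr (.inr u_G)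
  · exact .inl rfl
  · exact .inr (.inr t_G)

theorem crit : Ej.Crit (grp 24 EvM22.E) (grp 24 EvM22.EG) (Net.toPerm 24 EvM22.p_g104) :=
  Ej.crit_of q_hn q_hk cls0 (by decide +kernel)

theorem cls : ∀ x ∈ (grp 24 EvM22.E), orderOf x = 2 → CjIn (grp 24 EvM22.EG) (Net.toPerm 24 EvM22.p_g104) x :=
  fun x hx h2 => (Ej.in_reps (s := (Net.toPerm 24 EvM22.p_g104)) EvM22.amb EvM22.reps (fun t ht => by
  rcases ht with rfl | rfl | rfl
  · exact .inr (.inr u_G)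
  · exact .inl rfl
  · exact .inr (.inr t_G)) x hx h2).elim id id

theorem z_G : Net.toPerm 24 EvM22.p_g104 ∈ (grp 24 EvM22.E) :=
  EvM22.lb_le (mem_grp_of_memB q_hn q_hk EvM22.lb_E_ok EvM22.p_g104_ok (w := (nat_lit 0xd091105050308)) (by decide +kernel))

theorem c_G : Net.toPerm 24 q_g36 ∈ (grp 24 EvM22.E) :=
  EvM22.lb_le (mem_grp_of_memB q_hn q_hk EvM22.lb_E_ok q_g36_ok (w := (nat_lit 0x130e090f05050104)) (by decide +kernel))

theorem e_U : (Net.toPerm 24 EvM22.p_g235) ∈ grp 24 U :=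
  Ej.pr_one (n := 24) EvM22.p_g235 ▸ Ej.mem_of_inB q_hn q_hk U_ok (Ej.ok_one EvM22.p_g235_ok) (m := 28) (by decide +kernel)

theorem k1 : ∀ y ∈ grp 24 U, y * (Net.toPerm 24 EvM22.p_g235) = (Net.toPerm 24 EvM22.p_g235) * y ∨ y * (Net.toPerm 24 EvM22.p_g235) = (Net.toPerm 24 EvM22.p_g235) * y * (Net.toPerm 24 EvM22.p_g104) :=
  Ej.four_a q_hn q_hk U_ok EvM22.p_g104_ok EvM22.p_g235_ok bx.z2 (fun x hx => H62.TE.mem_c1.2 (bx.zc x hx)) (by decide +kernel)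

theorem k2 : ∀ x ∈ grp 24 U, x * x = 1 → (∀ y ∈ grp 24 U, y * x = x * y ∨ y * x = x * y * (Net.toPerm 24 EvM22.p_g104)) → x = 1 ∨ x = (Net.toPerm 24 EvM22.p_g104) ∨ x = (Net.toPerm 24 EvM22.p_g235) ∨ x = (Net.toPerm 24 EvM22.p_g104) * (Net.toPerm 24 EvM22.p_g235) :=
  Ej.four_b q_hn q_hk U_ok U_poly EvM22.p_g104_ok EvM22.p_g235_ok (by decide +kernel)

theorem q_le45 : grp 24 q_V44 ≤ grp 24 KZ :=
  grp_le_of_memB q_hn q_hk KZ_ok q_V44_ok (ws := [nat_lit 0x6080a080209050703, nat_lit 0x40109060a0a010603, nat_lit 0x505030a0106030908, nat_lit 0x60901060808060607]) (by decide +kernel)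

theorem q_le47 : grp 24 q_V46 ≤ grp 24 q_V44 :=
  grp_le_of_memB q_hn q_hk q_V44_ok q_V46_ok (ws := [nat_lit 0x6060602030306020606, nat_lit 0x4010301, nat_lit 0x5080306020703080502, nat_lit 0x4080104070302]) (by decide +kernel)

theorem KZlb_le : grp 24 KZlb_E ≤ grp 24 KZ :=
  (grp_cons_le ((le_refl (grp 24 KZ)) (toPerm_mem_grp (E := KZ) (by simp [KZ]))) (grp_cons_le ((le_refl (grp 24 KZ)) (toPerm_mem_grp (E := KZ) (by simp [KZ]))) (grp_cons_le ((le_refl (grp 24 KZ)) (toPerm_mem_grp (E := KZ) (by simp [KZ]))) (grp_cons_le ((le_refl (grp 24 KZ)) (toPerm_mem_grp (E := KZ) (by simp [KZ]))) (grp_cons_le ((le_refl (grp 24 KZ)) (toPerm_mem_grp (E := KZ) (by simp [KZ]))) (grp_cons_le ((q_le45.trans (le_refl (grp 24 KZ))) (toPerm_mem_grp (E := q_V44) (by simp [q_V44]))) (grp_cons_le ((q_le45.trans (le_refl (grp 24 KZ))) (toPerm_mem_grp (E := q_V44) (by simp [q_V44]))) (grp_cons_le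 ((q_le45.trans (le_refl (grp 24 KZ))) (toPerm_mem_grp (E := q_V44) (by simp [q_V44]))) (grp_cons_le ((q_le45.trans (le_refl (grp 24 KZ))) (toPerm_mem_grp (E := q_V44) (by simp [q_V44]))) (grp_cons_le ((q_le47.trans (q_le45.trans (le_refl (grp 24 KZ)))) (toPerm_mem_grp (E := q_V46) (by simp [q_V46]))) (grp_cons_le ((q_le47.trans (q_le45.trans (le_refl (grp 24 KZ)))) (toPerm_mem_grp (E := q_V46) (by simp [q_V46]))) (grp_cons_le ((q_le47.trans (q_le45.trans (le_refl (grp 24 KZ)))) (toPerm_mem_grp (E := q_V46) (by simp [q_V46]))) (grp_cons_le ((q_le47.trans (q_le45.trans (le_refl (grp 24 KZ)))) (toPerm_mem_grp (E := q_V46) (by simp [q_V46]))) (grp_nil_le _))))))))))))))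

noncomputable def KZlb_ch : Ch := (Ch.cons (nat_lit 7) [nat_lit 1, nat_lit 3, nat_lit 5, nat_lit 7, nat_lit 9] (Ch.cons (nat_lit 13) [nat_lit 11, nat_lit 13, nat_lit 15, nat_lit 17] (Ch.cons (nat_lit 1) [nat_lit 19, nat_lit 21, nat_lit 23, nat_lit 25] Ch.nil)))

theorem KZlb_chk : Ch.chk 24 5 (lab 24 5) KZlb_E KZlb_ch 384 = true :=
  by decide +kernel

theorem KZlb_ge : 384 ≤ Nat.card (grp 24 KZ) :=
  (Ch.le_card_grp q_hn KZlb_E_ok KZlb_chk).trans (Subgroup.card_le_of_le KZlb_le)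

theorem q_le50 : grp 24 q_V49 ≤ grp 24 EX :=
  grp_le_of_memB q_hn q_hk EX_ok q_V49_ok (ws := [nat_lit 2]) (by decide +kernel)

theorem q_le53 : grp 24 q_V52 ≤ grp 24 EX :=
  grp_le_of_memB q_hn q_hk EX_ok q_V52_ok (ws := [nat_lit 0x20205020401, nat_lit 0x4060606010302, nat_lit 0x305020202]) (by decide +kernel)

theorem q_le55 : grp 24 q_V54 ≤ grp 24 q_V52 :=
  grp_le_of_memB q_hn q_hk q_V52_ok q_V54_ok (ws := [nat_lit 3]) (by decide +kernel)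

theorem q_le57 : grp 24 q_V56 ≤ grp 24 q_V52 :=
  grp_le_of_memB q_hn q_hk q_V52_ok q_V56_ok (ws := [nat_lit 0x6010306010504, nat_lit 0x1030301060101010105, nat_lit 0x204060306]) (by decide +kernel)

theorem q_le59 : grp 24 q_V58 ≤ grp 24 q_V56 :=
  grp_le_of_memB q_hn q_hk q_V56_ok q_V58_ok (ws := [nat_lit 1, nat_lit 259, nat_lit 66309]) (by decide +kernel)

theorem EXo_card3 : Nat.card (grp 24 EXo_E3) = 1 :=
  card_grp_nil 24

theorem EXo_leO3 : grp 24 EXo_E3 ≤ grp 24 EX :=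
  grp_nil_le _

theorem EXo_2_fix : grp 24 EXo_E3 ≤ MulAction.stabilizer (Equiv.Perm (Fin 24)) (⟨1, by decide⟩ : Fin 24) :=
  grp_le_stab EXo_E3_ok (by decide : 1 < 24) (by decide +kernel)

noncomputable def EXo_2_ts : List ℕ := [nat_lit 0, nat_lit 1, nat_lit 3, nat_lit 5, nat_lit 259, nat_lit 261, nat_lit 773, nat_lit 66309]

noncomputable def EXo_2_ds : List ℕ := [nat_lit 1, nat_lit 10, nat_lit 14, nat_lit 5, nat_lit 4, nat_lit 2, nat_lit 16, nat_lit 15]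

theorem EXo_2_dist : Dist 24 EXo_E3 EXo_G2 (⟨1, by decide⟩ : Fin 24) EXo_2_ts EXo_2_ds :=
  dist_of_distB (k := 3) q_hn EXo_E3_ok EXo_G2_ok (by decide : 1 < 24) (by decide +kernel)

noncomputable def EXo_2_sl0 : SL := (SL.cons (nat_lit 1) (nat_lit 10) Ch.nil [] (SL.cons (nat_lit 3) (nat_lit 14) Ch.nil [] (SL.cons (nat_lit 5) (nat_lit 5) Ch.nil [] (SL.cons (nat_lit 259) (nat_lit 4) Ch.nil [] (SL.cons (nat_lit 261) (nat_lit 2) Ch.nil [] (SL.cons (nat_lit 773) (nat_lit 16) Ch.nil [] (SL.cons (nat_lit 66309) (nat_lit 15) Ch.nil [] SL.nil)))))))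

theorem EXo_2_sc0 : SCs 24 EXo_E3 EXo_G2 (⟨1, by decide⟩ : Fin 24) (SL.words EXo_2_sl0) :=
  scs_of_ok q_hn (det_lab q_hk ⊤) EXo_E3_ok EXo_G2_ok le_top le_top (by decide : 1 < 24) EXo_2_fix EXo_card3.le (by decide +kernel)

noncomputable def EXo_2_l : List ℕ := (appL (SL.words EXo_2_sl0) [])

theorem EXo_2_scs : SCs 24 EXo_E3 EXo_G2 (⟨1, by decide⟩ : Fin 24) EXo_2_l :=
  (SCs.append EXo_2_sc0 SCs.nil)

noncomputable def EXo_2_rl0_0 : RL := (RL.cons (nat_lit 0) (nat_lit 1) (nat_lit 0) (nat_lit 0) (nat_lit 1) (nat_lit 0) (RL.cons (nat_lit 1) (nat_lit 10) (nat_lit 0) (nat_lit 0) (nat_lit 0) (nat_lit 0) (RL.cons (nat_lit 2) (nat_lit 14) (nat_lit 0) (nat_lit 0) (nat_lit 4) (nat_lit 0) (RL.cons (nat_lit 3) (nat_lit 5) (nat_lit 0) (nat_lit 0) (nat_lit 5) (nat_lit 0) (RL.cons (nat_lit 4) (nat_lit 4) (nat_lit 0) (nat_lit 0) (nat_lit 2) (nat_lit 0) (RL.cons (nat_lit 5) (nat_lit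 2) (nat_lit 0) (nat_lit 0) (nat_lit 3) (nat_lit 0) (RL.cons (nat_lit 6) (nat_lit 16) (nat_lit 0) (nat_lit 0) (nat_lit 7) (nat_lit 0) (RL.cons (nat_lit 7) (nat_lit 15) (nat_lit 0) (nat_lit 0) (nat_lit 6) (nat_lit 0) RL.nil))))))))

theorem EXo_2_good0_0 : GoodSet 24 EXo_E3 EXo_G2 (⟨1, by decide⟩ : Fin 24) EXo_2_ts (nat_lit 1) (RL.pts EXo_2_rl0_0) :=
  goodSet_of_ok q_hn (det_lab q_hk ⊤) EXo_E3_ok EXo_G2_ok le_top le_top (by decide : 1 < 24) (sepAt_lab q_hk _) (by decide +kernel)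

theorem EXo_2_step0 : Step 24 EXo_E3 EXo_G2 EXo_2_ts (2 * 0 + 1) :=
  step_of_cover EXo_E3_ok EXo_2_dist (by decide +kernel) EXo_2_scs (by decide +kernel) EXo_2_good0_0 (kw := [])
    (conj_mem_of_scs EXo_E3_ok EXo_G2_ok (by decide : 1 < 24) EXo_2_scs (c := 0) (d := 10) (by decide +kernel)) (by decide +kernel)

noncomputable def EXo_2_rl1_0 : RL := (RL.cons (nat_lit 0) (nat_lit 1) (nat_lit 0) (nat_lit 0) (nat_lit 2) (nat_lit 0) (RL.cons (nat_lit 1) (nat_lit 10) (nat_lit 0) (nat_lit 0) (nat_lit 4) (nat_lit 0) (RL.cons (nat_lit 2) (nat_lit 14) (nat_lit 0) (nat_lit 0) (nat_lit 0) (nat_lit 0) (RL.cons (nat_lit 3) (nat_lit 5) (nat_lit 0) (nat_lit 0) (nat_lit 6) (nat_lit 0) (RL.cons (nat_lit 4) (nat_lit 4) (nat_lit 0) (nat_lit 0) (nat_lit 1) (nat_lit 0) (RL.cons (nat_lit 5) (nat_lit 2) (nat_lit 0) (nat_lit 0) (nat_lit 7) (nat_lit 0) (RL.cons (nat_lit 6) (nat_lit 16) (nat_lit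 0) (nat_lit 0) (nat_lit 3) (nat_lit 0) (RL.cons (nat_lit 7) (nat_lit 15) (nat_lit 0) (nat_lit 0) (nat_lit 5) (nat_lit 0) RL.nil))))))))

theorem EXo_2_good1_0 : GoodSet 24 EXo_E3 EXo_G2 (⟨1, by decide⟩ : Fin 24) EXo_2_ts (nat_lit 3) (RL.pts EXo_2_rl1_0) :=
  goodSet_of_ok q_hn (det_lab q_hk ⊤) EXo_E3_ok EXo_G2_ok le_top le_top (by decide : 1 < 24) (sepAt_lab q_hk _) (by decide +kernel)

theorem EXo_2_step1 : Step 24 EXo_E3 EXo_G2 EXo_2_ts (2 * 1 + 1) :=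
  step_of_cover EXo_E3_ok EXo_2_dist (by decide +kernel) EXo_2_scs (by decide +kernel) EXo_2_good1_0 (kw := [])
    (conj_mem_of_scs EXo_E3_ok EXo_G2_ok (by decide : 1 < 24) EXo_2_scs (c := 1) (d := 14) (by decide +kernel)) (by decide +kernel)

noncomputable def EXo_2_rl2_0 : RL := (RL.cons (nat_lit 0) (nat_lit 1) (nat_lit 0) (nat_lit 0) (nat_lit 3) (nat_lit 0) (RL.cons (nat_lit 1) (nat_lit 10) (nat_lit 0) (nat_lit 0) (nat_lit 5) (nat_lit 0) (RL.cons (nat_lit 2) (nat_lit 14) (nat_lit 0) (nat_lit 0) (nat_lit 6) (nat_lit 0) (RL.cons (nat_lit 3) (nat_lit 5) (nat_lit 0) (nat_lit 0) (nat_lit 0) (nat_lit 0) (RL.cons (nat_lit 4) (nat_lit 4) (nat_lit 0) (nat_lit 0) (nat_lit 7) (nat_lit 0) (RL.cons (nat_lit 5) (nat_lit 2) (nat_lit 0) (nat_lit 0) (nat_lit 1) (nat_lit 0) (RL.cons (nat_lit 6) (nat_lit 16) (nat_lit 0) (nat_lit 0) (nat_lit 2) (nat_lit 0) (RL.cons (nat_lit 7) (nat_lit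 15) (nat_lit 0) (nat_lit 0) (nat_lit 4) (nat_lit 0) RL.nil))))))))

theorem EXo_2_good2_0 : GoodSet 24 EXo_E3 EXo_G2 (⟨1, by decide⟩ : Fin 24) EXo_2_ts (nat_lit 5) (RL.pts EXo_2_rl2_0) :=
  goodSet_of_ok q_hn (det_lab q_hk ⊤) EXo_E3_ok EXo_G2_ok le_top le_top (by decide : 1 < 24) (sepAt_lab q_hk _) (by decide +kernel)

theorem EXo_2_step2 : Step 24 EXo_E3 EXo_G2 EXo_2_ts (2 * 2 + 1) :=
  step_of_cover EXo_E3_ok EXo_2_dist (by decide +kernel) EXo_2_scs (by decide +kernel) EXo_2_good2_0 (kw := [])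
    (conj_mem_of_scs EXo_E3_ok EXo_G2_ok (by decide : 1 < 24) EXo_2_scs (c := 2) (d := 5) (by decide +kernel)) (by decide +kernel)

theorem EXo_2_lev : grp 24 EXo_G2 ⊓ MulAction.stabilizer (Equiv.Perm (Fin 24)) (⟨1, by decide⟩ : Fin 24) = grp 24 EXo_E3 :=
  sims_level (gs := q_V58) rfl (by decide) EXo_2_fix EXo_2_dist (forall_lt_succ' (forall_lt_succ' (forall_lt_one EXo_2_step0) EXo_2_step1) EXo_2_step2)

theorem EXo_2_cardG : Nat.card (grp 24 EXo_G2) = 8 :=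
  card_of_level q_hn EXo_G2_ok (by decide : 1 < 24) EXo_2_lev EXo_card3 (m := 8) (by decide +kernel)

theorem q_le60 : grp 24 EXo_E2 ≤ grp 24 EXo_G2 :=
  grp_le_of_memB q_hn q_hk EXo_G2_ok EXo_E2_ok (ws := [nat_lit 1, nat_lit 3, nat_lit 5, nat_lit 259, nat_lit 773]) (by decide +kernel)

theorem q_le61 : grp 24 EXo_G2 ≤ grp 24 EXo_E2 :=
  grp_le_of_memB q_hn q_hk EXo_E2_ok EXo_G2_ok (ws := [nat_lit 1, nat_lit 3, nat_lit 5]) (by decide +kernel)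

theorem EXo_2_eq : grp 24 EXo_E2 = grp 24 EXo_G2 :=
  le_antisymm q_le60 q_le61

theorem EXo_card2 : Nat.card (grp 24 EXo_E2) = 8 :=
  by rw [EXo_2_eq]; exact EXo_2_cardG

theorem EXo_stab2 : grp 24 EXo_E2 ⊓ MulAction.stabilizer (Equiv.Perm (Fin 24)) (⟨1, by decide⟩ : Fin 24) = grp 24 EXo_E3 :=
  by rw [EXo_2_eq]; exact EXo_2_lev

theorem EXo_leO2 : grp 24 EXo_E2 ≤ grp 24 EX :=
  EXo_2_eq.le.trans (grp_cons_le ((q_le57.trans (q_le53.trans (le_refl (grp 24 EX)))) (q_le59 (toPerm_mem_grp (E := q_V58) (by simp [q_V58])))) (grp_cons_le ((q_le57.trans (q_le53.trans (le_refl (grp 24 EX)))) (q_le59 (toPerm_mem_grp (E := q_V58) (by simp [q_V58])))) (grp_cons_le ((q_le57.trans (q_le53.trans (le_refl (grp 24 EX)))) (q_le59 (toPerm_mem_grp (E := q_V58) (by simp [q_V58])))) EXo_leO3)))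

theorem EXo_1_fix : grp 24 EXo_E2 ≤ MulAction.stabilizer (Equiv.Perm (Fin 24)) (⟨22, by decide⟩ : Fin 24) :=
  grp_le_stab EXo_E2_ok (by decide : 22 < 24) (by decide +kernel)

noncomputable def EXo_1_ts : List ℕ := [nat_lit 0, nat_lit 1]

noncomputable def EXo_1_ds : List ℕ := [nat_lit 22, nat_lit 13]

theorem EXo_1_dist : Dist 24 EXo_E2 EXo_G1 (⟨22, by decide⟩ : Fin 24) EXo_1_ts EXo_1_ds :=
  dist_of_distB (k := 1) q_hn EXo_E2_ok EXo_G1_ok (by decide : 22 < 24) (by decide +kernel)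

noncomputable def EXo_1_sl0 : SL := (SL.cons (nat_lit 1) (nat_lit 13) (Ch.cons (nat_lit 1) [nat_lit 9, nat_lit 1, nat_lit 5] Ch.nil) [nat_lit 261, nat_lit 3, nat_lit 5] SL.nil)

theorem EXo_1_sc0 : SCs 24 EXo_E2 EXo_G1 (⟨22, by decide⟩ : Fin 24) (SL.words EXo_1_sl0) :=
  scs_of_ok q_hn (det_lab q_hk ⊤) EXo_E2_ok EXo_G1_ok le_top le_top (by decide : 22 < 24) EXo_1_fix EXo_card2.le (by decide +kernel)

noncomputable def EXo_1_l : List ℕ := (appL (SL.words EXo_1_sl0) [])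

theorem EXo_1_scs : SCs 24 EXo_E2 EXo_G1 (⟨22, by decide⟩ : Fin 24) EXo_1_l :=
  (SCs.append EXo_1_sc0 SCs.nil)

noncomputable def EXo_1_rl0_0 : RL := (RL.cons (nat_lit 0) (nat_lit 22) (nat_lit 0) (nat_lit 0) (nat_lit 1) (nat_lit 7) (RL.cons (nat_lit 1) (nat_lit 13) (nat_lit 0) (nat_lit 0) (nat_lit 0) (nat_lit 0) RL.nil))

theorem EXo_1_good0_0 : GoodSet 24 EXo_E2 EXo_G1 (⟨22, by decide⟩ : Fin 24) EXo_1_ts (nat_lit 1) (RL.pts EXo_1_rl0_0) :=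
  goodSet_of_ok q_hn (det_lab q_hk ⊤) EXo_E2_ok EXo_G1_ok le_top le_top (by decide : 22 < 24) (sepAt_lab q_hk _) (by decide +kernel)

theorem EXo_1_step0 : Step 24 EXo_E2 EXo_G1 EXo_1_ts (2 * 0 + 1) :=
  step_of_cover EXo_E2_ok EXo_1_dist (by decide +kernel) EXo_1_scs (by decide +kernel) EXo_1_good0_0 (kw := [nat_lit 9, nat_lit 1, nat_lit 5])
    (conj_mem_of_scs EXo_E2_ok EXo_G1_ok (by decide : 22 < 24) EXo_1_scs (c := 0) (d := 13) (by decide +kernel)) (by decide +kernel)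

theorem EXo_1_lev : grp 24 EXo_G1 ⊓ MulAction.stabilizer (Equiv.Perm (Fin 24)) (⟨22, by decide⟩ : Fin 24) = grp 24 EXo_E2 :=
  sims_level (gs := q_V54) rfl (by decide) EXo_1_fix EXo_1_dist (forall_lt_one EXo_1_step0)

theorem EXo_1_cardG : Nat.card (grp 24 EXo_G1) = 16 :=
  card_of_level q_hn EXo_G1_ok (by decide : 22 < 24) EXo_1_lev EXo_card2 (m := 2) (by decide +kernel)

theorem q_le62 : grp 24 EXo_E1 ≤ grp 24 EXo_G1 :=
  grp_le_of_memB q_hn q_hk EXo_G1_ok EXo_E1_ok (ws := [nat_lit 1, nat_lit 775, nat_lit 3, nat_lit 5, nat_lit 7, nat_lit 9, nat_lit 11]) (by decide +kernel)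

theorem q_le63 : grp 24 EXo_G1 ≤ grp 24 EXo_E1 :=
  grp_le_of_memB q_hn q_hk EXo_E1_ok EXo_G1_ok (ws := [nat_lit 1, nat_lit 5, nat_lit 7, nat_lit 9, nat_lit 11, nat_lit 13]) (by decide +kernel)

theorem EXo_1_eq : grp 24 EXo_E1 = grp 24 EXo_G1 :=
  le_antisymm q_le62 q_le63

theorem EXo_card1 : Nat.card (grp 24 EXo_E1) = 16 :=
  by rw [EXo_1_eq]; exact EXo_1_cardG

theorem EXo_stab1 : grp 24 EXo_E1 ⊓ MulAction.stabilizer (Equiv.Perm (Fin 24)) (⟨22, by decide⟩ : Fin 24) = grp 24 EXo_E2 :=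
  by rw [EXo_1_eq]; exact EXo_1_lev

theorem EXo_leO1 : grp 24 EXo_E1 ≤ grp 24 EX :=
  EXo_1_eq.le.trans (grp_cons_le ((q_le53.trans (le_refl (grp 24 EX))) (q_le55 (toPerm_mem_grp (E := q_V54) (by simp [q_V54])))) EXo_leO2)

theorem EXo_0_fix : grp 24 EXo_E1 ≤ MulAction.stabilizer (Equiv.Perm (Fin 24)) (⟨7, by decide⟩ : Fin 24) :=
  grp_le_stab EXo_E1_ok (by decide : 7 < 24) (by decide +kernel)

noncomputable def EXo_0_ts : List ℕ := [nat_lit 0, nat_lit 1, nat_lit 2, nat_lit 66306]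

noncomputable def EXo_0_ds : List ℕ := [nat_lit 7, nat_lit 22, nat_lit 18, nat_lit 8]

theorem EXo_0_dist : Dist 24 EXo_E1 EXo_G0 (⟨7, by decide⟩ : Fin 24) EXo_0_ts EXo_0_ds :=
  dist_of_distB (k := 2) q_hn EXo_E1_ok EXo_G0_ok (by decide : 7 < 24) (by decide +kernel)

noncomputable def EXo_0_sl0 : SL := (SL.cons (nat_lit 1) (nat_lit 22) (Ch.cons (nat_lit 1) [nat_lit 5, nat_lit 7, nat_lit 9, nat_lit 11, nat_lit 13] Ch.nil) [nat_lit 13, nat_lit 1289, nat_lit 5, nat_lit 11, nat_lit 9] (SL.cons (nat_lit 2) (nat_lit 18) (Ch.cons (nat_lit 1) [nat_lit 5, nat_lit 11, nat_lit 13] Ch.nil) [nat_lit 9, nat_lit 11, nat_lit 5] (SL.cons (nat_lit 66306) (nat_lit 8) (Ch.cons (nat_lit 1) [nat_lit 13, nat_lit 9] (Ch.cons (nat_lit 2) [nat_lit 1281] Ch.nil)) [nat_lit 1289, nat_lit 1293, nat_lit 1793] SL.nil)))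

theorem EXo_0_sc0 : SCs 24 EXo_E1 EXo_G0 (⟨7, by decide⟩ : Fin 24) (SL.words EXo_0_sl0) :=
  scs_of_ok q_hn (det_lab q_hk ⊤) EXo_E1_ok EXo_G0_ok le_top le_top (by decide : 7 < 24) EXo_0_fix EXo_card1.le (by decide +kernel)

noncomputable def EXo_0_l : List ℕ := (appL (SL.words EXo_0_sl0) [])

theorem EXo_0_scs : SCs 24 EXo_E1 EXo_G0 (⟨7, by decide⟩ : Fin 24) EXo_0_l :=
  (SCs.append EXo_0_sc0 SCs.nil)

noncomputable def EXo_0_rl0_0 : RL := (RL.cons (nat_lit 0) (nat_lit 7) (nat_lit 0) (nat_lit 0) (nat_lit 2) (nat_lit 0) (RL.cons (nat_lit 1) (nat_lit 22) (nat_lit 0) (nat_lit 0) (nat_lit 0) (nat_lit 0) (RL.cons (nat_lit 1) (nat_lit 13) (nat_lit 1) (nat_lit 0) (nat_lit 3) (nat_lit 0) (RL.cons (nat_lit 2) (nat_lit 18) (nat_lit 0) (nat_lit 0) (nat_lit 1) (nat_lit 0) (RL.cons (nat_lit 2) (nat_lit 21) (nat_lit 1) (nat_lit 1) (nat_lit 1) (nat_lit 1) (RL.cons (nat_lit 3) (nat_lit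 8) (nat_lit 0) (nat_lit 1) (nat_lit 2) (nat_lit 2817) RL.nil))))))

theorem EXo_0_good0_0 : GoodSet 24 EXo_E1 EXo_G0 (⟨7, by decide⟩ : Fin 24) EXo_0_ts (nat_lit 1) (RL.pts EXo_0_rl0_0) :=
  goodSet_of_ok q_hn (det_lab q_hk ⊤) EXo_E1_ok EXo_G0_ok le_top le_top (by decide : 7 < 24) (sepAt_lab q_hk _) (by decide +kernel)

theorem EXo_0_step0 : Step 24 EXo_E1 EXo_G0 EXo_0_ts (2 * 0 + 1) :=
  step_of_cover EXo_E1_ok EXo_0_dist (by decide +kernel) EXo_0_scs (by decide +kernel) EXo_0_good0_0 (kw := [nat_lit 5, nat_lit 7, nat_lit 9, nat_lit 11, nat_lit 13])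
    (conj_mem_of_scs EXo_E1_ok EXo_G0_ok (by decide : 7 < 24) EXo_0_scs (c := 0) (d := 22) (by decide +kernel)) (by decide +kernel)

theorem EXo_0_lev : grp 24 EXo_G0 ⊓ MulAction.stabilizer (Equiv.Perm (Fin 24)) (⟨7, by decide⟩ : Fin 24) = grp 24 EXo_E1 :=
  sims_level (gs := q_V49) rfl (by decide) EXo_0_fix EXo_0_dist (forall_lt_one EXo_0_step0)

theorem EXo_0_cardG : Nat.card (grp 24 EXo_G0) = 96 :=
  card_of_level q_hn EXo_G0_ok (by decide : 7 < 24) EXo_0_lev EXo_card1 (m := 6) (by decide +kernel)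

theorem q_le64 : grp 24 EXo_E0 ≤ grp 24 EXo_G0 :=
  grp_le_of_memB q_hn q_hk EXo_G0_ok EXo_E0_ok (ws := [nat_lit 1, nat_lit 2, nat_lit 852737, nat_lit 721411, nat_lit 3, nat_lit 5, nat_lit 7, nat_lit 9, nat_lit 11, nat_lit 13, nat_lit 15]) (by decide +kernel)

theorem q_le65 : grp 24 EXo_G0 ≤ grp 24 EXo_E0 :=
  grp_le_of_memB q_hn q_hk EXo_E0_ok EXo_G0_ok (ws := [nat_lit 1, nat_lit 9, nat_lit 11, nat_lit 13, nat_lit 15, nat_lit 17, nat_lit 19, nat_lit 21]) (by decide +kernel)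

theorem EXo_0_eq : grp 24 EXo_E0 = grp 24 EXo_G0 :=
  le_antisymm q_le64 q_le65

theorem EXo_card0 : Nat.card (grp 24 EXo_E0) = 96 :=
  by rw [EXo_0_eq]; exact EXo_0_cardG

theorem EXo_stab0 : grp 24 EXo_E0 ⊓ MulAction.stabilizer (Equiv.Perm (Fin 24)) (⟨7, by decide⟩ : Fin 24) = grp 24 EXo_E1 :=
  by rw [EXo_0_eq]; exact EXo_0_lev

theorem EXo_leO0 : grp 24 EXo_E0 ≤ grp 24 EX :=
  EXo_0_eq.le.trans (grp_cons_le ((le_refl (grp 24 EX)) (q_le50 (toPerm_mem_grp (E := q_V49) (by simp [q_V49])))) EXo_leO1)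

theorem q_le66 : grp 24 EX ≤ grp 24 EXo_E0 :=
  grp_le_of_memB q_hn q_hk EXo_E0_ok EX_ok (ws := [nat_lit 3, nat_lit 5, nat_lit 7]) (by decide +kernel)

theorem EXo_eq : grp 24 EX = grp 24 EXo_E0 :=
  le_antisymm q_le66 EXo_leO0

theorem EXo_card : Nat.card (grp 24 EX) = 96 :=
  by rw [EXo_eq]; exact EXo_card0

noncomputable def EXo_ch : Ch := (Ch.cons (nat_lit 7) [nat_lit 1, nat_lit 3, nat_lit 5, nat_lit 7] (Ch.cons (nat_lit 22) [nat_lit 9, nat_lit 11] (Ch.cons (nat_lit 1) [nat_lit 13, nat_lit 15, nat_lit 17, nat_lit 19, nat_lit 21] Ch.nil)))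

theorem EXo_exact : Ch.Exact 24 EXo_E0 EXo_ch (grp 24 EXo_E0) :=
  Ch.exact (k := 5) (L := (lab 24 5)) q_hn EXo_E0_ok (by decide +kernel) (wgrp_le_grp _ _ _) EXo_card0.le

theorem q_le67 : grp 24 KZ ≤ grp 24 EvM22.lb_E :=
  grp_le_of_memB q_hn q_hk EvM22.lb_E_ok KZ_ok (ws := [nat_lit 0x131517090c0706, nat_lit 0x1315091005080208, nat_lit 0x1315090f0706, nat_lit 0x13170e091905080b0203, nat_lit 0x13190d09090e050b0101]) (by decide +kernel)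

theorem KZ_G : grp 24 KZ ≤ (grp 24 EvM22.E) :=
  (q_le67).trans EvM22.lb_le

theorem KZ_C : grp 24 KZ ≤ (grp 24 EvM22.E) ⊓ H62.TE.c1 (Net.toPerm 24 EvM22.p_g104) :=
  le_inf KZ_G (EvG.le_cent q_hn q_hk (by decide +kernel))

theorem y_G : Net.toPerm 24 q_g68 ∈ (grp 24 EvM22.E) :=
  EvM22.lb_le (mem_grp_of_memB q_hn q_hk EvM22.lb_E_ok q_g68_ok (w := (nat_lit 0x13170e0a060107)) (by decide +kernel))

theorem x_N : Net.toPerm 24 q_g69 ∈ (grp 24 EvM22.EG) :=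
  T_s0.le (mem_grp_of_memB q_hn q_hk EvM22.N_E0_ok q_g69_ok (w := (nat_lit 0x2117112b0d070701)) (by decide +kernel))

theorem x_G : (Net.toPerm 24 q_g69) ∉ (grp 24 EvM22.E) :=
  Ej.nmem_of (EvG.mul_net q_hn q_hk (by decide +kernel)) y_G u_G

theorem CZ_dvd : Nat.card ↥((grp 24 EvM22.E) ⊓ H62.TE.c1 (Net.toPerm 24 EvM22.p_g104)) ∣ 384 :=
  EvG.two_mul_dvd' EvM22.amb x_N (EvG.comm_net q_hn q_hk (by decide +kernel)) (EvG.sq_net q_hn q_hk (by decide +kernel)) x_G EvM22.nt_c2_card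

theorem CZ_le : (grp 24 EvM22.E) ⊓ H62.TE.c1 (Net.toPerm 24 EvM22.p_g104) ≤ grp 24 KZ :=
  Ej.le_of_card KZ_C KZlb_ge CZ_dvd (by norm_num)

theorem EX_n : grp 24 KZ ≤ Subgroup.normalizer (grp 24 EX : Set (Equiv.Perm (Fin 24))) :=
  EvG.le_norm q_hn q_hk KZ_ok EX_ok EXo_E0_ok EXo_eq.ge (W := [[nat_lit 2, nat_lit 0x130109, nat_lit 854274], [nat_lit 2306, nat_lit 0x130901, nat_lit 5382], [nat_lit 0xd110906, nat_lit 0xd150901, nat_lit 4358], [nat_lit 0x130109, nat_lit 2, nat_lit 857345], [nat_lit 856322, nat_lit 0x130901, nat_lit 4358]]) (by decide +kernel)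

theorem xz : H62.EJ.Xp 3 ((grp 24 EvM22.E) ⊓ H62.TE.c1 (Net.toPerm 24 EvM22.p_g104)) = grp 24 EX :=
  Ej.xp_of_norm ((grp_mono (List.subset_append_left EX [q_g40, EvM22.p_g134])).trans KZ_C) (CZ_le.trans EX_n) (k := 2) (m := 96) CZ_dvd EXo_card (Ej.cube q_hn q_hk (by decide +kernel))

theorem z_X : Net.toPerm 24 EvM22.p_g104 ∈ grp 24 EX :=
  EXo_eq.ge (mem_grp_of_memB q_hn q_hk EXo_E0_ok EvM22.p_g104_ok (w := (nat_lit 19)) (by decide +kernel))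

theorem q_le70 : grp 24 UB ≤ grp 24 EXo_E0 :=
  grp_le_of_memB q_hn q_hk EXo_E0_ok UB_ok (ws := [nat_lit 0x11090205, nat_lit 0x15090205, nat_lit 17, nat_lit 5385, nat_lit 19]) (by decide +kernel)

theorem B_X : grp 24 UB ≤ grp 24 EX :=
  (q_le70).trans EXo_eq.ge

theorem B_n : grp 24 EX ≤ H62.TE.nz (grp 24 UB) :=
  Ej.le_nz_of_nzB q_hn q_hk UB_ok EX_ok (W := [[nat_lit 25, nat_lit 30, nat_lit 19, nat_lit 1, nat_lit 16], [nat_lit 24, nat_lit 28, nat_lit 7, nat_lit 9, nat_lit 16], [nat_lit 9, nat_lit 30, nat_lit 3, nat_lit 17, nat_lit 16]]) (by decide +kernel)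

theorem B_poly : Ej.Poly 24 UB :=
  Ej.Poly.tail (A := UA) U_poly

theorem B_ge : 2 ^ 5 ≤ Nat.card (grp 24 UB) :=
  Ej.Poly.card_tail (A := UA) (B := UB) U_poly U_ge

theorem B_U : grp 24 UB ≤ grp 24 U :=
  grp_mono (List.subset_append_right UA UB)

theorem o2z : pCoreTwoOf (H62.EJ.Xp 3 ((grp 24 EvM22.E) ⊓ H62.TE.c1 (Net.toPerm 24 EvM22.p_g104))) = grp 24 UB :=
  xz ▸ Ej.o2_syl B_X B_n (bx.syl.isPGroup.to_le B_U) B_ge (m := 3) EXo_card (by norm_num)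

theorem dv : Ej.Dv (grp 24 EvM22.E) (grp 24 EvM22.EG) (Net.toPerm 24 EvM22.p_g104) (grp 24 U) :=
  ⟨⟨_, CZ_le, crit.gen q_hn q_hk z_G KZ_G (m := 3) (by decide) (by decide +kernel)⟩,
    ⟨_, e_U, _, c_G, Ej.cube1 q_hn q_hk (by decide +kernel), Ej.conj_net q_hn q_hk (by decide +kernel), Ej.conj_net2 q_hn q_hk (by decide +kernel), k1, k2⟩,
    xz ▸ z_X, o2z ▸ Ej.cnt_ne q_hn q_hk UB_ok B_poly B_ge (B_U.trans U_G) EvM22.p_g104_ok crit (by decide +kernel)⟩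

theorem q_le72 : grp 24 Y ≤ grp 24 EvM22.N_E0 :=
  grp_le_of_memB q_hn q_hk EvM22.N_E0_ok Y_ok (ws := [nat_lit 0x2117112b0d070701, nat_lit 0x2511140d13070d01]) (by decide +kernel)

theorem Y_le : grp 24 Y ≤ (grp 24 EvM22.EG) :=
  (q_le72.trans T_s0.le)

theorem Y_sym : Sym 24 (grp 24 EvM22.EG) EX Y 0 :=
  Sym.of_lab q_hn q_hk EX_ok Y_ok Y_le (kT := 0) (by decide +kernel)

theorem q_le74 : grp 24 q_V73 ≤ grp 24 q_V33 :=
  grp_le_of_memB q_hn q_hk q_V33_ok q_V73_ok (ws := [nat_lit 3]) (by decide +kernel)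

theorem T_s6 : Stab 24 (grp 24 EvM22.EG) [nat_lit 15, nat_lit 2, nat_lit 14, nat_lit 12, nat_lit 5] q_V73 2 :=
  Stab.step (k := 5) (L := (lab 24 5)) q_hn T_s4 q_V73_ok q_le74 (c := (Ch.cons (nat_lit 16) [nat_lit 1] Ch.nil)) (by decide +kernel)

theorem T_s7 : Stab 24 (grp 24 EvM22.EG) [nat_lit 16, nat_lit 15, nat_lit 2, nat_lit 14, nat_lit 12, nat_lit 5] q_V75 1 :=
  Stab.step (k := 5) (L := (lab 24 5)) q_hn T_s6 q_V75_ok (grp_mono (List.subset_append_right [q_g28] _)) (c := Ch.nil) (by decide +kernel)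

noncomputable def T_s7_O : ℕ := (nat_lit 0x933332e0f83ec67318b26d92000020001000004000000004008000010000)

theorem T_s7_F : Frame 24 (grp 24 EvM22.EG) 6 10 T_s7_O 1 1 :=
  IsBase.frame T_s7.isBase (by decide +kernel)

noncomputable def T_s6_O : ℕ := (nat_lit 0x40000020000002000005000010080000240000028000014008001000000a000020001000004000000004008000)

theorem T_s6_F : Frame 24 (grp 24 EvM22.EG) 5 15 T_s6_O 0 1 :=
  Stab.frame q_hn T_s6 (by decide +kernel)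

noncomputable def Y_cnt_L : List ℕ := [5, 15, T_s6_O, 0, 0, 6, 10, T_s7_O, 1, 0]

theorem Y_cnt_P : Prob 24 5 (grp 24 EvM22.EG) Y_cnt_EG EX EX Y Y_cnt_L 0 0 :=
  Sym.prob q_hn q_hk Y_sym Y_cnt_EG_ok (grp_cons_le q_g27_T (grp_cons_le q_g28_T (grp_cons_le q_g25_T (grp_cons_le q_g26_T (grp_cons_le q_g24_T (grp_cons_le q_g23_T (grp_cons_le EvM22.p_g22_T (grp_cons_le EvM22.p_g1_T (grp_cons_le EvM22.p_g2_T (grp_cons_le EvM22.p_g29_T (grp_cons_le EvM22.p_g25_T (grp_cons_le EvM22.p_g26_T (grp_cons_le EvM22.p_g36_T (grp_cons_le EvM22.p_g32_T (grp_cons_le EvM22.p_g42_T (grp_cons_le EvM22.p_g33_T (grp_cons_le EvM22.p_g39_T (grp_cons_le EvM22.p_g50_T (grp_cons_le EvM22.p_g45_T (grp_cons_le EvM22.p_g46_T (grp_cons_le EvM22.p_g47_T (grp_cons_le EvM22.p_g59_T (grp_cons_le EvM22.p_g60_T (grp_cons_le EvM22.p_g61_T (grp_cons_le EvM22.p_g62_T (grp_cons_le EvM22.p_g53_T (grp_cons_le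 EvM22.p_g54_T (grp_cons_le EvM22.p_g55_T (grp_cons_le EvM22.p_g56_T (grp_nil_le _)))))))))))))))))))))))))))))) (Frames.cons T_s6_F (Frames.cons T_s7_F Frames.nil)) EX_ok _

noncomputable def Y_cnt_t : BT := (BT.fix (nat_lit 1) (BT.fix (nat_lit 5) (BT.dif (nat_lit 1) (nat_lit 0) (BT.br (nat_lit 0) (nat_lit 12) [nat_lit 1] (BT.kid (nat_lit 12) (nat_lit 2) (BT.dif (nat_lit 6) (nat_lit 3) (BT.dif (nat_lit 2) (nat_lit 1) (BT.img (nat_lit 5) (nat_lit 2) (BT.img (nat_lit 5) (nat_lit 0) (BT.img (nat_lit 3) (nat_lit 4) (BT.frm (nat_lit 0) (nat_lit 0x5080909060c0210) (nat_lit 0x5080909060c0210) [nat_lit 3, nat_lit 1, nat_lit 2, nat_lit 0, nat_lit 5] (BT.pln (nat_lit 0) (nat_lit 11) (BT.and (nat_lit 6) (nat_lit 0) (BT.br (nat_lit 0) (nat_lit 13) [nat_lit 3] (BT.kid (nat_lit 13) (nat_lit 1) (BT.one (nat_lit 1) (nat_lit 0x5080909060c0210) (nat_lit 0x5080909060c0210) [nat_lit 0,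 nat_lit 7, nat_lit 5, nat_lit 6, nat_lit 4, nat_lit 9]) BT.nil)))))))))) BT.nil)))))

theorem Y_cnt : Cnt 24 (grp 24 EvM22.EG) EX EX 0 0 0 0 4 :=
  BT.sound Y_cnt_P Known.nil (t := Y_cnt_t) (d := 0) (by decide +kernel)

theorem Y_ge : 4 ≤ Nat.card (grp 24 Y) :=
  Ch.le_card_grp (k := 5) (L := (lab 24 5)) q_hn Y_ok (c := (Ch.cons (nat_lit 12) [nat_lit 1] (Ch.cons (nat_lit 13) [nat_lit 3] Ch.nil))) (by decide +kernel)

theorem Y_eq : (grp 24 EvM22.EG) ⊓ Subgroup.centralizer (grp 24 EX : Set (Equiv.Perm (Fin 24))) = grp 24 Y :=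
  cent_grp_eq Y_sym Y_cnt Y_ge

theorem Y_card : Nat.card (grp 24 Y) = 4 :=
  (Y_sym.mem_iff Y_cnt Y_ge).1

theorem ey : Ej.Ey (grp 24 EvM22.E) (grp 24 EvM22.EG) (Net.toPerm 24 EvM22.p_g104) :=
  Ej.ey_of xz Y_eq fun y hy _ => Ej.el_net q_hn q_hk (by decide +kernel) y hy

theorem q_le84 : grp 24 q_V83 ≤ grp 24 mbu_T :=
  grp_le_of_memB q_hn q_hk mbu_T_ok q_V83_ok (ws := [nat_lit 0x40103020303030302, nat_lit 0x2030303030302]) (by decide +kernel)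

theorem q_le88 : grp 24 q_V87 ≤ grp 24 q_V83 :=
  grp_le_of_memB q_hn q_hk q_V83_ok q_V87_ok (ws := [nat_lit 0x3030302, nat_lit 0x402030204]) (by decide +kernel)

theorem q_le92 : grp 24 q_V91 ≤ grp 24 q_V87 :=
  grp_le_of_memB q_hn q_hk q_V87_ok q_V91_ok (ws := [nat_lit 0x103030104, nat_lit 0x4020204]) (by decide +kernel)

theorem mbu_lb_le : grp 24 mbu_lb_E ≤ grp 24 mbu_T :=
  (grp_cons_le ((le_refl (grp 24 mbu_T)) (toPerm_mem_grp (E := mbu_T) (by simp [mbu_T]))) (grp_cons_le ((le_refl (grp 24 mbu_T)) (toPerm_mem_grp (E := mbu_T) (by simp [mbu_T]))) (grp_cons_le ((q_le84.trans (le_refl (grp 24 mbu_T))) (toPerm_mem_grp (E := q_V83) (by simp [q_V83]))) (grp_cons_le ((q_le84.trans (le_refl (grp 24 mbu_T))) (toPerm_mem_grp (E := q_V83) (by simp [q_V83]))) (grp_cons_le ((q_le88.trans (q_le84.trans (le_refl (grp 24 mbu_T)))) (toPerm_mem_grp (E := q_V87) (by simp [q_V87])))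 (grp_cons_le ((q_le88.trans (q_le84.trans (le_refl (grp 24 mbu_T)))) (toPerm_mem_grp (E := q_V87) (by simp [q_V87]))) (grp_cons_le ((q_le92.trans (q_le88.trans (q_le84.trans (le_refl (grp 24 mbu_T))))) (toPerm_mem_grp (E := q_V91) (by simp [q_V91]))) (grp_cons_le ((q_le92.trans (q_le88.trans (q_le84.trans (le_refl (grp 24 mbu_T))))) (toPerm_mem_grp (E := q_V91) (by simp [q_V91]))) (grp_nil_le _)))))))))

noncomputable def mbu_lb_ch : Ch := (Ch.cons (nat_lit 2) [nat_lit 1, nat_lit 3] (Ch.cons (nat_lit 6) [nat_lit 5, nat_lit 7] (Ch.cons (nat_lit 1) [nat_lit 9, nat_lit 11] (Ch.cons (nat_lit 3) [nat_lit 13, nat_lit 15] Ch.nil))))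

theorem mbu_lb_chk : Ch.chk 24 5 (lab 24 5) mbu_lb_E mbu_lb_ch 1344 = true :=
  by decide +kernel

theorem mbu_lb_ge : 1344 ≤ Nat.card (grp 24 mbu_T) :=
  (Ch.le_card_grp q_hn mbu_lb_E_ok mbu_lb_chk).trans (Subgroup.card_le_of_le mbu_lb_le)

theorem q_le93 : grp 24 mbu_E ≤ grp 24 mbu_lb_E :=
  grp_le_of_memB q_hn q_hk mbu_lb_E_ok mbu_E_ok (ws := [nat_lit 0xf0b060104, nat_lit 0xd0b080106, nat_lit 0xd0f090c080106, nat_lit 0xd0f090c]) (by decide +kernel)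

theorem mbu_ET : grp 24 mbu_E ≤ grp 24 mbu_T :=
  (q_le93).trans mbu_lb_le

theorem q_le94 : grp 24 mbu_T ≤ grp 24 EvM22.lb_E :=
  grp_le_of_memB q_hn q_hk EvM22.lb_E_ok mbu_T_ok (ws := [nat_lit 0x13170e0a0b07060407, nat_lit 0x170d090e05080b0101]) (by decide +kernel)

theorem mbu_TG : grp 24 mbu_T ≤ (grp 24 EvM22.E) :=
  (q_le94).trans EvM22.lb_le

theorem mbu_l : Net.toPerm 24 q_g95 ∈ (grp 24 EvM22.E) :=
  EvM22.lb_le (mem_grp_of_memB q_hn q_hk EvM22.lb_E_ok q_g95_ok (w := (nat_lit 0x131517190d09090e050f020f)) (by decide +kernel))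

theorem mbu_n : grp 24 mbu_L ≤ Subgroup.normalizer (grp 24 mbu_E : Set (Equiv.Perm (Fin 24))) :=
  EvG.le_norm q_hn q_hk mbu_L_ok mbu_E_ok mbu_E_ok le_rfl (W := [[nat_lit 1287, nat_lit 66309, nat_lit 775, nat_lit 3]]) (by decide +kernel)

theorem mbu_d : Net.toPerm 24 EvM22.p_g196 ∈ grp 24 mbu_E :=
  id (mem_grp_of_memB q_hn q_hk mbu_E_ok EvM22.p_g196_ok (w := (nat_lit 3)) (by decide +kernel))

theorem mbu : Ej.Mb (grp 24 EvM22.E) (Net.toPerm 24 EvM22.p_g90) :=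
  ⟨_, Ej.el_net (E := mbu_E) q_hn q_hk (by decide +kernel),
    ⟨_, mbu_ET, Ej.oddgen q_hn q_hk mbu_TG (m := 7) (by decide) (by decide +kernel)⟩,
    _, mbu_l, mbu_n (toPerm_mem_grp (E := mbu_L) (List.Mem.head _)), Ej.odd_net q_hn q_hk (m := 5) (by decide) (by decide +kernel),
    (Ej.mb_net (t := EvM22.p_g90) (l := q_g95) (d := EvM22.p_g196) q_hn q_hk (by decide +kernel)).symm ▸ mbu_d, EvG.ncomm_net (k := 5) q_hn (by decide +kernel)⟩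

theorem q_le102 : grp 24 q_V101 ≤ grp 24 mbt_T :=
  grp_le_of_memB q_hn q_hk mbt_T_ok q_V101_ok (ws := [nat_lit 0x101010401, nat_lit 0x2020404040402020301]) (by decide +kernel)

theorem mbt_lb_le : grp 24 mbt_lb_E ≤ grp 24 mbt_T :=
  (grp_cons_le ((le_refl (grp 24 mbt_T)) (toPerm_mem_grp (E := mbt_T) (by simp [mbt_T]))) (grp_cons_le ((le_refl (grp 24 mbt_T)) (toPerm_mem_grp (E := mbt_T) (by simp [mbt_T]))) (grp_cons_le ((q_le102.trans (le_refl (grp 24 mbt_T))) (toPerm_mem_grp (E := q_V101) (by simp [q_V101]))) (grp_cons_le ((q_le102.trans (le_refl (grp 24 mbt_T))) (toPerm_mem_grp (E := q_V101) (by simp [q_V101]))) (grp_nil_le _)))))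

noncomputable def mbt_lb_ch : Ch := (Ch.cons (nat_lit 1) [nat_lit 1, nat_lit 3] (Ch.cons (nat_lit 2) [nat_lit 5, nat_lit 7] Ch.nil))

theorem mbt_lb_chk : Ch.chk 24 5 (lab 24 5) mbt_lb_E mbt_lb_ch 80 = true :=
  by decide +kernel

theorem mbt_lb_ge : 80 ≤ Nat.card (grp 24 mbt_T) :=
  (Ch.le_card_grp q_hn mbt_lb_E_ok mbt_lb_chk).trans (Subgroup.card_le_of_le mbt_lb_le)

theorem q_le103 : grp 24 mbt_E ≤ grp 24 mbt_lb_E :=
  grp_le_of_memB q_hn q_hk mbt_lb_E_ok mbt_E_ok (ws := [nat_lit 459268, nat_lit 0x5010503, nat_lit 1287, nat_lit 459011]) (by decide +kernel)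

theorem mbt_ET : grp 24 mbt_E ≤ grp 24 mbt_T :=
  (q_le103).trans mbt_lb_le

theorem q_le104 : grp 24 mbt_T ≤ grp 24 EvM22.lb_E :=
  grp_le_of_memB q_hn q_hk EvM22.lb_E_ok mbt_T_ok (ws := [nat_lit 0x1517190d0b0a05150301, nat_lit 0x1517190d050b01]) (by decide +kernel)

theorem mbt_TG : grp 24 mbt_T ≤ (grp 24 EvM22.E) :=
  (q_le104).trans EvM22.lb_le

theorem mbt_l : Net.toPerm 24 q_g105 ∈ (grp 24 EvM22.E) :=
  EvM22.lb_le (mem_grp_of_memB q_hn q_hk EvM22.lb_E_ok q_g105_ok (w := (nat_lit 0xe0910050f0308)) (by decide +kernel))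

theorem mbt_n : grp 24 mbt_L ≤ Subgroup.normalizer (grp 24 mbt_E : Set (Equiv.Perm (Fin 24))) :=
  EvG.le_norm q_hn q_hk mbt_L_ok mbt_E_ok mbt_E_ok le_rfl (W := [[nat_lit 197895, nat_lit 66311, nat_lit 7, nat_lit 1287]]) (by decide +kernel)

theorem mbt_d : Net.toPerm 24 EvM22.p_g253 ∈ grp 24 mbt_E :=
  id (mem_grp_of_memB q_hn q_hk mbt_E_ok EvM22.p_g253_ok (w := (nat_lit 1)) (by decide +kernel))

theorem mbt : Ej.Mb (grp 24 EvM22.E) (Net.toPerm 24 EvM22.p_g113) :=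
  ⟨_, Ej.el_net (E := mbt_E) q_hn q_hk (by decide +kernel),
    ⟨_, mbt_ET, Ej.oddgen q_hn q_hk mbt_TG (m := 5) (by decide) (by decide +kernel)⟩,
    _, mbt_l, mbt_n (toPerm_mem_grp (E := mbt_L) (List.Mem.head _)), Ej.odd_net q_hn q_hk (m := 3) (by decide) (by decide +kernel),
    (Ej.mb_net (t := EvM22.p_g113) (l := q_g105) (d := EvM22.p_g253) q_hn q_hk (by decide +kernel)).symm ▸ mbt_d, EvG.ncomm_net (k := 5) q_hn (by decide +kernel)⟩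

theorem outr : ∀ σ ∈ (grp 24 EvM22.EG), σ ∉ (grp 24 EvM22.E) → orderOf σ = 2 → ∃ t, CjIn (grp 24 EvM22.EG) t σ ∧ Ej.Mb (grp 24 EvM22.E) t :=
  Ej.out_reps EvM22.amb EvM22.reps fun t ht => by
  rcases ht with rfl | rfl | rfl
  · exact .inr mbu
  · exact .inl z_G
  · exact .inr mbt

universe u

open Cfsg.Agent.H62.EJ

theorem kgM22 : KGF.{u} (fun S _ => Spor.IsoM22 S) := fun _ _ _ _ _ ⟨e⟩ =>
  have h := Ej.em_of EvM22.amb (e.trans EvM22.equiv)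
  bx.kg h (.inl (bx.allTC h cls))

theorem kM22V : KM22V.{u} := fun _ _ _ _ _ ⟨e⟩ =>
  have h := Ej.em_of EvM22.amb (e.trans EvM22.equiv)
  ⟨bx.allTC h cls, bx.kv0 h dv (.inl (bx.allTC h cls)), bx.kv2 h dv, bx.km0 h cls ey outr⟩

theorem kM22C : KM22C.{u} := fun _ _ _ _ _ ⟨e⟩ _ _ _ _ hπ =>
  Ej.ker12 (H80.hasSchurMultiplier_congr_left S2036.result e.symm) hπ

end Cfsg.Agent.H55.EjM22
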