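import Mathlib
import Cfsg.Agent.H43.Cent
import Cfsg.Agent.H55.EjB
import Cfsg.Agent.H17.EvM24

set_option autoImplicit false
set_option maxRecDepth 200000
set_option linter.style.longLine false

namespace Cfsg.Agent.H55.EjM24

open Cfsg.Agent.H43 Cfsg.Agent.H17
open scoped commutatorElement

theorem q_hn : NOk 24 := by decide

theorem q_hk : 24 ≤ 2 ^ 5 := by decide

noncomputable def q_g1 : Net := (Net.cons (nat_lit 1) (nat_lit 0x501000) (Net.cons (nat_lit 2) (nat_lit 0x103100) (Net.cons (nat_lit 4) (nat_lit 920832) (Net.cons (nat_lit 8) (nat_lit 176) (Net.cons (nat_lit 16) (nat_lit 240) (Net.cons (nat_lit 8) (nat_lit 38) (Net.cons (nat_lit 4) (nat_lit 658690) (Net.cons (nat_lit 2) (nat_lit 0x102100) (Net.cons (nat_lit 1) (nat_lit 0x551040) Net.nil)))))))))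

theorem q_g1_ok : Net.ok 24 q_g1 = true := by decide +kernel

noncomputable def q_g2 : Net := (Net.cons (nat_lit 1) (nat_lit 5120) (Net.cons (nat_lit 2) (nat_lit 0x102130) (Net.cons (nat_lit 4) (nat_lit 525568) (Net.cons (nat_lit 8) (nat_lit 148) (Net.cons (nat_lit 16) (nat_lit 247) (Net.cons (nat_lit 8) (nat_lit 51) (Net.cons (nat_lit 4) (nat_lit 330503) (Net.cons (nat_lit 2) (nat_lit 200738) (Net.cons (nat_lit 1) (nat_lit 0x450005) Net.nil)))))))))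

theorem q_g2_ok : Net.ok 24 q_g2 = true := by decide +kernel

noncomputable def E3 : List Net := [q_g1, q_g2]

theorem E3_ok : okE 24 E3 = true := (okE_cons.2 ⟨q_g1_ok, (okE_cons.2 ⟨q_g2_ok, (okE_nil 24)⟩)⟩)

noncomputable def q_V3 : List Net := [q_g1, q_g1]

theorem q_V3_ok : okE 24 q_V3 = true := (okE_cons.2 ⟨q_g1_ok, (okE_cons.2 ⟨q_g1_ok, (okE_nil 24)⟩)⟩)

noncomputable def E3lb_E : List Net := [q_g1, q_g2, q_g1, q_g1]

theorem E3lb_E_ok : okE 24 E3lb_E = true := (okE_cons.2 ⟨q_g1_ok, (okE_cons.2 ⟨q_g2_ok, (okE_cons.2 ⟨q_g1_ok, (okE_cons.2 ⟨q_g1_ok, (okE_nil 24)⟩)⟩)⟩)⟩)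

noncomputable def q_g5 : Net := (Net.cons (nat_lit 1) (nat_lit 0x401540) (Net.cons (nat_lit 2) (nat_lit 0x103020) (Net.cons (nat_lit 4) (nat_lit 459008) (Net.cons (nat_lit 8) (nat_lit 37) (Net.cons (nat_lit 16) (nat_lit 125) (Net.cons (nat_lit 8) (nat_lit 143) (Net.cons (nat_lit 4) (nat_lit 461826) (Net.cons (nat_lit 2) (nat_lit 0x230313) (Net.cons (nat_lit 1) (nat_lit 0x401540) Net.nil)))))))))

theorem q_g5_ok : Net.ok 24 q_g5 = true := by decide +kernel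

noncomputable def q_g6 : Net := (Net.cons (nat_lit 1) (nat_lit 331776) (Net.cons (nat_lit 2) (nat_lit 0x220000) (Net.cons (nat_lit 8) (nat_lit 2) (Net.cons (nat_lit 16) (nat_lit 163) (Net.cons (nat_lit 8) (nat_lit 32) (Net.cons (nat_lit 4) (nat_lit 131586) (Net.cons (nat_lit 2) (nat_lit 0x220110) (Net.cons (nat_lit 1) (nat_lit 348160) Net.nil))))))))

theorem q_g6_ok : Net.ok 24 q_g6 = true := by decide +kernel

noncomputable def q_g7 : Net := (Net.cons (nat_lit 1) (nat_lit 0x401000) (Net.cons (nat_lit 2) (nat_lit 143360) (Net.cons (nat_lit 4) (nat_lit 264960) (Net.cons (nat_lit 8) (nat_lit 130) (Net.cons (nat_lit 16) (nat_lit 202) (Net.cons (nat_lit 8) (nat_lit 137) (Net.cons (nat_lit 4) (nat_lit 264960) (Net.cons (nat_lit 2) (nat_lit 4354) (Net.cons (nat_lit 1) (nat_lit 0x401010) Net.nil)))))))))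

theorem q_g7_ok : Net.ok 24 q_g7 = true := by decide +kernel

noncomputable def q_g8 : Net := (Net.cons (nat_lit 1) (nat_lit 0x501400) (Net.cons (nat_lit 2) (nat_lit 131088) (Net.cons (nat_lit 4) (nat_lit 328704) (Net.cons (nat_lit 8) (nat_lit 22) (Net.cons (nat_lit 16) (nat_lit 95) (Net.cons (nat_lit 8) (nat_lit 156) (Net.cons (nat_lit 4) (nat_lit 328704) (Net.cons (nat_lit 2) (nat_lit 530) (Net.cons (nat_lit 1) (nat_lit 0x501400) Net.nil)))))))))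

theorem q_g8_ok : Net.ok 24 q_g8 = true := by decide +kernel

noncomputable def q_g9 : Net := (Net.cons (nat_lit 1) (nat_lit 0x540540) (Net.cons (nat_lit 2) (nat_lit 0x220120) (Net.cons (nat_lit 4) (nat_lit 526336) (Net.cons (nat_lit 8) (nat_lit 35) (Net.cons (nat_lit 16) (nat_lit 47) (Net.cons (nat_lit 8) (nat_lit 179) (Net.cons (nat_lit 4) (nat_lit 526338) (Net.cons (nat_lit 2) (nat_lit 0x220120) (Net.cons (nat_lit 1) (nat_lit 0x540540) Net.nil)))))))))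

theorem q_g9_ok : Net.ok 24 q_g9 = true := by decide +kernel

noncomputable def q_g10 : Net := (Net.cons (nat_lit 1) (nat_lit 0x150400) (Net.cons (nat_lit 2) (nat_lit 131840) (Net.cons (nat_lit 4) (nat_lit 2816) (Net.cons (nat_lit 8) (nat_lit 210) (Net.cons (nat_lit 16) (nat_lit 255) (Net.cons (nat_lit 8) (nat_lit 89) (Net.cons (nat_lit 4) (nat_lit 721418) (Net.cons (nat_lit 2) (nat_lit 0x321012) (Net.cons (nat_lit 1) (nat_lit 0x541101) Net.nil)))))))))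

theorem q_g10_ok : Net.ok 24 q_g10 = true := by decide +kernel

noncomputable def q_g11 : Net := (Net.cons (nat_lit 1) (nat_lit 0x410110) (Net.cons (nat_lit 2) (nat_lit 0x120000) (Net.cons (nat_lit 4) (nat_lit 920576) (Net.cons (nat_lit 8) (nat_lit 225) (Net.cons (nat_lit 16) (nat_lit 237) (Net.cons (nat_lit 8) (nat_lit 105) (Net.cons (nat_lit 4) (nat_lit 394250) (Net.cons (nat_lit 2) (nat_lit 0x120000) (Net.cons (nat_lit 1) (nat_lit 0x410110) Net.nil)))))))))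

theorem q_g11_ok : Net.ok 24 q_g11 = true := by decide +kernel

noncomputable def q_g12 : Net := (Net.cons (nat_lit 1) (nat_lit 0x404444) (Net.cons (nat_lit 2) (nat_lit 0x300120) (Net.cons (nat_lit 4) (nat_lit 395776) (Net.cons (nat_lit 8) (nat_lit 67) (Net.cons (nat_lit 16) (nat_lit 111) (Net.cons (nat_lit 8) (nat_lit 44) (Net.cons (nat_lit 4) (nat_lit 394496) (Net.cons (nat_lit 2) (nat_lit 209187) (Net.cons (nat_lit 1) (nat_lit 0x151111) Net.nil)))))))))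

theorem q_g12_ok : Net.ok 24 q_g12 = true := by decide +kernel

noncomputable def q_g13 : Net := (Net.cons (nat_lit 1) (nat_lit 0x405050) (Net.cons (nat_lit 2) (nat_lit 0x103200) (Net.cons (nat_lit 4) (nat_lit 589824) (Net.cons (nat_lit 8) (nat_lit 210) (Net.cons (nat_lit 16) (nat_lit 222) (Net.cons (nat_lit 8) (nat_lit 63) (Net.cons (nat_lit 4) (nat_lit 593679) (Net.cons (nat_lit 2) (nat_lit 0x203100) (Net.cons (nat_lit 1) (nat_lit 0x150505) Net.nil)))))))))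

theorem q_g13_ok : Net.ok 24 q_g13 = true := by decide +kernel

noncomputable def U : List Net := [q_g5, q_g6, q_g7, q_g8, q_g9, q_g10, q_g11, q_g12, q_g13, EvM24.p_g39]

theorem U_ok : okE 24 U = true := (okE_cons.2 ⟨q_g5_ok, (okE_cons.2 ⟨q_g6_ok, (okE_cons.2 ⟨q_g7_ok, (okE_cons.2 ⟨q_g8_ok, (okE_cons.2 ⟨q_g9_ok, (okE_cons.2 ⟨q_g10_ok, (okE_cons.2 ⟨q_g11_ok, (okE_cons.2 ⟨q_g12_ok, (okE_cons.2 ⟨q_g13_ok, (okE_cons.2 ⟨EvM24.p_g39_ok, (okE_nil 24)⟩)⟩)⟩)⟩)⟩)⟩)⟩)⟩)⟩)⟩)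

noncomputable def q_g14 : Net := (Net.cons (nat_lit 1) (nat_lit 0x400100) (Net.cons (nat_lit 2) (nat_lit 0x110200) (Net.cons (nat_lit 4) (nat_lit 3072) (Net.cons (nat_lit 8) (nat_lit 38) (Net.cons (nat_lit 16) (nat_lit 183) (Net.cons (nat_lit 8) (nat_lit 42) (Net.cons (nat_lit 4) (nat_lit 853257) (Net.cons (nat_lit 2) (nat_lit 208896) (Net.cons (nat_lit 1) (nat_lit 0x505000) Net.nil)))))))))

theorem q_g14_ok : Net.ok 24 q_g14 = true := by decide +kernel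

noncomputable def q_g15 : Net := (Net.cons (nat_lit 1) (nat_lit 263424) (Net.cons (nat_lit 2) (nat_lit 78080) (Net.cons (nat_lit 4) (nat_lit 330240) (Net.cons (nat_lit 8) (nat_lit 8) (Net.cons (nat_lit 16) (nat_lit 157) (Net.cons (nat_lit 8) (nat_lit 101) (Net.cons (nat_lit 4) (nat_lit 592649) (Net.cons (nat_lit 2) (nat_lit 0x111130) (Net.cons (nat_lit 1) (nat_lit 0x114554) Net.nil)))))))))

theorem q_g15_ok : Net.ok 24 q_g15 = true := by decide +kernel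

noncomputable def q_g16 : Net := (Net.cons (nat_lit 1) (nat_lit 0x100100) (Net.cons (nat_lit 2) (nat_lit 0x300300) (Net.cons (nat_lit 4) (nat_lit 133888) (Net.cons (nat_lit 8) (nat_lit 36) (Net.cons (nat_lit 16) (nat_lit 60) (Net.cons (nat_lit 8) (nat_lit 193) (Net.cons (nat_lit 4) (nat_lit 722181) (Net.cons (nat_lit 2) (nat_lit 0x331331) (Net.cons (nat_lit 1) (nat_lit 0x111004) Net.nil)))))))))

theorem q_g16_ok : Net.ok 24 q_g16 = true := by decide +kernel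

noncomputable def q_V17 : List Net := [q_g14, q_g15, q_g16]

theorem q_V17_ok : okE 24 q_V17 = true := (okE_cons.2 ⟨q_g14_ok, (okE_cons.2 ⟨q_g15_ok, (okE_cons.2 ⟨q_g16_ok, (okE_nil 24)⟩)⟩)⟩)

noncomputable def q_g19 : Net := (Net.cons (nat_lit 1) (nat_lit 0x115014) (Net.cons (nat_lit 2) (nat_lit 0x110330) (Net.cons (nat_lit 4) (nat_lit 2048) (Net.cons (nat_lit 8) (nat_lit 146) (Net.cons (nat_lit 16) (nat_lit 190) (Net.cons (nat_lit 8) (nat_lit 230) (Net.cons (nat_lit 4) (nat_lit 263173) (Net.cons (nat_lit 2) (nat_lit 0x330331) (Net.cons (nat_lit 1) (nat_lit 65620) Net.nil)))))))))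

theorem q_g19_ok : Net.ok 24 q_g19 = true := by decide +kernel

noncomputable def q_g20 : Net := (Net.cons (nat_lit 1) (nat_lit 0x544440) (Net.cons (nat_lit 2) (nat_lit 0x123300) (Net.cons (nat_lit 4) (nat_lit 329728) (Net.cons (nat_lit 8) (nat_lit 57) (Net.cons (nat_lit 16) (nat_lit 121) (Net.cons (nat_lit 8) (nat_lit 48) (Net.cons (nat_lit 4) (nat_lit 328704) (Net.cons (nat_lit 2) (nat_lit 0x333321) (Net.cons (nat_lit 1) (nat_lit 0x444440) Net.nil)))))))))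

theorem q_g20_ok : Net.ok 24 q_g20 = true := by decide +kernel

noncomputable def q_g21 : Net := (Net.cons (nat_lit 1) (nat_lit 0x504554) (Net.cons (nat_lit 2) (nat_lit 13056) (Net.cons (nat_lit 4) (nat_lit 787456) (Net.cons (nat_lit 8) (nat_lit 144) (Net.cons (nat_lit 16) (nat_lit 149) (Net.cons (nat_lit 8) (nat_lit 13) (Net.cons (nat_lit 4) (nat_lit 395276) (Net.cons (nat_lit 2) (nat_lit 0x102311) (Net.cons (nat_lit 1) (nat_lit 0x410554) Net.nil)))))))))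

theorem q_g21_ok : Net.ok 24 q_g21 = true := by decide +kernel

noncomputable def q_g22 : Net := (Net.cons (nat_lit 1) (nat_lit 349248) (Net.cons (nat_lit 2) (nat_lit 0x200100) (Net.cons (nat_lit 4) (nat_lit 854272) (Net.cons (nat_lit 8) (nat_lit 2) (Net.cons (nat_lit 16) (nat_lit 15) (Net.cons (nat_lit 8) (nat_lit 11) (Net.cons (nat_lit 4) (nat_lit 659204) (Net.cons (nat_lit 2) (nat_lit 0x113020) (Net.cons (nat_lit 1) (nat_lit 0x154540) Net.nil)))))))))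

theorem q_g22_ok : Net.ok 24 q_g22 = true := by decide +kernel

noncomputable def q_g23 : Net := (Net.cons (nat_lit 1) (nat_lit 0x441504) (Net.cons (nat_lit 2) (nat_lit 0x123010) (Net.cons (nat_lit 4) (nat_lit 918016) (Net.cons (nat_lit 8) (nat_lit 22) (Net.cons (nat_lit 16) (nat_lit 30) (Net.cons (nat_lit 8) (nat_lit 167) (Net.cons (nat_lit 4) (nat_lit 197888) (Net.cons (nat_lit 2) (nat_lit 0x121030) (Net.cons (nat_lit 1) (nat_lit 349248) Net.nil)))))))))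

theorem q_g23_ok : Net.ok 24 q_g23 = true := by decide +kernel

noncomputable def q_V24 : List Net := [q_g19, q_g20, q_g21, q_g22, q_g23]

theorem q_V24_ok : okE 24 q_V24 = true := (okE_cons.2 ⟨q_g19_ok, (okE_cons.2 ⟨q_g20_ok, (okE_cons.2 ⟨q_g21_ok, (okE_cons.2 ⟨q_g22_ok, (okE_cons.2 ⟨q_g23_ok, (okE_nil 24)⟩)⟩)⟩)⟩)⟩)

noncomputable def q_g26 : Net := (Net.cons (nat_lit 1) (nat_lit 0x541004) (Net.cons (nat_lit 2) (nat_lit 196608) (Net.cons (nat_lit 4) (nat_lit 196608) (Net.cons (nat_lit 8) (nat_lit 82) (Net.cons (nat_lit 16) (nat_lit 82) (Net.cons (nat_lit 8) (nat_lit 82) (Net.cons (nat_lit 4) (nat_lit 919560) (Net.cons (nat_lit 2) (nat_lit 0x121001) (Net.cons (nat_lit 1) (nat_lit 0x541004) Net.nil)))))))))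

theorem q_g26_ok : Net.ok 24 q_g26 = true := by decide +kernel

noncomputable def q_g27 : Net := (Net.cons (nat_lit 1) (nat_lit 86272) (Net.cons (nat_lit 2) (nat_lit 0x130000) (Net.cons (nat_lit 4) (nat_lit 1280) (Net.cons (nat_lit 8) (nat_lit 144) (Net.cons (nat_lit 16) (nat_lit 152) (Net.cons (nat_lit 8) (nat_lit 29) (Net.cons (nat_lit 4) (nat_lit 920840) (Net.cons (nat_lit 2) (nat_lit 0x130000) (Net.cons (nat_lit 1) (nat_lit 86272) Net.nil)))))))))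

theorem q_g27_ok : Net.ok 24 q_g27 = true := by decide +kernel

noncomputable def q_g28 : Net := (Net.cons (nat_lit 1) (nat_lit 0x105000) (Net.cons (nat_lit 2) (nat_lit 139264) (Net.cons (nat_lit 4) (nat_lit 524288) (Net.cons (nat_lit 8) (nat_lit 42) (Net.cons (nat_lit 16) (nat_lit 42) (Net.cons (nat_lit 8) (nat_lit 42) (Net.cons (nat_lit 4) (nat_lit 524296) (Net.cons (nat_lit 2) (nat_lit 0x123001) (Net.cons (nat_lit 1) (nat_lit 0x115000) Net.nil)))))))))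

theorem q_g28_ok : Net.ok 24 q_g28 = true := by decide +kernel

noncomputable def q_V29 : List Net := [q_g26, q_g27, q_g28, EvM24.p_g135]

theorem q_V29_ok : okE 24 q_V29 = true := (okE_cons.2 ⟨q_g26_ok, (okE_cons.2 ⟨q_g27_ok, (okE_cons.2 ⟨q_g28_ok, (okE_cons.2 ⟨EvM24.p_g135_ok, (okE_nil 24)⟩)⟩)⟩)⟩)

noncomputable def Ulb_E : List Net := [q_g5, q_g6, q_g7, q_g8, q_g9, q_g10, q_g11, q_g12, q_g13, EvM24.p_g39, q_g14, q_g15, q_g16, q_g19, q_g20, q_g21, q_g22, q_g23, q_g26, q_g27, q_g28, EvM24.p_g135]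

theorem Ulb_E_ok : okE 24 Ulb_E = true := (okE_cons.2 ⟨q_g5_ok, (okE_cons.2 ⟨q_g6_ok, (okE_cons.2 ⟨q_g7_ok, (okE_cons.2 ⟨q_g8_ok, (okE_cons.2 ⟨q_g9_ok, (okE_cons.2 ⟨q_g10_ok, (okE_cons.2 ⟨q_g11_ok, (okE_cons.2 ⟨q_g12_ok, (okE_cons.2 ⟨q_g13_ok, (okE_cons.2 ⟨EvM24.p_g39_ok, (okE_cons.2 ⟨q_g14_ok, (okE_cons.2 ⟨q_g15_ok, (okE_cons.2 ⟨q_g16_ok, (okE_cons.2 ⟨q_g19_ok, (okE_cons.2 ⟨q_g20_ok, (okE_cons.2 ⟨q_g21_ok, (okE_cons.2 ⟨q_g22_ok, (okE_cons.2 ⟨q_g23_ok, (okE_cons.2 ⟨q_g26_ok, (okE_cons.2 ⟨q_g27_ok, (okE_cons.2 ⟨q_g28_ok, (okE_cons.2 ⟨EvM24.p_g135_ok, (okE_nil 24)⟩)⟩)⟩)⟩)⟩)⟩)⟩)⟩)⟩)⟩)⟩)⟩)⟩)⟩)⟩)⟩)⟩)⟩)⟩)⟩)⟩)⟩)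

noncomputable def CU : List Net := [EvM24.p_g39]

theorem CU_ok : okE 24 CU = true := (okE_cons.2 ⟨EvM24.p_g39_ok, (okE_nil 24)⟩)

noncomputable def q_V33 : List Net := [EvM24.p_g3, EvM24.p_g4, EvM24.p_g7, EvM24.p_g8, EvM24.p_g11, EvM24.p_g12, EvM24.p_g15, EvM24.p_g16, EvM24.p_g19, EvM24.p_g20, EvM24.p_g21, EvM24.p_g24, EvM24.p_g25, EvM24.p_g26, EvM24.p_g27, EvM24.p_g28]

theorem q_V33_ok : okE 24 q_V33 = true := (okE_cons.2 ⟨EvM24.p_g3_ok, (okE_cons.2 ⟨EvM24.p_g4_ok, (okE_cons.2 ⟨EvM24.p_g7_ok, (okE_cons.2 ⟨EvM24.p_g8_ok, (okE_cons.2 ⟨EvM24.p_g11_ok, (okE_cons.2 ⟨EvM24.p_g12_ok, (okE_cons.2 ⟨EvM24.p_g15_ok, (okE_cons.2 ⟨EvM24.p_g16_ok, (okE_cons.2 ⟨EvM24.p_g19_ok, (okE_cons.2 ⟨EvM24.p_g20_ok, (okE_cons.2 ⟨EvM24.p_g21_ok, (okE_cons.2 ⟨EvM24.p_g24_ok, (okE_cons.2 ⟨EvM24.p_g25_ok, (okE_cons.2 ⟨EvM24.p_g26_ok, (okE_cons.2 ⟨EvM24.p_g27_ok, (okE_cons.2 ⟨EvM24.p_g28_ok,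 (okE_nil 24)⟩)⟩)⟩)⟩)⟩)⟩)⟩)⟩)⟩)⟩)⟩)⟩)⟩)⟩)⟩)⟩)

noncomputable def q_V34 : List Net := [EvM24.p_g7, EvM24.p_g8, EvM24.p_g11, EvM24.p_g12, EvM24.p_g15, EvM24.p_g16, EvM24.p_g19, EvM24.p_g20, EvM24.p_g21, EvM24.p_g24, EvM24.p_g25, EvM24.p_g26, EvM24.p_g27, EvM24.p_g28]

theorem q_V34_ok : okE 24 q_V34 = true := (okE_cons.2 ⟨EvM24.p_g7_ok, (okE_cons.2 ⟨EvM24.p_g8_ok, (okE_cons.2 ⟨EvM24.p_g11_ok, (okE_cons.2 ⟨EvM24.p_g12_ok, (okE_cons.2 ⟨EvM24.p_g15_ok, (okE_cons.2 ⟨EvM24.p_g16_ok, (okE_cons.2 ⟨EvM24.p_g19_ok, (okE_cons.2 ⟨EvM24.p_g20_ok, (okE_cons.2 ⟨EvM24.p_g21_ok, (okE_cons.2 ⟨EvM24.p_g24_ok, (okE_cons.2 ⟨EvM24.p_g25_ok, (okE_cons.2 ⟨EvM24.p_g26_ok, (okE_cons.2 ⟨EvM24.p_g27_ok, (okE_cons.2 ⟨EvM24.p_g28_ok, (okE_nil 24)⟩)⟩)⟩)⟩)⟩)⟩)⟩)⟩)⟩)⟩)⟩)⟩)⟩)⟩)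

noncomputable def q_V35 : List Net := [EvM24.p_g11, EvM24.p_g12, EvM24.p_g15, EvM24.p_g16, EvM24.p_g19, EvM24.p_g20, EvM24.p_g21, EvM24.p_g24, EvM24.p_g25, EvM24.p_g26, EvM24.p_g27, EvM24.p_g28]

theorem q_V35_ok : okE 24 q_V35 = true := (okE_cons.2 ⟨EvM24.p_g11_ok, (okE_cons.2 ⟨EvM24.p_g12_ok, (okE_cons.2 ⟨EvM24.p_g15_ok, (okE_cons.2 ⟨EvM24.p_g16_ok, (okE_cons.2 ⟨EvM24.p_g19_ok, (okE_cons.2 ⟨EvM24.p_g20_ok, (okE_cons.2 ⟨EvM24.p_g21_ok, (okE_cons.2 ⟨EvM24.p_g24_ok, (okE_cons.2 ⟨EvM24.p_g25_ok, (okE_cons.2 ⟨EvM24.p_g26_ok, (okE_cons.2 ⟨EvM24.p_g27_ok, (okE_cons.2 ⟨EvM24.p_g28_ok, (okE_nil 24)⟩)⟩)⟩)⟩)⟩)⟩)⟩)⟩)⟩)⟩)⟩)⟩)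

noncomputable def q_V36 : List Net := [EvM24.p_g15, EvM24.p_g16, EvM24.p_g19, EvM24.p_g20, EvM24.p_g21, EvM24.p_g24, EvM24.p_g25, EvM24.p_g26, EvM24.p_g27, EvM24.p_g28]

theorem q_V36_ok : okE 24 q_V36 = true := (okE_cons.2 ⟨EvM24.p_g15_ok, (okE_cons.2 ⟨EvM24.p_g16_ok, (okE_cons.2 ⟨EvM24.p_g19_ok, (okE_cons.2 ⟨EvM24.p_g20_ok, (okE_cons.2 ⟨EvM24.p_g21_ok, (okE_cons.2 ⟨EvM24.p_g24_ok, (okE_cons.2 ⟨EvM24.p_g25_ok, (okE_cons.2 ⟨EvM24.p_g26_ok, (okE_cons.2 ⟨EvM24.p_g27_ok, (okE_cons.2 ⟨EvM24.p_g28_ok, (okE_nil 24)⟩)⟩)⟩)⟩)⟩)⟩)⟩)⟩)⟩)⟩)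

noncomputable def q_V37 : List Net := [EvM24.p_g19, EvM24.p_g20, EvM24.p_g21, EvM24.p_g24, EvM24.p_g25, EvM24.p_g26, EvM24.p_g27, EvM24.p_g28]

theorem q_V37_ok : okE 24 q_V37 = true := (okE_cons.2 ⟨EvM24.p_g19_ok, (okE_cons.2 ⟨EvM24.p_g20_ok, (okE_cons.2 ⟨EvM24.p_g21_ok, (okE_cons.2 ⟨EvM24.p_g24_ok, (okE_cons.2 ⟨EvM24.p_g25_ok, (okE_cons.2 ⟨EvM24.p_g26_ok, (okE_cons.2 ⟨EvM24.p_g27_ok, (okE_cons.2 ⟨EvM24.p_g28_ok, (okE_nil 24)⟩)⟩)⟩)⟩)⟩)⟩)⟩)⟩)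

noncomputable def q_V38 : List Net := [EvM24.p_g24, EvM24.p_g25, EvM24.p_g26, EvM24.p_g27, EvM24.p_g28]

theorem q_V38_ok : okE 24 q_V38 = true := (okE_cons.2 ⟨EvM24.p_g24_ok, (okE_cons.2 ⟨EvM24.p_g25_ok, (okE_cons.2 ⟨EvM24.p_g26_ok, (okE_cons.2 ⟨EvM24.p_g27_ok, (okE_cons.2 ⟨EvM24.p_g28_ok, (okE_nil 24)⟩)⟩)⟩)⟩)⟩)

noncomputable def q_V39 : List Net := []

theorem q_V39_ok : okE 24 q_V39 = true := (okE_nil 24)

noncomputable def CU_cnt_EG : List Net := [EvM24.p_g24, EvM24.p_g25, EvM24.p_g26, EvM24.p_g27, EvM24.p_g28, EvM24.p_g19, EvM24.p_g20, EvM24.p_g21, EvM24.p_g15, EvM24.p_g16, EvM24.p_g11, EvM24.p_g12, EvM24.p_g7, EvM24.p_g8, EvM24.p_g3, EvM24.p_g4, EvM24.p_g1, EvM24.p_g2]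

theorem CU_cnt_EG_ok : okE 24 CU_cnt_EG = true := (okE_cons.2 ⟨EvM24.p_g24_ok, (okE_cons.2 ⟨EvM24.p_g25_ok, (okE_cons.2 ⟨EvM24.p_g26_ok, (okE_cons.2 ⟨EvM24.p_g27_ok, (okE_cons.2 ⟨EvM24.p_g28_ok, (okE_cons.2 ⟨EvM24.p_g19_ok, (okE_cons.2 ⟨EvM24.p_g20_ok, (okE_cons.2 ⟨EvM24.p_g21_ok, (okE_cons.2 ⟨EvM24.p_g15_ok, (okE_cons.2 ⟨EvM24.p_g16_ok, (okE_cons.2 ⟨EvM24.p_g11_ok, (okE_cons.2 ⟨EvM24.p_g12_ok, (okE_cons.2 ⟨EvM24.p_g7_ok, (okE_cons.2 ⟨EvM24.p_g8_ok, (okE_cons.2 ⟨EvM24.p_g3_ok, (okE_cons.2 ⟨EvM24.p_g4_ok, (okE_cons.2 ⟨EvM24.p_g1_ok, (okE_cons.2 ⟨EvM24.p_g2_ok, (okE_nil 24)⟩)⟩)⟩)⟩)⟩)⟩)⟩)⟩)⟩)⟩)⟩)⟩)⟩)⟩)⟩)⟩)⟩)⟩)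

noncomputable def EZ : List Net := [EvM24.p_g39]

theorem EZ_ok : okE 24 EZ = true := (okE_cons.2 ⟨EvM24.p_g39_ok, (okE_nil 24)⟩)

noncomputable def q_g40 : Net := (Net.cons (nat_lit 1) (nat_lit 0x540140) (Net.cons (nat_lit 2) (nat_lit 66320) (Net.cons (nat_lit 4) (nat_lit 132864) (Net.cons (nat_lit 8) (nat_lit 16) (Net.cons (nat_lit 16) (nat_lit 82) (Net.cons (nat_lit 8) (nat_lit 249) (Net.cons (nat_lit 4) (nat_lit 590081) (Net.cons (nat_lit 2) (nat_lit 140080) (Net.cons (nat_lit 1) (nat_lit 0x414154) Net.nil)))))))))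

theorem q_g40_ok : Net.ok 24 q_g40 = true := by decide +kernel

noncomputable def q_g41 : Net := (Net.cons (nat_lit 1) (nat_lit 0x541150) (Net.cons (nat_lit 2) (nat_lit 0x100010) (Net.cons (nat_lit 4) (nat_lit 393216) (Net.cons (nat_lit 8) (nat_lit 228) (Net.cons (nat_lit 16) (nat_lit 253) (Net.cons (nat_lit 8) (nat_lit 96) (Net.cons (nat_lit 4) (nat_lit 591109) (Net.cons (nat_lit 2) (nat_lit 0x100020) (Net.cons (nat_lit 1) (nat_lit 0x545405) Net.nil)))))))))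

theorem q_g41_ok : Net.ok 24 q_g41 = true := by decide +kernel

noncomputable def EX : List Net := [q_g40, q_g41]

theorem EX_ok : okE 24 EX = true := (okE_cons.2 ⟨q_g40_ok, (okE_cons.2 ⟨q_g41_ok, (okE_nil 24)⟩)⟩)

noncomputable def q_g42 : Net := (Net.cons (nat_lit 1) (nat_lit 0x554000) (Net.cons (nat_lit 2) (nat_lit 0x321320) (Net.cons (nat_lit 4) (nat_lit 656896) (Net.cons (nat_lit 8) (nat_lit 48) (Net.cons (nat_lit 16) (nat_lit 180) (Net.cons (nat_lit 8) (nat_lit 208) (Net.cons (nat_lit 4) (nat_lit 589826) (Net.cons (nat_lit 2) (nat_lit 0x203200) (Net.cons (nat_lit 1) (nat_lit 0x554010) Net.nil)))))))))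

theorem q_g42_ok : Net.ok 24 q_g42 = true := by decide +kernel

noncomputable def q_g43 : Net := (Net.cons (nat_lit 1) (nat_lit 0x104410) (Net.cons (nat_lit 2) (nat_lit 0x210220) (Net.cons (nat_lit 4) (nat_lit 131840) (Net.cons (nat_lit 8) (nat_lit 97) (Net.cons (nat_lit 16) (nat_lit 119) (Net.cons (nat_lit 8) (nat_lit 71) (Net.cons (nat_lit 4) (nat_lit 394754) (Net.cons (nat_lit 2) (nat_lit 0x320310) (Net.cons (nat_lit 1) (nat_lit 0x151040) Net.nil)))))))))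

theorem q_g43_ok : Net.ok 24 q_g43 = true := by decide +kernel

noncomputable def q_V44 : List Net := [q_g42, q_g43]

theorem q_V44_ok : okE 24 q_V44 = true := (okE_cons.2 ⟨q_g42_ok, (okE_cons.2 ⟨q_g43_ok, (okE_nil 24)⟩)⟩)

noncomputable def q_g46 : Net := (Net.cons (nat_lit 1) (nat_lit 17408) (Net.cons (nat_lit 2) (nat_lit 4608) (Net.cons (nat_lit 4) (nat_lit 394240) (Net.cons (nat_lit 8) (nat_lit 2) (Net.cons (nat_lit 16) (nat_lit 134) (Net.cons (nat_lit 8) (nat_lit 82) (Net.cons (nat_lit 4) (nat_lit 394240) (Net.cons (nat_lit 2) (nat_lit 209408) (Net.cons (nat_lit 1) (nat_lit 17408) Net.nil)))))))))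

theorem q_g46_ok : Net.ok 24 q_g46 = true := by decide +kernel

noncomputable def q_V47 : List Net := [EvM24.p_g173, q_g46, EvM24.p_g168]

theorem q_V47_ok : okE 24 q_V47 = true := (okE_cons.2 ⟨EvM24.p_g173_ok, (okE_cons.2 ⟨q_g46_ok, (okE_cons.2 ⟨EvM24.p_g168_ok, (okE_nil 24)⟩)⟩)⟩)

noncomputable def EXlb_E : List Net := [q_g40, q_g41, q_g42, q_g43, EvM24.p_g173, q_g46, EvM24.p_g168]

theorem EXlb_E_ok : okE 24 EXlb_E = true := (okE_cons.2 ⟨q_g40_ok, (okE_cons.2 ⟨q_g41_ok, (okE_cons.2 ⟨q_g42_ok, (okE_cons.2 ⟨q_g43_ok, (okE_cons.2 ⟨EvM24.p_g173_ok, (okE_cons.2 ⟨q_g46_ok, (okE_cons.2 ⟨EvM24.p_g168_ok, (okE_nil 24)⟩)⟩)⟩)⟩)⟩)⟩)⟩)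

noncomputable def q_g50 : Net := (Net.cons (nat_lit 1) (nat_lit 5136) (Net.cons (nat_lit 2) (nat_lit 0x112030) (Net.cons (nat_lit 4) (nat_lit 591872) (Net.cons (nat_lit 8) (nat_lit 118) (Net.cons (nat_lit 16) (nat_lit 246) (Net.cons (nat_lit 8) (nat_lit 230) (Net.cons (nat_lit 4) (nat_lit 984838) (Net.cons (nat_lit 2) (nat_lit 0x100303) (Net.cons (nat_lit 1) (nat_lit 0x554145) Net.nil)))))))))

theorem q_g50_ok : Net.ok 24 q_g50 = true := by decide +kernel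

noncomputable def q_g51 : Net := (Net.cons (nat_lit 1) (nat_lit 0x545400) (Net.cons (nat_lit 2) (nat_lit 0x210100) (Net.cons (nat_lit 4) (nat_lit 264448) (Net.cons (nat_lit 8) (nat_lit 129) (Net.cons (nat_lit 16) (nat_lit 141) (Net.cons (nat_lit 8) (nat_lit 46) (Net.cons (nat_lit 4) (nat_lit 721928) (Net.cons (nat_lit 2) (nat_lit 0x301011) (Net.cons (nat_lit 1) (nat_lit 0x545501) Net.nil)))))))))

theorem q_g51_ok : Net.ok 24 q_g51 = true := by decide +kernel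

noncomputable def Y : List Net := [q_g50, q_g51]

theorem Y_ok : okE 24 Y = true := (okE_cons.2 ⟨q_g50_ok, (okE_cons.2 ⟨q_g51_ok, (okE_nil 24)⟩)⟩)

noncomputable def Y_cnt_EG : List Net := [EvM24.p_g24, EvM24.p_g25, EvM24.p_g26, EvM24.p_g27, EvM24.p_g28, EvM24.p_g19, EvM24.p_g20, EvM24.p_g21, EvM24.p_g15, EvM24.p_g16, EvM24.p_g11, EvM24.p_g12, EvM24.p_g7, EvM24.p_g8, EvM24.p_g3, EvM24.p_g4, EvM24.p_g1, EvM24.p_g2]

theorem Y_cnt_EG_ok : okE 24 Y_cnt_EG = true := (okE_cons.2 ⟨EvM24.p_g24_ok, (okE_cons.2 ⟨EvM24.p_g25_ok, (okE_cons.2 ⟨EvM24.p_g26_ok, (okE_cons.2 ⟨EvM24.p_g27_ok, (okE_cons.2 ⟨EvM24.p_g28_ok, (okE_cons.2 ⟨EvM24.p_g19_ok, (okE_cons.2 ⟨EvM24.p_g20_ok, (okE_cons.2 ⟨EvM24.p_g21_ok, (okE_cons.2 ⟨EvM24.p_g15_ok, (okE_cons.2 ⟨EvM24.p_g16_ok, (okE_cons.2 ⟨EvM24.p_g11_ok, (okE_cons.2 ⟨EvM24.p_g12_ok, (okE_cons.2 ⟨EvM24.p_g7_ok, (okE_cons.2 ⟨EvM24.p_g8_ok,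 (okE_cons.2 ⟨EvM24.p_g3_ok, (okE_cons.2 ⟨EvM24.p_g4_ok, (okE_cons.2 ⟨EvM24.p_g1_ok, (okE_cons.2 ⟨EvM24.p_g2_ok, (okE_nil 24)⟩)⟩)⟩)⟩)⟩)⟩)⟩)⟩)⟩)⟩)⟩)⟩)⟩)⟩)⟩)⟩)⟩)⟩)

noncomputable def ES : List Net := [EvM24.p_g47, q_g50]

theorem ES_ok : okE 24 ES = true := (okE_cons.2 ⟨EvM24.p_g47_ok, (okE_cons.2 ⟨q_g50_ok, (okE_nil 24)⟩)⟩)

noncomputable def q_g54 : Net := (Net.cons (nat_lit 1) (nat_lit 332800) (Net.cons (nat_lit 2) (nat_lit 0x220010) (Net.cons (nat_lit 4) (nat_lit 986368) (Net.cons (nat_lit 8) (nat_lit 104) (Net.cons (nat_lit 16) (nat_lit 120) (Net.cons (nat_lit 8) (nat_lit 152) (Net.cons (nat_lit 4) (nat_lit 658443) (Net.cons (nat_lit 2) (nat_lit 209713) (Net.cons (nat_lit 1) (nat_lit 0x404511) Net.nil)))))))))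

theorem q_g54_ok : Net.ok 24 q_g54 = true := by decide +kernel

theorem T_s0 : Stab 24 (grp 24 EvM24.E) [] EvM24.lb_E 244823040 :=
  Stab.root' EvM24.lb_E_ok EvM24.eq_lb EvM24.card_G

theorem q_le4 : grp 24 q_V3 ≤ grp 24 E3 :=
  grp_le_of_memB q_hn q_hk E3_ok q_V3_ok (ws := [nat_lit 0x4010402030103, nat_lit 196868]) (by decide +kernel)

theorem E3lb_le : grp 24 E3lb_E ≤ grp 24 E3 :=
  (grp_cons_le ((le_refl (grp 24 E3)) (toPerm_mem_grp (E := E3) (by simp [E3]))) (grp_cons_le ((le_refl (grp 24 E3)) (toPerm_mem_grp (E := E3) (by simp [E3]))) (grp_cons_le ((q_le4.trans (le_refl (grp 24 E3))) (toPerm_mem_grp (E := q_V3) (by simp [q_V3]))) (grp_cons_le ((q_le4.trans (le_refl (grp 24 E3))) (toPerm_mem_grp (E := q_V3) (by simp [q_V3]))) (grp_nil_le _)))))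

noncomputable def E3lb_ch : Ch := (Ch.cons (nat_lit 0) [nat_lit 1, nat_lit 3] (Ch.cons (nat_lit 1) [nat_lit 5, nat_lit 7] Ch.nil))

theorem E3lb_chk : Ch.chk 24 5 (lab 24 5) E3lb_E E3lb_ch 9 = true :=
  by decide +kernel

theorem E3lb_ge : 9 ≤ Nat.card (grp 24 E3) :=
  (Ch.le_card_grp q_hn E3lb_E_ok E3lb_chk).trans (Subgroup.card_le_of_le E3lb_le)

theorem x3_G : Net.toPerm 24 q_g1 ∈ (grp 24 EvM24.E) :=
  EvM24.lb_le (mem_grp_of_memB q_hn q_hk EvM24.lb_E_ok q_g1_ok (w := (nat_lit 0x1b1f16111f0d160a07)) (by decide +kernel))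

theorem y3_G : Net.toPerm 24 q_g2 ∈ (grp 24 EvM24.E) :=
  EvM24.lb_le (mem_grp_of_memB q_hn q_hk EvM24.lb_E_ok q_g2_ok (w := (nat_lit 0x1d121f0e14090e05050121)) (by decide +kernel))

theorem x3_ord : orderOf (Net.toPerm 24 q_g1) = 3 :=
  orderOf_net q_hn q_hk q_g1_ok (by decide) (ps := [3]) (by set_option linter.unusedSimpArgs false in simp [Nat.primeFactorsList_ofNat]) (by decide +kernel)

theorem y3_ord : orderOf (Net.toPerm 24 q_g2) = 3 :=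
  orderOf_net q_hn q_hk q_g2_ok (by decide) (ps := [3]) (by set_option linter.unusedSimpArgs false in simp [Nat.primeFactorsList_ofNat]) (by decide +kernel)

theorem rank3 : ¬ PRankLE 3 1 (grp 24 EvM24.E) :=
  EvG.not_rank x3_G y3_G (EvG.comm_net q_hn q_hk (by decide +kernel)) (x3_ord ▸ pow_orderOf_eq_one _) (y3_ord ▸ pow_orderOf_eq_one _)
    (by rw [← EvG.grp_pair]; exact le_trans (by norm_num) E3lb_ge)

theorem U_poly : Ej.Poly 24 U :=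
  Ej.poly_of q_hn q_hk U_ok (W := [(nat_lit 0, [nat_lit 384, nat_lit 406, nat_lit 476, nat_lit 137, nat_lit 73, nat_lit 288, nat_lit 281, nat_lit 257, nat_lit 256]), (nat_lit 0, [nat_lit 1, nat_lit 70, nat_lit 4, nat_lit 8, nat_lit 28, nat_lit 32, nat_lit 64, nat_lit 128]), (nat_lit 0, [nat_lit 35, nat_lit 96, nat_lit 68, nat_lit 29, nat_lit 16, nat_lit 66, nat_lit 64]), (nat_lit 0, [nat_lit 48, nat_lit 51, nat_lit 4, nat_lit 57, nat_lit 33, nat_lit 32]), (nat_lit 0, [nat_lit 1, nat_lit 14, nat_lit 4, nat_lit 8, nat_lit 16]), (nat_lit 0, [nat_lit 7, nat_lit 2, nat_lit 4, nat_lit 8]), (nat_lit 0, [nat_lit 2, nat_lit 1, nat_lit 4]), (nat_lit 0, [nat_lit 1, nat_lit 2]), (nat_lit 0, [nat_lit 1]), (nat_lit 0, [])]) (by decide +kernel)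

theorem q_le18 : grp 24 q_V17 ≤ grp 24 U :=
  grp_le_of_memB q_hn q_hk U_ok q_V17_ok (ws := [nat_lit 0x110b100e0e0c131307050a, nat_lit 0x8100d050f0a06060e02, nat_lit 0x504040c100c0a0d12]) (by decide +kernel)

theorem q_le25 : grp 24 q_V24 ≤ grp 24 q_V17 :=
  grp_le_of_memB q_hn q_hk q_V17_ok q_V24_ok (ws := [nat_lit 0x502040501040502, nat_lit 0x4060204020401050502, nat_lit 0x3020306010302050305, nat_lit 0x601040106030504, nat_lit 0x60603050405020601050502]) (by decide +kernel)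

theorem q_le30 : grp 24 q_V29 ≤ grp 24 q_V24 :=
  grp_le_of_memB q_hn q_hk q_V24_ok q_V29_ok (ws := [nat_lit 0x909010508080606070202, nat_lit 0x10905020505090702, nat_lit 0x90101050409030a0405010606, nat_lit 0x402030301030a0402]) (by decide +kernel)

theorem Ulb_le : grp 24 Ulb_E ≤ grp 24 U :=
  (grp_cons_le ((le_refl (grp 24 U)) (toPerm_mem_grp (E := U) (by simp [U]))) (grp_cons_le ((le_refl (grp 24 U)) (toPerm_mem_grp (E := U) (by simp [U]))) (grp_cons_le ((le_refl (grp 24 U)) (toPerm_mem_grp (E := U) (by simp [U]))) (grp_cons_le ((le_refl (grp 24 U)) (toPerm_mem_grp (E := U) (by simp [U]))) (grp_cons_le ((le_refl (grp 24 U)) (toPerm_mem_grp (E := U) (by simp [U]))) (grp_cons_le ((le_refl (grp 24 U)) (toPerm_mem_grp (E := U) (by simp [U]))) (grp_cons_le ((le_refl (grp 24 U)) (toPerm_mem_grp (E := U) (by simp [U]))) (grp_cons_le ((le_refl (grp 24 U)) (toPerm_mem_grp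 (E := U) (by simp [U]))) (grp_cons_le ((le_refl (grp 24 U)) (toPerm_mem_grp (E := U) (by simp [U]))) (grp_cons_le ((le_refl (grp 24 U)) (toPerm_mem_grp (E := U) (by simp [U]))) (grp_cons_le ((q_le18.trans (le_refl (grp 24 U))) (toPerm_mem_grp (E := q_V17) (by simp [q_V17]))) (grp_cons_le ((q_le18.trans (le_refl (grp 24 U))) (toPerm_mem_grp (E := q_V17) (by simp [q_V17]))) (grp_cons_le ((q_le18.trans (le_refl (grp 24 U))) (toPerm_mem_grp (E := q_V17) (by simp [q_V17]))) (grp_cons_le ((q_le25.trans (q_le18.trans (le_refl (grp 24 U)))) (toPerm_mem_grp (E := q_V24) (by simp [q_V24]))) (grp_cons_le ((q_le25.trans (q_le18.trans (le_refl (grp 24 U)))) (toPerm_mem_grp (E := q_V24) (by simp [q_V24]))) (grp_cons_le ((q_le25.trans (q_le18.trans (le_refl (grp 24 U)))) (toPerm_mem_grp (E := q_V24) (by simp [q_V24]))) (grp_cons_le ((q_le25.trans (q_le18.trans (le_refl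 (grp 24 U)))) (toPerm_mem_grp (E := q_V24) (by simp [q_V24]))) (grp_cons_le ((q_le25.trans (q_le18.trans (le_refl (grp 24 U)))) (toPerm_mem_grp (E := q_V24) (by simp [q_V24]))) (grp_cons_le ((q_le30.trans (q_le25.trans (q_le18.trans (le_refl (grp 24 U))))) (toPerm_mem_grp (E := q_V29) (by simp [q_V29]))) (grp_cons_le ((q_le30.trans (q_le25.trans (q_le18.trans (le_refl (grp 24 U))))) (toPerm_mem_grp (E := q_V29) (by simp [q_V29]))) (grp_cons_le ((q_le30.trans (q_le25.trans (q_le18.trans (le_refl (grp 24 U))))) (toPerm_mem_grp (E := q_V29) (by simp [q_V29]))) (grp_cons_le ((q_le30.trans (q_le25.trans (q_le18.trans (le_refl (grp 24 U))))) (toPerm_mem_grp (E := q_V29) (by simp [q_V29]))) (grp_nil_le _)))))))))))))))))))))))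

noncomputable def Ulb_ch : Ch := (Ch.cons (nat_lit 1) [nat_lit 1, nat_lit 3, nat_lit 5, nat_lit 7, nat_lit 9, nat_lit 11, nat_lit 13, nat_lit 15, nat_lit 17, nat_lit 19] (Ch.cons (nat_lit 4) [nat_lit 21, nat_lit 23, nat_lit 25] (Ch.cons (nat_lit 5) [nat_lit 27, nat_lit 29, nat_lit 31, nat_lit 33, nat_lit 35] (Ch.cons (nat_lit 0) [nat_lit 37, nat_lit 39, nat_lit 41, nat_lit 43] Ch.nil))))

theorem Ulb_chk : Ch.chk 24 5 (lab 24 5) Ulb_E Ulb_ch 1024 = true :=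
  by decide +kernel

theorem Ulb_ge : 1024 ≤ Nat.card (grp 24 U) :=
  (Ch.le_card_grp q_hn Ulb_E_ok Ulb_chk).trans (Subgroup.card_le_of_le Ulb_le)

theorem U_ge : 2 ^ 10 ≤ Nat.card (grp 24 U) :=
  le_of_eq_of_le (by norm_num) Ulb_ge

theorem q_le31 : grp 24 U ≤ grp 24 EvM24.lb_E :=
  grp_le_of_memB q_hn q_hk EvM24.lb_E_ok U_ok (ws := [nat_lit 0x161121101a0917050901070a, nat_lit 0x1d211511110e0f0a050d0113, nat_lit 0x1b1d2116121f10090e0709021d, nat_lit 0x1b1f211514210d160917061a02, nat_lit 0x1d15130d160b0a050a, nat_lit 0x1d1512140d100923050f010b, nat_lit 0x1d140d1109070e, nat_lit 0x2311170d12090e0610021d, nat_lit 0x1b2123101a09210508021d, nat_lit 0x231512210d121409230621021d]) (by decide +kernel)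

theorem U_G : grp 24 U ≤ (grp 24 EvM24.E) :=
  (q_le31).trans EvM24.lb_le

theorem q_le32 : grp 24 CU ≤ grp 24 EvM24.lb_E :=
  grp_le_of_memB q_hn q_hk EvM24.lb_E_ok CU_ok (ws := [nat_lit 0x231512210d121409230621021d]) (by decide +kernel)

theorem CU_le : grp 24 CU ≤ (grp 24 EvM24.E) :=
  (q_le32.trans T_s0.le)

theorem CU_sym : Sym 24 (grp 24 EvM24.E) U CU 0 :=
  Sym.of_lab q_hn q_hk U_ok CU_ok CU_le (kT := 0) (by decide +kernel)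

theorem T_s1 : Stab 24 (grp 24 EvM24.E) [nat_lit 0] q_V33 10200960 :=
  Stab.step (k := 5) (L := (lab 24 5)) q_hn T_s0 q_V33_ok (grp_mono (List.subset_append_right [EvM24.p_g1, EvM24.p_g2] _)) (c := (Ch.cons (nat_lit 1) [nat_lit 1, nat_lit 3] (Ch.cons (nat_lit 2) [nat_lit 5, nat_lit 7] (Ch.cons (nat_lit 3) [nat_lit 9, nat_lit 11] (Ch.cons (nat_lit 4) [nat_lit 13, nat_lit 15] (Ch.cons (nat_lit 7) [nat_lit 17, nat_lit 19, nat_lit 21] (Ch.cons (nat_lit 5) [nat_lit 23, nat_lit 25, nat_lit 27, nat_lit 29, nat_lit 31] Ch.nil))))))) (by decide +kernel)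

theorem T_s2 : Stab 24 (grp 24 EvM24.E) [nat_lit 1, nat_lit 0] q_V34 443520 :=
  Stab.step (k := 5) (L := (lab 24 5)) q_hn T_s1 q_V34_ok (grp_mono (List.subset_append_right [EvM24.p_g3, EvM24.p_g4] _)) (c := (Ch.cons (nat_lit 2) [nat_lit 1, nat_lit 3] (Ch.cons (nat_lit 3) [nat_lit 5, nat_lit 7] (Ch.cons (nat_lit 4) [nat_lit 9, nat_lit 11] (Ch.cons (nat_lit 7) [nat_lit 13, nat_lit 15, nat_lit 17] (Ch.cons (nat_lit 5) [nat_lit 19, nat_lit 21, nat_lit 23, nat_lit 25, nat_lit 27] Ch.nil)))))) (by decide +kernel)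

theorem T_s3 : Stab 24 (grp 24 EvM24.E) [nat_lit 2, nat_lit 1, nat_lit 0] q_V35 20160 :=
  Stab.step (k := 5) (L := (lab 24 5)) q_hn T_s2 q_V35_ok (grp_mono (List.subset_append_right [EvM24.p_g7, EvM24.p_g8] _)) (c := (Ch.cons (nat_lit 3) [nat_lit 1, nat_lit 3] (Ch.cons (nat_lit 4) [nat_lit 5, nat_lit 7] (Ch.cons (nat_lit 7) [nat_lit 9, nat_lit 11, nat_lit 13] (Ch.cons (nat_lit 5) [nat_lit 15, nat_lit 17, nat_lit 19, nat_lit 21, nat_lit 23] Ch.nil))))) (by decide +kernel)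

theorem T_s4 : Stab 24 (grp 24 EvM24.E) [nat_lit 3, nat_lit 2, nat_lit 1, nat_lit 0] q_V36 960 :=
  Stab.step (k := 5) (L := (lab 24 5)) q_hn T_s3 q_V36_ok (grp_mono (List.subset_append_right [EvM24.p_g11, EvM24.p_g12] _)) (c := (Ch.cons (nat_lit 4) [nat_lit 1, nat_lit 3] (Ch.cons (nat_lit 7) [nat_lit 5, nat_lit 7, nat_lit 9] (Ch.cons (nat_lit 5) [nat_lit 11, nat_lit 13, nat_lit 15, nat_lit 17, nat_lit 19] Ch.nil)))) (by decide +kernel)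

theorem T_s5 : Stab 24 (grp 24 EvM24.E) [nat_lit 4, nat_lit 3, nat_lit 2, nat_lit 1, nat_lit 0] q_V37 48 :=
  Stab.step (k := 5) (L := (lab 24 5)) q_hn T_s4 q_V37_ok (grp_mono (List.subset_append_right [EvM24.p_g15, EvM24.p_g16] _)) (c := (Ch.cons (nat_lit 7) [nat_lit 1, nat_lit 3, nat_lit 5] (Ch.cons (nat_lit 5) [nat_lit 7, nat_lit 9, nat_lit 11, nat_lit 13, nat_lit 15] Ch.nil))) (by decide +kernel)

theorem T_s6 : Stab 24 (grp 24 EvM24.E) [nat_lit 7, nat_lit 4, nat_lit 3, nat_lit 2, nat_lit 1, nat_lit 0] q_V38 16 :=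
  Stab.step (k := 5) (L := (lab 24 5)) q_hn T_s5 q_V38_ok (grp_mono (List.subset_append_right [EvM24.p_g19, EvM24.p_g20, EvM24.p_g21] _)) (c := (Ch.cons (nat_lit 5) [nat_lit 1, nat_lit 3, nat_lit 5, nat_lit 7, nat_lit 9] Ch.nil)) (by decide +kernel)

theorem T_s7 : Stab 24 (grp 24 EvM24.E) [nat_lit 5, nat_lit 7, nat_lit 4, nat_lit 3, nat_lit 2, nat_lit 1, nat_lit 0] q_V39 1 :=
  Stab.step (k := 5) (L := (lab 24 5)) q_hn T_s6 q_V39_ok (grp_mono (List.subset_append_right [EvM24.p_g24, EvM24.p_g25, EvM24.p_g26, EvM24.p_g27, EvM24.p_g28] _)) (c := Ch.nil) (by decide +kernel)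

theorem EvM24.p_g24_T : Net.toPerm 24 EvM24.p_g24 ∈ (grp 24 EvM24.E) :=
  T_s6.le (toPerm_mem_grp (E := q_V38) (List.Mem.head _))

theorem EvM24.p_g25_T : Net.toPerm 24 EvM24.p_g25 ∈ (grp 24 EvM24.E) :=
  T_s6.le (toPerm_mem_grp (E := q_V38) (List.Mem.tail _ (List.Mem.head _)))

theorem EvM24.p_g26_T : Net.toPerm 24 EvM24.p_g26 ∈ (grp 24 EvM24.E) :=
  T_s6.le (toPerm_mem_grp (E := q_V38) (List.Mem.tail _ (List.Mem.tail _ (List.Mem.head _))))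

theorem EvM24.p_g27_T : Net.toPerm 24 EvM24.p_g27 ∈ (grp 24 EvM24.E) :=
  T_s6.le (toPerm_mem_grp (E := q_V38) (List.Mem.tail _ (List.Mem.tail _ (List.Mem.tail _ (List.Mem.head _)))))

theorem EvM24.p_g28_T : Net.toPerm 24 EvM24.p_g28 ∈ (grp 24 EvM24.E) :=
  T_s6.le (toPerm_mem_grp (E := q_V38) (List.Mem.tail _ (List.Mem.tail _ (List.Mem.tail _ (List.Mem.tail _ (List.Mem.head _))))))

theorem EvM24.p_g19_T : Net.toPerm 24 EvM24.p_g19 ∈ (grp 24 EvM24.E) :=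
  T_s5.le (toPerm_mem_grp (E := q_V37) (List.Mem.head _))

theorem EvM24.p_g20_T : Net.toPerm 24 EvM24.p_g20 ∈ (grp 24 EvM24.E) :=
  T_s5.le (toPerm_mem_grp (E := q_V37) (List.Mem.tail _ (List.Mem.head _)))

theorem EvM24.p_g21_T : Net.toPerm 24 EvM24.p_g21 ∈ (grp 24 EvM24.E) :=
  T_s5.le (toPerm_mem_grp (E := q_V37) (List.Mem.tail _ (List.Mem.tail _ (List.Mem.head _))))

theorem EvM24.p_g15_T : Net.toPerm 24 EvM24.p_g15 ∈ (grp 24 EvM24.E) :=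
  T_s4.le (toPerm_mem_grp (E := q_V36) (List.Mem.head _))

theorem EvM24.p_g16_T : Net.toPerm 24 EvM24.p_g16 ∈ (grp 24 EvM24.E) :=
  T_s4.le (toPerm_mem_grp (E := q_V36) (List.Mem.tail _ (List.Mem.head _)))

theorem EvM24.p_g11_T : Net.toPerm 24 EvM24.p_g11 ∈ (grp 24 EvM24.E) :=
  T_s3.le (toPerm_mem_grp (E := q_V35) (List.Mem.head _))

theorem EvM24.p_g12_T : Net.toPerm 24 EvM24.p_g12 ∈ (grp 24 EvM24.E) :=
  T_s3.le (toPerm_mem_grp (E := q_V35) (List.Mem.tail _ (List.Mem.head _)))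

theorem EvM24.p_g7_T : Net.toPerm 24 EvM24.p_g7 ∈ (grp 24 EvM24.E) :=
  T_s2.le (toPerm_mem_grp (E := q_V34) (List.Mem.head _))

theorem EvM24.p_g8_T : Net.toPerm 24 EvM24.p_g8 ∈ (grp 24 EvM24.E) :=
  T_s2.le (toPerm_mem_grp (E := q_V34) (List.Mem.tail _ (List.Mem.head _)))

theorem EvM24.p_g3_T : Net.toPerm 24 EvM24.p_g3 ∈ (grp 24 EvM24.E) :=
  T_s1.le (toPerm_mem_grp (E := q_V33) (List.Mem.head _))

theorem EvM24.p_g4_T : Net.toPerm 24 EvM24.p_g4 ∈ (grp 24 EvM24.E) :=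
  T_s1.le (toPerm_mem_grp (E := q_V33) (List.Mem.tail _ (List.Mem.head _)))

theorem EvM24.p_g1_T : Net.toPerm 24 EvM24.p_g1 ∈ (grp 24 EvM24.E) :=
  T_s0.le (toPerm_mem_grp (E := EvM24.lb_E) (List.Mem.head _))

theorem EvM24.p_g2_T : Net.toPerm 24 EvM24.p_g2 ∈ (grp 24 EvM24.E) :=
  T_s0.le (toPerm_mem_grp (E := EvM24.lb_E) (List.Mem.tail _ (List.Mem.head _)))

noncomputable def T_s7_O : ℕ := (nat_lit 0x933332e0f83ec67318b26d92000001000002000004000008000010000080000020)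

theorem T_s7_F : Frame 24 (grp 24 EvM24.E) 7 11 T_s7_O 1 1 :=
  IsBase.frame T_s7.isBase (by decide +kernel)

noncomputable def CU_cnt_L : List ℕ := [7, 11, T_s7_O, 1, 0]

theorem CU_cnt_P : Prob 24 5 (grp 24 EvM24.E) CU_cnt_EG U U CU CU_cnt_L 0 0 :=
  Sym.prob q_hn q_hk CU_sym CU_cnt_EG_ok (grp_cons_le EvM24.p_g24_T (grp_cons_le EvM24.p_g25_T (grp_cons_le EvM24.p_g26_T (grp_cons_le EvM24.p_g27_T (grp_cons_le EvM24.p_g28_T (grp_cons_le EvM24.p_g19_T (grp_cons_le EvM24.p_g20_T (grp_cons_le EvM24.p_g21_T (grp_cons_le EvM24.p_g15_T (grp_cons_le EvM24.p_g16_T (grp_cons_le EvM24.p_g11_T (grp_cons_le EvM24.p_g12_T (grp_cons_le EvM24.p_g7_T (grp_cons_le EvM24.p_g8_T (grp_cons_le EvM24.p_g3_T (grp_cons_le EvM24.p_g4_T (grp_cons_le EvM24.p_g1_T (grp_cons_le EvM24.p_g2_T (grp_nil_le _))))))))))))))))))) (Frames.cons T_s7_F Frames.nil) U_ok _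

noncomputable def CU_cnt_t : BT := (BT.fix (nat_lit 3) (BT.fix (nat_lit 5) (BT.dif (nat_lit 1) (nat_lit 0) (BT.fix (nat_lit 7) (BT.dif (nat_lit 1) (nat_lit 0) (BT.br (nat_lit 0) (nat_lit 19) [nat_lit 1] (BT.kid (nat_lit 19) (nat_lit 1) (BT.img (nat_lit 15) (nat_lit 0) (BT.img (nat_lit 1) (nat_lit 0) (BT.fix (nat_lit 9) (BT.dif (nat_lit 0) (nat_lit 7) (BT.fix (nat_lit 13) (BT.dif (nat_lit 1) (nat_lit 0) (BT.img (nat_lit 1) (nat_lit 6) (BT.dif (nat_lit 1) (nat_lit 0) (BT.img (nat_lit 13) (nat_lit 8) (BT.img (nat_lit 9) (nat_lit 9) (BT.one (nat_lit 0) (nat_lit 0x105071113150c191e182119) (nat_lit 0x105071113150c191e182119) [nat_lit 8, nat_lit 2, nat_lit 9, nat_lit 1, nat_lit 0, nat_lit 3, nat_lit 10]))))))))))) BT.nil)))))))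

theorem CU_cnt : Cnt 24 (grp 24 EvM24.E) U U 0 0 0 0 2 :=
  BT.sound CU_cnt_P Known.nil (t := CU_cnt_t) (d := 0) (by decide +kernel)

theorem CU_ge : 2 ≤ Nat.card (grp 24 CU) :=
  Ch.le_card_grp (k := 5) (L := (lab 24 5)) q_hn CU_ok (c := (Ch.cons (nat_lit 19) [nat_lit 1] Ch.nil)) (by decide +kernel)

theorem CU_eq : (grp 24 EvM24.E) ⊓ Subgroup.centralizer (grp 24 U : Set (Equiv.Perm (Fin 24))) = grp 24 CU :=
  cent_grp_eq CU_sym CU_cnt CU_ge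

theorem CU_card : Nat.card (grp 24 CU) = 2 :=
  (CU_sym.mem_iff CU_cnt CU_ge).1

theorem CU_z : grp 24 CU ≤ grp 24 EZ :=
  grp_le_of_memB q_hn q_hk EZ_ok CU_ok (ws := [nat_lit 1]) (by decide +kernel)

theorem bx : Ej.Bx (grp 24 EvM24.E) (grp 24 EvM24.E) (Net.toPerm 24 EvM24.p_g39) (grp 24 U) :=
  ⟨by rw [EvM24.card_G]; norm_num,
    Ej.syl_of_card U_G (a := 10) (m := 239085) (U_poly.card_eq rfl U_ge) (by rw [EvM24.card_G]; norm_num) (by norm_num),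
    Ej.ord2 q_hn q_hk (by decide +kernel), (toPerm_mem_grp (E := U) (List.Mem.tail _ (List.Mem.tail _ (List.Mem.tail _ (List.Mem.tail _ (List.Mem.tail _ (List.Mem.tail _ (List.Mem.tail _ (List.Mem.tail _ (List.Mem.tail _ (List.Mem.head _))))))))))),
    fun _ hx => H62.TE.mem_c1.1 (EvG.le_cent q_hn q_hk (by decide +kernel) hx),
    fun _ hσ h => EvG.mem_single q_hn q_hk (by decide +kernel) (CU_z (CU_eq.le ⟨hσ, fun x hx => (h x hx).symm⟩)),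
    ⟨_, (toPerm_mem_grp (E := U) (List.Mem.tail _ (List.Mem.head _))), _, (toPerm_mem_grp (E := U) (List.Mem.head _)), EvG.ncomm_net (k := 5) q_hn (by decide +kernel)⟩, rank3⟩

theorem cls : ∀ x ∈ (grp 24 EvM24.E), orderOf x = 2 → CjIn (grp 24 EvM24.E) (Net.toPerm 24 EvM24.p_g39) x ∨ CjIn (grp 24 EvM24.E) (Net.toPerm 24 EvM24.p_g47) x :=
  Ej.in_reps EvM24.amb EvM24.reps fun t ht => by
  rcases ht with rfl | rfl
  · exact .inl rfl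
  · exact .inr (.inl rfl)

theorem q_le45 : grp 24 q_V44 ≤ grp 24 EX :=
  grp_le_of_memB q_hn q_hk EX_ok q_V44_ok (ws := [nat_lit 0x204020204, nat_lit 0x303010404020204020302]) (by decide +kernel)

theorem q_le48 : grp 24 q_V47 ≤ grp 24 q_V44 :=
  grp_le_of_memB q_hn q_hk q_V44_ok q_V47_ok (ws := [nat_lit 0x30303010104, nat_lit 0x303020402, nat_lit 0x2030104020301040103]) (by decide +kernel)

theorem EXlb_le : grp 24 EXlb_E ≤ grp 24 EX :=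
  (grp_cons_le ((le_refl (grp 24 EX)) (toPerm_mem_grp (E := EX) (by simp [EX]))) (grp_cons_le ((le_refl (grp 24 EX)) (toPerm_mem_grp (E := EX) (by simp [EX]))) (grp_cons_le ((q_le45.trans (le_refl (grp 24 EX))) (toPerm_mem_grp (E := q_V44) (by simp [q_V44]))) (grp_cons_le ((q_le45.trans (le_refl (grp 24 EX))) (toPerm_mem_grp (E := q_V44) (by simp [q_V44]))) (grp_cons_le ((q_le48.trans (q_le45.trans (le_refl (grp 24 EX)))) (toPerm_mem_grp (E := q_V47) (by simp [q_V47]))) (grp_cons_le ((q_le48.trans (q_le45.trans (le_refl (grp 24 EX)))) (toPerm_mem_grp (E := q_V47) (by simp [q_V47]))) (grp_cons_le ((q_le48.trans (q_le45.trans (le_refl (grp 24 EX)))) (toPerm_mem_grp (E := q_V47) (by simp [q_V47]))) (grp_nil_le _))))))))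

noncomputable def EXlb_ch : Ch := (Ch.cons (nat_lit 0) [nat_lit 1, nat_lit 3] (Ch.cons (nat_lit 1) [nat_lit 5, nat_lit 7] (Ch.cons (nat_lit 2) [nat_lit 9, nat_lit 11, nat_lit 13] Ch.nil)))

theorem EXlb_chk : Ch.chk 24 5 (lab 24 5) EXlb_E EXlb_ch 3840 = true :=
  by decide +kernel

theorem EXlb_ge : 3840 ≤ Nat.card (grp 24 EX) :=
  (Ch.le_card_grp q_hn EXlb_E_ok EXlb_chk).trans (Subgroup.card_le_of_le EXlb_le)

theorem q_le49 : grp 24 EX ≤ grp 24 EvM24.lb_E :=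
  grp_le_of_memB q_hn q_hk EvM24.lb_E_ok EX_ok (ws := [nat_lit 0x1b1f111f0e090f05080111, nat_lit 0x1b1f1611170d16060f010b]) (by decide +kernel)

theorem X_C : grp 24 EX ≤ (grp 24 EvM24.E) ⊓ H62.TE.c1 (Net.toPerm 24 EvM24.p_g47) :=
  le_inf ((q_le49).trans EvM24.lb_le) (EvG.le_cent q_hn q_hk (by decide +kernel))

theorem xs : H62.EJ.Xp 3 ((grp 24 EvM24.E) ⊓ H62.TE.c1 (Net.toPerm 24 EvM24.p_g47)) = grp 24 EX :=
  Ej.xp_of_index X_C EvM24.nt_c2_card.dvd (by norm_num) EXlb_ge (by norm_num) (Ej.cube q_hn q_hk (by decide +kernel))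

theorem q_le52 : grp 24 Y ≤ grp 24 EvM24.lb_E :=
  grp_le_of_memB q_hn q_hk EvM24.lb_E_ok Y_ok (ws := [nat_lit 0x1b150e110c050f010c03, nat_lit 0x1d1511130f05070101]) (by decide +kernel)

theorem Y_le : grp 24 Y ≤ (grp 24 EvM24.E) :=
  (q_le52.trans T_s0.le)

theorem Y_sym : Sym 24 (grp 24 EvM24.E) EX Y 0 :=
  Sym.of_lab q_hn q_hk EX_ok Y_ok Y_le (kT := 0) (by decide +kernel)

noncomputable def Y_cnt_L : List ℕ := [7, 11, T_s7_O, 1, 0]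

theorem Y_cnt_P : Prob 24 5 (grp 24 EvM24.E) Y_cnt_EG EX EX Y Y_cnt_L 0 0 :=
  Sym.prob q_hn q_hk Y_sym Y_cnt_EG_ok (grp_cons_le EvM24.p_g24_T (grp_cons_le EvM24.p_g25_T (grp_cons_le EvM24.p_g26_T (grp_cons_le EvM24.p_g27_T (grp_cons_le EvM24.p_g28_T (grp_cons_le EvM24.p_g19_T (grp_cons_le EvM24.p_g20_T (grp_cons_le EvM24.p_g21_T (grp_cons_le EvM24.p_g15_T (grp_cons_le EvM24.p_g16_T (grp_cons_le EvM24.p_g11_T (grp_cons_le EvM24.p_g12_T (grp_cons_le EvM24.p_g7_T (grp_cons_le EvM24.p_g8_T (grp_cons_le EvM24.p_g3_T (grp_cons_le EvM24.p_g4_T (grp_cons_le EvM24.p_g1_T (grp_cons_le EvM24.p_g2_T (grp_nil_le _))))))))))))))))))) (Frames.cons T_s7_F Frames.nil) EX_ok _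

noncomputable def Y_cnt_t : BT := (BT.br (nat_lit 2) (nat_lit 0) [nat_lit 1, nat_lit 3] (BT.dead (nat_lit 1) (BT.img (nat_lit 3) (nat_lit 0) (BT.img (nat_lit 3) (nat_lit 0) (BT.img (nat_lit 1) (nat_lit 0) (BT.img (nat_lit 3) (nat_lit 0) (BT.img (nat_lit 1) (nat_lit 0) (BT.img (nat_lit 3) (nat_lit 0) (BT.img (nat_lit 1) (nat_lit 0) (BT.img (nat_lit 1) (nat_lit 0) (BT.img (nat_lit 3) (nat_lit 0) (BT.img (nat_lit 3) (nat_lit 0) (BT.img (nat_lit 3) (nat_lit 6) (BT.img (nat_lit 1) (nat_lit 0) (BT.img (nat_lit 1) (nat_lit 0) (BT.and (nat_lit 3) (nat_lit 0) (BT.cnt (nat_lit 0)))))))))))))))) (BT.dead (nat_lit 4) (BT.img (nat_lit 3) (nat_lit 0) (BT.img (nat_lit 3) (nat_lit 0) (BT.img (nat_lit 1) (nat_lit 0) (BT.img (nat_lit 3) (nat_lit 0) (BT.img (nat_lit 3) (nat_lit 0) (BT.img (nat_lit 1) (nat_lit 0) (BT.and (nat_lit 0) (nat_lit 6) (BT.cnt (nat_lit 0)))))))))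 (BT.dead (nat_lit 2) (BT.img (nat_lit 3) (nat_lit 0) (BT.img (nat_lit 3) (nat_lit 0) (BT.img (nat_lit 1) (nat_lit 0) (BT.img (nat_lit 3) (nat_lit 0) (BT.img (nat_lit 3) (nat_lit 0) (BT.img (nat_lit 1) (nat_lit 5) (BT.and (nat_lit 1) (nat_lit 0) (BT.cnt (nat_lit 0))))))))) (BT.dead (nat_lit 13) (BT.img (nat_lit 3) (nat_lit 0) (BT.img (nat_lit 3) (nat_lit 0) (BT.img (nat_lit 1) (nat_lit 0) (BT.img (nat_lit 3) (nat_lit 0) (BT.img (nat_lit 1) (nat_lit 0) (BT.and (nat_lit 0) (nat_lit 4) (BT.cnt (nat_lit 0)))))))) (BT.dead (nat_lit 11) (BT.img (nat_lit 3) (nat_lit 0) (BT.img (nat_lit 3) (nat_lit 0) (BT.img (nat_lit 1) (nat_lit 0) (BT.img (nat_lit 3) (nat_lit 0) (BT.img (nat_lit 1) (nat_lit 3) (BT.and (nat_lit 1) (nat_lit 0) (BT.cnt (nat_lit 0)))))))) (BT.kid (nat_lit 0) (nat_lit 1) (BT.img (nat_lit 3) (nat_lit 0) (BT.img (nat_lit 3) (nat_lit 0) (BT.img (nat_lit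 1) (nat_lit 0) (BT.img (nat_lit 3) (nat_lit 0) (BT.img (nat_lit 3) (nat_lit 0) (BT.img (nat_lit 1) (nat_lit 0) (BT.img (nat_lit 1) (nat_lit 0) (BT.img (nat_lit 1) (nat_lit 6) (BT.img (nat_lit 1) (nat_lit 8) (BT.one (nat_lit 0) (nat_lit 0x5070b131116181915171e1e) (nat_lit 0x5070b131116181915171e1e) [nat_lit 6, nat_lit 2, nat_lit 7, nat_lit 1, nat_lit 8, nat_lit 0, nat_lit 9])))))))))) BT.nil)))))))

theorem Y_cnt : Cnt 24 (grp 24 EvM24.E) EX EX 0 0 0 0 4 :=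
  BT.sound Y_cnt_P Known.nil (t := Y_cnt_t) (d := 0) (by decide +kernel)

theorem Y_ge : 4 ≤ Nat.card (grp 24 Y) :=
  Ch.le_card_grp (k := 5) (L := (lab 24 5)) q_hn Y_ok (c := (Ch.cons (nat_lit 0) [nat_lit 1, nat_lit 3] Ch.nil)) (by decide +kernel)

theorem Y_eq : (grp 24 EvM24.E) ⊓ Subgroup.centralizer (grp 24 EX : Set (Equiv.Perm (Fin 24))) = grp 24 Y :=
  cent_grp_eq Y_sym Y_cnt Y_ge

theorem Y_card : Nat.card (grp 24 Y) = 4 :=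
  (Y_sym.mem_iff Y_cnt Y_ge).1

theorem q_le53 : grp 24 Y ≤ grp 24 EXlb_E :=
  grp_le_of_memB q_hn q_hk EXlb_E_ok Y_ok (ws := [nat_lit 0xd0505020d01, nat_lit 0x50706020501]) (by decide +kernel)

theorem Y_X : grp 24 Y ≤ grp 24 EX :=
  (q_le53).trans EXlb_le

theorem Y_S : grp 24 Y ≤ grp 24 ES :=
  grp_le_of_memB q_hn q_hk ES_ok Y_ok (ws := [nat_lit 3, nat_lit 259]) (by decide +kernel)

theorem w_G : Net.toPerm 24 q_g54 ∈ (grp 24 EvM24.E) :=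
  EvM24.lb_le (mem_grp_of_memB q_hn q_hk EvM24.lb_E_ok q_g54_ok (w := (nat_lit 0x231511131017090e0718010f)) (by decide +kernel))

theorem d1 : ∀ σ ∈ (grp 24 EvM24.E), (∀ x ∈ H62.EJ.Xp 3 ((grp 24 EvM24.E) ⊓ H62.TE.c1 (Net.toPerm 24 EvM24.p_g47)), σ * x = x * σ) → σ ∈ H62.EJ.Xp 3 ((grp 24 EvM24.E) ⊓ H62.TE.c1 (Net.toPerm 24 EvM24.p_g47)) :=
  xs ▸ fun _ hσ h => Y_X (Y_eq.le ⟨hσ, fun x hx => (h x hx).symm⟩)

theorem d2 : ∀ x ∈ H62.EJ.ZZ (H62.EJ.Xp 3 ((grp 24 EvM24.E) ⊓ H62.TE.c1 (Net.toPerm 24 EvM24.p_g47))), ∀ P, H8.IsSylowIn 2 P ((grp 24 EvM24.E) ⊓ H62.TE.c1 (Net.toPerm 24 EvM24.p_g47)) → x ∈ H62.TE.cz P → x = 1 ∨ x = (Net.toPerm 24 EvM24.p_g47) :=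
  xs ▸ Ej.d2_two X_C (a := 8) (m := 15) EvM24.nt_c2_card (by norm_num) EXlb_ge
    (fun _ hx => EvG.mem_pair q_hn q_hk (by decide +kernel) (Y_S (Y_eq.le ⟨(X_C hx.1).1, hx.2⟩)))
    ⟨w_G, H62.TE.mem_c1.2 (EvG.comm_net q_hn q_hk (by decide +kernel))⟩ (EvG.comm_net q_hn q_hk (by decide +kernel)) (EvG.ncomm_net (k := 5) q_hn (by decide +kernel))

universe u

open Cfsg.Agent.H62.EJ

theorem kM24 : KM24.{u} := fun _ _ _ _ _ ⟨e⟩ =>
  have h := Ej.em_of EvM24.amb (e.trans EvM24.equiv)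
  bx.kg h (.inr ⟨bx.good h, .inr (.inl (bx.d2 h cls d1 d2))⟩)

end Cfsg.Agent.H55.EjM24
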