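import Mathlib
import Cfsg.Agent.H55.G2RawKit

set_option autoImplicit false
set_option maxRecDepth 200000
set_option linter.style.longLine false

namespace Cfsg.Agent.H55.G2Raw0

open Cfsg.Agent.H43 Cfsg.Agent.H97.G2 Cfsg.Agent.H55.G2Raw

theorem a_hn : NOk 30 := by decide

theorem a_hk : 30 ≤ 2 ^ 5 := by decide

noncomputable def a_g1 : Net := (Net.cons (nat_lit 1) (nat_lit 0x400504) (Net.cons (nat_lit 2) (nat_lit 0x2002000) (Net.cons (nat_lit 4) (nat_lit 768) (Net.cons (nat_lit 8) (nat_lit 0x200000) (Net.cons (nat_lit 16) (nat_lit 11203) (Net.cons (nat_lit 8) (nat_lit 0x2100b5) (Net.cons (nat_lit 4) (nat_lit 459266) (Net.cons (nat_lit 2) (nat_lit 0x2112020) (Net.cons (nat_lit 1) (nat_lit 70740) Net.nil)))))))))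

theorem a_g1_ok : Net.ok 30 a_g1 = true := by decide +kernel

noncomputable def a_g2 : Net := (Net.cons (nat_lit 1) (nat_lit 0x1400050) (Net.cons (nat_lit 2) (nat_lit 0x2213030) (Net.cons (nat_lit 4) (nat_lit 0x20b0d04) (Net.cons (nat_lit 8) (nat_lit 589824) (Net.cons (nat_lit 16) (nat_lit 11730) (Net.cons (nat_lit 8) (nat_lit 786432) (Net.cons (nat_lit 4) (nat_lit 0x20e0d08) (Net.cons (nat_lit 2) (nat_lit 0x3302320) (Net.cons (nat_lit 1) (nat_lit 0x1541044) Net.nil)))))))))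

theorem a_g2_ok : Net.ok 30 a_g2 = true := by decide +kernel

noncomputable def a_g3 : Net := (Net.cons (nat_lit 1) (nat_lit 0x511000) (Net.cons (nat_lit 2) (nat_lit 0x1310010) (Net.cons (nat_lit 4) (nat_lit 0x10d0308) (Net.cons (nat_lit 8) (nat_lit 0x1c00c0) (Net.cons (nat_lit 16) (nat_lit 221) (Net.cons (nat_lit 8) (nat_lit 0x1e0083) (Net.cons (nat_lit 4) (nat_lit 0x104030d) (Net.cons (nat_lit 2) (nat_lit 4353) (Net.cons (nat_lit 1) (nat_lit 0x10055000) Net.nil)))))))))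

theorem a_g3_ok : Net.ok 30 a_g3 = true := by decide +kernel

noncomputable def a_g4 : Net := (Net.cons (nat_lit 1) (nat_lit 0x415550) (Net.cons (nat_lit 2) (nat_lit 69664) (Net.cons (nat_lit 4) (nat_lit 0x2010000) (Net.cons (nat_lit 8) (nat_lit 786560) (Net.cons (nat_lit 16) (nat_lit 10709) (Net.cons (nat_lit 8) (nat_lit 852099) (Net.cons (nat_lit 4) (nat_lit 0x20b0c08) (Net.cons (nat_lit 2) (nat_lit 69664) (Net.cons (nat_lit 1) (nat_lit 0x10415550) Net.nil)))))))))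

theorem a_g4_ok : Net.ok 30 a_g4 = true := by decide +kernel

noncomputable def a_g5 : Net := (Net.cons (nat_lit 1) (nat_lit 0x145440) (Net.cons (nat_lit 2) (nat_lit 0x3012120) (Net.cons (nat_lit 4) (nat_lit 0x3050a0c) (Net.cons (nat_lit 8) (nat_lit 0x2000c0) (Net.cons (nat_lit 16) (nat_lit 3303) (Net.cons (nat_lit 8) (nat_lit 0x340017) (Net.cons (nat_lit 4) (nat_lit 0x3050a0c) (Net.cons (nat_lit 2) (nat_lit 0x3112023) (Net.cons (nat_lit 1) (nat_lit 0x551045) Net.nil)))))))))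

theorem a_g5_ok : Net.ok 30 a_g5 = true := by decide +kernel

noncomputable def a_g6 : Net := (Net.cons (nat_lit 1) (nat_lit 0x5454500) (Net.cons (nat_lit 2) (nat_lit 272) (Net.cons (nat_lit 4) (nat_lit 854016) (Net.cons (nat_lit 8) (nat_lit 262144) (Net.cons (nat_lit 16) (nat_lit 1699) (Net.cons (nat_lit 8) (nat_lit 262173) (Net.cons (nat_lit 4) (nat_lit 394240) (Net.cons (nat_lit 2) (nat_lit 0x1320031) (Net.cons (nat_lit 1) (nat_lit 0x15040105) Net.nil)))))))))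

theorem a_g6_ok : Net.ok 30 a_g6 = true := by decide +kernel

noncomputable def a_g7 : Net := (Net.cons (nat_lit 1) (nat_lit 0x4051440) (Net.cons (nat_lit 2) (nat_lit 0x3032110) (Net.cons (nat_lit 4) (nat_lit 0x2000800) (Net.cons (nat_lit 8) (nat_lit 0x2600c0) (Net.cons (nat_lit 16) (nat_lit 2805) (Net.cons (nat_lit 8) (nat_lit 0x23009f) (Net.cons (nat_lit 4) (nat_lit 0x2000c01) (Net.cons (nat_lit 2) (nat_lit 0x2123003) (Net.cons (nat_lit 1) (nat_lit 0x5010545) Net.nil)))))))))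

theorem a_g7_ok : Net.ok 30 a_g7 = true := by decide +kernel

noncomputable def a_g8 : Net := (Net.cons (nat_lit 1) (nat_lit 0x514500) (Net.cons (nat_lit 2) (nat_lit 0x1111310) (Net.cons (nat_lit 4) (nat_lit 0x20f0400) (Net.cons (nat_lit 8) (nat_lit 655552) (Net.cons (nat_lit 16) (nat_lit 8905) (Net.cons (nat_lit 8) (nat_lit 0x2e0064) (Net.cons (nat_lit 4) (nat_lit 0x2090c0c) (Net.cons (nat_lit 2) (nat_lit 0x3000121) (Net.cons (nat_lit 1) (nat_lit 0x10001155) Net.nil)))))))))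

theorem a_g8_ok : Net.ok 30 a_g8 = true := by decide +kernel

noncomputable def a_O : List Net := [a_g1, a_g2, a_g3, a_g4, a_g5, a_g6, a_g7, a_g8]

theorem a_O_ok : okE 30 a_O = true := (okE_cons.2 ⟨a_g1_ok, (okE_cons.2 ⟨a_g2_ok, (okE_cons.2 ⟨a_g3_ok, (okE_cons.2 ⟨a_g4_ok, (okE_cons.2 ⟨a_g5_ok, (okE_cons.2 ⟨a_g6_ok, (okE_cons.2 ⟨a_g7_ok, (okE_cons.2 ⟨a_g8_ok, (okE_nil 30)⟩)⟩)⟩)⟩)⟩)⟩)⟩)⟩)

noncomputable def a_V9 : List Net := [a_g3]

theorem a_V9_ok : okE 30 a_V9 = true := (okE_cons.2 ⟨a_g3_ok, (okE_nil 30)⟩)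

noncomputable def a_g11 : Net := (Net.cons (nat_lit 1) (nat_lit 0x5140050) (Net.cons (nat_lit 2) (nat_lit 0x210130) (Net.cons (nat_lit 4) (nat_lit 787720) (Net.cons (nat_lit 8) (nat_lit 786496) (Net.cons (nat_lit 16) (nat_lit 748) (Net.cons (nat_lit 8) (nat_lit 524489) (Net.cons (nat_lit 4) (nat_lit 394756) (Net.cons (nat_lit 2) (nat_lit 0x2201202) (Net.cons (nat_lit 1) (nat_lit 0x4004500) Net.nil)))))))))

theorem a_g11_ok : Net.ok 30 a_g11 = true := by decide +kernel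

noncomputable def a_g12 : Net := (Net.cons (nat_lit 1) (nat_lit 0x5114150) (Net.cons (nat_lit 2) (nat_lit 0x1112130) (Net.cons (nat_lit 4) (nat_lit 0x30a0500) (Net.cons (nat_lit 8) (nat_lit 262144) (Net.cons (nat_lit 16) (nat_lit 9418) (Net.cons (nat_lit 8) (nat_lit 0x1c0092) (Net.cons (nat_lit 4) (nat_lit 0x300010b) (Net.cons (nat_lit 2) (nat_lit 0x3201022) (Net.cons (nat_lit 1) (nat_lit 0x4004500) Net.nil)))))))))

theorem a_g12_ok : Net.ok 30 a_g12 = true := by decide +kernel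

noncomputable def a_V13 : List Net := [a_g11, a_g12]

theorem a_V13_ok : okE 30 a_V13 = true := (okE_cons.2 ⟨a_g11_ok, (okE_cons.2 ⟨a_g12_ok, (okE_nil 30)⟩)⟩)

noncomputable def a_g15 : Net := (Net.cons (nat_lit 1) (nat_lit 0x5405450) (Net.cons (nat_lit 2) (nat_lit 0x200300) (Net.cons (nat_lit 4) (nat_lit 0x101080c) (Net.cons (nat_lit 8) (nat_lit 524288) (Net.cons (nat_lit 16) (nat_lit 7830) (Net.cons (nat_lit 8) (nat_lit 131127) (Net.cons (nat_lit 4) (nat_lit 0x1050e0c) (Net.cons (nat_lit 2) (nat_lit 0x301332) (Net.cons (nat_lit 1) (nat_lit 0x5004511) Net.nil)))))))))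

theorem a_g15_ok : Net.ok 30 a_g15 = true := by decide +kernel

noncomputable def a_V16 : List Net := [a_g15]

theorem a_V16_ok : okE 30 a_V16 = true := (okE_cons.2 ⟨a_g15_ok, (okE_nil 30)⟩)

noncomputable def a_g18 : Net := (Net.cons (nat_lit 1) (nat_lit 0x5140000) (Net.cons (nat_lit 2) (nat_lit 0x2031010) (Net.cons (nat_lit 4) (nat_lit 919048) (Net.cons (nat_lit 8) (nat_lit 524288) (Net.cons (nat_lit 16) (nat_lit 1708) (Net.cons (nat_lit 8) (nat_lit 983210) (Net.cons (nat_lit 4) (nat_lit 919566) (Net.cons (nat_lit 2) (nat_lit 0x2300202) (Net.cons (nat_lit 1) (nat_lit 0x4441000) Net.nil)))))))))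

theorem a_g18_ok : Net.ok 30 a_g18 = true := by decide +kernel

noncomputable def a_g19 : Net := (Net.cons (nat_lit 1) (nat_lit 0x1140450) (Net.cons (nat_lit 2) (nat_lit 0x2100200) (Net.cons (nat_lit 4) (nat_lit 0x2060400) (Net.cons (nat_lit 8) (nat_lit 0x250000) (Net.cons (nat_lit 16) (nat_lit 2476) (Net.cons (nat_lit 8) (nat_lit 65602) (Net.cons (nat_lit 4) (nat_lit 0x20c0406) (Net.cons (nat_lit 2) (nat_lit 0x3101100) (Net.cons (nat_lit 1) (nat_lit 0x155150) Net.nil)))))))))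

theorem a_g19_ok : Net.ok 30 a_g19 = true := by decide +kernel

noncomputable def a_V20 : List Net := [a_g18, a_g19]

theorem a_V20_ok : okE 30 a_V20 = true := (okE_cons.2 ⟨a_g18_ok, (okE_cons.2 ⟨a_g19_ok, (okE_nil 30)⟩)⟩)

noncomputable def a_g22 : Net := (Net.cons (nat_lit 1) (nat_lit 0x1415140) (Net.cons (nat_lit 2) (nat_lit 0x1210000) (Net.cons (nat_lit 4) (nat_lit 0x108040c) (Net.cons (nat_lit 8) (nat_lit 983040) (Net.cons (nat_lit 16) (nat_lit 7490) (Net.cons (nat_lit 8) (nat_lit 0x13003e) (Net.cons (nat_lit 4) (nat_lit 0x1040304) (Net.cons (nat_lit 2) (nat_lit 0x330100) (Net.cons (nat_lit 1) (nat_lit 0x5015550) Net.nil)))))))))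

theorem a_g22_ok : Net.ok 30 a_g22 = true := by decide +kernel

noncomputable def a_V23 : List Net := [a_g22]

theorem a_V23_ok : okE 30 a_V23 = true := (okE_cons.2 ⟨a_g22_ok, (okE_nil 30)⟩)

noncomputable def a_g25 : Net := (Net.cons (nat_lit 1) (nat_lit 0x5104040) (Net.cons (nat_lit 2) (nat_lit 0x1031100) (Net.cons (nat_lit 4) (nat_lit 527624) (Net.cons (nat_lit 8) (nat_lit 0x100040) (Net.cons (nat_lit 16) (nat_lit 7238) (Net.cons (nat_lit 8) (nat_lit 0x19003a) (Net.cons (nat_lit 4) (nat_lit 788482) (Net.cons (nat_lit 2) (nat_lit 0x3232130) (Net.cons (nat_lit 1) (nat_lit 0x5010000) Net.nil)))))))))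

theorem a_g25_ok : Net.ok 30 a_g25 = true := by decide +kernel

noncomputable def a_g26 : Net := (Net.cons (nat_lit 1) (nat_lit 0x5045450) (Net.cons (nat_lit 2) (nat_lit 0x2031110) (Net.cons (nat_lit 4) (nat_lit 327680) (Net.cons (nat_lit 8) (nat_lit 0x300000) (Net.cons (nat_lit 16) (nat_lit 15040) (Net.cons (nat_lit 8) (nat_lit 0x37002c) (Net.cons (nat_lit 4) (nat_lit 656906) (Net.cons (nat_lit 2) (nat_lit 0x3103130) (Net.cons (nat_lit 1) (nat_lit 0x1400500) Net.nil)))))))))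

theorem a_g26_ok : Net.ok 30 a_g26 = true := by decide +kernel

noncomputable def a_V27 : List Net := [a_g25, a_g26]

theorem a_V27_ok : okE 30 a_V27 = true := (okE_cons.2 ⟨a_g25_ok, (okE_cons.2 ⟨a_g26_ok, (okE_nil 30)⟩)⟩)

noncomputable def a_g29 : Net := (Net.cons (nat_lit 1) (nat_lit 0x5010000) (Net.cons (nat_lit 2) (nat_lit 0x3210300) (Net.cons (nat_lit 4) (nat_lit 788992) (Net.cons (nat_lit 8) (nat_lit 128) (Net.cons (nat_lit 16) (nat_lit 1244) (Net.cons (nat_lit 8) (nat_lit 589914) (Net.cons (nat_lit 4) (nat_lit 528138) (Net.cons (nat_lit 2) (nat_lit 0x1111322) (Net.cons (nat_lit 1) (nat_lit 0x5104040) Net.nil)))))))))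

theorem a_g29_ok : Net.ok 30 a_g29 = true := by decide +kernel

noncomputable def a_V30 : List Net := [a_g29]

theorem a_V30_ok : okE 30 a_V30 = true := (okE_cons.2 ⟨a_g29_ok, (okE_nil 30)⟩)

noncomputable def a_E4 : List Net := []

theorem a_E4_ok : okE 30 a_E4 = true := (okE_nil 30)

noncomputable def a_G3 : List Net := [a_g29]

theorem a_G3_ok : okE 30 a_G3 = true := (okE_cons.2 ⟨a_g29_ok, (okE_nil 30)⟩)

noncomputable def a_E3 : List Net := [a_g29, a_g25, a_g26]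

theorem a_E3_ok : okE 30 a_E3 = true := (okE_cons.2 ⟨a_g29_ok, (okE_cons.2 ⟨a_g25_ok, (okE_cons.2 ⟨a_g26_ok, (okE_nil 30)⟩)⟩)⟩)

noncomputable def a_G2 : List Net := [a_g22, a_g29, a_g25, a_g26]

theorem a_G2_ok : okE 30 a_G2 = true := (okE_cons.2 ⟨a_g22_ok, (okE_cons.2 ⟨a_g29_ok, (okE_cons.2 ⟨a_g25_ok, (okE_cons.2 ⟨a_g26_ok, (okE_nil 30)⟩)⟩)⟩)⟩)

noncomputable def a_E2 : List Net := [a_g22, a_g18, a_g19, a_g29, a_g25, a_g26]

theorem a_E2_ok : okE 30 a_E2 = true := (okE_cons.2 ⟨a_g22_ok, (okE_cons.2 ⟨a_g18_ok, (okE_cons.2 ⟨a_g19_ok, (okE_cons.2 ⟨a_g29_ok, (okE_cons.2 ⟨a_g25_ok, (okE_cons.2 ⟨a_g26_ok, (okE_nil 30)⟩)⟩)⟩)⟩)⟩)⟩)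

noncomputable def a_G1 : List Net := [a_g15, a_g22, a_g18, a_g19, a_g29, a_g25, a_g26]

theorem a_G1_ok : okE 30 a_G1 = true := (okE_cons.2 ⟨a_g15_ok, (okE_cons.2 ⟨a_g22_ok, (okE_cons.2 ⟨a_g18_ok, (okE_cons.2 ⟨a_g19_ok, (okE_cons.2 ⟨a_g29_ok, (okE_cons.2 ⟨a_g25_ok, (okE_cons.2 ⟨a_g26_ok, (okE_nil 30)⟩)⟩)⟩)⟩)⟩)⟩)⟩)

noncomputable def a_E1 : List Net := [a_g15, a_g11, a_g12, a_g22, a_g18, a_g19, a_g29, a_g25, a_g26]

theorem a_E1_ok : okE 30 a_E1 = true := (okE_cons.2 ⟨a_g15_ok, (okE_cons.2 ⟨a_g11_ok, (okE_cons.2 ⟨a_g12_ok, (okE_cons.2 ⟨a_g22_ok, (okE_cons.2 ⟨a_g18_ok, (okE_cons.2 ⟨a_g19_ok, (okE_cons.2 ⟨a_g29_ok, (okE_cons.2 ⟨a_g25_ok, (okE_cons.2 ⟨a_g26_ok, (okE_nil 30)⟩)⟩)⟩)⟩)⟩)⟩)⟩)⟩)⟩)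

noncomputable def a_G0 : List Net := [a_g3, a_g15, a_g11, a_g12, a_g22, a_g18, a_g19, a_g29, a_g25, a_g26]

theorem a_G0_ok : okE 30 a_G0 = true := (okE_cons.2 ⟨a_g3_ok, (okE_cons.2 ⟨a_g15_ok, (okE_cons.2 ⟨a_g11_ok, (okE_cons.2 ⟨a_g12_ok, (okE_cons.2 ⟨a_g22_ok, (okE_cons.2 ⟨a_g18_ok, (okE_cons.2 ⟨a_g19_ok, (okE_cons.2 ⟨a_g29_ok, (okE_cons.2 ⟨a_g25_ok, (okE_cons.2 ⟨a_g26_ok, (okE_nil 30)⟩)⟩)⟩)⟩)⟩)⟩)⟩)⟩)⟩)⟩)

noncomputable def a_E0 : List Net := [a_g3, a_g1, a_g2, a_g4, a_g5, a_g6, a_g7, a_g8, a_g15, a_g11, a_g12, a_g22, a_g18, a_g19, a_g29, a_g25, a_g26]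

theorem a_E0_ok : okE 30 a_E0 = true := (okE_cons.2 ⟨a_g3_ok, (okE_cons.2 ⟨a_g1_ok, (okE_cons.2 ⟨a_g2_ok, (okE_cons.2 ⟨a_g4_ok, (okE_cons.2 ⟨a_g5_ok, (okE_cons.2 ⟨a_g6_ok, (okE_cons.2 ⟨a_g7_ok, (okE_cons.2 ⟨a_g8_ok, (okE_cons.2 ⟨a_g15_ok, (okE_cons.2 ⟨a_g11_ok, (okE_cons.2 ⟨a_g12_ok, (okE_cons.2 ⟨a_g22_ok, (okE_cons.2 ⟨a_g18_ok, (okE_cons.2 ⟨a_g19_ok, (okE_cons.2 ⟨a_g29_ok, (okE_cons.2 ⟨a_g25_ok, (okE_cons.2 ⟨a_g26_ok, (okE_nil 30)⟩)⟩)⟩)⟩)⟩)⟩)⟩)⟩)⟩)⟩)⟩)⟩)⟩)⟩)⟩)⟩)⟩)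

theorem a_le10 : grp 30 a_V9 ≤ grp 30 a_O :=
  grp_le_of_memB a_hn a_hk a_O_ok a_V9_ok (ws := [nat_lit 5]) (by decide +kernel)

theorem a_le14 : grp 30 a_V13 ≤ grp 30 a_O :=
  grp_le_of_memB a_hn a_hk a_O_ok a_V13_ok (ws := [nat_lit 0x50b0d0105090f, nat_lit 0x10b0a01080b101006]) (by decide +kernel)

theorem a_le17 : grp 30 a_V16 ≤ grp 30 a_V13 :=
  grp_le_of_memB a_hn a_hk a_V13_ok a_V16_ok (ws := [nat_lit 1028]) (by decide +kernel)

theorem a_le21 : grp 30 a_V20 ≤ grp 30 a_V13 :=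
  grp_le_of_memB a_hn a_hk a_V13_ok a_V20_ok (ws := [nat_lit 0x30204020202, nat_lit 0x401010302]) (by decide +kernel)

theorem a_le24 : grp 30 a_V23 ≤ grp 30 a_V20 :=
  grp_le_of_memB a_hn a_hk a_V20_ok a_V23_ok (ws := [nat_lit 260]) (by decide +kernel)

theorem a_le28 : grp 30 a_V27 ≤ grp 30 a_V20 :=
  grp_le_of_memB a_hn a_hk a_V20_ok a_V27_ok (ws := [nat_lit 0x10302040203010402, nat_lit 0x101040402]) (by decide +kernel)

theorem a_le31 : grp 30 a_V30 ≤ grp 30 a_V27 :=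
  grp_le_of_memB a_hn a_hk a_V27_ok a_V30_ok (ws := [nat_lit 2]) (by decide +kernel)

theorem a_card4 : Nat.card (grp 30 a_E4) = 1 :=
  card_grp_nil 30

theorem a_leO4 : grp 30 a_E4 ≤ grp 30 a_O :=
  grp_nil_le _

theorem a_3_fix : grp 30 a_E4 ≤ MulAction.stabilizer (Equiv.Perm (Fin 30)) (⟨1, by decide⟩ : Fin 30) :=
  grp_le_stab a_E4_ok (by decide : 1 < 30) (by decide +kernel)

noncomputable def a_3_ts : List ℕ := [nat_lit 0, nat_lit 1, nat_lit 2, nat_lit 257, nat_lit 514, nat_lit 65793, nat_lit 131586, nat_lit 0x1010101]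

noncomputable def a_3_ds : List ℕ := [nat_lit 1, nat_lit 13, nat_lit 19, nat_lit 6, nat_lit 9, nat_lit 21, nat_lit 7, nat_lit 14]

theorem a_3_dist : Dist 30 a_E4 a_G3 (⟨1, by decide⟩ : Fin 30) a_3_ts a_3_ds :=
  dist_of_distB (k := 3) a_hn a_E4_ok a_G3_ok (by decide : 1 < 30) (by decide +kernel)

noncomputable def a_3_sl0 : SL := (SL.cons (nat_lit 1) (nat_lit 13) Ch.nil [] (SL.cons (nat_lit 2) (nat_lit 19) Ch.nil [] (SL.cons (nat_lit 257) (nat_lit 6) Ch.nil [] (SL.cons (nat_lit 514) (nat_lit 9) Ch.nil [] (SL.cons (nat_lit 65793) (nat_lit 21) Ch.nil [] (SL.cons (nat_lit 131586) (nat_lit 7) Ch.nil [] (SL.cons (nat_lit 0x1010101) (nat_lit 14) Ch.nil [] SL.nil)))))))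

theorem a_3_sc0 : SCs 30 a_E4 a_G3 (⟨1, by decide⟩ : Fin 30) (SL.words a_3_sl0) :=
  scs_of_ok a_hn (det_lab a_hk ⊤) a_E4_ok a_G3_ok le_top le_top (by decide : 1 < 30) a_3_fix a_card4.le (by decide +kernel)

noncomputable def a_3_l : List ℕ := (appL (SL.words a_3_sl0) [])

theorem a_3_scs : SCs 30 a_E4 a_G3 (⟨1, by decide⟩ : Fin 30) a_3_l :=
  (SCs.append a_3_sc0 SCs.nil)

noncomputable def a_3_rl0_0 : RL := (RL.cons (nat_lit 0) (nat_lit 1) (nat_lit 0) (nat_lit 0) (nat_lit 2) (nat_lit 0) (RL.cons (nat_lit 1) (nat_lit 13) (nat_lit 0) (nat_lit 0) (nat_lit 0) (nat_lit 0) (RL.cons (nat_lit 2) (nat_lit 19) (nat_lit 0) (nat_lit 0) (nat_lit 4) (nat_lit 0) (RL.cons (nat_lit 3) (nat_lit 6) (nat_lit 0) (nat_lit 0) (nat_lit 1) (nat_lit 0) (RL.cons (nat_lit 4) (nat_lit 9) (nat_lit 0) (nat_lit 0) (nat_lit 6) (nat_lit 0) (RL.cons (nat_lit 5) (nat_lit 21) (nat_lit 0) (nat_lit 0) (nat_lit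 3) (nat_lit 0) (RL.cons (nat_lit 6) (nat_lit 7) (nat_lit 0) (nat_lit 0) (nat_lit 7) (nat_lit 0) (RL.cons (nat_lit 7) (nat_lit 14) (nat_lit 0) (nat_lit 0) (nat_lit 5) (nat_lit 0) RL.nil))))))))

theorem a_3_good0_0 : GoodSet 30 a_E4 a_G3 (⟨1, by decide⟩ : Fin 30) a_3_ts (nat_lit 1) (RL.pts a_3_rl0_0) :=
  goodSet_of_ok a_hn (det_lab a_hk ⊤) a_E4_ok a_G3_ok le_top le_top (by decide : 1 < 30) (sepAt_lab a_hk _) (by decide +kernel)

theorem a_3_step0 : Step 30 a_E4 a_G3 a_3_ts (2 * 0 + 1) :=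
  step_of_cover a_E4_ok a_3_dist (by decide +kernel) a_3_scs (by decide +kernel) a_3_good0_0 (kw := [])
    (conj_mem_of_scs a_E4_ok a_G3_ok (by decide : 1 < 30) a_3_scs (c := 0) (d := 13) (by decide +kernel)) (by decide +kernel)

theorem a_3_lev : grp 30 a_G3 ⊓ MulAction.stabilizer (Equiv.Perm (Fin 30)) (⟨1, by decide⟩ : Fin 30) = grp 30 a_E4 :=
  sims_level (gs := a_V30) rfl (by decide) a_3_fix a_3_dist (forall_lt_one a_3_step0)

theorem a_3_cardG : Nat.card (grp 30 a_G3) = 8 :=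
  card_of_level a_hn a_G3_ok (by decide : 1 < 30) a_3_lev a_card4 (m := 8) (by decide +kernel)

theorem a_le32 : grp 30 a_E3 ≤ grp 30 a_G3 :=
  grp_le_of_memB a_hn a_hk a_G3_ok a_E3_ok (ws := [nat_lit 1, nat_lit 2, nat_lit 131586]) (by decide +kernel)

theorem a_le33 : grp 30 a_G3 ≤ grp 30 a_E3 :=
  grp_le_of_memB a_hn a_hk a_E3_ok a_G3_ok (ws := [nat_lit 1]) (by decide +kernel)

theorem a_3_eq : grp 30 a_E3 = grp 30 a_G3 :=
  le_antisymm a_le32 a_le33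

theorem a_card3 : Nat.card (grp 30 a_E3) = 8 :=
  by rw [a_3_eq]; exact a_3_cardG

theorem a_stab3 : grp 30 a_E3 ⊓ MulAction.stabilizer (Equiv.Perm (Fin 30)) (⟨1, by decide⟩ : Fin 30) = grp 30 a_E4 :=
  by rw [a_3_eq]; exact a_3_lev

theorem a_leO3 : grp 30 a_E3 ≤ grp 30 a_O :=
  a_3_eq.le.trans (grp_cons_le ((a_le28.trans (a_le21.trans (a_le14.trans (le_refl (grp 30 a_O))))) (a_le31 (toPerm_mem_grp (E := a_V30) (by simp [a_V30])))) a_leO4)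

theorem a_2_fix : grp 30 a_E3 ≤ MulAction.stabilizer (Equiv.Perm (Fin 30)) (⟨11, by decide⟩ : Fin 30) :=
  grp_le_stab a_E3_ok (by decide : 11 < 30) (by decide +kernel)

noncomputable def a_2_ts : List ℕ := [nat_lit 0, nat_lit 1, nat_lit 2, nat_lit 66306, nat_lit 67329]

noncomputable def a_2_ds : List ℕ := [nat_lit 11, nat_lit 26, nat_lit 4, nat_lit 1, nat_lit 27]

theorem a_2_dist : Dist 30 a_E3 a_G2 (⟨11, by decide⟩ : Fin 30) a_2_ts a_2_ds :=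
  dist_of_distB (k := 3) a_hn a_E3_ok a_G2_ok (by decide : 11 < 30) (by decide +kernel)

noncomputable def a_2_sl0 : SL := (SL.cons (nat_lit 1) (nat_lit 26) Ch.nil [] (SL.cons (nat_lit 2) (nat_lit 4) Ch.nil [] (SL.cons (nat_lit 66306) (nat_lit 1) Ch.nil [] (SL.cons (nat_lit 67329) (nat_lit 27) (Ch.cons (nat_lit 1) [nat_lit 261] Ch.nil) [nat_lit 261] SL.nil))))

theorem a_2_sc0 : SCs 30 a_E3 a_G2 (⟨11, by decide⟩ : Fin 30) (SL.words a_2_sl0) :=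
  scs_of_ok a_hn (det_lab a_hk ⊤) a_E3_ok a_G2_ok le_top le_top (by decide : 11 < 30) a_2_fix a_card3.le (by decide +kernel)

noncomputable def a_2_l : List ℕ := (appL (SL.words a_2_sl0) [])

theorem a_2_scs : SCs 30 a_E3 a_G2 (⟨11, by decide⟩ : Fin 30) a_2_l :=
  (SCs.append a_2_sc0 SCs.nil)

noncomputable def a_2_rl0_0 : RL := (RL.cons (nat_lit 0) (nat_lit 11) (nat_lit 0) (nat_lit 0) (nat_lit 2) (nat_lit 0) (RL.cons (nat_lit 1) (nat_lit 26) (nat_lit 0) (nat_lit 0) (nat_lit 0) (nat_lit 0) (RL.cons (nat_lit 1) (nat_lit 24) (nat_lit 1) (nat_lit 0) (nat_lit 3) (nat_lit 0) (RL.cons (nat_lit 1) (nat_lit 3) (nat_lit 2) (nat_lit 6) (nat_lit 3) (nat_lit 6) (RL.cons (nat_lit 1) (nat_lit 15) (nat_lit 5) (nat_lit 262) (nat_lit 1) (nat_lit 257) (RL.cons (nat_lit 1) (nat_lit 20) (nat_lit 6) (nat_lit 261) (nat_lit 2) (nat_lit 262) (RL.cons (nat_lit 1) (nat_lit 23) (nat_lit 257) (nat_lit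 1) (nat_lit 2) (nat_lit 0) (RL.cons (nat_lit 1) (nat_lit 5) (nat_lit 261) (nat_lit 0) (nat_lit 1) (nat_lit 2) (RL.cons (nat_lit 1) (nat_lit 10) (nat_lit 262) (nat_lit 257) (nat_lit 3) (nat_lit 1) (RL.cons (nat_lit 2) (nat_lit 4) (nat_lit 0) (nat_lit 2) (nat_lit 2) (nat_lit 257) (RL.cons (nat_lit 2) (nat_lit 22) (nat_lit 1) (nat_lit 1) (nat_lit 3) (nat_lit 1) (RL.cons (nat_lit 2) (nat_lit 12) (nat_lit 2) (nat_lit 1) (nat_lit 1) (nat_lit 1) (RL.cons (nat_lit 2) (nat_lit 8) (nat_lit 5) (nat_lit 261) (nat_lit 1) (nat_lit 257) (RL.cons (nat_lit 2) (nat_lit 16) (nat_lit 6) (nat_lit 0) (nat_lit 4) (nat_lit 257) (RL.cons (nat_lit 2) (nat_lit 2) (nat_lit 257) (nat_lit 257) (nat_lit 1) (nat_lit 6) (RL.cons (nat_lit 2) (nat_lit 25) (nat_lit 261) (nat_lit 6) (nat_lit 1) (nat_lit 261) (RL.cons (nat_lit 2) (nat_lit 17) (nat_lit 262) (nat_lit 257) (nat_lit 2) (nat_lit 6) (RL.cons (nat_lit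 3) (nat_lit 1) (nat_lit 0) (nat_lit 5) (nat_lit 2) (nat_lit 262) (RL.cons (nat_lit 3) (nat_lit 13) (nat_lit 1) (nat_lit 1) (nat_lit 4) (nat_lit 2) (RL.cons (nat_lit 3) (nat_lit 19) (nat_lit 2) (nat_lit 6) (nat_lit 2) (nat_lit 5) (RL.cons (nat_lit 3) (nat_lit 7) (nat_lit 5) (nat_lit 262) (nat_lit 2) (nat_lit 257) (RL.cons (nat_lit 3) (nat_lit 21) (nat_lit 6) (nat_lit 2) (nat_lit 3) (nat_lit 5) (RL.cons (nat_lit 3) (nat_lit 6) (nat_lit 257) (nat_lit 2) (nat_lit 1) (nat_lit 261) (RL.cons (nat_lit 3) (nat_lit 9) (nat_lit 261) (nat_lit 5) (nat_lit 3) (nat_lit 257) (RL.cons (nat_lit 3) (nat_lit 14) (nat_lit 262) (nat_lit 262) (nat_lit 3) (nat_lit 1) (RL.cons (nat_lit 4) (nat_lit 27) (nat_lit 0) (nat_lit 5) (nat_lit 1) (nat_lit 0) (RL.cons (nat_lit 4) (nat_lit 18) (nat_lit 1) (nat_lit 261) (nat_lit 3) (nat_lit 261) RL.nil)))))))))))))))))))))))))))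

theorem a_2_good0_0 : GoodSet 30 a_E3 a_G2 (⟨11, by decide⟩ : Fin 30) a_2_ts (nat_lit 1) (RL.pts a_2_rl0_0) :=
  goodSet_of_ok a_hn (det_lab a_hk ⊤) a_E3_ok a_G2_ok le_top le_top (by decide : 11 < 30) (sepAt_lab a_hk _) (by decide +kernel)

theorem a_2_step0 : Step 30 a_E3 a_G2 a_2_ts (2 * 0 + 1) :=
  step_of_cover a_E3_ok a_2_dist (by decide +kernel) a_2_scs (by decide +kernel) a_2_good0_0 (kw := [])
    (conj_mem_of_scs a_E3_ok a_G2_ok (by decide : 11 < 30) a_2_scs (c := 0) (d := 26) (by decide +kernel)) (by decide +kernel)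

theorem a_2_lev : grp 30 a_G2 ⊓ MulAction.stabilizer (Equiv.Perm (Fin 30)) (⟨11, by decide⟩ : Fin 30) = grp 30 a_E3 :=
  sims_level (gs := a_V23) rfl (by decide) a_2_fix a_2_dist (forall_lt_one a_2_step0)

theorem a_2_cardG : Nat.card (grp 30 a_G2) = 216 :=
  card_of_level a_hn a_G2_ok (by decide : 11 < 30) a_2_lev a_card3 (m := 27) (by decide +kernel)

theorem a_le34 : grp 30 a_E2 ≤ grp 30 a_G2 :=
  grp_le_of_memB a_hn a_hk a_G2_ok a_E2_ok (ws := [nat_lit 1, nat_lit 0x801030207, nat_lit 0x7020208, nat_lit 3, nat_lit 5, nat_lit 7]) (by decide +kernel)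

theorem a_le35 : grp 30 a_G2 ≤ grp 30 a_E2 :=
  grp_le_of_memB a_hn a_hk a_E2_ok a_G2_ok (ws := [nat_lit 1, nat_lit 7, nat_lit 9, nat_lit 11]) (by decide +kernel)

theorem a_2_eq : grp 30 a_E2 = grp 30 a_G2 :=
  le_antisymm a_le34 a_le35

theorem a_card2 : Nat.card (grp 30 a_E2) = 216 :=
  by rw [a_2_eq]; exact a_2_cardG

theorem a_stab2 : grp 30 a_E2 ⊓ MulAction.stabilizer (Equiv.Perm (Fin 30)) (⟨11, by decide⟩ : Fin 30) = grp 30 a_E3 :=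
  by rw [a_2_eq]; exact a_2_lev

theorem a_leO2 : grp 30 a_E2 ≤ grp 30 a_O :=
  a_2_eq.le.trans (grp_cons_le ((a_le21.trans (a_le14.trans (le_refl (grp 30 a_O)))) (a_le24 (toPerm_mem_grp (E := a_V23) (by simp [a_V23])))) a_leO3)

theorem a_1_fix : grp 30 a_E2 ≤ MulAction.stabilizer (Equiv.Perm (Fin 30)) (⟨0, by decide⟩ : Fin 30) :=
  grp_le_stab a_E2_ok (by decide : 0 < 30) (by decide +kernel)

noncomputable def a_1_ts : List ℕ := [nat_lit 0, nat_lit 1]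

noncomputable def a_1_ds : List ℕ := [nat_lit 0, nat_lit 11]

theorem a_1_dist : Dist 30 a_E2 a_G1 (⟨0, by decide⟩ : Fin 30) a_1_ts a_1_ds :=
  dist_of_distB (k := 1) a_hn a_E2_ok a_G1_ok (by decide : 0 < 30) (by decide +kernel)

noncomputable def a_1_sl0 : SL := (SL.cons (nat_lit 1) (nat_lit 11) (Ch.cons (nat_lit 1) [nat_lit 7, nat_lit 9, nat_lit 11] Ch.nil) [nat_lit 787202, nat_lit 461825, nat_lit 524802] SL.nil)

theorem a_1_sc0 : SCs 30 a_E2 a_G1 (⟨0, by decide⟩ : Fin 30) (SL.words a_1_sl0) :=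
  scs_of_ok a_hn (det_lab a_hk ⊤) a_E2_ok a_G1_ok le_top le_top (by decide : 0 < 30) a_1_fix a_card2.le (by decide +kernel)

noncomputable def a_1_l : List ℕ := (appL (SL.words a_1_sl0) [])

theorem a_1_scs : SCs 30 a_E2 a_G1 (⟨0, by decide⟩ : Fin 30) a_1_l :=
  (SCs.append a_1_sc0 SCs.nil)

noncomputable def a_1_rl0_0 : RL := (RL.cons (nat_lit 0) (nat_lit 0) (nat_lit 0) (nat_lit 1036) (nat_lit 1) (nat_lit 0x70b040c) (RL.cons (nat_lit 1) (nat_lit 11) (nat_lit 0) (nat_lit 0) (nat_lit 0) (nat_lit 0) (RL.cons (nat_lit 1) (nat_lit 26) (nat_lit 1) (nat_lit 776) (nat_lit 1) (nat_lit 525320) (RL.cons (nat_lit 1) (nat_lit 4) (nat_lit 2) (nat_lit 516) (nat_lit 1) (nat_lit 0x70c0106) (RL.cons (nat_lit 1) (nat_lit 7) (nat_lit 3) (nat_lit 514) (nat_lit 1) (nat_lit 0x70c040c) (RL.cons (nat_lit 1) (nat_lit 27) (nat_lit 1030) (nat_lit 523) (nat_lit 1) (nat_lit 0x70b0101) RL.nil))))))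

theorem a_1_good0_0 : GoodSet 30 a_E2 a_G1 (⟨0, by decide⟩ : Fin 30) a_1_ts (nat_lit 1) (RL.pts a_1_rl0_0) :=
  goodSet_of_ok a_hn (det_lab a_hk ⊤) a_E2_ok a_G1_ok le_top le_top (by decide : 0 < 30) (sepAt_lab a_hk _) (by decide +kernel)

theorem a_1_step0 : Step 30 a_E2 a_G1 a_1_ts (2 * 0 + 1) :=
  step_of_cover a_E2_ok a_1_dist (by decide +kernel) a_1_scs (by decide +kernel) a_1_good0_0 (kw := [nat_lit 7, nat_lit 9, nat_lit 11])
    (conj_mem_of_scs a_E2_ok a_G1_ok (by decide : 0 < 30) a_1_scs (c := 0) (d := 11) (by decide +kernel)) (by decide +kernel)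

theorem a_1_lev : grp 30 a_G1 ⊓ MulAction.stabilizer (Equiv.Perm (Fin 30)) (⟨0, by decide⟩ : Fin 30) = grp 30 a_E2 :=
  sims_level (gs := a_V16) rfl (by decide) a_1_fix a_1_dist (forall_lt_one a_1_step0)

theorem a_1_cardG : Nat.card (grp 30 a_G1) = 6048 :=
  card_of_level a_hn a_G1_ok (by decide : 0 < 30) a_1_lev a_card2 (m := 28) (by decide +kernel)

theorem a_le36 : grp 30 a_E1 ≤ grp 30 a_G1 :=
  grp_le_of_memB a_hn a_hk a_G1_ok a_E1_ok (ws := [nat_lit 1, nat_lit 0xd0306020e, nat_lit 0xd040e0104, nat_lit 3, nat_lit 5, nat_lit 7, nat_lit 9, nat_lit 11, nat_lit 13]) (by decide +kernel)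

theorem a_le37 : grp 30 a_G1 ≤ grp 30 a_E1 :=
  grp_le_of_memB a_hn a_hk a_E1_ok a_G1_ok (ws := [nat_lit 1, nat_lit 7, nat_lit 9, nat_lit 11, nat_lit 13, nat_lit 15, nat_lit 17]) (by decide +kernel)

theorem a_1_eq : grp 30 a_E1 = grp 30 a_G1 :=
  le_antisymm a_le36 a_le37

theorem a_card1 : Nat.card (grp 30 a_E1) = 6048 :=
  by rw [a_1_eq]; exact a_1_cardG

theorem a_stab1 : grp 30 a_E1 ⊓ MulAction.stabilizer (Equiv.Perm (Fin 30)) (⟨0, by decide⟩ : Fin 30) = grp 30 a_E2 :=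
  by rw [a_1_eq]; exact a_1_lev

theorem a_leO1 : grp 30 a_E1 ≤ grp 30 a_O :=
  a_1_eq.le.trans (grp_cons_le ((a_le14.trans (le_refl (grp 30 a_O))) (a_le17 (toPerm_mem_grp (E := a_V16) (by simp [a_V16])))) a_leO2)

theorem a_0_fix : grp 30 a_E1 ≤ MulAction.stabilizer (Equiv.Perm (Fin 30)) (⟨28, by decide⟩ : Fin 30) :=
  grp_le_stab a_E1_ok (by decide : 28 < 30) (by decide +kernel)

noncomputable def a_0_ts : List ℕ := [nat_lit 0, nat_lit 1]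

noncomputable def a_0_ds : List ℕ := [nat_lit 28, nat_lit 29]

theorem a_0_dist : Dist 30 a_E1 a_G0 (⟨28, by decide⟩ : Fin 30) a_0_ts a_0_ds :=
  dist_of_distB (k := 1) a_hn a_E1_ok a_G0_ok (by decide : 28 < 30) (by decide +kernel)

noncomputable def a_0_sl0 : SL := (SL.cons (nat_lit 1) (nat_lit 29) (Ch.cons (nat_lit 0) [nat_lit 0x12080c03] (Ch.cons (nat_lit 1) [nat_lit 0x120808] (Ch.cons (nat_lit 4) [nat_lit 0x12080d] Ch.nil))) [nat_lit 0x120b0307, nat_lit 0xd0d070e04, nat_lit 0xd1208080302] SL.nil)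

theorem a_0_sc0 : SCs 30 a_E1 a_G0 (⟨28, by decide⟩ : Fin 30) (SL.words a_0_sl0) :=
  scs_of_ok a_hn (det_lab a_hk ⊤) a_E1_ok a_G0_ok le_top le_top (by decide : 28 < 30) a_0_fix a_card1.le (by decide +kernel)

noncomputable def a_0_l : List ℕ := (appL (SL.words a_0_sl0) [])

theorem a_0_scs : SCs 30 a_E1 a_G0 (⟨28, by decide⟩ : Fin 30) a_0_l :=
  (SCs.append a_0_sc0 SCs.nil)

noncomputable def a_0_rl0_0 : RL := (RL.cons (nat_lit 0) (nat_lit 28) (nat_lit 0) (nat_lit 0) (nat_lit 1) (nat_lit 0) (RL.cons (nat_lit 1) (nat_lit 29) (nat_lit 0) (nat_lit 0) (nat_lit 0) (nat_lit 0) RL.nil))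

theorem a_0_good0_0 : GoodSet 30 a_E1 a_G0 (⟨28, by decide⟩ : Fin 30) a_0_ts (nat_lit 1) (RL.pts a_0_rl0_0) :=
  goodSet_of_ok a_hn (det_lab a_hk ⊤) a_E1_ok a_G0_ok le_top le_top (by decide : 28 < 30) (sepAt_lab a_hk _) (by decide +kernel)

theorem a_0_step0 : Step 30 a_E1 a_G0 a_0_ts (2 * 0 + 1) :=
  step_of_cover a_E1_ok a_0_dist (by decide +kernel) a_0_scs (by decide +kernel) a_0_good0_0 (kw := [nat_lit 0x12080c03, nat_lit 0x120808, nat_lit 0x12080d])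
    (conj_mem_of_scs a_E1_ok a_G0_ok (by decide : 28 < 30) a_0_scs (c := 0) (d := 29) (by decide +kernel)) (by decide +kernel)

theorem a_0_lev : grp 30 a_G0 ⊓ MulAction.stabilizer (Equiv.Perm (Fin 30)) (⟨28, by decide⟩ : Fin 30) = grp 30 a_E1 :=
  sims_level (gs := a_V9) rfl (by decide) a_0_fix a_0_dist (forall_lt_one a_0_step0)

theorem a_0_cardG : Nat.card (grp 30 a_G0) = 12096 :=
  card_of_level a_hn a_G0_ok (by decide : 28 < 30) a_0_lev a_card1 (m := 2) (by decide +kernel)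

theorem a_le38 : grp 30 a_E0 ≤ grp 30 a_G0 :=
  grp_le_of_memB a_hn a_hk a_G0_ok a_E0_ok (ws := [nat_lit 1, nat_lit 0x140a0f030e, nat_lit 0xf140b09, nat_lit 263937, nat_lit 0xf130a13040b, nat_lit 0x140a13050d01, nat_lit 0x130c0f050d, nat_lit 0xd0a050901, nat_lit 3, nat_lit 5, nat_lit 7, nat_lit 9, nat_lit 11, nat_lit 13, nat_lit 15, nat_lit 17, nat_lit 19]) (by decide +kernel)

theorem a_le39 : grp 30 a_G0 ≤ grp 30 a_E0 :=
  grp_le_of_memB a_hn a_hk a_E0_ok a_G0_ok (ws := [nat_lit 1, nat_lit 17, nat_lit 19, nat_lit 21, nat_lit 23, nat_lit 25, nat_lit 27, nat_lit 29, nat_lit 31, nat_lit 33]) (by decide +kernel)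

theorem a_0_eq : grp 30 a_E0 = grp 30 a_G0 :=
  le_antisymm a_le38 a_le39

theorem a_card0 : Nat.card (grp 30 a_E0) = 12096 :=
  by rw [a_0_eq]; exact a_0_cardG

theorem a_stab0 : grp 30 a_E0 ⊓ MulAction.stabilizer (Equiv.Perm (Fin 30)) (⟨28, by decide⟩ : Fin 30) = grp 30 a_E1 :=
  by rw [a_0_eq]; exact a_0_lev

theorem a_leO0 : grp 30 a_E0 ≤ grp 30 a_O :=
  a_0_eq.le.trans (grp_cons_le ((le_refl (grp 30 a_O)) (a_le10 (toPerm_mem_grp (E := a_V9) (by simp [a_V9])))) a_leO1)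

theorem a_le40 : grp 30 a_O ≤ grp 30 a_E0 :=
  grp_le_of_memB a_hn a_hk a_E0_ok a_O_ok (ws := [nat_lit 3, nat_lit 5, nat_lit 1, nat_lit 7, nat_lit 9, nat_lit 11, nat_lit 13, nat_lit 15]) (by decide +kernel)

theorem a_eq : grp 30 a_O = grp 30 a_E0 :=
  le_antisymm a_le40 a_leO0

theorem a_card : Nat.card (grp 30 a_O) = 12096 :=
  by rw [a_eq]; exact a_card0

noncomputable def a_ch : Ch := (Ch.cons (nat_lit 28) [nat_lit 1, nat_lit 3, nat_lit 5, nat_lit 7, nat_lit 9, nat_lit 11, nat_lit 13, nat_lit 15] (Ch.cons (nat_lit 0) [nat_lit 17, nat_lit 19, nat_lit 21] (Ch.cons (nat_lit 11) [nat_lit 23, nat_lit 25, nat_lit 27] (Ch.cons (nat_lit 1) [nat_lit 29, nat_lit 31, nat_lit 33] Ch.nil))))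

theorem a_exact : Ch.Exact 30 a_E0 a_ch (grp 30 a_E0) :=
  Ch.exact (k := 5) (L := (lab 30 5)) a_hn a_E0_ok (by decide +kernel) (wgrp_le_grp _ _ _) a_card0.le

theorem raw0 : Raw2 0 :=
  raw 805306368 28 a_hn a_hk a_O_ok a_card (by decide) (by decide +kernel) (by decide +kernel)
    (by decide +kernel) (by decide +kernel) (fun _ => by decide +kernel)

theorem b_hn : NOk 30 := by decide

theorem b_hk : 30 ≤ 2 ^ 5 := by decide

noncomputable def b_g1 : Net := (Net.cons (nat_lit 1) (nat_lit 0x400504) (Net.cons (nat_lit 2) (nat_lit 0x2002000) (Net.cons (nat_lit 4) (nat_lit 768) (Net.cons (nat_lit 8) (nat_lit 0x200000) (Net.cons (nat_lit 16) (nat_lit 11203) (Net.cons (nat_lit 8) (nat_lit 0x2100b5) (Net.cons (nat_lit 4) (nat_lit 459266) (Net.cons (nat_lit 2) (nat_lit 0x2112020) (Net.cons (nat_lit 1) (nat_lit 70740) Net.nil)))))))))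

theorem b_g1_ok : Net.ok 30 b_g1 = true := by decide +kernel

noncomputable def b_g2 : Net := (Net.cons (nat_lit 1) (nat_lit 0x541000) (Net.cons (nat_lit 2) (nat_lit 0x222030) (Net.cons (nat_lit 4) (nat_lit 134656) (Net.cons (nat_lit 8) (nat_lit 131264) (Net.cons (nat_lit 16) (nat_lit 250) (Net.cons (nat_lit 8) (nat_lit 393268) (Net.cons (nat_lit 4) (nat_lit 591624) (Net.cons (nat_lit 2) (nat_lit 0x302300) (Net.cons (nat_lit 1) (nat_lit 0x10150150) Net.nil)))))))))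

theorem b_g2_ok : Net.ok 30 b_g2 = true := by decide +kernel

noncomputable def b_g3 : Net := (Net.cons (nat_lit 1) (nat_lit 0x5140000) (Net.cons (nat_lit 2) (nat_lit 0x3012000) (Net.cons (nat_lit 4) (nat_lit 1536) (Net.cons (nat_lit 8) (nat_lit 0x130040) (Net.cons (nat_lit 16) (nat_lit 5446) (Net.cons (nat_lit 8) (nat_lit 0x13004f) (Net.cons (nat_lit 4) (nat_lit 722688) (Net.cons (nat_lit 2) (nat_lit 0x323101) (Net.cons (nat_lit 1) (nat_lit 0x10144041) Net.nil)))))))))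

theorem b_g3_ok : Net.ok 30 b_g3 = true := by decide +kernel

noncomputable def b_g4 : Net := (Net.cons (nat_lit 1) (nat_lit 0x5011000) (Net.cons (nat_lit 2) (nat_lit 0x3123200) (Net.cons (nat_lit 4) (nat_lit 0x2050000) (Net.cons (nat_lit 8) (nat_lit 0x180000) (Net.cons (nat_lit 16) (nat_lit 14694) (Net.cons (nat_lit 8) (nat_lit 0x1d007a) (Net.cons (nat_lit 4) (nat_lit 0x2050f06) (Net.cons (nat_lit 2) (nat_lit 0x2013112) (Net.cons (nat_lit 1) (nat_lit 0x11154514) Net.nil)))))))))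

theorem b_g4_ok : Net.ok 30 b_g4 = true := by decide +kernel

noncomputable def b_g5 : Net := (Net.cons (nat_lit 1) (nat_lit 0x145440) (Net.cons (nat_lit 2) (nat_lit 0x3012120) (Net.cons (nat_lit 4) (nat_lit 0x3050a0c) (Net.cons (nat_lit 8) (nat_lit 0x2000c0) (Net.cons (nat_lit 16) (nat_lit 3303) (Net.cons (nat_lit 8) (nat_lit 0x340017) (Net.cons (nat_lit 4) (nat_lit 0x3050a0c) (Net.cons (nat_lit 2) (nat_lit 0x3112023) (Net.cons (nat_lit 1) (nat_lit 0x551045) Net.nil)))))))))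

theorem b_g5_ok : Net.ok 30 b_g5 = true := by decide +kernel

noncomputable def b_g6 : Net := (Net.cons (nat_lit 1) (nat_lit 0x5454500) (Net.cons (nat_lit 2) (nat_lit 272) (Net.cons (nat_lit 4) (nat_lit 854016) (Net.cons (nat_lit 8) (nat_lit 262144) (Net.cons (nat_lit 16) (nat_lit 1699) (Net.cons (nat_lit 8) (nat_lit 262173) (Net.cons (nat_lit 4) (nat_lit 394240) (Net.cons (nat_lit 2) (nat_lit 0x1320031) (Net.cons (nat_lit 1) (nat_lit 0x15040105) Net.nil)))))))))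

theorem b_g6_ok : Net.ok 30 b_g6 = true := by decide +kernel

noncomputable def b_g7 : Net := (Net.cons (nat_lit 1) (nat_lit 0x415550) (Net.cons (nat_lit 2) (nat_lit 0x2120130) (Net.cons (nat_lit 4) (nat_lit 0x2060000) (Net.cons (nat_lit 8) (nat_lit 0x210080) (Net.cons (nat_lit 16) (nat_lit 11477) (Net.cons (nat_lit 8) (nat_lit 589958) (Net.cons (nat_lit 4) (nat_lit 0x20c0607) (Net.cons (nat_lit 2) (nat_lit 0x102130) (Net.cons (nat_lit 1) (nat_lit 0x10441450) Net.nil)))))))))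

theorem b_g7_ok : Net.ok 30 b_g7 = true := by decide +kernel

noncomputable def b_g8 : Net := (Net.cons (nat_lit 1) (nat_lit 0x4044044) (Net.cons (nat_lit 2) (nat_lit 0x1012100) (Net.cons (nat_lit 4) (nat_lit 0x2000204) (Net.cons (nat_lit 8) (nat_lit 131136) (Net.cons (nat_lit 16) (nat_lit 3060) (Net.cons (nat_lit 8) (nat_lit 0x2700a1) (Net.cons (nat_lit 4) (nat_lit 0x2000a02) (Net.cons (nat_lit 2) (nat_lit 0x1130010) (Net.cons (nat_lit 1) (nat_lit 0x11505405) Net.nil)))))))))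

theorem b_g8_ok : Net.ok 30 b_g8 = true := by decide +kernel

noncomputable def b_O : List Net := [b_g1, b_g2, b_g3, b_g4, b_g5, b_g6, b_g7, b_g8]

theorem b_O_ok : okE 30 b_O = true := (okE_cons.2 ⟨b_g1_ok, (okE_cons.2 ⟨b_g2_ok, (okE_cons.2 ⟨b_g3_ok, (okE_cons.2 ⟨b_g4_ok, (okE_cons.2 ⟨b_g5_ok, (okE_cons.2 ⟨b_g6_ok, (okE_cons.2 ⟨b_g7_ok, (okE_cons.2 ⟨b_g8_ok, (okE_nil 30)⟩)⟩)⟩)⟩)⟩)⟩)⟩)⟩)

noncomputable def b_V9 : List Net := [b_g2]

theorem b_V9_ok : okE 30 b_V9 = true := (okE_cons.2 ⟨b_g2_ok, (okE_nil 30)⟩)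

noncomputable def b_g11 : Net := (Net.cons (nat_lit 1) (nat_lit 0x4004400) (Net.cons (nat_lit 2) (nat_lit 0x3300000) (Net.cons (nat_lit 4) (nat_lit 0x10c0008) (Net.cons (nat_lit 8) (nat_lit 786432) (Net.cons (nat_lit 16) (nat_lit 255) (Net.cons (nat_lit 8) (nat_lit 0x1800ff) (Net.cons (nat_lit 4) (nat_lit 0x108030f) (Net.cons (nat_lit 2) (nat_lit 0x2220321) (Net.cons (nat_lit 1) (nat_lit 0x4145405) Net.nil)))))))))

theorem b_g11_ok : Net.ok 30 b_g11 = true := by decide +kernel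

noncomputable def b_g12 : Net := (Net.cons (nat_lit 1) (nat_lit 0x4155000) (Net.cons (nat_lit 2) (nat_lit 0x3123020) (Net.cons (nat_lit 4) (nat_lit 0x30c0c08) (Net.cons (nat_lit 8) (nat_lit 524288) (Net.cons (nat_lit 16) (nat_lit 12442) (Net.cons (nat_lit 8) (nat_lit 0x2c005a) (Net.cons (nat_lit 4) (nat_lit 0x3050f06) (Net.cons (nat_lit 2) (nat_lit 131376) (Net.cons (nat_lit 1) (nat_lit 0x515450) Net.nil)))))))))

theorem b_g12_ok : Net.ok 30 b_g12 = true := by decide +kernel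

noncomputable def b_V13 : List Net := [b_g11, b_g12]

theorem b_V13_ok : okE 30 b_V13 = true := (okE_cons.2 ⟨b_g11_ok, (okE_cons.2 ⟨b_g12_ok, (okE_nil 30)⟩)⟩)

noncomputable def b_g15 : Net := (Net.cons (nat_lit 1) (nat_lit 0x1040050) (Net.cons (nat_lit 2) (nat_lit 0x3213130) (Net.cons (nat_lit 4) (nat_lit 0x1020a00) (Net.cons (nat_lit 8) (nat_lit 0x320000) (Net.cons (nat_lit 16) (nat_lit 9299) (Net.cons (nat_lit 8) (nat_lit 0x300019) (Net.cons (nat_lit 4) (nat_lit 0x1070702) (Net.cons (nat_lit 2) (nat_lit 0x2231232) (Net.cons (nat_lit 1) (nat_lit 0x1551055) Net.nil)))))))))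

theorem b_g15_ok : Net.ok 30 b_g15 = true := by decide +kernel

noncomputable def b_V16 : List Net := [b_g15]

theorem b_V16_ok : okE 30 b_V16 = true := (okE_cons.2 ⟨b_g15_ok, (okE_nil 30)⟩)

noncomputable def b_g18 : Net := (Net.cons (nat_lit 1) (nat_lit 0x5140000) (Net.cons (nat_lit 2) (nat_lit 0x2221010) (Net.cons (nat_lit 4) (nat_lit 919040) (Net.cons (nat_lit 8) (nat_lit 524288) (Net.cons (nat_lit 16) (nat_lit 1708) (Net.cons (nat_lit 8) (nat_lit 721066) (Net.cons (nat_lit 4) (nat_lit 853774) (Net.cons (nat_lit 2) (nat_lit 0x2302032) (Net.cons (nat_lit 1) (nat_lit 0x4445450) Net.nil)))))))))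

theorem b_g18_ok : Net.ok 30 b_g18 = true := by decide +kernel

noncomputable def b_g19 : Net := (Net.cons (nat_lit 1) (nat_lit 0x540150) (Net.cons (nat_lit 2) (nat_lit 0x222130) (Net.cons (nat_lit 4) (nat_lit 0x1010208) (Net.cons (nat_lit 8) (nat_lit 458880) (Net.cons (nat_lit 16) (nat_lit 6630) (Net.cons (nat_lit 8) (nat_lit 721008) (Net.cons (nat_lit 4) (nat_lit 0x10a050c) (Net.cons (nat_lit 2) (nat_lit 0x3313310) (Net.cons (nat_lit 1) (nat_lit 0x5004514) Net.nil)))))))))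

theorem b_g19_ok : Net.ok 30 b_g19 = true := by decide +kernel

noncomputable def b_V20 : List Net := [b_g18, b_g19]

theorem b_V20_ok : okE 30 b_V20 = true := (okE_cons.2 ⟨b_g18_ok, (okE_cons.2 ⟨b_g19_ok, (okE_nil 30)⟩)⟩)

noncomputable def b_g22 : Net := (Net.cons (nat_lit 1) (nat_lit 0x5114150) (Net.cons (nat_lit 2) (nat_lit 0x1102120) (Net.cons (nat_lit 4) (nat_lit 0x20f0504) (Net.cons (nat_lit 8) (nat_lit 262144) (Net.cons (nat_lit 16) (nat_lit 9370) (Net.cons (nat_lit 8) (nat_lit 65686) (Net.cons (nat_lit 4) (nat_lit 0x2030100) (Net.cons (nat_lit 2) (nat_lit 0x3202212) (Net.cons (nat_lit 1) (nat_lit 0x1500150) Net.nil)))))))))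

theorem b_g22_ok : Net.ok 30 b_g22 = true := by decide +kernel

noncomputable def b_V23 : List Net := [b_g22]

theorem b_V23_ok : okE 30 b_V23 = true := (okE_cons.2 ⟨b_g22_ok, (okE_nil 30)⟩)

noncomputable def b_g25 : Net := (Net.cons (nat_lit 1) (nat_lit 348160) (Net.cons (nat_lit 2) (nat_lit 0x1311220) (Net.cons (nat_lit 4) (nat_lit 0x1000600) (Net.cons (nat_lit 8) (nat_lit 0x230000) (Net.cons (nat_lit 16) (nat_lit 13658) (Net.cons (nat_lit 8) (nat_lit 0x250080) (Net.cons (nat_lit 4) (nat_lit 0x1030f0c) (Net.cons (nat_lit 2) (nat_lit 0x3302112) (Net.cons (nat_lit 1) (nat_lit 0x1400550) Net.nil)))))))))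

theorem b_g25_ok : Net.ok 30 b_g25 = true := by decide +kernel

noncomputable def b_g26 : Net := (Net.cons (nat_lit 1) (nat_lit 0x1141000) (Net.cons (nat_lit 2) (nat_lit 0x2210000) (Net.cons (nat_lit 4) (nat_lit 0x1030204) (Net.cons (nat_lit 8) (nat_lit 0x200040) (Net.cons (nat_lit 16) (nat_lit 10960) (Net.cons (nat_lit 8) (nat_lit 0x340038) (Net.cons (nat_lit 4) (nat_lit 0x10b0e02) (Net.cons (nat_lit 2) (nat_lit 0x3233032) (Net.cons (nat_lit 1) (nat_lit 0x4155000) Net.nil)))))))))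

theorem b_g26_ok : Net.ok 30 b_g26 = true := by decide +kernel

noncomputable def b_V27 : List Net := [b_g25, b_g26]

theorem b_V27_ok : okE 30 b_V27 = true := (okE_cons.2 ⟨b_g25_ok, (okE_cons.2 ⟨b_g26_ok, (okE_nil 30)⟩)⟩)

noncomputable def b_g29 : Net := (Net.cons (nat_lit 1) (nat_lit 0x1055014) (Net.cons (nat_lit 2) (nat_lit 0x1302210) (Net.cons (nat_lit 4) (nat_lit 0x1000c00) (Net.cons (nat_lit 8) (nat_lit 0x230040) (Net.cons (nat_lit 16) (nat_lit 10570) (Net.cons (nat_lit 8) (nat_lit 0x3300dc) (Net.cons (nat_lit 4) (nat_lit 0x103030a) (Net.cons (nat_lit 2) (nat_lit 0x2311000) (Net.cons (nat_lit 1) (nat_lit 0x455514) Net.nil)))))))))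

theorem b_g29_ok : Net.ok 30 b_g29 = true := by decide +kernel

noncomputable def b_V30 : List Net := [b_g29]

theorem b_V30_ok : okE 30 b_V30 = true := (okE_cons.2 ⟨b_g29_ok, (okE_nil 30)⟩)

noncomputable def b_E4 : List Net := []

theorem b_E4_ok : okE 30 b_E4 = true := (okE_nil 30)

noncomputable def b_G3 : List Net := [b_g29]

theorem b_G3_ok : okE 30 b_G3 = true := (okE_cons.2 ⟨b_g29_ok, (okE_nil 30)⟩)

noncomputable def b_E3 : List Net := [b_g29, b_g25, b_g26]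

theorem b_E3_ok : okE 30 b_E3 = true := (okE_cons.2 ⟨b_g29_ok, (okE_cons.2 ⟨b_g25_ok, (okE_cons.2 ⟨b_g26_ok, (okE_nil 30)⟩)⟩)⟩)

noncomputable def b_G2 : List Net := [b_g22, b_g29, b_g25, b_g26]

theorem b_G2_ok : okE 30 b_G2 = true := (okE_cons.2 ⟨b_g22_ok, (okE_cons.2 ⟨b_g29_ok, (okE_cons.2 ⟨b_g25_ok, (okE_cons.2 ⟨b_g26_ok, (okE_nil 30)⟩)⟩)⟩)⟩)

noncomputable def b_E2 : List Net := [b_g22, b_g18, b_g19, b_g29, b_g25, b_g26]

theorem b_E2_ok : okE 30 b_E2 = true := (okE_cons.2 ⟨b_g22_ok, (okE_cons.2 ⟨b_g18_ok, (okE_cons.2 ⟨b_g19_ok, (okE_cons.2 ⟨b_g29_ok, (okE_cons.2 ⟨b_g25_ok, (okE_cons.2 ⟨b_g26_ok, (okE_nil 30)⟩)⟩)⟩)⟩)⟩)⟩)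

noncomputable def b_G1 : List Net := [b_g15, b_g22, b_g18, b_g19, b_g29, b_g25, b_g26]

theorem b_G1_ok : okE 30 b_G1 = true := (okE_cons.2 ⟨b_g15_ok, (okE_cons.2 ⟨b_g22_ok, (okE_cons.2 ⟨b_g18_ok, (okE_cons.2 ⟨b_g19_ok, (okE_cons.2 ⟨b_g29_ok, (okE_cons.2 ⟨b_g25_ok, (okE_cons.2 ⟨b_g26_ok, (okE_nil 30)⟩)⟩)⟩)⟩)⟩)⟩)⟩)

noncomputable def b_E1 : List Net := [b_g15, b_g11, b_g12, b_g22, b_g18, b_g19, b_g29, b_g25, b_g26]

theorem b_E1_ok : okE 30 b_E1 = true := (okE_cons.2 ⟨b_g15_ok, (okE_cons.2 ⟨b_g11_ok, (okE_cons.2 ⟨b_g12_ok, (okE_cons.2 ⟨b_g22_ok, (okE_cons.2 ⟨b_g18_ok, (okE_cons.2 ⟨b_g19_ok, (okE_cons.2 ⟨b_g29_ok, (okE_cons.2 ⟨b_g25_ok, (okE_cons.2 ⟨b_g26_ok, (okE_nil 30)⟩)⟩)⟩)⟩)⟩)⟩)⟩)⟩)⟩)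

noncomputable def b_G0 : List Net := [b_g2, b_g15, b_g11, b_g12, b_g22, b_g18, b_g19, b_g29, b_g25, b_g26]

theorem b_G0_ok : okE 30 b_G0 = true := (okE_cons.2 ⟨b_g2_ok, (okE_cons.2 ⟨b_g15_ok, (okE_cons.2 ⟨b_g11_ok, (okE_cons.2 ⟨b_g12_ok, (okE_cons.2 ⟨b_g22_ok, (okE_cons.2 ⟨b_g18_ok, (okE_cons.2 ⟨b_g19_ok, (okE_cons.2 ⟨b_g29_ok, (okE_cons.2 ⟨b_g25_ok, (okE_cons.2 ⟨b_g26_ok, (okE_nil 30)⟩)⟩)⟩)⟩)⟩)⟩)⟩)⟩)⟩)⟩)

noncomputable def b_E0 : List Net := [b_g2, b_g1, b_g3, b_g4, b_g5, b_g6, b_g7, b_g8, b_g15, b_g11, b_g12, b_g22, b_g18, b_g19, b_g29, b_g25, b_g26]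

theorem b_E0_ok : okE 30 b_E0 = true := (okE_cons.2 ⟨b_g2_ok, (okE_cons.2 ⟨b_g1_ok, (okE_cons.2 ⟨b_g3_ok, (okE_cons.2 ⟨b_g4_ok, (okE_cons.2 ⟨b_g5_ok, (okE_cons.2 ⟨b_g6_ok, (okE_cons.2 ⟨b_g7_ok, (okE_cons.2 ⟨b_g8_ok, (okE_cons.2 ⟨b_g15_ok, (okE_cons.2 ⟨b_g11_ok, (okE_cons.2 ⟨b_g12_ok, (okE_cons.2 ⟨b_g22_ok, (okE_cons.2 ⟨b_g18_ok, (okE_cons.2 ⟨b_g19_ok, (okE_cons.2 ⟨b_g29_ok, (okE_cons.2 ⟨b_g25_ok, (okE_cons.2 ⟨b_g26_ok, (okE_nil 30)⟩)⟩)⟩)⟩)⟩)⟩)⟩)⟩)⟩)⟩)⟩)⟩)⟩)⟩)⟩)⟩)⟩)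

theorem b_le10 : grp 30 b_V9 ≤ grp 30 b_O :=
  grp_le_of_memB b_hn b_hk b_O_ok b_V9_ok (ws := [nat_lit 3]) (by decide +kernel)

theorem b_le14 : grp 30 b_V13 ≤ grp 30 b_O :=
  grp_le_of_memB b_hn b_hk b_O_ok b_V13_ok (ws := [nat_lit 0xf0c0a010b08, nat_lit 0x20f0c0a0d040804]) (by decide +kernel)

theorem b_le17 : grp 30 b_V16 ≤ grp 30 b_V13 :=
  grp_le_of_memB b_hn b_hk b_V13_ok b_V16_ok (ws := [nat_lit 0x1030303]) (by decide +kernel)

theorem b_le21 : grp 30 b_V20 ≤ grp 30 b_V13 :=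
  grp_le_of_memB b_hn b_hk b_V13_ok b_V20_ok (ws := [nat_lit 0x1010303020402, nat_lit 0x1040101030303020401]) (by decide +kernel)

theorem b_le24 : grp 30 b_V23 ≤ grp 30 b_V20 :=
  grp_le_of_memB b_hn b_hk b_V20_ok b_V23_ok (ws := [nat_lit 260]) (by decide +kernel)

theorem b_le28 : grp 30 b_V27 ≤ grp 30 b_V20 :=
  grp_le_of_memB b_hn b_hk b_V20_ok b_V27_ok (ws := [nat_lit 0x203020203, nat_lit 0x303020401010104]) (by decide +kernel)

theorem b_le31 : grp 30 b_V30 ≤ grp 30 b_V27 :=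
  grp_le_of_memB b_hn b_hk b_V27_ok b_V30_ok (ws := [nat_lit 516]) (by decide +kernel)

theorem b_card4 : Nat.card (grp 30 b_E4) = 1 :=
  card_grp_nil 30

theorem b_leO4 : grp 30 b_E4 ≤ grp 30 b_O :=
  grp_nil_le _

theorem b_3_fix : grp 30 b_E4 ≤ MulAction.stabilizer (Equiv.Perm (Fin 30)) (⟨1, by decide⟩ : Fin 30) :=
  grp_le_stab b_E4_ok (by decide : 1 < 30) (by decide +kernel)

noncomputable def b_3_ts : List ℕ := [nat_lit 0, nat_lit 1, nat_lit 2, nat_lit 257, nat_lit 514, nat_lit 65793, nat_lit 131586, nat_lit 0x1010101]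

noncomputable def b_3_ds : List ℕ := [nat_lit 1, nat_lit 27, nat_lit 4, nat_lit 7, nat_lit 24, nat_lit 14, nat_lit 22, nat_lit 16]

theorem b_3_dist : Dist 30 b_E4 b_G3 (⟨1, by decide⟩ : Fin 30) b_3_ts b_3_ds :=
  dist_of_distB (k := 3) b_hn b_E4_ok b_G3_ok (by decide : 1 < 30) (by decide +kernel)

noncomputable def b_3_sl0 : SL := (SL.cons (nat_lit 1) (nat_lit 27) Ch.nil [] (SL.cons (nat_lit 2) (nat_lit 4) Ch.nil [] (SL.cons (nat_lit 257) (nat_lit 7) Ch.nil [] (SL.cons (nat_lit 514) (nat_lit 24) Ch.nil [] (SL.cons (nat_lit 65793) (nat_lit 14) Ch.nil [] (SL.cons (nat_lit 131586) (nat_lit 22) Ch.nil [] (SL.cons (nat_lit 0x1010101) (nat_lit 16) Ch.nil [] SL.nil)))))))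

theorem b_3_sc0 : SCs 30 b_E4 b_G3 (⟨1, by decide⟩ : Fin 30) (SL.words b_3_sl0) :=
  scs_of_ok b_hn (det_lab b_hk ⊤) b_E4_ok b_G3_ok le_top le_top (by decide : 1 < 30) b_3_fix b_card4.le (by decide +kernel)

noncomputable def b_3_l : List ℕ := (appL (SL.words b_3_sl0) [])

theorem b_3_scs : SCs 30 b_E4 b_G3 (⟨1, by decide⟩ : Fin 30) b_3_l :=
  (SCs.append b_3_sc0 SCs.nil)

noncomputable def b_3_rl0_0 : RL := (RL.cons (nat_lit 0) (nat_lit 1) (nat_lit 0) (nat_lit 0) (nat_lit 2) (nat_lit 0) (RL.cons (nat_lit 1) (nat_lit 27) (nat_lit 0) (nat_lit 0) (nat_lit 0) (nat_lit 0) (RL.cons (nat_lit 2) (nat_lit 4) (nat_lit 0) (nat_lit 0) (nat_lit 4) (nat_lit 0) (RL.cons (nat_lit 3) (nat_lit 7) (nat_lit 0) (nat_lit 0) (nat_lit 1) (nat_lit 0) (RL.cons (nat_lit 4) (nat_lit 24) (nat_lit 0) (nat_lit 0) (nat_lit 6) (nat_lit 0) (RL.cons (nat_lit 5) (nat_lit 14) (nat_lit 0) (nat_lit 0) (nat_lit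 3) (nat_lit 0) (RL.cons (nat_lit 6) (nat_lit 22) (nat_lit 0) (nat_lit 0) (nat_lit 7) (nat_lit 0) (RL.cons (nat_lit 7) (nat_lit 16) (nat_lit 0) (nat_lit 0) (nat_lit 5) (nat_lit 0) RL.nil))))))))

theorem b_3_good0_0 : GoodSet 30 b_E4 b_G3 (⟨1, by decide⟩ : Fin 30) b_3_ts (nat_lit 1) (RL.pts b_3_rl0_0) :=
  goodSet_of_ok b_hn (det_lab b_hk ⊤) b_E4_ok b_G3_ok le_top le_top (by decide : 1 < 30) (sepAt_lab b_hk _) (by decide +kernel)

theorem b_3_step0 : Step 30 b_E4 b_G3 b_3_ts (2 * 0 + 1) :=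
  step_of_cover b_E4_ok b_3_dist (by decide +kernel) b_3_scs (by decide +kernel) b_3_good0_0 (kw := [])
    (conj_mem_of_scs b_E4_ok b_G3_ok (by decide : 1 < 30) b_3_scs (c := 0) (d := 27) (by decide +kernel)) (by decide +kernel)

theorem b_3_lev : grp 30 b_G3 ⊓ MulAction.stabilizer (Equiv.Perm (Fin 30)) (⟨1, by decide⟩ : Fin 30) = grp 30 b_E4 :=
  sims_level (gs := b_V30) rfl (by decide) b_3_fix b_3_dist (forall_lt_one b_3_step0)

theorem b_3_cardG : Nat.card (grp 30 b_G3) = 8 :=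
  card_of_level b_hn b_G3_ok (by decide : 1 < 30) b_3_lev b_card4 (m := 8) (by decide +kernel)

theorem b_le32 : grp 30 b_E3 ≤ grp 30 b_G3 :=
  grp_le_of_memB b_hn b_hk b_G3_ok b_E3_ok (ws := [nat_lit 1, nat_lit 131586, nat_lit 257]) (by decide +kernel)

theorem b_le33 : grp 30 b_G3 ≤ grp 30 b_E3 :=
  grp_le_of_memB b_hn b_hk b_E3_ok b_G3_ok (ws := [nat_lit 1]) (by decide +kernel)

theorem b_3_eq : grp 30 b_E3 = grp 30 b_G3 :=
  le_antisymm b_le32 b_le33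

theorem b_card3 : Nat.card (grp 30 b_E3) = 8 :=
  by rw [b_3_eq]; exact b_3_cardG

theorem b_stab3 : grp 30 b_E3 ⊓ MulAction.stabilizer (Equiv.Perm (Fin 30)) (⟨1, by decide⟩ : Fin 30) = grp 30 b_E4 :=
  by rw [b_3_eq]; exact b_3_lev

theorem b_leO3 : grp 30 b_E3 ≤ grp 30 b_O :=
  b_3_eq.le.trans (grp_cons_le ((b_le28.trans (b_le21.trans (b_le14.trans (le_refl (grp 30 b_O))))) (b_le31 (toPerm_mem_grp (E := b_V30) (by simp [b_V30])))) b_leO4)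

theorem b_2_fix : grp 30 b_E3 ≤ MulAction.stabilizer (Equiv.Perm (Fin 30)) (⟨21, by decide⟩ : Fin 30) :=
  grp_le_stab b_E3_ok (by decide : 21 < 30) (by decide +kernel)

noncomputable def b_2_ts : List ℕ := [nat_lit 0, nat_lit 1, nat_lit 2, nat_lit 66305, nat_lit 66306]

noncomputable def b_2_ds : List ℕ := [nat_lit 21, nat_lit 2, nat_lit 27, nat_lit 23, nat_lit 25]

theorem b_2_dist : Dist 30 b_E3 b_G2 (⟨21, by decide⟩ : Fin 30) b_2_ts b_2_ds :=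
  dist_of_distB (k := 3) b_hn b_E3_ok b_G2_ok (by decide : 21 < 30) (by decide +kernel)

noncomputable def b_2_sl0 : SL := (SL.cons (nat_lit 1) (nat_lit 2) Ch.nil [] (SL.cons (nat_lit 2) (nat_lit 27) Ch.nil [] (SL.cons (nat_lit 66305) (nat_lit 23) (Ch.cons (nat_lit 1) [nat_lit 5] Ch.nil) [nat_lit 5] (SL.cons (nat_lit 66306) (nat_lit 25) Ch.nil [] SL.nil))))

theorem b_2_sc0 : SCs 30 b_E3 b_G2 (⟨21, by decide⟩ : Fin 30) (SL.words b_2_sl0) :=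
  scs_of_ok b_hn (det_lab b_hk ⊤) b_E3_ok b_G2_ok le_top le_top (by decide : 21 < 30) b_2_fix b_card3.le (by decide +kernel)

noncomputable def b_2_l : List ℕ := (appL (SL.words b_2_sl0) [])

theorem b_2_scs : SCs 30 b_E3 b_G2 (⟨21, by decide⟩ : Fin 30) b_2_l :=
  (SCs.append b_2_sc0 SCs.nil)

noncomputable def b_2_rl0_0 : RL := (RL.cons (nat_lit 0) (nat_lit 21) (nat_lit 0) (nat_lit 0) (nat_lit 2) (nat_lit 0) (RL.cons (nat_lit 1) (nat_lit 2) (nat_lit 0) (nat_lit 0) (nat_lit 0) (nat_lit 0) (RL.cons (nat_lit 1) (nat_lit 18) (nat_lit 1) (nat_lit 0) (nat_lit 4) (nat_lit 0) (RL.cons (nat_lit 1) (nat_lit 9) (nat_lit 2) (nat_lit 4) (nat_lit 4) (nat_lit 4) (RL.cons (nat_lit 1) (nat_lit 5) (nat_lit 3) (nat_lit 0) (nat_lit 1) (nat_lit 5) (RL.cons (nat_lit 1) (nat_lit 20) (nat_lit 4) (nat_lit 6) (nat_lit 2) (nat_lit 0) (RL.cons (nat_lit 1) (nat_lit 10) (nat_lit 5) (nat_lit 1) (nat_lit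 2) (nat_lit 260) (RL.cons (nat_lit 1) (nat_lit 6) (nat_lit 6) (nat_lit 260) (nat_lit 1) (nat_lit 2) (RL.cons (nat_lit 1) (nat_lit 13) (nat_lit 260) (nat_lit 5) (nat_lit 4) (nat_lit 1) (RL.cons (nat_lit 2) (nat_lit 27) (nat_lit 0) (nat_lit 5) (nat_lit 2) (nat_lit 4) (RL.cons (nat_lit 2) (nat_lit 7) (nat_lit 1) (nat_lit 5) (nat_lit 1) (nat_lit 6) (RL.cons (nat_lit 2) (nat_lit 1) (nat_lit 2) (nat_lit 0) (nat_lit 3) (nat_lit 5) (RL.cons (nat_lit 2) (nat_lit 24) (nat_lit 3) (nat_lit 1) (nat_lit 4) (nat_lit 3) (RL.cons (nat_lit 2) (nat_lit 16) (nat_lit 4) (nat_lit 3) (nat_lit 1) (nat_lit 3) (RL.cons (nat_lit 2) (nat_lit 14) (nat_lit 5) (nat_lit 2) (nat_lit 1) (nat_lit 5) (RL.cons (nat_lit 2) (nat_lit 4) (nat_lit 6) (nat_lit 6) (nat_lit 1) (nat_lit 2) (RL.cons (nat_lit 2) (nat_lit 22) (nat_lit 260) (nat_lit 2) (nat_lit 2) (nat_lit 5) (RL.cons (nat_lit 3) (nat_lit 23) (nat_lit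 0) (nat_lit 1) (nat_lit 1) (nat_lit 0) (RL.cons (nat_lit 3) (nat_lit 8) (nat_lit 1) (nat_lit 6) (nat_lit 4) (nat_lit 6) (RL.cons (nat_lit 4) (nat_lit 25) (nat_lit 0) (nat_lit 260) (nat_lit 4) (nat_lit 1) (RL.cons (nat_lit 4) (nat_lit 26) (nat_lit 1) (nat_lit 260) (nat_lit 2) (nat_lit 6) (RL.cons (nat_lit 4) (nat_lit 12) (nat_lit 2) (nat_lit 2) (nat_lit 4) (nat_lit 3) (RL.cons (nat_lit 4) (nat_lit 3) (nat_lit 3) (nat_lit 1) (nat_lit 3) (nat_lit 4) (RL.cons (nat_lit 4) (nat_lit 17) (nat_lit 4) (nat_lit 4) (nat_lit 2) (nat_lit 1) (RL.cons (nat_lit 4) (nat_lit 19) (nat_lit 5) (nat_lit 3) (nat_lit 4) (nat_lit 5) (RL.cons (nat_lit 4) (nat_lit 11) (nat_lit 6) (nat_lit 4) (nat_lit 1) (nat_lit 6) (RL.cons (nat_lit 4) (nat_lit 15) (nat_lit 260) (nat_lit 3) (nat_lit 2) (nat_lit 0) RL.nil)))))))))))))))))))))))))))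

theorem b_2_good0_0 : GoodSet 30 b_E3 b_G2 (⟨21, by decide⟩ : Fin 30) b_2_ts (nat_lit 1) (RL.pts b_2_rl0_0) :=
  goodSet_of_ok b_hn (det_lab b_hk ⊤) b_E3_ok b_G2_ok le_top le_top (by decide : 21 < 30) (sepAt_lab b_hk _) (by decide +kernel)

theorem b_2_step0 : Step 30 b_E3 b_G2 b_2_ts (2 * 0 + 1) :=
  step_of_cover b_E3_ok b_2_dist (by decide +kernel) b_2_scs (by decide +kernel) b_2_good0_0 (kw := [])
    (conj_mem_of_scs b_E3_ok b_G2_ok (by decide : 21 < 30) b_2_scs (c := 0) (d := 2) (by decide +kernel)) (by decide +kernel)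

theorem b_2_lev : grp 30 b_G2 ⊓ MulAction.stabilizer (Equiv.Perm (Fin 30)) (⟨21, by decide⟩ : Fin 30) = grp 30 b_E3 :=
  sims_level (gs := b_V23) rfl (by decide) b_2_fix b_2_dist (forall_lt_one b_2_step0)

theorem b_2_cardG : Nat.card (grp 30 b_G2) = 216 :=
  card_of_level b_hn b_G2_ok (by decide : 21 < 30) b_2_lev b_card3 (m := 27) (by decide +kernel)

theorem b_le34 : grp 30 b_E2 ≤ grp 30 b_G2 :=
  grp_le_of_memB b_hn b_hk b_G2_ok b_E2_ok (ws := [nat_lit 1, nat_lit 328198, nat_lit 0x5020501, nat_lit 3, nat_lit 5, nat_lit 7]) (by decide +kernel)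

theorem b_le35 : grp 30 b_G2 ≤ grp 30 b_E2 :=
  grp_le_of_memB b_hn b_hk b_E2_ok b_G2_ok (ws := [nat_lit 1, nat_lit 7, nat_lit 9, nat_lit 11]) (by decide +kernel)

theorem b_2_eq : grp 30 b_E2 = grp 30 b_G2 :=
  le_antisymm b_le34 b_le35

theorem b_card2 : Nat.card (grp 30 b_E2) = 216 :=
  by rw [b_2_eq]; exact b_2_cardG

theorem b_stab2 : grp 30 b_E2 ⊓ MulAction.stabilizer (Equiv.Perm (Fin 30)) (⟨21, by decide⟩ : Fin 30) = grp 30 b_E3 :=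
  by rw [b_2_eq]; exact b_2_lev

theorem b_leO2 : grp 30 b_E2 ≤ grp 30 b_O :=
  b_2_eq.le.trans (grp_cons_le ((b_le21.trans (b_le14.trans (le_refl (grp 30 b_O)))) (b_le24 (toPerm_mem_grp (E := b_V23) (by simp [b_V23])))) b_leO3)

theorem b_1_fix : grp 30 b_E2 ≤ MulAction.stabilizer (Equiv.Perm (Fin 30)) (⟨0, by decide⟩ : Fin 30) :=
  grp_le_stab b_E2_ok (by decide : 0 < 30) (by decide +kernel)

noncomputable def b_1_ts : List ℕ := [nat_lit 0, nat_lit 1]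

noncomputable def b_1_ds : List ℕ := [nat_lit 0, nat_lit 21]

theorem b_1_dist : Dist 30 b_E2 b_G1 (⟨0, by decide⟩ : Fin 30) b_1_ts b_1_ds :=
  dist_of_distB (k := 1) b_hn b_E2_ok b_G1_ok (by decide : 0 < 30) (by decide +kernel)

noncomputable def b_1_sl0 : SL := (SL.cons (nat_lit 1) (nat_lit 21) (Ch.cons (nat_lit 1) [nat_lit 7, nat_lit 9, nat_lit 11] Ch.nil) [nat_lit 1281, nat_lit 268, nat_lit 656133] SL.nil)

theorem b_1_sc0 : SCs 30 b_E2 b_G1 (⟨0, by decide⟩ : Fin 30) (SL.words b_1_sl0) :=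
  scs_of_ok b_hn (det_lab b_hk ⊤) b_E2_ok b_G1_ok le_top le_top (by decide : 0 < 30) b_1_fix b_card2.le (by decide +kernel)

noncomputable def b_1_l : List ℕ := (appL (SL.words b_1_sl0) [])

theorem b_1_scs : SCs 30 b_E2 b_G1 (⟨0, by decide⟩ : Fin 30) b_1_l :=
  (SCs.append b_1_sc0 SCs.nil)

noncomputable def b_1_rl0_0 : RL := (RL.cons (nat_lit 0) (nat_lit 0) (nat_lit 0) (nat_lit 1031) (nat_lit 1) (nat_lit 1031) (RL.cons (nat_lit 1) (nat_lit 21) (nat_lit 0) (nat_lit 0) (nat_lit 0) (nat_lit 0) (RL.cons (nat_lit 1) (nat_lit 2) (nat_lit 1) (nat_lit 268) (nat_lit 1) (nat_lit 722185) (RL.cons (nat_lit 1) (nat_lit 27) (nat_lit 2) (nat_lit 67329) (nat_lit 1) (nat_lit 786700) (RL.cons (nat_lit 1) (nat_lit 15) (nat_lit 5) (nat_lit 6) (nat_lit 1) (nat_lit 721153) (RL.cons (nat_lit 1) (nat_lit 8) (nat_lit 517) (nat_lit 1289) (nat_lit 1) (nat_lit 0x70a0101) RL.nil))))))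

theorem b_1_good0_0 : GoodSet 30 b_E2 b_G1 (⟨0, by decide⟩ : Fin 30) b_1_ts (nat_lit 1) (RL.pts b_1_rl0_0) :=
  goodSet_of_ok b_hn (det_lab b_hk ⊤) b_E2_ok b_G1_ok le_top le_top (by decide : 0 < 30) (sepAt_lab b_hk _) (by decide +kernel)

theorem b_1_step0 : Step 30 b_E2 b_G1 b_1_ts (2 * 0 + 1) :=
  step_of_cover b_E2_ok b_1_dist (by decide +kernel) b_1_scs (by decide +kernel) b_1_good0_0 (kw := [nat_lit 7, nat_lit 9, nat_lit 11])
    (conj_mem_of_scs b_E2_ok b_G1_ok (by decide : 0 < 30) b_1_scs (c := 0) (d := 21) (by decide +kernel)) (by decide +kernel)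

theorem b_1_lev : grp 30 b_G1 ⊓ MulAction.stabilizer (Equiv.Perm (Fin 30)) (⟨0, by decide⟩ : Fin 30) = grp 30 b_E2 :=
  sims_level (gs := b_V16) rfl (by decide) b_1_fix b_1_dist (forall_lt_one b_1_step0)

theorem b_1_cardG : Nat.card (grp 30 b_G1) = 6048 :=
  card_of_level b_hn b_G1_ok (by decide : 0 < 30) b_1_lev b_card2 (m := 28) (by decide +kernel)

theorem b_le36 : grp 30 b_E1 ≤ grp 30 b_G1 :=
  grp_le_of_memB b_hn b_hk b_G1_ok b_E1_ok (ws := [nat_lit 1, nat_lit 0x30e0105, nat_lit 788235, nat_lit 3, nat_lit 5, nat_lit 7, nat_lit 9, nat_lit 11, nat_lit 13]) (by decide +kernel)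

theorem b_le37 : grp 30 b_G1 ≤ grp 30 b_E1 :=
  grp_le_of_memB b_hn b_hk b_E1_ok b_G1_ok (ws := [nat_lit 1, nat_lit 7, nat_lit 9, nat_lit 11, nat_lit 13, nat_lit 15, nat_lit 17]) (by decide +kernel)

theorem b_1_eq : grp 30 b_E1 = grp 30 b_G1 :=
  le_antisymm b_le36 b_le37

theorem b_card1 : Nat.card (grp 30 b_E1) = 6048 :=
  by rw [b_1_eq]; exact b_1_cardG

theorem b_stab1 : grp 30 b_E1 ⊓ MulAction.stabilizer (Equiv.Perm (Fin 30)) (⟨0, by decide⟩ : Fin 30) = grp 30 b_E2 :=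
  by rw [b_1_eq]; exact b_1_lev

theorem b_leO1 : grp 30 b_E1 ≤ grp 30 b_O :=
  b_1_eq.le.trans (grp_cons_le ((b_le14.trans (le_refl (grp 30 b_O))) (b_le17 (toPerm_mem_grp (E := b_V16) (by simp [b_V16])))) b_leO2)

theorem b_0_fix : grp 30 b_E1 ≤ MulAction.stabilizer (Equiv.Perm (Fin 30)) (⟨28, by decide⟩ : Fin 30) :=
  grp_le_stab b_E1_ok (by decide : 28 < 30) (by decide +kernel)

noncomputable def b_0_ts : List ℕ := [nat_lit 0, nat_lit 1]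

noncomputable def b_0_ds : List ℕ := [nat_lit 28, nat_lit 29]

theorem b_0_dist : Dist 30 b_E1 b_G0 (⟨28, by decide⟩ : Fin 30) b_0_ts b_0_ds :=
  dist_of_distB (k := 1) b_hn b_E1_ok b_G0_ok (by decide : 28 < 30) (by decide +kernel)

noncomputable def b_0_sl0 : SL := (SL.cons (nat_lit 1) (nat_lit 29) (Ch.cons (nat_lit 0) [nat_lit 0xe09070206] (Ch.cons (nat_lit 1) [nat_lit 4108] (Ch.cons (nat_lit 4) [nat_lit 0x10070e] Ch.nil))) [nat_lit 0x10080a01040a, nat_lit 0x100b12, nat_lit 856071] SL.nil)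

theorem b_0_sc0 : SCs 30 b_E1 b_G0 (⟨28, by decide⟩ : Fin 30) (SL.words b_0_sl0) :=
  scs_of_ok b_hn (det_lab b_hk ⊤) b_E1_ok b_G0_ok le_top le_top (by decide : 28 < 30) b_0_fix b_card1.le (by decide +kernel)

noncomputable def b_0_l : List ℕ := (appL (SL.words b_0_sl0) [])

theorem b_0_scs : SCs 30 b_E1 b_G0 (⟨28, by decide⟩ : Fin 30) b_0_l :=
  (SCs.append b_0_sc0 SCs.nil)

noncomputable def b_0_rl0_0 : RL := (RL.cons (nat_lit 0) (nat_lit 28) (nat_lit 0) (nat_lit 0) (nat_lit 1) (nat_lit 0) (RL.cons (nat_lit 1) (nat_lit 29) (nat_lit 0) (nat_lit 0) (nat_lit 0) (nat_lit 0) RL.nil))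

theorem b_0_good0_0 : GoodSet 30 b_E1 b_G0 (⟨28, by decide⟩ : Fin 30) b_0_ts (nat_lit 1) (RL.pts b_0_rl0_0) :=
  goodSet_of_ok b_hn (det_lab b_hk ⊤) b_E1_ok b_G0_ok le_top le_top (by decide : 28 < 30) (sepAt_lab b_hk _) (by decide +kernel)

theorem b_0_step0 : Step 30 b_E1 b_G0 b_0_ts (2 * 0 + 1) :=
  step_of_cover b_E1_ok b_0_dist (by decide +kernel) b_0_scs (by decide +kernel) b_0_good0_0 (kw := [nat_lit 0xe09070206, nat_lit 4108, nat_lit 0x10070e])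
    (conj_mem_of_scs b_E1_ok b_G0_ok (by decide : 28 < 30) b_0_scs (c := 0) (d := 29) (by decide +kernel)) (by decide +kernel)

theorem b_0_lev : grp 30 b_G0 ⊓ MulAction.stabilizer (Equiv.Perm (Fin 30)) (⟨28, by decide⟩ : Fin 30) = grp 30 b_E1 :=
  sims_level (gs := b_V9) rfl (by decide) b_0_fix b_0_dist (forall_lt_one b_0_step0)

theorem b_0_cardG : Nat.card (grp 30 b_G0) = 12096 :=
  card_of_level b_hn b_G0_ok (by decide : 28 < 30) b_0_lev b_card1 (m := 2) (by decide +kernel)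

theorem b_le38 : grp 30 b_E0 ≤ grp 30 b_G0 :=
  grp_le_of_memB b_hn b_hk b_G0_ok b_E0_ok (ws := [nat_lit 1, nat_lit 0xf090f050b, nat_lit 0x140b09030d01, nat_lit 0xf120a0c01, nat_lit 0x110d110503, nat_lit 0xa10050d01, nat_lit 0x140d11050b01, nat_lit 0xc03060c01, nat_lit 3, nat_lit 5, nat_lit 7, nat_lit 9, nat_lit 11, nat_lit 13, nat_lit 15, nat_lit 17, nat_lit 19]) (by decide +kernel)

theorem b_le39 : grp 30 b_G0 ≤ grp 30 b_E0 :=
  grp_le_of_memB b_hn b_hk b_E0_ok b_G0_ok (ws := [nat_lit 1, nat_lit 17, nat_lit 19, nat_lit 21, nat_lit 23, nat_lit 25, nat_lit 27, nat_lit 29, nat_lit 31, nat_lit 33]) (by decide +kernel)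

theorem b_0_eq : grp 30 b_E0 = grp 30 b_G0 :=
  le_antisymm b_le38 b_le39

theorem b_card0 : Nat.card (grp 30 b_E0) = 12096 :=
  by rw [b_0_eq]; exact b_0_cardG

theorem b_stab0 : grp 30 b_E0 ⊓ MulAction.stabilizer (Equiv.Perm (Fin 30)) (⟨28, by decide⟩ : Fin 30) = grp 30 b_E1 :=
  by rw [b_0_eq]; exact b_0_lev

theorem b_leO0 : grp 30 b_E0 ≤ grp 30 b_O :=
  b_0_eq.le.trans (grp_cons_le ((le_refl (grp 30 b_O)) (b_le10 (toPerm_mem_grp (E := b_V9) (by simp [b_V9])))) b_leO1)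

theorem b_le40 : grp 30 b_O ≤ grp 30 b_E0 :=
  grp_le_of_memB b_hn b_hk b_E0_ok b_O_ok (ws := [nat_lit 3, nat_lit 1, nat_lit 5, nat_lit 7, nat_lit 9, nat_lit 11, nat_lit 13, nat_lit 15]) (by decide +kernel)

theorem b_eq : grp 30 b_O = grp 30 b_E0 :=
  le_antisymm b_le40 b_leO0

theorem b_card : Nat.card (grp 30 b_O) = 12096 :=
  by rw [b_eq]; exact b_card0

noncomputable def b_ch : Ch := (Ch.cons (nat_lit 28) [nat_lit 1, nat_lit 3, nat_lit 5, nat_lit 7, nat_lit 9, nat_lit 11, nat_lit 13, nat_lit 15] (Ch.cons (nat_lit 0) [nat_lit 17, nat_lit 19, nat_lit 21] (Ch.cons (nat_lit 21) [nat_lit 23, nat_lit 25, nat_lit 27] (Ch.cons (nat_lit 1) [nat_lit 29, nat_lit 31, nat_lit 33] Ch.nil))))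

theorem b_exact : Ch.Exact 30 b_E0 b_ch (grp 30 b_E0) :=
  Ch.exact (k := 5) (L := (lab 30 5)) b_hn b_E0_ok (by decide +kernel) (wgrp_le_grp _ _ _) b_card0.le

theorem raw2 : Raw2 2 :=
  raw 805306368 28 b_hn b_hk b_O_ok b_card (by decide) (by decide +kernel) (by decide +kernel)
    (by decide +kernel) (by decide +kernel) (fun _ => by decide +kernel)

end Cfsg.Agent.H55.G2Raw0
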