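import Mathlib
import Cfsg.Agent.H55.G2RawKit

set_option autoImplicit false
set_option maxRecDepth 200000
set_option linter.style.longLine false

namespace Cfsg.Agent.H55.G2Raw1

open Cfsg.Agent.H43 Cfsg.Agent.H97.G2 Cfsg.Agent.H55.G2Raw

theorem m_hn : NOk 12 := by decide

theorem m_hk : 12 ≤ 2 ^ 4 := by decide

noncomputable def m_g1 : Net := (Net.cons (nat_lit 1) (nat_lit 1300) (Net.cons (nat_lit 2) (nat_lit 272) (Net.cons (nat_lit 4) (nat_lit 4) (Net.cons (nat_lit 8) (nat_lit 15) (Net.cons (nat_lit 4) (nat_lit 4) (Net.cons (nat_lit 2) (nat_lit 272) (Net.cons (nat_lit 1) (nat_lit 1300) Net.nil)))))))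

theorem m_g1_ok : Net.ok 12 m_g1 = true := by decide +kernel

noncomputable def m_g2 : Net := (Net.cons (nat_lit 1) (nat_lit 1300) (Net.cons (nat_lit 2) (nat_lit 16) (Net.cons (nat_lit 4) (nat_lit 4) (Net.cons (nat_lit 8) (nat_lit 15) (Net.cons (nat_lit 4) (nat_lit 8) (Net.cons (nat_lit 2) (nat_lit 545) (Net.cons (nat_lit 1) (nat_lit 65) Net.nil)))))))

theorem m_g2_ok : Net.ok 12 m_g2 = true := by decide +kernel

noncomputable def m_g3 : Net := (Net.cons (nat_lit 1) (nat_lit 272) (Net.cons (nat_lit 2) (nat_lit 32) (Net.cons (nat_lit 4) (nat_lit 1) (Net.cons (nat_lit 8) (nat_lit 5) (Net.cons (nat_lit 4) (nat_lit 9) (Net.cons (nat_lit 2) (nat_lit 32) (Net.cons (nat_lit 1) (nat_lit 336) Net.nil)))))))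

theorem m_g3_ok : Net.ok 12 m_g3 = true := by decide +kernel

noncomputable def m_g4 : Net := (Net.cons (nat_lit 1) (nat_lit 20) (Net.cons (nat_lit 2) (nat_lit 16) (Net.cons (nat_lit 4) (nat_lit 4) (Net.cons (nat_lit 8) (nat_lit 15) (Net.cons (nat_lit 4) (nat_lit 1) (Net.cons (nat_lit 2) (nat_lit 289) (Net.cons (nat_lit 1) (nat_lit 20) Net.nil)))))))

theorem m_g4_ok : Net.ok 12 m_g4 = true := by decide +kernel

noncomputable def m_g5 : Net := (Net.cons (nat_lit 1) (nat_lit 340) (Net.cons (nat_lit 4) (nat_lit 1) (Net.cons (nat_lit 8) (nat_lit 3) (Net.cons (nat_lit 4) (nat_lit 5) (Net.cons (nat_lit 2) (nat_lit 32) (Net.cons (nat_lit 1) (nat_lit 340) Net.nil))))))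

theorem m_g5_ok : Net.ok 12 m_g5 = true := by decide +kernel

noncomputable def m_g6 : Net := (Net.cons (nat_lit 4) (nat_lit 2) (Net.cons (nat_lit 8) (nat_lit 2) (Net.cons (nat_lit 4) (nat_lit 2) (Net.cons (nat_lit 2) (nat_lit 17) (Net.cons (nat_lit 1) (nat_lit 1024) Net.nil)))))

theorem m_g6_ok : Net.ok 12 m_g6 = true := by decide +kernel

noncomputable def m_g7 : Net := (Net.cons (nat_lit 1) (nat_lit 16) (Net.cons (nat_lit 2) (nat_lit 256) (Net.cons (nat_lit 4) (nat_lit 13) (Net.cons (nat_lit 8) (nat_lit 15) (Net.cons (nat_lit 4) (nat_lit 11) (Net.cons (nat_lit 2) (nat_lit 19) (Net.cons (nat_lit 1) (nat_lit 261) Net.nil)))))))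

theorem m_g7_ok : Net.ok 12 m_g7 = true := by decide +kernel

noncomputable def m_g8 : Net := (Net.cons (nat_lit 1) (nat_lit 84) (Net.cons (nat_lit 2) (nat_lit 768) (Net.cons (nat_lit 4) (nat_lit 1) (Net.cons (nat_lit 8) (nat_lit 9) (Net.cons (nat_lit 4) (nat_lit 1) (Net.cons (nat_lit 2) (nat_lit 546) (Net.cons (nat_lit 1) (nat_lit 20) Net.nil)))))))

theorem m_g8_ok : Net.ok 12 m_g8 = true := by decide +kernel

noncomputable def m_O : List Net := [m_g1, m_g2, m_g3, m_g4, m_g5, m_g6, m_g7, m_g8]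

theorem m_O_ok : okE 12 m_O = true := (okE_cons.2 ⟨m_g1_ok, (okE_cons.2 ⟨m_g2_ok, (okE_cons.2 ⟨m_g3_ok, (okE_cons.2 ⟨m_g4_ok, (okE_cons.2 ⟨m_g5_ok, (okE_cons.2 ⟨m_g6_ok, (okE_cons.2 ⟨m_g7_ok, (okE_cons.2 ⟨m_g8_ok, (okE_nil 12)⟩)⟩)⟩)⟩)⟩)⟩)⟩)⟩)

noncomputable def m_V9 : List Net := [m_g1]

theorem m_V9_ok : okE 12 m_V9 = true := (okE_cons.2 ⟨m_g1_ok, (okE_nil 12)⟩)

noncomputable def m_g11 : Net := (Net.cons (nat_lit 1) (nat_lit 1284) (Net.cons (nat_lit 2) (nat_lit 16) (Net.cons (nat_lit 8) (nat_lit 2) (Net.cons (nat_lit 4) (nat_lit 4) (Net.cons (nat_lit 2) (nat_lit 514) (Net.cons (nat_lit 1) (nat_lit 1348) Net.nil))))))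

theorem m_g11_ok : Net.ok 12 m_g11 = true := by decide +kernel

noncomputable def m_g12 : Net := (Net.cons (nat_lit 1) (nat_lit 16) (Net.cons (nat_lit 2) (nat_lit 288) (Net.cons (nat_lit 4) (nat_lit 4) (Net.cons (nat_lit 8) (nat_lit 6) (Net.cons (nat_lit 4) (nat_lit 12) (Net.cons (nat_lit 2) (nat_lit 274) (Net.cons (nat_lit 1) (nat_lit 1104) Net.nil)))))))

theorem m_g12_ok : Net.ok 12 m_g12 = true := by decide +kernel

noncomputable def m_V13 : List Net := [m_g11, m_g12]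

theorem m_V13_ok : okE 12 m_V13 = true := (okE_cons.2 ⟨m_g11_ok, (okE_cons.2 ⟨m_g12_ok, (okE_nil 12)⟩)⟩)

noncomputable def m_g15 : Net := (Net.cons (nat_lit 1) (nat_lit 64) (Net.cons (nat_lit 2) (nat_lit 272) (Net.cons (nat_lit 4) (nat_lit 8) (Net.cons (nat_lit 8) (nat_lit 14) (Net.cons (nat_lit 4) (nat_lit 6) (Net.cons (nat_lit 2) (nat_lit 274) (Net.cons (nat_lit 1) (nat_lit 1040) Net.nil)))))))

theorem m_g15_ok : Net.ok 12 m_g15 = true := by decide +kernel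

noncomputable def m_V16 : List Net := [m_g15]

theorem m_V16_ok : okE 12 m_V16 = true := (okE_cons.2 ⟨m_g15_ok, (okE_nil 12)⟩)

noncomputable def m_g18 : Net := (Net.cons (nat_lit 1) (nat_lit 1108) (Net.cons (nat_lit 2) (nat_lit 800) (Net.cons (nat_lit 4) (nat_lit 8) (Net.cons (nat_lit 8) (nat_lit 12) (Net.cons (nat_lit 4) (nat_lit 10) (Net.cons (nat_lit 2) (nat_lit 274) (Net.cons (nat_lit 1) (nat_lit 1364) Net.nil)))))))

theorem m_g18_ok : Net.ok 12 m_g18 = true := by decide +kernel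

noncomputable def m_g19 : Net := (Net.cons (nat_lit 1) (nat_lit 320) (Net.cons (nat_lit 8) (nat_lit 6) (Net.cons (nat_lit 4) (nat_lit 8) (Net.cons (nat_lit 2) (nat_lit 16) (Net.cons (nat_lit 1) (nat_lit 320) Net.nil)))))

theorem m_g19_ok : Net.ok 12 m_g19 = true := by decide +kernel

noncomputable def m_V20 : List Net := [m_g18, m_g19]

theorem m_V20_ok : okE 12 m_V20 = true := (okE_cons.2 ⟨m_g18_ok, (okE_cons.2 ⟨m_g19_ok, (okE_nil 12)⟩)⟩)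

noncomputable def m_V22 : List Net := [m_g18]

theorem m_V22_ok : okE 12 m_V22 = true := (okE_cons.2 ⟨m_g18_ok, (okE_nil 12)⟩)

noncomputable def m_g24 : Net := (Net.cons (nat_lit 1) (nat_lit 256) (Net.cons (nat_lit 2) (nat_lit 304) (Net.cons (nat_lit 4) (nat_lit 1) (Net.cons (nat_lit 8) (nat_lit 5) (Net.cons (nat_lit 4) (nat_lit 9) (Net.cons (nat_lit 2) (nat_lit 16) (Net.cons (nat_lit 1) (nat_lit 68) Net.nil)))))))

theorem m_g24_ok : Net.ok 12 m_g24 = true := by decide +kernel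

noncomputable def m_g25 : Net := (Net.cons (nat_lit 1) (nat_lit 1088) (Net.cons (nat_lit 2) (nat_lit 816) (Net.cons (nat_lit 4) (nat_lit 2) (Net.cons (nat_lit 8) (nat_lit 14) (Net.cons (nat_lit 4) (nat_lit 6) (Net.cons (nat_lit 2) (nat_lit 288) (Net.cons (nat_lit 1) (nat_lit 1028) Net.nil)))))))

theorem m_g25_ok : Net.ok 12 m_g25 = true := by decide +kernel

noncomputable def m_V26 : List Net := [m_g24, m_g25]

theorem m_V26_ok : okE 12 m_V26 = true := (okE_cons.2 ⟨m_g24_ok, (okE_cons.2 ⟨m_g25_ok, (okE_nil 12)⟩)⟩)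

noncomputable def m_g28 : Net := (Net.cons (nat_lit 1) (nat_lit 64) (Net.cons (nat_lit 2) (nat_lit 784) (Net.cons (nat_lit 4) (nat_lit 12) (Net.cons (nat_lit 8) (nat_lit 12) (Net.cons (nat_lit 4) (nat_lit 8) (Net.cons (nat_lit 2) (nat_lit 800) (Net.cons (nat_lit 1) (nat_lit 260) Net.nil)))))))

theorem m_g28_ok : Net.ok 12 m_g28 = true := by decide +kernel

noncomputable def m_V29 : List Net := [m_g28]

theorem m_V29_ok : okE 12 m_V29 = true := (okE_cons.2 ⟨m_g28_ok, (okE_nil 12)⟩)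

noncomputable def m_g31 : Net := (Net.cons (nat_lit 1) (nat_lit 272) (Net.cons (nat_lit 2) (nat_lit 768) (Net.cons (nat_lit 4) (nat_lit 12) (Net.cons (nat_lit 8) (nat_lit 12) (Net.cons (nat_lit 4) (nat_lit 4) (Net.cons (nat_lit 2) (nat_lit 528) (Net.cons (nat_lit 1) (nat_lit 276) Net.nil)))))))

theorem m_g31_ok : Net.ok 12 m_g31 = true := by decide +kernel

noncomputable def m_g32 : Net := (Net.cons (nat_lit 1) (nat_lit 1088) (Net.cons (nat_lit 2) (nat_lit 768) (Net.cons (nat_lit 4) (nat_lit 2) (Net.cons (nat_lit 8) (nat_lit 6) (Net.cons (nat_lit 4) (nat_lit 6) (Net.cons (nat_lit 2) (nat_lit 288) (Net.cons (nat_lit 1) (nat_lit 1092) Net.nil)))))))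

theorem m_g32_ok : Net.ok 12 m_g32 = true := by decide +kernel

noncomputable def m_V33 : List Net := [m_g31, m_g24, m_g32]

theorem m_V33_ok : okE 12 m_V33 = true := (okE_cons.2 ⟨m_g31_ok, (okE_cons.2 ⟨m_g24_ok, (okE_cons.2 ⟨m_g32_ok, (okE_nil 12)⟩)⟩)⟩)

noncomputable def m_V35 : List Net := [m_g24, m_g32]

theorem m_V35_ok : okE 12 m_V35 = true := (okE_cons.2 ⟨m_g24_ok, (okE_cons.2 ⟨m_g32_ok, (okE_nil 12)⟩)⟩)

noncomputable def m_E5 : List Net := []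

theorem m_E5_ok : okE 12 m_E5 = true := (okE_nil 12)

noncomputable def m_G4 : List Net := [m_g24, m_g32]

theorem m_G4_ok : okE 12 m_G4 = true := (okE_cons.2 ⟨m_g24_ok, (okE_cons.2 ⟨m_g32_ok, (okE_nil 12)⟩)⟩)

noncomputable def m_E4 : List Net := [m_g24, m_g32, m_g31]

theorem m_E4_ok : okE 12 m_E4 = true := (okE_cons.2 ⟨m_g24_ok, (okE_cons.2 ⟨m_g32_ok, (okE_cons.2 ⟨m_g31_ok, (okE_nil 12)⟩)⟩)⟩)

noncomputable def m_G3 : List Net := [m_g28, m_g24, m_g32, m_g31]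

theorem m_G3_ok : okE 12 m_G3 = true := (okE_cons.2 ⟨m_g28_ok, (okE_cons.2 ⟨m_g24_ok, (okE_cons.2 ⟨m_g32_ok, (okE_cons.2 ⟨m_g31_ok, (okE_nil 12)⟩)⟩)⟩)⟩)

noncomputable def m_E3 : List Net := [m_g28, m_g25, m_g24, m_g32, m_g31]

theorem m_E3_ok : okE 12 m_E3 = true := (okE_cons.2 ⟨m_g28_ok, (okE_cons.2 ⟨m_g25_ok, (okE_cons.2 ⟨m_g24_ok, (okE_cons.2 ⟨m_g32_ok, (okE_cons.2 ⟨m_g31_ok, (okE_nil 12)⟩)⟩)⟩)⟩)⟩)

noncomputable def m_G2 : List Net := [m_g18, m_g28, m_g25, m_g24, m_g32, m_g31]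

theorem m_G2_ok : okE 12 m_G2 = true := (okE_cons.2 ⟨m_g18_ok, (okE_cons.2 ⟨m_g28_ok, (okE_cons.2 ⟨m_g25_ok, (okE_cons.2 ⟨m_g24_ok, (okE_cons.2 ⟨m_g32_ok, (okE_cons.2 ⟨m_g31_ok, (okE_nil 12)⟩)⟩)⟩)⟩)⟩)⟩)

noncomputable def m_E2 : List Net := [m_g18, m_g19, m_g28, m_g25, m_g24, m_g32, m_g31]

theorem m_E2_ok : okE 12 m_E2 = true := (okE_cons.2 ⟨m_g18_ok, (okE_cons.2 ⟨m_g19_ok, (okE_cons.2 ⟨m_g28_ok, (okE_cons.2 ⟨m_g25_ok, (okE_cons.2 ⟨m_g24_ok, (okE_cons.2 ⟨m_g32_ok, (okE_cons.2 ⟨m_g31_ok, (okE_nil 12)⟩)⟩)⟩)⟩)⟩)⟩)⟩)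

noncomputable def m_G1 : List Net := [m_g15, m_g18, m_g19, m_g28, m_g25, m_g24, m_g32, m_g31]

theorem m_G1_ok : okE 12 m_G1 = true := (okE_cons.2 ⟨m_g15_ok, (okE_cons.2 ⟨m_g18_ok, (okE_cons.2 ⟨m_g19_ok, (okE_cons.2 ⟨m_g28_ok, (okE_cons.2 ⟨m_g25_ok, (okE_cons.2 ⟨m_g24_ok, (okE_cons.2 ⟨m_g32_ok, (okE_cons.2 ⟨m_g31_ok, (okE_nil 12)⟩)⟩)⟩)⟩)⟩)⟩)⟩)⟩)

noncomputable def m_E1 : List Net := [m_g15, m_g11, m_g12, m_g18, m_g19, m_g28, m_g25, m_g24, m_g32, m_g31]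

theorem m_E1_ok : okE 12 m_E1 = true := (okE_cons.2 ⟨m_g15_ok, (okE_cons.2 ⟨m_g11_ok, (okE_cons.2 ⟨m_g12_ok, (okE_cons.2 ⟨m_g18_ok, (okE_cons.2 ⟨m_g19_ok, (okE_cons.2 ⟨m_g28_ok, (okE_cons.2 ⟨m_g25_ok, (okE_cons.2 ⟨m_g24_ok, (okE_cons.2 ⟨m_g32_ok, (okE_cons.2 ⟨m_g31_ok, (okE_nil 12)⟩)⟩)⟩)⟩)⟩)⟩)⟩)⟩)⟩)⟩)

noncomputable def m_G0 : List Net := [m_g1, m_g15, m_g11, m_g12, m_g18, m_g19, m_g28, m_g25, m_g24, m_g32, m_g31]

theorem m_G0_ok : okE 12 m_G0 = true := (okE_cons.2 ⟨m_g1_ok, (okE_cons.2 ⟨m_g15_ok, (okE_cons.2 ⟨m_g11_ok, (okE_cons.2 ⟨m_g12_ok, (okE_cons.2 ⟨m_g18_ok, (okE_cons.2 ⟨m_g19_ok, (okE_cons.2 ⟨m_g28_ok, (okE_cons.2 ⟨m_g25_ok, (okE_cons.2 ⟨m_g24_ok, (okE_cons.2 ⟨m_g32_ok, (okE_cons.2 ⟨m_g31_ok, (okE_nil 12)⟩)⟩)⟩)⟩)⟩)⟩)⟩)⟩)⟩)⟩)⟩)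

noncomputable def m_E0 : List Net := [m_g1, m_g2, m_g3, m_g4, m_g5, m_g6, m_g7, m_g8, m_g15, m_g11, m_g12, m_g18, m_g19, m_g28, m_g25, m_g24, m_g32, m_g31]

theorem m_E0_ok : okE 12 m_E0 = true := (okE_cons.2 ⟨m_g1_ok, (okE_cons.2 ⟨m_g2_ok, (okE_cons.2 ⟨m_g3_ok, (okE_cons.2 ⟨m_g4_ok, (okE_cons.2 ⟨m_g5_ok, (okE_cons.2 ⟨m_g6_ok, (okE_cons.2 ⟨m_g7_ok, (okE_cons.2 ⟨m_g8_ok, (okE_cons.2 ⟨m_g15_ok, (okE_cons.2 ⟨m_g11_ok, (okE_cons.2 ⟨m_g12_ok, (okE_cons.2 ⟨m_g18_ok, (okE_cons.2 ⟨m_g19_ok, (okE_cons.2 ⟨m_g28_ok, (okE_cons.2 ⟨m_g25_ok, (okE_cons.2 ⟨m_g24_ok, (okE_cons.2 ⟨m_g32_ok, (okE_cons.2 ⟨m_g31_ok, (okE_nil 12)⟩)⟩)⟩)⟩)⟩)⟩)⟩)⟩)⟩)⟩)⟩)⟩)⟩)⟩)⟩)⟩)⟩)⟩)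

theorem m_le10 : grp 12 m_V9 ≤ grp 12 m_O :=
  grp_le_of_memB m_hn m_hk m_O_ok m_V9_ok (ws := [nat_lit 1]) (by decide +kernel)

theorem m_le14 : grp 12 m_V13 ≤ grp 12 m_O :=
  grp_le_of_memB m_hn m_hk m_O_ok m_V13_ok (ws := [nat_lit 0x20f050d0c0c080e0c, nat_lit 0x40c0a0e0903010d0f0e]) (by decide +kernel)

theorem m_le17 : grp 12 m_V16 ≤ grp 12 m_V13 :=
  grp_le_of_memB m_hn m_hk m_V13_ok m_V16_ok (ws := [nat_lit 770]) (by decide +kernel)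

theorem m_le21 : grp 12 m_V20 ≤ grp 12 m_V13 :=
  grp_le_of_memB m_hn m_hk m_V13_ok m_V20_ok (ws := [nat_lit 0x101040402, nat_lit 514]) (by decide +kernel)

theorem m_le23 : grp 12 m_V22 ≤ grp 12 m_V20 :=
  grp_le_of_memB m_hn m_hk m_V20_ok m_V22_ok (ws := [nat_lit 1]) (by decide +kernel)

theorem m_le27 : grp 12 m_V26 ≤ grp 12 m_V20 :=
  grp_le_of_memB m_hn m_hk m_V20_ok m_V26_ok (ws := [nat_lit 0x2030202, nat_lit 0x204020402020402]) (by decide +kernel)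

theorem m_le30 : grp 12 m_V29 ≤ grp 12 m_V26 :=
  grp_le_of_memB m_hn m_hk m_V26_ok m_V29_ok (ws := [nat_lit 770]) (by decide +kernel)

theorem m_le34 : grp 12 m_V33 ≤ grp 12 m_V26 :=
  grp_le_of_memB m_hn m_hk m_V26_ok m_V33_ok (ws := [nat_lit 0x301030104, nat_lit 0x4010402020303, nat_lit 0x404010301]) (by decide +kernel)

theorem m_le36 : grp 12 m_V35 ≤ grp 12 m_V33 :=
  grp_le_of_memB m_hn m_hk m_V33_ok m_V35_ok (ws := [nat_lit 3, nat_lit 2]) (by decide +kernel)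

theorem m_card5 : Nat.card (grp 12 m_E5) = 1 :=
  card_grp_nil 12

theorem m_leO5 : grp 12 m_E5 ≤ grp 12 m_O :=
  grp_nil_le _

theorem m_4_fix : grp 12 m_E5 ≤ MulAction.stabilizer (Equiv.Perm (Fin 12)) (⟨9, by decide⟩ : Fin 12) :=
  grp_le_stab m_E5_ok (by decide : 9 < 12) (by decide +kernel)

noncomputable def m_4_ts : List ℕ := [nat_lit 0, nat_lit 1, nat_lit 2, nat_lit 3, nat_lit 4, nat_lit 257, nat_lit 259, nat_lit 260]

noncomputable def m_4_ds : List ℕ := [nat_lit 9, nat_lit 3, nat_lit 8, nat_lit 10, nat_lit 5, nat_lit 6, nat_lit 2, nat_lit 7]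

theorem m_4_dist : Dist 12 m_E5 m_G4 (⟨9, by decide⟩ : Fin 12) m_4_ts m_4_ds :=
  dist_of_distB (k := 3) m_hn m_E5_ok m_G4_ok (by decide : 9 < 12) (by decide +kernel)

noncomputable def m_4_sl0 : SL := (SL.cons (nat_lit 1) (nat_lit 3) Ch.nil [] (SL.cons (nat_lit 2) (nat_lit 8) Ch.nil [] (SL.cons (nat_lit 3) (nat_lit 10) Ch.nil [] (SL.cons (nat_lit 4) (nat_lit 5) Ch.nil [] (SL.cons (nat_lit 257) (nat_lit 6) Ch.nil [] (SL.cons (nat_lit 259) (nat_lit 2) Ch.nil [] (SL.cons (nat_lit 260) (nat_lit 7) Ch.nil [] SL.nil)))))))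

theorem m_4_sc0 : SCs 12 m_E5 m_G4 (⟨9, by decide⟩ : Fin 12) (SL.words m_4_sl0) :=
  scs_of_ok m_hn (det_lab m_hk ⊤) m_E5_ok m_G4_ok le_top le_top (by decide : 9 < 12) m_4_fix m_card5.le (by decide +kernel)

noncomputable def m_4_l : List ℕ := (appL (SL.words m_4_sl0) [])

theorem m_4_scs : SCs 12 m_E5 m_G4 (⟨9, by decide⟩ : Fin 12) m_4_l :=
  (SCs.append m_4_sc0 SCs.nil)

noncomputable def m_4_rl0_0 : RL := (RL.cons (nat_lit 0) (nat_lit 9) (nat_lit 0) (nat_lit 0) (nat_lit 2) (nat_lit 0) (RL.cons (nat_lit 1) (nat_lit 3) (nat_lit 0) (nat_lit 0) (nat_lit 0) (nat_lit 0) (RL.cons (nat_lit 2) (nat_lit 8) (nat_lit 0) (nat_lit 0) (nat_lit 5) (nat_lit 0) (RL.cons (nat_lit 3) (nat_lit 10) (nat_lit 0) (nat_lit 0) (nat_lit 6) (nat_lit 0) (RL.cons (nat_lit 4) (nat_lit 5) (nat_lit 0) (nat_lit 0) (nat_lit 7) (nat_lit 0) (RL.cons (nat_lit 5) (nat_lit 6) (nat_lit 0) (nat_lit 0)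 (nat_lit 1) (nat_lit 0) (RL.cons (nat_lit 6) (nat_lit 2) (nat_lit 0) (nat_lit 0) (nat_lit 4) (nat_lit 0) (RL.cons (nat_lit 7) (nat_lit 7) (nat_lit 0) (nat_lit 0) (nat_lit 3) (nat_lit 0) RL.nil))))))))

theorem m_4_good0_0 : GoodSet 12 m_E5 m_G4 (⟨9, by decide⟩ : Fin 12) m_4_ts (nat_lit 1) (RL.pts m_4_rl0_0) :=
  goodSet_of_ok m_hn (det_lab m_hk ⊤) m_E5_ok m_G4_ok le_top le_top (by decide : 9 < 12) (sepAt_lab m_hk _) (by decide +kernel)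

theorem m_4_step0 : Step 12 m_E5 m_G4 m_4_ts (2 * 0 + 1) :=
  step_of_cover m_E5_ok m_4_dist (by decide +kernel) m_4_scs (by decide +kernel) m_4_good0_0 (kw := [])
    (conj_mem_of_scs m_E5_ok m_G4_ok (by decide : 9 < 12) m_4_scs (c := 0) (d := 3) (by decide +kernel)) (by decide +kernel)

noncomputable def m_4_rl1_0 : RL := (RL.cons (nat_lit 0) (nat_lit 9) (nat_lit 0) (nat_lit 0) (nat_lit 4) (nat_lit 0) (RL.cons (nat_lit 1) (nat_lit 3) (nat_lit 0) (nat_lit 0) (nat_lit 7) (nat_lit 0) (RL.cons (nat_lit 2) (nat_lit 8) (nat_lit 0) (nat_lit 0) (nat_lit 6) (nat_lit 0) (RL.cons (nat_lit 3) (nat_lit 10) (nat_lit 0) (nat_lit 0) (nat_lit 0) (nat_lit 0) (RL.cons (nat_lit 4) (nat_lit 5) (nat_lit 0) (nat_lit 0) (nat_lit 5) (nat_lit 0) (RL.cons (nat_lit 5) (nat_lit 6) (nat_lit 0) (nat_lit 0) (nat_lit 3) (nat_lit 0) (RL.cons (nat_lit 6) (nat_lit 2) (nat_lit 0) (nat_lit 0) (nat_lit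 1) (nat_lit 0) (RL.cons (nat_lit 7) (nat_lit 7) (nat_lit 0) (nat_lit 0) (nat_lit 2) (nat_lit 0) RL.nil))))))))

theorem m_4_good1_0 : GoodSet 12 m_E5 m_G4 (⟨9, by decide⟩ : Fin 12) m_4_ts (nat_lit 3) (RL.pts m_4_rl1_0) :=
  goodSet_of_ok m_hn (det_lab m_hk ⊤) m_E5_ok m_G4_ok le_top le_top (by decide : 9 < 12) (sepAt_lab m_hk _) (by decide +kernel)

theorem m_4_step1 : Step 12 m_E5 m_G4 m_4_ts (2 * 1 + 1) :=
  step_of_cover m_E5_ok m_4_dist (by decide +kernel) m_4_scs (by decide +kernel) m_4_good1_0 (kw := [])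
    (conj_mem_of_scs m_E5_ok m_G4_ok (by decide : 9 < 12) m_4_scs (c := 2) (d := 10) (by decide +kernel)) (by decide +kernel)

theorem m_4_lev : grp 12 m_G4 ⊓ MulAction.stabilizer (Equiv.Perm (Fin 12)) (⟨9, by decide⟩ : Fin 12) = grp 12 m_E5 :=
  sims_level (gs := m_V35) rfl (by decide) m_4_fix m_4_dist (forall_lt_succ' (forall_lt_one m_4_step0) m_4_step1)

theorem m_4_cardG : Nat.card (grp 12 m_G4) = 8 :=
  card_of_level m_hn m_G4_ok (by decide : 9 < 12) m_4_lev m_card5 (m := 8) (by decide +kernel)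

theorem m_le37 : grp 12 m_E4 ≤ grp 12 m_G4 :=
  grp_le_of_memB m_hn m_hk m_G4_ok m_E4_ok (ws := [nat_lit 1, nat_lit 3, nat_lit 4]) (by decide +kernel)

theorem m_le38 : grp 12 m_G4 ≤ grp 12 m_E4 :=
  grp_le_of_memB m_hn m_hk m_E4_ok m_G4_ok (ws := [nat_lit 1, nat_lit 3]) (by decide +kernel)

theorem m_4_eq : grp 12 m_E4 = grp 12 m_G4 :=
  le_antisymm m_le37 m_le38

theorem m_card4 : Nat.card (grp 12 m_E4) = 8 :=
  by rw [m_4_eq]; exact m_4_cardG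

theorem m_stab4 : grp 12 m_E4 ⊓ MulAction.stabilizer (Equiv.Perm (Fin 12)) (⟨9, by decide⟩ : Fin 12) = grp 12 m_E5 :=
  by rw [m_4_eq]; exact m_4_lev

theorem m_leO4 : grp 12 m_E4 ≤ grp 12 m_O :=
  m_4_eq.le.trans (grp_cons_le ((m_le34.trans (m_le27.trans (m_le21.trans (m_le14.trans (le_refl (grp 12 m_O)))))) (m_le36 (toPerm_mem_grp (E := m_V35) (by simp [m_V35])))) (grp_cons_le ((m_le34.trans (m_le27.trans (m_le21.trans (m_le14.trans (le_refl (grp 12 m_O)))))) (m_le36 (toPerm_mem_grp (E := m_V35) (by simp [m_V35])))) m_leO5))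

theorem m_3_fix : grp 12 m_E4 ≤ MulAction.stabilizer (Equiv.Perm (Fin 12)) (⟨4, by decide⟩ : Fin 12) :=
  grp_le_stab m_E4_ok (by decide : 4 < 12) (by decide +kernel)

noncomputable def m_3_ts : List ℕ := [nat_lit 0, nat_lit 1]

noncomputable def m_3_ds : List ℕ := [nat_lit 4, nat_lit 9]

theorem m_3_dist : Dist 12 m_E4 m_G3 (⟨4, by decide⟩ : Fin 12) m_3_ts m_3_ds :=
  dist_of_distB (k := 1) m_hn m_E4_ok m_G3_ok (by decide : 4 < 12) (by decide +kernel)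

noncomputable def m_3_sl0 : SL := (SL.cons (nat_lit 1) (nat_lit 9) Ch.nil [] SL.nil)

theorem m_3_sc0 : SCs 12 m_E4 m_G3 (⟨4, by decide⟩ : Fin 12) (SL.words m_3_sl0) :=
  scs_of_ok m_hn (det_lab m_hk ⊤) m_E4_ok m_G3_ok le_top le_top (by decide : 4 < 12) m_3_fix m_card4.le (by decide +kernel)

noncomputable def m_3_l : List ℕ := (appL (SL.words m_3_sl0) [])

theorem m_3_scs : SCs 12 m_E4 m_G3 (⟨4, by decide⟩ : Fin 12) m_3_l :=
  (SCs.append m_3_sc0 SCs.nil)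

noncomputable def m_3_rl0_0 : RL := (RL.cons (nat_lit 0) (nat_lit 4) (nat_lit 0) (nat_lit 260) (nat_lit 1) (nat_lit 260) (RL.cons (nat_lit 1) (nat_lit 9) (nat_lit 0) (nat_lit 0) (nat_lit 0) (nat_lit 0) (RL.cons (nat_lit 1) (nat_lit 3) (nat_lit 1) (nat_lit 2) (nat_lit 1) (nat_lit 259) (RL.cons (nat_lit 1) (nat_lit 8) (nat_lit 2) (nat_lit 257) (nat_lit 1) (nat_lit 3) (RL.cons (nat_lit 1) (nat_lit 10) (nat_lit 3) (nat_lit 3) (nat_lit 1) (nat_lit 260) (RL.cons (nat_lit 1) (nat_lit 5) (nat_lit 4) (nat_lit 0) (nat_lit 1) (nat_lit 1) (RL.cons (nat_lit 1) (nat_lit 6) (nat_lit 257) (nat_lit 259) (nat_lit 1) (nat_lit 257) (RL.cons (nat_lit 1) (nat_lit 2) (nat_lit 259) (nat_lit 1) (nat_lit 1) (nat_lit 2) (RL.cons (nat_lit 1) (nat_lit 7) (nat_lit 260) (nat_lit 4) (nat_lit 1) (nat_lit 4) RL.nil)))))))))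

theorem m_3_good0_0 : GoodSet 12 m_E4 m_G3 (⟨4, by decide⟩ : Fin 12) m_3_ts (nat_lit 1) (RL.pts m_3_rl0_0) :=
  goodSet_of_ok m_hn (det_lab m_hk ⊤) m_E4_ok m_G3_ok le_top le_top (by decide : 4 < 12) (sepAt_lab m_hk _) (by decide +kernel)

theorem m_3_step0 : Step 12 m_E4 m_G3 m_3_ts (2 * 0 + 1) :=
  step_of_cover m_E4_ok m_3_dist (by decide +kernel) m_3_scs (by decide +kernel) m_3_good0_0 (kw := [])
    (conj_mem_of_scs m_E4_ok m_G3_ok (by decide : 4 < 12) m_3_scs (c := 0) (d := 9) (by decide +kernel)) (by decide +kernel)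

theorem m_3_lev : grp 12 m_G3 ⊓ MulAction.stabilizer (Equiv.Perm (Fin 12)) (⟨4, by decide⟩ : Fin 12) = grp 12 m_E4 :=
  sims_level (gs := m_V29) rfl (by decide) m_3_fix m_3_dist (forall_lt_one m_3_step0)

theorem m_3_cardG : Nat.card (grp 12 m_G3) = 72 :=
  card_of_level m_hn m_G3_ok (by decide : 4 < 12) m_3_lev m_card4 (m := 9) (by decide +kernel)

theorem m_le39 : grp 12 m_E3 ≤ grp 12 m_G3 :=
  grp_le_of_memB m_hn m_hk m_G3_ok m_E3_ok (ws := [nat_lit 1, nat_lit 259, nat_lit 3, nat_lit 5, nat_lit 7]) (by decide +kernel)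

theorem m_le40 : grp 12 m_G3 ≤ grp 12 m_E3 :=
  grp_le_of_memB m_hn m_hk m_E3_ok m_G3_ok (ws := [nat_lit 1, nat_lit 5, nat_lit 7, nat_lit 9]) (by decide +kernel)

theorem m_3_eq : grp 12 m_E3 = grp 12 m_G3 :=
  le_antisymm m_le39 m_le40

theorem m_card3 : Nat.card (grp 12 m_E3) = 72 :=
  by rw [m_3_eq]; exact m_3_cardG

theorem m_stab3 : grp 12 m_E3 ⊓ MulAction.stabilizer (Equiv.Perm (Fin 12)) (⟨4, by decide⟩ : Fin 12) = grp 12 m_E4 :=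
  by rw [m_3_eq]; exact m_3_lev

theorem m_leO3 : grp 12 m_E3 ≤ grp 12 m_O :=
  m_3_eq.le.trans (grp_cons_le ((m_le27.trans (m_le21.trans (m_le14.trans (le_refl (grp 12 m_O))))) (m_le30 (toPerm_mem_grp (E := m_V29) (by simp [m_V29])))) m_leO4)

theorem m_2_fix : grp 12 m_E3 ≤ MulAction.stabilizer (Equiv.Perm (Fin 12)) (⟨1, by decide⟩ : Fin 12) :=
  grp_le_stab m_E3_ok (by decide : 1 < 12) (by decide +kernel)

noncomputable def m_2_ts : List ℕ := [nat_lit 0, nat_lit 1]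

noncomputable def m_2_ds : List ℕ := [nat_lit 1, nat_lit 4]

theorem m_2_dist : Dist 12 m_E3 m_G2 (⟨1, by decide⟩ : Fin 12) m_2_ts m_2_ds :=
  dist_of_distB (k := 1) m_hn m_E3_ok m_G2_ok (by decide : 1 < 12) (by decide +kernel)

noncomputable def m_2_sl0 : SL := (SL.cons (nat_lit 1) (nat_lit 4) (Ch.cons (nat_lit 9) [nat_lit 5, nat_lit 7, nat_lit 9] Ch.nil) [nat_lit 459009, nat_lit 2049, nat_lit 329731] SL.nil)

theorem m_2_sc0 : SCs 12 m_E3 m_G2 (⟨1, by decide⟩ : Fin 12) (SL.words m_2_sl0) :=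
  scs_of_ok m_hn (det_lab m_hk ⊤) m_E3_ok m_G2_ok le_top le_top (by decide : 1 < 12) m_2_fix m_card3.le (by decide +kernel)

noncomputable def m_2_l : List ℕ := (appL (SL.words m_2_sl0) [])

theorem m_2_scs : SCs 12 m_E3 m_G2 (⟨1, by decide⟩ : Fin 12) m_2_l :=
  (SCs.append m_2_sc0 SCs.nil)

noncomputable def m_2_rl0_0 : RL := (RL.cons (nat_lit 0) (nat_lit 1) (nat_lit 0) (nat_lit 259) (nat_lit 1) (nat_lit 259) (RL.cons (nat_lit 1) (nat_lit 4) (nat_lit 0) (nat_lit 0) (nat_lit 0) (nat_lit 0) (RL.cons (nat_lit 1) (nat_lit 9) (nat_lit 1) (nat_lit 3) (nat_lit 1) (nat_lit 0x5070101) RL.nil)))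

theorem m_2_good0_0 : GoodSet 12 m_E3 m_G2 (⟨1, by decide⟩ : Fin 12) m_2_ts (nat_lit 1) (RL.pts m_2_rl0_0) :=
  goodSet_of_ok m_hn (det_lab m_hk ⊤) m_E3_ok m_G2_ok le_top le_top (by decide : 1 < 12) (sepAt_lab m_hk _) (by decide +kernel)

theorem m_2_step0 : Step 12 m_E3 m_G2 m_2_ts (2 * 0 + 1) :=
  step_of_cover m_E3_ok m_2_dist (by decide +kernel) m_2_scs (by decide +kernel) m_2_good0_0 (kw := [nat_lit 5, nat_lit 7, nat_lit 9])
    (conj_mem_of_scs m_E3_ok m_G2_ok (by decide : 1 < 12) m_2_scs (c := 0) (d := 4) (by decide +kernel)) (by decide +kernel)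

theorem m_2_lev : grp 12 m_G2 ⊓ MulAction.stabilizer (Equiv.Perm (Fin 12)) (⟨1, by decide⟩ : Fin 12) = grp 12 m_E3 :=
  sims_level (gs := m_V22) rfl (by decide) m_2_fix m_2_dist (forall_lt_one m_2_step0)

theorem m_2_cardG : Nat.card (grp 12 m_G2) = 720 :=
  card_of_level m_hn m_G2_ok (by decide : 1 < 12) m_2_lev m_card3 (m := 10) (by decide +kernel)

theorem m_le41 : grp 12 m_E2 ≤ grp 12 m_G2 :=
  grp_le_of_memB m_hn m_hk m_G2_ok m_E2_ok (ws := [nat_lit 1, nat_lit 0x903080205, nat_lit 3, nat_lit 5, nat_lit 7, nat_lit 9, nat_lit 11]) (by decide +kernel)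

theorem m_le42 : grp 12 m_G2 ≤ grp 12 m_E2 :=
  grp_le_of_memB m_hn m_hk m_E2_ok m_G2_ok (ws := [nat_lit 1, nat_lit 5, nat_lit 7, nat_lit 9, nat_lit 11, nat_lit 13]) (by decide +kernel)

theorem m_2_eq : grp 12 m_E2 = grp 12 m_G2 :=
  le_antisymm m_le41 m_le42

theorem m_card2 : Nat.card (grp 12 m_E2) = 720 :=
  by rw [m_2_eq]; exact m_2_cardG

theorem m_stab2 : grp 12 m_E2 ⊓ MulAction.stabilizer (Equiv.Perm (Fin 12)) (⟨1, by decide⟩ : Fin 12) = grp 12 m_E3 :=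
  by rw [m_2_eq]; exact m_2_lev

theorem m_leO2 : grp 12 m_E2 ≤ grp 12 m_O :=
  m_2_eq.le.trans (grp_cons_le ((m_le21.trans (m_le14.trans (le_refl (grp 12 m_O)))) (m_le23 (toPerm_mem_grp (E := m_V22) (by simp [m_V22])))) m_leO3)

theorem m_1_fix : grp 12 m_E2 ≤ MulAction.stabilizer (Equiv.Perm (Fin 12)) (⟨11, by decide⟩ : Fin 12) :=
  grp_le_stab m_E2_ok (by decide : 11 < 12) (by decide +kernel)

noncomputable def m_1_ts : List ℕ := [nat_lit 0, nat_lit 1]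

noncomputable def m_1_ds : List ℕ := [nat_lit 11, nat_lit 1]

theorem m_1_dist : Dist 12 m_E2 m_G1 (⟨11, by decide⟩ : Fin 12) m_1_ts m_1_ds :=
  dist_of_distB (k := 1) m_hn m_E2_ok m_G1_ok (by decide : 11 < 12) (by decide +kernel)

noncomputable def m_1_sl0 : SL := (SL.cons (nat_lit 1) (nat_lit 1) (Ch.cons (nat_lit 4) [nat_lit 5, nat_lit 7] (Ch.cons (nat_lit 9) [nat_lit 9, nat_lit 11, nat_lit 13] Ch.nil)) [nat_lit 2563, nat_lit 0x90c050801, nat_lit 0x90907020a, nat_lit 0x90b0202, nat_lit 0x90c050503] SL.nil)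

theorem m_1_sc0 : SCs 12 m_E2 m_G1 (⟨11, by decide⟩ : Fin 12) (SL.words m_1_sl0) :=
  scs_of_ok m_hn (det_lab m_hk ⊤) m_E2_ok m_G1_ok le_top le_top (by decide : 11 < 12) m_1_fix m_card2.le (by decide +kernel)

noncomputable def m_1_l : List ℕ := (appL (SL.words m_1_sl0) [])

theorem m_1_scs : SCs 12 m_E2 m_G1 (⟨11, by decide⟩ : Fin 12) m_1_l :=
  (SCs.append m_1_sc0 SCs.nil)

noncomputable def m_1_rl0_0 : RL := (RL.cons (nat_lit 0) (nat_lit 11) (nat_lit 0) (nat_lit 257) (nat_lit 1) (nat_lit 0xc050101) (RL.cons (nat_lit 1) (nat_lit 1) (nat_lit 0) (nat_lit 0) (nat_lit 0) (nat_lit 0) (RL.cons (nat_lit 1) (nat_lit 4) (nat_lit 1) (nat_lit 261) (nat_lit 1) (nat_lit 0x90c050a0107) RL.nil)))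

theorem m_1_good0_0 : GoodSet 12 m_E2 m_G1 (⟨11, by decide⟩ : Fin 12) m_1_ts (nat_lit 1) (RL.pts m_1_rl0_0) :=
  goodSet_of_ok m_hn (det_lab m_hk ⊤) m_E2_ok m_G1_ok le_top le_top (by decide : 11 < 12) (sepAt_lab m_hk _) (by decide +kernel)

theorem m_1_step0 : Step 12 m_E2 m_G1 m_1_ts (2 * 0 + 1) :=
  step_of_cover m_E2_ok m_1_dist (by decide +kernel) m_1_scs (by decide +kernel) m_1_good0_0 (kw := [nat_lit 5, nat_lit 7, nat_lit 9, nat_lit 11, nat_lit 13])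
    (conj_mem_of_scs m_E2_ok m_G1_ok (by decide : 11 < 12) m_1_scs (c := 0) (d := 1) (by decide +kernel)) (by decide +kernel)

theorem m_1_lev : grp 12 m_G1 ⊓ MulAction.stabilizer (Equiv.Perm (Fin 12)) (⟨11, by decide⟩ : Fin 12) = grp 12 m_E2 :=
  sims_level (gs := m_V16) rfl (by decide) m_1_fix m_1_dist (forall_lt_one m_1_step0)

theorem m_1_cardG : Nat.card (grp 12 m_G1) = 7920 :=
  card_of_level m_hn m_G1_ok (by decide : 11 < 12) m_1_lev m_card2 (m := 11) (by decide +kernel)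

theorem m_le43 : grp 12 m_E1 ≤ grp 12 m_G1 :=
  grp_le_of_memB m_hn m_hk m_G1_ok m_E1_ok (ws := [nat_lit 1, nat_lit 0xb070d0303, nat_lit 0xe090302, nat_lit 3, nat_lit 5, nat_lit 7, nat_lit 9, nat_lit 11, nat_lit 13, nat_lit 15]) (by decide +kernel)

theorem m_le44 : grp 12 m_G1 ≤ grp 12 m_E1 :=
  grp_le_of_memB m_hn m_hk m_E1_ok m_G1_ok (ws := [nat_lit 1, nat_lit 7, nat_lit 9, nat_lit 11, nat_lit 13, nat_lit 15, nat_lit 17, nat_lit 19]) (by decide +kernel)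

theorem m_1_eq : grp 12 m_E1 = grp 12 m_G1 :=
  le_antisymm m_le43 m_le44

theorem m_card1 : Nat.card (grp 12 m_E1) = 7920 :=
  by rw [m_1_eq]; exact m_1_cardG

theorem m_stab1 : grp 12 m_E1 ⊓ MulAction.stabilizer (Equiv.Perm (Fin 12)) (⟨11, by decide⟩ : Fin 12) = grp 12 m_E2 :=
  by rw [m_1_eq]; exact m_1_lev

theorem m_leO1 : grp 12 m_E1 ≤ grp 12 m_O :=
  m_1_eq.le.trans (grp_cons_le ((m_le14.trans (le_refl (grp 12 m_O))) (m_le17 (toPerm_mem_grp (E := m_V16) (by simp [m_V16])))) m_leO2)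

theorem m_0_fix : grp 12 m_E1 ≤ MulAction.stabilizer (Equiv.Perm (Fin 12)) (⟨0, by decide⟩ : Fin 12) :=
  grp_le_stab m_E1_ok (by decide : 0 < 12) (by decide +kernel)

noncomputable def m_0_ts : List ℕ := [nat_lit 0, nat_lit 1]

noncomputable def m_0_ds : List ℕ := [nat_lit 0, nat_lit 11]

theorem m_0_dist : Dist 12 m_E1 m_G0 (⟨0, by decide⟩ : Fin 12) m_0_ts m_0_ds :=
  dist_of_distB (k := 1) m_hn m_E1_ok m_G0_ok (by decide : 0 < 12) (by decide +kernel)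

noncomputable def m_0_sl0 : SL := (SL.cons (nat_lit 1) (nat_lit 11) (Ch.cons (nat_lit 1) [nat_lit 7, nat_lit 9] (Ch.cons (nat_lit 4) [nat_lit 11, nat_lit 13] (Ch.cons (nat_lit 9) [nat_lit 15, nat_lit 17, nat_lit 19] Ch.nil))) [nat_lit 0xf120d070d, nat_lit 9, nat_lit 788237, nat_lit 0xf0f0b0e0808, nat_lit 0xf110b110810, nat_lit 0xb0b0709, nat_lit 0xf120b0d0707] SL.nil)

theorem m_0_sc0 : SCs 12 m_E1 m_G0 (⟨0, by decide⟩ : Fin 12) (SL.words m_0_sl0) :=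
  scs_of_ok m_hn (det_lab m_hk ⊤) m_E1_ok m_G0_ok le_top le_top (by decide : 0 < 12) m_0_fix m_card1.le (by decide +kernel)

noncomputable def m_0_l : List ℕ := (appL (SL.words m_0_sl0) [])

theorem m_0_scs : SCs 12 m_E1 m_G0 (⟨0, by decide⟩ : Fin 12) m_0_l :=
  (SCs.append m_0_sc0 SCs.nil)

noncomputable def m_0_rl0_0 : RL := (RL.cons (nat_lit 0) (nat_lit 0) (nat_lit 0) (nat_lit 0) (nat_lit 1) (nat_lit 0) (RL.cons (nat_lit 1) (nat_lit 11) (nat_lit 0) (nat_lit 0) (nat_lit 0) (nat_lit 0) (RL.cons (nat_lit 1) (nat_lit 1) (nat_lit 1) (nat_lit 265) (nat_lit 1) (nat_lit 0xf120c070104) RL.nil)))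

theorem m_0_good0_0 : GoodSet 12 m_E1 m_G0 (⟨0, by decide⟩ : Fin 12) m_0_ts (nat_lit 1) (RL.pts m_0_rl0_0) :=
  goodSet_of_ok m_hn (det_lab m_hk ⊤) m_E1_ok m_G0_ok le_top le_top (by decide : 0 < 12) (sepAt_lab m_hk _) (by decide +kernel)

theorem m_0_step0 : Step 12 m_E1 m_G0 m_0_ts (2 * 0 + 1) :=
  step_of_cover m_E1_ok m_0_dist (by decide +kernel) m_0_scs (by decide +kernel) m_0_good0_0 (kw := [nat_lit 7, nat_lit 9, nat_lit 11, nat_lit 13, nat_lit 15, nat_lit 17, nat_lit 19])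
    (conj_mem_of_scs m_E1_ok m_G0_ok (by decide : 0 < 12) m_0_scs (c := 0) (d := 11) (by decide +kernel)) (by decide +kernel)

theorem m_0_lev : grp 12 m_G0 ⊓ MulAction.stabilizer (Equiv.Perm (Fin 12)) (⟨0, by decide⟩ : Fin 12) = grp 12 m_E1 :=
  sims_level (gs := m_V9) rfl (by decide) m_0_fix m_0_dist (forall_lt_one m_0_step0)

theorem m_0_cardG : Nat.card (grp 12 m_G0) = 95040 :=
  card_of_level m_hn m_G0_ok (by decide : 0 < 12) m_0_lev m_card1 (m := 12) (by decide +kernel)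

theorem m_le45 : grp 12 m_E0 ≤ grp 12 m_G0 :=
  grp_le_of_memB m_hn m_hk m_G0_ok m_E0_ok (ws := [nat_lit 1, nat_lit 0x140d1004010301, nat_lit 5135, nat_lit 0x140e090d030104, nat_lit 0x140f0b, nat_lit 0x110d13090904010306, nat_lit 0xe0b04010410, nat_lit 0x140d0d0a, nat_lit 3, nat_lit 5, nat_lit 7, nat_lit 9, nat_lit 11, nat_lit 13, nat_lit 15, nat_lit 17, nat_lit 19, nat_lit 21]) (by decide +kernel)

theorem m_le46 : grp 12 m_G0 ≤ grp 12 m_E0 :=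
  grp_le_of_memB m_hn m_hk m_E0_ok m_G0_ok (ws := [nat_lit 1, nat_lit 17, nat_lit 19, nat_lit 21, nat_lit 23, nat_lit 25, nat_lit 27, nat_lit 29, nat_lit 31, nat_lit 33, nat_lit 35]) (by decide +kernel)

theorem m_0_eq : grp 12 m_E0 = grp 12 m_G0 :=
  le_antisymm m_le45 m_le46

theorem m_card0 : Nat.card (grp 12 m_E0) = 95040 :=
  by rw [m_0_eq]; exact m_0_cardG

theorem m_stab0 : grp 12 m_E0 ⊓ MulAction.stabilizer (Equiv.Perm (Fin 12)) (⟨0, by decide⟩ : Fin 12) = grp 12 m_E1 :=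
  by rw [m_0_eq]; exact m_0_lev

theorem m_leO0 : grp 12 m_E0 ≤ grp 12 m_O :=
  m_0_eq.le.trans (grp_cons_le ((le_refl (grp 12 m_O)) (m_le10 (toPerm_mem_grp (E := m_V9) (by simp [m_V9])))) m_leO1)

theorem m_le47 : grp 12 m_O ≤ grp 12 m_E0 :=
  grp_le_of_memB m_hn m_hk m_E0_ok m_O_ok (ws := [nat_lit 1, nat_lit 3, nat_lit 5, nat_lit 7, nat_lit 9, nat_lit 11, nat_lit 13, nat_lit 15]) (by decide +kernel)

theorem m_eq : grp 12 m_O = grp 12 m_E0 :=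
  le_antisymm m_le47 m_leO0

theorem m_card : Nat.card (grp 12 m_O) = 95040 :=
  by rw [m_eq]; exact m_card0

noncomputable def m_ch : Ch := (Ch.cons (nat_lit 0) [nat_lit 1, nat_lit 3, nat_lit 5, nat_lit 7, nat_lit 9, nat_lit 11, nat_lit 13, nat_lit 15] (Ch.cons (nat_lit 11) [nat_lit 17, nat_lit 19, nat_lit 21] (Ch.cons (nat_lit 1) [nat_lit 23, nat_lit 25] (Ch.cons (nat_lit 4) [nat_lit 27, nat_lit 29] (Ch.cons (nat_lit 9) [nat_lit 31, nat_lit 33, nat_lit 35] Ch.nil)))))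

theorem m_exact : Ch.Exact 12 m_E0 m_ch (grp 12 m_E0) :=
  Ch.exact (k := 4) (L := (lab 12 4)) m_hn m_E0_ok (by decide +kernel) (wgrp_le_grp _ _ _) m_card0.le

theorem raw1 : Raw2 1 :=
  raw 4095 3 m_hn m_hk m_O_ok m_card (by decide) (by decide +kernel) (by decide +kernel)
    (by decide +kernel) (by decide +kernel) (fun _ => by decide +kernel)

end Cfsg.Agent.H55.G2Raw1
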