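import Mathlib
import Cfsg.Agent.H55.G2RawKit

set_option autoImplicit false
set_option maxRecDepth 200000
set_option linter.style.longLine false

namespace Cfsg.Agent.H55.G2Raw3

open Cfsg.Agent.H43 Cfsg.Agent.H97.G2 Cfsg.Agent.H55.G2Raw

theorem c_hn : NOk 351 := by decide

theorem c_hk : 351 ≤ 2 ^ 9 := by decide

noncomputable def c_g1 : Net := (Net.cons (nat_lit 1) (nat_lit 0x1004050551540515500511540105004401400415405401441055401411501140450415404041041505104410) (Net.cons (nat_lit 2) (nat_lit 0x111000202202130013033232112123220013330200321133012301203221030000013120320020022312222) (Net.cons (nat_lit 4) (nat_lit 0x103030b0708060f07090c0e0a0108080501080407000c060d04000e090102090a0001090304030f03020900) (Net.cons (nat_lit 8) (nat_lit 0x110017002700c600ce001e000f004000f0006000600013002100a60048007500e000f8002700d200b30000) (Net.cons (nat_lit 16) (nat_lit 0x4a03000037430000046c0000c6230000dd300000403400002401000001090000ad660000018100000000) (Net.cons (nat_lit 32) (nat_lit 0x823b398f000000005e44df1c00000000b478183e00000000457064680000000040160830)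 (Net.cons (nat_lit 64) (nat_lit 0x10c380a000000000000000018241a124e8c1408000000000000000014a5ea8480000000) (Net.cons (nat_lit 128) (nat_lit 0x4ed4bafc352a01f52a1af92190e1081) (Net.cons (nat_lit 256) (nat_lit 0x4bdfa23ff7e7ffdfbd1e18bf) (Net.cons (nat_lit 128) (nat_lit 0x6c6b3ed60ba15ebbe1f6ba1c) (Net.cons (nat_lit 64) (nat_lit 0x90634ef0000000000000000b3629257cfe6daee0000000000000000d5e9529c0178b668) (Net.cons (nat_lit 32) (nat_lit 0xd2eb391000000005f07cfdb00000000b538307200000000d5330c70000000005f8a70f9) (Net.cons (nat_lit 16) (nat_lit 0x60160000b93000002ee00000ceac000003e10000b02600003a150000934c0000f7670000d802000069dd) (Net.cons (nat_lit 8) (nat_lit 0x5008f007c00c700de00c2009b005800ab0075006b0003003500b20048007c00b400f5003b008300ee0085) (Net.cons (nat_lit 4) (nat_lit 0x1030f030a0d0a0a0e08050702010a05000c0d080e05010b090c080e080807080a00080c0701020a0f0f0d09) (Net.cons (nat_lit 2) (nat_lit 0x100202203130013033332002122320012330201321132013301203221021101013121320021022312323) (Net.cons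 (nat_lit 1) (nat_lit 0x1004050551541515500511540105005401400415405401441055401411501140450415004041441505104410) Net.nil)))))))))))))))))

theorem c_g1_ok : Net.ok 351 c_g1 = true := by decide +kernel

noncomputable def c_g2 : Net := (Net.cons (nat_lit 1) (nat_lit 0x440001544110040455444540150050514550440444515510114455104450511500015011040504440444054) (Net.cons (nat_lit 2) (nat_lit 0x201121302211013110312212113002112230013002112201001020033003110203131303202000120221000) (Net.cons (nat_lit 4) (nat_lit 0x309060d0f02000e07090f04060c0c090209080e060d02080a090d0001000c040e0e0b0e0b03050c0c0c0100) (Net.cons (nat_lit 8) (nat_lit 0xe00d900a2005a00f0009900c1002c00f2006400580040007a000000ab00860002009a0082000e00920000) (Net.cons (nat_lit 16) (nat_lit 0x78880000dc1a0000448d0000696b000001500000819400000020000041040000420d0000061800000000) (Net.cons (nat_lit 32) (nat_lit 0x43d70100000000067953e7b00000000028000060000000020d5a4010000000000000000) (Net.cons (nat_lit 64) (nat_lit 0x6212449400000000000000000680000a8000000000000000000000000000000000000000)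 (Net.cons (nat_lit 128) (nat_lit 0x20000018e5fa1bb7b5bcebeaba0584) (Net.cons (nat_lit 256) (nat_lit 0x18e5fa1bb7b5bcebeaba0584) (Net.cons (nat_lit 128) (nat_lit 0x18e5fa1bb7b5bcebeaba0584) (Net.cons (nat_lit 64) (nat_lit 0x6a334594000000000000000083c80d1a623438630000000000000000d84b8992789c3f5d) (Net.cons (nat_lit 32) (nat_lit 0xd925771400000000afdf3afb00000000828801060000000022dd25c00000000006684050) (Net.cons (nat_lit 16) (nat_lit 0x57d90000d11a0000d9450000522b0000340d0000de9e000066fd0000411400005a4f0000256c00009850) (Net.cons (nat_lit 8) (nat_lit 0x1a009a00ab0046006e00110096006500ee0068005200da002700ce00ff00060096003e001a009f00930015) (Net.cons (nat_lit 4) (nat_lit 0x204030d0f06020f07090f0603090d0d020d0a0e070d02090b040c0901090d020e0e0a0e0209040f0c0e0007) (Net.cons (nat_lit 2) (nat_lit 0x301121212211013111312212113003103221103112112201003100233003111312031303202000120221101) (Net.cons (nat_lit 1) (nat_lit 0x440001544110040455444540150050514550440444515510114455104450511500015011040504440444054)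 Net.nil)))))))))))))))))

theorem c_g2_ok : Net.ok 351 c_g2 = true := by decide +kernel

noncomputable def c_g3 : Net := (Net.cons (nat_lit 1) (nat_lit 0x1154445404051004444145141000044011405045145041510541154444010105541111450004540050000100) (Net.cons (nat_lit 2) (nat_lit 0x31113210303220311130131210300111020233030100333211130223212122331301022211231213032100) (Net.cons (nat_lit 4) (nat_lit 0x10d030901040202090f0005070e0f0502060a000e0c0b0b0402020601030502050504060704050500040800) (Net.cons (nat_lit 8) (nat_lit 0x5200130030009800cc002d0000002700c500c5003a00d20048005f00070039007a009e00e5003700a50000) (Net.cons (nat_lit 16) (nat_lit 0x1c5b00000d38000059550000cd66000088100000ed7a00006a8a000088ab000089180000c15000000000) (Net.cons (nat_lit 32) (nat_lit 0x45393d8800000000aa159021000000002086e58c00000000d208308b0000000012802610) (Net.cons (nat_lit 64) (nat_lit 0x5214780000000000000000041609440108580600000000000000001052031200000000) (Net.cons (nat_lit 128) (nat_lit 0x9ed4672218c356655a8a6a67a820090a)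 (Net.cons (nat_lit 256) (nat_lit 0x5ec3d77d7aff6ffffbfb591f) (Net.cons (nat_lit 128) (nat_lit 0x2d5ec83abae83a57eea5bea7) (Net.cons (nat_lit 64) (nat_lit 0x35c632e5000000000000000058522ed030bad25c000000000000000027d0010398b3128d) (Net.cons (nat_lit 32) (nat_lit 0x3f58ddbd000000009831b045000000004ef7ef91000000005b45986900000000e591f440) (Net.cons (nat_lit 16) (nat_lit 0x386a0000214b000048270000f90e0000e65500005c3800005dd60000357b0000074d00005a6000009390) (Net.cons (nat_lit 8) (nat_lit 0x5200000019009a00fe001d0091005500e500e50001007000110006002700a2007a004b00e70046008700b3) (Net.cons (nat_lit 4) (nat_lit 0xc0008020e03030a0f0206040f0e05020d08030c0c080b0205030d0a02050306060b000401040502050b03) (Net.cons (nat_lit 2) (nat_lit 0x231313310303220311130131210300111120213030012333311310201213120131332302231231211232101) (Net.cons (nat_lit 1) (nat_lit 0x1154445404051004444045141000044011405045145041510551154444011105541151450014540050000100) Net.nil)))))))))))))))))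

theorem c_g3_ok : Net.ok 351 c_g3 = true := by decide +kernel

noncomputable def c_g4 : Net := (Net.cons (nat_lit 1) (nat_lit 0x1410051551054154415045515044551105110044404514001410154044140140405445404545155044101000) (Net.cons (nat_lit 2) (nat_lit 0x121233033331101033100201220012123103220333322003121331311202220230120031002032210202000) (Net.cons (nat_lit 4) (nat_lit 0x3040e0c000e060b0a0204060b0504000b0d0b08070a0e0d030f0a05000d000d080d0d050a0a0308000e0000) (Net.cons (nat_lit 8) (nat_lit 0x530059003000ac001a009c0057005900cb0061002300a200660005001f0045009300000028002000020000) (Net.cons (nat_lit 16) (nat_lit 0x5d3f0000f78e0000e614000092a100002cc90000d173000098980000cf8f000016020000c00a00000000) (Net.cons (nat_lit 32) (nat_lit 0xac75ab040000000083b27a600000000094552f180000000042000a320000000002a62082) (Net.cons (nat_lit 64) (nat_lit 0x5886662300000000000000001334410308c0c00c000000000000000022216c8000000000) (Net.cons (nat_lit 128) (nat_lit 0x6334f0338227dc01503050a390012b9e) (Net.cons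 (nat_lit 256) (nat_lit 0x2f2ffcf3f67ffebbf2b9fbdf) (Net.cons (nat_lit 128) (nat_lit 0x6356829338717d59cc81f220) (Net.cons (nat_lit 64) (nat_lit 0x40000ce300000000000000003c0908d7607cb6a00000000000000000a66361e748444672) (Net.cons (nat_lit 32) (nat_lit 0xa4f3432e00000000aaaf62f4000000009c0f028200000000d8d7a2c8000000006983acbc) (Net.cons (nat_lit 16) (nat_lit 0x54af0000dff80000b173000002760000de0e0000a7360000bd390000409b0000be220000868200002006) (Net.cons (nat_lit 8) (nat_lit 0x43007a000f0093006a006e0060007800610086008200df005300200078006600b600a20090002900e00036) (Net.cons (nat_lit 4) (nat_lit 0x1050f000d060b0a0a0e08040a050401070d020902080209030e0a0704030d0c0a0c05050206090e040a0100) (Net.cons (nat_lit 2) (nat_lit 0x121232122231000132100311220012122002331222322103121331311202320230120121002133200303000) (Net.cons (nat_lit 1) (nat_lit 0x1450051551454154415045115044551105100044404514011410154054540140405445404545155044101000) Net.nil)))))))))))))))))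

theorem c_g4_ok : Net.ok 351 c_g4 = true := by decide +kernel

noncomputable def c_g5 : Net := (Net.cons (nat_lit 1) (nat_lit 0x514045144500014510410551540145144501010000041545010151001001041411544110011051544045110) (Net.cons (nat_lit 2) (nat_lit 0x1033021321020003301002120202221100123020302213333213321122103123000213301120302223001020) (Net.cons (nat_lit 4) (nat_lit 0x302060e000c0a090700010a000b0c0e0f0c0108030d00000a030c080204060006010b090403060305000808) (Net.cons (nat_lit 8) (nat_lit 0x680003003500dc0069005d004e00c8008700f80064000d00c600970019000a00ca008a00a20029002c0000) (Net.cons (nat_lit 16) (nat_lit 0x2d3200003b560000add7000084e70000cc08000028a800000a860000c0060000b5f20000443500000000) (Net.cons (nat_lit 32) (nat_lit 0x314bd5830000000001c8c813000000006054b62b000000001a9196050000000014cae282) (Net.cons (nat_lit 64) (nat_lit 0x543bb3500000000000000008ce14255457240a400000000000000004108481980000000) (Net.cons (nat_lit 128) (nat_lit 0xaa8397c60900084a8bc641244c03261b) (Net.cons (nat_lit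 256) (nat_lit 0x4b8abfcedfdfcfbdeccf7e3b) (Net.cons (nat_lit 128) (nat_lit 0x30de2e6e666e00bf822150d2) (Net.cons (nat_lit 64) (nat_lit 0x501555f000000000000000006cadb2c6c0206ea500000000000000007dd474fbc50b3a0e) (Net.cons (nat_lit 32) (nat_lit 0xfd86a8d0000000004414852b0000000028286eaa0000000086b90ac8000000001b4dbf96) (Net.cons (nat_lit 16) (nat_lit 0x653a00003b56000065f900009076000054090000e8260000db93000099830000b1bb0000453100000588) (Net.cons (nat_lit 8) (nat_lit 0x2000ee00e4005500b100d200470055000a00b000f900cf004a009d008c00920007000e0079002d002a0095) (Net.cons (nat_lit 4) (nat_lit 0x30f070e010f0f090703050b010e0d0b0e010009030e04010b020d09030d070406010a0c05060f0200000d09) (Net.cons (nat_lit 2) (nat_lit 0x1033021321030003300012120212221100123020213213233212321122103122011213311120303223011020) (Net.cons (nat_lit 1) (nat_lit 0x514045144500014510410555540145144501010000041545010151001001041411544110011051544045110) Net.nil)))))))))))))))))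

theorem c_g5_ok : Net.ok 351 c_g5 = true := by decide +kernel

noncomputable def c_g6 : Net := (Net.cons (nat_lit 1) (nat_lit 0x1541054510041454411045405511111400515510151415501441514440500510001015514100001404400) (Net.cons (nat_lit 2) (nat_lit 0x1110333231212032013320313230032313021002213001023300223330003311003002112023301312232030) (Net.cons (nat_lit 4) (nat_lit 0x60d0502080c060c070e080301050d0d020c01070b07040a060e0b0400090c00040e060c0306010a00040000) (Net.cons (nat_lit 8) (nat_lit 0x2300f000890065009b00a5007700d90032001a007f00700088001f0046009e001100370070004d004e0000) (Net.cons (nat_lit 16) (nat_lit 0x42d000004c9a000058d70000e32d00005bb70000c0ba00001e9000001e82000047720000962200000000) (Net.cons (nat_lit 32) (nat_lit 0x8f0f45f3000000002cb16392000000006b398a8b00000000a568483f0000000015410200) (Net.cons (nat_lit 64) (nat_lit 0x646f46d000000000000000005bb743c5202bc040000000000000000c48a640d00000000) (Net.cons (nat_lit 128) (nat_lit 0xa3e63cc972044fb2144b4a4720028058) (Net.cons (nat_lit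 256) (nat_lit 0x7fe5eff7d5cffe7ffce2ded8) (Net.cons (nat_lit 128) (nat_lit 0x36c63d6858128bf13a16c89e) (Net.cons (nat_lit 64) (nat_lit 0x689e37060000000000000000f17778b82ea5c024000000000000000092c8f3160f0ffdeb) (Net.cons (nat_lit 32) (nat_lit 0xdb12b0f000000000b3b1a30a00000000a533890800000000f72db3ac000000000202c61b) (Net.cons (nat_lit 16) (nat_lit 0x105800005ef00000215c000017330000bff50000cef4000045d400008785000022700000ef0a000001c2) (Net.cons (nat_lit 8) (nat_lit 0x12002a0085004b005600e0000b004100530092002500fd00400072003300b7009c0073004f00e5000a00f0) (Net.cons (nat_lit 4) (nat_lit 0x40e0203050a090b080b070607020d09040c0f020f050404020205000a0e0a090b0f0e0c0602040e05040d0a) (Net.cons (nat_lit 2) (nat_lit 0x1010213231210012113230313211032311021303203100002200321330003311023022202203300213222020) (Net.cons (nat_lit 1) (nat_lit 0x101441454515041454410041405511111500015110151515101545555450500410041515404500001404500) Net.nil)))))))))))))))))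

theorem c_g6_ok : Net.ok 351 c_g6 = true := by decide +kernel

noncomputable def c_g7 : Net := (Net.cons (nat_lit 1) (nat_lit 0x544415455541504540101110100141445151505040541015404555414514545540104111045051054005100) (Net.cons (nat_lit 2) (nat_lit 0x1022030033123200022021313010200000102130133221022030201321203220120220112002232001310200) (Net.cons (nat_lit 4) (nat_lit 0x4050a0d0d08090a0a0202080e0b050100050f0c0002010d0e0d0a040700060f01020608010a010b03020b00) (Net.cons (nat_lit 8) (nat_lit 0x1f008700ea007d0044008b00b6006a0008007b007a00c4004100ef00f5004d0031005d0053006e00180000) (Net.cons (nat_lit 16) (nat_lit 0x1b2a0000fa8e0000ede90000554500008ac80000629900006258000020f5000023640000476900000000) (Net.cons (nat_lit 32) (nat_lit 0x70320265000000008ec00be300000000c9a4e66d0000000081d726200000000035805462) (Net.cons (nat_lit 64) (nat_lit 0x1c0033200000000000000000a83ea4210ac0633000000000000000004059009000000000) (Net.cons (nat_lit 128) (nat_lit 0xb58df351c942e5c28a18eebe018112e4) (Net.cons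 (nat_lit 256) (nat_lit 0x4ddff7f6df79ffff759553ee) (Net.cons (nat_lit 128) (nat_lit 0x45ca6be619eaa27e63dabc99) (Net.cons (nat_lit 64) (nat_lit 0x7ca239e500000000000000000475b41fc462601d0000000000000000344f2e26014024a6) (Net.cons (nat_lit 32) (nat_lit 0x75aec20f0000000046c2cf8b0000000072b0c95d0000000027e514b20000000077f37ae1) (Net.cons (nat_lit 16) (nat_lit 0x5b380000325c0000ca9a0000905400006c830000b60a000067e6000056070000ab760000a77000000403) (Net.cons (nat_lit 8) (nat_lit 0x3f00c7002e0037000500b500d300e2005800fb007e008d000400eb00bf002f0097007b00bd002c00930048) (Net.cons (nat_lit 4) (nat_lit 0x6070001050209040909080e0c0c0f0b0a0d03060c0802070d070006050204050b08000b0b0009090c0c010a) (Net.cons (nat_lit 2) (nat_lit 0x1022210033123000032131013030230000102130133221022030221321303220121220112002212000210200) (Net.cons (nat_lit 1) (nat_lit 0x544415455541104554101010100041445151505040541015404555414514545540104511045451054015100) Net.nil)))))))))))))))))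

theorem c_g7_ok : Net.ok 351 c_g7 = true := by decide +kernel

noncomputable def c_g8 : Net := (Net.cons (nat_lit 1) (nat_lit 0x1450540504101005405454445101055010405555054011051514414414154100044155554440441040051410) (Net.cons (nat_lit 2) (nat_lit 0x1121321201012000030233323331003033300301011212112101230210213231122121021003222220112000) (Net.cons (nat_lit 4) (nat_lit 0x20c0d0509000d0c01090c0707030b0e0b000e0e060201030a0005040800000c0607070602080d0904000000) (Net.cons (nat_lit 8) (nat_lit 0x4200b100b6006c00a100c900b900930092002c009800210063003e000400fc00dc00bc009a00e100040000) (Net.cons (nat_lit 16) (nat_lit 0x71ad000068f600001eeb000030a1000020780000871b000019930000702c000020e00000185100000000) (Net.cons (nat_lit 32) (nat_lit 0xdd65a5e3000000004a4c23820000000040209ca400000000205d1074000000000c950900) (Net.cons (nat_lit 64) (nat_lit 0x541a2029000000000000000003e081085eeac5f600000000000000004bb2a68c00000000) (Net.cons (nat_lit 128) (nat_lit 0x6522bfc59760a9440176c505699a5401) (Net.cons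 (nat_lit 256) (nat_lit 0x5fefbf74cff6e7dff99a554d) (Net.cons (nat_lit 128) (nat_lit 0x7cbff929e3abc64ca4b5c19a) (Net.cons (nat_lit 64) (nat_lit 0x1b270d530000000000000000ade04ab702ef65da000000000000000083e9e61428a91c29) (Net.cons (nat_lit 32) (nat_lit 0x58a7a32a000000002e8196930000000013187ef000000000b69da1ed00000000fcf4e11c) (Net.cons (nat_lit 16) (nat_lit 0x1e540000cd180000680200008b5a0000725500006f600000a45f00002a4e000010350000ad5900003e2f) (Net.cons (nat_lit 8) (nat_lit 0x2d004f0010008700b600f3006a00ee006400fe00e100a10052003c0061000b0042006d0099005b00db00aa) (Net.cons (nat_lit 4) (nat_lit 0x10c0a080a0d0e0e0b09060e01050d070c060502050b040b0507090e090903000f0e020c0a0206010d000c06) (Net.cons (nat_lit 2) (nat_lit 0x212130113330200220002320120012102310012113100321103030101132313301232021221311030032120) (Net.cons (nat_lit 1) (nat_lit 0x14155054440510005545105550400040554440550554104114501104114550040054541100004544451104) Net.nil)))))))))))))))))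

theorem c_g8_ok : Net.ok 351 c_g8 = true := by decide +kernel

noncomputable def c_g9 : Net := (Net.cons (nat_lit 1) (nat_lit 0x1141151444440550405404114510114405004105040515005155154415015145010045540050451415001004) (Net.cons (nat_lit 2) (nat_lit 0x123311023023121103300011220023111022121120033302230200030310111312223130123120101002000) (Net.cons (nat_lit 4) (nat_lit 0x50100040a070d08050a0f0e0a04090604050c080e040f0e090c0f0d0e0c0700090e0f070309000901080400) (Net.cons (nat_lit 8) (nat_lit 0x4e00b60007000200ae00c3006a00b7001c0085002300c400cd006100c100dd005300d200b000ee00040080) (Net.cons (nat_lit 16) (nat_lit 0x7c300000000500009168000016e70000d2d20000cea200002dd000008914000018740000831000000000) (Net.cons (nat_lit 32) (nat_lit 0xb2a792db0000000040bd22b800000000c422aa6200000000a92a86960000000010046000) (Net.cons (nat_lit 64) (nat_lit 0x33a484080000000000000000c8602c108136c34000000000000000001e842f3280000000) (Net.cons (nat_lit 128) (nat_lit 0x1a63689f228200c4196099871c0c4d08) (Net.cons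 (nat_lit 256) (nat_lit 0x66c3eadf5fe6ffff9d2f7de8) (Net.cons (nat_lit 128) (nat_lit 0x22724e2cdd93dc4ab581d835) (Net.cons (nat_lit 64) (nat_lit 0x82c688a0000000000000000b46a28032545bce10000000000000000c99678bceefdb666) (Net.cons (nat_lit 32) (nat_lit 0x133a4b7100000000bcb45d8800000000836bf86400000000e76164cb00000000c470e8c5) (Net.cons (nat_lit 16) (nat_lit 0x3c580000e15e000045ae00009aa400007bf90000855a0000360900009d3a000050780000a117000009f0) (Net.cons (nat_lit 8) (nat_lit 0x4500dc005d002a00f30020004400eb00bd008700420068004c009d0037006f00720062009000f500e900a7) (Net.cons (nat_lit 4) (nat_lit 0x50a06050b030a050d050c0d0a040e0201040d0f0d05070a01040902080e0c0a05000701070b0f0a04020b0e) (Net.cons (nat_lit 2) (nat_lit 0x3333322232030220321230122210002031001012313230231231123230121032323111021233112013230) (Net.cons (nat_lit 1) (nat_lit 0x140554450151550455415001010550144111155551405551005140110545455105500014540545510451040) Net.nil)))))))))))))))))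

theorem c_g9_ok : Net.ok 351 c_g9 = true := by decide +kernel

noncomputable def c_O : List Net := [c_g1, c_g2, c_g3, c_g4, c_g5, c_g6, c_g7, c_g8, c_g9]

theorem c_O_ok : okE 351 c_O = true := (okE_cons.2 ⟨c_g1_ok, (okE_cons.2 ⟨c_g2_ok, (okE_cons.2 ⟨c_g3_ok, (okE_cons.2 ⟨c_g4_ok, (okE_cons.2 ⟨c_g5_ok, (okE_cons.2 ⟨c_g6_ok, (okE_cons.2 ⟨c_g7_ok, (okE_cons.2 ⟨c_g8_ok, (okE_cons.2 ⟨c_g9_ok, (okE_nil 351)⟩)⟩)⟩)⟩)⟩)⟩)⟩)⟩)⟩)

noncomputable def c_g10 : Net := (Net.cons (nat_lit 1) (nat_lit 0x544054455415551440101005110145051544511505444111155551440551541004011045440040504000440) (Net.cons (nat_lit 2) (nat_lit 0x1132303111301220210010032221320031000132203213102012002002333311233300221102023323220010) (Net.cons (nat_lit 4) (nat_lit 0x60f0a0d02030406010d0400060601020d0b0f0d0f0c0100020d000e03040d050b050a0c02060302020808) (Net.cons (nat_lit 8) (nat_lit 0x5d005400c7008200e0004100950066001000b7002e00fb0038008000a7006a00950090005d005000290080) (Net.cons (nat_lit 16) (nat_lit 0x11ce000035ac0000be260000952a0000df020000020200004166000014a70000d3880000907400000000)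 (Net.cons (nat_lit 32) (nat_lit 0x3b04b12f00000000afa0ee0d00000000193e8f38000000000f3e2e600000000010000834) (Net.cons (nat_lit 64) (nat_lit 0x6f3c1d200000000000000000194e504e226658500000000000000000d0a009900000000) (Net.cons (nat_lit 128) (nat_lit 0x853f7ecc8168db1ac519e2d0a21228c5) (Net.cons (nat_lit 256) (nat_lit 0x968fb3fcfbbebfdb6f37ffd) (Net.cons (nat_lit 128) (nat_lit 0x34933aab25f8c1e17866efde) (Net.cons (nat_lit 64) (nat_lit 0x726d757c000000000000000049d0474643ad96db00000000000000009bab1ac61df9e633) (Net.cons (nat_lit 32) (nat_lit 0x7936c92600000000354b6d3800000000a8915d3c00000000fac0009700000000cf9304d8) (Net.cons (nat_lit 16) (nat_lit 0x4884000016e90000b4b50000c7ef00007ac4000035ab000009fe0000e13c00001ba800003bc00000a437) (Net.cons (nat_lit 8) (nat_lit 0x36000a00cd002200920099009f008300f700a5005700850029001300140055002e006200b900b100530001) (Net.cons (nat_lit 4) (nat_lit 0x10500070a000c060c0203010105010c010206040b09030b0e0d0d040d06010d040b000f070b000a05070608) (Net.cons (nat_lit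 2) (nat_lit 0x1310013033313301032223221131131223331032302312212323132203010103312202320100012222232202) (Net.cons (nat_lit 1) (nat_lit 0x1441141155540011551040040150104115410001404155015151155015451045455550105414104510510440) Net.nil)))))))))))))))))

theorem c_g10_ok : Net.ok 351 c_g10 = true := by decide +kernel

noncomputable def c_V11 : List Net := [c_g10]

theorem c_V11_ok : okE 351 c_V11 = true := (okE_cons.2 ⟨c_g10_ok, (okE_nil 351)⟩)

noncomputable def c_g13 : Net := (Net.cons (nat_lit 1) (nat_lit 0x404054540141041405404111545101000404004001014554144010050110110415011151004140011551001) (Net.cons (nat_lit 2) (nat_lit 0x1031121320333302313030102222202031113030301210003120102311113330013100121012001110230000) (Net.cons (nat_lit 4) (nat_lit 0x10b07020b03010e0004060704080f0c03080d0b0d0c040b060b090c04090a0a0d030e0b0f04000100) (Net.cons (nat_lit 8) (nat_lit 0xf00d2002b004d00be003100bf004900680095006800b800820071002d00f0004000aa004c005a00000000) (Net.cons (nat_lit 16) (nat_lit 0x55250000688700006f90000075980000c68c0000c8440000ad29000091390000efae00001a1400000000)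 (Net.cons (nat_lit 32) (nat_lit 0x343c07c1000000000eb8a703000000007f55d13000000000362413c7000000001a48c274) (Net.cons (nat_lit 64) (nat_lit 0x281e2410000000000000000018982097500ac80500000000000000003a1491c180000000) (Net.cons (nat_lit 128) (nat_lit 0x13a8c95f0e1c1b1481e806038e30f0c2) (Net.cons (nat_lit 256) (nat_lit 0xe3ddbd4bffe9fc3ffbffef7) (Net.cons (nat_lit 128) (nat_lit 0x2b4e44342c357a8351b1bd6b) (Net.cons (nat_lit 64) (nat_lit 0x71efcc2f0000000000000000bf0c15c233b5525500000000000000003b0630b73235a9ad) (Net.cons (nat_lit 32) (nat_lit 0x21d4fe21000000008b8478de00000000b354765500000000bc32d0ba000000000f9467d0) (Net.cons (nat_lit 16) (nat_lit 0x63380000e018000008520000a0a700004c5a00009c2a000080350000a3b10000e48f00005ab00000a934) (Net.cons (nat_lit 8) (nat_lit 0x26001100fb0046008f00be00dd0089009b0036006100da00cc003e0041008800b600f2000b00d900fe0029) (Net.cons (nat_lit 4) (nat_lit 0x70e0f0100000b0f070f0a0e060300030e0e03070805050001050c0a02010c070c0d08080b0b0b02050c0904) (Net.cons (nat_lit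 2) (nat_lit 0x111031232102302323130211313103100031001001112303220033112323330200030020012011300233031) (Net.cons (nat_lit 1) (nat_lit 0x51405014414041415541545510500140400001500004054054514114144005551445540545550054551505) Net.nil)))))))))))))))))

theorem c_g13_ok : Net.ok 351 c_g13 = true := by decide +kernel

noncomputable def c_g14 : Net := (Net.cons (nat_lit 1) (nat_lit 0x50541541150140400544050140140054151415154150411454155550000155054450041101100540500000) (Net.cons (nat_lit 2) (nat_lit 0x231030212120100033302112223011131303300130031002010110000120022010021121210333101330000) (Net.cons (nat_lit 4) (nat_lit 0x70a0a0c01060c040a05070b000c020f0200030b0204010c0d040404050f06040d080f0e0d000e0109030200) (Net.cons (nat_lit 8) (nat_lit 0x3002800fc009000280020001500610091008c00f900d000490089001e009b00100082001700c100520000) (Net.cons (nat_lit 16) (nat_lit 0x49990000c394000050550000ad00000007220000ee77000059c40000e9040000e8680000202700008000) (Net.cons (nat_lit 32) (nat_lit 0x133e338300000000bc6b3398000000004d648080000000004ca483c4000000001011b0c5)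 (Net.cons (nat_lit 64) (nat_lit 0x2d1d48000000000000000000247fa58c3b02052b000000000000000030806ab100000000) (Net.cons (nat_lit 128) (nat_lit 0x870cf9f6e000498526e22a0903f83042) (Net.cons (nat_lit 256) (nat_lit 0x770cdf977ef27fbb2bfbb0c3) (Net.cons (nat_lit 128) (nat_lit 0x59944199cd317c4aa64ebdb5) (Net.cons (nat_lit 64) (nat_lit 0x6c9d78d400000000000000009f64de505a122dbf00000000000000004ba02b6189c80817) (Net.cons (nat_lit 32) (nat_lit 0x4f03ccae00000000bc691f3e0000000085e4b04000000000f420c3830000000062b04e75) (Net.cons (nat_lit 16) (nat_lit 0x7909000095a8000072e90000af3000000bac000014e9000029300000bdfa0000b8fc0000ce780000b292) (Net.cons (nat_lit 8) (nat_lit 0x5b0068007200be003a00be00f700e3006a009100a900e7001b00cb001d00ff007000d300620094001f0082) (Net.cons (nat_lit 4) (nat_lit 0x70a0a0701090f0a0a040c02020e010c0b040e06020908060d040404050b01040d080c0703030301030e0002) (Net.cons (nat_lit 2) (nat_lit 0x231033120113301100021102323010213320102003110202010110003102322010001312120203123200000)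 (Net.cons (nat_lit 1) (nat_lit 0x50540411011415155540010154140541410140401510451454155555155415054454151050015550505104) Net.nil)))))))))))))))))

theorem c_g14_ok : Net.ok 351 c_g14 = true := by decide +kernel

noncomputable def c_g15 : Net := (Net.cons (nat_lit 1) (nat_lit 0x1510415554115055405544040005155415551014000554540401155104500100054505110401055454040111) (Net.cons (nat_lit 2) (nat_lit 0x200111232111210332302111012310312121010113220122221121202213210102020122121211000000210) (Net.cons (nat_lit 4) (nat_lit 0x50a0d04060a090505060608020e0d030f080e0c0504090f0c0f0809080c00030504080807060d0c0e030108) (Net.cons (nat_lit 8) (nat_lit 0x7900b40030001f000000c100a6000f00c5001d001900dd00d600a9009c00d400cc005200a5003600060000) (Net.cons (nat_lit 16) (nat_lit 0x7b37000002840000afbe0000a22b0000e0db000063f50000aebf0000e0e50000b7f200008e2300000000) (Net.cons (nat_lit 32) (nat_lit 0x1614e4130000000040e63a7400000000e42192710000000010b01755000000006206e328) (Net.cons (nat_lit 64) (nat_lit 0x7e49d783000000000000000046734346160315010000000000000000a1d8828080000000)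 (Net.cons (nat_lit 128) (nat_lit 0xa5e86edaa04ca668d416054822174a18) (Net.cons (nat_lit 256) (nat_lit 0x25efb6fffffff7ecfa574b78) (Net.cons (nat_lit 128) (nat_lit 0x3545578a928f858d49922c75) (Net.cons (nat_lit 64) (nat_lit 0x7c1602b900000000000000003cba5bf4e5ecfb1d0000000000000000005543947ed62285) (Net.cons (nat_lit 32) (nat_lit 0xa7dd69a900000000c7c60b6600000000d246e37300000000de2cc8840000000024d00274) (Net.cons (nat_lit 16) (nat_lit 0x25aa0000d5570000117700008e3100004b980000b0a20000c6d70000fb01000037350000d6bb00003594) (Net.cons (nat_lit 8) (nat_lit 0x5b009c003f00b50094009c007b00520014002f00f9002f0094000200db00c50007003100a200c4007b0074) (Net.cons (nat_lit 4) (nat_lit 0x30706040a0a0a0d03010e070d0801080a0202020d070a040c0e0906050b050d0f0e0d080007070f03070f0d) (Net.cons (nat_lit 2) (nat_lit 0x1202331301210011323132000122112231211312103232333120022022303011133221232221032010021100) (Net.cons (nat_lit 1) (nat_lit 0x51410514114040055011000100500541550400144001001555000051140405541441011505100004000411)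 Net.nil)))))))))))))))))

theorem c_g15_ok : Net.ok 351 c_g15 = true := by decide +kernel

noncomputable def c_V16 : List Net := [c_g13, c_g14, c_g15]

theorem c_V16_ok : okE 351 c_V16 = true := (okE_cons.2 ⟨c_g13_ok, (okE_cons.2 ⟨c_g14_ok, (okE_cons.2 ⟨c_g15_ok, (okE_nil 351)⟩)⟩)⟩)

noncomputable def c_g18 : Net := (Net.cons (nat_lit 1) (nat_lit 0x444104055550004044055500401544455050050555454400000545410054414004501004510140050040) (Net.cons (nat_lit 2) (nat_lit 0x1103211010300302111200201300000332030022102122120121111120123300022322200020200211000000) (Net.cons (nat_lit 4) (nat_lit 0x6030d000a080b0802080f0804040a0609000f04010e0d080a05010100000402040108020c000003000c0000) (Net.cons (nat_lit 8) (nat_lit 0x28000800940076004b004a008000a500700075006b005a0028006600b10080008000de0015009c00400080) (Net.cons (nat_lit 16) (nat_lit 0x35aa000091a0000003d00000e7d4000038800000467c00008aa0000039540000005c0000300200000000) (Net.cons (nat_lit 32) (nat_lit 0x37c30248000000002dbd4e780000000040280209000000009864b925000000006120c105)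 (Net.cons (nat_lit 64) (nat_lit 0x12169d9000000000000000001eacca503984e200000000000000000020c7d04180000000) (Net.cons (nat_lit 128) (nat_lit 0x17f0f724240c42cc584b0096058a9092) (Net.cons (nat_lit 256) (nat_lit 0x7f5dc2eff9ffd2dfc7ce9d9e) (Net.cons (nat_lit 128) (nat_lit 0x6caac310984c19f237be72dd) (Net.cons (nat_lit 64) (nat_lit 0x1cb21d9e0000000000000000e39ef79dbdf1cea9000000000000000020d5e3b1ca107b0d) (Net.cons (nat_lit 32) (nat_lit 0x6555caac00000000edcf6ef000000000c05aa08500000000481a19690000000027b96305) (Net.cons (nat_lit 16) (nat_lit 0x3ce3000001240000c7120000b7d90000b7ec000062bd000002230000f4110000d21e0000b06200000886) (Net.cons (nat_lit 8) (nat_lit 0x63008b001e0036004900880068006d0050007c00e000fa00ea006400710089004300bc009500df0042008a) (Net.cons (nat_lit 4) (nat_lit 0x60b0508020a0b0303010f0a0e0e020e05090f0e04060d0c0b0d090b0000050a040b0a030c00000b000c0208) (Net.cons (nat_lit 2) (nat_lit 0x1113211030300302111000201300000332030000322322320121111120123100032320200220200131022000)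 (Net.cons (nat_lit 1) (nat_lit 0x4444115055550004045055500401544455050050555454400000545410054414004545405510140050050) Net.nil)))))))))))))))))

theorem c_g18_ok : Net.ok 351 c_g18 = true := by decide +kernel

noncomputable def c_V19 : List Net := [c_g18]

theorem c_V19_ok : okE 351 c_V19 = true := (okE_cons.2 ⟨c_g18_ok, (okE_nil 351)⟩)

noncomputable def c_g21 : Net := (Net.cons (nat_lit 1) (nat_lit 0x110540405100400015551554041515440401015000054155515541500041410050000015401001055400111) (Net.cons (nat_lit 2) (nat_lit 0x1012031003121130201030301001212021112122321231013001111300332211023102031232012212133202) (Net.cons (nat_lit 4) (nat_lit 0x504000405030308080c00070b0205000309090101070f0204060904080c0a000e0d0d020a05090700090c08) (Net.cons (nat_lit 8) (nat_lit 0x1500a000fc0011007200fa00bc0002004300520018008b002000ab0086006a004100e1000000d000200000) (Net.cons (nat_lit 16) (nat_lit 0x128700005dd80000b35b000036bc000086d20000b80c000003d00000bb9700001f080000260800000000) (Net.cons (nat_lit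 32) (nat_lit 0x8522a466000000006d8901bd000000009249d48000000000502a00c9000000001e0c4050) (Net.cons (nat_lit 64) (nat_lit 0x6b4811fd00000000000000007a13ee980a40348200000000000000004020428900000000) (Net.cons (nat_lit 128) (nat_lit 0xc36d9d7a51bb36647a11ec9009000082) (Net.cons (nat_lit 256) (nat_lit 0x5dbbf7767e3dffdbef6afd9f) (Net.cons (nat_lit 128) (nat_lit 0x3ef6cffdff428a10710a348b) (Net.cons (nat_lit 64) (nat_lit 0xedeff920000000000000000eb767e70c7afe7700000000000000000e1fc58cb764e8159) (Net.cons (nat_lit 32) (nat_lit 0x10e8020d00000000c71d7e1900000000c7ffe42c000000005a6ec7c2000000009a66b667) (Net.cons (nat_lit 16) (nat_lit 0x5c35000007fa000001c4000062b10000f4760000531800001eb50000f6bf000029b00000114c0000db2d) (Net.cons (nat_lit 8) (nat_lit 0x67006300b5009d008d001e00d500c2003d00380080000b00470022002800d7006800dd0009004700220018) (Net.cons (nat_lit 4) (nat_lit 0x4050d030d09040604060d010d0f0b050308010b08050f050b0702070d0404010c0c02050c0d0a0c0a05000b) (Net.cons (nat_lit 2) (nat_lit 0x131123033303111100013320332111101333113010330232003312020302123213330132001321233013)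 (Net.cons (nat_lit 1) (nat_lit 0x515545041454100045154414514155541000000441450140015411401451144115410010100554145155) Net.nil)))))))))))))))))

theorem c_g21_ok : Net.ok 351 c_g21 = true := by decide +kernel

noncomputable def c_g22 : Net := (Net.cons (nat_lit 1) (nat_lit 0x41500014155554100040054554154054100110100000100100104410001400015400001414004015001500) (Net.cons (nat_lit 2) (nat_lit 0x20111231030020003331111230330032032001102222232001220110022111033123231113002202220) (Net.cons (nat_lit 4) (nat_lit 0x70d0d01060c080704030802000200000b01020b0a0e00070d0b0d020c040e070a0b0d0200080e090d070208) (Net.cons (nat_lit 8) (nat_lit 0xe00a8008200c4000d00320036002200fa00f1009800a100b3000c006d00f5000100080006002500210000) (Net.cons (nat_lit 16) (nat_lit 0x7ab30000463c000023000000b91600009f4700001c390000e32a000004ce0000e0460000044400000000) (Net.cons (nat_lit 32) (nat_lit 0x14c0aa4c00000000e27df9590000000040164f0000000000905890d200000000790d8140) (Net.cons (nat_lit 64) (nat_lit 0x6403fc90000000000000000ca33e586c40089400000000000000000c00c199a00000000)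 (Net.cons (nat_lit 128) (nat_lit 0xd0a81b5822ed100000308086c0008900) (Net.cons (nat_lit 256) (nat_lit 0x7fedbe8bc0bc999ef0098940) (Net.cons (nat_lit 128) (nat_lit 0x2b3d1c1f3b3be46186747678) (Net.cons (nat_lit 64) (nat_lit 0x7580b73a00000000000000004a7fe586d40201400000000000000000c034199e39208904) (Net.cons (nat_lit 32) (nat_lit 0x9f82a71e000000006b7d7c5b00000000afafac1e00000000943e91ed00000000712d8144) (Net.cons (nat_lit 16) (nat_lit 0x70360000c7bd0000e6400000d4e200001e470000ff2100000032000079560000edc20000854400006318) (Net.cons (nat_lit 8) (nat_lit 0x4900d700760048004d00eb00c1000200fe00f1009800a100b3000c0075003d000500440042002500a10080) (Net.cons (nat_lit 4) (nat_lit 0x30806000200060b06070d0f01060c0f0303020b0a0e00070d0b0d020c0102020a030b0e06080e090d070208) (Net.cons (nat_lit 2) (nat_lit 0x3301111211330120000020111210130132032101102332332111220110122111011131031113002203230) (Net.cons (nat_lit 1) (nat_lit 0x140054555554054100141500015555554100110100000100100114515540155141541555554004015405500)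 Net.nil)))))))))))))))))

theorem c_g22_ok : Net.ok 351 c_g22 = true := by decide +kernel

noncomputable def c_V23 : List Net := [c_g21, c_g22]

theorem c_V23_ok : okE 351 c_V23 = true := (okE_cons.2 ⟨c_g21_ok, (okE_cons.2 ⟨c_g22_ok, (okE_nil 351)⟩)⟩)

noncomputable def c_g25 : Net := (Net.cons (nat_lit 1) (nat_lit 0x405010410415141150414410141040141015154010545405445004540540011050100040150000001000) (Net.cons (nat_lit 2) (nat_lit 0x1100013231031131031102303232333030112023323132210031201301020213000213323023203202012120) (Net.cons (nat_lit 4) (nat_lit 0x503050f0607050807050906030e09050d0508010a040a0a0c09060c0f06080f0901020f0b080c0803000900) (Net.cons (nat_lit 8) (nat_lit 0x6a00c800c9009c0087006300cb00dc00090039000c00d300a300ff00a9001700040006000600c000610000) (Net.cons (nat_lit 16) (nat_lit 0x3030000017630000a817000053cc000020190000ee610000d1470000da0c000017100000a0d400008000) (Net.cons (nat_lit 32) (nat_lit 0x3608554c00000000308885d600000000dac3569400000000bd760cd20000000000e13198)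 (Net.cons (nat_lit 64) (nat_lit 0x65bcaf6000000000000000014958d380084ca68000000000000000053024c1380000000) (Net.cons (nat_lit 128) (nat_lit 0x847cd7aba090a2299585b8a873450841) (Net.cons (nat_lit 256) (nat_lit 0x28bea3efdf8ffffbfffdcf51) (Net.cons (nat_lit 128) (nat_lit 0x44701b31ac8e60941fadcd67) (Net.cons (nat_lit 64) (nat_lit 0x7cb937290000000000000000c5aca53de976c61b00000000000000000b3ac1cf41a2726a) (Net.cons (nat_lit 32) (nat_lit 0x77b8a10700000000e69cfaf700000000ec4ee5d50000000073d3dbf3000000009b36c0a0) (Net.cons (nat_lit 16) (nat_lit 0x2ee20000667100005fe90000e6ec00006ac30000e7dd0000aacf000041cf0000286e0000399a0000a926) (Net.cons (nat_lit 8) (nat_lit 0x170007005a00760014008000f70015009000db006d00d3004900820046000e00be00db00ba007d00350036) (Net.cons (nat_lit 4) (nat_lit 0x10e010e080400000c05060e000e080c0c020a0c0c000b0805080a0a0a000001030b0d0e0b0d01000b060800) (Net.cons (nat_lit 2) (nat_lit 0x1010330022212010331123103210232231222211013133003112001102030323312311021321210013203020)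 (Net.cons (nat_lit 1) (nat_lit 0x1004054550140010115051101054110044141000010400000141101554005510401444514001405000555554) Net.nil)))))))))))))))))

theorem c_g25_ok : Net.ok 351 c_g25 = true := by decide +kernel

noncomputable def c_V26 : List Net := [c_g25]

theorem c_V26_ok : okE 351 c_V26 = true := (okE_cons.2 ⟨c_g25_ok, (okE_nil 351)⟩)

noncomputable def c_g28 : Net := (Net.cons (nat_lit 1) (nat_lit 0x400104000005404550100101000051151014000145001054110400550004410040010401540040004404044) (Net.cons (nat_lit 2) (nat_lit 0x1122211302213330122231122211110011011202223212331100320111020112113130211301110320010220) (Net.cons (nat_lit 4) (nat_lit 0x20c0206070a0d0f050302000e0d0703080e050b050f0206030e0b060404070200030f060f03060408040400) (Net.cons (nat_lit 8) (nat_lit 0x8006d004300e600d000dd00b60011006d001f001b000e00fa009d005a0021001c00ef0070008600000000) (Net.cons (nat_lit 16) (nat_lit 0xa320000a2f7000095e200004dc6000042b8000012520000aa0c00009b0a0000ed200000381000008000) (Net.cons (nat_lit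 32) (nat_lit 0x2045f8f200000000bc23a82200000000ee812e4400000000218501c1000000005283c884) (Net.cons (nat_lit 64) (nat_lit 0x6a98201600000000000000002619404c4220b82400000000000000004180403980000000) (Net.cons (nat_lit 128) (nat_lit 0xc0c28de28104d045633306dc0e380900) (Net.cons (nat_lit 256) (nat_lit 0x105f15f67bf77fdffffcde4) (Net.cons (nat_lit 128) (nat_lit 0x39c81cb9cedf5220655e399c) (Net.cons (nat_lit 64) (nat_lit 0x58a3ab8f0000000000000000f94577fa7629aa1a00000000000000009ddb0aa9051f83f4) (Net.cons (nat_lit 32) (nat_lit 0xa57db50600000000382bcca200000000c0af57c800000000debf37cd00000000fead9f66) (Net.cons (nat_lit 16) (nat_lit 0x6c8f000061e3000082ef000016b2000028b70000336c000091390000d23c00000c38000065ed0000e10c) (Net.cons (nat_lit 8) (nat_lit 0x3000470023000c006800d6004e00390043005500f1000400100009007200dd00a400c300bb00bf00780028) (Net.cons (nat_lit 4) (nat_lit 0x20d030f070a0d070d0b030a0e0d0703080e0708050d0204010e0b0f06040706000b07020f0b070408040400) (Net.cons (nat_lit 2) (nat_lit 0x1122301202213330122231132211110010011213223212331100321111020112113130311311111320010220)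 (Net.cons (nat_lit 1) (nat_lit 0x400504005405404554100401005451151014414145001054110400550004541040010401554050004404144) Net.nil)))))))))))))))))

theorem c_g28_ok : Net.ok 351 c_g28 = true := by decide +kernel

noncomputable def c_g29 : Net := (Net.cons (nat_lit 1) (nat_lit 0x550104544444500555555014000555010115454104455554010150540400501114405011010100110544000) (Net.cons (nat_lit 2) (nat_lit 0x233210233122101201133202102022310032220012022132101110110221300203103211322233232211200) (Net.cons (nat_lit 4) (nat_lit 0x2000b04000807090d06060105030e010401040300060e020300000601080a040e0009060a0e040400060000) (Net.cons (nat_lit 8) (nat_lit 0x680071008300590018003d0021006100f000a800150080006a004d00530036000f0099008b002000020080) (Net.cons (nat_lit 16) (nat_lit 0x41010000945e0000c02700000a620000c500000090420000a34e0000d44f0000507e00002ec300008000) (Net.cons (nat_lit 32) (nat_lit 0x3f1ae3a800000000632214da0000000099a278e700000000ed0a45ab0000000020810089) (Net.cons (nat_lit 64) (nat_lit 0x33a6951000000000000000010a20634904b44340000000000000000c40a62a900000000)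 (Net.cons (nat_lit 128) (nat_lit 0x46738f2c386584a14841201f011bb3d) (Net.cons (nat_lit 256) (nat_lit 0x7fa7d9fad6befef9fdbffbbd) (Net.cons (nat_lit 128) (nat_lit 0x76e1bd023605044e591bd2f3) (Net.cons (nat_lit 64) (nat_lit 0x523938510000000000000000dacbfdda6bb89b3c00000000000000004baf59a7233acfc1) (Net.cons (nat_lit 32) (nat_lit 0x93f74f6f00000000615e168300000000a9d2e02f00000000fdeedfe30000000022a10c4d) (Net.cons (nat_lit 16) (nat_lit 0x6bf900002e5700006fa20000a07a00004b140000a2c200001de300006e6f0000c7f30000e96700003a80) (Net.cons (nat_lit 8) (nat_lit 0x6c00c5000f0055001400910085004500fc00ac0089008000d600e100f700ba008b009500af0004006e0004) (Net.cons (nat_lit 4) (nat_lit 0x2080b0c0800070105060e090d0b060104090c0b0806060a0b08080f0100020c0600010e0a06040c080e0808) (Net.cons (nat_lit 2) (nat_lit 0x233210233122101201133202102022310032220012022132101110110221300203103211322233332211200) (Net.cons (nat_lit 1) (nat_lit 0x550144554444500555555014004555050115454105455554010150540440501114445055011500110544400)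 Net.nil)))))))))))))))))

theorem c_g29_ok : Net.ok 351 c_g29 = true := by decide +kernel

noncomputable def c_g30 : Net := (Net.cons (nat_lit 1) (nat_lit 0x414100040001104004154111410504050454555441015414404144144400010145400000000100040101000) (Net.cons (nat_lit 2) (nat_lit 0x332322232301022310022010001310133021101000332002000100230330231320120023132111100000100) (Net.cons (nat_lit 4) (nat_lit 0x3000a0e080c05080a050f0b0a05090f030e0600080604050604040c0b0808080a0c0d010a00040800000000) (Net.cons (nat_lit 8) (nat_lit 0xe0029004b004000a8009f00c300e9007a005e009c00da00420008003200430079006c0012004000200000) (Net.cons (nat_lit 16) (nat_lit 0x10480000950b00004fd60000854d0000c70300004fa2000003cf000052b400007bd000000ba000008000) (Net.cons (nat_lit 32) (nat_lit 0x652117c6000000005c20339a0000000092c7d25000000000012101120000000050c452b7) (Net.cons (nat_lit 64) (nat_lit 0x4747452400000000000000006180185826008a6500000000000000000980620200000000) (Net.cons (nat_lit 128) (nat_lit 0xade2ddd3b1a8a1f74c10d05140b42e00)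 (Net.cons (nat_lit 256) (nat_lit 0x31afefffddbdf3d376fe2eff) (Net.cons (nat_lit 128) (nat_lit 0x7b2b0745e22c559b09da7d9) (Net.cons (nat_lit 64) (nat_lit 0x37e915a3000000000000000039a843085ef8d2e4000000000000000049a06a7c798663ff) (Net.cons (nat_lit 32) (nat_lit 0x3f4d569d00000000ce036afe00000000c3d3db4f00000000812110400000000050e81be7) (Net.cons (nat_lit 16) (nat_lit 0x51440000d51700001fc40000cd4f0000971900001fb600005bd3000052b6000029ec00004bbc0000900a) (Net.cons (nat_lit 8) (nat_lit 0xe00290043004000e4009700c300ed007600d6009c00d20002000800ba004b0079006c001a004800200040) (Net.cons (nat_lit 4) (nat_lit 0x300080e080c050a0a050f0b0a05090f030e0600080e04070604040c0b080808080c0f010a02040800000800) (Net.cons (nat_lit 2) (nat_lit 0x332322232301122312022011201310133021101020332002000120330330231320120023132131100100100) (Net.cons (nat_lit 1) (nat_lit 0x415100054001104004154511414504050454555441014414404154144400051145404040100540040101100) Net.nil)))))))))))))))))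

theorem c_g30_ok : Net.ok 351 c_g30 = true := by decide +kernel

noncomputable def c_V31 : List Net := [c_g28, c_g29, c_g30]

theorem c_V31_ok : okE 351 c_V31 = true := (okE_cons.2 ⟨c_g28_ok, (okE_cons.2 ⟨c_g29_ok, (okE_cons.2 ⟨c_g30_ok, (okE_nil 351)⟩)⟩)⟩)

noncomputable def c_V33 : List Net := [c_g30, c_g29]

theorem c_V33_ok : okE 351 c_V33 = true := (okE_cons.2 ⟨c_g30_ok, (okE_cons.2 ⟨c_g29_ok, (okE_nil 351)⟩)⟩)

noncomputable def c_g35 : Net := (Net.cons (nat_lit 1) (nat_lit 0x1100055540101145555440055440100145554144454444401044454451500001100005145000111110440050) (Net.cons (nat_lit 2) (nat_lit 0x30331333003010332021022002130200023012000203123201010011232201113222013222010010101020) (Net.cons (nat_lit 4) (nat_lit 0x5030303050f07020e06000b090f040005050109010902090002020b0f080a03070507030808000700000000) (Net.cons (nat_lit 8) (nat_lit 0x5400e3007600ab00e600a300540037005600b40015003e00b2000f008c000d00c60005008000fa00450000) (Net.cons (nat_lit 16) (nat_lit 0x5e900008849000085260000007600006b3e000070a000004c410000ef3b000086260000050100000000)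 (Net.cons (nat_lit 32) (nat_lit 0x35c00468000000004e9796ff00000000c6c1044000000000024800080000000031200000) (Net.cons (nat_lit 64) (nat_lit 0x4a50a15e00000000000000009815b01485c40802000000000000000001000a3700000000) (Net.cons (nat_lit 128) (nat_lit 0x1cb66a2ec211a1389000200484c40002) (Net.cons (nat_lit 256) (nat_lit 0x5ff1b97edbc02f37b4e40002) (Net.cons (nat_lit 128) (nat_lit 0x52d3c0e9a421da1d0f210ff2) (Net.cons (nat_lit 64) (nat_lit 0x3b10bdd70000000000000000c0018e752428000200000000000000009b1f21d481d40808) (Net.cons (nat_lit 32) (nat_lit 0xa1d6a30100000000deb1f6ef00000000cb76dfd200000000405ece080000000039140b00) (Net.cons (nat_lit 16) (nat_lit 0x3ce50000806c00004117000080ae0000630d00006f05000000e10000e5280000952600000c2200001bf0) (Net.cons (nat_lit 8) (nat_lit 0x5e00eb005b00a900e7009b00940057007500f00044002b00b2005a00bf000d00c60097008200ff00550054) (Net.cons (nat_lit 4) (nat_lit 0x50f0b00090405050f070d0505030a080304040c040c020d0507060e0e0b0a0106050f020908000205050504) (Net.cons (nat_lit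 2) (nat_lit 0x121302332112120333330031103000330023032020223133223230011232201113220011322010010123230) (Net.cons (nat_lit 1) (nat_lit 0x100000100155145554440000000154145554144454444401044454441504541504550550415511110440050) Net.nil)))))))))))))))))

theorem c_g35_ok : Net.ok 351 c_g35 = true := by decide +kernel

noncomputable def c_V36 : List Net := [c_g35, c_g35]

theorem c_V36_ok : okE 351 c_V36 = true := (okE_cons.2 ⟨c_g35_ok, (okE_cons.2 ⟨c_g35_ok, (okE_nil 351)⟩)⟩)

noncomputable def c_V38 : List Net := [c_g35]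

theorem c_V38_ok : okE 351 c_V38 = true := (okE_cons.2 ⟨c_g35_ok, (okE_nil 351)⟩)

noncomputable def c_E5 : List Net := []

theorem c_E5_ok : okE 351 c_E5 = true := (okE_nil 351)

noncomputable def c_G4 : List Net := [c_g35]

theorem c_G4_ok : okE 351 c_G4 = true := (okE_cons.2 ⟨c_g35_ok, (okE_nil 351)⟩)

noncomputable def c_E4 : List Net := [c_g35]

theorem c_E4_ok : okE 351 c_E4 = true := (okE_cons.2 ⟨c_g35_ok, (okE_nil 351)⟩)

noncomputable def c_G3 : List Net := [c_g30, c_g29, c_g35]

theorem c_G3_ok : okE 351 c_G3 = true := (okE_cons.2 ⟨c_g30_ok, (okE_cons.2 ⟨c_g29_ok, (okE_cons.2 ⟨c_g35_ok, (okE_nil 351)⟩)⟩)⟩)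

noncomputable def c_E3 : List Net := [c_g30, c_g29, c_g28, c_g35]

theorem c_E3_ok : okE 351 c_E3 = true := (okE_cons.2 ⟨c_g30_ok, (okE_cons.2 ⟨c_g29_ok, (okE_cons.2 ⟨c_g28_ok, (okE_cons.2 ⟨c_g35_ok, (okE_nil 351)⟩)⟩)⟩)⟩)

noncomputable def c_G2 : List Net := [c_g25, c_g30, c_g29, c_g28, c_g35]

theorem c_G2_ok : okE 351 c_G2 = true := (okE_cons.2 ⟨c_g25_ok, (okE_cons.2 ⟨c_g30_ok, (okE_cons.2 ⟨c_g29_ok, (okE_cons.2 ⟨c_g28_ok, (okE_cons.2 ⟨c_g35_ok, (okE_nil 351)⟩)⟩)⟩)⟩)⟩)

noncomputable def c_E2 : List Net := [c_g25, c_g21, c_g22, c_g30, c_g29, c_g28, c_g35]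

theorem c_E2_ok : okE 351 c_E2 = true := (okE_cons.2 ⟨c_g25_ok, (okE_cons.2 ⟨c_g21_ok, (okE_cons.2 ⟨c_g22_ok, (okE_cons.2 ⟨c_g30_ok, (okE_cons.2 ⟨c_g29_ok, (okE_cons.2 ⟨c_g28_ok, (okE_cons.2 ⟨c_g35_ok, (okE_nil 351)⟩)⟩)⟩)⟩)⟩)⟩)⟩)

noncomputable def c_G1 : List Net := [c_g18, c_g25, c_g21, c_g22, c_g30, c_g29, c_g28, c_g35]

theorem c_G1_ok : okE 351 c_G1 = true := (okE_cons.2 ⟨c_g18_ok, (okE_cons.2 ⟨c_g25_ok, (okE_cons.2 ⟨c_g21_ok, (okE_cons.2 ⟨c_g22_ok, (okE_cons.2 ⟨c_g30_ok, (okE_cons.2 ⟨c_g29_ok, (okE_cons.2 ⟨c_g28_ok, (okE_cons.2 ⟨c_g35_ok, (okE_nil 351)⟩)⟩)⟩)⟩)⟩)⟩)⟩)⟩)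

noncomputable def c_E1 : List Net := [c_g18, c_g13, c_g14, c_g15, c_g25, c_g21, c_g22, c_g30, c_g29, c_g28, c_g35]

theorem c_E1_ok : okE 351 c_E1 = true := (okE_cons.2 ⟨c_g18_ok, (okE_cons.2 ⟨c_g13_ok, (okE_cons.2 ⟨c_g14_ok, (okE_cons.2 ⟨c_g15_ok, (okE_cons.2 ⟨c_g25_ok, (okE_cons.2 ⟨c_g21_ok, (okE_cons.2 ⟨c_g22_ok, (okE_cons.2 ⟨c_g30_ok, (okE_cons.2 ⟨c_g29_ok, (okE_cons.2 ⟨c_g28_ok, (okE_cons.2 ⟨c_g35_ok, (okE_nil 351)⟩)⟩)⟩)⟩)⟩)⟩)⟩)⟩)⟩)⟩)⟩)

noncomputable def c_G0 : List Net := [c_g10, c_g18, c_g13, c_g14, c_g15, c_g25, c_g21, c_g22, c_g30, c_g29, c_g28, c_g35]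

theorem c_G0_ok : okE 351 c_G0 = true := (okE_cons.2 ⟨c_g10_ok, (okE_cons.2 ⟨c_g18_ok, (okE_cons.2 ⟨c_g13_ok, (okE_cons.2 ⟨c_g14_ok, (okE_cons.2 ⟨c_g15_ok, (okE_cons.2 ⟨c_g25_ok, (okE_cons.2 ⟨c_g21_ok, (okE_cons.2 ⟨c_g22_ok, (okE_cons.2 ⟨c_g30_ok, (okE_cons.2 ⟨c_g29_ok, (okE_cons.2 ⟨c_g28_ok, (okE_cons.2 ⟨c_g35_ok, (okE_nil 351)⟩)⟩)⟩)⟩)⟩)⟩)⟩)⟩)⟩)⟩)⟩)⟩)

noncomputable def c_E0 : List Net := [c_g10, c_g1, c_g2, c_g3, c_g4, c_g5, c_g6, c_g7, c_g8, c_g9, c_g18, c_g13, c_g14, c_g15, c_g25, c_g21, c_g22, c_g30, c_g29, c_g28, c_g35]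

theorem c_E0_ok : okE 351 c_E0 = true := (okE_cons.2 ⟨c_g10_ok, (okE_cons.2 ⟨c_g1_ok, (okE_cons.2 ⟨c_g2_ok, (okE_cons.2 ⟨c_g3_ok, (okE_cons.2 ⟨c_g4_ok, (okE_cons.2 ⟨c_g5_ok, (okE_cons.2 ⟨c_g6_ok, (okE_cons.2 ⟨c_g7_ok, (okE_cons.2 ⟨c_g8_ok, (okE_cons.2 ⟨c_g9_ok, (okE_cons.2 ⟨c_g18_ok, (okE_cons.2 ⟨c_g13_ok, (okE_cons.2 ⟨c_g14_ok, (okE_cons.2 ⟨c_g15_ok, (okE_cons.2 ⟨c_g25_ok, (okE_cons.2 ⟨c_g21_ok, (okE_cons.2 ⟨c_g22_ok, (okE_cons.2 ⟨c_g30_ok, (okE_cons.2 ⟨c_g29_ok, (okE_cons.2 ⟨c_g28_ok, (okE_cons.2 ⟨c_g35_ok, (okE_nil 351)⟩)⟩)⟩)⟩)⟩)⟩)⟩)⟩)⟩)⟩)⟩)⟩)⟩)⟩)⟩)⟩)⟩)⟩)⟩)⟩)⟩)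

theorem c_le12 : grp 351 c_V11 ≤ grp 351 c_O :=
  grp_le_of_memB c_hn c_hk c_O_ok c_V11_ok (ws := [nat_lit 462861]) (by decide +kernel)

theorem c_le17 : grp 351 c_V16 ≤ grp 351 c_O :=
  grp_le_of_memB c_hn c_hk c_O_ok c_V16_ok (ws := [nat_lit 0x1204080e0f0f0d0d100e1006, nat_lit 0x11090b110112040c0c0c04120a, nat_lit 0xd0f080f090b12040c]) (by decide +kernel)

theorem c_le20 : grp 351 c_V19 ≤ grp 351 c_V16 :=
  grp_le_of_memB c_hn c_hk c_V16_ok c_V19_ok (ws := [nat_lit 0x501010106]) (by decide +kernel)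

theorem c_le24 : grp 351 c_V23 ≤ grp 351 c_V16 :=
  grp_le_of_memB c_hn c_hk c_V16_ok c_V23_ok (ws := [nat_lit 0x30106010302050505, nat_lit 0x604020604060405]) (by decide +kernel)

theorem c_le27 : grp 351 c_V26 ≤ grp 351 c_V23 :=
  grp_le_of_memB c_hn c_hk c_V23_ok c_V26_ok (ws := [nat_lit 770]) (by decide +kernel)

theorem c_le32 : grp 351 c_V31 ≤ grp 351 c_V23 :=
  grp_le_of_memB c_hn c_hk c_V23_ok c_V31_ok (ws := [nat_lit 0x2020202030202, nat_lit 0x40202040204, nat_lit 0x4010301030104]) (by decide +kernel)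

theorem c_le34 : grp 351 c_V33 ≤ grp 351 c_V31 :=
  grp_le_of_memB c_hn c_hk c_V31_ok c_V33_ok (ws := [nat_lit 5, nat_lit 3]) (by decide +kernel)

theorem c_le37 : grp 351 c_V36 ≤ grp 351 c_V31 :=
  grp_le_of_memB c_hn c_hk c_V31_ok c_V36_ok (ws := [nat_lit 0x4060301050406, nat_lit 0x10104050501040604]) (by decide +kernel)

theorem c_le39 : grp 351 c_V38 ≤ grp 351 c_V36 :=
  grp_le_of_memB c_hn c_hk c_V36_ok c_V38_ok (ws := [nat_lit 1]) (by decide +kernel)

theorem c_card5 : Nat.card (grp 351 c_E5) = 1 :=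
  card_grp_nil 351

theorem c_leO5 : grp 351 c_E5 ≤ grp 351 c_O :=
  grp_nil_le _

theorem c_4_fix : grp 351 c_E5 ≤ MulAction.stabilizer (Equiv.Perm (Fin 351)) (⟨2, by decide⟩ : Fin 351) :=
  grp_le_stab c_E5_ok (by decide : 2 < 351) (by decide +kernel)

noncomputable def c_4_ts : List ℕ := [nat_lit 0, nat_lit 1]

noncomputable def c_4_ds : List ℕ := [nat_lit 2, nat_lit 12]

theorem c_4_dist : Dist 351 c_E5 c_G4 (⟨2, by decide⟩ : Fin 351) c_4_ts c_4_ds :=
  dist_of_distB (k := 1) c_hn c_E5_ok c_G4_ok (by decide : 2 < 351) (by decide +kernel)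

noncomputable def c_4_sl0 : SL := (SL.cons (nat_lit 1) (nat_lit 12) Ch.nil [] SL.nil)

theorem c_4_sc0 : SCs 351 c_E5 c_G4 (⟨2, by decide⟩ : Fin 351) (SL.words c_4_sl0) :=
  scs_of_ok c_hn (det_lab c_hk ⊤) c_E5_ok c_G4_ok le_top le_top (by decide : 2 < 351) c_4_fix c_card5.le (by decide +kernel)

noncomputable def c_4_l : List ℕ := (appL (SL.words c_4_sl0) [])

theorem c_4_scs : SCs 351 c_E5 c_G4 (⟨2, by decide⟩ : Fin 351) c_4_l :=
  (SCs.append c_4_sc0 SCs.nil)

noncomputable def c_4_rl0_0 : RL := (RL.cons (nat_lit 0) (nat_lit 2) (nat_lit 0) (nat_lit 0) (nat_lit 1) (nat_lit 0) (RL.cons (nat_lit 1) (nat_lit 12) (nat_lit 0) (nat_lit 0) (nat_lit 0) (nat_lit 0) RL.nil))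

theorem c_4_good0_0 : GoodSet 351 c_E5 c_G4 (⟨2, by decide⟩ : Fin 351) c_4_ts (nat_lit 1) (RL.pts c_4_rl0_0) :=
  goodSet_of_ok c_hn (det_lab c_hk ⊤) c_E5_ok c_G4_ok le_top le_top (by decide : 2 < 351) (sepAt_lab c_hk _) (by decide +kernel)

theorem c_4_step0 : Step 351 c_E5 c_G4 c_4_ts (2 * 0 + 1) :=
  step_of_cover c_E5_ok c_4_dist (by decide +kernel) c_4_scs (by decide +kernel) c_4_good0_0 (kw := [])
    (conj_mem_of_scs c_E5_ok c_G4_ok (by decide : 2 < 351) c_4_scs (c := 0) (d := 12) (by decide +kernel)) (by decide +kernel)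

theorem c_4_lev : grp 351 c_G4 ⊓ MulAction.stabilizer (Equiv.Perm (Fin 351)) (⟨2, by decide⟩ : Fin 351) = grp 351 c_E5 :=
  sims_level (gs := c_V38) rfl (by decide) c_4_fix c_4_dist (forall_lt_one c_4_step0)

theorem c_4_cardG : Nat.card (grp 351 c_G4) = 2 :=
  card_of_level c_hn c_G4_ok (by decide : 2 < 351) c_4_lev c_card5 (m := 2) (by decide +kernel)

theorem c_le40 : grp 351 c_E4 ≤ grp 351 c_G4 :=
  grp_le_of_memB c_hn c_hk c_G4_ok c_E4_ok (ws := [nat_lit 1]) (by decide +kernel)

theorem c_le41 : grp 351 c_G4 ≤ grp 351 c_E4 :=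
  grp_le_of_memB c_hn c_hk c_E4_ok c_G4_ok (ws := [nat_lit 1]) (by decide +kernel)

theorem c_4_eq : grp 351 c_E4 = grp 351 c_G4 :=
  le_antisymm c_le40 c_le41

theorem c_card4 : Nat.card (grp 351 c_E4) = 2 :=
  by rw [c_4_eq]; exact c_4_cardG

theorem c_stab4 : grp 351 c_E4 ⊓ MulAction.stabilizer (Equiv.Perm (Fin 351)) (⟨2, by decide⟩ : Fin 351) = grp 351 c_E5 :=
  by rw [c_4_eq]; exact c_4_lev

theorem c_leO4 : grp 351 c_E4 ≤ grp 351 c_O :=
  c_4_eq.le.trans (grp_cons_le ((c_le37.trans (c_le32.trans (c_le24.trans (c_le17.trans (le_refl (grp 351 c_O)))))) (c_le39 (toPerm_mem_grp (E := c_V38) (by simp [c_V38])))) c_leO5)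

theorem c_3_fix : grp 351 c_E4 ≤ MulAction.stabilizer (Equiv.Perm (Fin 351)) (⟨205, by decide⟩ : Fin 351) :=
  grp_le_stab c_E4_ok (by decide : 205 < 351) (by decide +kernel)

noncomputable def c_3_ts : List ℕ := [nat_lit 0, nat_lit 1, nat_lit 3, nat_lit 259]

noncomputable def c_3_ds : List ℕ := [nat_lit 205, nat_lit 1, nat_lit 45, nat_lit 182]

theorem c_3_dist : Dist 351 c_E4 c_G3 (⟨205, by decide⟩ : Fin 351) c_3_ts c_3_ds :=
  dist_of_distB (k := 2) c_hn c_E4_ok c_G3_ok (by decide : 205 < 351) (by decide +kernel)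

noncomputable def c_3_sl0 : SL := (SL.cons (nat_lit 1) (nat_lit 1) (Ch.cons (nat_lit 2) [nat_lit 1] Ch.nil) [nat_lit 1] (SL.cons (nat_lit 3) (nat_lit 45) (Ch.cons (nat_lit 2) [nat_lit 1] Ch.nil) [nat_lit 1] (SL.cons (nat_lit 259) (nat_lit 182) (Ch.cons (nat_lit 2) [nat_lit 1] Ch.nil) [nat_lit 1] SL.nil)))

theorem c_3_sc0 : SCs 351 c_E4 c_G3 (⟨205, by decide⟩ : Fin 351) (SL.words c_3_sl0) :=
  scs_of_ok c_hn (det_lab c_hk ⊤) c_E4_ok c_G3_ok le_top le_top (by decide : 205 < 351) c_3_fix c_card4.le (by decide +kernel)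

noncomputable def c_3_l : List ℕ := (appL (SL.words c_3_sl0) [])

theorem c_3_scs : SCs 351 c_E4 c_G3 (⟨205, by decide⟩ : Fin 351) c_3_l :=
  (SCs.append c_3_sc0 SCs.nil)

noncomputable def c_3_rl0_0 : RL := (RL.cons (nat_lit 0) (nat_lit 205) (nat_lit 0) (nat_lit 0) (nat_lit 1) (nat_lit 0) (RL.cons (nat_lit 1) (nat_lit 1) (nat_lit 0) (nat_lit 0) (nat_lit 0) (nat_lit 0) (RL.cons (nat_lit 2) (nat_lit 45) (nat_lit 0) (nat_lit 0) (nat_lit 3) (nat_lit 0) (RL.cons (nat_lit 3) (nat_lit 182) (nat_lit 0) (nat_lit 0) (nat_lit 2) (nat_lit 0) RL.nil))))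

theorem c_3_good0_0 : GoodSet 351 c_E4 c_G3 (⟨205, by decide⟩ : Fin 351) c_3_ts (nat_lit 1) (RL.pts c_3_rl0_0) :=
  goodSet_of_ok c_hn (det_lab c_hk ⊤) c_E4_ok c_G3_ok le_top le_top (by decide : 205 < 351) (sepAt_lab c_hk _) (by decide +kernel)

theorem c_3_step0 : Step 351 c_E4 c_G3 c_3_ts (2 * 0 + 1) :=
  step_of_cover c_E4_ok c_3_dist (by decide +kernel) c_3_scs (by decide +kernel) c_3_good0_0 (kw := [nat_lit 1])
    (conj_mem_of_scs c_E4_ok c_G3_ok (by decide : 205 < 351) c_3_scs (c := 0) (d := 1) (by decide +kernel)) (by decide +kernel)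

noncomputable def c_3_rl1_0 : RL := (RL.cons (nat_lit 0) (nat_lit 205) (nat_lit 0) (nat_lit 0) (nat_lit 2) (nat_lit 0) (RL.cons (nat_lit 1) (nat_lit 1) (nat_lit 0) (nat_lit 0) (nat_lit 3) (nat_lit 0) (RL.cons (nat_lit 2) (nat_lit 45) (nat_lit 0) (nat_lit 0) (nat_lit 0) (nat_lit 0) (RL.cons (nat_lit 3) (nat_lit 182) (nat_lit 0) (nat_lit 0) (nat_lit 1) (nat_lit 0) RL.nil))))

theorem c_3_good1_0 : GoodSet 351 c_E4 c_G3 (⟨205, by decide⟩ : Fin 351) c_3_ts (nat_lit 3) (RL.pts c_3_rl1_0) :=
  goodSet_of_ok c_hn (det_lab c_hk ⊤) c_E4_ok c_G3_ok le_top le_top (by decide : 205 < 351) (sepAt_lab c_hk _) (by decide +kernel)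

theorem c_3_step1 : Step 351 c_E4 c_G3 c_3_ts (2 * 1 + 1) :=
  step_of_cover c_E4_ok c_3_dist (by decide +kernel) c_3_scs (by decide +kernel) c_3_good1_0 (kw := [nat_lit 1])
    (conj_mem_of_scs c_E4_ok c_G3_ok (by decide : 205 < 351) c_3_scs (c := 1) (d := 45) (by decide +kernel)) (by decide +kernel)

theorem c_3_lev : grp 351 c_G3 ⊓ MulAction.stabilizer (Equiv.Perm (Fin 351)) (⟨205, by decide⟩ : Fin 351) = grp 351 c_E4 :=
  sims_level (gs := c_V33) rfl (by decide) c_3_fix c_3_dist (forall_lt_succ' (forall_lt_one c_3_step0) c_3_step1)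

theorem c_3_cardG : Nat.card (grp 351 c_G3) = 8 :=
  card_of_level c_hn c_G3_ok (by decide : 205 < 351) c_3_lev c_card4 (m := 4) (by decide +kernel)

theorem c_le42 : grp 351 c_E3 ≤ grp 351 c_G3 :=
  grp_le_of_memB c_hn c_hk c_G3_ok c_E3_ok (ws := [nat_lit 1, nat_lit 3, nat_lit 327939, nat_lit 5]) (by decide +kernel)

theorem c_le43 : grp 351 c_G3 ≤ grp 351 c_E3 :=
  grp_le_of_memB c_hn c_hk c_E3_ok c_G3_ok (ws := [nat_lit 1, nat_lit 3, nat_lit 7]) (by decide +kernel)

theorem c_3_eq : grp 351 c_E3 = grp 351 c_G3 :=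
  le_antisymm c_le42 c_le43

theorem c_card3 : Nat.card (grp 351 c_E3) = 8 :=
  by rw [c_3_eq]; exact c_3_cardG

theorem c_stab3 : grp 351 c_E3 ⊓ MulAction.stabilizer (Equiv.Perm (Fin 351)) (⟨205, by decide⟩ : Fin 351) = grp 351 c_E4 :=
  by rw [c_3_eq]; exact c_3_lev

theorem c_leO3 : grp 351 c_E3 ≤ grp 351 c_O :=
  c_3_eq.le.trans (grp_cons_le ((c_le32.trans (c_le24.trans (c_le17.trans (le_refl (grp 351 c_O))))) (c_le34 (toPerm_mem_grp (E := c_V33) (by simp [c_V33])))) (grp_cons_le ((c_le32.trans (c_le24.trans (c_le17.trans (le_refl (grp 351 c_O))))) (c_le34 (toPerm_mem_grp (E := c_V33) (by simp [c_V33])))) c_leO4))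

theorem c_2_fix : grp 351 c_E3 ≤ MulAction.stabilizer (Equiv.Perm (Fin 351)) (⟨299, by decide⟩ : Fin 351) :=
  grp_le_stab c_E3_ok (by decide : 299 < 351) (by decide +kernel)

noncomputable def c_2_ts : List ℕ := [nat_lit 0, nat_lit 1, nat_lit 2, nat_lit 65793, nat_lit 66818, nat_lit 67330]

noncomputable def c_2_ds : List ℕ := [nat_lit 299, nat_lit 205, nat_lit 227, nat_lit 88, nat_lit 228, nat_lit 108]

theorem c_2_dist : Dist 351 c_E3 c_G2 (⟨299, by decide⟩ : Fin 351) c_2_ts c_2_ds :=
  dist_of_distB (k := 3) c_hn c_E3_ok c_G2_ok (by decide : 299 < 351) (by decide +kernel)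

noncomputable def c_2_sl0 : SL := (SL.cons (nat_lit 1) (nat_lit 205) (Ch.cons (nat_lit 2) [nat_lit 7] Ch.nil) [nat_lit 7] (SL.cons (nat_lit 2) (nat_lit 227) (Ch.cons (nat_lit 2) [nat_lit 7] Ch.nil) [nat_lit 7] (SL.cons (nat_lit 65793) (nat_lit 88) (Ch.cons (nat_lit 2) [nat_lit 3, nat_lit 1793, nat_lit 7] Ch.nil) [nat_lit 3, nat_lit 1, nat_lit 7] (SL.cons (nat_lit 66818) (nat_lit 228) (Ch.cons (nat_lit 2) [nat_lit 5, nat_lit 1, nat_lit 7] Ch.nil) [nat_lit 5, nat_lit 1793, nat_lit 7] (SL.cons (nat_lit 67330) (nat_lit 108) (Ch.cons (nat_lit 2) [nat_lit 7, nat_lit 5, nat_lit 1] Ch.nil) [nat_lit 7, nat_lit 1797, nat_lit 1] SL.nil)))))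

theorem c_2_sc0 : SCs 351 c_E3 c_G2 (⟨299, by decide⟩ : Fin 351) (SL.words c_2_sl0) :=
  scs_of_ok c_hn (det_lab c_hk ⊤) c_E3_ok c_G2_ok le_top le_top (by decide : 299 < 351) c_2_fix c_card3.le (by decide +kernel)

noncomputable def c_2_l : List ℕ := (appL (SL.words c_2_sl0) [])

theorem c_2_scs : SCs 351 c_E3 c_G2 (⟨299, by decide⟩ : Fin 351) c_2_l :=
  (SCs.append c_2_sc0 SCs.nil)

noncomputable def c_2_rl0_0 : RL := (RL.cons (nat_lit 0) (nat_lit 299) (nat_lit 0) (nat_lit 0) (nat_lit 2) (nat_lit 0) (RL.cons (nat_lit 1) (nat_lit 205) (nat_lit 0) (nat_lit 0) (nat_lit 0) (nat_lit 0) (RL.cons (nat_lit 1) (nat_lit 1) (nat_lit 1) (nat_lit 0) (nat_lit 3) (nat_lit 5) (RL.cons (nat_lit 1) (nat_lit 45) (nat_lit 3) (nat_lit 0) (nat_lit 4) (nat_lit 0) (RL.cons (nat_lit 1) (nat_lit 182) (nat_lit 5) (nat_lit 0) (nat_lit 5) (nat_lit 0) (RL.cons (nat_lit 2) (nat_lit 227) (nat_lit 0) (nat_lit 1) (nat_lit 1) (nat_lit 1797) (RL.cons (nat_lit 2) (nat_lit 89) (nat_lit 1) (nat_lit 5) (nat_lit 1) (nat_lit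 7) (RL.cons (nat_lit 2) (nat_lit 109) (nat_lit 3) (nat_lit 3) (nat_lit 1) (nat_lit 1795) (RL.cons (nat_lit 2) (nat_lit 300) (nat_lit 5) (nat_lit 0) (nat_lit 1) (nat_lit 1793) (RL.cons (nat_lit 3) (nat_lit 88) (nat_lit 0) (nat_lit 5) (nat_lit 2) (nat_lit 1793) (RL.cons (nat_lit 4) (nat_lit 228) (nat_lit 0) (nat_lit 1) (nat_lit 2) (nat_lit 1797) (RL.cons (nat_lit 5) (nat_lit 108) (nat_lit 0) (nat_lit 3) (nat_lit 2) (nat_lit 1793) RL.nil))))))))))))

theorem c_2_good0_0 : GoodSet 351 c_E3 c_G2 (⟨299, by decide⟩ : Fin 351) c_2_ts (nat_lit 1) (RL.pts c_2_rl0_0) :=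
  goodSet_of_ok c_hn (det_lab c_hk ⊤) c_E3_ok c_G2_ok le_top le_top (by decide : 299 < 351) (sepAt_lab c_hk _) (by decide +kernel)

theorem c_2_step0 : Step 351 c_E3 c_G2 c_2_ts (2 * 0 + 1) :=
  step_of_cover c_E3_ok c_2_dist (by decide +kernel) c_2_scs (by decide +kernel) c_2_good0_0 (kw := [nat_lit 7])
    (conj_mem_of_scs c_E3_ok c_G2_ok (by decide : 299 < 351) c_2_scs (c := 0) (d := 205) (by decide +kernel)) (by decide +kernel)

theorem c_2_lev : grp 351 c_G2 ⊓ MulAction.stabilizer (Equiv.Perm (Fin 351)) (⟨299, by decide⟩ : Fin 351) = grp 351 c_E3 :=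
  sims_level (gs := c_V26) rfl (by decide) c_2_fix c_2_dist (forall_lt_one c_2_step0)

theorem c_2_cardG : Nat.card (grp 351 c_G2) = 96 :=
  card_of_level c_hn c_G2_ok (by decide : 299 < 351) c_2_lev c_card3 (m := 12) (by decide +kernel)

theorem c_le44 : grp 351 c_E2 ≤ grp 351 c_G2 :=
  grp_le_of_memB c_hn c_hk c_G2_ok c_E2_ok (ws := [nat_lit 1, nat_lit 0x9030205, nat_lit 0x3010101, nat_lit 3, nat_lit 5, nat_lit 7, nat_lit 9]) (by decide +kernel)

theorem c_le45 : grp 351 c_G2 ≤ grp 351 c_E2 :=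
  grp_le_of_memB c_hn c_hk c_E2_ok c_G2_ok (ws := [nat_lit 1, nat_lit 7, nat_lit 9, nat_lit 11, nat_lit 13]) (by decide +kernel)

theorem c_2_eq : grp 351 c_E2 = grp 351 c_G2 :=
  le_antisymm c_le44 c_le45

theorem c_card2 : Nat.card (grp 351 c_E2) = 96 :=
  by rw [c_2_eq]; exact c_2_cardG

theorem c_stab2 : grp 351 c_E2 ⊓ MulAction.stabilizer (Equiv.Perm (Fin 351)) (⟨299, by decide⟩ : Fin 351) = grp 351 c_E3 :=
  by rw [c_2_eq]; exact c_2_lev

theorem c_leO2 : grp 351 c_E2 ≤ grp 351 c_O :=
  c_2_eq.le.trans (grp_cons_le ((c_le24.trans (c_le17.trans (le_refl (grp 351 c_O)))) (c_le27 (toPerm_mem_grp (E := c_V26) (by simp [c_V26])))) c_leO3)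

theorem c_1_fix : grp 351 c_E2 ≤ MulAction.stabilizer (Equiv.Perm (Fin 351)) (⟨200, by decide⟩ : Fin 351) :=
  grp_le_stab c_E2_ok (by decide : 200 < 351) (by decide +kernel)

noncomputable def c_1_ts : List ℕ := [nat_lit 0, nat_lit 1, nat_lit 66305, nat_lit 0x1040601, nat_lit 0x103010301, nat_lit 0x103010401]

noncomputable def c_1_ds : List ℕ := [nat_lit 200, nat_lit 299, nat_lit 179, nat_lit 175, nat_lit 39, nat_lit 28]

theorem c_1_dist : Dist 351 c_E2 c_G1 (⟨200, by decide⟩ : Fin 351) c_1_ts c_1_ds :=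
  dist_of_distB (k := 3) c_hn c_E2_ok c_G1_ok (by decide : 200 < 351) (by decide +kernel)

noncomputable def c_1_sl0 : SL := (SL.cons (nat_lit 1) (nat_lit 299) (Ch.cons (nat_lit 205) [nat_lit 7, nat_lit 9, nat_lit 11] (Ch.cons (nat_lit 2) [nat_lit 13] Ch.nil)) [nat_lit 13, nat_lit 9, nat_lit 11, nat_lit 7] (SL.cons (nat_lit 66305) (nat_lit 179) (Ch.cons (nat_lit 1) [nat_lit 7] Ch.nil) [nat_lit 7] (SL.cons (nat_lit 0x1040601) (nat_lit 175) (Ch.cons (nat_lit 13) [nat_lit 854787, nat_lit 2307] Ch.nil) [nat_lit 853761, nat_lit 3329] (SL.cons (nat_lit 0x103010301) (nat_lit 39) (Ch.cons (nat_lit 1) [nat_lit 1795] Ch.nil) [nat_lit 459019] (SL.cons (nat_lit 0x103010401) (nat_lit 28) (Ch.cons (nat_lit 1) [nat_lit 1795] Ch.nil) [nat_lit 1795] SL.nil)))))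

theorem c_1_sc0 : SCs 351 c_E2 c_G1 (⟨200, by decide⟩ : Fin 351) (SL.words c_1_sl0) :=
  scs_of_ok c_hn (det_lab c_hk ⊤) c_E2_ok c_G1_ok le_top le_top (by decide : 200 < 351) c_1_fix c_card2.le (by decide +kernel)

noncomputable def c_1_l : List ℕ := (appL (SL.words c_1_sl0) [])

theorem c_1_scs : SCs 351 c_E2 c_G1 (⟨200, by decide⟩ : Fin 351) c_1_l :=
  (SCs.append c_1_sc0 SCs.nil)

noncomputable def c_1_rl0_0 : RL := (RL.cons (nat_lit 0) (nat_lit 200) (nat_lit 0) (nat_lit 0) (nat_lit 1) (nat_lit 0) (RL.cons (nat_lit 1) (nat_lit 299) (nat_lit 0) (nat_lit 0) (nat_lit 0) (nat_lit 0) (RL.cons (nat_lit 1) (nat_lit 205) (nat_lit 1) (nat_lit 0) (nat_lit 2) (nat_lit 0) (RL.cons (nat_lit 1) (nat_lit 227) (nat_lit 2) (nat_lit 67843) (nat_lit 2) (nat_lit 0xd090204) (RL.cons (nat_lit 1) (nat_lit 88) (nat_lit 5) (nat_lit 5) (nat_lit 1) (nat_lit 2309) (RL.cons (nat_lit 1) (nat_lit 108) (nat_lit 516) (nat_lit 0) (nat_lit 3) (nat_lit 0) (RL.cons (nat_lit 1) (nat_lit 228) (nat_lit 65796) (nat_lit 65796)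 (nat_lit 1) (nat_lit 65796) (RL.cons (nat_lit 2) (nat_lit 179) (nat_lit 0) (nat_lit 1) (nat_lit 1) (nat_lit 0) (RL.cons (nat_lit 2) (nat_lit 221) (nat_lit 1) (nat_lit 0) (nat_lit 4) (nat_lit 0) (RL.cons (nat_lit 2) (nat_lit 308) (nat_lit 2) (nat_lit 0) (nat_lit 5) (nat_lit 0) (RL.cons (nat_lit 2) (nat_lit 206) (nat_lit 4) (nat_lit 2818) (nat_lit 5) (nat_lit 853761) (RL.cons (nat_lit 2) (nat_lit 43) (nat_lit 5) (nat_lit 1289) (nat_lit 2) (nat_lit 3337) (RL.cons (nat_lit 2) (nat_lit 101) (nat_lit 260) (nat_lit 269) (nat_lit 4) (nat_lit 0xd0b010b) (RL.cons (nat_lit 2) (nat_lit 44) (nat_lit 516) (nat_lit 3) (nat_lit 1) (nat_lit 721412) (RL.cons (nat_lit 2) (nat_lit 158) (nat_lit 65796) (nat_lit 65796) (nat_lit 2) (nat_lit 13) (RL.cons (nat_lit 3) (nat_lit 175) (nat_lit 0) (nat_lit 516) (nat_lit 1) (nat_lit 0) (RL.cons (nat_lit 4) (nat_lit 39) (nat_lit 0) (nat_lit 1) (nat_lit 2) (nat_lit 0) (RL.cons (nat_lit 4) (nat_lit 197) (nat_lit 1) (nat_lit 2819) (nat_lit 2) (nat_lit 0xd090101) (RL.cons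 (nat_lit 4) (nat_lit 306) (nat_lit 3) (nat_lit 2819) (nat_lit 5) (nat_lit 459271) (RL.cons (nat_lit 4) (nat_lit 305) (nat_lit 260) (nat_lit 260) (nat_lit 4) (nat_lit 2309) (RL.cons (nat_lit 5) (nat_lit 28) (nat_lit 0) (nat_lit 2) (nat_lit 2) (nat_lit 0) (RL.cons (nat_lit 5) (nat_lit 174) (nat_lit 1) (nat_lit 68357) (nat_lit 2) (nat_lit 0xd090109) (RL.cons (nat_lit 5) (nat_lit 290) (nat_lit 3) (nat_lit 3) (nat_lit 5) (nat_lit 65796) (RL.cons (nat_lit 5) (nat_lit 117) (nat_lit 260) (nat_lit 781) (nat_lit 4) (nat_lit 2820) RL.nil))))))))))))))))))))))))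

theorem c_1_good0_0 : GoodSet 351 c_E2 c_G1 (⟨200, by decide⟩ : Fin 351) c_1_ts (nat_lit 1) (RL.pts c_1_rl0_0) :=
  goodSet_of_ok c_hn (det_lab c_hk ⊤) c_E2_ok c_G1_ok le_top le_top (by decide : 200 < 351) (sepAt_lab c_hk _) (by decide +kernel)

theorem c_1_step0 : Step 351 c_E2 c_G1 c_1_ts (2 * 0 + 1) :=
  step_of_cover c_E2_ok c_1_dist (by decide +kernel) c_1_scs (by decide +kernel) c_1_good0_0 (kw := [nat_lit 7, nat_lit 9, nat_lit 11, nat_lit 13])
    (conj_mem_of_scs c_E2_ok c_G1_ok (by decide : 200 < 351) c_1_scs (c := 0) (d := 299) (by decide +kernel)) (by decide +kernel)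

theorem c_1_lev : grp 351 c_G1 ⊓ MulAction.stabilizer (Equiv.Perm (Fin 351)) (⟨200, by decide⟩ : Fin 351) = grp 351 c_E2 :=
  sims_level (gs := c_V19) rfl (by decide) c_1_fix c_1_dist (forall_lt_one c_1_step0)

theorem c_1_cardG : Nat.card (grp 351 c_G1) = 12096 :=
  card_of_level c_hn c_G1_ok (by decide : 200 < 351) c_1_lev c_card2 (m := 126) (by decide +kernel)

theorem c_le46 : grp 351 c_E1 ≤ grp 351 c_G1 :=
  grp_le_of_memB c_hn c_hk c_G1_ok c_E1_ok (ws := [nat_lit 1, nat_lit 0xf090103010d, nat_lit 0xb0406010401, nat_lit 0xd0303060104010501, nat_lit 3, nat_lit 5, nat_lit 7, nat_lit 9, nat_lit 11, nat_lit 13, nat_lit 15]) (by decide +kernel)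

theorem c_le47 : grp 351 c_G1 ≤ grp 351 c_E1 :=
  grp_le_of_memB c_hn c_hk c_E1_ok c_G1_ok (ws := [nat_lit 1, nat_lit 9, nat_lit 11, nat_lit 13, nat_lit 15, nat_lit 17, nat_lit 19, nat_lit 21]) (by decide +kernel)

theorem c_1_eq : grp 351 c_E1 = grp 351 c_G1 :=
  le_antisymm c_le46 c_le47

theorem c_card1 : Nat.card (grp 351 c_E1) = 12096 :=
  by rw [c_1_eq]; exact c_1_cardG

theorem c_stab1 : grp 351 c_E1 ⊓ MulAction.stabilizer (Equiv.Perm (Fin 351)) (⟨200, by decide⟩ : Fin 351) = grp 351 c_E2 :=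
  by rw [c_1_eq]; exact c_1_lev

theorem c_leO1 : grp 351 c_E1 ≤ grp 351 c_O :=
  c_1_eq.le.trans (grp_cons_le ((c_le17.trans (le_refl (grp 351 c_O))) (c_le20 (toPerm_mem_grp (E := c_V19) (by simp [c_V19])))) c_leO2)

theorem c_0_fix : grp 351 c_E1 ≤ MulAction.stabilizer (Equiv.Perm (Fin 351)) (⟨0, by decide⟩ : Fin 351) :=
  grp_le_stab c_E1_ok (by decide : 0 < 351) (by decide +kernel)

noncomputable def c_0_ts : List ℕ := [nat_lit 0, nat_lit 1, nat_lit 257]

noncomputable def c_0_ds : List ℕ := [nat_lit 0, nat_lit 200, nat_lit 19]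

theorem c_0_dist : Dist 351 c_E1 c_G0 (⟨0, by decide⟩ : Fin 351) c_0_ts c_0_ds :=
  dist_of_distB (k := 2) c_hn c_E1_ok c_G0_ok (by decide : 0 < 351) (by decide +kernel)

noncomputable def c_0_sl0 : SL := (SL.cons (nat_lit 1) (nat_lit 200) (Ch.cons (nat_lit 299) [nat_lit 9, nat_lit 11, nat_lit 13] (Ch.cons (nat_lit 205) [nat_lit 15, nat_lit 17, nat_lit 19] (Ch.cons (nat_lit 2) [nat_lit 21] Ch.nil))) [nat_lit 0x130a0c03070c, nat_lit 0x151309110107, nat_lit 0x1509040b, nat_lit 0x150d0107, nat_lit 852237, nat_lit 0x15110a0c0311, nat_lit 0x150f09030d08] (SL.cons (nat_lit 257) (nat_lit 19) (Ch.cons (nat_lit 4) [nat_lit 0x130a0c070d, nat_lit 0x110a010709] Ch.nil) [nat_lit 0x9090c03070a, nat_lit 0x110c03070c] SL.nil))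

theorem c_0_sc0 : SCs 351 c_E1 c_G0 (⟨0, by decide⟩ : Fin 351) (SL.words c_0_sl0) :=
  scs_of_ok c_hn (det_lab c_hk ⊤) c_E1_ok c_G0_ok le_top le_top (by decide : 0 < 351) c_0_fix c_card1.le (by decide +kernel)

noncomputable def c_0_l : List ℕ := (appL (SL.words c_0_sl0) [])

theorem c_0_scs : SCs 351 c_E1 c_G0 (⟨0, by decide⟩ : Fin 351) c_0_l :=
  (SCs.append c_0_sc0 SCs.nil)

noncomputable def c_0_rl0_0 : RL := (RL.cons (nat_lit 0) (nat_lit 0) (nat_lit 0) (nat_lit 198407) (nat_lit 1) (nat_lit 0x15130d030707) (RL.cons (nat_lit 1) (nat_lit 200) (nat_lit 0) (nat_lit 0) (nat_lit 0) (nat_lit 0) (RL.cons (nat_lit 1) (nat_lit 299) (nat_lit 1) (nat_lit 4) (nat_lit 1) (nat_lit 0x1513090409) (RL.cons (nat_lit 1) (nat_lit 259) (nat_lit 3) (nat_lit 1283) (nat_lit 2) (nat_lit 0x150f0913030907) (RL.cons (nat_lit 1) (nat_lit 296) (nat_lit 7) (nat_lit 66824) (nat_lit 1) (nat_lit 0x15110a0f010a04) (RL.cons (nat_lit 1) (nat_lit 295) (nat_lit 775) (nat_lit 4871) (nat_lit 2) (nat_lit 0x130d070b) (RL.cons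 (nat_lit 1) (nat_lit 175) (nat_lit 66817) (nat_lit 1802) (nat_lit 1) (nat_lit 0xa0c030a) (RL.cons (nat_lit 2) (nat_lit 19) (nat_lit 0) (nat_lit 0) (nat_lit 1) (nat_lit 0) (RL.cons (nat_lit 2) (nat_lit 215) (nat_lit 1) (nat_lit 67332) (nat_lit 2) (nat_lit 0x1513090105) (RL.cons (nat_lit 2) (nat_lit 127) (nat_lit 7) (nat_lit 1795) (nat_lit 1) (nat_lit 0x1511090707) (RL.cons (nat_lit 2) (nat_lit 337) (nat_lit 8) (nat_lit 266) (nat_lit 2) (nat_lit 0xa03070c) RL.nil)))))))))))

theorem c_0_good0_0 : GoodSet 351 c_E1 c_G0 (⟨0, by decide⟩ : Fin 351) c_0_ts (nat_lit 1) (RL.pts c_0_rl0_0) :=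
  goodSet_of_ok c_hn (det_lab c_hk ⊤) c_E1_ok c_G0_ok le_top le_top (by decide : 0 < 351) (sepAt_lab c_hk _) (by decide +kernel)

theorem c_0_step0 : Step 351 c_E1 c_G0 c_0_ts (2 * 0 + 1) :=
  step_of_cover c_E1_ok c_0_dist (by decide +kernel) c_0_scs (by decide +kernel) c_0_good0_0 (kw := [nat_lit 9, nat_lit 11, nat_lit 13, nat_lit 15, nat_lit 17, nat_lit 19, nat_lit 21])
    (conj_mem_of_scs c_E1_ok c_G0_ok (by decide : 0 < 351) c_0_scs (c := 0) (d := 200) (by decide +kernel)) (by decide +kernel)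

theorem c_0_lev : grp 351 c_G0 ⊓ MulAction.stabilizer (Equiv.Perm (Fin 351)) (⟨0, by decide⟩ : Fin 351) = grp 351 c_E1 :=
  sims_level (gs := c_V11) rfl (by decide) c_0_fix c_0_dist (forall_lt_one c_0_step0)

theorem c_0_cardG : Nat.card (grp 351 c_G0) = 4245696 :=
  card_of_level c_hn c_G0_ok (by decide : 0 < 351) c_0_lev c_card1 (m := 351) (by decide +kernel)

theorem c_le48 : grp 351 c_E0 ≤ grp 351 c_G0 :=
  grp_le_of_memB c_hn c_hk c_G0_ok c_E0_ok (ws := [nat_lit 1, nat_lit 0x170b0b0e05130d010513, nat_lit 0x110b0b030c09020217, nat_lit 0x17130d030906020901, nat_lit 0xb05091501010a0c, nat_lit 0x150c0e050917020a17, nat_lit 0x17150c0e050a13020c0d, nat_lit 0x17130c09060a01050f, nat_lit 0x150c0e050301010f, nat_lit 0x150c11030b0202050d, nat_lit 3, nat_lit 5, nat_lit 7, nat_lit 9, nat_lit 11, nat_lit 13, nat_lit 15, nat_lit 17, nat_lit 19, nat_lit 21, nat_lit 23]) (by decide +kernel)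

theorem c_le49 : grp 351 c_G0 ≤ grp 351 c_E0 :=
  grp_le_of_memB c_hn c_hk c_E0_ok c_G0_ok (ws := [nat_lit 1, nat_lit 21, nat_lit 23, nat_lit 25, nat_lit 27, nat_lit 29, nat_lit 31, nat_lit 33, nat_lit 35, nat_lit 37, nat_lit 39, nat_lit 41]) (by decide +kernel)

theorem c_0_eq : grp 351 c_E0 = grp 351 c_G0 :=
  le_antisymm c_le48 c_le49

theorem c_card0 : Nat.card (grp 351 c_E0) = 4245696 :=
  by rw [c_0_eq]; exact c_0_cardG

theorem c_stab0 : grp 351 c_E0 ⊓ MulAction.stabilizer (Equiv.Perm (Fin 351)) (⟨0, by decide⟩ : Fin 351) = grp 351 c_E1 :=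
  by rw [c_0_eq]; exact c_0_lev

theorem c_leO0 : grp 351 c_E0 ≤ grp 351 c_O :=
  c_0_eq.le.trans (grp_cons_le ((le_refl (grp 351 c_O)) (c_le12 (toPerm_mem_grp (E := c_V11) (by simp [c_V11])))) c_leO1)

theorem c_le50 : grp 351 c_O ≤ grp 351 c_E0 :=
  grp_le_of_memB c_hn c_hk c_E0_ok c_O_ok (ws := [nat_lit 3, nat_lit 5, nat_lit 7, nat_lit 9, nat_lit 11, nat_lit 13, nat_lit 15, nat_lit 17, nat_lit 19]) (by decide +kernel)

theorem c_eq : grp 351 c_O = grp 351 c_E0 :=
  le_antisymm c_le50 c_leO0

theorem c_card : Nat.card (grp 351 c_O) = 4245696 :=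
  by rw [c_eq]; exact c_card0

noncomputable def c_ch : Ch := (Ch.cons (nat_lit 0) [nat_lit 1, nat_lit 3, nat_lit 5, nat_lit 7, nat_lit 9, nat_lit 11, nat_lit 13, nat_lit 15, nat_lit 17, nat_lit 19] (Ch.cons (nat_lit 200) [nat_lit 21, nat_lit 23, nat_lit 25, nat_lit 27] (Ch.cons (nat_lit 299) [nat_lit 29, nat_lit 31, nat_lit 33] (Ch.cons (nat_lit 205) [nat_lit 35, nat_lit 37, nat_lit 39] (Ch.cons (nat_lit 2) [nat_lit 41] Ch.nil)))))

theorem c_exact : Ch.Exact 351 c_E0 c_ch (grp 351 c_E0) :=
  Ch.exact (k := 9) (L := (lab 351 9)) c_hn c_E0_ok (by decide +kernel) (wgrp_le_grp _ _ _) c_card0.le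

theorem raw3 : Raw2 3 :=
  raw 0 0 c_hn c_hk c_O_ok c_card (by decide) (by decide +kernel) (by decide +kernel)
    (by decide +kernel) (by decide +kernel) (fun h => absurd rfl h)

end Cfsg.Agent.H55.G2Raw3
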