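import Cfsg.Agent.H63.GvDefs

/-! Project CY, route GV, piece NIL. -/

set_option autoImplicit false

namespace Cfsg.Agent.H55.GvNil

open Subgroup MulAction Cfsg.Agent.H11.Cy Cfsg.Agent.H45.Iv Cfsg.Agent.H63.Gv
open scoped commutatorElement

theorem cm {G : Type} [Group G] {S B : Subgroup G} (h : ∀ a ∈ B, ∀ s ∈ S, a * s * a⁻¹ ∈ S)
    (hB : ∀ a ∈ B, ∀ b ∈ B, a * b = b * a) : ⁅S ⊔ B, S ⊔ B⁆ ≤ S := by
  have k : ∀ g ∈ S ⊔ B, ∃ s ∈ S, ∃ a ∈ B, s * a = g := fun g hg => by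
    rw [← SetLike.mem_coe, coe_mul_of_right_le_normalizer_left _ _ fun a ha =>
      mem_normalizer_iff.2 fun u => ⟨h a ha u, fun hu => by
        simpa [mul_assoc] using h _ (inv_mem ha) _ hu⟩] at hg
    exact hg
  refine commutator_le.2 fun g hg g' hg' => ?_
  obtain ⟨s, hs, a, ha, rfl⟩ := k g hg
  obtain ⟨t, ht, b, hb, rfl⟩ := k g' hg'
  have e : ⁅s * a, t * b⁆ = s * (a * t * a⁻¹) * (a * b * a⁻¹ * s⁻¹ * b⁻¹) * t⁻¹ := by
    simp only [commutatorElement_def]; group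
  rw [e, hB a ha b hb, mul_inv_cancel_right]
  exact mul_mem (mul_mem (mul_mem hs (h a ha t ht)) (h b hb _ (inv_mem hs))) (inv_mem ht)

theorem nil : NilStmt := fun G _ _ Ω _ _ p A st cx cl d S h2 hn => by
  have : Fact p.Prime := ⟨st.pp⟩
  have cy : IsCyclic (A d) := isCyclic_of_prime_card (st.card d)
  have hM : Ms A (Ov A S d) ≤ S ⊔ A d := iSup₂_le fun w hw => hw
  have hT : Ts A (Ov A S d) ≤ S := (commutator_mono hM hM).trans (cm hn fun a ha b hb =>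
    congrArg Subtype.val (cy.isMulCommutative.is_comm.comm (⟨a, ha⟩ : A d) ⟨b, hb⟩))
  have inv : ∀ s ∈ S, ∀ w ∈ Ov A S d, s • w ∈ Ov A S d := fun s hs w hw b hb => by
    have k : s⁻¹ * b * s ∈ A w := by simpa using st.eqv s⁻¹ _ b hb
    have := mul_mem (mul_mem (mem_sup_left (T := A d) hs) (hw k)) (inv_mem (mem_sup_left hs))
    simpa [mul_assoc] using this
  have sub : Sub A (Ov A S d) := fun x hx y hy _ w hw =>
    show A w ≤ S ⊔ A d from le_trans (show A w ≤ A x ⊔ A y from hw) (sup_le hx hy)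
  refine ⟨sub, fun x hx y hy hxy z hz => cx.sk.csfix _ z ?_,
    (le_sup_right : A d ≤ S ⊔ A d), fun s hs w =>
    ⟨fun h => by simpa using inv _ (inv_mem hs) _ h, inv s hs w⟩, hT⟩
  have TM : Ts A (Ov A S d) ≤ Ms A (Ov A S d) := by
    rw [Ts, ← map_subtype_commutator]; exact map_subtype_le _
  have k := (cl (Ov A S d) (Ts A (Ov A S d)) (h2.to_le hT) TM fun w hw a ha => by
    have aM : a ∈ Ms A (Ov A S d) := (le_iSup₂_of_le w hw le_rfl : A w ≤ Ms A _) ha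
    exact (cx.sk.nrm _ a fun v => ⟨fun h => by simpa using cx.sk.inv _ sub _ (inv_mem aM) _ h,
      cx.sk.inv _ sub a aM v⟩).2.1).2
  have RT := (cx.sk.fle _ x hx y hy).2
  exact commutator_le.2 (fun r hr s hs => k r (RT hr) s (RT hs)) ((cx.ls x y hxy).2.2.1.zd hz)

end Cfsg.Agent.H55.GvNil
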