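import Mathlib
import Cfsg.Agent.H95.ParBase
import Cfsg.Agent.H46.J3Base
import Cfsg.Agent.H46.Slp

/-! The data around a four-group and around a Sylow 3-subgroup of the third Janko group. -/

set_option autoImplicit false

namespace Cfsg.Agent.H55.ParJ

open Cfsg.Agent.H42 Cfsg.Agent.H46 Cfsg.Agent.H46.J3 Cfsg.Agent.H95.Par Subgroup
open scoped commutatorElement

/-- bytes of a number -/
def pk (b i : ℕ) : ℕ := Nat.land (Nat.shiftRight b (Nat.mul 8 i)) 255

/-- `v` is one of `1, s, r, r s` -/
noncomputable def wB (O : Ops) (s r v : ℕ) : Bool := frc v fun v =>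
  orB (O.eqB v O.one) (orB (O.eqB v s) (orB (O.eqB v r) (O.eqB v (O.mul r s))))

/-- `n` conjugates `u` to one of `s, r, r s` -/
noncomputable def nB (O : Ops) (s r n u : ℕ) : Bool :=
  orB (O.conjB n u s) (orB (O.conjB n u r) (O.conjB n u (O.mul r s)))

noncomputable def irrB (O : Ops) (s r v n w : ℕ) : Bool := frc v fun v => frc w fun w =>
  orB (wB O s r v) (andB (nB O s r n s) (andB (nB O s r n r)
    (andB (O.conjB n v w) (notB (O.commB v w)))))

noncomputable def fpfB (O : Ops) (s r a i j k l : ℕ) : Bool :=
  frc j fun j => frc k fun k => frc l fun l =>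
    andB (O.conjB a j k) (andB (O.eqB i (O.mul k l)) (wB O s r (O.mul j l)))

section Kit

variable {O : Ops} {G : Type*} [Group G] (C : Coded O G) {s r : ℕ} {gs gr : G}

theorem br {a b c : ℕ} {g h k : G} (ha : C.R a g) (hb : C.R b h) (hc : C.R c k)
    (e : O.eqB (O.mul a b) (O.mul (O.mul c b) a) = true) : ⁅g, h⁆ = k := by
  rw [commutatorElement_def, C.eq_of_eqB (C.R_mul ha hb) (C.R_mul (C.R_mul hc hb) ha) e]
  group

theorem mem_s : gs ∈ closure ({gs, gr} : Set G) := subset_closure (by simp)

theorem mem_r : gr ∈ closure ({gs, gr} : Set G) := subset_closure (by simp)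

theorem mem_W (hs : C.R s gs) (hr : C.R r gr) {v : ℕ} {g : G} (hv : C.R v g)
    (e : wB O s r v = true) : g ∈ closure ({gs, gr} : Set G) := by
  rcases orB_iff.1 e with e | e
  · rw [C.eq_of_eqB hv C.R_one e]; exact one_mem _
  rcases orB_iff.1 e with e | e
  · rw [C.eq_of_eqB hv hs e]; exact mem_s
  rcases orB_iff.1 e with e | e
  · rw [C.eq_of_eqB hv hr e]; exact mem_r
  · rw [C.eq_of_eqB hv (C.R_mul hr hs) e]; exact mul_mem mem_r mem_s

theorem mem_n (hs : C.R s gs) (hr : C.R r gr) {n u : ℕ} {k g : G} (hn : C.R n k) (hu : C.R u g)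
    (e : nB O s r n u = true) : k * g * k⁻¹ ∈ closure ({gs, gr} : Set G) := by
  rcases orB_iff.1 e with e | e
  · rw [C.conj_of_conjB hn hu hs e]; exact mem_s
  rcases orB_iff.1 e with e | e
  · rw [C.conj_of_conjB hn hu hr e]; exact mem_r
  · rw [C.conj_of_conjB hn hu (C.R_mul hr hs) e]; exact mul_mem mem_r mem_s

theorem irr_of [Finite G] (hs : C.R s gs) (hr : C.R r gr) {K : Subgroup G} {v n w : ℕ} {o k : G}
    (hv : C.R v o) (hn : C.R n k) (hw : C.Mem K w) (e : irrB O s r v n w = true)
    (ho : o ∉ closure ({gs, gr} : Set G)) :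
    ∃ n ∈ normalizer (closure {gs, gr} : Subgroup G), n * o * n⁻¹ ∈ K ∧ ⁅o, n * o * n⁻¹⁆ ≠ 1 := by
  obtain ⟨g, hg, hw⟩ := hw
  rcases orB_iff.1 e with e | e
  · exact absurd (mem_W C hs hr hv e) ho
  simp only [andB_iff, notB_iff] at e
  refine ⟨k, closure_le_normalizer (S := {k}) ?_ (mem_closure_singleton_self k), ?_⟩
  · rintro _ rfl _ (rfl | rfl)
    exacts [mem_n C hs hr hn hs e.1, mem_n C hs hr hn hr e.2.1]
  rw [C.conj_of_conjB hn hv hw e.2.2.1, Ne, commutatorElement_eq_one_iff_mul_comm,
    ← C.commB_iff hv hw, e.2.2.2]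
  exact ⟨hg, by simp⟩

theorem fpf_of (hs : C.R s gs) (hr : C.R r gr) {K : Subgroup G} {a i j k l : ℕ} {o c : G}
    (ha : C.R a c) (hi : C.R i o) (hj : C.Mem K j) (hk : C.Mem K k) (hl : C.Mem K l)
    (e : fpfB O s r a i j k l = true) :
    ∃ o' ∈ K, c * o' * c⁻¹ ∈ K ∧ ⁅c, o'⁆⁻¹ * o ∈ closure ({gs, gr} : Set G) := by
  obtain ⟨g, hg, hj⟩ := hj
  obtain ⟨u, hu, hk⟩ := hk
  obtain ⟨v, -, hl⟩ := hl
  obtain ⟨e1, e⟩ := andB_iff.1 e
  obtain ⟨e2, e3⟩ := andB_iff.1 e
  refine ⟨g, hg, ?_⟩
  rw [commutatorElement_def, C.conj_of_conjB ha hj hk e1, C.eq_of_eqB hi (C.R_mul hk hl) e2,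
    show (u * g⁻¹)⁻¹ * (u * v) = g * v by group]
  exact ⟨hu, mem_W C hs hr (C.R_mul hj hl) e3⟩

theorem mem_gen {gen : ℕ → ℕ} {j m a : ℕ} {g : G} (h : C.R a g) (hj : j < m) (e : gen j = a) :
    g ∈ closure (C.gens gen m) := subset_closure ⟨j, hj, e ▸ h⟩

end Kit

noncomputable def f0 : ℕ → ℕ := getL [nat_lit 0x1001010001000110110010000000001110001001100100110000010110000110100000000000001, nat_lit 0x201300000201001000000010101200301000001301000010000101010010001010010100000000010, nat_lit 0x330300000000001110110010000200220000001000110010110000001001010000000001001001100, nat_lit 0x30321211103130313121330201323120000302110200111013031230022212013113302313131231, nat_lit 0x112212313100130102300323123312123211123300312302200110211321131103111210232130101, nat_lit 0x301211031332012130322220000333203031032212130320222030302202100002002001300200, nat_lit 0x111130110103323310121222212123122311233302012023330213123203023111111311003132211, nat_lit 0x102230111102101232113111222320301122320130313313133311022022121031013133213131112, nat_lit 0x111222003001331321332002312311211001201022312011102321133122111123311321133321123,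 nat_lit 0x303100023210023321320311230333200001133201303311030321302331220121200122231211221, nat_lit 0x123303102302322033230113011221031330031213230232120012100230013021221101321003211, nat_lit 0x121111113303221031120031322130022030132312010111331213102003021123211312213002131, nat_lit 0x332032000222202202010010001211310110022022200303333303001001010130233330023223000, nat_lit 0x230302010231130023330132102030202033201132023330032122030132020000100120031002000, nat_lit 0x12020003111133020230012013011133112100200310101112010131002321201012023203331, nat_lit 0x121122212121113111232322132312310110321301013331010001322300030231120301132032032, nat_lit 0x322213010213132112032123330113020211213111222121010311030123221323123222210213011, nat_lit 0x11130112311100002111003313021231102320200102101103313102000200010112020023203331, nat_lit 0x221201011121123321030133231223131223000111013013320331101100110031303313232301120, nat_lit 0x13301333211021023212332030322011000032130133203201121110310132312121003300123131, nat_lit 0x133012310032303003023201300222221112303103313322030121212303302312211001102230131,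 nat_lit 0x300010322303322032213200211001010123101133110321003123030101302102101332203030000, nat_lit 0x110011113113012210021222310003002213113013303133320330132322020111102310200220000, nat_lit 0x212003213323200020202030301001123020200231132010103102220022333330033312101201321, nat_lit 0x321313112221302320101002012220013223020221113333203032000111230222123311320202232, nat_lit 0x30000100000001000000000002000010000000000000100100000000000000001000010000, nat_lit 0x10102000101000100010100030101000001000010000300000303010002030002000202000102030, nat_lit 0x30112222212113213030230033113122123112300222320300303330132102312330012322232331, nat_lit 0x103333220023220313120302232232331010033211031102130311120011132210113103220002201, nat_lit 0x121123332312131123131331112112011011322103103211120220211013031231103210323120101, nat_lit 0x121123332312131123131331112112011011322103103211120220211013031231103210323120101, nat_lit 0x21021100111330013111101302110331013200200010002102032102112302101001032332332001, nat_lit 0x310300103332301022110202113311112122032213000122110021023302121132312113111221020,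 nat_lit 0x113222231332132322113311313112220210313101032323010003311100020112110202313021013, nat_lit 0x230131023312113231323221020311010113123311331232010222012332330112131331030131131, nat_lit 0x33203122111320110213332030202013211032120133113101012200011101232023202220021321, nat_lit 0x21230010311001221111321333302032232203211303011310122032321110132203110012323000, nat_lit 0x20001010302000002030202000003000103000010000103000100000101010100000103030200020, nat_lit 0x31113220102230233332131323122232323203211303003121300012023322212131331001010331, nat_lit 0x112120011301312011220311123020323103301311310011111122221131311311213031211120, nat_lit 0x331312323201222220322300121031203213012033213300310230232033230103322033100312010, nat_lit 0x102123012213103031112120131123211011301132323211313111312001303121013220132120, nat_lit 0x2111112323201303203321310323323232031003301321312001301023020303113303133313111, nat_lit 0x22001102031312103233313113020221311123003122111311211121013130010022120131133131, nat_lit 0x1020222323301023003210022300332113233112123312303102011011223003121322130221301,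 nat_lit 0x213121311133012102121220033222330130101222000101312021333303022331223233132001321, nat_lit 0x222011000330222310132011201102313012211123131220211303223331323033333202001312231, nat_lit 0x103201332200322223103031300133222322101331201223113111312203230211031023320311021, nat_lit 0x112111223101223011310022132130123120133303110123221133301111011312312112213002131, nat_lit 0x100320000010130000001000130210100000320010000000001210001003030002001200000000001]

theorem slp : OJ.slpB f0 [[1, 1, 1, 1, 1, 1, 1, 1, 1, 1, 1, 1, 1, 1, 1, 1], [0, 0, 1, 0, 2, 0, 1, 0, 2, 0], [3, 3], [0, 0, 1, 0, 1, 0, 2, 0, 2, 0], [5, 5, 5, 5], [0, 2, 0, 1, 0, 2, 0, 1, 0, 1, 0, 1], [2, 0, 2, 0, 2, 0, 1, 0, 2, 0, 1, 0], [0, 7, 0, 8], [9, 9, 9, 9], [6, 10, 6, 10], [0, 1, 0, 1, 0, 2, 0, 2, 0, 2], [1, 0, 1, 0, 1, 0, 2, 0, 2, 0], [12, 0, 13], [11, 14], [15, 15, 15, 15, 15, 15, 15, 15], [14, 0], [17, 17, 17, 17, 17, 17, 17, 17, 17], [16, 18], [10, 4, 6, 4, 6, 4, 10, 4, 10], [19, 20], [0, 1, 0, 1, 0, 1, 0, 1], [0, 2, 0, 1, 0, 2, 0, 2, 0, 1, 0, 1, 0, 2, 0, 1], [1, 0,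 2, 0, 22, 23, 22, 0, 1, 0, 2], [0, 2], [25, 0, 1, 0], [4, 11, 4], [4, 6, 4, 6, 10, 4, 10, 6, 10], [4, 6, 4, 6, 10, 6, 10, 4, 6, 4], [29], [0, 12, 0, 13], [31, 31, 31, 31, 31, 31, 31, 31, 31], [12, 0, 13, 10, 6, 10, 6], [33, 33, 33, 33, 33, 33, 33, 33], [32, 34], [19, 4, 35], [36, 0, 19, 4, 35], [19, 6, 4, 35], [38, 0, 19, 4, 6, 35], [19, 10, 4, 35], [40, 0, 19, 4, 10, 35], [37, 39], [37, 41], [42, 43], [27, 42, 4, 10, 6, 10, 6, 4, 38, 0, 19, 4, 6, 35, 36, 0, 19, 4, 35], [27, 43, 4, 10, 6, 10, 6, 4, 40, 0, 19, 4, 10, 35, 36, 0, 19, 4, 35], [27, 42, 43, 4, 10, 6, 10, 6, 4, 40, 0, 19, 4, 10, 35, 36, 0, 19, 4, 35, 38, 0, 19, 4, 6, 35, 36, 0, 19, 4, 35], [27, 42, 4, 10, 6, 10, 6, 4, 38, 0, 19, 4, 6, 35, 36, 0, 19, 4, 35, 43, 42, 27, 38, 0, 19, 4, 6, 35, 36, 0, 19, 4, 35, 4, 10, 6, 10, 6, 4, 40, 0, 19, 4, 10, 35, 36, 0, 19, 4, 35], [4, 10, 4, 10, 4]] 2 = true := by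
  decide +kernel

/-- the pool -/
noncomputable def f (i : ℕ) : ℕ := f0 (Nat.mod i 50)

noncomputable def gO (j : ℕ) : ℕ := f (getL [0, 11, 42, 43, 6, 49] j)

noncomputable def gT (j : ℕ) : ℕ := f (getL [0, 11, 42, 43, 6, 49, 27] j)

noncomputable def tO : ℕ → ℕ :=
  OJ.tabW gO 6 (pk (nat_lit 0x2f2e2d2b211d1a19181817171614141312111110100f0e0e0d0c0b0a0a0909080807070707060605050504040403030302020202010101010100000000000000)) (pk (nat_lit 0x4030505050504040302050205050205030503050403050205040205030402050305040302030205030205040205040305040302050403020105040302010000)) (pk (nat_lit 0x4040404040403030303030303030303030303030303030303030303030303030303030303020202020202020202020202020202020202020201010101010100))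

theorem cO0 : Nat.beq (tO 0) OJ.one = true := by decide +kernel

theorem cO1 : allB (fun x => allB (OJ.edgeChk gO tO 64
    (fun x j => pk (nat_lit 0x342f2e373e3c313b36393f3d2d3038323c3e2b2c33353d3f213e12152f301d1e32332429221a183f373228193c3a3336232a293e393526253f292e3817273a3d32373f1f1614312b16203d24382e1415243c35393e212817342d133d201a2c3b1f3f25273b2c11123e1836333d1326232b31103c192a302f3c1011222d341c3706301a270e0f392e183a381b340516260d350b3b152a360c2b0a11280c363b1e12190a0b35383a18371c1d2b221739090a2d23143b31081c1f1308332c0619122f341b092110073a27120b0f3a0722260a0e2a23011f090d19282101080c09390f2c2a151b38300f2025050637362924350d0e3414233308310e281104321e2f271a320405311722302d030d1021032e2f0b25202e032d1d26162c2b0c04131f02292a20061e29021428051d27170010041c25261300031b012415251e06240123111d051a2207211c0420161f071b031e1d1c1b010200181a190f0b180017160e0a151402130d09121110020c080f0e0d0c00070b0a09080700060504030201) (Nat.add (Nat.mul x 6) j)) (fun _ _ => OJ.one) x) 6) 64 = true := by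
  decide +kernel

theorem cO2 : allB (sortP (fun i => OJ.key (tO (pk (nat_lit 0x363c2a16370e2d171930221f26350233341b083d091c1807052e312b112c2528213e20153f1d12063b23000a2f321e141a240c0f04393a38271303290d10010b) i))) 64) 64 = true := by
  decide +kernel

noncomputable def tT : ℕ → ℕ :=
  OJ.tabW gT 7 (pk (nat_lit 0x47433f3b3836363533302e2d2d2c2b2925242323222221212120201f1f1e1e1e1d1d1d1c1c1b1a1a19181817171616161615151414141313131212121211111010100f0f0e0e0d0d0d0d0c0c0b0b0b0a0a0a09090908080808070707070706060605050505040404040303030302020202020101010101010000000000000000)) (pk (nat_lit 0x506060405060305020305050206060505050603050205030106040604040201060302050205030106050206050504020106030605030605040504030206030605020605060405040302060206050306040206050305040302050403020106030206050302060504020605040306050403020605040302010605040302010000)) (pk (nat_lit 0x404040404040404040404040404040403030303030303030303030303030303030303030303030303030303030303030303030303030303030303030303030303030303030303030303030303030303030303030303030303020202020202020202020202020202020202020202020202020202020202020101010101010100))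

theorem cT0 : Nat.beq (tT 0) OJ.one = true := by decide +kernel

theorem cT1 : allB (fun x => allB (OJ.edgeChk gT tT 128
    (fun x j => pk (nat_lit 0x6a47485a5c7a7e435b4d4b5e6d7f3f794f6449517c706c3b62715f7d753839691e616f364a5363567f6d417d594337576c5c3571771650694d686b50406f61473b6c3d4274597b2e6d15194d53552d663035765256676e7b3b69502c36607c26624e2b4478265f54497c292a565a323f5325267833777b2e2473467d49542355755d657e7a3c7c766a2466792f2277717226467f6430660723435e2149612d73784b7722671a25452a732425522142205f74234c6c57502f201d7e5e561f6a3351464e62253e1f7f705a5d34431e5f6b726448454673607b772958722d7b1e401d662d72547c516931413f6d655c383a347e3f4b63781c3c707a565e597e2b1b185547451b2c7a32634b5b4f795867527628603652681a3d19515236447966731819327f5c65746d2e3e1c5b4a1737506b7c716e6f177a2c2048754a16571a2159743257164e6e7d5f6542546f4f787327597d4078163b1523407d396472772b7e343c7548144921076c24446814156d1d5d5a527a173a314755134c6939516e7161137f1f41534d767f13142f4a5b181261494e396b5a6112423038681b71350d79374c7e621a570d366a1150373874356779285e0653203c103d4e166f33607d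1011654b1d702463275b051b3a0f4023744530586c0f5c0c7519410e767c60692d4f375d0e470b143e310d7b6e6446265d7b0d353d45253a5442125744247a7258791243230c784445764221620e5d752a151f0b30644f77401e510b0c5c63701d395e2829472f1c0a336a76383d1a6b650a0b4a31186e755509282b1709745f1e733b1672095a48061f15714d5b270a2e136708703c150c116070082f3a0b10584131012b0a0f4f1f3e2e01090e1c076f54626b39636f07215868383e6e6722664c376d4e3d6c226a36086b684c6a071206694c68596735660a651148411964276353112c34051a623b6160335f05065e5d3f32265c0f105b1831445a0955103e14041e43592558305704562a4d3c2046560405551c2f54534a030f132e03525133504f2d4e034b4d0c342c4c4b034a293a1b4948470e04172b02464544430d2242023f412c062a403f02183e05293d3c1c001304283b343a170003270139383736120735013219342a063332013114290530202f082e28042d2c1b2b082703222a29282701020026252423220d21001d201f110c1e1d001c1b100b1a191802170f0a16151413020e091211100f0e00080d0c0b0a09080007060504030201) (Nat.add (Nat.mul x 7) j)) (fun _ _ => OJ.one) x) 7) 128 = true := by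
  decide +kernel

theorem cT2 : allB (sortP (fun i => OJ.key (tT (pk (nat_lit 0x5d357f7b3d41681b5e62104a1c33362d1f7371762453512f222b58393a5c50266c740240615a775b27097a3b0a281d08125205374b554647593860237d1416487c343e452e1a6d2c197e29432167156a544f5706754c3144300066695f4e0b1e4d2556722a182032420e11496e786f6404650770633c17033f6b0d0f13010c79) i))) 128) 128 = true := by
  decide +kernel

theorem cs : allB (fun j => OJ.commB (gO j) (f 0)) 6 = true := by decide +kernel

theorem cr : allB (fun j => OJ.commB (gO j) (f 11)) 6 = true := by decide +kernel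

theorem coo : allB (fun i => wB OJ (f 0) (f 11) (OJ.mul (tO i) (tO i))) 64 = true := by
  decide +kernel

theorem cirr : allB (fun i => irrB OJ (f 0) (f 11) (tO i) (f (pk (nat_lit 0x1c1c1c1c1b1b1c1b1c1b1c1c1b1c1c1b1b1b1c1b1c1c1b1c1c1c1c1b1b1b1c1c1c1b1b1c1c1c1c1b1b1c1c1b1c1c1c1c1b1b1c1c1b1b1c1c001b1b1c1c000000) i))
    (tO (pk (nat_lit 0x15272a1a242c1205250a19321d203518290e373a39162f3c113f2d3b0b0f09341c14330821283130063d261e042b3e0d222e031323361b1f0017380c10000000) i))) 64 = true := by
  decide +kernel

theorem cfpf : allB (fun i => fpfB OJ (f 0) (f 11) (f 28) (tO i) (tO (pk (nat_lit 0x151515151406122c122c12322c123214142c32143211063c113c2b062e2e042b0405180310112b062e3c112e042b3c0405180310051803100005180310000000) i))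
    (tO (pk (nat_lit 0x2626262633052b172b172b20172b203333172033203e051a3e1a39053b3b0c390c3a1e100d3e39053b1a3e3b0c391a0c3a1e100d3a1e100d003a1e100d000000) i)) (tO (pk (nat_lit 0x1a2a2715221e1230253b19392c203714232f351732260f3c283f2d0b383309341c05181b1f113106363d162e042b3e0d0a240c100e290821071d3a0313020100) i))) 64 = true := by
  decide +kernel

theorem pool {G : Type} [Group G] (C : Coded OJ G) (h : C.Tab ⊤ gen 2) :
    ∃ x : ℕ → G, ∀ i, C.R (f i) (x i) := by
  have h0 : C.Tab ⊤ f0 2 := fun i hi => by
    have e : f0 i = gen i := by interval_cases i <;> decide +kernel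
    rw [e]; exact h i hi
  have h1 : C.Tab ⊤ f0 50 := h0.of_slpB C _ slp
  exact ⟨fun i => C.el (f i), fun i => C.R_el ((h1.modulo C (by norm_num) i).imp fun _ k => k.2)⟩

theorem enO {G : Type} [Group G] [Finite G] (C : Coded OJ G) (gx : ∀ j < 6, ∃ g, C.R (gO j) g) :
    C.Enum (closure (C.gens gO 6)) tO 64 ∧ Nat.card (closure (C.gens gO 6)) = 64 :=
  C.enum_card_tabW (by norm_num) (by norm_num) gx cO0 (fun _ => of_allB cO1) _
    fun _ => of_allB cO2

theorem enT {G : Type} [Group G] [Finite G] (C : Coded OJ G) (gx : ∀ j < 7, ∃ g, C.R (gT j) g) :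
    C.Enum (closure (C.gens gT 7)) tT 128 ∧ Nat.card (closure (C.gens gT 7)) = 128 :=
  C.enum_card_tabW (by norm_num) (by norm_num) gx cT0 (fun _ => of_allB cT1) _
    fun _ => of_allB cT2

theorem gOT {G : Type} [Group G] (C : Coded OJ G) : C.gens gO 6 ⊆ C.gens gT 7 := by
  rintro g ⟨j, hj, k⟩
  have e : ∀ j < 6, gO j = gT j := by decide +kernel
  rw [e j hj] at k
  exact ⟨j, by omega, k⟩

theorem jd {G : Type} [Group G] [Finite G] (C : Coded OJ G) {x : ℕ → G}
    (hx : ∀ i, C.R (f i) (x i)) : ∃ (D : JD G) (ι : G), ι * D.y * ι⁻¹ = D.y⁻¹ := by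
  have gx : ∀ j < 6, ∃ g, C.R (gO j) g := fun j _ => ⟨_, hx _⟩
  have eO := enO C gx
  have eT := enT C fun j _ => ⟨_, hx _⟩
  have mO : ∀ i, C.Mem (closure (C.gens gO 6)) (tO i) :=
    C.mem_tabW (by norm_num) (C.tab_closure gx) _ _ _
  refine ⟨{
    s := x 0, r := x 11, y := x 21, w := x 24, m := x 25, τ := x 27, x1 := x 42, x2 := x 43
    a := x 28, T := closure (C.gens gT 7), O := closure (C.gens gO 6)
    hT := IsPGroup.of_card (n := 7) eT.2
    OT := Subgroup.closure_mono (gOT C)
    τT := mem_gen C (j := 6) (hx 27) (by norm_num) (by decide +kernel)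
    sO := mem_gen C (j := 0) (hx 0) (by norm_num) (by decide +kernel)
    rO := mem_gen C (j := 1) (hx 11) (by norm_num) (by decide +kernel)
    x1O := mem_gen C (j := 2) (hx 42) (by norm_num) (by decide +kernel)
    x2O := mem_gen C (j := 3) (hx 43) (by norm_num) (by decide +kernel)
    ss := C.eq_of_eqB (C.R_mul (hx 0) (hx 0)) C.R_one (by decide +kernel)
    s1 := C.ne_of_eqB (hx 0) C.R_one (by decide +kernel)
    rs := C.ne_of_eqB (hx 11) (hx 0) (by decide +kernel)
    ys := C.conj_of_conjB (hx 21) (hx 0) (hx 11) (by decide +kernel)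
    yr := C.conj_of_conjB (hx 21) (hx 11) (C.R_mul (hx 11) (hx 0)) (by decide +kernel)
    w3 := C.eq_of_eqB (C.R_pow (hx 24) 3) (hx 21) (by decide +kernel)
    y3 := C.eq_of_eqB (C.R_pow (hx 21) 3) C.R_one (by decide +kernel)
    hm := by
      rw [C.conj_of_conjB (hx 25) (hx 0) (hx 26) (by decide +kernel),
        C.orderOf_of_ordChk (C.R_mul (hx 0) (hx 26)) (n := 8) (l := [2]) (by norm_num) (by norm_num)
          (by simp) (by decide +kernel)]
      norm_num
    τc := subset_closure ⟨x 4, (C.commB_iff (hx 4) (hx 0)).1 (by decide +kernel),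
      (C.conj_of_conjB (hx 4) (hx 11) (hx 27) (by decide +kernel)).symm⟩
    x1c := (C.eq_of_eqB (C.R_mul (hx 37) (hx 39)) (hx 42) (by decide +kernel)) ▸ mul_mem
      (subset_closure ⟨x 36, (C.commB_iff (hx 36) (hx 11)).1 (by decide +kernel),
        (C.conj_of_conjB (hx 36) (hx 0) (hx 37) (by decide +kernel)).symm⟩)
      (subset_closure ⟨x 38, (C.commB_iff (hx 38) (hx 11)).1 (by decide +kernel),
        (C.conj_of_conjB (hx 38) (hx 0) (hx 39) (by decide +kernel)).symm⟩)
    x2c := (C.eq_of_eqB (C.R_mul (hx 37) (hx 41)) (hx 43) (by decide +kernel)) ▸ mul_mem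
      (subset_closure ⟨x 36, (C.commB_iff (hx 36) (hx 11)).1 (by decide +kernel),
        (C.conj_of_conjB (hx 36) (hx 0) (hx 37) (by decide +kernel)).symm⟩)
      (subset_closure ⟨x 40, (C.commB_iff (hx 40) (hx 11)).1 (by decide +kernel),
        (C.conj_of_conjB (hx 40) (hx 0) (hx 41) (by decide +kernel)).symm⟩)
    τr := C.conj_of_conjB (hx 27) (hx 11) (C.R_mul (hx 11) (hx 0)) (by decide +kernel)
    c1 := by
      rw [br C (hx 27) (hx 42) (hx 45) (by decide +kernel)]
      exact C.eq_of_eqB (C.R_mul (hx 45) (hx 45)) (hx 0) (by decide +kernel)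
    c2 := by
      rw [br C (hx 27) (hx 43) (hx 46) (by decide +kernel)]
      exact C.eq_of_eqB (C.R_mul (hx 46) (hx 46)) (hx 0) (by decide +kernel)
    c3 := by
      rw [br C (hx 27) (C.R_mul (hx 42) (hx 43)) (hx 47) (by decide +kernel)]
      exact C.eq_of_eqB (C.R_mul (hx 47) (hx 47)) (hx 0) (by decide +kernel)
    c4 := by
      rw [br C (hx 27) (hx 42) (hx 45) (by decide +kernel),
        br C (hx 45) (hx 43) (hx 48) (by decide +kernel)]
      exact mem_W C (hx 0) (hx 11) (hx 48) (by decide +kernel)
    os := fun o ho => mem_centralizer_singleton_iff.1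
      (C.closure_le_centralizer (hx 0) (fun _ k => (of_allB cs k :)) ho)
    or := fun o ho => mem_centralizer_singleton_iff.1
      (C.closure_le_centralizer (hx 11) (fun _ k => (of_allB cr k :)) ho)
    oo := fun o ho => (eO.1 o ho).elim fun i k =>
      mem_W C (hx 0) (hx 11) (C.R_mul k.2 k.2) (of_allB coo k.1 :)
    card := eO.2
    irr := fun o ho => (eO.1 o ho).elim fun i k =>
      irr_of C (hx 0) (hx 11) k.2 (hx _) (mO _) (of_allB cirr k.1 :)
    as := (C.commB_iff (hx 28) (hx 0)).1 (by decide +kernel)
    ar := (C.commB_iff (hx 28) (hx 11)).1 (by decide +kernel)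
    fpf := fun o ho => (eO.1 o ho).elim fun i k =>
      fpf_of C (hx 0) (hx 11) (hx 28) k.2 (mO _) (mO _) (mO _) (of_allB cfpf k.1 :) }, x 30, ?_⟩
  exact (C.conj_of_conjB (hx 30) (hx 21) (C.R_mul (hx 21) (hx 21)) (by decide +kernel)).trans
    (eq_inv_of_mul_eq_one_left (C.eq_of_eqB (C.R_mul (C.R_mul (hx 21) (hx 21)) (hx 21)) C.R_one (by decide +kernel)))

/-- piece JX -/
theorem jx : JXStmt := fun _ _ _ _ h4 hω =>
  haveI := finite_J (isF4_of_card h4 hω)
  (pool (CJ (isF4_of_card h4 hω)) (tabJ_gen _)).elim fun _ => jd _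

theorem sd {G : Type} [Group G] (C : Coded OJ G)
    (h : ∀ i < 45, i ≠ 27 → i ≠ 36 → ∃ g, C.R (dg i) g) : Nonempty (SD G) := by
  obtain ⟨z, hz⟩ := h 3 (by norm_num) (by norm_num) (by norm_num)
  obtain ⟨c, hc⟩ := h 1 (by norm_num) (by norm_num) (by norm_num)
  obtain ⟨a, ha⟩ := h 9 (by norm_num) (by norm_num) (by norm_num)
  obtain ⟨w0, h0⟩ := h 21 (by norm_num) (by norm_num) (by norm_num)
  obtain ⟨w1, h1⟩ := h 19 (by norm_num) (by norm_num) (by norm_num)
  obtain ⟨e, he⟩ := h 31 (by norm_num) (by norm_num) (by norm_num)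
  exact ⟨{
    z := z, c := c, a := a, w0 := w0, w1 := w1, g1 := e ^ 5, g2 := e ^ 7
    z3 := C.eq_of_eqB (C.R_pow hz 3) C.R_one (by decide +kernel)
    c3 := C.eq_of_eqB (C.R_pow hc 3) C.R_one (by decide +kernel)
    a3 := C.eq_of_eqB (C.R_pow ha 3) C.R_one (by decide +kernel)
    c1 := C.ne_of_eqB hc C.R_one (by decide +kernel)
    zc := (C.commB_iff hz hc).1 (by decide +kernel)
    za := (C.commB_iff hz ha).1 (by decide +kernel)
    ca := (C.commB_iff hc ha).1 (by decide +kernel)
    w0z := (C.commB_iff h0 hz).1 (by decide +kernel)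
    w1z := (C.commB_iff h1 hz).1 (by decide +kernel)
    w1c := (C.commB_iff h1 hc).1 (by decide +kernel)
    w03 := C.eq_of_eqB (C.R_pow h0 3) hc (by decide +kernel)
    w0a := C.conj_of_conjB h0 ha (C.R_mul ha hz) (by decide +kernel)
    w1a := C.conj_of_conjB h1 ha (C.R_mul ha hc) (by decide +kernel)
    g1z := C.conj_of_conjB (C.R_pow he 5) hz (C.R_mul hz hc) (by decide +kernel)
    g1c := C.conj_of_conjB (C.R_pow he 5) hc (C.R_mul (C.R_mul hz hz) hc) (by decide +kernel)
    g2z := C.conj_of_conjB (C.R_pow he 7) hz (C.R_mul (C.R_mul hz hc) hc) (by decide +kernel)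
    g2c := C.conj_of_conjB (C.R_pow he 7) hc (C.R_mul hz hc) (by decide +kernel) }⟩

/-- piece SX -/
theorem sx : SXStmt := fun _ _ _ _ h4 hω =>
  sd (CJ (isF4_of_card h4 hω)) fun _ hi h1 h2 =>
    (exT_of_mem _ (memG_dg _ hi h1 h2)).elim fun _ k => ⟨_, RJ_of_RT _ k⟩

end Cfsg.Agent.H55.ParJ
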