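import Mathlib
import Cfsg.Agent.H42.PcDefs

/-! Project PC, piece QO. -/

set_option autoImplicit false

namespace Cfsg.Agent.H55.PcQo

open Subgroup Cfsg.Agent.H42.Pc

universe u

theorem one_of {G : Type*} [Group G] {g : G} {k : ℕ} (h : g ^ 2 ^ k = 1) (ho : Odd (orderOf g)) :
    g = 1 := orderOf_eq_one_iff.1 ((Nat.Coprime.pow_right k (Nat.coprime_two_right.2 ho)).eq_one_of_dvd
      (orderOf_dvd_of_pow_eq_one h))

theorem qo : QoStmt.{u} := by
  intro G _ _ T O _ c hO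
  have := c.nT
  have two : ∀ w ∈ T, ∃ k : ℕ, w ^ 2 ^ k = 1 := fun w hw => by
    obtain ⟨k, hk⟩ := c.pT ⟨w, hw⟩
    exact ⟨k, congrArg Subtype.val hk⟩
  have disj : ∀ w ∈ T, w ∈ O → w = 1 := fun w hw h => by
    obtain ⟨k, hk⟩ := two w hw
    exact one_of hk ((hO w).1 h).2
  have lift : ∀ z : G ⧸ O, z * z ∈ T.map (QuotientGroup.mk' O) →
      ∃ y : G, QuotientGroup.mk' O y = z ∧ y * y ∈ T := by
    rintro z ⟨w, hw, e⟩
    obtain ⟨y0, rfl⟩ := QuotientGroup.mk'_surjective O z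
    obtain ⟨k, hk⟩ := two w hw
    obtain ⟨a, m, hm, ha⟩ := Nat.exists_eq_two_pow_mul_odd (orderOf_pos y0).ne'
    have h1 : (QuotientGroup.mk' O y0) ^ 2 ^ (k + 1) = 1 := by
      rw [pow_succ', pow_mul, pow_two, ← e, ← map_pow, hk, map_one]
    obtain ⟨n, hn⟩ := exists_pow_eq_self_of_coprime (x := QuotientGroup.mk' O y0) (n := m)
      (Nat.Coprime.of_dvd_right (orderOf_dvd_of_pow_eq_one h1)
        (Nat.Coprime.pow_right _ (Nat.coprime_two_right.2 hm)))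
    have h2 : QuotientGroup.mk' O ((y0 ^ m) ^ n) = QuotientGroup.mk' O y0 := by
      rw [map_pow, map_pow, hn]
    have h3 : ((y0 ^ m) ^ n) ^ 2 ^ a = 1 := by
      rw [← pow_mul, mul_comm, pow_mul, ← pow_mul y0, mul_comm, ← ha, pow_orderOf_eq_one, one_pow]
    refine ⟨_, h2, ?_⟩
    rw [← h2] at e
    generalize (y0 ^ m) ^ n = y at h3 e
    have h4 : w⁻¹ * (y * y) ∈ O := QuotientGroup.eq.1 e
    obtain ⟨o, ho⟩ : ∃ o, o = w⁻¹ * (y * y) := ⟨_, rfl⟩
    rw [← ho] at h4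
    have h5 : y * y = w * o := by rw [ho, mul_inv_cancel_left]
    have h6 : Commute w o := mem_centralizer_iff.1 ((hO o).1 h4).1 w hw
    have h7 : o ^ 2 ^ (a + k) = 1 := by
      have h8 : (w * o) ^ 2 ^ (a + k) = 1 := by
        rw [← h5, (Commute.refl y).mul_pow, pow_add, pow_mul, h3, one_pow, one_mul]
      rwa [h6.mul_pow, pow_add, mul_comm (2 ^ a), pow_mul w, hk, one_pow, one_mul, mul_comm,
        ← pow_add] at h8
    rw [h5, one_of h7 ((hO o).1 h4).2, mul_one]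
    exact hw
  refine ⟨⟨c.nT.map _ (QuotientGroup.mk'_surjective O), c.pT.map _, fun z z' h1 h2 h3 h4 => ?_,
    fun z hz => ?_, fun z h1 h2 => ?_⟩, fun g hg => ?_⟩
  · obtain ⟨y, rfl, hy⟩ := lift z h3
    obtain ⟨y', rfl, hy'⟩ := lift z' h4
    obtain ⟨g, hg⟩ := c.cc y y' (fun h => h1 (mem_map_of_mem _ h))
      (fun h => h2 (mem_map_of_mem _ h)) hy hy'
    exact ⟨QuotientGroup.mk' O g, by
      rw [← MonoidHom.map_zpowers, hg, MonoidHom.map_zpowers, map_mul, map_mul, map_inv]⟩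
  · obtain ⟨y, rfl, hy⟩ := lift z (hz ▸ one_mem _)
    exact mem_map_of_mem _ (c.ni y (disj _ hy ((QuotientGroup.eq_one_iff _).1 hz)))
  · obtain ⟨y, rfl, hy⟩ := lift z h2
    obtain ⟨w, hw, h⟩ := c.tr y (fun h => h1 (mem_map_of_mem _ h)) hy
    refine ⟨_, mem_map_of_mem _ hw, ?_⟩
    have := mem_map_of_mem (QuotientGroup.mk' O) h
    rwa [Dr, H42.Pc.Ext, map_commutator, Subgroup.map_sup, MonoidHom.map_zpowers, map_mul, map_mul] at this
  · obtain ⟨g, rfl⟩ := QuotientGroup.mk'_surjective O g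
    have h1 : g ∈ centralizer (T : Set G) := mem_centralizer_iff.2 fun w hw => by
      have h2 : (g * w)⁻¹ * (w * g) ∈ O := QuotientGroup.eq.1
        (mem_centralizer_iff.1 hg _ (mem_map_of_mem _ hw)).symm
      have h3 : (g * w)⁻¹ * (w * g) ∈ T := by
        have := mul_mem (inv_mem hw) (c.nT.conj_mem _ hw g⁻¹)
        simpa [mul_assoc] using this
      exact (inv_mul_eq_one.1 (disj _ h3 h2)).symm
    obtain ⟨a, m, hm, ha⟩ := Nat.exists_eq_two_pow_mul_odd (orderOf_pos g).ne'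
    refine ⟨a, ?_⟩
    rw [← map_pow]
    exact (QuotientGroup.eq_one_iff _).2 ((hO _).2 ⟨pow_mem h1 _, hm.of_dvd_nat
      (orderOf_dvd_of_pow_eq_one (by rw [← pow_mul, ← ha, pow_orderOf_eq_one]))⟩)

end Cfsg.Agent.H55.PcQo
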