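import Mathlib
import Cfsg.Agent.H41.S6Kit2

/-! Facts on `Sp₆(2)`: a code model of the Sylow 2-subgroup and the pieces `KB`, `KC`, `KD`. -/

set_option autoImplicit false
set_option maxRecDepth 100000
set_option synthInstance.maxSize 2000

namespace Cfsg.Agent.H55.S6K

open Cfsg Subgroup
open Cfsg.Agent.H44 Cfsg.Agent.H55.Sp6 Cfsg.Agent.H2.L3E Cfsg.Agent.H41.S6
open scoped Pointwise

instance finite_Sp : Finite Sp := Nat.finite_of_card_ne_zero (by rw [card_Sp]; norm_num)

/-! ### The Sylow 2-subgroup on the codes below 512 -/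

def dw (k : ℕ) : List ℕ := [[], [1, 16, 17], [1, 32, 33], [1, 16, 17, 1, 32, 33], [2, 32, 34],
  [1, 16, 17, 1, 32, 33, 2, 32, 34], [1, 32, 33, 2, 32, 34], [1, 16, 17, 2, 32, 34]].getD k []

def tT (k c : ℕ) : ℕ := (0x55479faab86075c5978a3a6834c187cb3e7814438febbc70964baf69b450b6c9a7493658f7cdb7083248d74fbf28b040105187efae7830d38fcf2c7071d79f8e2860515597aeaa68b2dbaf4d24509259a76da658d35db72ca248f3dfbf0c20401053ce8a3a6830d1c6aab86071d5d6ebbc705157decb3e78f3ddf669b450d35ffe493658925bee083248b2d9e628b0405545d6cf2c7075c7deefae7834c3ceaeaa681441c68e2860d74df64d2450f7cffe6da658b6cbee2ca2489649e60c2040ffed35aab860df6f3d8a3a68bee925ebbc709e6b2dcb3e781c630d4936583ce10569b4505d671d0832487de51528b0409a7925cf2c70bafb2defae78db7d358e2860fbff3daeaa6838f30d6da6581871054d245079f71d2ca2485975150c20409a7b6c8a3a68baf964aab860db7f7ccb3e78fbfd74ebbc7059775c49365879f55469b45018734c08324838f14428b040ffef7cefae78df6d74cf2c70beeb6caeaa689e69648e28607de75c6da6585d65544d24503ce34c2ca2481c61440c2040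 >>> (6 * (64 * k + c))) % 64

def tD (k l : ℕ) : ℕ := (0x4c197721ab3e053de5688facde5053b3e21a9774c1fac688 >>> (3 * (8 * k + l))) % 8

/-- product of codes -/
def mu (n m : ℕ) : ℕ := (n % 64 ^^^ tT (n / 64) (m % 64)) + 64 * tD (n / 64) (m / 64)

noncomputable def el (n : ℕ) : Sp := ac (n % 64) * ev g (dw (n / 64))

theorem dw_ok : ∀ k < 8, (∀ a ∈ dw k, a < 64) ∧ wd (dw k) 1 = 1 ∧ wd (dw k) 2 = 2 + k % 2 ∧
    wd (dw k) 4 = 4 + k / 2 ∧
    ((dw k).all (· < 64) && (List.range 64).all fun x => lv (wd (dw k) x) == lv x) = true ∧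
    (∀ c < 64, cjc (wd (dw k)) c = tT k c) ∧
    ∀ l < 8, cols (wd (dw k ++ dw l)) = cols (wd (dw (tD k l))) := by decide +kernel

theorem d_T0 {k : ℕ} (hk : k < 8) : ev g (dw k) ∈ T0 := ev_mem_T0 (dw_ok k hk).2.2.2.2.1

theorem el_T0 {n : ℕ} (hn : n < 512) : el n ∈ T0 :=
  mul_mem (A_le_T0 (ac_mem (by omega))) (d_T0 (by omega))

theorem el_ac {c : ℕ} (hc : c < 64) : el c = ac c := by
  rw [el, Nat.mod_eq_of_lt hc, Nat.div_eq_of_lt hc]; exact mul_one _

theorem el_zero : el 0 = 1 := (el_ac (by norm_num)).trans ac_zero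

theorem mu_lt (n m : ℕ) : mu n m < 512 := by
  have h1 : n % 64 ^^^ tT (n / 64) (m % 64) < 64 := xor_lt (by omega) (Nat.mod_lt _ (by norm_num))
  have h2 : tD (n / 64) (m / 64) < 8 := Nat.mod_lt _ (by norm_num)
  unfold mu; omega

theorem el_mul {n m : ℕ} (hn : n < 512) (hm : m < 512) : el n * el m = el (mu n m) := by
  have h := dw_ok (n / 64) (by omega)
  have h1 : tT (n / 64) (m % 64) < 64 := Nat.mod_lt _ (by norm_num)
  have h2 : tD (n / 64) (m / 64) < 8 := Nat.mod_lt _ (by norm_num)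
  have h3 : n % 64 ^^^ tT (n / 64) (m % 64) < 64 := xor_lt (by omega) h1
  have e1 := (conj_ac (T0_le_P3 (d_T0 (k := n / 64) (by omega)))
    (fun u hu => act_wd h.1 (by omega)) (c := m % 64) (by omega)).2
  rw [h.2.2.2.2.2.1 _ (by omega)] at e1
  have e2 : ev g (dw (n / 64)) * ev g (dw (m / 64)) = ev g (dw (tD (n / 64) (m / 64))) := by
    rw [← ev_append]
    exact (ev_eq_iff (append_lt h.1 (dw_ok _ (by omega)).1) (dw_ok _ h2).1).2
      (h.2.2.2.2.2.2 _ (by omega))
  rw [el, el, el, show mu n m % 64 = n % 64 ^^^ tT (n / 64) (m % 64) by unfold mu; omega,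
    show mu n m / 64 = tD (n / 64) (m / 64) by unfold mu; omega, ← ac_mul (by omega) h1, ← e1, ← e2]
  group

theorem act_el {n : ℕ} (hn : n < 512) :
    act (el n) 2 = 2 + n / 64 % 2 ∧ act (el n) 4 = 4 + n / 64 / 2 := by
  have h := dw_ok (n / 64) (by omega)
  have ha := mem_A.1 (ac_mem (c := n % 64) (by omega))
  rw [el, act_mul, act_mul, act_wd h.1 (by norm_num), act_wd h.1 (by norm_num), h.2.2.1, h.2.2.2.1]
  exact ⟨ha _ (by omega), ha _ (by omega)⟩

theorem el_inj {n m : ℕ} (hn : n < 512) (hm : m < 512) (e : el n = el m) : n = m := by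
  have h1 := act_el hn
  have h2 := act_el hm
  rw [e] at h1
  have h3 : n / 64 = m / 64 := by omega
  rw [el, el, h3, mul_left_inj] at e
  have := ac_inj (by omega) (by omega) e
  omega

theorem el_A {n : ℕ} (hn : n < 512) : el n ∈ A ↔ n < 64 := by
  refine ⟨fun h => ?_, fun h => el_ac h ▸ ac_mem h⟩
  have h1 := act_el hn
  have h2 := mem_A3.1 h
  omega

theorem T0_el {s : Sp} (hs : s ∈ T0) : ∃ n < 512, s = el n := by
  have h1 := T0_one hs
  have h2 := (lv_facts _ (act_lt s 2)).2.1 (hs 2 (by omega))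
  have h4 := (lv_facts _ (act_lt s 4)).2.2 (hs 4 (by omega))
  simp only [List.mem_cons, List.not_mem_nil, or_false] at h2 h4
  obtain ⟨k, hk, e2, e4⟩ : ∃ k < 8, act s 2 = 2 + k % 2 ∧ act s 4 = 4 + k / 2 :=
    ⟨act s 2 - 2 + 2 * (act s 4 - 4), by omega, by omega, by omega⟩
  have h := dw_ok k hk
  have ha : (ev g (dw k))⁻¹ * s ∈ A := by
    rw [mem_A3, act_mul, act_mul, act_mul, h1, e2, e4, ← h.2.2.1, ← h.2.2.2.1,
      ← act_wd h.1 (by norm_num), ← act_wd h.1 (by norm_num), act_inv_act _ (by norm_num),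
      act_inv_act _ (by norm_num)]
    refine ⟨?_, rfl, rfl⟩
    conv_lhs => rw [← h.2.1, ← act_wd h.1 (by norm_num), act_inv_act _ (by norm_num)]
  obtain ⟨c, hc, e⟩ := A_par.1 (P3_conj_A (T0_le_P3 (d_T0 hk)) ha)
  refine ⟨c + 64 * k, by omega, ?_⟩
  rw [el, show (c + 64 * k) % 64 = c by omega, show (c + 64 * k) / 64 = k by omega, ← e]
  group

theorem el_inv {u : ℕ} (hu : u < 512) (h : mu u u = 0) : (el u)⁻¹ = el u :=
  inv_eq_of_mul_eq_one_right (by rw [el_mul hu hu, h, el_zero])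

theorem el_cj {u x : ℕ} (hu : u < 512) (h : mu u u = 0) (hx : x < 512) :
    el u * el x * (el u)⁻¹ = el (mu (mu u x) u) := by
  rw [el_inv hu h, el_mul hu hx, el_mul (mu_lt _ _) hu]

theorem el_word (n : ℕ) : el n = ev g (aw (n % 64) ++ dw (n / 64)) := (ev_append _ _ _).symm

section Sub

variable {F : Subgroup Sp}

theorem comm_of_sq (h : ∀ x ∈ F, x * x = 1) {x y : Sp} (hx : x ∈ F) (hy : y ∈ F) :
    x * y = y * x := by
  have := inv_eq_of_mul_eq_one_right (h _ (mul_mem hx hy))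
  rw [mul_inv_rev, inv_eq_of_mul_eq_one_right (h x hx), inv_eq_of_mul_eq_one_right (h y hy)] at this
  exact this.symm

theorem mm {n m : ℕ} (hn : n < 512) (hm : m < 512) (h1 : el n ∈ F) (h2 : el m ∈ F) :
    el (mu n m) ∈ F := el_mul hn hm ▸ mul_mem h1 h2

theorem sq0 (h : ∀ x ∈ F, x * x = 1) {n : ℕ} (hn : n < 512) (h1 : el n ∈ F) : mu n n = 0 :=
  el_inj (mu_lt _ _) (by norm_num) (by rw [← el_mul hn hn, h _ h1, el_zero])

theorem cm (h : ∀ x ∈ F, x * x = 1) {n m : ℕ} (hn : n < 512) (hm : m < 512) (h1 : el n ∈ F)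
    (h2 : el m ∈ F) : mu n m = mu m n :=
  el_inj (mu_lt _ _) (mu_lt _ _) (by rw [← el_mul hn hm, ← el_mul hm hn, comm_of_sq h h1 h2])

open Classical in
theorem card_le_filter (hF : F ≤ T0) :
    Nat.card F ≤ ((Finset.range 512).filter fun n => el n ∈ F).card := by
  have : (F : Set Sp) ⊆ ↑(((Finset.range 512).filter fun n => el n ∈ F).image el) := fun s hs => by
    obtain ⟨n, hn, rfl⟩ := T0_el (hF hs)
    simpa using ⟨n, ⟨hn, hs⟩, rfl⟩
  exact (Set.ncard_le_ncard this).trans (by rw [Set.ncard_coe_finset]; exact Finset.card_image_le)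

theorem card_le_list (hF : F ≤ T0) (L : List ℕ) (h : ∀ n < 512, el n ∈ F → n ∈ L) :
    Nat.card F ≤ L.length := by
  classical
  refine (card_le_filter hF).trans ((Finset.card_le_card fun n hn => ?_).trans L.toFinset_card_le)
  simp only [Finset.mem_filter, Finset.mem_range] at hn
  exact List.mem_toFinset.2 (h n hn.1 hn.2)

theorem exists_out (hF : F ≤ T0) (L : List ℕ) (h : L.length < Nat.card F) :
    ∃ n < 512, el n ∈ F ∧ n ∉ L := by
  by_contra k
  push Not at k
  exact absurd (card_le_list hF L k) (by omega)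

theorem card_le_fib (hF : F ≤ T0) (h : ∀ x ∈ F, x * x = 1) (K B : List ℕ)
    (hK : ∀ n < 512, el n ∈ F → n / 64 ∈ K) (hB : ∀ c < 64, el c ∈ F → c ∈ B) :
    Nat.card F ≤ B.length * K.length := by
  classical
  refine (card_le_filter hF).trans ((Finset.card_le_mul_card_image (f := (· / 64)) _ B.length
    fun a ha => ?_).trans (Nat.mul_le_mul_left _
      ((Finset.card_le_card fun k hk => ?_).trans K.toFinset_card_le)))
  · obtain ⟨m, hm, rfl⟩ := Finset.mem_image.1 ha
    simp only [Finset.mem_filter, Finset.mem_range] at hm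
    refine (Finset.card_le_card_of_injOn (fun n => mu n m) (fun n hn => ?_) fun n hn n' hn' e => ?_).trans
      B.toFinset_card_le
    · simp only [Finset.coe_filter, Finset.mem_filter, Finset.mem_range, Set.mem_ofPred_eq] at hn
      refine List.mem_toFinset.2 (hB _ ((el_A (mu_lt _ _)).1 ?_) (mm hn.1.1 hm.1 hn.1.2 hm.2))
      rw [← el_mul hn.1.1 hm.1, ← el_inv hm.1 (sq0 h hm.1 hm.2), el, el, hn.2, mul_inv_rev,
        mul_assoc, mul_inv_cancel_left]
      exact mul_mem (ac_mem (by omega)) (inv_mem (ac_mem (by omega)))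
    · simp only [Finset.coe_filter, Finset.mem_filter, Finset.mem_range, Set.mem_ofPred_eq] at hn hn'
      refine el_inj hn.1.1 hn'.1.1 (mul_right_cancel (b := el m) ?_)
      rw [el_mul hn.1.1 hm.1, el_mul hn'.1.1 hm.1]
      exact congrArg el e
  · obtain ⟨m, hm, rfl⟩ := Finset.mem_image.1 hk
    simp only [Finset.mem_filter, Finset.mem_range] at hm
    exact List.mem_toFinset.2 (hK m hm.1 hm.2)

theorem cls_facts {n m : ℕ} (e : mu n m = mu m n) : tD (n / 64) (m / 64) = tD (m / 64) (n / 64) := by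
  have h1 : n % 64 ^^^ tT (n / 64) (m % 64) < 64 := xor_lt (by omega) (Nat.mod_lt _ (by norm_num))
  have h2 : m % 64 ^^^ tT (m / 64) (n % 64) < 64 := xor_lt (by omega) (Nat.mod_lt _ (by norm_num))
  unfold mu at e; omega

theorem fix_facts {n c : ℕ} (hn : n < 512) (hc : c < 64) (e : mu n c = mu c n) :
    tT (n / 64) c = c := by
  have k : (∀ c < 64, tT 0 c = c) ∧ ∀ k < 8, tD k 0 = tD 0 k := by decide +kernel
  unfold mu at e
  rw [Nat.mod_eq_of_lt hc, Nat.div_eq_of_lt hc, k.1 _ (by omega), k.2 _ (by omega),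
    add_left_inj, Nat.xor_comm] at e
  exact Nat.xor_left_inj.1 e

/-- an elementary abelian subgroup of `U` outside `A` has order at most 32 -/
theorem le32 (hF : F ≤ T0) (h : ∀ x ∈ F, x * x = 1) (hA : ¬ F ≤ A) : Nat.card F ≤ 32 := by
  obtain ⟨s, hs, hsA⟩ := SetLike.not_le_iff_exists.1 hA
  obtain ⟨x, hx, rfl⟩ := T0_el (hF hs)
  rw [el_A hx] at hsA
  have s0 : ∀ n < 512, el n ∈ F → tD (n / 64) (n / 64) = 0 := fun n hn k => by
    have := sq0 h hn k
    unfold mu at this; omega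
  by_cases k : ∀ n < 512, el n ∈ F → n / 64 ∈ [0, x / 64]
  · have key : ∀ k < 8, k ≠ 0 → ((List.range 64).filter fun c => tT k c = c).length ≤ 16 := by
      decide +kernel
    refine (card_le_fib hF h _ ((List.range 64).filter fun c => tT (x / 64) c = c) k
      fun c hc hcF => ?_).trans (Nat.mul_le_mul_right 2 (key _ (by omega) (by omega)))
    simpa [hc] using fix_facts hx hc (cm h hx (by omega) hs hcF)
  push Not at k
  obtain ⟨y, hy, hyF, k⟩ := k
  have key : ∀ k < 8, ∀ l < 8, k ≠ 0 → l ∉ [0, k] → tD k l = tD l k →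
      ((List.range 64).filter fun c => tT k c = c ∧ tT l c = c).length *
        ((List.range 8).filter fun j => tD j k = tD k j ∧ tD j l = tD l j).length ≤ 32 := by
    decide +kernel
  refine (card_le_fib hF h _ _ (fun n hn hnF => ?_) fun c hc hcF => ?_).trans
    (key (x / 64) (by omega) (y / 64) (by omega) (by omega) k (cls_facts (cm h hx hy hs hyF)))
  · simpa using ⟨by omega, cls_facts (cm h hn hx hnF hs), cls_facts (cm h hn hy hnF hyF)⟩
  · simpa using ⟨hc, fix_facts hx hc (cm h hx (by omega) hs hcF),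
      fix_facts hy hc (cm h hy (by omega) hyF hcF)⟩

theorem into_T0 (h : ∀ x ∈ F, x * x = 1) : ∃ l : Sp, ∃ F' ≤ T0, Nat.card F' = Nat.card F ∧
    ∀ y, y ∈ F' ↔ ∃ x ∈ F, l * x * l⁻¹ = y := by
  haveI : Fact (Nat.Prime 2) := ⟨Nat.prime_two⟩
  obtain ⟨l, -, hl⟩ := sylow_T0.exists_conj_le (Q := F)
    (fun x => ⟨1, Subtype.ext ((pow_two _).trans (h _ x.2))⟩) le_top
  exact ⟨l, _, hl, card_map_of_injective (MulAut.conj l).injective, fun _ => Iff.rfl⟩

end Sub

theorem sq_conj {l x : Sp} (h : x * x = 1) : l * x * l⁻¹ * (l * x * l⁻¹) = 1 := by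
  rw [conj_mul, h, mul_one, mul_inv_cancel]

/-! ### KB -/

theorem cls_T0 {s : Sp} (hs : s ∈ T0) (h : s * s = 1) : ∃ l : Sp, l * s * l⁻¹ ∈ A := by
  have key : chkT (fun f => !(cols (fun u => f (f u)) == cols id) ||
      [[], [37], [34], [49], [23], [20], [50]].any fun l => l.all (· < 64) &&
        [1, 2, 4].all fun u => f (wd l u) == wd l u) = true := by decide +kernel
  obtain ⟨f, hf, hq⟩ := elimT key hs
  have e : cols (fun u => f (f u)) = cols id := cols_congr fun u hu => by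
    rw [hf u hu, hf _ (act_lt _ _), ← act_mul, h, act_one hu]; rfl
  simp only [e, beq_self_eq_true, Bool.not_true, Bool.false_or, List.any_eq_true,
    Bool.and_eq_true, List.all_eq_true, decide_eq_true_eq, beq_iff_eq] at hq
  obtain ⟨l, -, hl, hq⟩ := hq
  have k : ∀ u ∈ [1, 2, 4], act ((ev g l)⁻¹ * s * (ev g l)⁻¹⁻¹) u = u := fun u hu => by
    have hu' : u < 64 := by simp at hu; omega
    have := hq u hu
    rw [← act_wd hl hu', hf _ (act_lt _ _)] at this
    rw [inv_inv, act_mul, act_mul, this, act_inv_act _ hu']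
  exact ⟨_, mem_A3.2 ⟨k 1 (by simp), k 2 (by simp), k 4 (by simp)⟩⟩

/-- piece KB -/
theorem kb : KB where
  cls s h := by
    obtain ⟨l, F, hF, -, e⟩ := into_T0 (F := zpowers s) fun x hx => by
      obtain ⟨n, rfl⟩ := mem_zpowers_iff.1 hx
      rw [← (Commute.refl s).mul_zpow, h, one_zpow]
    obtain ⟨m, hm⟩ := cls_T0 (hF ((e _).2 ⟨s, mem_zpowers s, rfl⟩)) (sq_conj h)
    exact ⟨m * l, by convert hm using 1; group⟩
  ea F h := by
    obtain ⟨l, F', hF, hc, e⟩ := into_T0 h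
    by_cases k : F' ≤ A
    · exact ⟨hc ▸ card_A ▸ card_le_of_le k, fun _ => ⟨l, fun x hx => k ((e _).2 ⟨x, hx, rfl⟩)⟩⟩
    have := le32 hF (fun y hy => by obtain ⟨x, hx, rfl⟩ := (e y).1 hy; exact sq_conj (h x hx)) k
    exact ⟨by omega, fun _ => by omega⟩

end Cfsg.Agent.H55.S6K
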