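import Mathlib
import Cfsg.Agent.H26.PForm

/-!
Elementary abelian groups of isometries of a symplectic space in characteristic two:
the direct bound and the reduction to a smaller space.
-/

set_option autoImplicit false

namespace Cfsg.Agent.H55.SpJf

open Module Cfsg.Agent.H26

universe u v

theorem idx_le {G : Type*} [Group G] (K : Subgroup G) {X : Type*} [Finite X] (Φ : G → X)
    (h : ∀ a b, Φ a = Φ b → a⁻¹ * b ∈ K) :
    K.index ≤ Nat.card X ∧ (K.index = Nat.card X → Function.Surjective Φ) := by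
  have hi : Function.Injective fun q : G ⧸ K => Φ q.out := by
    intro a b hab
    rw [← a.out_eq', ← b.out_eq']
    exact QuotientGroup.eq.2 (h _ _ hab)
  refine ⟨Nat.card_le_card_of_injective _ hi, fun he x => ?_⟩
  obtain ⟨q, hq⟩ := (hi.bijective_of_nat_card_le (le_of_eq he.symm)).2 x
  exact ⟨_, hq⟩

/-- The triangular numbers. -/
def T (n : ℕ) : ℕ := n * (n + 1) / 2

theorem two_T (n : ℕ) : 2 * T n = n * (n + 1) :=
  Nat.mul_div_cancel' (Nat.even_mul_succ_self n).two_dvd

theorem card_sym2 (n : ℕ) : Nat.card (Sym2 (Fin n)) = T n := by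
  rw [Nat.card_eq_fintype_card, Sym2.card, Fintype.card_fin, Nat.choose_two_right, T,
    Nat.add_sub_cancel, mul_comm]

variable {F : Type v} [Field F] {E : Type u} [Group E]

section One

variable {V : Type v} [AddCommGroup V] [Module F V]

/-- The restriction of the form to a non-degenerate subspace. -/
def res (P : PForm F V) (W : Submodule F V) (hW : ∀ y ∈ W, (∀ x ∈ W, P.f x y = 0) → y = 0) :
    PForm F W where
  σ := P.σ
  ε := P.ε
  f x y := P.f x y
  h x := P.h x
  Λ := P.Λ
  d := P.d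
  σσ := P.σσ
  ε_sq := P.ε_sq
  f_add_left x y z := P.f_add_left x y z
  f_smul_left c x y := P.f_smul_left c x y
  herm x y := P.herm x y
  nondeg y h := Subtype.ext (hW y y.2 fun x hx => h ⟨x, hx⟩)
  h_add x y := P.h_add x y
  h_smul c x := P.h_smul c x
  f_self x := P.f_self x
  Λ_le := P.Λ_le
  Λ_ge := P.Λ_ge
  Λ_smul := P.Λ_smul
  exists_sing U hU := by
    obtain ⟨e, ⟨u, hu, rfl⟩, h0, h1⟩ := P.exists_sing (U.map W.subtype)
      (by rwa [Submodule.finrank_map_subtype_eq])
    exact ⟨u, hu, fun h => h0 (by rw [h]; rfl), h1⟩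

/-- An elementary abelian group acting by isometries. -/
structure St (P : PForm F V) (ρ : Representation F E V) : Prop where
  two : (2 : F) = 0
  sig : ∀ a, P.σ a = a
  sq : ∀ e : E, e * e = 1
  iso : ∀ e x y, P.f (ρ e x) (ρ e y) = P.f x y

namespace St

variable {P : PForm F V} {ρ : Representation F E V} (h : St P ρ)
include h

theorem aa (a : F) : a + a = 0 := by rw [← two_mul, h.two, zero_mul]

theorem vv (x : V) : x + x = 0 := by rw [← two_smul F x, h.two, zero_smul]

theorem eps : P.ε = 1 := by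
  rcases P.ε_cases with h1 | h1
  · exact h1
  · rw [h1]; exact (eq_neg_of_add_eq_zero_left (h.aa 1)).symm

theorem symm (x y : V) : P.f x y = P.f y x := by rw [P.herm y x, h.eps, h.sig, one_mul]

theorem alt (x : V) : P.f x x = 0 := by rw [P.f_self, h.eps, h.sig, one_mul, h.aa]

theorem smul_right (c : F) (x y : V) : P.f x (c • y) = c * P.f x y := by
  rw [P.f_smul_right, h.sig]

theorem rr (e : E) (x : V) : ρ e (ρ e x) = x := by
  rw [← Module.End.mul_apply, ← map_mul, h.sq, map_one, Module.End.one_apply]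

theorem adj (e : E) (x y : V) : P.f (ρ e x) y = P.f x (ρ e y) := by
  rw [← h.iso e x, h.rr]

theorem comm (a b : E) : a * b = b * a := by
  have h1 : ∀ x : E, x⁻¹ = x := fun x => inv_eq_of_mul_eq_one_right (h.sq x)
  rw [← h1 (a * b), mul_inv_rev, h1, h1]

theorem rc (a b : E) (x : V) : ρ a (ρ b x) = ρ b (ρ a x) := by
  rw [← Module.End.mul_apply, ← map_mul, h.comm, map_mul, Module.End.mul_apply]

theorem mem_ker {a b : E} (hab : ∀ x, ρ a x = ρ b x) : a⁻¹ * b ∈ ρ.ker := by
  rw [MonoidHom.mem_ker, inv_eq_of_mul_eq_one_right (h.sq a)]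
  ext x
  rw [map_mul, Module.End.mul_apply, ← hab, h.rr, Module.End.one_apply]

theorem mv_mem (e : E) (x : V) : ρ e x + x ∈ P.perp ρ.invariants := fun w hw => by
  rw [P.f_add_left, h.adj, (Representation.mem_invariants ρ w).1 hw e, h.aa]

/-- The direct bound. -/
theorem direct [Finite F] [FiniteDimensional F V] {m : ℕ}
    (hm : finrank F ρ.invariants + m = finrank F V) :
    ρ.ker.index ≤ Nat.card F ^ T m ∧ (ρ.ker.index = Nat.card F ^ T m →
      ∀ w ∈ P.perp ρ.invariants, ∀ c : F, ∃ e, ∀ x, ρ e x = x + (c * P.f x w) • w) := by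
  obtain ⟨C, hC⟩ := ρ.invariants.exists_isCompl
  have hd : finrank F C = m := by
    have := Submodule.finrank_add_eq_of_isCompl hC
    omega
  let b := Module.finBasisOfFinrankEq F C hd
  -- two symmetric forms which vanish on the fixed space and agree on the basis are equal
  have key : ∀ (A B : V →ₗ[F] V), (∀ x y, P.f x (A y) = P.f y (A x)) →
      (∀ x y, P.f x (B y) = P.f y (B x)) → (∀ x ∈ ρ.invariants, A x = 0) →
      (∀ x ∈ ρ.invariants, B x = 0) →
      (∀ i j, P.f (b i) (A (b j)) = P.f (b i) (B (b j))) → A = B := by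
    intro A B hA hB hA0 hB0 hb
    have k1 : ∀ (φ ψ : V →ₗ[F] F), (∀ x ∈ ρ.invariants, φ x = ψ x) →
        (∀ i, φ (b i) = ψ (b i)) → φ = ψ := by
      intro φ ψ h1 h2
      have h3 : φ ∘ₗ C.subtype = ψ ∘ₗ C.subtype := b.ext fun i => h2 i
      ext x
      obtain ⟨y, hy, z, hz, rfl⟩ := Submodule.mem_sup.1 (hC.sup_eq_top ▸ Submodule.mem_top :
        x ∈ ρ.invariants ⊔ C)
      rw [map_add, map_add, h1 y hy]
      exact congrArg _ (LinearMap.congr_fun h3 ⟨z, hz⟩)
    have k2 : ∀ j, A (b j) = B (b j) := fun j => PForm.eq_of_f_right (P := P) fun x =>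
      LinearMap.congr_fun (k1 (P.fL (A (b j))) (P.fL (B (b j))) (fun y hy => by
        rw [P.fL_apply, P.fL_apply, hA, hB, hA0 y hy, hB0 y hy]) fun i => hb i j) x
    ext y
    refine PForm.eq_of_f_left (P := P) fun x => ?_
    exact LinearMap.congr_fun (k1 (P.fL x ∘ₗ A) (P.fL x ∘ₗ B) (fun z hz => by
      simp only [LinearMap.comp_apply, hA0 z hz, hB0 z hz]) fun i => by
      simp only [LinearMap.comp_apply, k2]) y
  have hs : ∀ e x y, P.f x ((ρ e + 1) y) = P.f y ((ρ e + 1) x) := by
    intro e x y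
    simp only [LinearMap.add_apply, Module.End.one_apply, P.f_add_right]
    rw [← h.adj, h.symm (ρ e x), h.symm x y]
  have h0 : ∀ e, ∀ x ∈ ρ.invariants, (ρ e + 1) x = 0 := by
    intro e x hx
    rw [LinearMap.add_apply, Module.End.one_apply, (Representation.mem_invariants ρ x).1 hx e, h.vv]
  let Φ : E → Sym2 (Fin m) → F := fun e =>
    Sym2.lift ⟨fun i j => P.f (b i) ((ρ e + 1) (b j)), fun i j => hs e _ _⟩
  have := idx_le ρ.ker Φ fun a c hac => h.mem_ker fun x => by
    have h1 := key _ _ (hs a) (hs c) (h0 a) (h0 c) fun i j => congrFun hac s(i, j)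
    rw [add_right_cancel h1]
  rw [Nat.card_fun, card_sym2] at this
  refine ⟨this.1, fun he w hw c => ?_⟩
  obtain ⟨e, h1⟩ := this.2 he (Sym2.lift ⟨fun i j => c * P.f (b i) w * P.f (b j) w,
    fun i j => by ring⟩)
  refine ⟨e, fun x => ?_⟩
  have h2 := key (ρ e + 1) ((c • P.fL w).smulRight w) (hs e) (fun x y => by
    simp only [LinearMap.smulRight_apply, LinearMap.smul_apply, P.fL_apply, h.smul_right,
      smul_eq_mul]; ring) (h0 e) (fun x hx => by
    simp only [LinearMap.smulRight_apply, LinearMap.smul_apply, P.fL_apply,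
      PForm.f_of_mem_perp' hw hx, smul_zero, zero_smul]) fun i j => by
    have h3 := congrFun h1 s(i, j)
    simp only [Φ, Sym2.lift_mk] at h3
    rw [h3]
    simp only [LinearMap.smulRight_apply, LinearMap.smul_apply, P.fL_apply, h.smul_right,
      smul_eq_mul]; ring
  have h3 := LinearMap.congr_fun h2 x
  simp only [LinearMap.add_apply, Module.End.one_apply, LinearMap.smulRight_apply,
    LinearMap.smul_apply, P.fL_apply, smul_eq_mul] at h3
  rw [← h3, add_comm (ρ e x), ← add_assoc, h.vv, zero_add]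

/-- If all transvections occur, the moved space is isotropic. -/
theorem perp_le [FiniteDimensional F V]
    (ht : ∀ w ∈ P.perp ρ.invariants, ∀ c : F, ∃ e, ∀ x, ρ e x = x + (c * P.f x w) • w) :
    P.perp ρ.invariants ≤ ρ.invariants := by
  intro w hw
  rw [← PForm.perp_perp (P := P) ρ.invariants]
  intro w' hw'
  obtain ⟨a, ha⟩ := ht w hw 1
  obtain ⟨b, hb⟩ := ht w' hw' 1
  have h1 := h.rc a b w
  have h2 : ρ a w = w := by rw [ha, h.alt, mul_zero, zero_smul, add_zero]
  rw [h2, hb, map_add, h2, map_smul, ha, one_mul, one_mul, smul_add, add_right_inj,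
    add_eq_left, smul_smul, h.symm w' w, smul_eq_zero, mul_self_eq_zero] at h1
  rcases h1 with h1 | h1
  · exact h1
  · rw [h1, P.f_zero_left]

theorem exists_fixed [Finite F] [FiniteDimensional F V] (hV : 0 < finrank F V) :
    ∃ v, v ≠ 0 ∧ ∀ e, ρ e v = v := by
  haveI : Finite V := Module.finite_of_finite F
  haveI : Nontrivial V := Module.finrank_pos_iff.1 hV
  haveI : Fact (Nat.Prime 2) := ⟨Nat.prime_two⟩
  letI : MulAction E V := MulAction.compHom V (ρ : E →* Module.End F V)
  have hp : IsPGroup 2 E := fun g => ⟨1, by rw [pow_one, pow_two, h.sq]⟩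
  obtain ⟨x, hx⟩ := exists_ne (0 : V)
  have h2 : 2 ∣ Nat.card V := by
    rw [← addOrderOf_eq_prime (p := 2) (by rw [two_nsmul, h.vv]) hx]
    exact addOrderOf_dvd_natCard x
  obtain ⟨v, hv, hne⟩ := hp.exists_fixed_point_of_prime_dvd_card_of_fixed_point V h2
    (a := 0) fun g => map_zero (ρ g)
  exact ⟨v, hne.symm, hv⟩

end St

end One

end Cfsg.Agent.H55.SpJf
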