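import Mathlib
import Cfsg.Agent.H55.SpJfA

/-!
Elementary abelian groups of isometries of a symplectic space in characteristic two:
the bound and the case of equality.
-/

set_option autoImplicit false

namespace Cfsg.Agent.H55.SpJf

open Module Cfsg.Agent.H26

universe u v

variable {F : Type v} [Field F] {E : Type u} [Group E]

section Step

variable {V : Type v} [AddCommGroup V] [Module F V] {P : PForm F V} {ρ : Representation F E V}

/-- A fixed vector with a partner. -/
structure Fp (P : PForm F V) (ρ : Representation F E V) (v v' : V) : Prop extends St P ρ where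
  fix : ∀ e, ρ e v = v
  pair : P.f v v' = 1

/-- The complement of the hyperbolic plane. -/
def Vb (P : PForm F V) (v v' : V) : Submodule F V := P.perp (Submodule.span F {v, v'})

theorem mem_Vb {v v' x : V} : x ∈ Vb P v v' ↔ P.f x v = 0 ∧ P.f x v' = 0 := by
  simp [Vb, PForm.mem_perp_span]

namespace Fp

variable {v v' : V} (h : Fp P ρ v v')
include h

/-- The projection. -/
def pi : V →ₗ[F] Vb P v v' :=
  LinearMap.codRestrict _ (LinearMap.id + (P.fL v').smulRight v + (P.fL v).smulRight v') fun x => by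
    have h1 := h.toSt.alt
    have h2 := h.toSt.aa
    have h3 : P.f v' v = 1 := h.toSt.symm v v' ▸ h.pair
    simp [mem_Vb, P.f_add_left, P.f_smul_left, P.fL_apply, h1, h2, h3, h.pair]

theorem pi_apply (x : V) : (h.pi x : V) = x + P.f x v' • v + P.f x v • v' := rfl

theorem pi_v : h.pi v = 0 := by
  ext
  rw [pi_apply, h.pair, h.toSt.alt, one_smul, zero_smul, add_zero, h.toSt.vv]; rfl

theorem pi_v' : h.pi v' = 0 := by
  ext
  rw [pi_apply, ← h.toSt.symm v, h.pair, h.toSt.alt, one_smul, zero_smul, add_zero, h.toSt.vv]; rfl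

theorem pi_coe (x : Vb P v v') : h.pi x = x := by
  ext
  rw [pi_apply, (mem_Vb.1 x.2).1, (mem_Vb.1 x.2).2, zero_smul, zero_smul, add_zero, add_zero]

theorem dec (x : V) : x = h.pi x + P.f x v' • v + P.f x v • v' := by
  rw [pi_apply]
  have h1 := h.toSt.vv (P.f x v' • v)
  have h2 := h.toSt.vv (P.f x v • v')
  calc x = x + (P.f x v' • v + P.f x v' • v) + (P.f x v • v' + P.f x v • v') := by
        rw [h1, h2, add_zero, add_zero]
    _ = _ := by abel

theorem f_rho (e : E) (x : V) : P.f (ρ e x) v = P.f x v := by rw [h.toSt.adj, h.fix]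

theorem pi_rho_pi (e : E) {x : V} (hx : P.f x v = 0) : h.pi (ρ e (h.pi x)) = h.pi (ρ e x) := by
  rw [pi_apply, hx, zero_smul, add_zero, map_add, map_smul, h.fix, map_add, map_smul, pi_v,
    smul_zero, add_zero]

theorem nd : ∀ y ∈ Vb P v v', (∀ x ∈ Vb P v v', P.f x y = 0) → y = 0 := by
  intro y hy H
  refine P.nondeg y fun x => ?_
  rw [h.dec x, P.f_add_left, P.f_add_left, P.f_smul_left, P.f_smul_left, H _ (h.pi x).2,
    h.toSt.symm v, h.toSt.symm v', (mem_Vb.1 hy).1, (mem_Vb.1 hy).2]
  simp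

/-- The form on the complement. -/
def Pb : PForm F (Vb P v v') := res P _ h.nd

theorem Pb_f (x y : Vb P v v') : h.Pb.f x y = P.f x y := rfl

/-- The action on the complement. -/
def rb : Representation F E (Vb P v v') where
  toFun e := h.pi ∘ₗ ρ e ∘ₗ (Vb P v v').subtype
  map_one' := by
    ext x
    simp [h.pi_coe]
  map_mul' a b := by
    ext x
    simp only [map_mul, LinearMap.comp_apply, Module.End.mul_apply, Submodule.subtype_apply]
    rw [h.pi_rho_pi a ((h.f_rho b x).trans (mem_Vb.1 x.2).1)]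

theorem rb_apply (e : E) (x : Vb P v v') : h.rb e x = h.pi (ρ e x) := rfl

theorem rho_coe (e : E) (x : Vb P v v') : ρ e x = h.rb e x + P.f (ρ e x) v' • v := by
  conv_lhs => rw [h.dec (ρ e x)]
  rw [h.f_rho, (mem_Vb.1 x.2).1, zero_smul, add_zero, rb_apply]

theorem stb : St h.Pb h.rb where
  two := h.two
  sig := h.sig
  sq := h.sq
  iso e x y := by
    rw [Pb_f, Pb_f, ← h.iso e x y, h.rho_coe e x, h.rho_coe e y]
    simp only [P.f_add_left, P.f_add_right, P.f_smul_left, h.toSt.smul_right, h.toSt.alt,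
      (mem_Vb.1 (h.rb e x).2).1, h.toSt.symm v, (mem_Vb.1 (h.rb e y).2).1, mul_zero, add_zero]

theorem v_notMem : v ∉ Vb P v v' := fun hv => one_ne_zero (h.pair.symm.trans (mem_Vb.1 hv).2)

theorem dim [FiniteDimensional F V] : finrank F (Vb P v v') + 2 = finrank F V := by
  have h1 := P.finrank_perp (Submodule.span F {v, v'})
  have hli : LinearIndependent F ![v, v'] := by
    rw [LinearIndependent.pair_iff]
    intro s t hst
    have e1 := congrArg (fun x => P.f x v') hst
    have e2 := congrArg (fun x => P.f x v) hst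
    simp only [P.f_add_left, P.f_smul_left, h.toSt.alt, h.pair, h.toSt.symm v' v,
      P.f_zero_left, mul_one, mul_zero, add_zero, zero_add] at e1 e2
    exact ⟨e1, e2⟩
  have h2 := finrank_span_eq_card hli
  rw [Matrix.range_cons, Matrix.range_cons, Matrix.range_empty, Set.union_empty,
    Set.singleton_union, Fintype.card_fin] at h2
  unfold Vb
  omega

theorem ker_le : ρ.ker ≤ h.rb.ker := by
  intro e he
  rw [MonoidHom.mem_ker] at he ⊢
  ext x
  rw [rb_apply, he, Module.End.one_apply, h.pi_coe, Module.End.one_apply]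

theorem fix_mem {e : E} (he : e ∈ h.rb.ker) : h.pi (ρ e v') ∈ h.rb.invariants := by
  rw [MonoidHom.mem_ker] at he
  intro g
  have h3 : ∀ a, P.f (ρ a v' + v') v = 0 := fun a => by
    rw [P.f_add_left, h.f_rho, h.toSt.aa]
  have e1 : h.pi (ρ e v') = h.pi (ρ e v' + v') := by rw [map_add, pi_v', add_zero]
  have e2 : h.pi (ρ e (ρ g v' + v')) = h.pi (ρ g v' + v') := by
    rw [← h.pi_rho_pi e (h3 g), ← rb_apply, he, Module.End.one_apply]
  rw [e1, rb_apply, h.pi_rho_pi g (h3 e), ← e1, map_add, h.toSt.rc, map_add]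
  rw [map_add, map_add, map_add, pi_v', add_zero] at e2
  rw [← e2, ← add_assoc, h.stb.vv, zero_add]

theorem rel_le [Finite F] [FiniteDimensional F V] :
    ρ.ker.relIndex h.rb.ker ≤ Nat.card F ^ (finrank F h.rb.invariants + 1) := by
  haveI : Finite h.rb.invariants := Module.finite_of_finite F
  have := (idx_le (ρ.ker.subgroupOf h.rb.ker)
    (fun e => ((⟨h.pi (ρ e v'), h.fix_mem e.2⟩, P.f (ρ e v') v') : h.rb.invariants × F))
    fun a b hab => ?_).1
  · rwa [Nat.card_prod, Module.natCard_eq_pow_finrank (K := F), ← pow_succ] at this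
  obtain ⟨h1, h2⟩ := Prod.ext_iff.1 hab
  have h3 : h.pi (ρ a v') = h.pi (ρ b v') := congrArg Subtype.val h1
  have h4 : ρ a v' = ρ b v' := by
    rw [h.dec (ρ a v'), h.dec (ρ b v'), h3, h.f_rho, h.f_rho]
    exact congrArg (fun c => _ + c • v + _) h2
  refine h.toSt.mem_ker fun x => ?_
  have ha : h.rb a = 1 := a.2
  have hb : h.rb b = 1 := b.2
  rw [h.dec x]
  simp only [map_add, map_smul, h.fix, h4]
  rw [h.rho_coe a, h.rho_coe b, ha, hb, h.toSt.adj, h.toSt.adj, h4]

theorem idx [Finite F] [FiniteDimensional F V] :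
    ρ.ker.index ≤ Nat.card F ^ (finrank F h.rb.invariants + 1) * h.rb.ker.index := by
  rw [← Subgroup.relIndex_mul_index h.ker_le]
  exact Nat.mul_le_mul_right _ h.rel_le

theorem mu_comm (e g : E) (x : Vb P v v') :
    P.f (ρ e (h.rb g x + x : Vb P v v')) v' = P.f (ρ g (h.rb e x + x : Vb P v v')) v' := by
  have k : ∀ a b : E, P.f (ρ a (ρ b x)) v' = P.f (ρ a (h.rb b x)) v' + P.f (ρ b x) v' := by
    intro a b
    conv_lhs => rw [h.rho_coe b x]
    rw [map_add, map_smul, h.fix, P.f_add_left, P.f_smul_left, h.pair, mul_one]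
  have h1 := k e g
  rw [h.toSt.rc, k g e] at h1
  simp only [Submodule.coe_add, map_add, P.f_add_left]
  linear_combination h1 + (P.f (ρ e (h.rb g x)) v' - P.f (ρ g (h.rb e x)) v') * h.two

theorem mu_self (e : E) (x : Vb P v v') : P.f (ρ e (h.rb e x + x : Vb P v v')) v' = 0 := by
  have k : P.f (ρ e (ρ e x)) v' = P.f (ρ e (h.rb e x)) v' + P.f (ρ e x) v' := by
    conv_lhs => rw [h.rho_coe e x]
    rw [map_add, map_smul, h.fix, P.f_add_left, P.f_smul_left, h.pair, mul_one]
  rw [h.toSt.rr, (mem_Vb.1 x.2).2] at k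
  simp only [Submodule.coe_add, map_add, P.f_add_left]
  exact k.symm

/-- In the extremal case the fixed space lifts. -/
theorem lift [FiniteDimensional F V]
    (ht : ∀ w ∈ h.Pb.perp h.rb.invariants, ∀ c : F, ∃ e, ∀ x,
      h.rb e x = x + (c * h.Pb.f x w) • w) :
    finrank F (h.Pb.perp h.rb.invariants) + 1 ≤ finrank F ρ.invariants := by
  choose! g hg using fun w hw => ht w hw 1
  have hg' : ∀ w ∈ h.Pb.perp h.rb.invariants, ∀ x, h.rb (g w) x + x = h.Pb.f x w • w := by
    intro w hw x
    rw [hg w hw, one_mul, add_right_comm, h.stb.vv, zero_add]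
  have k0 : ∀ w ∈ h.Pb.perp h.rb.invariants, P.f (ρ (g w) w) v' = 0 := by
    intro w hw
    by_cases h0 : w = 0
    · rw [h0, Submodule.coe_zero, map_zero, P.f_zero_left]
    obtain ⟨x, hx⟩ := h.Pb.exists_f_left_eq h0 1
    have := h.mu_self (g w) x
    rwa [hg' w hw, hx, one_smul] at this
  have k1 : ∀ w ∈ h.Pb.perp h.rb.invariants, ∀ w' ∈ h.Pb.perp h.rb.invariants,
      P.f (ρ (g w) w') v' = 0 := by
    intro w hw w' hw'
    by_cases h0 : w' ∈ F ∙ w
    · obtain ⟨c, rfl⟩ := Submodule.mem_span_singleton.1 h0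
      rw [Submodule.coe_smul, map_smul, P.f_smul_left, k0 w hw, mul_zero]
    obtain ⟨x, hx, hx1⟩ := h.Pb.exists_perp_f_left h0 1
    have := h.mu_comm (g w) (g w') x
    rwa [hg' w hw, hg' w' hw', hx1, PForm.mem_perp_span_singleton.1 hx, one_smul, zero_smul,
      Submodule.coe_zero, map_zero, P.f_zero_left] at this
  have k2 : ∀ w ∈ h.Pb.perp h.rb.invariants, ∀ e, ρ e w = w := by
    intro w hw e
    by_cases h0 : w = 0
    · rw [h0, Submodule.coe_zero, map_zero]
    obtain ⟨x, hx⟩ := h.Pb.exists_f_left_eq h0 1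
    have := h.mu_comm e (g w) x
    rw [hg' w hw, hx, one_smul, k1 w hw _ (h.stb.mv_mem e x)] at this
    rw [h.rho_coe, this, zero_smul, add_zero, h.stb.perp_le ht hw e]
  have hle : (h.Pb.perp h.rb.invariants).map (Vb P v v').subtype ⊔ (F ∙ v) ≤ ρ.invariants := by
    refine sup_le ?_ ((Submodule.span_singleton_le_iff_mem _ _).2 h.fix)
    rintro _ ⟨w, hw, rfl⟩
    exact k2 w hw
  have := Submodule.finrank_mono hle
  have hv : v ∉ (h.Pb.perp h.rb.invariants).map (Vb P v v').subtype := fun hv =>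
    h.v_notMem (Submodule.map_subtype_le _ _ hv)
  rwa [Submodule.finrank_sup_span_singleton hv, Submodule.finrank_map_subtype_eq] at this

end Fp

theorem St.exists_fp [Finite F] [FiniteDimensional F V] (h : St P ρ) (hV : 0 < finrank F V) :
    ∃ v v', Fp P ρ v v' := by
  obtain ⟨v, hv, hf⟩ := h.exists_fixed hV
  obtain ⟨v', hv'⟩ := P.exists_f_right_eq hv 1
  exact ⟨v, v', h, hf, hv'⟩

end Step

theorem T_succ (n : ℕ) : T (n + 1) = n + 1 + T n := by
  have h1 := two_T (n + 1)
  have h2 := two_T n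
  nlinarith

theorem T_le {d m k : ℕ} (h : d + m = 2 * k) (hd : k < d) : d + 1 + T m ≤ T (k + 1) := by
  obtain ⟨s, rfl⟩ := Nat.exists_eq_add_of_lt hd
  obtain rfl : k = m + s + 1 := by omega
  have h1 := two_T (m + s + 1 + 1)
  have h2 := two_T m
  nlinarith [Nat.zero_le (s * s), Nat.zero_le (m * s)]

theorem T_lt {d m k : ℕ} (h : d + m = 2 * k) (hd : k < d) (hk : 2 ≤ k) :
    d + 1 + T m < T (k + 1) := by
  obtain ⟨s, rfl⟩ := Nat.exists_eq_add_of_lt hd
  obtain rfl : k = m + s + 1 := by omega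
  have h1 := two_T (m + s + 1 + 1)
  have h2 := two_T m
  nlinarith [Nat.zero_le (s * s), Nat.zero_le (m * s)]

theorem T_mono : StrictMono T := strictMono_nat_of_lt_succ fun n => by rw [T_succ]; omega

variable [Finite F]

/-- The bound. -/
theorem bound (k : ℕ) : ∀ {V : Type v} [AddCommGroup V] [Module F V] [FiniteDimensional F V]
    {P : PForm F V} {ρ : Representation F E V}, St P ρ → finrank F V = 2 * k →
    ρ.ker.index ≤ Nat.card F ^ T k := by
  have hq : 1 < Nat.card F := Finite.one_lt_card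
  induction k with
  | zero =>
    intro V _ _ _ P ρ h hV
    have := ρ.invariants.finrank_le
    exact (h.direct (m := 0) (by omega)).1
  | succ k ih =>
    intro V _ _ _ P ρ h hV
    obtain ⟨v, v', hp⟩ := h.exists_fp (by omega)
    have hd := hp.dim
    refine hp.idx.trans ?_
    rcases le_or_gt (finrank F hp.rb.invariants) k with h1 | h1
    · refine (Nat.mul_le_mul_left _ (ih hp.stb (by omega))).trans ?_
      rw [← pow_add, T_succ]
      exact Nat.pow_le_pow_right hq.le (by omega)
    · obtain ⟨m, hm⟩ := Nat.exists_eq_add_of_le hp.rb.invariants.finrank_le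
      refine (Nat.mul_le_mul_left _ (hp.stb.direct hm.symm).1).trans ?_
      rw [← pow_add]
      exact Nat.pow_le_pow_right hq.le (T_le (by omega) h1)

/-- The case of equality. -/
theorem eq_case {k : ℕ} (hk : 3 ≤ k) {V : Type v} [AddCommGroup V] [Module F V]
    [FiniteDimensional F V] {P : PForm F V} {ρ : Representation F E V} (h : St P ρ)
    (hV : finrank F V = 2 * k) (he : ρ.ker.index = Nat.card F ^ T k) :
    finrank F ρ.invariants = k ∧ P.perp ρ.invariants = ρ.invariants ∧
      ∀ w ∈ ρ.invariants, ∀ c : F, ∃ e, ∀ x, ρ e x = x + (c * P.f x w) • w := by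
  have hq : 1 < Nat.card F := Finite.one_lt_card
  obtain ⟨k, rfl⟩ : ∃ j, k = j + 1 := ⟨k - 1, by omega⟩
  obtain ⟨v, v', hp⟩ := h.exists_fp (by omega)
  have hd := hp.dim
  have hi := hp.idx
  have hb := bound k hp.stb (by omega)
  obtain ⟨m, hm⟩ := Nat.exists_eq_add_of_le hp.rb.invariants.finrank_le
  have hdir := hp.stb.direct hm.symm
  have h1 : finrank F hp.rb.invariants = k := by
    rcases lt_trichotomy (finrank F hp.rb.invariants) k with h1 | h1 | h1
    · have := hi.trans (Nat.mul_le_mul_left _ hb)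
      rw [he, ← pow_add, T_succ, Nat.pow_le_pow_iff_right hq] at this
      omega
    · exact h1
    · have := hi.trans (Nat.mul_le_mul_left _ hdir.1)
      rw [he, ← pow_add, Nat.pow_le_pow_iff_right hq] at this
      have := T_lt (m := m) (by omega) h1 (by omega)
      omega
  obtain rfl : m = k := by omega
  have h2 : hp.rb.ker.index = Nat.card F ^ T m := by
    refine le_antisymm hb ?_
    rw [he, T_succ, pow_add, h1] at hi
    exact Nat.le_of_mul_le_mul_left hi (by positivity)
  have h3 := hp.lift (hdir.2 h2)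
  have h4 := hp.Pb.finrank_perp hp.rb.invariants
  obtain ⟨n, hn⟩ := Nat.exists_eq_add_of_le ρ.invariants.finrank_le
  have hdir' := h.direct hn.symm
  have h5 : m + 1 ≤ n := by
    have := hdir'.1
    rwa [he, Nat.pow_le_pow_iff_right hq, T_mono.le_iff_le] at this
  obtain rfl : n = m + 1 := by omega
  have h6 := P.finrank_perp ρ.invariants
  have h7 : P.perp ρ.invariants = ρ.invariants :=
    Submodule.eq_of_le_of_finrank_eq (h.perp_le (hdir'.2 he)) (by omega)
  exact ⟨by omega, h7, fun w hw => hdir'.2 he w (h7.symm ▸ hw)⟩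

end Cfsg.Agent.H55.SpJf
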