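import Mathlib
import Cfsg.Agent.H96.CritApi

/-! Coded `2`-groups: products of codes, actions on codes, extension of power-conjugate tables. -/

set_option autoImplicit false

namespace Cfsg.Agent.H55.TQ

open Subgroup Cfsg.Agent.H96

variable {G : Type*} [Group G]

/-- product of a list of codes -/
noncomputable def pw (μ : ℕ → ℕ → ℕ) (l : List ℕ) : ℕ := List.rec 0 (fun a _ r => μ a r) l

/-- the product in `G` -/
def E (ev : ℕ → G) (l : List ℕ) : G := (l.map ev).prod

theorem E_nil (ev : ℕ → G) : E ev [] = 1 := rfl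

theorem E_cons (ev : ℕ → G) (a : ℕ) (l : List ℕ) : E ev (a :: l) = ev a * E ev l := by
  simp [E]

noncomputable def eqB (μ : ℕ → ℕ → ℕ) (l l' : List ℕ) : Bool := Nat.beq (pw μ l) (pw μ l')

/-- the normal form word in codes -/
noncomputable def wordN (μ : ℕ → ℕ → ℕ) (cs : List ℕ) : ℕ → ℕ :=
  List.rec (motive := fun _ => ℕ → ℕ) (fun _ => 0)
    (fun c _ r a => force a fun a => Bool.rec (μ c (r (Nat.shiftRight a 1))) (r (Nat.shiftRight a 1))
      (Nat.beq (Nat.land a 1) 0)) cs

theorem wordN_cons (μ : ℕ → ℕ → ℕ) (c : ℕ) (cs : List ℕ) (a : ℕ) : wordN μ (c :: cs) a =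
    if a % 2 = 0 then wordN μ cs (a / 2) else μ c (wordN μ cs (a / 2)) := by
  have e : wordN μ (c :: cs) a = force a fun a => iteB (Nat.beq (a &&& 1) 0)
      (wordN μ cs (a >>> 1)) (μ c (wordN μ cs (a >>> 1))) := rfl
  rw [e]
  simp only [force_eq, iteB_eq, Nat.and_one_is_mod, Nat.shiftRight_one, Nat.beq_eq]

/-- the relations of the tables `L`, tested on codes -/
noncomputable def relB (μ : ℕ → ℕ → ℕ) (w m : ℕ) (L : List (ℕ × ℕ)) : List ℕ → Bool :=
  List.rec (motive := fun _ => List ℕ → Bool) (fun cs => List.casesOn cs true fun _ _ => false)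
    (fun cd L r cs => List.casesOn cs false fun x xs =>
      Nat.beq (μ x x) (wordN μ xs (look w m cd.2 0)) &&
      allLt L.length (fun i => Nat.beq (μ (wordN μ xs (2 ^ i)) x)
        (μ x (wordN μ xs (look w m cd.1 (2 ^ i))))) && r xs) L

def sel (v w : List ℕ) : List ℕ := w.map fun i => v.getD i 0

noncomputable def rels (μ : ℕ → ℕ → ℕ) (v : List ℕ) (R : List (List ℕ × List ℕ)) : Bool :=
  R.all fun r => eqB μ (sel v r.1) (sel v r.2)

/-- `p ^ g = q` on codes -/
def A (ev : ℕ → G) (g : G) (p q : ℕ) : Prop := ev p * g = g * ev q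

def Inj (N : ℕ) (ev : ℕ → G) : Prop := ∀ a < N, ∀ b < N, ev a = ev b → a = b

structure Cm (N : ℕ) (μ : ℕ → ℕ → ℕ) (ev : ℕ → G) : Prop where
  pos : 0 < N
  lt : ∀ a b, μ a b < N
  mul : ∀ a b, ev (μ a b) = ev a * ev b
  zero : ev 0 = 1

theorem word_conj {g : G} {xs ys : List G} (h : List.Forall₂ (fun x y => x * g = g * y) xs ys) :
    ∀ a, word xs a * g = g * word ys a := by
  induction h with
  | nil => intro a; simp [word]
  | cons h _ ih =>
    intro a
    simp only [word]
    split_ifs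
    · rw [one_mul, one_mul, ih]
    · rw [mul_assoc, ih, ← mul_assoc, h, mul_assoc]

theorem word_even (x : G) (xs : List G) (a : ℕ) : word (x :: xs) (2 * a) = word xs a := by
  rw [word, if_pos (by omega), one_mul, show 2 * a / 2 = a by omega]

theorem word_odd (x : G) (xs : List G) (a : ℕ) : word (x :: xs) (2 * a + 1) = x * word xs a := by
  rw [word, if_neg (by omega), show (2 * a + 1) / 2 = a by omega]

theorem word_mod : ∀ (xs : List G) (a : ℕ), word xs (a % 2 ^ xs.length) = word xs a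
  | [], _ => rfl
  | x :: xs, a => by
    have h1 : a % 2 ^ (xs.length + 1) % 2 = a % 2 :=
      Nat.mod_mod_of_dvd a (dvd_pow_self 2 (by omega))
    have h2 : a % 2 ^ (xs.length + 1) / 2 = a / 2 % 2 ^ xs.length := by
      rw [pow_succ', Nat.mod_mul_right_div_self]
    simp only [word, List.length_cons, h1, h2, word_mod xs]

theorem word_mem_bit {K : Subgroup G} : ∀ (xs : List G) (a : ℕ),
    (∀ i, ∀ h : i < xs.length, a.testBit i = true → xs[i] ∈ K) → word xs a ∈ K
  | [], _, _ => K.one_mem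
  | x :: xs, a, h => by
    refine K.mul_mem ?_ (word_mem_bit xs _ fun i hi e => h (i + 1) (by simpa using hi) ?_)
    · split_ifs with h0
      · exact K.one_mem
      · exact h 0 (by simp) (by rw [Nat.testBit_zero]; simp; omega)
    · rwa [Nat.testBit_succ]

/-- the action of `g` on the elements `ys` -/
def F2 (xs : List G) (g : G) (ys : List G) (ims : List ℕ) : Prop :=
  List.Forall₂ (fun x c => x * g = g * word xs c) ys ims

theorem F2.nil {xs : List G} {g : G} : F2 xs g [] [] := List.Forall₂.nil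

theorem F2.cons {xs : List G} {g y : G} {ys : List G} {c : ℕ} {ims : List ℕ}
    (h : y * g = g * word xs c) (h' : F2 xs g ys ims) : F2 xs g (y :: ys) (c :: ims) :=
  List.Forall₂.cons h h'

theorem F2.up {xs : List G} {g : G} {ys : List G} {ims : List ℕ} (h : F2 xs g ys ims) (x : G) :
    F2 (x :: xs) g ys (ims.map (2 * ·)) := by
  induction h with
  | nil => exact F2.nil
  | cons h _ ih => exact F2.cons (by rw [word_even]; exact h) ih

theorem rel_cons {w m C D : ℕ} {L : List (ℕ × ℕ)} {xs : List G} {g : G} {ims : List ℕ}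
    (hr : RelL w m L xs) (hF : F2 xs g xs ims)
    (hc : (List.range L.length).map (fun i => look w m C (2 ^ i)) = ims)
    (hs : g * g = word xs (look w m D 0)) : RelL w m ((C, D) :: L) (g :: xs) := by
  refine ⟨hs, fun i => ?_, hr⟩
  have hl := hr.length
  have hi : i.val < xs.length := by rw [hl]; exact i.isLt
  have h2 : i.val < ims.length := by rw [← hc]; simp
  have := List.forall₂_iff_get.1 hF |>.2 i.val hi h2
  simp only [List.get_eq_getElem] at this
  rw [word_two_pow xs _ hi, this]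
  subst hc
  simp

namespace Cm

variable {N : ℕ} {μ : ℕ → ℕ → ℕ} {ev : ℕ → G} (h : Cm N μ ev)
include h

theorem ev_pw : ∀ l, ev (pw μ l) = E ev l
  | [] => h.zero
  | a :: l => by rw [E_cons, ← ev_pw l]; exact h.mul _ _

theorem pw_lt : ∀ l, pw μ l < N
  | [] => h.pos
  | _ :: _ => h.lt _ _

theorem E_eq {l l' : List ℕ} (e : eqB μ l l' = true) : E ev l = E ev l' := by
  rw [← h.ev_pw, ← h.ev_pw, Nat.eq_of_beq_eq_true e]

theorem eqB_of (hi : Inj N ev) {l l' : List ℕ} (e : E ev l = E ev l') : eqB μ l l' = true := by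
  rw [← h.ev_pw, ← h.ev_pw] at e
  exact Nat.beq_eq ▸ hi _ (h.pw_lt l) _ (h.pw_lt l') e

theorem ev_wordN : ∀ (cs : List ℕ) (a : ℕ), ev (wordN μ cs a) = word (cs.map ev) a
  | [], _ => h.zero
  | c :: cs, a => by
    rw [wordN_cons, List.map_cons, word]
    split_ifs
    · rw [one_mul, ev_wordN cs]
    · rw [h.mul, ev_wordN cs]

theorem wordN_lt : ∀ (cs : List ℕ) (a : ℕ), wordN μ cs a < N
  | [], _ => h.pos
  | c :: cs, a => by
    rw [wordN_cons]
    split_ifs
    · exact wordN_lt cs _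
    · exact h.lt _ _

theorem rel_of_relB {w m : ℕ} : ∀ (L : List (ℕ × ℕ)) (cs : List ℕ), relB μ w m L cs = true →
    RelL w m L (cs.map ev)
  | [], [], _ => trivial
  | [], _ :: _, e => Bool.noConfusion e
  | _ :: _, [], e => Bool.noConfusion e
  | cd :: L, x :: xs, e => by
    have e' : (Nat.beq (μ x x) (wordN μ xs (look w m cd.2 0)) &&
      allLt L.length (fun i => Nat.beq (μ (wordN μ xs (2 ^ i)) x)
        (μ x (wordN μ xs (look w m cd.1 (2 ^ i))))) && relB μ w m L xs) = true := e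
    simp only [Bool.and_eq_true, allLt_iff, Nat.beq_eq] at e'
    obtain ⟨⟨e1, e2⟩, e3⟩ := e'
    refine ⟨?_, fun i => ?_, rel_of_relB L xs e3⟩
    · rw [← h.mul, e1, h.ev_wordN]
    · rw [← h.ev_wordN, ← h.ev_wordN, ← h.mul, ← h.mul, e2 i i.isLt]

theorem A_of {g : G} {l l' : List ℕ} (e : E ev l * g = g * E ev l') : A ev g (pw μ l) (pw μ l') := by
  rw [A, h.ev_pw, h.ev_pw, e]

omit h in
theorem E_conj {g : G} {l l' : List ℕ} (e : List.Forall₂ (A ev g) l l') :
    E ev l * g = g * E ev l' := by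
  induction e with
  | nil => simp [E]
  | cons e _ ih => rw [E_cons, E_cons, mul_assoc, ih, ← mul_assoc, e, mul_assoc]

theorem A_pw {g : G} {l l' : List ℕ} (e : List.Forall₂ (A ev g) l l') :
    A ev g (pw μ l) (pw μ l') := h.A_of (E_conj e)

theorem sel_A {g : G} {v v' : List ℕ} (e : List.Forall₂ (A ev g) v v') (w : List ℕ) :
    List.Forall₂ (A ev g) (sel v w) (sel v' w) := by
  have key : ∀ i, A ev g (v.getD i 0) (v'.getD i 0) := by
    induction e with
    | nil => intro i; simp [A, h.zero]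
    | cons e _ ih =>
      intro i
      cases i with
      | zero => exact e
      | succ i => exact ih i
  induction w with
  | nil => exact List.Forall₂.nil
  | cons i w ih => exact List.Forall₂.cons (key i) ih

theorem rels_A (hi : Inj N ev) {g : G} {v v' : List ℕ} (e : List.Forall₂ (A ev g) v v')
    {R : List (List ℕ × List ℕ)} (hR : rels μ v R = true) : rels μ v' R = true := by
  simp only [rels, List.all_eq_true] at hR ⊢
  intro r hr
  refine h.eqB_of hi (mul_left_cancel (a := g) ?_)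
  rw [← E_conj (h.sel_A e r.1), ← E_conj (h.sel_A e r.2), h.E_eq (hR r hr)]

/-- the coded subgroup -/
def sub [Finite G] : Subgroup G where
  carrier := {g | ∃ a < N, ev a = g}
  one_mem' := ⟨0, h.pos, h.zero⟩
  mul_mem' := by
    rintro _ _ ⟨a, -, rfl⟩ ⟨b, -, rfl⟩
    exact ⟨_, h.lt a b, h.mul a b⟩
  inv_mem' := by
    rintro _ ⟨a, -, rfl⟩
    obtain ⟨n, hn⟩ := mem_powers_iff_mem_zpowers.2 (inv_mem (mem_zpowers (ev a)))
    rw [← hn]
    clear hn
    induction n with
    | zero => exact ⟨0, h.pos, by simpa using h.zero⟩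
    | succ n ih =>
      obtain ⟨b, -, e⟩ := ih
      exact ⟨_, h.lt b a, by rw [h.mul, e]; exact (pow_succ _ _).symm⟩

theorem mem_sub [Finite G] {g : G} : g ∈ h.sub ↔ ∃ a < N, ev a = g := Iff.rfl

theorem ev_mem [Finite G] (a : ℕ) : ev a ∈ h.sub :=
  ⟨_, h.lt a 0, by rw [h.mul, h.zero, mul_one]⟩

theorem card_sub [Finite G] (hi : Inj N ev) : Nat.card h.sub = N := by
  have : Function.Bijective fun a : Fin N => (⟨ev a, h.ev_mem a⟩ : h.sub) :=
    ⟨fun a b e => Fin.ext (hi _ a.isLt _ b.isLt (congrArg Subtype.val e)),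
      fun ⟨_, a, ha, e⟩ => ⟨⟨a, ha⟩, Subtype.ext e⟩⟩
  rw [← Nat.card_congr (Equiv.ofBijective _ this), Nat.card_eq_fintype_card, Fintype.card_fin]

end Cm

theorem F2.act {N : ℕ} {μ : ℕ → ℕ → ℕ} {xs : List G} (h : Cm N μ (word xs)) {g : G} {ims : List ℕ}
    (hF : F2 xs g xs ims) (a : ℕ) : A (word xs) g a (wordN μ ims a) := by
  rw [A, h.ev_wordN]
  exact word_conj (List.forall₂_map_right_iff.2 hF) a

theorem F2.comp {N : ℕ} {μ : ℕ → ℕ → ℕ} {xs : List G} (h : Cm N μ (word xs)) {g g' : G}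
    {ys : List G} {ims ims' : List ℕ} (hF : F2 xs g ys ims) (hF' : F2 xs g' xs ims') :
    F2 xs (g * g') ys (ims.map (wordN μ ims')) := by
  induction hF with
  | nil => exact F2.nil
  | cons e _ ih =>
    refine F2.cons ?_ ih
    rw [← mul_assoc, e, mul_assoc, hF'.act h, mul_assoc]

/-- multiplication through the tables -/
noncomputable def mL (w m : ℕ) (L : List (ℕ × ℕ)) (k a b : ℕ) : ℕ :=
  mulL w m L (Nat.land a k) (Nat.land b k)

theorem land_mask {k n : ℕ} (hk : k + 1 = 2 ^ n) (a : ℕ) : Nat.land a k = a % 2 ^ n := by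
  rw [show k = 2 ^ n - 1 by omega]
  exact Nat.and_two_pow_sub_one_eq_mod a n

theorem cm_of {w m k : ℕ} {L : List (ℕ × ℕ)} {xs : List G} (hc : chkL w m L = true)
    (hr : RelL w m L xs) (hk : k + 1 = 2 ^ L.length) : Cm (k + 1) (mL w m L k) (word xs) := by
  have hl : ∀ a, Nat.land a k < 2 ^ L.length := fun a => by
    rw [land_mask hk]; exact Nat.mod_lt _ (Nat.two_pow_pos _)
  have hw : ∀ a, word xs (Nat.land a k) = word xs a := fun a => by
    rw [land_mask hk, ← hr.length, word_mod]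
  refine ⟨by omega, fun a b => ?_, fun a b => ?_, word_zero xs⟩
  · rw [hk]; exact (mon_of_chk L hc L List.suffix_rfl).lt _ (hl a) _ (hl b)
  · rw [mL, word_mul L xs hc hr _ (hl a) _ (hl b), hw, hw]

/-- multiplication through the fast tables -/
noncomputable def mF (F : Pc.Fast) (k a b : ℕ) : ℕ :=
  force (Nat.land a k) fun a => force (Nat.land b k) fun b => F.mul a b

theorem mF_eq {T : Pc} [T.OK] {F : Pc.Fast} (hF : F.check T = true) {k : ℕ}
    (hk : k + 1 = 2 ^ T.L.length) : mF F k = mL T.w T.m T.L k := by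
  funext a b
  have hl : ∀ a, Nat.land a k < T.n := fun a => by
    rw [land_mask hk]; exact Nat.mod_lt _ (Nat.two_pow_pos _)
  rw [mF, force_eq, force_eq, Pc.Fast.mul_eq hF (hl a) (hl b)]
  rfl

/-- all generators commute with `a` -/
noncomputable def cenB (μ : ℕ → ℕ → ℕ) (gs : List ℕ) (a : ℕ) : Bool :=
  gs.all fun g => Nat.beq (μ a g) (μ g a)

theorem inj_of {T : Pc} [T.OK] {xs : List G} (hr : T.Rel xs) {k : ℕ} (hk : k + 1 = 2 ^ T.L.length)
    {gs : List ℕ} {z : ℕ}
    (hz : allLt (k + 1) (fun a => !cenB (mL T.w T.m T.L k) gs a || Nat.beq a 0 || Nat.beq a z) = true)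
    (h1 : word xs z ≠ 1) : Inj (k + 1) (word xs) := by
  have hi := Pc.lift_injective xs hr fun u u1 _ hu => by
    have := allLt_iff.1 hz u.val (hk ▸ u.lt)
    have hc : cenB (mL T.w T.m T.L k) gs u.val = true := by
      simp only [cenB, List.all_eq_true, Nat.beq_eq]
      intro g _
      have hl : Nat.land g k < T.n := by
        rw [land_mask hk]; exact Nat.mod_lt _ (Nat.two_pow_pos _)
      have hu' : Nat.land u.val k = u.val := by
        rw [land_mask hk]; exact Nat.mod_eq_of_lt u.lt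
      have := congrArg Pc.G.val (hu ⟨_, hl⟩)
      rw [mL, mL, hu']
      exact this.symm
    simp only [hc, Bool.not_true, Bool.false_or, Bool.or_eq_true, Nat.beq_eq] at this
    rcases this with e | e
    · exact absurd (Pc.G.ext e) u1
    · rwa [e]
  intro a ha b hb e
  exact congrArg Pc.G.val (@hi ⟨a, ha.trans_eq hk⟩ ⟨b, hb.trans_eq hk⟩ e)

/-- the number of `i < n` with `p i` -/
noncomputable def cnt (n : ℕ) (p : ℕ → Bool) : ℕ :=
  Nat.rec 0 (fun i r => Bool.rec r (Nat.succ r) (p i)) n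

theorem cnt_eq (n : ℕ) (p : ℕ → Bool) :
    cnt n p = ((Finset.range n).filter fun i => p i = true).card := by
  induction n with
  | zero => rfl
  | succ n ih =>
    have : cnt (n + 1) p = Bool.rec (cnt n p) (Nat.succ (cnt n p)) (p n) := rfl
    rw [this, Finset.range_add_one, Finset.filter_insert, ih]
    cases p n
    · simp
    · simp

theorem cnt_le {n : ℕ} {e : ℕ → G} (hi : Inj n e) {g : G}
    (hg : ∀ i < n, ∃ j < n, e i * g = g * e j) {P Q : ℕ → Bool} {p q : G}
    (hP : ∀ i < n, P i = true → e i * e i = p) (hQ : ∀ j < n, e j * e j = q → Q j = true)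
    (hpq : p * g = g * q) : cnt n P ≤ cnt n Q := by
  choose! φ h1 h2 using hg
  rw [cnt_eq, cnt_eq]
  refine Finset.card_le_card_of_injOn φ (fun i hi' => ?_) fun i hi' j hj e' => ?_
  · simp only [Finset.coe_filter, Finset.mem_range, Set.mem_ofPred_eq] at hi' ⊢
    refine ⟨h1 i hi'.1, hQ _ (h1 i hi'.1) (mul_left_cancel (a := g) ?_)⟩
    rw [← mul_assoc, ← h2 i hi'.1, mul_assoc, ← h2 i hi'.1, ← mul_assoc, hP i hi'.1 hi'.2, hpq]
  · simp only [Finset.coe_filter, Finset.mem_range, Set.mem_ofPred_eq] at hi' hj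
    refine hi i hi'.1 j hj.1 (mul_right_cancel (b := g) ?_)
    rw [h2 i hi'.1, h2 j hj.1, e']

/-- many elements commuting with `u` -/
theorem le_card {N : ℕ} {ev : ℕ → G} (hi : Inj N ev) {R : Subgroup G} [Finite R] {g : G}
    {l : List ℕ} (hl : l.Nodup) (h1 : ∀ a ∈ l, a < N) (h2 : ∀ a ∈ l, g⁻¹ * ev a * g ∈ R) :
    l.length ≤ Nat.card R := by
  classical
  have := Fintype.ofFinite R
  rw [← List.toFinset_card_of_nodup hl, Nat.card_eq_fintype_card, ← Finset.card_univ]
  refine Finset.card_le_card_of_injOn (fun a => if h : a ∈ l then ⟨_, h2 a h⟩ else 1)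
    (fun _ _ => Finset.mem_coe.2 (Finset.mem_univ _)) fun a ha b hb e => ?_
  have ha' := List.mem_toFinset.1 ha
  have hb' := List.mem_toFinset.1 hb
  simp only [dif_pos ha', dif_pos hb', Subtype.mk.injEq, mul_left_inj, mul_right_inj] at e
  exact hi a (h1 a ha') b (h1 b hb') e

end Cfsg.Agent.H55.TQ
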