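import Mathlib
import Cfsg.Agent.H55.TQT
import Cfsg.Agent.H93.LT2Defs

/-! Type `TQ`: the model of `T₂` and the element `k`. -/

set_option autoImplicit false

namespace Cfsg.Agent.H55.TQ

open Subgroup Cfsg.Agent.H96 Cfsg.Agent.H85 Cfsg.Agent.H93.LT

universe u

variable {G : Type u} [Group G]

theorem of_cn {x g w : G} (h : cn x g = w) : x * g = g * w := by rw [← h]; group

theorem to_cn {x g w : G} (h : x * g = g * w) : cn x g = w := by
  rw [cn, mul_assoc, h]; group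

theorem cn_mul (x g g' : G) : cn x (g * g') = cn (cn x g) g' := by delta cn; group

theorem cmul {x y x' y' g : G} (h : x * g = g * x') (h' : y * g = g * y') :
    x * y * g = g * (x' * y') := by
  rw [mul_assoc, h', ← mul_assoc, h, mul_assoc]

theorem F2_of {N : ℕ} {μ : ℕ → ℕ → ℕ} {xs : List G} (h : Cm N μ (word xs)) {g : G} {ys : List G}
    {ims : List ℕ} (ls : List (List ℕ)) (hc : ls.map (pw μ) = ims)
    (e : List.Forall₂ (fun y l => y * g = g * E (word xs) l) ys ls) : F2 xs g ys ims := by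
  subst hc
  induction e with
  | nil => exact F2.nil
  | cons e _ ih => exact F2.cons (by rw [h.ev_pw]; exact e) ih

theorem Cm.ev_eq {N : ℕ} {μ : ℕ → ℕ → ℕ} {ev : ℕ → G} (h : Cm N μ ev) (l : List ℕ) {c : ℕ}
    (e : pw μ l = c) : ev c = E ev l := by rw [← e, h.ev_pw]

section

variable (h : TQ0 G)

def xP : List G := [h.Y, h.y, h.t, h.b, h.a, h.f, h.z]
def x1 : List G := [h.t, h.b, h.y * (h.Y * h.t), h.y, h.a, h.f, h.z]
def x2 : List G := h.n :: h.m :: h.c :: x1 h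

theorem zcomm {g : G} (ha : Commute g h.a) (hb : Commute g h.b) : Commute g h.z := by
  have : h.z = h.a⁻¹ * (h.b⁻¹ * h.a * h.b) := by
    rw [show h.b⁻¹ * h.a * h.b = h.a * h.z from h.ab]; group
  rw [this]
  exact ha.inv_right.mul_right ((hb.inv_right.mul_right ha).mul_right hb)

theorem fz : Commute h.f h.z := zcomm h h.fa h.fb

theorem tz : Commute h.t h.z := zcomm h h.ta h.tb

theorem relP : RelL 11 2047 LP (xP h) := by
  refine rel_cons (ims := [17, 50, 4, 8, 16, 32]) (rel_cons (ims := [9, 26, 4, 8, 16])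
    (rel_cons (ims := [1, 2, 4, 8]) (rel_cons (ims := [5, 2, 4]) (rel_cons (ims := [1, 2])
      (rel_cons (ims := [1]) (rel_cons (ims := []) trivial F2.nil (by decide +kernel) ?_)
      ?_ (by decide +kernel) ?_) ?_ (by decide +kernel) ?_) ?_ (by decide +kernel) ?_)
      ?_ (by decide +kernel) ?_) ?_ (by decide +kernel) ?_) ?_ (by decide +kernel) ?_
  · exact h.zz
  · exact F2.cons (by simpa [word] using (fz h).symm.eq) F2.nil
  · exact h.ff.trans (word_zero _).symm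
  · exact F2.cons (by simpa [word] using h.fa.eq) (F2.cons (by simpa [word] using h.za.eq) F2.nil)
  · exact h.aa.trans (word_zero _).symm
  · exact F2.cons (by simpa [word] using of_cn h.ab) (F2.cons (by simpa [word] using h.fb.eq)
      (F2.cons (by simpa [word] using h.zb.eq) F2.nil))
  · exact h.bb.trans (word_zero _).symm
  · exact F2.cons (by simpa [word] using h.tb.symm.eq) (F2.cons (by simpa [word] using h.ta.symm.eq)
      (F2.cons (by simpa [word] using h.tf.symm.eq)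
        (F2.cons (by simpa [word] using (tz h).symm.eq) F2.nil)))
  · exact h.tt.trans (word_zero _).symm
  · exact F2.cons (by simpa [word] using of_cn h.ty)
      (F2.cons (by simpa [word, mul_assoc] using of_cn h.by)
      (F2.cons (by simpa [word] using h.ya.symm.eq) (F2.cons (by simpa [word] using h.yf.symm.eq)
        (F2.cons (by simpa [word] using h.yz.symm.eq) F2.nil))))
  · exact h.yy.trans (word_zero _).symm
  · exact F2.cons (by simpa [word] using of_cn h.yY)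
      (F2.cons (by simpa [word, mul_assoc] using of_cn h.tY)
      (F2.cons (by simpa [word] using h.Yb.symm.eq) (F2.cons (by simpa [word] using h.Ya.symm.eq)
      (F2.cons (by simpa [word] using h.Yf.symm.eq)
        (F2.cons (by simpa [word] using h.Yz.symm.eq) F2.nil)))))
  · exact h.YY.trans (word_zero _).symm

theorem cmP : Cm (127 + 1) μP (word (xP h)) := cm_of cP (relP h) (by decide +kernel)

theorem rel1 : RelL 11 2047 L1 (x1 h) := by
  have := (cmP h).rel_of_relB _ _ r1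
  simp only [List.map_cons, List.map_nil, (cmP h).ev_pw, E_cons, E_nil] at this
  simpa [xP, word, x1] using this

theorem cm1 : Cm (127 + 1) μ1 (word (x1 h)) := cm_of c1 (rel1 h) (by decide +kernel)

theorem v1 : word (x1 h) 1 = h.t ∧ word (x1 h) 2 = h.b ∧ word (x1 h) 4 = h.y * (h.Y * h.t) ∧
    word (x1 h) 8 = h.y ∧ word (x1 h) 16 = h.a ∧ word (x1 h) 32 = h.f ∧ word (x1 h) 64 = h.z := by
  simp [x1, word]

theorem v1Y : word (x1 h) 109 = h.Y := by
  obtain ⟨e1, -, e3, e4, -⟩ := v1 h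
  rw [(cm1 h).ev_eq [8, 4, 1] (by decide +kernel)]
  simp only [E_cons, E_nil, e1, e3, e4, mul_one, mul_assoc, h.tt]
  rw [← mul_assoc, h.yy, one_mul]

theorem Fm : F2 (x1 h) h.m (x1 h) imm := by
  obtain ⟨e1, e2, -, e4, e5, e6, e7⟩ := v1 h
  have eY := v1Y h
  refine F2_of (cm1 h) [[16, 1], [2, 1, 8, 109], [8, 32, 16, 109, 16, 1], [8], [16], [32], [64]]
    (by decide +kernel) ?_
  simp only [x1, List.forall₂_cons, List.forall₂_nil_left_iff, and_true] at *
  simp only [E_cons, E_nil, e1, e2, e4, e5, e6, e7, eY, mul_one]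
  refine ⟨of_cn h.tm, ?_, ?_, h.my.symm.eq, h.ma.symm.eq, h.mf.symm.eq, h.mz.symm.eq⟩
  · simpa only [mul_assoc] using of_cn h.bm
  · simpa only [mul_assoc] using cmul h.my.symm.eq (cmul (of_cn h.Ym) (of_cn h.tm))

theorem fn : cn h.f h.n = h.z := by
  have := of_cn h.zn
  refine to_cn (mul_left_cancel (a := h.n) ?_)
  rw [← mul_assoc, ← this, mul_assoc, h.nn, ← mul_assoc, h.nn, mul_one, one_mul]

theorem Fn : F2 (x1 h) h.n (x1 h) imn := by
  obtain ⟨e1, e2, -, e4, e5, e6, e7⟩ := v1 h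
  have eY := v1Y h
  refine F2_of (cm1 h) [[64, 32, 2, 1], [2], [8, 2, 109, 64, 32, 2, 1], [8], [16, 8], [64], [32]]
    (by decide +kernel) ?_
  simp only [x1, List.forall₂_cons, List.forall₂_nil_left_iff, and_true] at *
  simp only [E_cons, E_nil, e1, e2, e4, e5, e6, e7, eY, mul_one]
  refine ⟨?_, h.nb.symm.eq, ?_, h.ny.symm.eq, of_cn h.an, of_cn (fn h), of_cn h.zn⟩
  · simpa only [mul_assoc] using of_cn h.tn
  · simpa only [mul_assoc] using cmul h.ny.symm.eq (cmul (of_cn h.Yn) (of_cn h.tn))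

theorem Fc : F2 (x1 h) h.c (x1 h) imc := by
  rw [← imc_eq]
  exact (((Fm h).comp (cm1 h) (Fn h)).comp (cm1 h) (Fm h)).comp (cm1 h) (Fn h)

theorem mm48 : h.m * h.m = word (x1 h) 48 := by
  obtain ⟨-, -, -, -, e5, e6, -⟩ := v1 h
  rw [(cm1 h).ev_eq [32, 16] (by decide +kernel), h.mm]
  simp only [E_cons, E_nil, e5, e6, mul_one]

theorem nu_c : h.n * h.m * h.n * h.m * h.c = word (x1 h) 104 := by
  have a1 : A _ h.n 48 88 := (show wordN μ1 imn 48 = 88 by decide +kernel) ▸ (Fn h).act (cm1 h) 48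
  have a2 : A _ h.m 88 88 := (show wordN μ1 imm 88 = 88 by decide +kernel) ▸ (Fm h).act (cm1 h) 88
  have a3 : A _ h.n 104 104 :=
    (show wordN μ1 imn 104 = 104 by decide +kernel) ▸ (Fn h).act (cm1 h) 104
  have a4 : word (x1 h) 48 * word (x1 h) 88 = word (x1 h) 104 := by
    rw [← (cm1 h).mul, show μ1 48 88 = 104 by decide +kernel]
  unfold A at a1 a2 a3
  calc h.n * h.m * h.n * h.m * h.c
      = h.n * h.m * h.n * (h.m * h.m * h.n) * h.m * h.n := by simp only [TQ0.c, mul_assoc]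
    _ = h.n * h.m * (h.n * h.n) * (word (x1 h) 88 * h.m) * h.n := by
      rw [mm48, a1]; simp only [mul_assoc]
    _ = h.n * (h.m * h.m * word (x1 h) 88 * h.n) := by rw [h.nn, a2]; simp only [mul_assoc, one_mul]
    _ = word (x1 h) 104 := by rw [mm48, a4, a3, ← mul_assoc, h.nn, one_mul]

variable {h} {D : Tb}

theorem rel2 (hD : D.OK) (hs : (h.m * h.n) ^ 4 = word (x1 h) D.c2) : RelL 11 2047 D.L (x2 h) := by
  have cc : h.c * h.c = word (x1 h) D.c2 := by
    rw [← hs]; simp only [TQ0.c, pow_succ, pow_zero, one_mul, mul_assoc]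
  have nu : h.n * h.m * h.n * h.m = h.c * word (x1 h) D.w1 := by
    refine mul_right_cancel (b := h.c) ?_
    have := (cm1 h).E_eq hD.w1
    simp only [E_cons, E_nil, mul_one] at this
    rw [nu_c, mul_assoc, (Fc h).act (cm1 h), ← mul_assoc, cc, this]
  have mn : h.n * h.m * h.n = h.m * (h.c * word (x1 h) 48) := by
    refine mul_left_cancel (a := h.m) ?_
    have a1 : A _ h.c 48 48 := (show wordN μ1 imc 48 = 48 by decide +kernel) ▸ (Fc h).act (cm1 h) 48
    have a2 : word (x1 h) 48 * word (x1 h) 48 = 1 := by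
      rw [← (cm1 h).mul, show μ1 48 48 = 0 by decide +kernel, word_zero]
    rw [← mul_assoc h.m h.m, mm48, ← mul_assoc (word _ _), a1, mul_assoc h.c, a2]
    simp only [TQ0.c, mul_assoc, mul_one]
  refine rel_cons (rel_cons (rel_cons (rel1 h) (Fc h) hD.hc (hD.sc ▸ cc))
    (F2.cons ?_ ((Fm h).up _)) hD.hm ?_) (F2.cons ?_ (F2.cons ?_ (((Fn h).up _).up _))) hD.hn ?_
  · rw [word_odd, ← nu]; simp only [TQ0.c, mul_assoc]
  · rw [hD.sm, word_even, mm48]
  · rw [word_odd, word_odd, ← mn, ← mul_assoc, ← mul_assoc, h.nn, one_mul]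
  · rw [word_even, word_odd, ← nu, TQ0.c, mul_assoc _ h.n h.n, h.nn, ← mul_assoc, ← mul_assoc,
      ← mul_assoc, h.nn, one_mul, mul_one]
  · rw [hD.sn, word_zero, h.nn]

theorem len_L (D : Tb) : 1023 + 1 = 2 ^ D.L.length :=
  show 1023 + 1 = 2 ^ (L1.length + 1 + 1 + 1) by decide +kernel

theorem μ_eq (hD : D.OK) : D.μ = mL 11 2047 D.L 1023 :=
  haveI : D.T.OK := ⟨hD.ok⟩
  mF_eq (T := D.T) hD.fast (len_L D)

theorem chk_L (hD : D.OK) : chkL 11 2047 D.L = true :=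
  haveI : D.T.OK := ⟨hD.ok⟩
  Pc.chkL_true (T := D.T)

variable (h)

theorem v2 : word (x2 h) 1 = h.n ∧ word (x2 h) 2 = h.m ∧ word (x2 h) 4 = h.c ∧
    word (x2 h) 8 = h.t ∧ word (x2 h) 16 = h.b ∧ word (x2 h) 32 = h.y * (h.Y * h.t) ∧
    word (x2 h) 64 = h.y ∧ word (x2 h) 128 = h.a ∧ word (x2 h) 256 = h.f ∧
    word (x2 h) 512 = h.z := by
  simp [x2, x1, word]

theorem v2Y : word (x2 h) 872 = h.Y :=
  (word_even _ _ 436).trans ((word_even _ _ 218).trans ((word_even _ _ 109).trans (v1Y h)))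

theorem fz_ne : h.f * h.z ≠ 1 := by
  intro e
  have e1 : h.z = h.f := by
    rw [← mul_right_inj h.f, e, h.ff]
  have e2 : h.a = h.z := by
    rw [← h.zr, e1]; exact to_cn h.rf.symm.eq
  have e3 := h.ab
  rw [e2, to_cn h.zb.eq, h.zz] at e3
  exact h.z1 e3

/-- `A = ⟨z, f, a, y⟩` and its centraliser -/
def A0 : Subgroup G := closure {h.z, h.f, h.a, h.y}

def CA : Subgroup G := centralizer {h.z, h.f, h.a, h.y}

theorem mem_CA {c : G} : c ∈ CA h ↔ h.z * c = c * h.z ∧ h.f * c = c * h.f ∧ h.a * c = c * h.a ∧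
    h.y * c = c * h.y := by
  simp [CA, mem_centralizer_iff]

theorem CA_comm {c x : G} (hc : c ∈ CA h) (hx : x ∈ A0 h) : x * c = c * x := by
  have : A0 h ≤ centralizer {c} := (closure_le _).2 fun y hy =>
    mem_centralizer_singleton_iff.2 (hc y hy)
  exact mem_centralizer_singleton_iff.1 (this hx)

theorem genA : h.z ∈ A0 h ∧ h.f ∈ A0 h ∧ h.a ∈ A0 h ∧ h.y ∈ A0 h :=
  ⟨subset_closure (by simp), subset_closure (by simp), subset_closure (by simp),
    subset_closure (by simp)⟩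

theorem evA (l : ℕ) : word (x2 h) (64 * l) ∈ A0 h := by
  obtain ⟨a1, a2, a3, a4⟩ := genA h
  rw [show 64 * l = 2 * (2 * (2 * (2 * (2 * (2 * l))))) by ring, x2, x1, word_even, word_even,
    word_even, word_even, word_even, word_even]
  exact word_mem _ (by simp [a1, a2, a3, a4]) _

theorem nCA [Finite G] {g : G} (hz : cn h.z g ∈ A0 h) (hf : cn h.f g ∈ A0 h) (ha : cn h.a g ∈ A0 h)
    (hy : cn h.y g ∈ A0 h) : g ∈ normalizer (CA h : Set G) := by
  refine mem_normalizer_of_cj_le fun x hx => ?_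
  have key : ∀ u, cn u g ∈ A0 h → u * x = x * u := fun u hu => by
    have := CA_comm h (mem_cj.1 hx) hu
    calc u * x = g * (cn u g * (g⁻¹ * x * g)) * g⁻¹ := by group
      _ = x * u := by rw [this]; group
  exact (mem_CA h).2 ⟨key _ hz, key _ hf, key _ ha, key _ hy⟩

theorem rCA [Finite G] : h.r ∈ normalizer (CA h : Set G) := by
  obtain ⟨a1, a2, a3, a4⟩ := genA h
  refine nCA h (h.zr ▸ a3) (by rw [to_cn h.rf.symm.eq]; exact a2) (h.ar ▸ mul_mem a3 a1) ?_
  rcases h.yr with e | e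
  · have : cn h.y h.r = cn (h.y * h.a) h.r * (cn h.a h.r)⁻¹ := by
      delta cn; group
    rw [this, to_cn e.symm.eq, h.ar]
    exact mul_mem (mul_mem a4 a3) (inv_mem (mul_mem a3 a1))
  · have : cn h.y h.r = cn (h.y * h.a * h.z) h.r * (cn h.z h.r)⁻¹ * (cn h.a h.r)⁻¹ := by
      delta cn; group
    rw [this, to_cn e.symm.eq, h.ar, h.zr]
    exact mul_mem (mul_mem (mul_mem (mul_mem a4 a3) a1) (inv_mem a3)) (inv_mem (mul_mem a3 a1))

theorem T0_C : h.T0 ≤ centralizer {h.t} := by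
  refine (closure_le _).2 ?_
  rintro x (rfl | rfl | rfl | rfl)
  exacts [mem_centralizer_singleton_iff.2 rfl, mem_centralizer_singleton_iff.2 h.tf.symm.eq,
    mem_centralizer_singleton_iff.2 h.ta.symm.eq, mem_centralizer_singleton_iff.2 h.tb.symm.eq]

variable {h}

theorem inf_C [Finite G] (k : Kit h.toHyp) {Q R : Subgroup G} (hR : IsPGroup 2 R) (h0 : h.T0 ≤ Q)
    (hQ : Q ≤ R) : R ⊓ centralizer {h.t} ≤ Q := by
  rcases k.cT2 (R ⊓ centralizer {h.t}) (hR.to_le inf_le_left) (le_inf (h0.trans hQ) (T0_C h))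
    inf_le_right with e | e
  · exact e.le.trans h0
  · exact absurd h.e1 e.1

/-- a Sylow subgroup of `C(A) Q` over `Q` -/
theorem step [Finite G] (k : Kit h.toHyp) {Q : Subgroup G} (hQ : IsPGroup 2 Q) (h0 : h.T0 ≤ Q)
    (hn : Q ≤ normalizer (CA h : Set G)) :
    (∃ c ∈ CA h, c ∈ normalizer (Q : Set G) ∧ c * c ∈ Q ∧ ∀ q ∈ Q, cn h.t c ≠ cn h.t q) ∨
    ∃ g ∈ normalizer ((Q ⊓ CA h : Subgroup G) : Set G), cn h.z g = h.a ∧ cn h.a g = h.a * h.z ∧
      cn h.f g = h.f := by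
  haveI : Fact (Nat.Prime 2) := ⟨Nat.prime_two⟩
  obtain ⟨R, hR, hQR⟩ := exists_isSyl_ge hQ (le_sup_right : Q ≤ CA h ⊔ Q)
  rcases hQR.eq_or_lt with rfl | hlt
  · right
    have hS := hR.inf_of_le_normalizer le_sup_left (sup_le le_normalizer hn)
    obtain ⟨c, hc, e⟩ := hS.exists_cj_eq (hS.cj_of_mem_normalizer (rCA h))
    obtain ⟨c1, c2, c3, -⟩ := (mem_CA h).1 hc
    have e' : ∀ u w, u * c = c * u → cn u h.r = w → cn u (c⁻¹ * h.r) = w := fun u w e1 e2 => by
      rw [← e2]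
      calc cn u (c⁻¹ * h.r) = h.r⁻¹ * (c * u) * c⁻¹ * h.r := by group
        _ = cn u h.r := by rw [← e1]; delta cn; group
    refine ⟨c⁻¹ * h.r, cj_eq_iff_mem_normalizer.1 ?_, e' _ _ c1 h.zr, e' _ _ c3 h.ar,
      e' _ _ c2 (to_cn h.rf.symm.eq)⟩
    rw [cj_mul, ← e, cj_inv_cj]
  · left
    obtain ⟨g, g1, -, g3, g4, g5⟩ := k.climb Q R hR.2.1 (h0 (subset_closure (by simp))) hlt
      (inf_C k hR.2.1 h0 hQR)
    obtain ⟨c, hc, q, hq, rfl⟩ := (mem_sup_of_le_normalizer hn).1 (hR.1 g1)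
    have hq' := le_normalizer hq
    have hc' : c ∈ normalizer (Q : Set G) := by simpa using mul_mem g3 (inv_mem hq')
    refine ⟨c, hc, hc', ?_, fun q' h' e => g5 (q' * q) (mul_mem h' hq) ?_⟩
    · have : c * c = (c * q⁻¹ * c⁻¹) * ((c * q) * (c * q)) * q⁻¹ := by group
      rw [this]
      exact mul_mem (mul_mem ((mem_normalizer_iff.1 hc' _).1 (inv_mem hq)) g4) (inv_mem hq)
    · rw [cn_mul, cn_mul, e]

/-- the model of `T₂` -/
structure M2 (h : TQ0 G) (D : Tb) : Prop where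
  ok : D.OK
  rel : RelL 11 2047 D.L (x2 h)

namespace M2

variable (M : M2 h D)
include M

theorem cm : Cm (1023 + 1) D.μ (word (x2 h)) := by
  rw [μ_eq M.ok]; exact cm_of (chk_L M.ok) M.rel (len_L D)

theorem inj : Inj (1023 + 1) (word (x2 h)) := by
  haveI : D.T.OK := ⟨M.ok.ok⟩
  have := M.ok.cen
  rw [μ_eq M.ok] at this
  refine inj_of (T := D.T) M.rel (len_L D) this ?_
  have : word (x2 h) 768 = h.f * h.z := by simp [x2, x1, word]
  rw [this]; exact fz_ne h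

theorem beq_of {a b c d : ℕ} (e : word (x2 h) a * word (x2 h) b = word (x2 h) c * word (x2 h) d) :
    Nat.beq (D.μ a b) (D.μ c d) = true := by
  rw [Nat.beq_eq]
  exact M.inj _ (M.cm.lt _ _) _ (M.cm.lt _ _) (by rw [M.cm.mul, M.cm.mul, e])

theorem of_beq {a b c d : ℕ} (e : Nat.beq (D.μ a b) (D.μ c d) = true) :
    word (x2 h) a * word (x2 h) b = word (x2 h) c * word (x2 h) d := by
  rw [← M.cm.mul, ← M.cm.mul, Nat.eq_of_beq_eq_true e]

theorem vtp : word (x2 h) tp = h.t * h.y * h.m := by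
  obtain ⟨-, e2, -, e4, -, -, e7, -⟩ := v2 h
  have := M.cm.E_eq M.ok.tpe
  simp only [E_cons, E_nil, mul_one, e2, e4, e7] at this
  rw [← this, mul_assoc]

theorem Umem {i : ℕ} (hi : i < 128) : word (x2 h) (uu i) ∈ CA h := by
  obtain ⟨-, -, -, -, -, -, e7, e8, e9, e10⟩ := v2 h
  have := allLt_iff.1 M.ok.Uc i hi
  simp only [cenB, List.all_cons, List.all_nil, Bool.and_eq_true, and_true] at this
  obtain ⟨a1, a2, a3, a4⟩ := this
  exact (mem_CA h).2 ⟨e10 ▸ (M.of_beq a1).symm, e9 ▸ (M.of_beq a2).symm, e8 ▸ (M.of_beq a3).symm,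
    e7 ▸ (M.of_beq a4).symm⟩

variable [Finite G]

theorem sub_eq : M.cm.sub = h.T2 := by
  obtain ⟨e1, e2, -, e4, e5, -, e7, e8, e9, e10⟩ := v2 h
  apply le_antisymm
  · rintro _ ⟨a, -, rfl⟩
    have m : ∀ x ∈ ({h.z, h.f, h.a, h.b, h.t, h.y, h.Y, h.m, h.n} : Set G), x ∈ h.T2 :=
      fun x hx => subset_closure hx
    have a1 := m h.m (by simp)
    have a2 := m h.n (by simp)
    have a3 := m h.t (by simp)
    have a4 := m h.y (by simp)
    refine word_mem _ ?_ _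
    simp only [x2, x1, List.forall_mem_cons, List.not_mem_nil, false_imp_iff, implies_true, and_true]
    exact ⟨a2, a1, mul_mem (mul_mem (mul_mem a1 a2) a1) a2, a3, m _ (by simp),
      mul_mem a4 (mul_mem (m _ (by simp)) a3), a4, m _ (by simp), m _ (by simp), m _ (by simp)⟩
  · refine (closure_le _).2 ?_
    rintro x (rfl | rfl | rfl | rfl | rfl | rfl | rfl | rfl | rfl)
    exacts [e10 ▸ M.cm.ev_mem _, e9 ▸ M.cm.ev_mem _, e8 ▸ M.cm.ev_mem _, e5 ▸ M.cm.ev_mem _,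
      e4 ▸ M.cm.ev_mem _, e7 ▸ M.cm.ev_mem _, v2Y h ▸ M.cm.ev_mem _, e2 ▸ M.cm.ev_mem _,
      e1 ▸ M.cm.ev_mem _]

theorem mem {g : G} : g ∈ h.T2 ↔ ∃ a < 1023 + 1, word (x2 h) a = g := by
  rw [← M.sub_eq]; rfl

theorem ev_mem (a : ℕ) : word (x2 h) a ∈ h.T2 := M.sub_eq ▸ M.cm.ev_mem a

theorem card : Nat.card h.T2 = 2 ^ 10 := by rw [← M.sub_eq, M.cm.card_sub M.inj]; norm_num

theorem two : IsPGroup 2 h.T2 := IsPGroup.of_card M.card

omit M [Finite G] in
theorem T0_le : h.T0 ≤ h.T2 := closure_mono (by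
  rintro x (rfl | rfl | rfl | rfl) <;> simp)

theorem memU {g : G} (h1 : g ∈ h.T2) (h2 : g ∈ CA h) : ∃ i < 128, word (x2 h) (uu i) = g := by
  obtain ⟨-, -, -, -, -, -, e7, e8, -, e10⟩ := v2 h
  obtain ⟨a, ha, rfl⟩ := M.mem.1 h1
  obtain ⟨c1, -, c3, c4⟩ := (mem_CA h).1 h2
  have := allLt_iff.1 M.ok.cU a ha
  have hc : cenB D.μ [128, 512, 64] a = true := by
    simp only [cenB, List.all_cons, List.all_nil, Bool.and_eq_true, and_true]
    exact ⟨M.beq_of (by rw [e8, c3]), M.beq_of (by rw [e10, c1]), M.beq_of (by rw [e7, c4])⟩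
  simp only [hc, Bool.not_true, Bool.false_or, Bool.and_eq_true, Nat.blt_eq, Nat.beq_eq] at this
  exact ⟨_, this.1, by rw [this.2]⟩

theorem T2_n : h.T2 ≤ normalizer (CA h : Set G) := by
  intro g hg
  obtain ⟨a, -, rfl⟩ := M.mem.1 hg
  refine word_mem _ (fun x hx => ?_) _
  obtain ⟨i, hi, rfl⟩ := List.getElem_of_mem hx
  obtain ⟨-, -, -, -, -, -, e7, e8, e9, e10⟩ := v2 h
  have key : ∀ j < 16, cn (word (x2 h) (64 * j)) (x2 h)[i] ∈ A0 h := fun j hj => by
    obtain ⟨l, -, e⟩ := anyLt_iff.1 (allLt_iff.1 (allLt_iff.1 M.ok.nA i hi) j hj)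
    have := M.of_beq e
    rw [word_two_pow _ _ hi] at this
    rw [to_cn this]; exact evA h l
  exact nCA h (e10 ▸ key 8 (by omega)) (e9 ▸ key 4 (by omega)) (e8 ▸ key 2 (by omega))
    (e7 ▸ key 1 (by omega))

theorem invU {u : G} (h1 : u ∈ h.T2) (h2 : u ∈ CA h) (e : h.t * u * (h.t * u) = 1) :
    ∃ v ∈ h.T2, v ∈ CA h ∧ (cn h.t v = h.t * u ∨ cn (h.t * h.y * h.m) v = h.t * u) := by
  obtain ⟨-, -, -, e4, -⟩ := v2 h
  obtain ⟨i, hi, rfl⟩ := M.memU h1 h2
  have := allLt_iff.1 M.ok.inv i hi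
  have h0 : Nat.beq (D.μ (D.μ 8 (uu i)) (D.μ 8 (uu i))) 0 = true := by
    rw [Nat.beq_eq]
    exact M.inj _ (M.cm.lt _ _) _ (by omega) (by rw [M.cm.mul, M.cm.mul, e4, e, word_zero])
  simp only [force_eq, h0, Bool.not_true, Bool.false_or, anyLt_iff, Bool.or_eq_true] at this
  obtain ⟨j, hj, a⟩ := this
  refine ⟨_, M.ev_mem (uu j), M.Umem hj, a.imp (fun a => ?_) fun a => ?_⟩
  · have := M.of_beq a
    rw [M.cm.mul, e4] at this
    exact to_cn this.symm
  · have := M.of_beq a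
    rw [M.cm.mul, e4, M.vtp] at this
    exact to_cn this.symm

theorem noU {g : G} (hg : g ∈ normalizer ((h.T2 ⊓ CA h : Subgroup G) : Set G))
    (hz : cn h.z g = h.a) : False := by
  obtain ⟨-, -, -, -, -, -, -, e8, -, e10⟩ := v2 h
  have key : ∀ i < 128, ∃ j < 128, word (x2 h) (uu j) = cn (word (x2 h) (uu i)) g := fun i hi => by
    have := (mem_normalizer_iff''.1 hg _).1 (mem_inf.2 ⟨M.ev_mem (uu i), M.Umem hi⟩)
    exact M.memU this.1 this.2
  obtain ⟨i, hi, a1⟩ := key 3 (by omega)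
  obtain ⟨j, hj, a2⟩ := key 4 (by omega)
  have e := M.cm.E_eq M.ok.zc
  simp only [E_cons, E_nil, mul_one, e10] at e
  have := allLt_iff.1 (allLt_iff.1 M.ok.na i hi) j hj
  rw [M.beq_of] at this
  · exact Bool.noConfusion this
  · rw [M.cm.mul, a1, a2, e8, ← hz]
    change cn (word (x2 h) 6) g * cn (word (x2 h) 32) g = cn (word (x2 h) 32) g *
      (cn (word (x2 h) 6) g * cn h.z g)
    calc _ = cn (word (x2 h) 6 * word (x2 h) 32) g := by delta cn; group
      _ = _ := by rw [e]; delta cn; group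

theorem nk {v : G} (hv : v ∈ h.T2) : cn h.t v ≠ h.t * h.y * h.m := by
  obtain ⟨-, -, -, e4, -⟩ := v2 h
  obtain ⟨a, ha, rfl⟩ := M.mem.1 hv
  intro e
  have := allLt_iff.1 M.ok.nk a ha
  rw [M.beq_of (by rw [e4, M.vtp]; exact of_cn e)] at this
  exact Bool.noConfusion this

end M2

/-- `t ^ c = t u` with `u ∈ Q ∩ C(A)` -/
theorem tc_mem {Q : Subgroup G} (ht : h.t ∈ Q) (hn : Q ≤ normalizer (CA h : Set G)) {c : G}
    (h1 : c ∈ CA h) (h2 : c ∈ normalizer (Q : Set G)) :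
    h.t⁻¹ * cn h.t c ∈ Q ∧ h.t⁻¹ * cn h.t c ∈ CA h ∧
      h.t * (h.t⁻¹ * cn h.t c) * (h.t * (h.t⁻¹ * cn h.t c)) = 1 := by
  refine ⟨mul_mem (inv_mem ht) ((mem_normalizer_iff''.1 h2 _).1 ht), ?_, ?_⟩
  · have := mul_mem ((mem_normalizer_iff''.1 (hn ht) _).1 (inv_mem h1)) h1
    simpa only [mul_assoc] using this
  · calc _ = cn (h.t * h.t) c := by delta cn; group
      _ = 1 := by rw [h.tt]; delta cn; group

end

theorem exists_M2 (h : TQ G) : ((h.m * h.n) ^ 4 = 1 ∧ M2 h.toTQ0 D0) ∨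
    ((h.m * h.n) ^ 4 = h.z * h.f ∧ M2 h.toTQ0 D1) := by
  refine h.mn.imp (fun e => ⟨e, ok0, rel2 ok0 (e.trans (word_zero _).symm)⟩)
    fun e => ⟨e, ok1, rel2 ok1 ?_⟩
  rw [e, ← (fz h.toTQ0).eq]
  show _ = word (x1 h.toTQ0) 96
  simp [x1, word]

theorem exists_k [Finite G] {h : TQ G} {D : Tb} (M : M2 h.toTQ0 D) (k : Kit h.toHyp) :
    ∃ k : TQR G, k.toTQ = h := by
  rcases step k M.two M2.T0_le M.T2_n with ⟨c, c1, c2, c3, c4⟩ | ⟨g, g1, g2, -⟩
  · have ht : h.t ∈ h.T2 := subset_closure (by simp)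
    obtain ⟨a1, a2, a3⟩ := tc_mem ht M.T2_n c1 c2
    obtain ⟨v, v1, v2, e | e⟩ := M.invU a1 a2 a3
    · exact absurd (by rw [e, mul_inv_cancel_left]) (c4 v v1)
    obtain ⟨b1, b2, b3, b4⟩ := (mem_CA h.toTQ0).1 (mul_mem c1 (inv_mem v2))
    refine ⟨⟨h, c * v⁻¹, b1.symm, b2.symm, b3.symm, b4.symm, mul_mem c2 (le_normalizer (inv_mem v1)),
      ?_, ?_⟩, rfl⟩
    · have : c * v⁻¹ * (c * v⁻¹) = c * v⁻¹ * c⁻¹ * (c * c) * (c⁻¹ * c) * v⁻¹ := by group
      rw [this, inv_mul_cancel, mul_one]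
      exact mul_mem (mul_mem ((mem_normalizer_iff.1 c2 _).1 (inv_mem v1)) c3) (inv_mem v1)
    · rw [cn_mul, show cn h.t c = cn (h.t * h.y * h.m) v by rw [e, mul_inv_cancel_left]]
      delta cn; group
  · exact (M.noU g1 g2).elim

theorem tq1 (hk : KitStmt.{u}) : TQ1Stmt.{u} := by
  intro G _ _ h
  rcases exists_M2 h with ⟨-, M⟩ | ⟨-, M⟩ <;> exact exists_k M (hk G h.toHyp)

end Cfsg.Agent.H55.TQ
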