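import Mathlib
import Cfsg.Agent.H55.TQ1

/-! Type `TQ`: the action of `k` on `T₂`. -/

set_option autoImplicit false

namespace Cfsg.Agent.H55.TQ

open Subgroup Cfsg.Agent.H96 Cfsg.Agent.H85 Cfsg.Agent.H93.LT

universe u

variable {G : Type u} [Group G]

structure Tb.OK3 (D : Tb) : Prop where
  g0 : ([0, 512, 128, 640].all fun g => Nat.blt (ui g) 128 && Nat.beq (uu (ui g)) g &&
    Nat.beq (64 * (g / 64)) g && eqB D.μ [g, g] [] && eqB D.μ [tp, g] [g, tp]) = true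
  p1 : eqB D.μ [256, 512] [768] = true
  q1 : eqB D.μ [256, 128] [384] = true
  p2 : eqB D.μ [128, 256, 512] [896] = true
  q2 : eqB D.μ [640, 256, 128] [768] = true
  p3 : eqB D.μ [128, 512] [640] = true
  q3 : eqB D.μ [640, 128] [512] = true

theorem ok30 : D0.OK3 := by
  constructor <;> decide +kernel

theorem ok31 : D1.OK3 := by
  constructor <;> decide +kernel

theorem uu_spec {i : ℕ} (hi : i < 128) : uu i < 1023 + 1 ∧ ui (uu i) = i ∧ (uu i).testBit 3 = false := by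
  have := allLt_iff.1 (show allLt 128 (fun i => Nat.blt (uu i) (1023 + 1) && Nat.beq (ui (uu i)) i &&
    !(uu i).testBit 3) = true by decide +kernel) i hi
  simpa only [Bool.and_eq_true, Nat.blt_eq, Nat.beq_eq, Bool.not_eq_true', and_assoc] using this

theorem A_congr {N : ℕ} {μ : ℕ → ℕ → ℕ} {ev : ℕ → G} (h : Cm N μ ev) {g : G} {l l' : List ℕ} {p : ℕ}
    (e : List.Forall₂ (A ev g) l l') (e' : eqB μ l [p] = true) : A ev g p (pw μ l') := by
  have := h.A_pw e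
  rw [A, h.ev_pw, h.E_eq e', E_cons, E_nil, mul_one] at this
  exact this

theorem x2_map (h : TQ0 G) :
    [1, 2, 4, 8, 16, 32, 64, 128, 256, 512].map (word (x2 h)) = x2 h := by
  obtain ⟨e1, e2, e3, e4, e5, e6, e7, e8, e9, e10⟩ := v2 h
  simp only [List.map_cons, List.map_nil, e1, e2, e3, e4, e5, e6, e7, e8, e9, e10]
  rfl

theorem F2_x2 {h : TQ0 G} {g : G} {im : List ℕ}
    (e : List.Forall₂ (A (word (x2 h)) g) [1, 2, 4, 8, 16, 32, 64, 128, 256, 512] im) :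
    F2 (x2 h) g (x2 h) im := by
  have := List.forall₂_map_left_iff (R := fun x c => x * g = g * word (x2 h) c)
    (f := word (x2 h)) |>.2 e
  rwa [x2_map] at this

section

variable (h : TQR G)

def T3 : Subgroup G := zpowers h.k ⊔ h.T2

theorem kCA : h.k ∈ CA h.toTQ0 :=
  (mem_CA _).2 ⟨h.kz.symm.eq, h.kf.symm.eq, h.ka.symm.eq, h.ky.symm.eq⟩

theorem mem_T3 {x : G} (hx : x ∈ T3 h) : x ∈ h.T2 ∨ h.k⁻¹ * x ∈ h.T2 := by
  obtain ⟨a, ⟨n, rfl⟩, b, hb, rfl⟩ :=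
    (mem_sup_of_le_normalizer' (zpowers_le.2 h.kN)).1 hx
  obtain ⟨j, rfl | rfl⟩ := Int.even_or_odd' n
  · left
    refine mul_mem ?_ hb
    simpa only [zpow_mul, zpow_two] using zpow_mem h.kk j
  · right
    have : h.k⁻¹ * (h.k ^ (2 * j + 1) * b) = (h.k * h.k) ^ j * b := by
      rw [← zpow_two, ← zpow_mul]; group
    exact this ▸ mul_mem (zpow_mem h.kk j) hb

theorem T2_le : h.T2 ≤ T3 h := le_sup_right

theorem k_mem : h.k ∈ T3 h := le_sup_left (a := zpowers h.k) (mem_zpowers _)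

theorem cn_k {x : G} (hx : x ∈ h.T2) : cn x h.k ∈ h.T2 := (mem_normalizer_iff''.1 h.kN _).1 hx

theorem gensX (k : Kit h.toHyp) : h.n ∈ h.X ∧ h.m ∈ h.X ∧ h.c ∈ h.X ∧ h.b ∈ h.X ∧
    h.y * (h.Y * h.t) ∈ h.X ∧ h.y ∈ h.X ∧ h.a ∈ h.X ∧ h.f ∈ h.X ∧ h.z ∈ h.X := by
  obtain ⟨a1, a2, a3⟩ := k.aX
  have hy : h.y ∈ h.X := by
    have := k.cmX h.a h.n
    rwa [show h.a⁻¹ * h.n⁻¹ * h.a * h.n = h.a⁻¹ * cn h.a h.n by delta cn; group, h.an,
      inv_mul_cancel_left] at this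
  refine ⟨h.nX, ?_, ?_, a2, ?_, hy, a1, h.zn ▸ h.Xn.conj_mem' _ a3 _, a3⟩
  · have := mul_mem (inv_mem hy) (k.cmX h.t h.k)
    rwa [show h.t⁻¹ * h.k⁻¹ * h.t * h.k = h.t⁻¹ * cn h.t h.k by delta cn; group, h.tk,
      show h.y⁻¹ * (h.t⁻¹ * (h.t * h.y * h.m)) = h.m by group] at this
  · have := k.sqX (h.m * h.n)
    rwa [← mul_assoc] at this
  · have := h.Xn.conj_mem' _ (k.cmX h.b h.m) h.t
    rwa [show h.b⁻¹ * h.m⁻¹ * h.b * h.m = h.b⁻¹ * cn h.b h.m by delta cn; group, h.bm,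
      show h.t⁻¹ * (h.b⁻¹ * (h.b * h.t * h.y * h.Y)) * h.t = h.y * (h.Y * h.t) by group] at this

theorem evX (k : Kit h.toHyp) {a : ℕ} (ha : a.testBit 3 = false) : word (x2 h.toTQ0) a ∈ h.X := by
  obtain ⟨a1, a2, a3, a4, a5, a6, a7, a8, a9⟩ := gensX h k
  refine word_mem_bit _ _ fun i hi e => ?_
  change i < 10 at hi
  interval_cases i
  exacts [a1, a2, a3, absurd (ha.symm.trans e) Bool.false_ne_true, a4, a5, a6, a7, a8, a9]

/-- the elements of `U₃` -/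
def e3 (i : ℕ) : G := (if i % 2 = 0 then 1 else h.k) * word (x2 h.toTQ0) (uu (i / 2))

variable {h} {D : Tb} [Finite G] (M : M2 h.toTQ0 D)
include M

theorem k_not : h.k ∉ h.T2 := fun e => M.nk e h.tk

theorem two3 : IsPGroup 2 (T3 h) := by
  rintro ⟨x, hx⟩
  have : x * x ∈ h.T2 := by
    rcases mem_T3 h hx with e | e
    · exact mul_mem e e
    · have : x * x = h.k * h.k * cn (h.k⁻¹ * x) h.k * (h.k⁻¹ * x) := by delta cn; group
      exact this ▸ mul_mem (mul_mem h.kk (cn_k h e)) e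
  obtain ⟨n, hn⟩ := M.two ⟨_, this⟩
  refine ⟨n + 1, Subtype.ext ?_⟩
  have := congrArg Subtype.val hn
  simpa [pow_succ', pow_mul, pow_two] using this

theorem T3_n : T3 h ≤ normalizer (CA h.toTQ0 : Set G) :=
  sup_le (zpowers_le.2 (le_normalizer (kCA h))) M.T2_n

theorem e3_mem {i : ℕ} (hi : i < 256) : e3 h i ∈ T3 h ⊓ CA h.toTQ0 := by
  refine mul_mem ?_ ⟨T2_le h (M.ev_mem _), M.Umem (by omega)⟩
  split_ifs
  exacts [one_mem _, ⟨k_mem h, kCA h⟩]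

theorem mem_e3 {x : G} (hx : x ∈ T3 h ⊓ CA h.toTQ0) : ∃ i < 256, e3 h i = x := by
  rcases mem_T3 h hx.1 with e | e
  · obtain ⟨i, hi, rfl⟩ := M.memU e hx.2
    exact ⟨2 * i, by omega, by rw [e3, if_pos (by omega), one_mul, show 2 * i / 2 = i by omega]⟩
  · obtain ⟨i, hi, e'⟩ := M.memU e (mul_mem (inv_mem (kCA h)) hx.2)
    exact ⟨2 * i + 1, by omega, by
      rw [e3, if_neg (by omega), show (2 * i + 1) / 2 = i by omega, e', mul_inv_cancel_left]⟩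

theorem e3_inj : Inj 256 (e3 h) := by
  intro i hi j hj e
  have key : word (x2 h.toTQ0) (uu (i / 2)) = word (x2 h.toTQ0) (uu (j / 2)) → i / 2 = j / 2 :=
    fun e => by
      obtain ⟨a1, a2, -⟩ := uu_spec (show i / 2 < 128 by omega)
      obtain ⟨b1, b2, -⟩ := uu_spec (show j / 2 < 128 by omega)
      rw [← a2, M.inj _ a1 _ b1 e, b2]
  unfold e3 at e
  split_ifs at e with h1 h2 h2
  · have := key (mul_left_cancel e); omega
  · rw [one_mul, ← mul_inv_eq_iff_eq_mul] at e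
    exact absurd (e ▸ mul_mem (M.ev_mem _) (inv_mem (M.ev_mem _))) (k_not M)
  · rw [one_mul, eq_comm, ← mul_inv_eq_iff_eq_mul] at e
    exact absurd (e ▸ mul_mem (M.ev_mem _) (inv_mem (M.ev_mem _))) (k_not M)
  · have := key (mul_left_cancel e); omega

omit [Finite G] in
theorem sq3_spec {im : List ℕ} {w : ℕ} (hF : F2 (x2 h.toTQ0) h.k (x2 h.toTQ0) im)
    (hw : word (x2 h.toTQ0) w = h.k * h.k) (i : ℕ) :
    sq3 D.μ im w i < 1023 + 1 ∧ word (x2 h.toTQ0) (sq3 D.μ im w i) = e3 h i * e3 h i := by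
  have e : sq3 D.μ im w i = force (uu (i >>> 1)) fun u => iteB (Nat.beq (i &&& 1) 0) (D.μ u u)
      (pw D.μ [w, wordN D.μ im u, u]) := rfl
  rw [e]
  simp only [force_eq, iteB_eq, Nat.and_one_is_mod, Nat.shiftRight_one, Nat.beq_eq, e3]
  split_ifs
  · exact ⟨M.cm.lt _ _, by rw [M.cm.mul, one_mul]⟩
  · refine ⟨M.cm.pw_lt _, ?_⟩
    have := hF.act M.cm (uu (i / 2))
    rw [M.cm.ev_pw, E_cons, E_cons, E_cons, E_nil, mul_one, hw, mul_assoc h.k (word _ _),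
      ← mul_assoc (word _ (uu (i / 2))), this]
    simp only [mul_assoc]

theorem ineq_of {im : List ℕ} {w : ℕ} (hF : F2 (x2 h.toTQ0) h.k (x2 h.toTQ0) im)
    (hw : word (x2 h.toTQ0) w = h.k * h.k) {g : G}
    (hg : g ∈ normalizer ((T3 h ⊓ CA h.toTQ0 : Subgroup G) : Set G)) {l l' : List ℕ} {p q : ℕ}
    (e : List.Forall₂ (A (word (x2 h.toTQ0)) g) l l') (e1 : eqB D.μ l [p] = true)
    (e2 : eqB D.μ l' [q] = true) (hq : q < 1023 + 1) : ineq D.μ im w p q = true := by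
  refine Nat.ble_eq ▸ cnt_le (e3_inj M) (g := g) (fun i hi => ?_) (p := word (x2 h.toTQ0) p)
    (q := word (x2 h.toTQ0) q) (fun i _ e => ?_) (fun j _ e => ?_) ?_
  · obtain ⟨j, hj, e⟩ := mem_e3 M ((mem_normalizer_iff''.1 hg _).1 (e3_mem M hi))
    exact ⟨j, hj, by rw [e]; group⟩
  · rw [← (sq3_spec M hF hw i).2, Nat.eq_of_beq_eq_true e]
  · rw [Nat.beq_eq]
    exact M.inj _ (sq3_spec M hF hw j).1 _ hq ((sq3_spec M hF hw j).2.trans e)
  · have := A_congr M.cm e e1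
    rwa [A, M.cm.ev_pw, M.cm.E_eq e2, E_cons, E_nil, mul_one] at this

theorem exA (p : ℕ) : ∃ i < 128, A (word (x2 h.toTQ0)) h.k p (D.μ p (uu i)) := by
  have h1 := M.ev_mem p
  obtain ⟨i, hi, e⟩ := M.memU (mul_mem (inv_mem h1) (cn_k h h1)) (by
    have := mul_mem ((mem_normalizer_iff''.1 (M.T2_n h1) _).1 (inv_mem (kCA h))) (kCA h)
    simpa only [mul_assoc] using this)
  exact ⟨i, hi, by rw [A, M.cm.mul, e]; delta cn; group⟩

/-- the enumeration -/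
theorem enum (H : D.OK2) : ∃ (im : List ℕ) (b n m Y w : ℕ),
    F2 (x2 h.toTQ0) h.k (x2 h.toTQ0) im ∧ word (x2 h.toTQ0) w = h.k * h.k ∧
    A (word (x2 h.toTQ0)) h.k 16 b ∧ A (word (x2 h.toTQ0)) h.k 1 n ∧
    A (word (x2 h.toTQ0)) h.k 2 m ∧ A (word (x2 h.toTQ0)) h.k 872 Y ∧
    allLt 128 (fun i => force (uu i) fun u => !eqB D.μ [8, w, wordN D.μ im u, tp, u] []) = true ∧
    (nfB D b n m Y w || !ineq D.μ im w 768 384 || !ineq D.μ im w 896 768 ||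
      !ineq D.μ im w 640 512) = true := by
  obtain ⟨-, e2, -, e4, -, -, e7, e8, e9, e10⟩ := v2 h.toTQ0
  obtain ⟨i, hi, hb⟩ := exA M 16
  obtain ⟨j, hj, hn⟩ := exA M 1
  obtain ⟨l, hl, hm⟩ := M.memU (cn_k h (M.ev_mem 2)) (mul_mem (mul_mem (inv_mem (kCA h))
    (M.Umem (i := 1) (by omega))) (kCA h))
  replace hm : A (word (x2 h.toTQ0)) h.k 2 (uu l) := of_cn hm.symm
  obtain ⟨q, hq, hw⟩ := M.memU h.kk (mul_mem (kCA h) (kCA h))
  have ht : A (word (x2 h.toTQ0)) h.k 8 tp := by rw [A, e4, M.vtp]; exact of_cn h.tk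
  have hy : A (word (x2 h.toTQ0)) h.k 64 64 := by rw [A, e7]; exact h.ky.symm.eq
  have f0 : List.Forall₂ (A (word (x2 h.toTQ0)) h.k) [64, 128, 256, 512] [64, 128, 256, 512] :=
    .cons hy (.cons (by rw [A, e8]; exact h.ka.symm.eq) (.cons (by rw [A, e9]; exact h.kf.symm.eq)
      (.cons (by rw [A, e10]; exact h.kz.symm.eq) .nil)))
  have f1 := List.Forall₂.cons hb (.cons ht f0)
  have f2 := List.Forall₂.cons hn f1
  have f3 := List.Forall₂.cons hm f2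
  have hc := A_congr M.cm (.cons hm (.cons hn (.cons hm (.cons hn .nil)))) H.cc
  have hY := A_congr M.cm (.cons hc (.cons hc (.cons hc (.cons ht (.cons hc .nil))))) M.ok.Yc
  have hs := A_congr M.cm (.cons hy (.cons hY (.cons ht .nil))) H.ss
  have f5 := List.Forall₂.cons hY (.cons hc f3)
  have fa := List.Forall₂.cons hn (.cons hm (.cons hc (.cons ht (.cons hb (.cons hs f0)))))
  have hF := F2_x2 fa
  have a1 := allLt_iff.1 H.main i hi
  rw [force_eq, M.cm.rels_A M.inj f1 H.s1, Bool.not_true, Bool.false_or] at a1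
  have a2 := allLt_iff.1 a1 j hj
  rw [force_eq, M.cm.rels_A M.inj f2 H.s2, Bool.not_true, Bool.false_or] at a2
  have a3 := allLt_iff.1 a2 l hl
  rw [force_eq, M.cm.rels_A M.inj f3 H.s3, Bool.not_true, Bool.false_or, force_eq, force_eq,
    M.cm.rels_A M.inj f5 H.s5, Bool.not_true, Bool.false_or, force_eq] at a3
  have a4 := allLt_iff.1 a3 q hq
  rw [force_eq, finB, Bool.or_eq_true, Bool.not_eq_true', Bool.and_eq_true] at a4
  refine ⟨_, _, _, _, _, _, hF, hw, hb, hn, hm, hY, a4.resolve_left ?_⟩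
  rw [Bool.not_eq_false, Bool.and_eq_true, Nat.beq_eq, List.all_eq_true]
  refine ⟨M.inj _ (M.cm.wordN_lt _ _) _ (uu_spec hq).1 (mul_left_cancel (a := h.k) ?_),
    fun x _ => M.cm.eqB_of M.inj ?_⟩
  · rw [← hF.act M.cm, hw, mul_assoc]
  · simp only [E_cons, E_nil, mul_one, hw]
    rw [← mul_assoc, hF.act M.cm, mul_assoc, hF.act M.cm, mul_assoc]

theorem exists_g (k : Kit h.toHyp) {im : List ℕ} {w : ℕ} (hF : F2 (x2 h.toTQ0) h.k (x2 h.toTQ0) im)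
    (hw : word (x2 h.toTQ0) w = h.k * h.k)
    (hi : allLt 128 (fun i => force (uu i) fun u =>
      !eqB D.μ [8, w, wordN D.μ im u, tp, u] []) = true) :
    ∃ g ∈ normalizer ((T3 h ⊓ CA h.toTQ0 : Subgroup G) : Set G), cn h.z g = h.a ∧
      cn h.a g = h.a * h.z ∧ cn h.f g = h.f := by
  refine (step k (two3 M) (M2.T0_le.trans (T2_le h)) (T3_n M)).resolve_left ?_
  rintro ⟨c, c1, c2, -, c4⟩
  have ht : h.t ∈ T3 h := T2_le h (subset_closure (by simp))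
  obtain ⟨a1, a2, a3⟩ := tc_mem ht (T3_n M) c1 c2
  rcases mem_T3 h a1 with e | e
  · obtain ⟨v, v1, -, e | e⟩ := M.invU e a2 a3
    · exact c4 v (T2_le h v1) (by rw [e, mul_inv_cancel_left])
    · exact c4 (h.k * v) (mul_mem (k_mem h) (T2_le h v1))
        (by rw [cn_mul, h.tk, e, mul_inv_cancel_left])
  · obtain ⟨i, hi', e'⟩ := M.memU e (mul_mem (inv_mem (kCA h)) a2)
    rw [← mul_inv_cancel_left h.k (h.t⁻¹ * cn h.t c), ← e'] at a3
    have := allLt_iff.1 hi i hi'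
    rw [force_eq, M.cm.eqB_of M.inj] at this
    · exact Bool.noConfusion this
    · simp only [E_cons, E_nil, mul_one, hw, (v2 h.toTQ0).2.2.2.1, M.vtp]
      rw [← a3, ← h.tk, ← to_cn (hF.act M.cm (uu i))]
      delta cn; group

theorem main2 (H : D.OK2) (H3 : D.OK3) (k : Kit h.toHyp) : ∃ r ∈ D.nf, ∃ l : TQR G,
    l.toTQ = h.toTQ ∧ l.k ∈ h.X ∧ cn h.b l.k = E (word (x2 h.toTQ0)) r.1 ∧
    cn h.n l.k = E (word (x2 h.toTQ0)) r.2.1 ∧ cn h.m l.k = E (word (x2 h.toTQ0)) r.2.2.1 ∧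
    cn h.Y l.k = E (word (x2 h.toTQ0)) r.2.2.2.1 ∧ l.k * l.k = E (word (x2 h.toTQ0)) r.2.2.2.2 := by
  obtain ⟨e1, e2, -, -, e5, -, -, e8, e9, e10⟩ := v2 h.toTQ0
  obtain ⟨im, b, n, m, Y, w, hF, hw, hb, hn, hm, hY, a1, a2⟩ := enum M H
  obtain ⟨g, g1, g2, g3, g4⟩ := exists_g M k hF hw a1
  have b1 : A (word (x2 h.toTQ0)) g 512 128 := by rw [A, e10, e8]; exact of_cn g2
  have b2 : A (word (x2 h.toTQ0)) g 128 640 := by
    have := M.cm.E_eq H3.p3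
    simp only [E_cons, E_nil, mul_one, e8, e10] at this
    rw [A, e8, ← this]; exact of_cn g3
  have b3 : A (word (x2 h.toTQ0)) g 256 256 := by rw [A, e9]; exact of_cn g4
  rw [ineq_of M hF hw g1 (.cons b3 (.cons b1 .nil)) H3.p1 H3.q1 (by omega),
    ineq_of M hF hw g1 (.cons b2 (.cons b3 (.cons b1 .nil))) H3.p2 H3.q2 (by omega),
    ineq_of M hF hw g1 (.cons b2 (.cons b1 .nil)) H3.p3 H3.q3 (by omega)] at a2
  simp only [Bool.not_true, Bool.or_false, nfB, List.any_eq_true, Bool.and_eq_true] at a2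
  obtain ⟨v, hv, r, hr, ⟨⟨⟨r1, r2⟩, r3⟩, r4⟩, r5⟩ := a2
  have := List.all_eq_true.1 H3.g0 v hv
  simp only [Bool.and_eq_true, Nat.blt_eq, Nat.beq_eq] at this
  obtain ⟨⟨⟨⟨s1, s2⟩, s3⟩, s4⟩, s5⟩ := this
  have v1 : word (x2 h.toTQ0) v ∈ CA h.toTQ0 := s2 ▸ M.Umem s1
  have v2 : word (x2 h.toTQ0) v ∈ h.X := s2 ▸ evX h k (uu_spec s1).2.2
  have v3 := CA_comm _ (kCA h) (s3 ▸ evA h.toTQ0 (v / 64) : word (x2 h.toTQ0) v ∈ A0 h.toTQ0)
  have v4 := M.cm.E_eq s4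
  have v5 := M.cm.E_eq s5
  simp only [E_cons, E_nil, mul_one, M.vtp] at v4 v5
  have kX : h.k ∈ h.X := by
    by_contra hk
    have : h.T2 ⊓ CA h.toTQ0 = (T3 h ⊓ CA h.toTQ0) ⊓ h.X := by
      apply le_antisymm
      · rintro x ⟨x1, x2⟩
        obtain ⟨i, hi, rfl⟩ := M.memU x1 x2
        exact ⟨⟨T2_le h x1, x2⟩, evX h k (uu_spec hi).2.2⟩
      · rintro x ⟨⟨x1, x2⟩, x3⟩
        refine ⟨(mem_T3 h x1).resolve_right fun e => hk ?_, x2⟩
        obtain ⟨i, hi, e'⟩ := M.memU e (mul_mem (inv_mem (kCA h)) x2)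
        have := h.X.mul_mem x3 (h.X.inv_mem (e' ▸ evX h k (uu_spec hi).2.2 : h.k⁻¹ * x ∈ h.X))
        simpa using this
    refine M.noU ?_ g2
    rw [this]
    haveI := h.Xn
    exact le_normalizer_inf (zpowers_le.2 g1) (by rw [normalizer_eq_top]; exact le_top)
      (mem_zpowers g)
  have kk : h.k * word (x2 h.toTQ0) v * (h.k * word (x2 h.toTQ0) v) = h.k * h.k := by
    rw [mul_assoc, ← mul_assoc (word _ v), v3, mul_assoc, v4, mul_one]
  have key : ∀ {p p' : ℕ} {l : List ℕ}, A (word (x2 h.toTQ0)) h.k p p' →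
      eqB D.μ [p', v] (v :: l) = true → cn (word (x2 h.toTQ0) p) (h.k * word (x2 h.toTQ0) v) =
        E (word (x2 h.toTQ0)) l := fun a e => by
    have := M.cm.E_eq e
    simp only [E_cons, E_nil, mul_one] at this
    rw [cn_mul, to_cn a, to_cn this]
  obtain ⟨c1, c2, c3, c4⟩ := (mem_CA h.toTQ0).1 (mul_mem (kCA h) v1)
  refine ⟨r, hr, ⟨h.toTQ, h.k * word (x2 h.toTQ0) v, c1.symm, c2.symm, c3.symm, c4.symm,
    mul_mem h.kN (le_normalizer (M.ev_mem v)), kk ▸ h.kk, by rw [cn_mul, h.tk, to_cn v5]⟩, rfl,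
    mul_mem kX v2, e5 ▸ key hb r1, e1 ▸ key hn r2, e2 ▸ key hm r3, v2Y h.toTQ0 ▸ key hY r4, ?_⟩
  have := M.cm.E_eq r5
  rw [E_cons, E_nil, mul_one, hw] at this
  exact kk.trans this

end

theorem tq2 (hk : KitStmt.{u}) : TQ2Stmt.{u} := by
  intro G _ _ h
  obtain ⟨e1, e2, e3, e4, e5, -, e7, e8, e9, e10⟩ := v2 h.toTQ0
  have eY := v2Y h.toTQ0
  rcases exists_M2 h.toTQ with ⟨s, M⟩ | ⟨s, M⟩
  · obtain ⟨r, hr, l, e, a0, a⟩ := main2 M ok20 ok30 (hk G h.toHyp)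
    change r ∈ [([128, 16, 8, 64, 872, 4], [1], [128, 2], [512, 872, 2], [64]),
      ([128, 16, 8, 64, 872, 4], [1], [256, 128, 2], [512, 872, 2], [])] at hr
    obtain ⟨l, k, k1, k2, k3, k4, k5, k6, k7⟩ := l
    obtain rfl : l = h.toTQ := e
    simp only [List.mem_cons, List.not_mem_nil, or_false] at hr
    rcases hr with rfl | rfl <;>
      simp only [E_cons, E_nil, mul_one, e1, e2, e3, e4, e5, e7, e8, e9, e10, eY, ← mul_assoc] at a <;>
      obtain ⟨a1, a2, a3, a4, a5⟩ := a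
    · exact ⟨⟨⟨h.toTQ, k, k1, k2, k3, k4, k5, k6, k7⟩, a0,
        Or.inl ⟨s, a1, a4, a2, Or.inl ⟨a3, a5⟩⟩⟩, rfl⟩
    · exact ⟨⟨⟨h.toTQ, k, k1, k2, k3, k4, k5, k6, k7⟩, a0,
        Or.inl ⟨s, a1, a4, a2, Or.inr ⟨a3, a5⟩⟩⟩, rfl⟩
  · obtain ⟨r, hr, l, e, a0, a⟩ := main2 M ok21 ok31 (hk G h.toHyp)
    change r ∈ [([256, 128, 16, 4], [128, 8, 872, 4, 1], [128, 2], [872, 2], [512, 256, 128, 64]),
      ([256, 128, 16, 4], [128, 8, 872, 4, 1], [256, 128, 2], [872, 2], [256, 128])] at hr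
    obtain ⟨l, k, k1, k2, k3, k4, k5, k6, k7⟩ := l
    obtain rfl : l = h.toTQ := e
    simp only [List.mem_cons, List.not_mem_nil, or_false] at hr
    rcases hr with rfl | rfl <;>
      simp only [E_cons, E_nil, mul_one, e1, e2, e3, e4, e5, e7, e8, e9, e10, eY, ← mul_assoc] at a <;>
      obtain ⟨a1, a2, a3, a4, a5⟩ := a
    · exact ⟨⟨⟨h.toTQ, k, k1, k2, k3, k4, k5, k6, k7⟩, a0,
        Or.inr ⟨s, a1, a4, a2, Or.inl ⟨a3, a5⟩⟩⟩, rfl⟩
    · exact ⟨⟨⟨h.toTQ, k, k1, k2, k3, k4, k5, k6, k7⟩, a0,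
        Or.inr ⟨s, a1, a4, a2, Or.inr ⟨a3, a5⟩⟩⟩, rfl⟩

end Cfsg.Agent.H55.TQ
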